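import Cfsg.Statements.S0148
import Cfsg.Agent.Lib.Helper4Char4
import Cfsg.Agent.Lib.Helper32Ind

set_option autoImplicit false
open Cfsg

namespace Cfsg.Agent.S0148

/-- Inducing a character of a subgroup yields a character of the whole group. -/
theorem result {G : Type*} [Group G] [Fintype G] (H : Subgroup G) (θ : H → ℂ) (hθ : Cfsg.IsCharacter H θ) : Cfsg.IsCharacter G (Cfsg.indFun H θ) := by
  classical
  apply Cfsg.Agent.Lib.Helper4Char4.isCharacter_of_classInner_nat
    (Cfsg.Agent.Lib.Helper19Ind.indFun_isClassFunction H θ)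
  intro χ
  rw [Cfsg.Agent.Lib.Helper32Ind.frobenius H θ χ
    (Cfsg.Agent.Lib.Helper4Char.IsIrrCharacter.isClassFunction χ.2)]
  exact Cfsg.Agent.Lib.Helper4Char4.IsCharacter.classInner_nat hθ
    (Cfsg.Agent.Lib.Helper4Char4.IsCharacter.restrict H
      (Cfsg.Agent.Lib.Helper4Char.IsIrrCharacter.isCharacter χ.2))

end Cfsg.Agent.S0148
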