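import Cfsg.Statements.S0031
import Cfsg.Agent.Lib.Helper1Basic

set_option autoImplicit false
open Cfsg

namespace Cfsg.Agent.S0031

open Cfsg.Agent.Lib.Helper1Basic

/-- A fixed-point-free automorphism of a finite group maps some Sylow p-subgroup to itself. -/
theorem result {G : Type*} [Group G] [Finite G] (φ : G ≃* G)
    (hφ : MonoidHom.FixedPointFree (φ : G →* G)) (p : ℕ) [Fact p.Prime] :
    ∃ P : Sylow p G, (P : Subgroup G).map (φ : G →* G) = P := by
  obtain ⟨P₀⟩ : Nonempty (Sylow p G) := inferInstance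
  obtain ⟨g, hg⟩ := MulAction.exists_smul_eq G P₀ ((φ : MulAut G) • P₀)
  have hg' : ∀ w ∈ P₀, g⁻¹ * φ w * g ∈ P₀ := by
    intro w hw
    have h1 : φ w ∈ ((φ : MulAut G) • P₀ : Sylow p G) := by
      change φ w ∈ (((φ : MulAut G) • P₀ : Sylow p G) : Subgroup G)
      rw [Sylow.pointwise_smul_def]
      exact Subgroup.smul_mem_pointwise_smul w (φ : MulAut G) _ hw
    rw [← hg] at h1
    change φ w ∈ ((g • P₀ : Sylow p G) : Subgroup G) at h1
    rwa [Sylow.coe_subgroup_smul, mem_conj_smul] at h1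
  obtain ⟨y, hy⟩ := hφ.commutatorMap_surjective g⁻¹
  rw [MonoidHom.commutatorMap_apply] at hy
  have hy' : φ y = g * y := by
    have h2 : y / φ y = g⁻¹ := hy
    rw [div_eq_iff_eq_mul] at h2
    calc φ y = g * (g⁻¹ * φ y) := by group
      _ = g * y := by rw [← h2]
  refine ⟨y⁻¹ • P₀, ?_⟩
  rw [Sylow.coe_subgroup_smul]
  apply Subgroup.eq_of_le_of_card_ge
  · rintro _ ⟨z, hz, rfl⟩
    rw [SetLike.mem_coe, mem_conj_smul] at hz
    rw [mem_conj_smul]
    have h3 := hg' _ hz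
    have e : y⁻¹⁻¹ * (φ : G →* G) z * y⁻¹ = g⁻¹ * φ (y⁻¹⁻¹ * z * y⁻¹) * g := by
      simp only [map_mul, map_inv, hy', inv_inv, MonoidHom.coe_coe]
      group
    rw [e]; exact h3
  · rw [Subgroup.card_map_of_injective (f := (φ : G →* G)) φ.injective]

end Cfsg.Agent.S0031
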