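import Cfsg.Statements.S0039
import Cfsg.Agent.Lib.Helper1Basic

set_option autoImplicit false
open Cfsg

namespace Cfsg.Agent.S0039

open Subgroup Pointwise Cfsg.Agent.Lib.Helper1Basic

/-- In a finite group that is a semidirect product of a normal subgroup K by a nontrivial subgroup H, H is a Frobenius complement exactly when each nonidentity element of H acts without nonidentity fixed points on K by conjugation. -/
theorem result {G : Type*} [Group G] [Finite G] (K H : Subgroup G) [K.Normal]
    (hc : Subgroup.IsComplement' K H) (hK : K ≠ ⊥) (hH : H ≠ ⊥) :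
    Cfsg.IsFrobeniusComplement H ↔ ∀ h ∈ H, h ≠ 1 → K ⊓ Subgroup.centralizer {h} = ⊥ := by
  constructor
  · rintro ⟨-, -, hF⟩ h hh h1
    rw [eq_bot_iff]
    intro k hk
    rw [mem_bot]
    by_contra hk1
    have hkK : k ∈ K := hk.1
    have hkc : h * k = k * h := (mem_centralizer_singleton_iff.mp (show k ∈ centralizer {h} from hk.2)).symm
    have hkH : k ∉ H := by
      intro hkH
      have : k ∈ K ⊓ H := ⟨hkK, hkH⟩
      rw [hc.disjoint.eq_bot, mem_bot] at this
      exact hk1 this
    have h2 : h ∈ H ⊓ MulAut.conj k • H := by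
      refine ⟨hh, ?_⟩
      change h ∈ MulAut.conj k • H
      rw [mem_conj_smul, mul_assoc, hkc, inv_mul_cancel_left]
      exact hh
    rw [hF k hkH, mem_bot] at h2
    exact h1 h2
  · intro hfpf
    refine ⟨hH, ?_, ?_⟩
    · rintro rfl
      apply hK
      have := hc.disjoint.eq_bot
      rwa [inf_top_eq] at this
    · intro g hg
      rw [eq_bot_iff]
      intro x hx
      rw [mem_bot]
      by_contra hx1
      have hxH : x ∈ H := hx.1
      have hx2 : x ∈ MulAut.conj g • H := hx.2
      rw [mem_conj_smul] at hx2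
      have hg' : g ∈ (K : Set G) * (H : Set G) := by rw [hc.mul_eq]; trivial
      obtain ⟨k, hk, h₀, hh₀, rfl⟩ := hg'
      simp only at hg hx2
      have hk1 : k ≠ 1 := by
        rintro rfl
        rw [one_mul] at hg
        exact hg hh₀
      have hy : k⁻¹ * x * k ∈ H := by
        have := H.mul_mem (H.mul_mem hh₀ hx2) (H.inv_mem hh₀)
        have e : h₀ * ((k * h₀)⁻¹ * x * (k * h₀)) * h₀⁻¹ = k⁻¹ * x * k := by group
        rwa [e] at this
      have h3 : x⁻¹ * (k⁻¹ * x * k) ∈ K ⊓ H := by
        refine ⟨?_, H.mul_mem (H.inv_mem hxH) hy⟩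
        have e : x⁻¹ * (k⁻¹ * x * k) = (x⁻¹ * k⁻¹ * x⁻¹⁻¹) * k := by group
        rw [e]
        exact K.mul_mem (‹K.Normal›.conj_mem _ (K.inv_mem hk) _) hk
      rw [hc.disjoint.eq_bot, mem_bot, inv_mul_eq_one] at h3
      have h4 : k ∈ K ⊓ centralizer {x} := by
        refine ⟨hk, ?_⟩
        change k ∈ centralizer {x}
        rw [mem_centralizer_singleton_iff, eq_comm]
        calc x * k = k * (k⁻¹ * x * k) := by group
          _ = k * x := by rw [← h3]
      rw [hfpf x hxH hx1, mem_bot] at h4
      exact hk1 h4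

end Cfsg.Agent.S0039
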