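import Cfsg.Statements.S0042
import Cfsg.Agent.Lib.Helper24Fpf
import Cfsg.Agent.S0035
import Cfsg.Agent.S0039

set_option autoImplicit false
open Cfsg

namespace Cfsg.Agent.S0042

open Cfsg.Agent.Lib.Helper24Fpf

theorem nilpotent_of_conj_fpf {G : Type*} [Group G] (Q : Subgroup G) [Finite Q] (z : G)
    (hz : ∀ q ∈ Q, z * q * z⁻¹ ∈ Q) (r : ℕ) (hr : r.Prime) (hzr : orderOf z = r)
    (hfpf : Q ⊓ Subgroup.centralizer {z} = ⊥) : Group.IsNilpotent Q := by
  let φ : Q →* Q :=
    { toFun := fun q => ⟨z * q * z⁻¹, hz q q.2⟩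
      map_one' := Subtype.ext (by simp)
      map_mul' := fun q q' => Subtype.ext (by simp) }
  have hit : ∀ (n : ℕ) (q : Q), ((φ^[n] q : Q) : G) = z ^ n * q * (z ^ n)⁻¹ := by
    intro n
    induction n with
    | zero => intro q; simp
    | succ n ih =>
      intro q
      rw [Function.iterate_succ_apply']
      show z * ((φ^[n] q : Q) : G) * z⁻¹ = _
      rw [ih, pow_succ']
      group
  apply nilpotent_of_fp hr φ
  refine ⟨fun q hq => ?_, fun q => ?_⟩
  · have h1 : z * (q : G) * z⁻¹ = q := congrArg Subtype.val hq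
    have h2 : (q : G) ∈ Q ⊓ Subgroup.centralizer {z} := by
      refine Subgroup.mem_inf.mpr ⟨q.2, ?_⟩
      rw [Subgroup.mem_centralizer_singleton_iff]
      calc (q : G) * z = (z * q * z⁻¹) * z := by rw [h1]
        _ = z * q := by group
    rw [hfpf, Subgroup.mem_bot] at h2
    exact Subtype.ext h2
  · apply Subtype.ext
    rw [hit, ← hzr, pow_orderOf_eq_one]
    simp

/-- In a finite Frobenius group, the Frobenius kernel is (the carrier of) a normal subgroup which is nilpotent. -/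
theorem result {G : Type*} [Group G] [Finite G] (H : Subgroup G) (hH : Cfsg.IsFrobeniusComplement H) :
    ∃ N : Subgroup G, (N : Set G) = Cfsg.frobeniusKernel H ∧ N.Normal ∧ Group.IsNilpotent N := by
  obtain ⟨N, hN, hNn, hc⟩ := Cfsg.Agent.S0035.result H hH
  refine ⟨N, hN, hNn, ?_⟩
  have hNne : N ≠ ⊥ := by
    rintro rfl
    apply hH.2.1
    have := hc.sup_eq_top
    rwa [bot_sup_eq] at this
  have hf := (Cfsg.Agent.S0039.result N H hc hNne hH.1).mp hH
  obtain ⟨k, hkH, hk1⟩ : ∃ k : G, k ∈ H ∧ k ≠ 1 := by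
    obtain ⟨k, hk⟩ := Subgroup.ne_bot_iff_exists_ne_one.mp hH.1
    exact ⟨k, k.2, fun h => hk (Subtype.ext h)⟩
  have hord : orderOf (k : G) ≠ 1 := by rwa [Ne, orderOf_eq_one_iff]
  obtain ⟨r, hr, hrd⟩ := Nat.exists_prime_and_dvd hord
  have hzr : orderOf ((k : G) ^ (orderOf (k : G) / r)) = r :=
    orderOf_pow_orderOf_div (orderOf_pos (k : G)).ne' hrd
  have hzH : (k : G) ^ (orderOf (k : G) / r) ∈ H := H.pow_mem hkH _
  generalize (k : G) ^ (orderOf (k : G) / r) = z at hzr hzH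
  have hz1 : z ≠ 1 := by
    rintro rfl
    rw [orderOf_one] at hzr
    exact hr.one_lt.ne hzr
  exact nilpotent_of_conj_fpf N z (fun q hq => hNn.conj_mem q hq z) r hr hzr (hf z hzH hz1)

end Cfsg.Agent.S0042
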