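import Cfsg.Statements.S0044
import Mathlib

set_option autoImplicit false
open Cfsg

namespace Cfsg.Agent.S0044

open Subgroup

theorem fitting_normal {G : Type*} [Group G] : (Cfsg.fittingSubgroup G).Normal := by
  unfold Cfsg.fittingSubgroup
  rw [sSup_eq_iSup']
  have : ∀ N : {N : Subgroup G | N.Normal ∧ Group.IsNilpotent N}, (N : Subgroup G).Normal :=
    fun N => N.2.1
  infer_instance

/-- In a finite solvable group, the centraliser of the Fitting subgroup is contained in the Fitting subgroup. -/
theorem result {G : Type*} [Group G] [Finite G] [Group.IsSolvable G] :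
    Subgroup.centralizer (Cfsg.fittingSubgroup G : Set G) ≤ Cfsg.fittingSubgroup G := by
  set F := Cfsg.fittingSubgroup G with hF
  have hFn : F.Normal := fitting_normal
  set C := Subgroup.centralizer (F : Set G) with hC
  have hCn : C.Normal := inferInstance
  obtain ⟨n, hn⟩ := (Group.isSolvable_def G).mp inferInstance
  have key : ∀ d j, j + d = n → ∀ A : Subgroup G, A.Normal → A ≤ C → A ≤ derivedSeries G j → A ≤ F := by
    intro d
    induction d with
    | zero =>
      intro j hj A _ _ hA
      rw [add_zero] at hj
      rw [hj, hn] at hA
      exact hA.trans bot_le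
    | succ d ih =>
      intro j hj A hAn hAC hA
      have h1 : ⁅A, A⁆ ≤ F := by
        apply ih (j + 1) (by omega) ⁅A, A⁆ inferInstance
        · exact (commutator_le_left A A).trans hAC
        · rw [derivedSeries_succ]
          exact commutator_mono hA hA
      have h2 : ⁅⁅A, A⁆, A⁆ = ⊥ := by
        rw [commutator_eq_bot_iff_le_centralizer]
        refine h1.trans ?_
        rw [le_centralizer_iff]
        exact hAC
      have h3 : Group.IsNilpotent A := by
        rw [isNilpotent_iff_lowerCentralSeries]
        exact ⟨2, h2⟩
      exact le_sSup ⟨hAn, h3⟩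
  exact key n 0 (by omega) C hCn le_rfl (by rw [derivedSeries_zero]; exact le_top)

end Cfsg.Agent.S0044
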