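import Cfsg.Statements.S0100
import Cfsg.Agent.Lib.Helper3Chain
import Cfsg.Agent.Lib.Helper3Alperin

set_option autoImplicit false
open Cfsg

namespace Cfsg.Agent.S0100

/-- For odd p, a p-group without normal elementary abelian subgroups of order p^3 has p-rank at most 2. -/
theorem result {P : Type*} [Group P] [Finite P] {p : ℕ} [Fact p.Prime] (hp : p ≠ 2) (hP : IsPGroup p P) (h : ∀ A : Subgroup P, A.Normal → IsMulCommutative A → (∀ a ∈ A, a ^ p = 1) → Nat.card A ≠ p ^ 3) (E : Subgroup P) (hE : IsMulCommutative E) (hEe : ∀ e ∈ E, e ^ p = 1) : Nat.card E ≤ p ^ 2 := by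
  have hpp := (Fact.out : p.Prime)
  -- a maximal normal elementary abelian subgroup
  let S : Set (Subgroup P) := {A | A.Normal ∧ (∀ a ∈ A, ∀ b ∈ A, a * b = b * a) ∧ ∀ a ∈ A, a ^ p = 1}
  have hSne : S.Nonempty := ⟨⊥, inferInstance, by
    intro a ha b hb
    rw [Subgroup.mem_bot.mp ha, Subgroup.mem_bot.mp hb], by
    intro a ha
    rw [Subgroup.mem_bot.mp ha, one_pow]⟩
  obtain ⟨A, hAmax⟩ := (Set.toFinite S).exists_maximal hSne
  obtain ⟨hAn, hAc, hAe⟩ := hAmax.prop
  haveI := hAn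
  obtain ⟨a, ha⟩ := IsPGroup.iff_card.mp (hP.to_subgroup A)
  have ha2 : a ≤ 2 := by
    by_contra hcon
    have h3 : p ^ 3 ≤ Nat.card A := by
      rw [ha]; exact Nat.pow_le_pow_right hpp.pos (by omega)
    obtain ⟨M, hMA, hMn, hMc, _⟩ := Lib.Helper3Chain.exists_normal_chain hP A 3 h3
    exact h M hMn ⟨⟨fun x y => Subtype.ext (hAc x (hMA x.2) y (hMA y.2))⟩⟩
      (fun x hx => hAe x (hMA hx)) hMc
  have hAlp : ∀ x ∈ Subgroup.centralizer (A : Set P), x ^ p = 1 → x ∈ A := by
    intro x hx hxp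
    apply Lib.Helper3Alperin.alperin hP 1 (by rw [pow_one]; exact hp) A hAc
      (by intro y hy; rw [pow_one]; exact hAe y hy) _ x hx (by rw [pow_one]; exact hxp)
    intro B hBn hBc hBe hAB
    have hBS : B ∈ S := ⟨hBn, hBc, fun b hb => by have := hBe b hb; rwa [pow_one] at this⟩
    exact le_antisymm (hAmax.le_of_ge hBS hAB) hAB
  have hi := Lib.Helper3Chain.index_centralizer_normal_le hP A a ha
  set C := Subgroup.centralizer (A : Set P) with hC
  have hEc : ∀ x ∈ E, ∀ y ∈ E, x * y = y * x := fun x hx y hy =>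
    congrArg Subtype.val (hE.is_comm.comm ⟨x, hx⟩ ⟨y, hy⟩)
  have h3 : C.relIndex E ≤ p ^ (a * (a - 1) / 2) :=
    (Nat.le_of_dvd (Nat.pos_of_ne_zero Subgroup.index_ne_zero_of_finite)
      (Subgroup.relIndex_dvd_index_of_normal C E)).trans hi
  have h4 : Nat.card (C ⊓ E : Subgroup P) * C.relIndex E = Nat.card E := by
    rw [← Subgroup.card_mul_index (C.subgroupOf E), Subgroup.relIndex,
      ← Subgroup.inf_subgroupOf_right C]
    congr 1
    exact (Nat.card_congr (Subgroup.subgroupOfEquivOfLe inf_le_right).toEquiv).symm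
  have h5 : (C ⊓ E : Subgroup P) ≤ A := by
    intro x hx
    obtain ⟨hx1, hx2⟩ := Subgroup.mem_inf.mp hx
    exact hAlp x hx1 (hEe x hx2)
  have h6 := Subgroup.card_le_of_le h5
  rw [ha] at h6
  interval_cases a
  · simp only [pow_zero] at h6 h3
    have : Nat.card E ≤ 1 * 1 := by rw [← h4]; exact Nat.mul_le_mul h6 (by simpa using h3)
    calc Nat.card E ≤ 1 := by simpa using this
      _ ≤ p ^ 2 := Nat.one_le_pow _ _ hpp.pos
  · have h3' : C.relIndex E ≤ 1 := by simpa using h3
    have : Nat.card E ≤ p ^ 1 * 1 := by rw [← h4]; exact Nat.mul_le_mul h6 h3'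
    calc Nat.card E ≤ p ^ 1 := by simpa using this
      _ ≤ p ^ 2 := Nat.pow_le_pow_right hpp.pos (by norm_num)
  · have h3' : C.relIndex E ≤ p := by simpa using h3
    by_cases hcase : Nat.card (C ⊓ E : Subgroup P) = p ^ 2
    · have hEq : (C ⊓ E : Subgroup P) = A :=
        Subgroup.eq_of_le_of_card_ge h5 (by rw [ha, hcase])
      have hAE : A ≤ E := by rw [← hEq]; exact inf_le_right
      have hEC : E ≤ C := by
        intro x hx
        rw [hC, Subgroup.mem_centralizer_iff]
        intro y hy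
        exact hEc y (hAE hy) x hx
      have : (C ⊓ E : Subgroup P) = E := inf_eq_right.mpr hEC
      rw [this] at hcase
      exact hcase.le
    · obtain ⟨j, hj⟩ := IsPGroup.iff_card.mp (hP.to_subgroup (C ⊓ E : Subgroup P))
      have hj2 : j ≤ 1 := by
        rw [hj] at h6 hcase
        have h7 : j ≤ 2 := (Nat.pow_le_pow_iff_right hpp.one_lt).mp h6
        have h8 : j ≠ 2 := fun h => hcase (by rw [h])
        omega
      rw [← h4, hj, sq]
      exact Nat.mul_le_mul ((Nat.pow_le_pow_right hpp.pos hj2).trans (by simp)) h3'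

end Cfsg.Agent.S0100
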