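import Cfsg.Statements.S1894
import Mathlib
import Cfsg.Agent.Lib.Helper31Nilpotent

set_option autoImplicit false
open Cfsg

namespace Cfsg.Agent.S1894

/-- Let P be a finite p-group, A a normal subgroup of P and B an abelian subgroup of A that is normal in P. Then some subgroup C of A containing B is normal in P and is self-centralizing and normal in A (C ∈ SCN(A)). -/
theorem result {P : Type*} [Group P] [Finite P] {p : ℕ} [Fact p.Prime] (hP : IsPGroup p P)
    (A : Subgroup P) [A.Normal] (B : Subgroup P) [B.Normal] (hBA : B ≤ A) (hB : IsMulCommutative B) :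
    ∃ C : Subgroup P, C.Normal ∧ B ≤ C ∧ Cfsg.IsSCN A C := by
  classical
  let Sset : Set (Subgroup P) := {C | C.Normal ∧ B ≤ C ∧ C ≤ A ∧ ∀ x ∈ C, ∀ y ∈ C, x * y = y * x}
  have hBS : B ∈ Sset := by
    refine ⟨inferInstance, le_rfl, hBA, fun x hx y hy => ?_⟩
    exact congrArg Subtype.val (mul_comm' (⟨x, hx⟩ : B) ⟨y, hy⟩)
  obtain ⟨C, hC⟩ := (Set.toFinite Sset).exists_maximal ⟨B, hBS⟩
  obtain ⟨hCn, hBC, hCA, hCab⟩ := hC.prop
  refine ⟨C, hCn, hBC, hCA, ?_, ?_⟩
  · rw [Subgroup.normalizer_eq_top_iff.2 hCn]; exact le_top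
  · apply le_antisymm _ (le_inf hCA ?_)
    swap
    · intro x hx
      rw [Subgroup.mem_centralizer_iff]
      intro y hy
      exact hCab y hy x hx
    by_contra hnot
    set D := A ⊓ Subgroup.centralizer (C : Set P) with hD
    have hDn : D.Normal := inferInstance
    have hnil : Group.IsNilpotent (P ⧸ C) := (hP.to_quotient C).isNilpotent
    have hDmap : (D.map (QuotientGroup.mk' C)).Normal := hDn.map _ (QuotientGroup.mk'_surjective C)
    have hne : D.map (QuotientGroup.mk' C) ≠ ⊥ := by
      intro h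
      apply hnot
      rw [(Subgroup.gc_map_comap _).l_eq_bot, MonoidHom.comap_bot, QuotientGroup.ker_mk'] at h
      exact h
    obtain ⟨z, ⟨x, hxD, rfl⟩, hzc, hz1⟩ :=
      Cfsg.Agent.Lib.Helper31Nilpotent.exists_center_mem_of_normal (D.map (QuotientGroup.mk' C)) hne
    have hxC : x ∉ C := by
      intro h
      apply hz1
      exact (QuotientGroup.eq_one_iff x).2 h
    have hcen : ∀ g : P, g * x * g⁻¹ * x⁻¹ ∈ C := by
      intro g
      have h1 := Subgroup.mem_center_iff.1 hzc (QuotientGroup.mk' C g)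
      rw [← QuotientGroup.eq_one_iff]
      have h2 : ((g * x * g⁻¹ * x⁻¹ : P) : P ⧸ C) =
          (QuotientGroup.mk' C g) * (QuotientGroup.mk' C x) * (QuotientGroup.mk' C g)⁻¹ * (QuotientGroup.mk' C x)⁻¹ := rfl
      rw [h2, h1]; group
    have hxcomm : ∀ c ∈ C, c * x = x * c := by
      intro c hc
      exact Subgroup.mem_centralizer_iff.1 hxD.2 c hc
    -- the bigger subgroup
    set C' := C ⊔ Subgroup.zpowers x with hC'
    have hmem : ∀ y ∈ C', ∃ c ∈ C, ∃ k : ℤ, y = c * x ^ k := by
      intro y hy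
      rw [hC', ← SetLike.mem_coe, Subgroup.normal_mul] at hy
      obtain ⟨c, hc, _, ⟨k, rfl⟩, rfl⟩ := hy
      exact ⟨c, hc, k, rfl⟩
    have hC'S : C' ∈ Sset := by
      refine ⟨?_, hBC.trans le_sup_left, sup_le hCA (Subgroup.zpowers_le.2 hxD.1), ?_⟩
      · constructor
        intro y hy g
        obtain ⟨c, hc, k, rfl⟩ := hmem y hy
        have e : g * (c * x ^ k) * g⁻¹ = (g * c * g⁻¹) * (g * x * g⁻¹) ^ k := by
          rw [conj_zpow]; group
        rw [e]
        apply Subgroup.mul_mem _ (Subgroup.mem_sup_left (hCn.conj_mem c hc g))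
        apply Subgroup.zpow_mem
        have e2 : g * x * g⁻¹ = (g * x * g⁻¹ * x⁻¹) * x := by group
        rw [e2]
        exact Subgroup.mul_mem _ (Subgroup.mem_sup_left (hcen g)) (Subgroup.mem_sup_right (Subgroup.mem_zpowers x))
      · intro y hy w hw
        obtain ⟨c, hc, k, rfl⟩ := hmem y hy
        obtain ⟨d, hd, l, rfl⟩ := hmem w hw
        have h1 : Commute c d := hCab c hc d hd
        have h2 : Commute c (x ^ l) := Commute.zpow_right (hxcomm c hc) l
        have h3 : Commute (x ^ k) d := (Commute.zpow_right (hxcomm d hd) k).symm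
        have h4 : Commute (x ^ k) (x ^ l) := (Commute.refl x).zpow_zpow k l
        exact ((h1.mul_right h2).mul_left (h3.mul_right h4)).eq
    have hle : C ≤ C' := le_sup_left
    have := hC.le_of_ge hC'S hle
    exact hxC (this (Subgroup.mem_sup_right (Subgroup.mem_zpowers x)))

end Cfsg.Agent.S1894
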