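import Cfsg.Statements.S1452
import Cfsg.Agent.S0100
import Cfsg.Agent.S1894
import Cfsg.Agent.Lib.Helper3Chain

set_option autoImplicit false
open Cfsg

namespace Cfsg.Agent.S1452



/-- Let p be an odd prime and R a finite p-group containing an elementary abelian subgroup of order p ^ 3. If E is a normal elementary abelian subgroup of R of order p ^ 2, then E ≤ A for some normal subgroup A of R with C_R(A) = A that contains an elementary abelian subgroup of order p ^ 3. -/
theorem result {R : Type*} [Group R] [Finite R] (p : ℕ) [Fact p.Prime] (hp : p ≠ 2) (hR : IsPGroup p R) (hr : ¬ Cfsg.PRankLE p 2 R)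
    (E : Subgroup R) [E.Normal] (hE : Cfsg.IsElementaryAbelian p E) (hE2 : Nat.card E = p ^ 2) :
    ∃ A : Subgroup R, E ≤ A ∧ A.Normal ∧ Subgroup.centralizer (A : Set R) = A ∧ ¬ Cfsg.PRankLE p 2 A := by
  classical
  have hpp : p.Prime := Fact.out
  obtain ⟨B, hBn, hBc, hBe, hB3⟩ : ∃ B : Subgroup R, B.Normal ∧ IsMulCommutative B ∧
      (∀ a ∈ B, a ^ p = 1) ∧ Nat.card B = p ^ 3 := by
    by_contra h
    push Not at h
    exact hr (fun A hA hAe => Cfsg.Agent.S0100.result hp hR (fun A' h1 h2 h3 => h A' h1 h2 h3) A hA hAe)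
  have hidx : (Subgroup.centralizer (E : Set R)).index ≤ p := by
    have := Cfsg.Agent.Lib.Helper3Chain.index_centralizer_normal_le hR E 2 hE2
    simpa using this
  have hCn : (Subgroup.centralizer (E : Set R)).Normal := inferInstance
  set B0 := B ⊓ Subgroup.centralizer (E : Set R) with hB0
  have hB0n : B0.Normal := inferInstance
  have hrel : (Subgroup.centralizer (E : Set R)).relIndex B ≤ p :=
    le_trans (Nat.le_of_dvd (Nat.pos_of_ne_zero Subgroup.index_ne_zero_of_finite)
      (Subgroup.relIndex_dvd_index_of_normal _ _)) hidx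
  have hB0card : p ^ 2 ≤ Nat.card B0 := by
    have h1 : Nat.card B0 * (Subgroup.centralizer (E : Set R)).relIndex B = Nat.card B := by
      have := Subgroup.relIndex_mul_relIndex ⊥ B0 B bot_le inf_le_left
      rw [Subgroup.relIndex_bot_left, Subgroup.relIndex_bot_left, hB0, Subgroup.inf_relIndex_left] at this
      exact this
    rw [hB3] at h1
    by_contra hlt
    push Not at hlt
    have : Nat.card B0 * (Subgroup.centralizer (E : Set R)).relIndex B < p ^ 2 * p :=
      Nat.mul_lt_mul_of_lt_of_le hlt hrel hpp.pos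
    rw [h1] at this
    exact absurd this (by rw [pow_succ]; exact lt_irrefl _)
  have hEcomm : ∀ a ∈ E, ∀ b ∈ E, a * b = b * a := fun a ha b hb => by
    exact congrArg Subtype.val (hE.1.is_comm.comm (⟨a, ha⟩ : E) ⟨b, hb⟩)
  have hBcomm : ∀ a ∈ B, ∀ b ∈ B, a * b = b * a := fun a ha b hb => by
    exact congrArg Subtype.val (hBc.is_comm.comm (⟨a, ha⟩ : B) ⟨b, hb⟩)
  have hEB0 : ∀ a ∈ E, ∀ b ∈ B0, a * b = b * a := fun a ha b hb =>
    (Subgroup.mem_centralizer_iff.mp hb.2 a ha)
  have hmem : ∀ x ∈ E ⊔ B0, ∃ e ∈ E, ∃ b ∈ B0, x = e * b := by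
    intro x hx
    rw [← SetLike.mem_coe, Subgroup.normal_mul] at hx
    obtain ⟨e, he, b, hb, rfl⟩ := Set.mem_mul.mp hx
    exact ⟨e, he, b, hb, rfl⟩
  have hA0comm : ∀ x ∈ E ⊔ B0, ∀ y ∈ E ⊔ B0, x * y = y * x := by
    intro x hx y hy
    obtain ⟨e, he, b, hb, rfl⟩ := hmem x hx
    obtain ⟨e', he', b', hb', rfl⟩ := hmem y hy
    calc e * b * (e' * b') = e * (b * e') * b' := by group
      _ = e * (e' * b) * b' := by rw [hEB0 e' he' b hb]
      _ = (e * e') * (b * b') := by group
      _ = (e' * e) * (b' * b) := by rw [hEcomm e he e' he', hBcomm b hb.1 b' hb'.1]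
      _ = e' * (e * b') * b := by group
      _ = e' * (b' * e) * b := by rw [hEB0 e he b' hb']
      _ = e' * b' * (e * b) := by group
  have hA0exp : ∀ x ∈ E ⊔ B0, x ^ p = 1 := by
    intro x hx
    obtain ⟨e, he, b, hb, rfl⟩ := hmem x hx
    rw [(show Commute e b from hEB0 e he b hb).mul_pow, hE.2 e he, hBe b hb.1, one_mul]
  have hA0n : (E ⊔ B0).Normal := inferInstance
  have hA0c : IsMulCommutative ↥(E ⊔ B0) :=
    ⟨⟨fun a b => Subtype.ext (hA0comm a a.2 b b.2)⟩⟩
  have hA0card : p ^ 2 < Nat.card ↥(E ⊔ B0) := by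
    by_contra hle
    push Not at hle
    have h1 : E = E ⊔ B0 := Subgroup.eq_of_le_of_card_ge le_sup_left (by rw [hE2]; exact hle)
    have h2 : B0 ≤ E := by rw [h1]; exact le_sup_right
    have h3 : B0 = E := Subgroup.eq_of_le_of_card_ge h2 (by rw [hE2]; exact hB0card)
    have h4 : E ≤ B := by rw [← h3]; exact inf_le_left
    have h5 : B ≤ B0 := le_inf le_rfl (fun b hb => Subgroup.mem_centralizer_iff.mpr
      (fun e he => hBcomm e (h4 he) b hb))
    have h6 : Nat.card B ≤ Nat.card E := by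
      rw [← h3]; exact Subgroup.card_le_of_le h5
    rw [hB3, hE2] at h6
    exact absurd h6 (not_le.mpr (Nat.pow_lt_pow_right hpp.one_lt (by norm_num)))
  obtain ⟨C, hCn', hA0C, hSCN⟩ := Cfsg.Agent.S1894.result hR ⊤ (E ⊔ B0) le_top hA0c
  refine ⟨C, le_trans le_sup_left hA0C, hCn', ?_, ?_⟩
  · have := hSCN.2.2
    rwa [top_inf_eq] at this
  · intro hrk
    have h1 := hrk ((E ⊔ B0).subgroupOf C)
      ⟨⟨fun a b => Subtype.ext (Subtype.ext (hA0comm a.1.1 a.2 b.1.1 b.2))⟩⟩
      (fun a ha => Subtype.ext (hA0exp a.1 ha))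
    rw [Nat.card_congr (Subgroup.subgroupOfEquivOfLe hA0C).toEquiv] at h1
    exact absurd h1 (not_le.mpr hA0card)

end Cfsg.Agent.S1452
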