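import Cfsg.Statements.S1312
import Cfsg.Agent.Lib.Helper27Bender

set_option autoImplicit false
open Cfsg

namespace Cfsg.Agent.S1312

/-- Let G be a non-abelian finite simple group and M ≠ N maximal subgroups of G with F*(M) ≤ N and F*(N) ≤ M. Then there is a prime p such that F*(M) and F*(N) are both p-groups. -/
theorem result {G : Type*} [Group G] [Finite G] [IsSimpleGroup G] (hna : ¬ IsMulCommutative G) (M N : Subgroup G) (hM : IsCoatom M) (hN : IsCoatom N) (hMN : M ≠ N) (h1 : (Cfsg.generalizedFittingSubgroup ↥M).map M.subtype ≤ N) (h2 : (Cfsg.generalizedFittingSubgroup ↥N).map N.subtype ≤ M) : ∃ p : ℕ, p.Prime ∧ IsPGroup p ↥(Cfsg.generalizedFittingSubgroup ↥M) ∧ IsPGroup p ↥(Cfsg.generalizedFittingSubgroup ↥N) := by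
  have key : ∀ (M N : Subgroup G), IsCoatom M → ∀ A : Subgroup G, A ≠ ⊥ → A ≤ M →
      M ≤ Subgroup.normalizer (A : Set G) → N ⊓ Subgroup.normalizer (A : Set G) = N ⊓ M := by
    intro M N hM A hA hAM hn
    rcases hM.le_iff.mp hn with h | h
    · exfalso
      have hAn : A.Normal := Subgroup.normalizer_eq_top_iff.mp h
      rcases hAn.eq_bot_or_eq_top with h0 | h0
      · exact hA h0
      · exact hM.1 (top_le_iff.mp (h0 ▸ hAM))
    · rw [h]
  have hpair : Cfsg.Agent.Lib.Helper27Bender.Pair M N :=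
    ⟨hMN, by rwa [Cfsg.Agent.Lib.Helper28Layer.map_gfit] at h1,
      by rwa [Cfsg.Agent.Lib.Helper28Layer.map_gfit] at h2, fun A hA hle =>
      ⟨fun hn => by rw [key M N hM A hA (hle.trans inf_le_left) hn, inf_comm],
       fun hn => key N M hN A hA (hle.trans inf_le_right) hn⟩⟩
  obtain ⟨p, hp, c1, c2⟩ := hpair.exists_prime
  have : Fact p.Prime := ⟨hp⟩
  refine ⟨p, hp, ?_, ?_⟩
  · rw [(Cfsg.Agent.Lib.Helper27Rel.CP_iff M).mp c1]
    exact Cfsg.Agent.Lib.Helper27Core.pCore_isPGroup p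
  · rw [(Cfsg.Agent.Lib.Helper27Rel.CP_iff N).mp c2]
    exact Cfsg.Agent.Lib.Helper27Core.pCore_isPGroup p

end Cfsg.Agent.S1312
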