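import Cfsg.Statements.S0080

set_option autoImplicit false
open Cfsg

namespace Cfsg.Agent.S0080

/-- When the index of H is prime to the order of H/H', the focal subgroup of H is G' ∩ H, and H/(G' ∩ H) has a normal complement. -/
theorem result {G : Type*} [Group G] [Finite G] (H : Subgroup G) (h : Nat.Coprime H.index (⁅H, H⁆.relIndex H)) : Subgroup.focalSubgroup H = commutator G ⊓ H ∧ ∃ N : Subgroup G, N.Normal ∧ N ⊓ H = commutator G ⊓ H ∧ N ⊔ H = ⊤ := by
  have hcard : Nat.card (H ⧸ H.focalSubgroupOf) ∣ ⁅H, H⁆.relIndex H :=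
    Subgroup.relIndex_dvd_of_le_left H H.commutator_le_focalSubgroup
  have hcop : (Nat.card (H ⧸ H.focalSubgroupOf)).Coprime H.index :=
    (Nat.Coprime.coprime_dvd_right hcard h).symm
  have hker : ∀ x : H, H.transferFocal x = 1 ↔ x ∈ H.focalSubgroupOf := by
    intro x
    rw [Subgroup.transferFocal_eq_pow]
    have := (powCoprime hcop).apply_eq_iff_eq (x := (x : H ⧸ H.focalSubgroupOf)) (y := 1)
    simp only [powCoprime_apply, one_pow] at this
    rw [this, QuotientGroup.eq_one_iff]
  have hinf : H.transferFocal.ker ⊓ H = H.focalSubgroup := by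
    ext x
    constructor
    · rintro ⟨h1, h2⟩
      exact (hker ⟨x, h2⟩).1 h1
    · intro hx
      have hxH := H.focalSubgroup_le hx
      exact ⟨(hker ⟨x, hxH⟩).2 hx, hxH⟩
  have hcomm : commutator G ≤ H.transferFocal.ker := by
    open scoped IsMulCommutative in
    exact Abelianization.commutator_subset_ker H.transferFocal
  have hfoc : Subgroup.focalSubgroup H = commutator G ⊓ H := by
    apply le_antisymm
    · exact le_inf H.focalSubgroup_le_commutator H.focalSubgroup_le
    · rw [← hinf]; exact inf_le_inf_right _ hcomm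
  refine ⟨hfoc, H.transferFocal.ker, inferInstance, by rw [hinf, hfoc], ?_⟩
  rw [eq_top_iff]
  intro g _
  obtain ⟨y, hy⟩ := (powCoprime hcop).surjective (H.transferFocal g)
  obtain ⟨x, rfl⟩ := QuotientGroup.mk'_surjective _ y
  have hx : H.transferFocal x = H.transferFocal g := by
    rw [Subgroup.transferFocal_eq_pow]; exact hy
  have : g = (g * (x : G)⁻¹) * x := by group
  rw [this]
  refine mul_mem (Subgroup.mem_sup_left ?_) (Subgroup.mem_sup_right x.2)
  rw [MonoidHom.mem_ker, map_mul, map_inv, hx, mul_inv_cancel]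

end Cfsg.Agent.S0080
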