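import Cfsg.Statements.S0800
import Mathlib

set_option autoImplicit false
open Cfsg

namespace Cfsg.Agent.S0800

theorem cayley_two {F : Type*} [Field F] (M : Matrix (Fin 2) (Fin 2) F) :
    M * M = M.trace • M - M.det • (1 : Matrix (Fin 2) (Fin 2) F) := by
  ext i j
  fin_cases i <;> fin_cases j <;>
    simp [Matrix.mul_apply, Fin.sum_univ_two, Matrix.trace_fin_two, Matrix.det_fin_two] <;> ring

theorem det_sub_one {F : Type*} [Field F] (M : Matrix (Fin 2) (Fin 2) F) :
    (M - 1).det = M.det - M.trace + 1 := by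
  simp [Matrix.trace_fin_two, Matrix.det_fin_two]; ring

theorem unip {F : Type*} [Field F] (p : ℕ) [Fact p.Prime] [CharP F p]
    (h : Matrix.SpecialLinearGroup (Fin 2) F)
    (hd : ((h : Matrix (Fin 2) (Fin 2) F) - 1).det = 0) : h ^ p = 1 := by
  set M : Matrix (Fin 2) (Fin 2) F := (h : Matrix (Fin 2) (Fin 2) F) with hM
  have hdet : M.det = 1 := h.2
  have htr : M.trace = 2 := by
    rw [det_sub_one, hdet] at hd
    linear_combination -hd
  have hN : (M - 1) * (M - 1) = 0 := by
    have := cayley_two M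
    rw [htr, hdet] at this
    simp only [sub_mul, mul_sub, one_mul, mul_one, this]
    rw [two_smul, one_smul]
    abel
  have hNp : (M - 1) ^ p = 0 := by
    have h2 : 2 ≤ p := (Fact.out : p.Prime).two_le
    obtain ⟨k, rfl⟩ := Nat.exists_eq_add_of_le h2
    rw [pow_add, pow_two, hN, zero_mul]
  apply Subtype.ext
  rw [Matrix.SpecialLinearGroup.coe_pow, Matrix.SpecialLinearGroup.coe_one, ← hM]
  have : M = (M - 1) + 1 := by abel
  rw [this, add_pow_char_of_commute p (Commute.one_right _), hNp, one_pow, zero_add]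

/-- Tori of SL_2(q): if g ∈ SL_2(q) has order coprime to the characteristic p, then the order of g divides q − 1 or q + 1. -/
theorem result {F : Type*} [Field F] [Fintype F] {q : ℕ} (hF : Fintype.card F = q) (p : ℕ) [Fact p.Prime] [CharP F p] (g : Matrix.SpecialLinearGroup (Fin 2) F) (hg : Nat.Coprime (orderOf g) p) : orderOf g ∣ q - 1 ∨ orderOf g ∣ q + 1 := by
  subst hF
  set q := Fintype.card F with hq
  have hq1 : 1 ≤ q := Fintype.card_pos
  set A : Matrix (Fin 2) (Fin 2) F := (g : Matrix (Fin 2) (Fin 2) F) with hA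
  have hdetA : A.det = 1 := g.2
  set t := A.trace with ht
  set B := A ^ q with hB
  have htrB : B.trace = t := by
    rw [hB, hq, FiniteField.trace_pow_card, FiniteField.pow_card]
  have hdetB : B.det = 1 := by rw [hB, Matrix.det_pow, hdetA, one_pow]
  have hAA : A * A = t • A - 1 := by
    have := cayley_two A
    rwa [hdetA, one_smul] at this
  have hBB : B * B = t • B - 1 := by
    have := cayley_two B
    rwa [hdetB, one_smul, htrB] at this
  have hcomm : A * B = B * A := by
    rw [hB]; exact (Commute.pow_right (Commute.refl A) q).eq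
  have h0 : (B - A) * (B + A - t • 1) = 0 := by
    simp only [sub_mul, mul_sub, mul_add, hAA, hBB, hcomm, Matrix.mul_smul, mul_one]
    abel
  have e1 : B - A = A * (A ^ (q - 1) - 1) := by
    rw [mul_sub, mul_one, ← pow_succ', Nat.sub_add_cancel hq1]
  have e2 : A * (B + A - t • 1) = A ^ (q + 1) - 1 := by
    rw [mul_sub, mul_add, hAA, Matrix.mul_smul, mul_one, pow_succ', ← hB]
    abel
  have h1 : (A * (A ^ (q - 1) - 1)) * (A ^ (q + 1) - 1) = 0 := by
    rw [← e1, ← e2, ← mul_assoc]
    have : (B - A) * A = A * (B - A) := by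
      rw [sub_mul, mul_sub, hcomm]
    rw [this, mul_assoc, h0, mul_zero]
  have h2 : (A ^ (q - 1) - 1).det * (A ^ (q + 1) - 1).det = 0 := by
    have := congrArg Matrix.det h1
    rwa [Matrix.det_mul, Matrix.det_mul, hdetA, one_mul, Matrix.det_zero] at this
  have fin : ∀ k : ℕ, (A ^ k - 1).det = 0 → orderOf g ∣ k := by
    intro k hk
    have hp : (g ^ k) ^ p = 1 := by
      apply unip p
      rwa [Matrix.SpecialLinearGroup.coe_pow]
    have hd1 : orderOf (g ^ k) ∣ p := orderOf_dvd_of_pow_eq_one hp
    have hd2 : orderOf (g ^ k) ∣ orderOf g := orderOf_pow_dvd k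
    have : orderOf (g ^ k) = 1 := Nat.eq_one_of_dvd_coprimes hg hd2 hd1
    rw [orderOf_eq_one_iff] at this
    exact orderOf_dvd_of_pow_eq_one this
  rcases mul_eq_zero.mp h2 with h | h
  · exact Or.inl (fin _ h)
  · exact Or.inr (fin _ h)

end Cfsg.Agent.S0800
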