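import Cfsg.Statements.S1463
import Cfsg.Agent.Lib.Helper31SL2

set_option autoImplicit false
open scoped MatrixGroups
open Cfsg

namespace Cfsg.Agent.S1463

open Matrix Cfsg.Agent.Lib.Helper31SL2

theorem det_eq_one_of_pow {F : Type*} [Field F] (p : ℕ) [Fact p.Prime] [CharP F p] {d : F}
    (h : d ^ p = 1) : d = 1 := by
  have : (d - 1) ^ p = 0 := by rw [sub_pow_char, h, one_pow, sub_self]
  exact sub_eq_zero.1 (pow_eq_zero_iff (Fact.out : p.Prime).ne_zero |>.1 this)

/-- Let F be a field of odd characteristic p and H a finite subgroup of odd order of GL(2, F) that leaves no 1-dimensional subspace of F² invariant. Then p does not divide the order of H. -/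
theorem result {F : Type*} [Field F] (p : ℕ) [Fact p.Prime] [CharP F p] (hp : p ≠ 2)
    (H : Subgroup (GL (Fin 2) F)) [Finite H] (hodd : Odd (Nat.card H))
    (hirr : ∀ v : Fin 2 → F, v ≠ 0 → ∃ g ∈ H, (g : Matrix (Fin 2) (Fin 2) F).mulVec v ∉ Submodule.span F {v}) :
    ¬ p ∣ Nat.card H := by
  intro hdvd
  obtain ⟨x, hx⟩ := exists_prime_orderOf_dvd_card' p hdvd
  have hx1 : (x : GL (Fin 2) F) ≠ 1 := by
    intro h
    have : x = 1 := Subtype.ext h
    rw [this, orderOf_one] at hx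
    exact (Fact.out : p.Prime).one_lt.ne hx
  have hxp : (x : GL (Fin 2) F) ^ p = 1 := by
    have : x ^ p = 1 := by rw [← hx]; exact pow_orderOf_eq_one x
    have := congrArg Subtype.val this
    simpa using this
  have hXp : ((x : GL (Fin 2) F) : Matrix (Fin 2) (Fin 2) F) ^ p = 1 := by
    rw [← Units.val_pow_eq_pow_val, hxp]; rfl
  have hdet0 : (((x : GL (Fin 2) F) : Matrix (Fin 2) (Fin 2) F) - 1).det = 0 := by
    have h0 : (((x : GL (Fin 2) F) : Matrix (Fin 2) (Fin 2) F) - 1) ^ p = 0 := by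
      rw [sub_pow_char_of_commute p (Commute.one_right _), one_pow, hXp, sub_self]
    have := congrArg Matrix.det h0
    rw [Matrix.det_pow, Matrix.det_zero] at this
    exact pow_eq_zero_iff (Fact.out : p.Prime).ne_zero |>.1 this
  have hdetx : ((x : GL (Fin 2) F) : Matrix (Fin 2) (Fin 2) F).det = 1 := by
    apply det_eq_one_of_pow p
    rw [← Matrix.det_pow, hXp, Matrix.det_one]
  obtain ⟨v, hv0, hv⟩ := Matrix.exists_mulVec_eq_zero_iff.2 hdet0
  have hXv : ((x : GL (Fin 2) F) : Matrix (Fin 2) (Fin 2) F) *ᵥ v = v := by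
    rw [Matrix.sub_mulVec, Matrix.one_mulVec, sub_eq_zero] at hv
    exact hv
  obtain ⟨a, b, hab⟩ : ∃ a b : F, v 0 * b - a * v 1 ≠ 0 := by
    by_cases h0 : v 0 = 0
    · refine ⟨1, 0, ?_⟩
      intro h
      apply hv0
      ext i
      fin_cases i
      · exact h0
      · simpa using h
    · exact ⟨0, 1, by simpa using h0⟩
  set s : GL (Fin 2) F := Matrix.GeneralLinearGroup.mkOfDetNeZero !![v 0, a; v 1, b]
    (by rw [Matrix.det_fin_two_of]; exact hab) with hs
  have hse : (s : Matrix (Fin 2) (Fin 2) F) *ᵥ ![1, 0] = v := by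
    ext i
    fin_cases i <;> simp [hs, Matrix.GeneralLinearGroup.mkOfDetNeZero, Matrix.mulVec, dotProduct,
      Fin.sum_univ_two]
  have hcol : ∀ M : Matrix (Fin 2) (Fin 2) F, M *ᵥ ![1, 0] = ![M 0 0, M 1 0] := by
    intro M
    ext i
    fin_cases i <;> simp [Matrix.mulVec, dotProduct, Fin.sum_univ_two]
  -- conjugated elements
  have hline : ∀ h : GL (Fin 2) F, ((s⁻¹ * h * s : GL (Fin 2) F) : Matrix (Fin 2) (Fin 2) F) 1 0 = 0 →
      (h : Matrix (Fin 2) (Fin 2) F) *ᵥ v ∈ Submodule.span F {v} := by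
    intro h h10
    have e : (h : Matrix (Fin 2) (Fin 2) F) * (s : Matrix (Fin 2) (Fin 2) F)
        = (s : Matrix (Fin 2) (Fin 2) F) * ((s⁻¹ * h * s : GL (Fin 2) F) : Matrix (Fin 2) (Fin 2) F) := by
      rw [← Units.val_mul, ← Units.val_mul]
      congr 1
      group
    have e2 : (h : Matrix (Fin 2) (Fin 2) F) *ᵥ v
        = ((s⁻¹ * h * s : GL (Fin 2) F) : Matrix (Fin 2) (Fin 2) F) 0 0 • v := by
      conv_lhs => rw [← hse]
      rw [Matrix.mulVec_mulVec, e, ← Matrix.mulVec_mulVec, hcol, h10]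
      have : (![((s⁻¹ * h * s : GL (Fin 2) F) : Matrix (Fin 2) (Fin 2) F) 0 0, 0] : Fin 2 → F)
          = ((s⁻¹ * h * s : GL (Fin 2) F) : Matrix (Fin 2) (Fin 2) F) 0 0 • ![1, 0] := by
        ext i; fin_cases i <;> simp
      rw [this, Matrix.mulVec_smul, hse]
    rw [e2]
    exact Submodule.smul_mem _ _ (Submodule.mem_span_singleton_self v)
  let φ : Matrix.SpecialLinearGroup (Fin 2) F →* GL (Fin 2) F :=
    (MulAut.conj s).toMonoidHom.comp Matrix.SpecialLinearGroup.toGL
  have hφinj : Function.Injective φ :=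
    (MulAut.conj s).injective.comp Matrix.SpecialLinearGroup.toGL_injective
  let L : Subgroup (Matrix.SpecialLinearGroup (Fin 2) F) := H.comap φ
  let ψ : L →* H := (φ.comp L.subtype).codRestrict H (fun m => m.2)
  have hψ : Function.Injective ψ := by
    intro m m' h
    have : φ m = φ m' := congrArg Subtype.val h
    exact Subtype.ext (hφinj this)
  have hLfin : Finite L := Finite.of_injective ψ hψ
  have hLodd : Odd (Nat.card L) := Odd.of_dvd_nat hodd (Subgroup.card_dvd_of_injective ψ hψ)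
  have cjdet : ∀ y : GL (Fin 2) F, (y : Matrix (Fin 2) (Fin 2) F).det = 1 →
      ((s⁻¹ * y * s : GL (Fin 2) F) : Matrix (Fin 2) (Fin 2) F).det = 1 := by
    intro y hy
    rw [Units.val_mul, Units.val_mul, Matrix.det_units_conj', hy]
  have cjmem : ∀ (y : GL (Fin 2) F) (hy : (y : Matrix (Fin 2) (Fin 2) F).det = 1), y ∈ H →
      (⟨((s⁻¹ * y * s : GL (Fin 2) F) : Matrix (Fin 2) (Fin 2) F), cjdet y hy⟩ :
        Matrix.SpecialLinearGroup (Fin 2) F) ∈ L := by
    intro y hy hyH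
    show φ _ ∈ H
    have : φ (⟨((s⁻¹ * y * s : GL (Fin 2) F) : Matrix (Fin 2) (Fin 2) F), cjdet y hy⟩ :
        Matrix.SpecialLinearGroup (Fin 2) F) = y := by
      show s * Matrix.SpecialLinearGroup.toGL _ * s⁻¹ = y
      have e : Matrix.SpecialLinearGroup.toGL (⟨((s⁻¹ * y * s : GL (Fin 2) F) :
        Matrix (Fin 2) (Fin 2) F), cjdet y hy⟩ : Matrix.SpecialLinearGroup (Fin 2) F)
          = s⁻¹ * y * s := Units.ext rfl
      rw [e]; group
    rw [this]; exact hyH
  -- the unipotent element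
  set U : Matrix (Fin 2) (Fin 2) F := ((s⁻¹ * (x : GL (Fin 2) F) * s : GL (Fin 2) F) :
    Matrix (Fin 2) (Fin 2) F) with hU
  have hUe : U *ᵥ ![1, 0] = ![1, 0] := by
    have e1 : (s : Matrix (Fin 2) (Fin 2) F) *ᵥ (U *ᵥ ![1, 0])
        = (s : Matrix (Fin 2) (Fin 2) F) *ᵥ ![1, 0] := by
      rw [Matrix.mulVec_mulVec, hU, ← Units.val_mul]
      have : s * (s⁻¹ * (x : GL (Fin 2) F) * s) = (x : GL (Fin 2) F) * s := by group
      rw [this, Units.val_mul, ← Matrix.mulVec_mulVec, hse, hXv]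
    have e2 := congrArg (fun w => ((s⁻¹ : GL (Fin 2) F) : Matrix (Fin 2) (Fin 2) F) *ᵥ w) e1
    simp only [Matrix.mulVec_mulVec, ← Units.val_mul, inv_mul_cancel, Units.val_one,
      Matrix.one_mulVec] at e2
    rw [← mul_assoc, ← Units.val_mul, inv_mul_cancel, Units.val_one, one_mul] at e2
    exact e2
  rw [hcol] at hUe
  have hU00 : U 0 0 = 1 := by simpa using congrFun hUe 0
  have hU10 : U 1 0 = 0 := by simpa using congrFun hUe 1
  have hUdet : U.det = 1 := cjdet _ hdetx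
  have hU11 : U 1 1 = 1 := by
    rw [Matrix.det_fin_two, hU00, hU10] at hUdet
    simpa using hUdet
  have hU01 : U 0 1 ≠ 0 := by
    intro h01
    apply hx1
    have hU1 : U = 1 := by
      ext i j
      fin_cases i <;> fin_cases j <;> simp [hU00, hU10, hU11, h01]
    have : (s⁻¹ * (x : GL (Fin 2) F) * s : GL (Fin 2) F) = 1 := Units.ext hU1
    have e : (x : GL (Fin 2) F) = s * (s⁻¹ * (x : GL (Fin 2) F) * s) * s⁻¹ := by group
    rw [e, this]; group
  have hmain := Cfsg.Agent.Lib.Helper31SL2.main p hp L hLodd ⟨U, hUdet⟩ (cjmem _ hdetx x.2)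
    hU00 hU01 hU10 hU11
  obtain ⟨h, hhH, hh⟩ := hirr v hv0
  apply hh
  apply hline
  -- the conjugate
  have hdety : ((h * (x : GL (Fin 2) F) * h⁻¹ : GL (Fin 2) F) : Matrix (Fin 2) (Fin 2) F).det = 1 := by
    rw [Units.val_mul, Units.val_mul, Matrix.det_units_conj, hdetx]
  have hm := hmain _ (cjmem _ hdety (H.mul_mem (H.mul_mem hhH x.2) (H.inv_mem hhH)))
  set M : Matrix (Fin 2) (Fin 2) F := ((s⁻¹ * (h * (x : GL (Fin 2) F) * h⁻¹) * s : GL (Fin 2) F) :
    Matrix (Fin 2) (Fin 2) F) with hM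
  set K : Matrix (Fin 2) (Fin 2) F := ((s⁻¹ * h * s : GL (Fin 2) F) :
    Matrix (Fin 2) (Fin 2) F) with hK
  have hm' : M 1 0 = 0 := hm
  have hrel : M * K = K * U := by
    rw [hM, hK, hU, ← Units.val_mul, ← Units.val_mul]
    congr 1
    group
  have r10 := congrFun (congrFun hrel 1) 0
  have r11 := congrFun (congrFun hrel 1) 1
  simp only [Matrix.mul_apply, Fin.sum_univ_two, hm', hU00, hU10, hU11] at r10 r11
  by_contra hK10
  have h1 : M 1 1 = 1 := by
    have : (M 1 1 - 1) * K 1 0 = 0 := by linear_combination r10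
    exact sub_eq_zero.1 ((mul_eq_zero.1 this).resolve_right hK10)
  rw [h1] at r11
  have : K 1 0 * U 0 1 = 0 := by linear_combination -r11
  rcases mul_eq_zero.1 this with h | h
  · exact hK10 h
  · exact hU01 h

end Cfsg.Agent.S1463
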