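import Cfsg.Statements.S1398
import Cfsg.Agent.Lib.Helper24BG

set_option autoImplicit false
open Cfsg

namespace Cfsg.Agent.S1398

open Subgroup Cfsg.Agent.Lib.Helper24BG

/-- Let G be a minimal simple group of odd order, M a maximal subgroup, p a prime, and B a noncyclic elementary abelian p-subgroup of M. If C_G(b) ≤ M for every non-identity b ∈ B, or if every subgroup of G of order coprime to p normalized by B is contained in M, then M is the only maximal subgroup of G containing B. -/
theorem result {G : Type*} [Group G] [Finite G] (hG : Cfsg.IsMinSimpleOddOrder G)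
    (M : Subgroup G) (hM : IsCoatom M) (p : ℕ) [Fact p.Prime] (B : Subgroup G) (hBM : B ≤ M)
    (hBe : Cfsg.IsElementaryAbelian p B) (hBnc : ¬ IsCyclic B)
    (h : (∀ b ∈ B, b ≠ 1 → Subgroup.centralizer ({b} : Set G) ≤ M) ∨
      ∀ Y ∈ Cfsg.invSubgroups ⊤ B (Cfsg.primesNotDvd p), Y ≤ M) :
    Cfsg.InUniqueMaximal B := by
  have hpp : p.Prime := Fact.out
  have hB1 : B ≠ ⊥ := by
    rintro rfl
    exact hBnc inferInstance
  refine uniq_of hM hBM (uniq_of_inv hG hM hBM (isPGroup_of_elemAb hBe) hB1 ?_)
  intro Y hY hBY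
  rcases h with h | h
  · have := hBe.1
    letI : CommGroup B := { (inferInstance : Group B) with mul_comm := fun a b => mul_comm' a b }
    obtain ⟨r, w, z, hr, hw, hz, hw1, hzw⟩ := Cfsg.Agent.Lib.Helper30Gen.exists_rank_two hBnc
    have hwp : (w : G) ^ p = 1 := hBe.2 _ w.2
    have hzp : (z : G) ^ p = 1 := hBe.2 _ z.2
    have hc : Commute (w : G) (z : G) := by
      have : w * z = z * w := mul_comm w z
      exact congrArg Subtype.val this
    have h1 := Cfsg.Agent.Lib.Helper30Gen.le_gen (K := Y) (r := p) hc hwp hzp hY (hBY w.2) (hBY z.2)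
    refine h1.trans (sup_le (inf_le_right.trans (h _ w.2 ?_)) (iSup_le fun j => inf_le_right.trans (h _ ?_ ?_)))
    · intro h0
      exact hw1 (Subtype.ext h0)
    · exact B.mul_mem z.2 (B.pow_mem w.2 j)
    · intro h0
      exact hzw j (Subtype.ext (by simpa using h0))
  · refine h Y ⟨le_top, ?_, hBY⟩
    intro q hq hqY
    refine ⟨hq, fun hqp => ?_⟩
    have : q = p := (Nat.prime_dvd_prime_iff_eq hq hpp).mp hqp
    subst this
    exact hq.one_lt.ne' (Nat.eq_one_of_dvd_coprimes hY hqY dvd_rfl)

end Cfsg.Agent.S1398
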