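import Cfsg.Statements.S1399
import Cfsg.Agent.S1398

set_option autoImplicit false
open Cfsg

namespace Cfsg.Agent.S1399

open Subgroup Cfsg.Agent.Lib.Helper24BG

/-- a uniqueness subgroup is nontrivial -/
theorem ne_bot_of_uniq {G : Type*} [Group G] [Finite G] (hG : Cfsg.IsMinSimpleOddOrder G)
    {L : Subgroup G} (hL : Cfsg.InUniqueMaximal L) : L ≠ ⊥ := by
  rintro rfl
  obtain ⟨M, ⟨hM, hLM⟩, hu⟩ := hL
  apply hM.1
  rw [eq_top_iff]
  intro g _
  have h1 : zpowers g ≠ ⊤ := by
    intro h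
    apply hG.2.2.1
    refine ⟨⟨fun x y => ?_⟩⟩
    have hx : x ∈ zpowers g := by rw [h]; exact mem_top x
    have hy : y ∈ zpowers g := by rw [h]; exact mem_top y
    obtain ⟨i, rfl⟩ := hx
    obtain ⟨j, rfl⟩ := hy
    exact ((Commute.refl g).zpow_zpow i j).eq
  obtain ⟨D, hD, hgD⟩ := exists_coatom h1
  have := hu D ⟨hD, bot_le⟩
  subst this
  exact hgD (mem_zpowers g)

/-- Let G be a minimal simple group of odd order, L a subgroup contained in exactly one maximal subgroup of G, and K a subgroup of C_G(L) having, for some prime p, an elementary abelian subgroup of order p ^ 2. Then K is contained in exactly one maximal subgroup of G. -/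
theorem result {G : Type*} [Group G] [Finite G] (hG : Cfsg.IsMinSimpleOddOrder G)
    (L K : Subgroup G) (hL : Cfsg.InUniqueMaximal L) (hK : K ≤ Subgroup.centralizer (L : Set G)) (hKr : ¬ Cfsg.RankLE 1 K) :
    Cfsg.InUniqueMaximal K := by
  have hL1 := ne_bot_of_uniq hG hL
  obtain ⟨M, ⟨hM, hLM⟩, hu⟩ := id hL
  have hLtop : L ≠ ⊤ := fun h => hM.1 (top_le_iff.mp (h ▸ hLM))
  unfold RankLE at hKr
  push Not at hKr
  obtain ⟨p, hp, hr⟩ := hKr
  have : Fact p.Prime := ⟨hp⟩
  obtain ⟨B, hBK, hBe, hBc⟩ := exists_elemAb hr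
  rw [pow_one] at hBc
  have hBnc : ¬ IsCyclic B := by
    intro hc
    have := card_le_of_cyclic_exp hp.pos (X := B) (fun x => Subtype.ext (hBe.2 x x.2))
    omega
  have hcent : ∀ b ∈ B, b ≠ 1 → centralizer ({b} : Set G) ≤ M := by
    intro b hb hb1
    refine le_of_uniq hM hLM hL ?_ (Cfsg.Agent.Lib.Helper30Trans.centralizer_singleton_ne_top hG hb1)
    intro x hx
    rw [mem_centralizer_singleton_iff]
    exact ((mem_centralizer_iff.mp (hK (hBK hb))) x hx)
  have hBM : B ≤ M := by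
    have hB1 : B ≠ ⊥ := by
      rintro rfl
      exact hBnc inferInstance
    obtain ⟨⟨b, hb⟩, hb1'⟩ := (Subgroup.ne_bot_iff_exists_ne_one).mp hB1
    have hb1 : b ≠ 1 := fun h => hb1' (Subtype.ext h)
    refine le_trans ?_ (hcent b hb hb1)
    intro x hx
    rw [mem_centralizer_singleton_iff]
    exact congrArg Subtype.val (hBe.1.is_comm.comm ⟨x, hx⟩ ⟨b, hb⟩)
  have hBU := Cfsg.Agent.S1398.result hG M hM p B hBM hBe hBnc (Or.inl hcent)
  refine uniq_mono hBU hBK ?_
  intro h
  apply norm_ne_top hG hL1 hLtop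
  rw [eq_top_iff, ← h]
  exact hK.trans (centralizer_le_normalizer _)

end Cfsg.Agent.S1399
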