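import Cfsg.Statements.S1400
import Cfsg.Agent.S1399
import Cfsg.Agent.Lib.Helper24BG2

set_option autoImplicit false
open Cfsg

namespace Cfsg.Agent.S1400

open Subgroup Cfsg.Agent.Lib.Helper24BG Cfsg.Agent.Lib.Helper24BG2 Cfsg.Agent.Lib.Helper30Trans

/-- Let G be a minimal simple group of odd order, p a prime, A an abelian p-subgroup containing an elementary abelian subgroup of order p ^ 3 and lying in exactly one maximal subgroup, and B a noncyclic p-subgroup whose centralizer contains an elementary abelian subgroup of order p ^ 3. Then B lies in exactly one maximal subgroup of G. -/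
theorem result {G : Type*} [Group G] [Finite G] (hG : Cfsg.IsMinSimpleOddOrder G)
    (p : ℕ) [Fact p.Prime] (A B : Subgroup G) (hAp : IsPGroup p A) (hAc : IsMulCommutative A) (hA3 : ¬ Cfsg.PRankLE p 2 ↥A)
    (hAU : Cfsg.InUniqueMaximal A) (hBp : IsPGroup p B) (hBnc : ¬ IsCyclic B) (hB3 : ¬ Cfsg.PRankLE p 2 ↥(Subgroup.centralizer (B : Set G))) :
    Cfsg.InUniqueMaximal B := by
  have hpp : p.Prime := Fact.out
  have hB1 : B ≠ ⊥ := by
    rintro rfl
    exact hBnc inferInstance
  have hp2 : p ≠ 2 := ne_two hG hBp hB1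
  obtain ⟨P, hP, hAP⟩ := exists_isSyl_ge (le_top : A ≤ ⊤) hAp
  have hPnc : ¬ IsCyclic P := by
    intro hc
    exact hA3 (rank_mono hpp.pos (rank_le_of_le hAP (rank_one_of_cyclic hpp.pos)) (by norm_num))
  obtain ⟨W, hWP, hPW, hWe, hWc⟩ := exists_normal_sq hp2 hP.2.1 hPnc
  -- centralizers of `W` in elementary abelian subgroups of order at least `p^3`
  have key : ∀ E : Subgroup G, E ≤ P → IsElementaryAbelian p E → p ^ 2 < Nat.card E →
      ¬ RankLE 1 (E ⊓ centralizer (W : Set G) : Subgroup G) := by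
    intro E hEP hEe hEc
    refine not_rankLE_of_elemAb hpp le_rfl (elemAb_of_le hEe inf_le_left) ?_
    have h1 := card_le_mul_inf_centralizer hP.2.1 hWP hPW hWc hEP
    rw [pow_one]
    by_contra hcon
    push Not at hcon
    have : Nat.card (E ⊓ centralizer (W : Set G) : Subgroup G) * p ≤ p * p := Nat.mul_le_mul_right _ hcon
    nlinarith
  obtain ⟨EA, hEA, hEAe, hEAc⟩ := exists_elemAb hA3
  have hK1 : InUniqueMaximal (EA ⊓ centralizer (W : Set G)) := by
    refine Cfsg.Agent.S1399.result hG A _ hAU ?_ (key EA (hEA.trans hAP) hEAe hEAc)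
    intro x hx
    rw [mem_centralizer_iff]
    intro a ha
    exact congrArg Subtype.val (hAc.is_comm.comm ⟨a, ha⟩ ⟨x, hEA hx.1⟩)
  have hWU : InUniqueMaximal W := by
    refine Cfsg.Agent.S1399.result hG _ W hK1 ?_ (not_rankLE_of_elemAb hpp le_rfl hWe ?_)
    · intro w hw
      rw [mem_centralizer_iff]
      intro x hx
      exact ((mem_centralizer_iff.mp hx.2) w hw).symm
    · rw [hWc, pow_one]
      nlinarith [hpp.one_lt]
  obtain ⟨E, hEB, hEe, hEc⟩ := exists_elemAb hB3
  obtain ⟨g, -, hg⟩ := exists_cj_le hP (isPGroup_of_elemAb hEe) le_top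
  have hEge := elemAb_cj hEe g
  have hK2 : InUniqueMaximal (cj g E ⊓ centralizer (W : Set G)) :=
    Cfsg.Agent.S1399.result hG W _ hWU inf_le_right (key _ hg hEge (by rw [card_cj]; exact hEc))
  have hEU : InUniqueMaximal E :=
    uniq_of_cj g (uniq_mono hK2 inf_le_left (pgroup_ne_top hG (isPGroup_of_elemAb hEge)))
  obtain ⟨V, hVB, -, hVe, hVc⟩ := exists_normal_sq hp2 hBp hBnc
  refine Cfsg.Agent.S1399.result hG E B hEU ?_ (not_rankLE_of_elemAb hpp hVB hVe ?_)
  · intro b hb
    rw [mem_centralizer_iff]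
    intro x hx
    exact ((mem_centralizer_iff.mp (hEB hx)) b hb).symm
  · rw [hVc, pow_one]
    nlinarith [hpp.one_lt]

end Cfsg.Agent.S1400
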