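import Cfsg.Statements.S1401
import Cfsg.Agent.S1400
import Cfsg.Agent.Lib.Helper24BG3

set_option autoImplicit false
open Cfsg

namespace Cfsg.Agent.S1401

open Subgroup Cfsg.Agent.Lib.Helper24BG Cfsg.Agent.Lib.Helper24BG2 Cfsg.Agent.Lib.Helper24BG3
open Cfsg.Agent.Lib.Helper30Bender

/-- from one abelian uniqueness `p`-subgroup of rank three to all of them -/
theorem of_one {G : Type*} [Group G] [Finite G] (hG : Cfsg.IsMinSimpleOddOrder G)
    (p : ℕ) [Fact p.Prime] (A' : Subgroup G) (hAp' : IsPGroup p A') (hAc' : IsMulCommutative A')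
    (hA3' : ¬ Cfsg.PRankLE p 2 ↥A') (hU : InUniqueMaximal A')
    (A : Subgroup G) (hAp : IsPGroup p A) (hAc : IsMulCommutative A) (hA3 : ¬ Cfsg.PRankLE p 2 ↥A) :
    Cfsg.InUniqueMaximal A := by
  have hpp : p.Prime := Fact.out
  refine Cfsg.Agent.S1400.result hG p A' A hAp' hAc' hA3' hU hAp ?_ ?_
  · intro hc
    exact hA3 (rank_mono hpp.pos (rank_one_of_cyclic hpp.pos) (by norm_num))
  · intro h
    apply hA3
    refine rank_le_of_le ?_ h
    intro x hx
    rw [mem_centralizer_iff]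
    intro y hy
    exact congrArg Subtype.val (hAc.is_comm.comm ⟨y, hy⟩ ⟨x, hx⟩)

/-- Let G be a minimal simple group of odd order, p a prime, and M a maximal subgroup whose Fitting subgroup contains an elementary abelian subgroup of order p ^ 3. Then every abelian p-subgroup of G containing an elementary abelian subgroup of order p ^ 3 lies in exactly one maximal subgroup of G. -/
theorem result {G : Type*} [Group G] [Finite G] (hG : Cfsg.IsMinSimpleOddOrder G)
    (M : Subgroup G) (hM : IsCoatom M) (p : ℕ) [Fact p.Prime] (hF : ¬ Cfsg.PRankLE p 2 ↥(Cfsg.fittingOf M))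
    (A : Subgroup G) (hAp : IsPGroup p A) (hAc : IsMulCommutative A) (hA3 : ¬ Cfsg.PRankLE p 2 ↥A) :
    Cfsg.InUniqueMaximal A := by
  have hpp : p.Prime := Fact.out
  obtain ⟨A₀, hA₀, hA₀e, hA₀c⟩ := exists_elemAb hF
  have hA₀p := isPGroup_of_elemAb hA₀e
  have hA₀3 : p ^ 3 ≤ Nat.card A₀ := by
    obtain ⟨k, hk⟩ := IsPGroup.iff_card.mp hA₀p
    rw [hk] at hA₀c ⊢
    have : 2 < k := (Nat.pow_lt_pow_iff_right hpp.one_lt).mp hA₀c
    exact Nat.pow_le_pow_right hpp.pos this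
  have hA₀1 : A₀ ≠ ⊥ := by
    rintro rfl
    rw [card_bot] at hA₀3
    have : 1 < p ^ 3 := Nat.one_lt_pow (by norm_num) hpp.one_lt
    omega
  by_cases hFp : IsPGroup p (fittingOf M)
  · obtain ⟨R, hR, hA₀R⟩ := exists_isSyl_ge (hA₀.trans (fittingOf_le M)) hA₀p
    obtain ⟨-, h2⟩ := partB hG hM (ne_bot_of_le_ne_bot hA₀1 hA₀) hFp hR
    obtain ⟨A', hA', hA'3⟩ := exists_scn3 (ne_two hG hA₀p hA₀1) hR.2.1
      (not_rank_of_elemAb hA₀R hA₀e hA₀c)
    exact of_one hG p A' (hR.2.1.to_le hA'.1) (scn_comm hA') hA'3 (h2 A' hA' hA'3).2 A hAp hAc hA3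
  · have h1 := partA hG hM hA₀ hA₀e hA₀3 hFp
    have h2 : InUniqueMaximal A₀ := by
      refine Cfsg.Agent.S1399.result hG _ A₀ h1 (le_centralizer_iff.mp inf_le_right)
        (not_rankLE_of_elemAb hpp le_rfl hA₀e ?_)
      exact lt_of_le_of_lt (Nat.pow_le_pow_right hpp.pos (by norm_num)) hA₀c
    exact of_one hG p A₀ hA₀p hA₀e.1 (not_rank_of_elemAb le_rfl hA₀e hA₀c) h2 A hAp hAc hA3

end Cfsg.Agent.S1401
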