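import Cfsg.Statements.S1403
import Cfsg.Agent.S1399
import Cfsg.Agent.S1400
import Cfsg.Agent.S1402
import Cfsg.Agent.Lib.Helper24BG2

set_option autoImplicit false
open Cfsg

namespace Cfsg.Agent.S1403

open Subgroup
open Cfsg.Agent.Lib.Helper24BG

/-- rank at least three -/
theorem rank3 {G : Type*} [Group G] [Finite G] (hG : Cfsg.IsMinSimpleOddOrder G)
    (K : Subgroup G) (hK : K ≠ ⊤) (hK3 : ¬ Cfsg.RankLE 2 K) : Cfsg.InUniqueMaximal K := by
  unfold RankLE at hK3
  push Not at hK3
  obtain ⟨q, hq, hr⟩ := hK3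
  have : Fact q.Prime := ⟨hq⟩
  obtain ⟨B, hBK, hB, hc⟩ := exists_elemAb hr
  have hBq : IsPGroup q B := isPGroup_of_elemAb hB
  obtain ⟨P, hBP⟩ := hBq.exists_le_sylow
  have hB3 : ¬ PRankLE q 2 B := not_rank_of_elemAb le_rfl hB hc
  have hP3 : ¬ PRankLE q 2 (P : Subgroup G) := not_rank_of_elemAb hBP hB hc
  have hB1 : B ≠ ⊥ := by
    rintro rfl
    rw [card_bot] at hc
    have := Nat.one_le_pow 2 q hq.pos
    omega
  have hq2 : q ≠ 2 := ne_two hG hBq hB1
  obtain ⟨A, hA, hA3⟩ := exists_scn3 hq2 P.2 hP3
  have hAU := Cfsg.Agent.S1402.result hG q P A hA hA3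
  have hnc : ¬ IsCyclic B := by
    intro h
    have h1 := card_le_of_cyclic_exp hq.pos (X := B) (fun x => Subtype.ext (hB.2 x x.2))
    have h2 : q ≤ q ^ 2 := by nlinarith [hq.two_le]
    omega
  have hBC : B ≤ centralizer (B : Set G) := by
    intro a ha
    rw [mem_centralizer_iff]
    intro b hb
    exact congrArg Subtype.val (hB.1.is_comm.comm ⟨b, hb⟩ ⟨a, ha⟩)
  have hBU := Cfsg.Agent.S1400.result hG q A B (P.2.to_le hA.1) (scn_comm hA) hA3 hAU hBq hnc
    (not_rank_of_elemAb hBC hB hc)
  exact uniq_mono hBU hBK hK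

/-- Let G be a minimal simple group of odd order and K a proper subgroup having an elementary abelian subgroup of order p ^ 2 for some prime p. If K, or its centralizer C_G(K), has an elementary abelian subgroup of order q ^ 3 for some prime q, then K lies in exactly one maximal subgroup of G. -/
theorem result {G : Type*} [Group G] [Finite G] (hG : Cfsg.IsMinSimpleOddOrder G)
    (K : Subgroup G) (hK : K ≠ ⊤) (hK2 : ¬ Cfsg.RankLE 1 K)
    (hK3 : ¬ Cfsg.RankLE 2 K ∨ ¬ Cfsg.RankLE 2 (Subgroup.centralizer (K : Set G))) :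
    Cfsg.InUniqueMaximal K := by
  rcases hK3 with h | h
  · exact rank3 hG K hK h
  · have hD : centralizer (K : Set G) ≠ ⊤ := by
      intro htop
      apply hK2
      have hKc : K ≤ center G := by
        intro x hx
        rw [mem_center_iff]
        intro g
        have hg : g ∈ centralizer (K : Set G) := by rw [htop]; exact mem_top g
        exact ((mem_centralizer_iff.mp hg) x hx).symm
      have hs := hG.2.1
      have hc : center G = ⊥ := by
        rcases hs.eq_bot_or_eq_top_of_normal (center G) inferInstance with h0 | h0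
        · exact h0
        · exfalso
          apply hG.2.2.1
          refine ⟨⟨fun x y => ?_⟩⟩
          have : y ∈ center G := by rw [h0]; exact mem_top y
          exact (mem_center_iff.mp this) x
      have hK1 : K = ⊥ := by rw [eq_bot_iff, ← hc]; exact hKc
      subst hK1
      intro p hp B _ _
      have : Nat.card B = 1 := Nat.card_eq_one_iff_unique.mpr ⟨inferInstance, ⟨1⟩⟩
      rw [this]
      exact Nat.one_le_pow _ _ hp.pos
    have hDU := rank3 hG _ hD h
    refine Cfsg.Agent.S1399.result hG _ K hDU ?_ hK2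
    intro x hx
    rw [mem_centralizer_iff]
    intro g hg
    exact ((mem_centralizer_iff.mp hg) x hx).symm

end Cfsg.Agent.S1403
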