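import Mathlib
import Cfsg.Statements.S1404
import Cfsg.Agent.Lib.Helper68BGA

set_option autoImplicit false
open Cfsg

namespace Cfsg.Agent.S1404

open Subgroup
open Cfsg.Agent.Lib.Helper30Trans
open Cfsg.Agent.Lib.Helper24BG
open Cfsg.Agent.Lib.Helper24BG2
open Cfsg.Agent.Lib.Helper68BGA

theorem part1 {G : Type*} [Group G] [Finite G] (hG : Cfsg.IsMinSimpleOddOrder G)
    (M : Subgroup G) (hM : IsCoatom M) (p : ℕ) [Fact p.Prime] (hp : p ∈ Cfsg.sigma M)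
    (X : Subgroup G) (hXp : IsPGroup p X) (hXM : X ≤ M) (g : G) (hg : cj g X ≤ M) :
    ∃ m ∈ M, ∃ c ∈ Subgroup.centralizer (X : Set G), g = m * c := by
  obtain ⟨P, hPM, hPt, hN, hP1⟩ := sigma_data hp
  obtain ⟨m₁, hm₁, h1⟩ := exists_cj_le hPM hXp hXM
  obtain ⟨m₂, hm₂, h2⟩ := exists_cj_le hPM (hXp.map _ : IsPGroup p (cj g X)) hg
  have h3 : cj (m₂ * g * m₁⁻¹) (cj m₁ X) ≤ P := by
    rw [cj_mul, cj_inv_cj, cj_mul]
    exact h2
  obtain ⟨m, hm, hma⟩ := sigma_fusion hG hM hPt hPM.1 hN hP1 h1 h3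
  refine ⟨m₂⁻¹ * m * m₁, M.mul_mem (M.mul_mem (M.inv_mem hm₂) hm) hm₁,
    (m₂⁻¹ * m * m₁)⁻¹ * g, ?_, by group⟩
  rw [mem_centralizer_iff]
  intro x hx
  have h4 := hma (m₁ * x * m₁⁻¹) (conj_mem_cj hx)
  have h5 : m * m₁ * x = m₂ * g * x * g⁻¹ * m₂⁻¹ * m * m₁ := by
    have : m * m₁ * x = (m * (m₁ * x * m₁⁻¹) * m⁻¹) * m * m₁ := by group
    rw [this, h4]
    group
  have h6 : x * ((m₂⁻¹ * m * m₁)⁻¹ * g) = (m * m₁)⁻¹ * (m * m₁ * x) * (m * m₁)⁻¹ * m₂ * g := by group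
  rw [h6, h5]
  group

/-- Let G be a minimal simple group of odd order, M a maximal subgroup, p a prime in σ(M), and X a nontrivial p-subgroup of M. If gXg⁻¹ ≤ M for some g ∈ G then g = m c with m ∈ M and c ∈ C_G(X); and the normalizer of X is generated by N_M(X) and C_G(X). -/
theorem result {G : Type*} [Group G] [Finite G] (hG : Cfsg.IsMinSimpleOddOrder G)
    (M : Subgroup G) (hM : IsCoatom M) (p : ℕ) [Fact p.Prime] (hp : p ∈ Cfsg.sigma M)
    (X : Subgroup G) (hXp : IsPGroup p X) (hX1 : X ≠ ⊥) (hXM : X ≤ M) :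
    (∀ g : G, X.map (MulAut.conj g).toMonoidHom ≤ M → ∃ m ∈ M, ∃ c ∈ Subgroup.centralizer (X : Set G), g = m * c) ∧
      Subgroup.normalizer (X : Set G) = (M ⊓ Subgroup.normalizer (X : Set G)) ⊔ Subgroup.centralizer (X : Set G) := by
  refine ⟨fun g hg => part1 hG M hM p hp X hXp hXM g hg, ?_⟩
  apply le_antisymm
  · intro n hn
    have h1 : cj n X = X := cj_eq_self_of_mem_normalizer hn
    obtain ⟨m, hm, c, hc, rfl⟩ := part1 hG M hM p hp X hXp hXM n (h1.le.trans hXM)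
    have hcN : c ∈ normalizer (X : Set G) := centralizer_le_normalizer _ hc
    refine mul_mem (mem_sup_left ⟨hm, ?_⟩) (mem_sup_right hc)
    have : m = (m * c) * c⁻¹ := by group
    rw [this]
    exact (normalizer (X : Set G)).mul_mem hn ((normalizer (X : Set G)).inv_mem hcN)
  · exact sup_le inf_le_right (centralizer_le_normalizer _)

end Cfsg.Agent.S1404
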