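import Mathlib
import Cfsg.Statements.S1405
import Cfsg.Agent.Lib.Helper68BGC

set_option autoImplicit false
open Cfsg

namespace Cfsg.Agent.S1405

open Subgroup
open Cfsg.Agent.Lib.Helper30Trans
open Cfsg.Agent.Lib.Helper24BG
open Cfsg.Agent.Lib.Helper24BG2
open Cfsg.Agent.Lib.Helper68BGA
open Cfsg.Agent.Lib.Helper68BGB
open Cfsg.Agent.Lib.Helper68BGC

/-- Let G be a minimal simple group of odd order and M a maximal subgroup, α(M) the set of primes p with M of p-rank at least 3, and M_α = O_{α(M)}(M). Then M_α is a Hall α(M)-subgroup of M and of G, M_α ≤ M_σ, the quotient M/M_α has no elementary abelian subgroup of order p ^ 3 for any prime p, and the image of M' in M/M_α is nilpotent. -/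
theorem result {G : Type*} [Group G] [Finite G] (hG : Cfsg.IsMinSimpleOddOrder G)
    (M : Subgroup G) (hM : IsCoatom M) :
    Cfsg.IsPiHallOf (Cfsg.alpha M) (Cfsg.alphaCore M) M ∧ Cfsg.IsPiHall (Cfsg.alpha M) (Cfsg.alphaCore M) ∧
      Cfsg.alphaCore M ≤ Cfsg.sigmaCore M ∧ Cfsg.RankLE 2 (↥M ⧸ Cfsg.piCore (Cfsg.alpha M) ↥M) ∧
      Group.IsNilpotent ↥((commutator ↥M).map (QuotientGroup.mk' (Cfsg.piCore (Cfsg.alpha M) ↥M))) := by
  have hsol : Group.IsSolvable M := sol hG hM.1
  obtain ⟨h1, h2, h3⟩ := hall_core (X := M) (odd_sub hG M) (alpha M)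
    (by
      intro q hq hqα
      by_contra hr
      exact hqα ⟨hq, hr⟩)
    (by
      intro p hp hpα x hx
      have : Fact p.Prime := ⟨hp⟩
      exact mem_commutator_of_sigma hG hM (alpha_sub_sigma hG hM hpα) x hx)
  have hcard : ∀ p : ℕ, p.Prime → p ∣ Nat.card (alphaCore M) → p ∈ alpha M :=
    card_piCoreOf (alpha M) M
  have hrel : (alphaCore M).relIndex M = (piCore (alpha M) M).index := by
    unfold alphaCore relIndex
    rw [subgroupOf, comap_map_eq_self_of_injective M.subtype_injective]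
  refine ⟨⟨piCoreOf_le _ _, hcard, ?_⟩, ⟨hcard, ?_⟩, ?_, h2, h3⟩
  · intro p hp hpα
    rw [hrel]
    exact h1 p hp hpα
  · intro p hp hpα hd
    have : Fact p.Prime := ⟨hp⟩
    have hσ := alpha_sub_sigma hG hM hpα
    obtain ⟨P, hPM, hPt, _, _⟩ := sigma_data hσ
    have hidx : (alphaCore M).index = (alphaCore M).relIndex M * M.index :=
      (relIndex_mul_index (piCoreOf_le _ _)).symm
    rw [hidx, hrel] at hd
    rcases (Nat.Prime.dvd_mul hp).mp hd with hd | hd
    · exact h1 p hp hpα hd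
    · have h4 : ¬ p ∣ P.index := hPt.toSylowTop.not_dvd_index
      exact h4 (hd.trans (index_dvd_of_le hPM.1))
  · apply Subgroup.map_mono
    apply le_piCore inferInstance
    intro p hp hd
    exact alpha_sub_sigma hG hM (Cfsg.Agent.Lib.Helper29Basic.card_piCore _ p hp hd)

end Cfsg.Agent.S1405
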