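import Cfsg.Statements.S1350
import Cfsg.Agent.Lib.Helper27BGb
import Cfsg.Agent.S1405

set_option autoImplicit false
open Cfsg

namespace Cfsg.Agent.S1350

/-- Let G be a minimal simple group of odd order and M a maximal subgroup. Then M_σ (the largest normal σ(M)-subgroup of M) is a Hall σ(M)-subgroup of M and also of G, and every Hall σ(M)-subgroup of M that is normal in M equals M_σ. -/
theorem result {G : Type*} [Group G] [Finite G] (hG : Cfsg.IsMinSimpleOddOrder G)
    (M : Subgroup G) (hM : IsCoatom M) :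
    Cfsg.IsPiHallOf (Cfsg.sigma M) (Cfsg.sigmaCore M) M ∧ Cfsg.IsPiHall (Cfsg.sigma M) (Cfsg.sigmaCore M) ∧
      ∀ N : Subgroup G, M ≤ Subgroup.normalizer (N : Set G) → Cfsg.IsPiHallOf (Cfsg.sigma M) N M →
        N = Cfsg.sigmaCore M := by
  classical
  -- general fact: `p`-subgroups of nilpotent normal subgroups lie in the `p`-core
  have gen : ∀ (p : ℕ) [Fact p.Prime] (Q : Type _) [Group Q] [Finite Q] (D R : Subgroup Q), D.Normal →
      Group.IsNilpotent D → IsPGroup p R → R ≤ D → R ≤ Cfsg.pCore p Q := by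
    intro p _ Q _ _ D R hD hn hR hRD
    obtain ⟨S, hS⟩ := (hR.comap_subtype (K := D)).exists_le_sylow
    have hSn : (S : Subgroup D).Normal := (Group.isNilpotent_of_finite_tfae.out 0 3 rfl rfl).mp hn p inferInstance S
    have hSc : (S : Subgroup D).Characteristic := Sylow.characteristic_of_normal S hSn
    have hN : ((S : Subgroup D).map D.subtype).Normal := ConjAct.normal_of_characteristic_of_normal
    refine le_trans ?_ (Cfsg.Agent.Lib.Helper1Fitting.le_pCore hN (S.2.map _))
    intro x hx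
    exact ⟨⟨x, hRD hx⟩, hS (Subgroup.mem_subgroupOf.mpr hx), rfl⟩
  obtain ⟨hαH, -, -, -, hnil⟩ := Cfsg.Agent.S1405.result hG M hM
  -- every Sylow subgroup for a prime of σ(M) lies in M_σ
  have key : ∀ (p : ℕ) [Fact p.Prime] (R : Subgroup G), p ∈ Cfsg.sigma M →
      Cfsg.Agent.Lib.Helper24BG.IsSyl p R M → R ≤ Cfsg.sigmaCore M := by
    intro p _ R hp hR
    have hpp : p.Prime := Fact.out
    have hRd := Cfsg.Agent.Lib.Helper27BGb.syl_le_derived hG hM hp hR
    set A : Subgroup M := Cfsg.piCore (Cfsg.alpha M) M with hA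
    set f := QuotientGroup.mk' A with hf
    have hRd' : R.subgroupOf M ≤ commutator M := by
      intro x hx
      have h1 : (x : G) ∈ ⁅M, M⁆ := hRd (Subgroup.mem_subgroupOf.mp hx)
      have h2 : ⁅M, M⁆ = (commutator M).map M.subtype := by
        rw [commutator_def, Subgroup.map_commutator, ← MonoidHom.range_eq_map, Subgroup.range_subtype]
      rw [h2] at h1
      obtain ⟨y, hy, hyx⟩ := h1
      have : y = x := Subtype.ext hyx
      exact this ▸ hy
    have h3 : (R.subgroupOf M).map f ≤ Cfsg.pCore p (M ⧸ A) := by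
      apply gen p (M ⧸ A) ((commutator M).map f) _ _ hnil ((hR.2.1.comap_subtype).map f)
        (Subgroup.map_mono hRd')
      exact Subgroup.Normal.map inferInstance f (QuotientGroup.mk'_surjective A)
    set T : Subgroup M := (Cfsg.pCore p (M ⧸ A)).comap f with hT
    have hTn : T.Normal := Subgroup.Normal.comap inferInstance f
    have hRT : R.subgroupOf M ≤ T := Subgroup.map_le_iff_le_comap.mp h3
    have hTπ : ∀ q : ℕ, q.Prime → q ∣ Nat.card T → q ∈ Cfsg.sigma M := by
      intro q hq hqd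
      have hAT : A ≤ T := by
        intro a ha
        rw [hT, Subgroup.mem_comap]
        have : f a = 1 := (QuotientGroup.eq_one_iff a).mpr ha
        rw [this]; exact Subgroup.one_mem _
      have hcard : Nat.card T = Nat.card A * Nat.card (Cfsg.pCore p (M ⧸ A)) := by
        have h4 := Subgroup.card_mul_index (A.subgroupOf T)
        have h5 : Nat.card (A.subgroupOf T) = Nat.card A :=
          Nat.card_congr (Subgroup.subgroupOfEquivOfLe hAT).toEquiv
        have h6 : (A.subgroupOf T).index = Nat.card (Cfsg.pCore p (M ⧸ A)) := by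
          show A.relIndex T = _
          have h7 : A.relIndex T = (⊥ : Subgroup (M ⧸ A)).relIndex (Cfsg.pCore p (M ⧸ A)) := by
            have h8 : A = (⊥ : Subgroup (M ⧸ A)).comap f := by
              rw [MonoidHom.comap_bot, hf, QuotientGroup.ker_mk']
            conv_lhs => rw [h8, hT]
            rw [Subgroup.relIndex_comap,
              Subgroup.map_comap_eq_self_of_surjective (QuotientGroup.mk'_surjective A)]
          rw [h7, Subgroup.relIndex_bot_left]
        rw [← h4, h5, h6]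
      rw [hcard] at hqd
      rcases (Nat.Prime.dvd_mul hq).mp hqd with h | h
      · have : Fact q.Prime := ⟨hq⟩
        exact Cfsg.Agent.Lib.Helper27BGa.alpha_subset_sigma hG hM
          (Cfsg.Agent.Lib.Helper29Basic.card_piCore _ q hq h)
      · obtain ⟨k, hk⟩ := IsPGroup.iff_card.mp (Cfsg.Agent.Lib.Helper1Fitting.pCore_isPGroup (G := M ⧸ A) p)
        rw [hk] at h
        have : q = p := (Nat.prime_dvd_prime_iff_eq hq hpp).mp (hq.dvd_of_dvd_pow h)
        exact this ▸ hp
    have hTle : T ≤ Cfsg.piCore (Cfsg.sigma M) M := le_sSup ⟨hTn, hTπ⟩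
    intro x hx
    exact ⟨⟨x, hR.1 hx⟩, hTle (hRT (Subgroup.mem_subgroupOf.mpr hx)), rfl⟩
  have hle : Cfsg.sigmaCore M ≤ M := Subgroup.map_subtype_le _
  have hπ : ∀ p : ℕ, p.Prime → p ∣ Nat.card (Cfsg.sigmaCore M) → p ∈ Cfsg.sigma M :=
    Cfsg.Agent.Lib.Helper30Trans.card_piCoreOf (Cfsg.sigma M) M
  have hrel : ∀ p : ℕ, p.Prime → p ∈ Cfsg.sigma M → ¬ p ∣ (Cfsg.sigmaCore M).relIndex M := by
    intro p hpp hp hd
    have : Fact p.Prime := ⟨hpp⟩
    obtain ⟨R, hR, -⟩ := Cfsg.Agent.Lib.Helper24BG.exists_isSyl_ge (p := p)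
      (bot_le : (⊥ : Subgroup G) ≤ M) IsPGroup.of_bot
    have h1 := key p R hp hR
    have h2 : (Cfsg.sigmaCore M).relIndex M ∣ R.relIndex M :=
      Subgroup.relIndex_dvd_of_le_left M h1
    have h3 : ¬ p ∣ R.relIndex M := by
      have := hR.toSylow.not_dvd_index
      exact this
    exact h3 (hd.trans h2)
  refine ⟨⟨hle, hπ, hrel⟩, ⟨hπ, ?_⟩, ?_⟩
  · intro p hpp hp hd
    have : Fact p.Prime := ⟨hpp⟩
    obtain ⟨R, hR, -⟩ := Cfsg.Agent.Lib.Helper24BG.exists_isSyl_ge (p := p)
      (bot_le : (⊥ : Subgroup G) ≤ M) IsPGroup.of_bot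
    have h1 := key p R hp hR
    have hRt : Cfsg.Agent.Lib.Helper24BG.IsSyl p R ⊤ :=
      hR.top_of_normalizer_le (Cfsg.Agent.Lib.Helper27BGa.normalizer_le_of_mem_sigma hp hR)
    have h3 : ¬ p ∣ R.index := hRt.toSylowTop.not_dvd_index
    exact h3 (hd.trans (Subgroup.index_dvd_of_le h1))
  · intro N hMN hN
    have h1 : N ≤ Cfsg.sigmaCore M := Cfsg.Agent.Lib.Helper30Trans.le_piCoreOf hN.1 hMN hN.2.1
    apply le_antisymm h1
    rw [← Subgroup.relIndex_eq_one]
    by_contra hne
    obtain ⟨q, hq, hqd⟩ := Nat.exists_prime_and_dvd hne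
    have h2 : N.relIndex (Cfsg.sigmaCore M) ∣ Nat.card (Cfsg.sigmaCore M) := Subgroup.relIndex_dvd_card _ _
    have h3 : N.relIndex (Cfsg.sigmaCore M) ∣ N.relIndex M := Dvd.intro _ (Subgroup.relIndex_mul_relIndex _ _ _ h1 hle)
    exact hN.2.2 q hq (hπ q hq (hqd.trans h2)) (hqd.trans h3)

end Cfsg.Agent.S1350
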