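import Mathlib
import Cfsg.Statements.S1406
import Cfsg.Agent.Lib.Helper68BGC
import Cfsg.Agent.S1405
import Cfsg.Agent.S1443

set_option autoImplicit false
open Cfsg

namespace Cfsg.Agent.S1406

open Subgroup
open Cfsg.Agent.Lib.Helper30Trans
open Cfsg.Agent.Lib.Helper24BG
open Cfsg.Agent.Lib.Helper24BG2
open Cfsg.Agent.Lib.Helper68BGA
open Cfsg.Agent.Lib.Helper68BGB
open Cfsg.Agent.Lib.Helper68BGC

/-- a Sylow `p`-subgroup of `M_α`, `p ∈ α(M)`, is a Sylow subgroup of `M` -/
theorem isSyl_of_alphaCore {G : Type*} [Group G] [Finite G] (hG : Cfsg.IsMinSimpleOddOrder G)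
    {M : Subgroup G} (hM : IsCoatom M) {p : ℕ} [Fact p.Prime] (hp : p ∈ alpha M) {P : Subgroup G}
    (hP : IsSyl p P (alphaCore M)) : IsSyl p P M := by
  refine ⟨hP.1.trans (piCoreOf_le _ _), hP.2.1, ?_⟩
  intro Q hQM hQ hle
  apply hP.2.2 Q _ hQ hle
  have h1 := (Cfsg.Agent.S1405.result hG M hM).1.2.2 p Fact.out hp
  have hrel : (alphaCore M).relIndex M = (piCore (alpha M) M).index := by
    unfold alphaCore relIndex
    rw [subgroupOf, comap_map_eq_self_of_injective M.subtype_injective]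
  rw [hrel] at h1
  have h2 := Cfsg.Agent.Lib.Helper31PLength.pgroup_le_of_index_coprime (piCore (alpha M) M)
    (by rw [Nat.coprime_comm]; exact (Nat.Prime.coprime_iff_not_dvd Fact.out).mpr h1)
    (Q.subgroupOf M) hQ.comap_subtype
  intro x hx
  exact ⟨⟨x, hQM hx⟩, h2 (mem_subgroupOf.mpr hx), rfl⟩

/-- a Sylow `p`-subgroup of `M`, `p ∈ α(M)`, has rank at least three -/
theorem not_rank_of_isSyl {G : Type*} [Group G] [Finite G] {M : Subgroup G} {p : ℕ} [Fact p.Prime]
    (hp : p ∈ alpha M) {P : Subgroup G} (hP : IsSyl p P M) : ¬ PRankLE p 2 P := by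
  intro h
  apply hp.2
  apply Cfsg.Agent.Lib.Helper3NarrowApp.rank_of_sylow hP.toSylow
  exact Cfsg.Agent.Lib.Helper3RankTower.rank_of_injective (subgroupOfEquivOfLe hP.1).toMonoidHom
    (subgroupOfEquivOfLe hP.1).injective h

/-- Let G be a minimal simple group of odd order, M a maximal subgroup, and X a subgroup of M no prime divisor of whose order lies in α(M). If M_α ∩ C_G(X) has an elementary abelian subgroup of order p ^ 2 for some prime p, then C_M(X) is contained in exactly one maximal subgroup of G. -/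
theorem result {G : Type*} [Group G] [Finite G] (hG : Cfsg.IsMinSimpleOddOrder G)
    (M : Subgroup G) (hM : IsCoatom M) (X : Subgroup G) (hXM : X ≤ M) (hXα : ∀ p : ℕ, p.Prime → p ∣ Nat.card X → p ∉ Cfsg.alpha M)
    (hr : ¬ Cfsg.RankLE 1 ↥(Cfsg.alphaCore M ⊓ Subgroup.centralizer (X : Set G))) :
    Cfsg.InUniqueMaximal (M ⊓ Subgroup.centralizer (X : Set G)) := by
  unfold RankLE at hr
  push Not at hr
  obtain ⟨p, hpp, hr⟩ := hr
  have : Fact p.Prime := ⟨hpp⟩
  obtain ⟨B, hBle, hBe, hBc⟩ := exists_elemAb hr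
  have hBp : IsPGroup p B := isPGroup_of_elemAb hBe
  have hB1 : B ≠ ⊥ := by
    rintro rfl
    simp at hBc
    exact absurd hBc (by have := hpp.one_lt; omega)
  have hBα : B ≤ alphaCore M := hBle.trans inf_le_left
  have hBX : B ≤ centralizer (X : Set G) := hBle.trans inf_le_right
  have hαM : alphaCore M ≤ M := piCoreOf_le _ _
  have hpα : p ∈ alpha M := card_piCoreOf (alpha M) M p hpp (dvd_card_of_pgroup hBp hB1 hBα)
  have hp2 : p ≠ 2 := ne_two hG hBp hB1
  have hCtop : M ⊓ centralizer (X : Set G) ≠ ⊤ := fun h => hM.1 (top_le_iff.mp (h ▸ inf_le_left))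
  have hcop : (Nat.card X).Coprime (Nat.card (alphaCore M)) := by
    by_contra hc
    obtain ⟨q, hq, h1, h2⟩ := Nat.Prime.not_coprime_iff_dvd.mp hc
    exact hXα q hq h1 (card_piCoreOf (alpha M) M q hq h2)
  have hXN : X ≤ normalizer (alphaCore M : Set G) := hXM.trans (le_normalizer_piCoreOf _ _)
  have hαtop : alphaCore M ≠ ⊤ := fun h => hM.1 (top_le_iff.mp (h ▸ hαM))
  have hXB : X ≤ normalizer (B : Set G) := by
    refine le_trans ?_ (centralizer_le_normalizer _)
    exact le_centralizer_iff.mp hBX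
  obtain ⟨P₀, hBP, hXP⟩ := Cfsg.Agent.Lib.Helper1SylowInv.exists_invariant_sylow_ge X (alphaCore M) hXN
    hcop (Or.inr (sol hG hαtop)) p B hBα hBp hXB
  set P := (P₀ : Subgroup (alphaCore M)).map (alphaCore M).subtype with hPdef
  have hPs : IsSyl p P M := isSyl_of_alphaCore hG hM hpα (isSyl_of_sylow P₀)
  have hPr : ¬ PRankLE p 2 P := not_rank_of_isSyl hpα hPs
  have hXp : (Nat.card X).Coprime p := by
    rw [Nat.coprime_comm, Nat.Prime.coprime_iff_not_dvd hpp]
    intro hd
    exact hXα p hpp hd hpα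
  by_cases hy : ∃ y ∈ P ⊓ centralizer (B : Set G), orderOf y = p ∧ y ∉ B
  · obtain ⟨y, hyP, hyo, hyB⟩ := hy
    have hyp : y ^ p = 1 := by rw [← hyo]; exact pow_orderOf_eq_one y
    have hB'e := Cfsg.Agent.Lib.Helper14ElemAb.elemAb_sup_zpowers B hBe y hyP.2 hyp
    have hlt : B < B ⊔ zpowers y := by
      refine lt_of_le_of_ne le_sup_left ?_
      intro h
      apply hyB
      rw [h]
      exact mem_sup_right (mem_zpowers y)
    have hB'c : p ^ 2 < Nat.card (B ⊔ zpowers y : Subgroup G) := by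
      obtain ⟨i, hi⟩ := IsPGroup.iff_card.mp hBp
      obtain ⟨j, hj⟩ := IsPGroup.iff_card.mp (isPGroup_of_elemAb hB'e)
      have h1 : Nat.card B < Nat.card (B ⊔ zpowers y : Subgroup G) := by
        by_contra hcon
        push Not at hcon
        exact hlt.ne (Subgroup.eq_of_le_of_card_ge hlt.le hcon)
      rw [hi] at hBc h1
      rw [hj] at h1 ⊢
      have h2 : 1 < i := (Nat.pow_lt_pow_iff_right hpp.one_lt).mp hBc
      have h3 : i < j := (Nat.pow_lt_pow_iff_right hpp.one_lt).mp h1
      exact (Nat.pow_lt_pow_iff_right hpp.one_lt).mpr (by omega)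
    have hB'le : B ⊔ zpowers y ≤ centralizer (B : Set G) := by
      refine sup_le ?_ (by rw [zpowers_le]; exact hyP.2)
      intro b hb
      rw [mem_centralizer_iff]
      intro c hc
      exact congrArg Subtype.val (hBe.1.is_comm.comm ⟨c, hc⟩ ⟨b, hb⟩)
    have hU : InUniqueMaximal B := by
      apply Cfsg.Agent.S1403.result hG B (pgroup_ne_top hG hBp)
      · exact not_rankLE_of_elemAb hpp le_rfl hBe hBc
      · right
        exact not_rankLE_of_elemAb hpp hB'le hB'e hB'c
    exact uniq_mono hU (le_inf (hBα.trans hαM) hBX) hCtop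
  · push Not at hy
    have hXC : X ≤ centralizer (P : Set G) := by
      apply Cfsg.Agent.S1443.result p hp2 P B X hPs.2.1 hBP hBe hXP hXp
      intro x hx hxo
      have hxB : x ∈ B := hy x hx hxo
      intro a ha
      rw [mem_centralizer_iff]
      intro z hz
      rw [Set.mem_singleton_iff] at hz
      subst hz
      exact ((mem_centralizer_iff.mp (hBX hxB)) a ha).symm
    have hU : InUniqueMaximal P := uniq_of_rank3 hG (pgroup_ne_top hG hPs.2.1) hpp hPr
    exact uniq_mono hU (le_inf hPs.1 (le_centralizer_iff.mp hXC)) hCtop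

end Cfsg.Agent.S1406
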