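import Cfsg.Statements.S1407
import Cfsg.Agent.Lib.Helper27BGa
import Cfsg.Agent.S1406

set_option autoImplicit false
open Cfsg

namespace Cfsg.Agent.S1407

/-- Let G be a minimal simple group of odd order, M a maximal subgroup with M_α ≠ 1, p a prime dividing the order of M but not in σ(M), and P a Sylow p-subgroup of M. Then there is an element x of order p in the centre of P such that M_α ∩ C_G(x) has all Sylow subgroups cyclic and M is not the unique maximal subgroup of G containing C_G(x). -/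
theorem result {G : Type*} [Group G] [Finite G] (hG : Cfsg.IsMinSimpleOddOrder G)
    (M : Subgroup G) (hM : IsCoatom M) (hMα : Cfsg.alphaCore M ≠ ⊥) (p : ℕ) [Fact p.Prime] (hpM : p ∣ Nat.card M) (hp : p ∉ Cfsg.sigma M) (P : Sylow p M) :
    ∃ x : G, x ∈ ((Subgroup.center ↥(P : Subgroup M)).map (P : Subgroup M).subtype).map M.subtype ∧ orderOf x = p ∧
        IsZGroup ↥(Cfsg.alphaCore M ⊓ Subgroup.centralizer ({x} : Set G)) ∧
        ¬ (Subgroup.centralizer ({x} : Set G) ≤ M ∧ ∀ L : Subgroup G, IsCoatom L → Subgroup.centralizer ({x} : Set G) ≤ L → L = M) := by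
  classical
  have hpp : p.Prime := Fact.out
  set R : Subgroup G := (P : Subgroup M).map M.subtype with hRdef
  have hR : Cfsg.Agent.Lib.Helper24BG.IsSyl p R M := Cfsg.Agent.Lib.Helper24BG.isSyl_of_sylow P
  have hR1 : R ≠ ⊥ := by
    intro h
    have h1 : (P : Subgroup M) = ⊥ := by
      apply (Subgroup.map_eq_bot_iff_of_injective _ M.subtype_injective).mp
      exact h
    have h2 : p ∣ Nat.card (P : Subgroup M) := P.dvd_card_of_dvd_card hpM
    rw [h1, Subgroup.card_bot] at h2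
    exact hpp.one_lt.ne' (Nat.dvd_one.mp h2)
  -- elements of the ambient centre
  have hcen : ∀ x : G, x ∈ R ⊓ Subgroup.centralizer (R : Set G) →
      x ∈ ((Subgroup.center ↥(P : Subgroup M)).map (P : Subgroup M).subtype).map M.subtype := by
    rintro x ⟨⟨y, hy, rfl⟩, hxC⟩
    refine ⟨y, ⟨⟨y, hy⟩, ?_, rfl⟩, rfl⟩
    rw [SetLike.mem_coe, Subgroup.mem_center_iff]
    intro g
    apply Subtype.ext
    apply Subtype.ext
    exact (Subgroup.mem_centralizer_iff.mp hxC) _ ⟨g.1, g.2, rfl⟩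
  have hZ1 : R ⊓ Subgroup.centralizer (R : Set G) ≠ ⊥ :=
    Cfsg.Agent.Lib.Helper27Term2.inf_centralizer_ne_bot hR.2.1 hR.2.1 hR1 Subgroup.le_normalizer
  obtain ⟨x₀, hx₀, hx₀p⟩ := Cfsg.Agent.Lib.Helper27Term2.exists_order_p
    (hR.2.1.to_le inf_le_left) hZ1
  -- some central element of order p has the required non-uniqueness property
  have hex : ∃ x ∈ R ⊓ Subgroup.centralizer (R : Set G), orderOf x = p ∧
      ¬ (Subgroup.centralizer ({x} : Set G) ≤ M ∧
        ∀ L : Subgroup G, IsCoatom L → Subgroup.centralizer ({x} : Set G) ≤ L → L = M) := by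
    by_contra hcon
    push Not at hcon
    apply hp
    refine Cfsg.Agent.Lib.Helper27BGa.mem_sigma_of_isSyl hR hR1 ?_
    intro n hn
    have hnR : ∀ y, y ∈ R → n * y * n⁻¹ ∈ R := fun y hy => (Subgroup.mem_normalizer_iff.mp hn y).mp hy
    have hnR' : ∀ y, y ∈ R → n⁻¹ * y * n ∈ R := by
      intro y hy
      apply (Subgroup.mem_normalizer_iff.mp hn _).mpr
      have : n * (n⁻¹ * y * n) * n⁻¹ = y := by group
      rwa [this]
    have hy : n * x₀ * n⁻¹ ∈ R ⊓ Subgroup.centralizer (R : Set G) := by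
      refine ⟨hnR _ hx₀.1, ?_⟩
      show n * x₀ * n⁻¹ ∈ Subgroup.centralizer (R : Set G)
      rw [Subgroup.mem_centralizer_iff]
      intro r hr
      have h1 := (Subgroup.mem_centralizer_iff.mp hx₀.2) _ (hnR' r hr)
      calc r * (n * x₀ * n⁻¹) = n * ((n⁻¹ * r * n) * x₀) * n⁻¹ := by group
        _ = n * (x₀ * (n⁻¹ * r * n)) * n⁻¹ := by rw [h1]
        _ = n * x₀ * n⁻¹ * r := by group
    have hyp : orderOf (n * x₀ * n⁻¹) = p := by
      rw [← hx₀p]
      exact orderOf_injective (MulAut.conj n).toMonoidHom (MulAut.conj n).injective x₀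
    have h1 := hcon x₀ hx₀ hx₀p
    have h2 := hcon _ hy hyp
    have h3 : Cfsg.Agent.Lib.Helper30Trans.cj n M = M := by
      apply h2.2 _ (Cfsg.Agent.Lib.Helper24BG.isCoatom_cj hM n)
      intro c hc
      rw [Cfsg.Agent.Lib.Helper30Trans.mem_cj]
      apply h1.1
      rw [Subgroup.mem_centralizer_iff]
      intro z hz
      rw [Set.mem_singleton_iff] at hz
      subst hz
      have h4 := (Subgroup.mem_centralizer_iff.mp hc) (n * z * n⁻¹) rfl
      calc z * (n⁻¹ * c * n) = n⁻¹ * ((n * z * n⁻¹) * c) * n := by group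
        _ = n⁻¹ * (c * (n * z * n⁻¹)) * n := by rw [h4]
        _ = n⁻¹ * c * n * z := by group
    have h5 := Cfsg.Agent.Lib.Helper27BGa.mem_normalizer_of_cj_eq h3
    rwa [Cfsg.Agent.Lib.Helper27BGa.normalizer_coatom hG hM] at h5
  obtain ⟨x, hx, hxp, hxn⟩ := hex
  refine ⟨x, hcen x hx, hxp, ?_, hxn⟩
  have hx1 : x ≠ 1 := by
    rintro rfl
    rw [orderOf_one] at hxp
    exact hpp.one_lt.ne hxp
  have hxM : x ∈ M := hR.1 hx.1
  apply Cfsg.Agent.Lib.Helper27BGa.isZGroup_of_rank_one (Cfsg.Agent.Lib.Helper24BG.odd_sub hG _)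
  by_contra hr
  apply hxn
  have hu := Cfsg.Agent.S1406.result hG M hM (Subgroup.zpowers x) (Subgroup.zpowers_le.mpr hxM) ?_ ?_
  · rw [Cfsg.Agent.Lib.Helper27BGa.centralizer_zpowers_eq] at hu
    have hCt := Cfsg.Agent.Lib.Helper30Trans.centralizer_singleton_ne_top hG hx1
    refine ⟨Cfsg.Agent.Lib.Helper24BG.le_of_uniq hM inf_le_left hu inf_le_right hCt, ?_⟩
    intro L hL hCL
    obtain ⟨M', ⟨hM', hM'le⟩, huniq⟩ := hu
    rw [huniq L ⟨hL, inf_le_right.trans hCL⟩, huniq M ⟨hM, inf_le_left⟩]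
  · intro q hq hqd hqα
    rw [Nat.card_zpowers, hxp] at hqd
    have : q = p := (Nat.prime_dvd_prime_iff_eq hq hpp).mp hqd
    subst this
    exact hp (Cfsg.Agent.Lib.Helper27BGa.alpha_subset_sigma hG hM hqα)
  · rw [Cfsg.Agent.Lib.Helper27BGa.centralizer_zpowers_eq]
    exact hr

end Cfsg.Agent.S1407
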