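import Cfsg.Statements.S1410
import Cfsg.Agent.S1444
import Cfsg.Agent.S1405
import Cfsg.Agent.S1407
import Cfsg.Agent.S1450
import Cfsg.Agent.S1459
import Cfsg.Agent.Lib.Helper27PLenA
import Cfsg.Agent.Lib.Helper27PLenB
import Cfsg.Agent.Lib.Helper27PLenC
import Cfsg.Agent.Lib.Helper27BGa
import Cfsg.Agent.Lib.Helper27BGb

set_option autoImplicit false
open Cfsg

namespace Cfsg.Agent.S1410

open Subgroup Cfsg.Agent.Lib.Helper24BG Cfsg.Agent.Lib.Helper27BGa Cfsg.Agent.Lib.Helper27BGb

/-- a subgroup all of whose relevant Sylow subgroups lie in `D` lies in `D` -/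
theorem le_of_sylow_le {X : Type*} [Group X] [Finite X] (N D : Subgroup X)
    (h : ∀ t : ℕ, ∀ _ : Fact t.Prime, t ∣ Nat.card N → ∀ T : Sylow t X, (T : Subgroup X) ≤ D) :
    N ≤ D := by
  have hdvd : Nat.card N ∣ Nat.card (N ⊓ D : Subgroup X) := by
    rw [Nat.dvd_iff_prime_pow_dvd_dvd]
    intro t k ht hk
    have : Fact t.Prime := ⟨ht⟩
    rcases Nat.eq_zero_or_pos k with rfl | hkpos
    · simp
    have htN : t ∣ Nat.card N := (dvd_pow_self t hkpos.ne').trans hk
    obtain ⟨S⟩ : Nonempty (Sylow t N) := inferInstance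
    have hS : Nat.card S = t ^ (Nat.card N).factorization t := S.card_eq_multiplicity
    have h1 : t ^ k ∣ Nat.card S := by
      rw [hS]
      exact pow_dvd_pow t ((ht.pow_dvd_iff_le_factorization Nat.card_pos.ne').mp hk)
    have h2 : Nat.card ((S : Subgroup N).map N.subtype) = Nat.card S :=
      Nat.card_congr ((S : Subgroup N).equivMapOfInjective _ N.subtype_injective).symm.toEquiv
    obtain ⟨T, hT⟩ := (S.2.map N.subtype).exists_le_sylow
    have h3 : (S : Subgroup N).map N.subtype ≤ N ⊓ D :=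
      le_inf (map_subtype_le _) (hT.trans (h t inferInstance htN T))
    exact h1.trans (h2 ▸ card_dvd_of_le h3)
  have heq : N ⊓ D = N :=
    eq_of_le_of_card_ge inf_le_left (Nat.le_of_dvd Nat.card_pos hdvd)
  exact heq ▸ inf_le_right

/-- a complement of a normal Hall subgroup containing a given `q`-subgroup -/
theorem exists_complement_ge {X : Type*} [Group X] [Finite X] (A : Subgroup X) [A.Normal]
    (hcop : (Nat.card A).Coprime A.index) {q : ℕ} [Fact q.Prime] (hq : ¬ q ∣ Nat.card A)
    (Y : Subgroup X) (hY : IsPGroup q Y) : ∃ R : Subgroup X, IsComplement' A R ∧ Y ≤ R := by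
  obtain ⟨R₁, hR₁⟩ := exists_right_complement'_of_coprime hcop
  have hcard : Nat.card A * Nat.card R₁ = Nat.card X := hR₁.card_mul_card
  obtain ⟨S₁⟩ : Nonempty (Sylow q R₁) := inferInstance
  have hS' : Nat.card ((S₁ : Subgroup R₁).map R₁.subtype) = q ^ (Nat.card X).factorization q := by
    have h2 : Nat.card ((S₁ : Subgroup R₁).map R₁.subtype) = Nat.card S₁ :=
      Nat.card_congr ((S₁ : Subgroup R₁).equivMapOfInjective _ R₁.subtype_injective).symm.toEquiv
    rw [h2, S₁.card_eq_multiplicity, ← hcard,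
      Nat.factorization_mul Nat.card_pos.ne' Nat.card_pos.ne', Finsupp.add_apply,
      Nat.factorization_eq_zero_of_not_dvd hq, zero_add]
  let T₀ : Sylow q X := Sylow.ofCard _ hS'
  obtain ⟨T, hT⟩ := hY.exists_le_sylow
  obtain ⟨g, hg⟩ := MulAction.exists_smul_eq X T₀ T
  refine ⟨R₁.map (MulAut.conj g).toMonoidHom, ?_, ?_⟩
  · have hc : Nat.card (R₁.map (MulAut.conj g).toMonoidHom) = Nat.card R₁ :=
      Nat.card_congr (R₁.equivMapOfInjective _ (MulAut.conj g).injective).symm.toEquiv
    apply isComplement'_of_coprime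
    · rw [hc, hcard]
    · rw [hc, ← hR₁.symm.index_eq_card]; exact hcop
  · intro y hy
    have h1 : y ∈ ((g • T₀ : Sylow q X) : Subgroup X) := hg ▸ hT hy
    rw [Sylow.smul_def, Sylow.pointwise_smul_def, Subgroup.pointwise_smul_def] at h1
    obtain ⟨z, hz, rfl⟩ := h1
    exact ⟨z, map_subtype_le _ hz, rfl⟩

theorem plen_coatom {G : Type*} [Group G] [Finite G] (hG : Cfsg.IsMinSimpleOddOrder G) (p : ℕ)
    [Fact p.Prime] (M : Subgroup G) (hM : IsCoatom M) : Cfsg.PLengthLE p 1 M := by
  have hpp : p.Prime := Fact.out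
  have hsol : Group.IsSolvable M := sol hG hM.1
  have hodd : Odd (Nat.card M) := odd_sub hG M
  by_cases hpM : p ∣ Nat.card M
  swap
  · rw [Cfsg.Agent.Lib.Helper31PLength.pLengthLE_one_iff]
    exact Nat.Coprime.coprime_dvd_left (Subgroup.index_dvd_card _)
      ((Nat.Prime.coprime_iff_not_dvd hpp).mpr hpM).symm
  by_cases hr : PRankLE p 2 M
  · rw [Cfsg.Agent.Lib.Helper31PLength.pLengthLE_one_iff]
    exact (Cfsg.Agent.S1450.result hodd p hpM hr).2.2.2.2.2
  have hpα : p ∈ alpha M := ⟨hpp, hr⟩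
  obtain ⟨hHallM, -, -, -, -⟩ := Cfsg.Agent.S1405.result hG M hM
  set A : Subgroup M := piCore (alpha M) M with hA
  have hAmap : alphaCore M = A.map M.subtype := rfl
  have hcardA : Nat.card (alphaCore M) = Nat.card A :=
    Nat.card_congr (A.equivMapOfInjective _ M.subtype_injective).symm.toEquiv
  have hidxA : (alphaCore M).relIndex M = A.index := by
    rw [hAmap, Subgroup.relIndex, Subgroup.subgroupOf,
      Subgroup.comap_map_eq_self_of_injective M.subtype_injective]
  have hcop : (Nat.card A).Coprime A.index := by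
    apply Nat.coprime_of_dvd
    intro k hk hkA hkI
    exact hHallM.2.2 k hk (hHallM.2.1 k hk (hcardA ▸ hkA)) (hidxA ▸ hkI)
  have hsyl : ∀ (t : ℕ) (_ : Fact t.Prime), t ∈ sigma M → ∀ T : Sylow t M,
      (T : Subgroup M) ≤ commutator M := by
    intro t ht hts T
    have h1 := syl_le_derived hG hM hts (isSyl_of_sylow T)
    rw [← Subgroup.map_subtype_commutator] at h1
    exact (Subgroup.map_le_map_iff_of_injective M.subtype_injective).mp h1
  have hAder : A ≤ commutator M :=
    le_of_sylow_le A _ (fun t ht htA T =>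
      hsyl t ht (alpha_subset_sigma hG hM (hHallM.2.1 t ht.out (hcardA ▸ htA))) T)
  have hnt : Nontrivial M := by
    rw [← Finite.one_lt_card_iff_nontrivial]
    exact lt_of_lt_of_le hpp.one_lt (Nat.le_of_dvd Nat.card_pos hpM)
  obtain ⟨q, hqp, hqM, hqσ⟩ : ∃ q, q.Prime ∧ q ∣ Nat.card M ∧ q ∉ sigma M := by
    by_contra hcon
    push Not at hcon
    have h1 : (⊤ : Subgroup M) ≤ commutator M :=
      le_of_sylow_le ⊤ _ (fun t ht htT T => hsyl t ht (hcon t ht.out (by simpa using htT)) T)
    exact (Group.IsSolvable.commutator_lt_top_of_nontrivial M).ne (top_le_iff.mp h1)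
  have : Fact q.Prime := ⟨hqp⟩
  have hpA : ¬ p ∣ A.index := fun h => hHallM.2.2 p hpp hpα (hidxA ▸ h)
  have hMα : alphaCore M ≠ ⊥ := by
    intro h
    have h1 : Nat.card A = 1 := by rw [← hcardA, h]; simp
    have h2 := A.card_mul_index
    rw [h1, one_mul] at h2
    exact hpA (h2 ▸ hpM)
  obtain ⟨Q⟩ : Nonempty (Sylow q M) := inferInstance
  obtain ⟨x, hxmem, hxord, hxZ, -⟩ := Cfsg.Agent.S1407.result hG M hM hMα q hqM hqσ Q
  obtain ⟨x', -, rfl⟩ := hxmem
  have hqA : ¬ q ∣ Nat.card A := fun h =>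
    hqσ (alpha_subset_sigma hG hM (hHallM.2.1 q hqp (hcardA ▸ h)))
  have hx'ord : orderOf x' = q := by rw [← hxord]; exact (Subgroup.orderOf_coe x').symm
  have hY : IsPGroup q (zpowers x') := by
    apply IsPGroup.of_card (n := 1)
    rw [Nat.card_zpowers, hx'ord, pow_one]
  obtain ⟨R, hR, hxR⟩ := exists_complement_ge A hcop hqA (zpowers x') hY
  have hAR : A = ⁅A, R⁆ :=
    ((Cfsg.Agent.S1459.result (G := M)).1 A R inferInstance hcop hR hAder).1
  have hZ : IsZGroup ↥(A ⊓ centralizer ((zpowers x' : Subgroup M) : Set M)) := by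
    let f : ↥(A ⊓ centralizer ((zpowers x' : Subgroup M) : Set M)) →*
        ↥(alphaCore M ⊓ centralizer ({(M.subtype x' : G)} : Set G)) :=
      { toFun := fun y => ⟨(y.1 : G), ⟨⟨y.1, y.2.1, rfl⟩, by
          show ((y.1 : M) : G) ∈ centralizer ({(M.subtype x' : G)} : Set G)
          rw [mem_centralizer_iff]
          intro z hz
          rw [Set.mem_singleton_iff] at hz
          subst hz
          have := (mem_centralizer_iff.mp y.2.2) x' (mem_zpowers x')
          exact congrArg Subtype.val this⟩⟩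
        map_one' := rfl
        map_mul' := fun _ _ => rfl }
    have hf : Function.Injective f := by
      intro a b hab
      have h1 : ((a.1 : M) : G) = ((b.1 : M) : G) := congrArg (fun z => (z.1 : G)) hab
      exact Subtype.ext (Subtype.ext h1)
    exact IsZGroup.of_injective hf
  have h1 := Cfsg.Agent.S1444.result hodd A R (zpowers x') hcop hR hxR
    (by rw [Nat.card_zpowers, hx'ord]; exact hqp) hZ p
  rw [← hAR] at h1
  exact Cfsg.Agent.Lib.Helper27PLenB.plen_of_normal p A
    ((Nat.Prime.coprime_iff_not_dvd hpp).mpr hpA).symm h1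

/-- Let G be a minimal simple group of odd order. Then for every prime p and every proper subgroup H of G, H = O_{p',p,p'}(H). -/
theorem result {G : Type*} [Group G] [Finite G] (hG : Cfsg.IsMinSimpleOddOrder G) (p : ℕ) [Fact p.Prime] (H : Subgroup G) (hH : H ≠ ⊤) :
    Cfsg.PLengthLE p 1 H := by
  obtain ⟨M, hM, hHM⟩ := exists_coatom hH
  have key := plen_coatom hG p M hM
  exact Cfsg.Agent.Lib.Helper27PLenC.plen_congr (Subgroup.subgroupOfEquivOfLe hHM) p
    (Cfsg.Agent.Lib.Helper27PLenA.plen_subgroup p key (H.subgroupOf M))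

end Cfsg.Agent.S1410
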