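import Cfsg.Statements.S1411
import Cfsg.Agent.S1410
import Cfsg.Agent.S1461
import Cfsg.Agent.S1459
import Cfsg.Agent.Lib.Helper27BGb

set_option autoImplicit false
open Cfsg

namespace Cfsg.Agent.S1411

/-- Let G be a minimal simple group of odd order, p a prime, P a Sylow p-subgroup of G and V a complement to P in its normalizer N_G(P). Then P equals the commutator subgroup [P, V], and P is contained in the derived subgroup of N_G(P). -/
theorem result {G : Type*} [Group G] [Finite G] (hG : Cfsg.IsMinSimpleOddOrder G) (p : ℕ) [Fact p.Prime] (P : Sylow p G)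
    (V : Subgroup G) (hV : Cfsg.IsComplIn (P : Subgroup G) V (Subgroup.normalizer ((P : Subgroup G) : Set G))) :
    (P : Subgroup G) = ⁅(P : Subgroup G), V⁆ ∧
      (P : Subgroup G) ≤ ⁅Subgroup.normalizer ((P : Subgroup G) : Set G), Subgroup.normalizer ((P : Subgroup G) : Set G)⁆ := by
  classical
  have hpp : p.Prime := Fact.out
  by_cases hP0 : (P : Subgroup G) = ⊥
  · rw [hP0]
    exact ⟨(Subgroup.commutator_bot_left V).symm, bot_le⟩
  set N : Subgroup G := Subgroup.normalizer ((P : Subgroup G) : Set G) with hN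
  have hPtop : (P : Subgroup G) ≠ ⊤ := Cfsg.Agent.Lib.Helper24BG.pgroup_ne_top hG P.2
  have hNtop : N ≠ ⊤ := Cfsg.Agent.Lib.Helper24BG.norm_ne_top hG hP0 hPtop
  have hPN : (P : Subgroup G) ≤ N := Subgroup.le_normalizer
  obtain ⟨M, hM, hNM⟩ := Cfsg.Agent.Lib.Helper24BG.exists_coatom hNtop
  have hsyl : Cfsg.Agent.Lib.Helper24BG.IsSyl p (P : Subgroup G) M :=
    (Cfsg.Agent.Lib.Helper24BG.isSyl_top P).mono (hPN.trans hNM) le_top
  have hsig := Cfsg.Agent.Lib.Helper27BGa.mem_sigma_of_isSyl hsyl hP0 hNM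
  have hder := Cfsg.Agent.Lib.Helper27BGb.syl_le_derived hG hM hsig hsyl
  -- step 1 : `P ≤ N'`
  have key : (P : Subgroup G) ≤ ⁅N, N⁆ := by
    have hsolM : Group.IsSolvable ↥M := hG.2.2.2 M hM.1
    have hpl := Cfsg.Agent.S1410.result hG p M hM.1
    have h1 := (Cfsg.Agent.S1461.result p hpl hsyl.toSylow).1
    have h2 : ((hsyl.toSylow : Sylow p ↥M) : Subgroup ↥M) ≤ commutator ↥M := by
      intro x hx
      have hx' : (x : G) ∈ (P : Subgroup G) := hx
      have h3 := hder hx'
      rw [← Subgroup.map_subtype_commutator] at h3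
      obtain ⟨y, hy, hyx⟩ := h3
      have : y = x := Subtype.ext hyx
      exact this ▸ hy
    have h3 := Subgroup.map_mono (f := M.subtype) (h1 h2)
    rw [hsyl.map_toSylow, Subgroup.map_commutator] at h3
    have h4 : (Subgroup.normalizer (((hsyl.toSylow : Sylow p ↥M) : Subgroup ↥M) : Set ↥M)).map
        M.subtype ≤ N := by
      have := Subgroup.le_normalizer_map (H := ((hsyl.toSylow : Sylow p ↥M) : Subgroup ↥M)) M.subtype
      rwa [hsyl.map_toSylow] at this
    exact h3.trans (Subgroup.commutator_mono h4 h4)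
  refine ⟨?_, key⟩
  -- step 2 : `P = [P, V]`
  obtain ⟨_, hVN, hPV, hprod⟩ := hV
  have hsolN : Group.IsSolvable ↥N := hG.2.2.2 N hNtop
  have hHn : ((P : Subgroup G).subgroupOf N).Normal := Subgroup.normal_in_normalizer
  have hcop : (Nat.card ((P : Subgroup G).subgroupOf N)).Coprime
      ((P : Subgroup G).subgroupOf N).index := by
    have hpg : IsPGroup p ↥((P : Subgroup G).subgroupOf N) := P.2.comap_subtype (K := N)
    obtain ⟨k, hk⟩ := IsPGroup.iff_card.mp hpg
    rw [hk]
    apply Nat.Coprime.pow_left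
    rw [Nat.Prime.coprime_iff_not_dvd hpp]
    intro hd
    have h1 : ((P : Subgroup G).subgroupOf N).index ∣ (P : Subgroup G).index :=
      Dvd.intro _ (Subgroup.relIndex_mul_index hPN)
    exact P.not_dvd_index (hd.trans h1)
  have hcompl : Subgroup.IsComplement' ((P : Subgroup G).subgroupOf N) (V.subgroupOf N) := by
    apply Subgroup.isComplement'_of_disjoint_and_mul_eq_univ
    · rw [disjoint_iff, eq_bot_iff]
      intro x hx
      have h1 : (x : G) ∈ (P : Subgroup G) ⊓ V := ⟨hx.1, hx.2⟩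
      rw [hPV, Subgroup.mem_bot] at h1
      exact Subgroup.mem_bot.2 (Subtype.ext h1)
    · rw [Set.eq_univ_iff_forall]
      intro x
      obtain ⟨a, ha, b, hb, hab⟩ := hprod x.1 x.2
      exact ⟨⟨a, hPN ha⟩, ha, ⟨b, hVN hb⟩, hb, Subtype.ext hab.symm⟩
  have hle : (P : Subgroup G).subgroupOf N ≤ commutator ↥N := by
    intro x hx
    have hx' : (x : G) ∈ (P : Subgroup G) := hx
    have h3 := key hx'
    rw [← Subgroup.map_subtype_commutator] at h3
    obtain ⟨y, hy, hyx⟩ := h3
    have : y = x := Subtype.ext hyx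
    exact this ▸ hy
  have h5 := ((Cfsg.Agent.S1459.result (G := ↥N)).1 _ _ hHn hcop hcompl hle).1
  have h6 := congrArg (Subgroup.map N.subtype) h5
  rwa [Subgroup.map_commutator, Subgroup.subgroupOf_map_subtype, Subgroup.subgroupOf_map_subtype,
    inf_eq_left.2 hPN, inf_eq_left.2 hVN] at h6

end Cfsg.Agent.S1411
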