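import Cfsg.Statements.S1408
import Cfsg.Agent.Lib.Helper27BGa

set_option autoImplicit false
open Cfsg

namespace Cfsg.Agent.S1408

/-- Let G be a minimal simple group of odd order, M a maximal subgroup, and p a prime not in σ(M) such that M has p-rank exactly 2. Then p is not an ideal prime for G, and every elementary abelian subgroup of M of order p ^ 2 is maximal among elementary abelian p-subgroups of G. -/
theorem result {G : Type*} [Group G] [Finite G] (hG : Cfsg.IsMinSimpleOddOrder G)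
    (M : Subgroup G) (hM : IsCoatom M) (p : ℕ) [Fact p.Prime] (hp : p ∉ Cfsg.sigma M) (hr2 : Cfsg.PRankLE p 2 M) (hr1 : ¬ Cfsg.PRankLE p 1 M) :
    ¬ Cfsg.IsIdealPrime p G ∧ ∀ A : Subgroup G, A ≤ M → Cfsg.IsElementaryAbelian p A → Nat.card A = p ^ 2 →
        ∀ B : Subgroup G, Cfsg.IsElementaryAbelian p B → A ≤ B → B = A := by
  classical
  have hpp : p.Prime := Fact.out
  have key : ∀ A : Subgroup G, A ≤ M → Cfsg.IsElementaryAbelian p A → Nat.card A = p ^ 2 →
        ∀ B : Subgroup G, Cfsg.IsElementaryAbelian p B → A ≤ B → B = A := by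
    intro A hAM hA hAc B hB hAB
    by_contra hne
    have hlt : A < B := lt_of_le_of_ne hAB (Ne.symm hne)
    have hcard : p ^ 2 < Nat.card B := by
      rw [← hAc]
      exact Cfsg.Agent.Lib.Helper27Basic.card_lt_of_lt hlt
    have hAp := Cfsg.Agent.Lib.Helper24BG.isPGroup_of_elemAb hA
    have hA1 : A ≠ ⊥ := by
      rintro rfl
      rw [Subgroup.card_bot] at hAc
      have : 1 < p ^ 2 := Nat.one_lt_pow (by norm_num) hpp.one_lt
      omega
    have hAt := Cfsg.Agent.Lib.Helper24BG.pgroup_ne_top hG hAp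
    have hBC : B ≤ Subgroup.centralizer (A : Set G) := by
      intro b hb
      rw [Subgroup.mem_centralizer_iff]
      intro a ha
      exact congrArg Subtype.val (hB.1.is_comm.comm ⟨a, hAB ha⟩ ⟨b, hb⟩)
    have hu : Cfsg.InUniqueMaximal A := by
      refine Cfsg.Agent.S1403.result hG A hAt ?_ (Or.inr ?_)
      · refine Cfsg.Agent.Lib.Helper24BG2.not_rankLE_of_elemAb hpp le_rfl hA ?_
        rw [hAc]
        exact Nat.pow_lt_pow_right hpp.one_lt (by norm_num)
      · exact Cfsg.Agent.Lib.Helper24BG2.not_rankLE_of_elemAb hpp hBC hB hcard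
    obtain ⟨R, hR, hAR⟩ := Cfsg.Agent.Lib.Helper24BG.exists_isSyl_ge hAM hAp
    have hR1 : R ≠ ⊥ := fun h => hA1 (le_bot_iff.mp (h ▸ hAR))
    have hRt := Cfsg.Agent.Lib.Helper24BG.pgroup_ne_top hG hR.2.1
    apply hp
    refine Cfsg.Agent.Lib.Helper27BGa.mem_sigma_of_isSyl hR hR1 ?_
    exact Cfsg.Agent.Lib.Helper24BG.le_of_uniq hM hAM hu (hAR.trans Subgroup.le_normalizer)
      (Cfsg.Agent.Lib.Helper24BG.norm_ne_top hG hR1 hRt)
  refine ⟨?_, key⟩
  rintro ⟨-, -, hid⟩
  obtain ⟨A, hAM, hA, hAc⟩ := Cfsg.Agent.Lib.Helper24BG.exists_elemAb hr1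
  have hAp := Cfsg.Agent.Lib.Helper24BG.isPGroup_of_elemAb hA
  have hAc2 : Nat.card A = p ^ 2 := by
    obtain ⟨k, hk⟩ := IsPGroup.iff_card.mp hAp
    have h2 : Nat.card A ≤ p ^ 2 := by
      by_contra hcon
      exact Cfsg.Agent.Lib.Helper24BG.not_rank_of_elemAb hAM hA (not_le.mp hcon) hr2
    rw [hk] at hAc h2 ⊢
    have h3 : 1 < k := (Nat.pow_lt_pow_iff_right hpp.one_lt).mp hAc
    have h4 : k ≤ 2 := (Nat.pow_le_pow_iff_right hpp.one_lt).mp h2
    have : k = 2 := by omega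
    rw [this]
  obtain ⟨P, hP⟩ := hAp.exists_le_sylow
  obtain ⟨B, -, hB, hlt⟩ := hid P A hP hA hAc2
  exact hlt.ne (key A hAM hA hAc2 B hB hlt.le).symm

end Cfsg.Agent.S1408
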