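import Cfsg.Statements.S1412
import Cfsg.Agent.Lib.Helper24BG
import Cfsg.Agent.Lib.Helper89PCube
import Cfsg.Agent.Lib.Helper68BGC
import Cfsg.Agent.S1411
import Cfsg.Agent.S1448

set_option autoImplicit false
open Cfsg

namespace Cfsg.Agent.S1412

open Subgroup
open Cfsg.Agent.Lib.Helper24BG

/-- a Sylow subgroup has a complement in its normalizer -/
theorem exists_compl {G : Type*} [Group G] [Finite G] (p : ℕ) [Fact p.Prime] (P : Sylow p G) :
    ∃ V : Subgroup G, IsComplIn (P : Subgroup G) V (normalizer ((P : Subgroup G) : Set G)) ∧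
      (Nat.card V).Coprime p := by
  set N := normalizer ((P : Subgroup G) : Set G) with hN
  have hn : ((P : Subgroup G).subgroupOf N).Normal := normal_in_normalizer
  have hcop : (Nat.card ((P : Subgroup G).subgroupOf N)).Coprime ((P : Subgroup G).subgroupOf N).index :=
    (P.subtype le_normalizer).card_coprime_index
  obtain ⟨H, hH⟩ := exists_right_complement'_of_coprime hcop
  refine ⟨H.map N.subtype, ⟨le_normalizer, map_subtype_le H, ?_, ?_⟩, ?_⟩
  · rw [eq_bot_iff]
    rintro x ⟨hxP, y, hy, rfl⟩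
    have h1 : y ∈ (P : Subgroup G).subgroupOf N ⊓ H := ⟨mem_subgroupOf.mpr hxP, hy⟩
    rw [hH.disjoint.eq_bot, mem_bot] at h1
    rw [h1]; exact one_mem _
  · intro m hm
    obtain ⟨⟨a, b⟩, hab⟩ := hH.2 ⟨m, hm⟩
    refine ⟨a.1.1, mem_subgroupOf.mp a.2, b.1.1, ⟨b.1, b.2, rfl⟩, ?_⟩
    exact (congrArg Subtype.val hab).symm
  · rw [card_map_of_injective N.subtype_injective]
    have h1 := hH.card_mul_card
    have h2 := ((P : Subgroup G).subgroupOf N).card_mul_index
    have h3 : Nat.card H = ((P : Subgroup G).subgroupOf N).index :=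
      Nat.eq_of_mul_eq_mul_left Nat.card_pos (h1.trans h2.symm)
    rw [h3]
    exact ((Nat.Prime.coprime_iff_not_dvd Fact.out).mpr (P.subtype le_normalizer).not_dvd_index).symm

/-- Let G be a minimal simple group of odd order, p a prime and P a Sylow p-subgroup of G with no elementary abelian subgroup of order p ^ 3. Then either P is abelian, or P is generated by two elementwise-commuting subgroups P₁, P₂ with P₁ nonabelian of order p ^ 3 and exponent p, P₂ cyclic, and the elements of P₂ of order dividing p generating exactly the centre of P₁. -/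
theorem result {G : Type*} [Group G] [Finite G] (hG : Cfsg.IsMinSimpleOddOrder G) (p : ℕ) [Fact p.Prime] (P : Sylow p G) (hr : Cfsg.PRankLE p 2 (P : Subgroup G)) :
    IsMulCommutative (P : Subgroup G) ∨ ∃ P₁ P₂ : Subgroup G, P₁ ⊔ P₂ = (P : Subgroup G) ∧ (∀ a ∈ P₁, ∀ b ∈ P₂, a * b = b * a) ∧
        ¬ IsMulCommutative P₁ ∧ Nat.card P₁ = p ^ 3 ∧ Monoid.exponent P₁ = p ∧ IsCyclic P₂ ∧
        Subgroup.closure {x : G | x ∈ P₂ ∧ x ^ p = 1} = P₁ ⊓ Subgroup.centralizer (P₁ : Set G) := by
  by_cases hP1 : (P : Subgroup G) = ⊥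
  · left
    rw [hP1]
    exact ⟨⟨fun a b => Subsingleton.elim _ _⟩⟩
  have hp2 : p ≠ 2 := ne_two hG P.2 hP1
  obtain ⟨V, hV, hVp⟩ := exists_compl p P
  have h11 := Cfsg.Agent.S1411.result hG p P V hV
  have h48 := Cfsg.Agent.S1448.result p hp2 (P : Subgroup G) V P.2 hP1 hr hV.2.1 hVp (odd_sub hG V)
    h11.1.symm
  rcases h48.2 with h | ⟨R₁, R₂, h1, h2, h3, h4, h5, h6, h7⟩
  · exact Or.inl h
  · refine Or.inr ⟨R₁, R₂, h1, h2, h3, h4, h5, h6, ?_⟩
    rw [h7]
    have hnc : ∃ a b : R₁, a * b ≠ b * a := by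
      by_contra hcon
      apply h3
      refine ⟨⟨fun a b => ?_⟩⟩
      by_contra hab
      exact hcon ⟨a, b, hab⟩
    have h8 := (Cfsg.Agent.Lib.Helper89PCube.isExtraspecial_of_card_cube h4 hnc).1.2.2
    rw [← Cfsg.Agent.Lib.Helper68BGC.map_commutator_subtype, h8]
    ext x
    constructor
    · rintro ⟨y, hy, rfl⟩
      refine ⟨y.2, ?_⟩
      show (y : G) ∈ centralizer (R₁ : Set G)
      rw [mem_centralizer_iff]
      intro z hz
      exact congrArg Subtype.val (mem_center_iff.mp hy ⟨z, hz⟩)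
    · rintro ⟨hx1, hx2⟩
      refine ⟨⟨x, hx1⟩, ?_, rfl⟩
      rw [SetLike.mem_coe, mem_center_iff]
      intro z
      apply Subtype.ext
      exact mem_centralizer_iff.mp hx2 z z.2

end Cfsg.Agent.S1412
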