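import Cfsg.Statements.S1409
import Cfsg.Agent.S1408

set_option autoImplicit false
open Cfsg

namespace Cfsg.Agent.S1409

/-- Let G be a minimal simple group of odd order, M a maximal subgroup, p a prime not in σ(M), and X a subgroup of order p with N_G(X) ≤ M. Then M has p-rank exactly 2, p is not an ideal prime for G, and X is contained in some elementary abelian subgroup of G of order p ^ 2. -/
theorem result {G : Type*} [Group G] [Finite G] (hG : Cfsg.IsMinSimpleOddOrder G)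
    (M : Subgroup G) (hM : IsCoatom M) (p : ℕ) [Fact p.Prime] (hp : p ∉ Cfsg.sigma M) (X : Subgroup G) (hX : Nat.card X = p)
    (hNX : Subgroup.normalizer (X : Set G) ≤ M) :
    (Cfsg.PRankLE p 2 M ∧ ¬ Cfsg.PRankLE p 1 M) ∧ ¬ Cfsg.IsIdealPrime p G ∧
      ∃ A : Subgroup G, Cfsg.IsElementaryAbelian p A ∧ Nat.card A = p ^ 2 ∧ X ≤ A := by
  classical
  have hpp : p.Prime := Fact.out
  have hXp : IsPGroup p X := IsPGroup.of_card (n := 1) (by rw [hX, pow_one])
  have hX1 : X ≠ ⊥ := by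
    rintro rfl
    rw [Subgroup.card_bot] at hX
    exact hpp.one_lt.ne hX
  have hp2 : p ≠ 2 := Cfsg.Agent.Lib.Helper24BG.ne_two hG hXp hX1
  have hXM : X ≤ M := Subgroup.le_normalizer.trans hNX
  obtain ⟨R, hR, hXR⟩ := Cfsg.Agent.Lib.Helper24BG.exists_isSyl_ge hXM hXp
  have hR1 : R ≠ ⊥ := fun h => hX1 (le_bot_iff.mp (h ▸ hXR))
  have hr2 : Cfsg.PRankLE p 2 M := by
    by_contra h
    exact hp (Cfsg.Agent.Lib.Helper27BGa.alpha_subset_sigma hG hM ⟨hpp, h⟩)
  have hRnc : ¬ IsCyclic R := by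
    intro hc
    apply hp
    exact Cfsg.Agent.Lib.Helper27BGa.mem_sigma_of_isSyl hR hR1
      ((Cfsg.Agent.Lib.Helper27BGa.normalizer_le_of_cyclic hc hXR).trans hNX)
  have hr1 : ¬ Cfsg.PRankLE p 1 M := by
    intro h
    exact hRnc (Cfsg.Agent.Lib.Helper27BGa.cyclic_of_rank_one hp2 hR.2.1
      (Cfsg.Agent.Lib.Helper24BG.rank_le_of_le hR.1 h))
  refine ⟨⟨hr2, hr1⟩, (Cfsg.Agent.S1408.result hG M hM p hp hr2 hr1).1, ?_⟩
  obtain ⟨W, hWR, hWn, hW, hWc⟩ := Cfsg.Agent.Lib.Helper24BG2.exists_normal_sq hp2 hR.2.1 hRnc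
  by_cases hXW : X ≤ W
  · exact ⟨W, hW, hWc, hXW⟩
  have hWp := Cfsg.Agent.Lib.Helper24BG.isPGroup_of_elemAb hW
  have hW1 : W ≠ ⊥ := by
    rintro rfl
    rw [Subgroup.card_bot] at hWc
    have : 1 < p ^ 2 := Nat.one_lt_pow (by norm_num) hpp.one_lt
    omega
  have hne := Cfsg.Agent.Lib.Helper27Term2.inf_centralizer_ne_bot hR.2.1 hWp hW1 hWn
  obtain ⟨z, hz1⟩ := Subgroup.ne_bot_iff_exists_ne_one.mp hne
  have hzW : (z : G) ∈ W := z.2.1
  have hzC : (z : G) ∈ Subgroup.centralizer (R : Set G) := z.2.2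
  have hz1' : (z : G) ≠ 1 := fun h => hz1 (Subtype.ext h)
  have hXe : Cfsg.IsElementaryAbelian p X := by
    have : IsCyclic X := isCyclic_of_prime_card (p := p) hX
    refine ⟨⟨⟨fun a b => ?_⟩⟩, ?_⟩
    · exact (IsCyclic.commGroup (α := X)).mul_comm a b
    · intro a ha
      have h1 : (⟨a, ha⟩ : X) ^ Nat.card X = 1 := pow_card_eq_one'
      rw [hX] at h1
      exact congrArg Subtype.val h1
  have hZe : Cfsg.IsElementaryAbelian p (Subgroup.zpowers (z : G)) :=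
    Cfsg.Agent.Lib.Helper13Thompson.el_zpowers (hW.2 _ hzW)
  have hAe : Cfsg.IsElementaryAbelian p (X ⊔ Subgroup.zpowers (z : G)) := by
    apply Cfsg.Agent.Lib.Helper13Offender.isElementaryAbelian_sup hXe hZe
    intro h hh k hk
    obtain ⟨n, rfl⟩ := Subgroup.mem_zpowers_iff.mp hk
    have h1 : Commute h (z : G) := (Subgroup.mem_centralizer_iff.mp hzC) h (hXR hh)
    exact (h1.zpow_right n)
  have hzX : (z : G) ∉ X := by
    intro hzX
    apply hXW
    -- X is generated by z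
    have h1 : Subgroup.zpowers (z : G) ≤ X := Subgroup.zpowers_le.mpr hzX
    have h2 : Nat.card (Subgroup.zpowers (z : G)) = p := by
      rw [Nat.card_zpowers]
      exact orderOf_eq_prime (hW.2 _ hzW) hz1'
    have h3 : Subgroup.zpowers (z : G) = X :=
      Subgroup.eq_of_le_of_card_ge h1 (by rw [h2, hX])
    rw [← h3]
    exact Subgroup.zpowers_le.mpr hzW
  refine ⟨X ⊔ Subgroup.zpowers (z : G), hAe, ?_, le_sup_left⟩
  have hAM : X ⊔ Subgroup.zpowers (z : G) ≤ M :=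
    sup_le hXM (Subgroup.zpowers_le.mpr (hR.1 (hWR hzW)))
  have hlt : X < X ⊔ Subgroup.zpowers (z : G) := by
    refine lt_of_le_of_ne le_sup_left ?_
    intro h
    apply hzX
    rw [h]
    exact (le_sup_right : Subgroup.zpowers (z : G) ≤ _) (Subgroup.mem_zpowers _)
  have hc1 := Cfsg.Agent.Lib.Helper27Basic.card_lt_of_lt hlt
  obtain ⟨k, hk⟩ := IsPGroup.iff_card.mp (Cfsg.Agent.Lib.Helper24BG.isPGroup_of_elemAb hAe)
  have h2 : Nat.card ↥(X ⊔ Subgroup.zpowers (z : G)) ≤ p ^ 2 := by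
    by_contra hcon
    exact Cfsg.Agent.Lib.Helper24BG.not_rank_of_elemAb hAM hAe (not_le.mp hcon) hr2
  rw [hX] at hc1
  rw [hk] at hc1 h2 ⊢
  have h3 : 1 < k := by
    apply (Nat.pow_lt_pow_iff_right hpp.one_lt).mp
    rwa [pow_one]
  have h4 : k ≤ 2 := (Nat.pow_le_pow_iff_right hpp.one_lt).mp h2
  have : k = 2 := by omega
  rw [this]

end Cfsg.Agent.S1409
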