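import Cfsg.Statements.S0033
import Cfsg.Agent.Lib.Helper24Fpf

set_option autoImplicit false
open Cfsg

namespace Cfsg.Agent.S0033

/-- Thompson's Theorem on fixed-point-free automorphisms: a finite group with an automorphism of prime order fixing only the identity is nilpotent. -/
theorem result {G : Type*} [Group G] [Finite G] (φ : G ≃* G)
    (hφ : MonoidHom.FixedPointFree (φ : G →* G)) (p : ℕ) (hp : p.Prime) (hord : orderOf φ = p) :
    Group.IsNilpotent G := by
  apply Cfsg.Agent.Lib.Helper24Fpf.nilpotent_of_fp hp (φ : G →* G)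
  refine ⟨fun x hx => hφ x hx, fun x => ?_⟩
  have h1 : φ ^ p = 1 := by rw [← hord]; exact pow_orderOf_eq_one φ
  have h2 : ∀ k : ℕ, (φ ^ k) x = (φ : G →* G)^[k] x := by
    intro k
    induction k with
    | zero => rfl
    | succ n ih =>
      rw [pow_succ', Function.iterate_succ_apply', ← ih]
      rfl
  rw [← h2, h1]
  rfl

end Cfsg.Agent.S0033
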