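import Cfsg.Statements.S1416
import Cfsg.Agent.Lib.Helper15BGCyccent
import Cfsg.Agent.Lib.Helper14BGL123
import Cfsg.Agent.Lib.Helper14ElemAb
import Cfsg.Agent.Lib.Helper30Hyp
import Cfsg.Agent.Lib.Helper30Coprime
import Cfsg.Agent.Lib.Helper68BGC
import Cfsg.Agent.Lib.Helper27BGa
import Cfsg.Agent.Lib.Helper2KWa

set_option autoImplicit false
open Cfsg

namespace Cfsg.Agent.S1416

set_option linter.unusedSectionVars false

open Subgroup
open Cfsg.Agent.Lib Cfsg.Agent.Lib.Helper30Trans Cfsg.Agent.Lib.Helper24BG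
open Cfsg.Agent.Lib.Helper2BGDefs Cfsg.Agent.Lib.Helper14BGL123
open Cfsg.Agent.Lib.Helper15BGCyccent (rank_cent)

section aux

variable {G : Type*} [Group G] [Finite G]

/-- a subgroup of order `p` in a nontrivial group of exponent `p` -/
theorem exists_order_p {p : ℕ} [hp : Fact p.Prime] {B : Subgroup G} (hB : ∀ a ∈ B, a ^ p = 1)
    (h1 : B ≠ ⊥) : ∃ A₀ : Subgroup G, A₀ ≤ B ∧ Nat.card A₀ = p := by
  obtain ⟨x, hx, hx1⟩ := exists_ne_one_of_ne_bot' h1
  refine ⟨zpowers x, zpowers_le.mpr hx, ?_⟩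
  rw [Nat.card_zpowers]
  exact orderOf_eq_prime (hB x hx) hx1

/-- generation by the centralizers of the subgroups of order `p` -/
theorem gen {p : ℕ} [hp : Fact p.Prime] {A X : Subgroup G} (hAe : IsElementaryAbelian p A)
    (hA2 : Nat.card A = p ^ 2) (hX : ¬ p ∣ Nat.card X) (hAX : A ≤ normalizer (X : Set G))
    (h : ∀ A₀ : Subgroup G, A₀ ≤ A → Nat.card A₀ = p →
      A ≤ centralizer ((X ⊓ centralizer (A₀ : Set G) : Subgroup G) : Set G)) :
    A ≤ centralizer (X : Set G) := by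
  have h1 := Helper30Hyp.le_iSup_hyperplane_centralizers hAe.1 hAe.2 hX hAX
  have h2 : X ≤ centralizer (A : Set G) := by
    refine h1.trans (iSup_le ?_)
    rintro ⟨B, hBA, hBi⟩
    have hB1 : B ≠ ⊥ := by
      rintro rfl
      rw [relIndex_bot_left, hA2] at hBi
      nlinarith [hp.out.one_lt]
    obtain ⟨A₀, hA₀B, hA₀⟩ := exists_order_p (fun a ha => hAe.2 a (hBA ha)) hB1
    have h3 := h A₀ (hA₀B.trans hBA) hA₀
    have h4 : X ⊓ centralizer (B : Set G) ≤ X ⊓ centralizer (A₀ : Set G) :=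
      inf_le_inf_left _ (centralizer_le hA₀B)
    exact h4.trans (le_centralizer_iff.mp h3)
  exact le_centralizer_iff.mp h2

/-- `Ω₁(Z(P))`. -/
def omegaZ (p : ℕ) (P : Subgroup G) : Subgroup G where
  carrier := {x | x ∈ P ∧ x ∈ centralizer (P : Set G) ∧ x ^ p = 1}
  one_mem' := ⟨P.one_mem, Subgroup.one_mem _, one_pow p⟩
  mul_mem' := by
    rintro a b ⟨ha, hac, hap⟩ ⟨hb, hbc, hbp⟩
    refine ⟨P.mul_mem ha hb, Subgroup.mul_mem _ hac hbc, ?_⟩
    have : Commute a b := (mem_centralizer_iff.mp hac b hb).symm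
    rw [this.mul_pow, hap, hbp, one_mul]
  inv_mem' := by
    rintro a ⟨ha, hac, hap⟩
    exact ⟨P.inv_mem ha, Subgroup.inv_mem _ hac, by rw [inv_pow, hap, inv_one]⟩

theorem mem_omegaZ {p : ℕ} {P : Subgroup G} {x : G} :
    x ∈ omegaZ p P ↔ x ∈ P ∧ x ∈ centralizer (P : Set G) ∧ x ^ p = 1 := Iff.rfl

theorem omegaZ_le (p : ℕ) (P : Subgroup G) : omegaZ p P ≤ P := fun _ hx => hx.1

theorem omegaZ_ne_bot {p : ℕ} [hp : Fact p.Prime] {P : Subgroup G} (hP : IsPGroup p P)
    (h1 : P ≠ ⊥) : omegaZ p P ≠ ⊥ := by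
  have : Nontrivial P := (nontrivial_iff_ne_bot P).mpr h1
  have hc : Nontrivial (center P) := hP.center_nontrivial
  have hcp : IsPGroup p (center P) := hP.to_subgroup _
  obtain ⟨n, hn⟩ := IsPGroup.iff_card.mp hcp
  have hdvd : p ∣ Nat.card (center P) := by
    rcases n with _ | n
    · rw [pow_zero] at hn
      exact absurd hn (Finite.one_lt_card).ne'
    · rw [hn]
      exact dvd_pow_self p (Nat.succ_ne_zero n)
  obtain ⟨z, hz⟩ := exists_prime_orderOf_dvd_card' p hdvd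
  intro hbot
  have hzmem : ((z : P) : G) ∈ omegaZ p P := by
    refine ⟨(z : P).2, ?_, ?_⟩
    · rw [mem_centralizer_iff]
      intro h hh
      have := mem_center_iff.mp z.2 ⟨h, hh⟩
      exact congrArg Subtype.val this
    · have : z ^ p = 1 := by rw [← hz]; exact pow_orderOf_eq_one z
      have h2 := congrArg (fun t : center P => ((t : P) : G)) this
      simpa using h2
  rw [hbot, mem_bot] at hzmem
  have : z = 1 := Subtype.ext (Subtype.ext hzmem)
  rw [this, orderOf_one] at hz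
  exact hp.out.one_lt.ne hz

theorem normalizer_le_omegaZ (p : ℕ) (P : Subgroup G) :
    normalizer (P : Set G) ≤ normalizer (omegaZ p P : Set G) := by
  rw [le_normalizer_iff]
  intro g hg x hx
  have hgP : ∀ y, y ∈ P ↔ g * y * g⁻¹ ∈ P := fun y => mem_normalizer_iff.mp hg y
  refine ⟨(hgP x).mp hx.1, ?_, ?_⟩
  · rw [mem_centralizer_iff]
    intro h hh
    have h1 : g⁻¹ * h * g ∈ P := by
      rw [hgP]; simpa [mul_assoc] using hh
    have h2 := mem_centralizer_iff.mp hx.2.1 _ h1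
    calc h * (g * x * g⁻¹) = g * ((g⁻¹ * h * g) * x) * g⁻¹ := by group
      _ = g * (x * (g⁻¹ * h * g)) * g⁻¹ := by rw [h2]
      _ = g * x * g⁻¹ * h := by group
  · rw [conj_pow, hx.2.2]; group

theorem derived_nilpotent (hG : IsMinSimpleOddOrder G) {M : Subgroup G} (hM : IsCoatom M)
    (h0 : alphaCore M = ⊥) : Group.IsNilpotent ↥⁅M, M⁆ := by
  have h5 := (Cfsg.Agent.S1405.result hG M hM).2.2.2.2
  have h6 : piCore (alpha M) M = ⊥ := (map_eq_bot_iff_of_injective _ M.subtype_injective).mp h0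
  have h7 : Group.IsNilpotent (commutator M) := by
    let f : commutator M →* ((commutator M).map (QuotientGroup.mk' (piCore (alpha M) M))) :=
      (QuotientGroup.mk' _).subgroupMap (commutator M)
    refine Subgroup.isNilpotent_of_ker_le_center f ?_
    intro x hx
    have h8 : (x : M) ∈ piCore (alpha M) M := by
      have := congrArg Subtype.val (MonoidHom.mem_ker.mp hx)
      exact (QuotientGroup.eq_one_iff _).mp this
    rw [h6, mem_bot] at h8
    have : x = 1 := Subtype.ext h8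
    rw [this]; exact one_mem _
  rw [← Helper68BGC.map_commutator_subtype]
  exact (Group.isNilpotent_congr
    ((commutator M).equivMapOfInjective M.subtype M.subtype_injective)).mp h7

theorem eq_of_prime_dvd_pgroup {p r : ℕ} [hp : Fact p.Prime] {P : Subgroup G} (hP : IsPGroup p P)
    (hr : r.Prime) (h : r ∣ Nat.card P) : r = p := by
  obtain ⟨n, hn⟩ := IsPGroup.iff_card.mp hP
  rw [hn] at h
  exact (Nat.prime_dvd_prime_iff_eq hr hp.out).mp (hr.dvd_of_dvd_pow h)

/-- adjoining a central element of order `p` outside `A` -/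
theorem big_elemAb {p : ℕ} {A : Subgroup G} (hAe : IsElementaryAbelian p A) {z : G}
    (hzc : z ∈ centralizer (A : Set G)) (hzp : z ^ p = 1) (hzA : z ∉ A) :
    IsElementaryAbelian p (A ⊔ zpowers z) ∧ Nat.card A < Nat.card ↥(A ⊔ zpowers z) := by
  refine ⟨Helper14ElemAb.elemAb_sup_zpowers A hAe z hzc hzp, ?_⟩
  apply Helper30Coprime.card_lt_of_lt
  refine lt_of_le_of_ne le_sup_left ?_
  intro h
  apply hzA
  rw [h]
  exact (le_sup_right : zpowers z ≤ A ⊔ zpowers z) (mem_zpowers z)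

theorem main (hG : IsMinSimpleOddOrder G) {M : Subgroup G} (hM : IsCoatom M) {p : ℕ}
    [hpp : Fact p.Prime] {A : Subgroup G} (hAM : A ≤ M) (hAe : IsElementaryAbelian p A)
    (hA2 : Nat.card A = p ^ 2)
    (H : ∀ A₀ : Subgroup G, A₀ ≤ A → Nat.card A₀ = p →
      ¬ (normalizer (A₀ : Set G) ≤ M ∧
        ∀ L : Subgroup G, IsCoatom L → normalizer (A₀ : Set G) ≤ L → L = M)) :
    centralizer (A : Set G) ≤ M ∧
      (p ∈ sigma M ∧ alphaCore M = ⊥ ∧ Group.IsNilpotent (sigmaCore M)) := by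
  have hAp : IsPGroup p A := isPGroup_of_elemAb hAe
  have hp1 := hpp.out.one_lt
  have hA1 : A ≠ ⊥ := by
    rintro rfl
    rw [card_bot] at hA2
    nlinarith
  have hnetop : ∀ A₀ : Subgroup G, Nat.card A₀ = p → normalizer (A₀ : Set G) ≠ ⊤ := fun A₀ h0p =>
    norm_ne_top hG (ne_bot_of_card h0p) (pgroup_ne_top hG (isPGroup_of_card h0p))
  have hMs : ∀ A₀ : Subgroup G, A₀ ≤ A → Nat.card A₀ = p →
      ∃ Ms, IsCoatom Ms ∧ Ms ≠ M ∧ normalizer (A₀ : Set G) ≤ Ms := by
    intro A₀ h0 h0p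
    by_cases hNM : normalizer (A₀ : Set G) ≤ M
    · by_contra hcon
      push Not at hcon
      exact H A₀ h0 h0p ⟨hNM, fun L hL hNL => by_contra fun hLM => hcon L hL hLM hNL⟩
    · obtain ⟨L, hL, hNL⟩ := exists_coatom (hnetop A₀ h0p)
      exact ⟨L, hL, fun h => hNM (h ▸ hNL), hNL⟩
  have hcontra : ∀ U : Subgroup G, InUniqueMaximal U → U ≤ M → ∀ A₀ : Subgroup G, A₀ ≤ A →
      Nat.card A₀ = p → U ≤ normalizer (A₀ : Set G) → False := by
    intro U hU hUM A₀ h0 h0p hUN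
    exact H A₀ h0 h0p ⟨le_of_uniq hM hUM hU hUN (hnetop A₀ h0p),
      fun L hL hNL => hU.unique ⟨hL, hUN.trans hNL⟩ ⟨hM, hUM⟩⟩
  obtain ⟨A₁, hA₁A, hA₁p⟩ := exists_order_p hAe.2 hA1
  have hAN : ∀ A₀ : Subgroup G, A₀ ≤ A → centralizer (A : Set G) ≤ normalizer (A₀ : Set G) :=
    fun A₀ h0 => (centralizer_le h0).trans (centralizer_le_normalizer _)
  -- Step 1
  have hσ : p ∈ sigma M := by
    by_contra hp
    have h1 : A ≤ centralizer (sigmaCore M : Set G) := by
      apply gen hAe hA2 (fun h => hp (Helper2BGb.card_sigmaCore M p hpp.out h))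
        (hAM.trans (Helper2BGb.le_normalizer_sigmaCore M))
      intro A₀ h0 h0p
      obtain ⟨Ms, hMsc, hMsne, hNMs⟩ := hMs A₀ h0 h0p
      refine ((cent_inter hG hM hMsc hMsne hAM hAe hA2 h0 h0p hNMs).1 hp).trans (centralizer_le ?_)
      exact inf_le_inf_left _ ((centralizer_le_normalizer _).trans hNMs)
    have h2 : SigmaFree M A := by
      intro r hr hrA
      rw [eq_of_prime_dvd_pgroup hAp hr hrA]
      exact hp
    have h3 := rank_cent hG hM hAM h2
    rw [inf_eq_left.mpr h1] at h3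
    refine not_rank_of_elemAb le_rfl hAe ?_ (h3 p hpp.out)
    rw [hA2]
    exact Nat.pow_lt_pow_right hp1 (by norm_num)
  -- Step 2
  have hα : p ∉ alpha M := by
    intro hp
    obtain ⟨P, hP, hAP⟩ := exists_isSyl_ge hAM hAp
    have hPr : ¬ PRankLE p 2 P := fun h => hp.2 (Helper27BGa.rank_of_isSyl hP h)
    have hPU : InUniqueMaximal P :=
      Helper68BGA.uniq_of_rank3 hG (pgroup_ne_top hG hP.2.1) hpp.out hPr
    have hP1 : P ≠ ⊥ := ne_bot_of_le_ne_bot hA1 hAP
    obtain ⟨z, hz, hz1⟩ := exists_ne_one_of_ne_bot' (omegaZ_ne_bot hP.2.1 hP1)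
    by_cases hzA : z ∈ A
    · refine hcontra P hPU hP.1 (zpowers z) (zpowers_le.mpr hzA)
        (by rw [Nat.card_zpowers]; exact orderOf_eq_prime hz.2.2 hz1) ?_
      refine le_trans ?_ (centralizer_le_normalizer _)
      rw [le_centralizer_iff, zpowers_le]
      exact hz.2.1
    · have hzc : z ∈ centralizer (A : Set G) := centralizer_le hAP hz.2.1
      obtain ⟨hB, hBc⟩ := big_elemAb hAe hzc hz.2.2 hzA
      rw [hA2] at hBc
      have hBM : A ⊔ zpowers z ≤ M := sup_le hAM (zpowers_le.mpr (hP.1 hz.1))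
      have hBU : InUniqueMaximal (A ⊔ zpowers z) :=
        Helper68BGA.uniq_of_rank3 hG (pgroup_ne_top hG (isPGroup_of_elemAb hB)) hpp.out
          (not_rank_of_elemAb le_rfl hB hBc)
      refine hcontra _ hBU hBM A₁ hA₁A hA₁p ?_
      refine le_trans ?_ (hAN A₁ hA₁A)
      exact sup_le (le_centralizer_of_comm hAe.1 le_rfl) (zpowers_le.mpr hzc)
  -- Step 3
  have hαc : A ≤ centralizer (alphaCore M : Set G) := by
    apply gen hAe hA2 (fun h => hα (card_piCoreOf _ M p hpp.out h))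
      (hAM.trans (le_normalizer_piCoreOf _ M))
    intro A₀ h0 h0p
    obtain ⟨Ms, hMsc, hMsne, hNMs⟩ := hMs A₀ h0 h0p
    refine ((cent_inter hG hM hMsc hMsne hAM hAe hA2 h0 h0p hNMs).2 hα).trans (centralizer_le ?_)
    exact inf_le_inf_left _ ((centralizer_le_normalizer _).trans hNMs)
  have hα0 : alphaCore M = ⊥ := by
    by_contra hne
    have hcard : Nat.card (alphaCore M) ≠ 1 := fun h => hne (card_eq_one.mp h)
    obtain ⟨q, hq, hqd⟩ := Nat.exists_prime_and_dvd hcard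
    have hqα : q ∈ alpha M := card_piCoreOf _ M q hq hqd
    obtain ⟨B, hBM, hBe, hBc⟩ := exists_elemAb hqα.2
    have := Fact.mk hq
    have hBα : B ≤ alphaCore M := by
      refine Helper2BGa.le_of_relIndex_coprime hBM (le_normalizer_piCoreOf _ M) ?_
      intro r hr hrB
      rw [eq_of_prime_dvd_pgroup (isPGroup_of_elemAb hBe) hr hrB]
      exact (Cfsg.Agent.S1405.result hG M hM).1.2.2 q hq hqα
    have hBU := Helper68BGA.uniq_of_rank3 hG (pgroup_ne_top hG (isPGroup_of_elemAb hBe)) hq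
      (not_rank_of_elemAb le_rfl hBe hBc)
    refine hcontra B hBU hBM A₁ hA₁A hA₁p ?_
    exact (hBα.trans (le_centralizer_iff.mp hαc)).trans (hAN A₁ hA₁A)
  -- Step 4
  have hnil : Group.IsNilpotent (sigmaCore M) :=
    Helper2KWa.isNilpotent_of_le (derived_nilpotent hG hM hα0) (Helper2BGb.sigmaCore_le_derived hG hM)
  refine ⟨?_, hσ, hα0, hnil⟩
  -- Step 5
  obtain ⟨P, hP, hAP⟩ := exists_isSyl_ge hAM hAp
  have hPσ : P ≤ sigmaCore M := Helper2BGb.pgroup_le_sigmaCore hG hM hσ hP.1 hP.2.1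
  have hPs : IsSyl p P (sigmaCore M) := hP.mono hPσ (Helper2BGb.sigmaCore_le M)
  have hMP : M ≤ normalizer (P : Set G) := by
    refine (Helper2BGb.le_normalizer_sigmaCore M).trans
      (Helper2BGa.normalizer_le_normalizer_hall hnil hPσ ?_)
    intro r hr hrP
    rw [eq_of_prime_dvd_pgroup hP.2.1 hr hrP]
    exact Helper2BGa.IsSyl.not_dvd_relIndex hPs
  have hP1 : P ≠ ⊥ := ne_bot_of_le_ne_bot hA1 hAP
  have hZ1 : omegaZ p P ≠ ⊥ := omegaZ_ne_bot hP.2.1 hP1
  have hMZ : M ≤ normalizer (omegaZ p P : Set G) := hMP.trans (normalizer_le_omegaZ p P)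
  have hZM : omegaZ p P ≤ M := (omegaZ_le p P).trans hP.1
  have hNZ : normalizer (omegaZ p P : Set G) = M := norm_eq hG hM hZ1 hZM hMZ
  have hZA : omegaZ p P ≤ A := by
    intro z hz
    by_contra hzA
    have hzc : z ∈ centralizer (A : Set G) := centralizer_le hAP hz.2.1
    obtain ⟨hB, hBc⟩ := big_elemAb hAe hzc hz.2.2 hzA
    rw [hA2] at hBc
    have hBM : A ⊔ zpowers z ≤ M := sup_le hAM (zpowers_le.mpr (hP.1 hz.1))
    exact hα ⟨hpp.out, not_rank_of_elemAb hBM hB hBc⟩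
  by_cases hZeq : omegaZ p P = A
  · rw [← hZeq]
    exact (centralizer_le_normalizer _).trans hNZ.le
  · exfalso
    have hZp : Nat.card (omegaZ p P) = p := by
      have hd : Nat.card (omegaZ p P) ∣ p ^ 2 := hA2 ▸ card_dvd_of_le hZA
      obtain ⟨k, hk, hkc⟩ := (Nat.dvd_prime_pow hpp.out).mp hd
      interval_cases k
      · rw [pow_zero] at hkc
        exact absurd (card_eq_one.mp hkc) hZ1
      · simpa using hkc
      · exact absurd (eq_of_le_of_card_ge hZA (by rw [hkc, hA2])) hZeq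
    refine H _ hZA hZp ⟨hNZ.le, fun L hL hNL => ?_⟩
    by_contra h
    exact hL.1 (hM.2 L (lt_of_le_of_ne (hNZ ▸ hNL) (Ne.symm h)))

end aux


/-- Let G be a minimal simple group of odd order, M a maximal subgroup, p a prime and A ≤ M elementary abelian of order p ^ 2. Then C_G(A) ≤ M. If moreover for every subgroup A₀ of A of order p, M is not the unique maximal subgroup containing N_G(A₀), then p ∈ σ(M), M_α = 1 and M_σ is nilpotent. -/
theorem result {G : Type*} [Group G] [Finite G] (hG : Cfsg.IsMinSimpleOddOrder G)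
    (M : Subgroup G) (hM : IsCoatom M) (p : ℕ) [Fact p.Prime] (A : Subgroup G) (hA : (A ≤ M ∧ Cfsg.IsElementaryAbelian p A ∧ Nat.card A = p ^ 2)) :
    Subgroup.centralizer (A : Set G) ≤ M ∧
      ((∀ A₀ : Subgroup G, A₀ ≤ A → Nat.card A₀ = p →
          ¬ (Subgroup.normalizer (A₀ : Set G) ≤ M ∧ ∀ L : Subgroup G, IsCoatom L → Subgroup.normalizer (A₀ : Set G) ≤ L → L = M)) →
        p ∈ Cfsg.sigma M ∧ Cfsg.alphaCore M = ⊥ ∧ Group.IsNilpotent (Cfsg.sigmaCore M)) := by
  obtain ⟨hAM, hAe, hA2⟩ := hA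
  refine ⟨?_, fun H => (main hG hM hAM hAe hA2 H).2⟩
  by_cases H : ∀ A₀ : Subgroup G, A₀ ≤ A → Nat.card A₀ = p →
      ¬ (Subgroup.normalizer (A₀ : Set G) ≤ M ∧
        ∀ L : Subgroup G, IsCoatom L → Subgroup.normalizer (A₀ : Set G) ≤ L → L = M)
  · exact (main hG hM hAM hAe hA2 H).1
  · push Not at H
    obtain ⟨A₀, h0, h0p, hN, -⟩ := H
    exact ((centralizer_le h0).trans (centralizer_le_normalizer _)).trans hN

end Cfsg.Agent.S1416
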