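import Cfsg.Statements.S1414
import Cfsg.Agent.Lib.Helper2BGd

set_option autoImplicit false
open Cfsg

namespace Cfsg.Agent.S1414

/-- Let G be a minimal simple group of odd order, M a maximal subgroup, β(M) the set of ideal primes in α(M), and M_β = O_{β(M)}(M). Then M_β is a Hall β(M)-subgroup of M and of G; M' and M_σ each have a nilpotent Hall β(M)'-subgroup; and for each prime p dividing the order of M with p ∉ β(M), both M' and M_σ have normal p-complements and every prime dividing the index of O_{p'}(M) in M is at most p. -/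
theorem result {G : Type*} [Group G] [Finite G] (hG : Cfsg.IsMinSimpleOddOrder G)
    (M : Subgroup G) (hM : IsCoatom M) :
    Cfsg.IsPiHallOf (Cfsg.beta M) (Cfsg.piCoreOf (Cfsg.beta M) M) M ∧ Cfsg.IsPiHall (Cfsg.beta M) (Cfsg.piCoreOf (Cfsg.beta M) M) ∧
      (∃ H : Subgroup G, Cfsg.IsPiHallOf {q | q.Prime ∧ q ∉ Cfsg.beta M} H ⁅M, M⁆ ∧ Group.IsNilpotent H) ∧
      (∃ H : Subgroup G, Cfsg.IsPiHallOf {q | q.Prime ∧ q ∉ Cfsg.beta M} H (Cfsg.sigmaCore M) ∧ Group.IsNilpotent H) ∧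
      ∀ p : ℕ, p.Prime → p ∣ Nat.card M → p ∉ Cfsg.beta M →
        Cfsg.HasNormalPComplement p ↥⁅M, M⁆ ∧ Cfsg.HasNormalPComplement p ↥(Cfsg.sigmaCore M) ∧
        ∀ q : ℕ, q.Prime → q ∣ (Cfsg.pPrimeCore p ↥M).index → q ≤ p := by
  refine ⟨(Lib.Helper2BGd.beta_hall hG hM).1, (Lib.Helper2BGd.beta_hall hG hM).2,
    Lib.Helper2BGd.exists_nilpotent_hall hG hM
      ((Lib.Helper2BGd.beta_core_le_sigmaCore hG hM).trans (Lib.Helper2BGb.sigmaCore_le_derived hG hM)) le_rfl,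
    Lib.Helper2BGd.exists_nilpotent_hall hG hM (Lib.Helper2BGd.beta_core_le_sigmaCore hG hM)
      (Lib.Helper2BGb.sigmaCore_le_derived hG hM), ?_⟩
  intro p hp hpM hpβ
  have := Fact.mk hp
  have h1 := Lib.Helper2BGd.npc_derived hG hM hpM hpβ
  exact ⟨Lib.Helper11Frobenius.hasNPC_iff.mp h1,
    Lib.Helper11Frobenius.hasNPC_iff.mp
      (Lib.Helper2BGd.npc_of_le h1 (Lib.Helper2BGb.sigmaCore_le_derived hG hM)),
    (Lib.Helper2BGd.step1 hG hM hpM hpβ).1⟩

end Cfsg.Agent.S1414
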