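import Cfsg.Statements.S1417
import Cfsg.Agent.Lib.Helper14BGWire
import Cfsg.Agent.Lib.Helper21BGExcbasic
import Cfsg.Agent.Lib.Helper92BGExcnil
import Cfsg.Agent.Lib.Helper92BGExcab
import Cfsg.Agent.Lib.Helper14BGL123
import Cfsg.Agent.S1416

set_option autoImplicit false
open Cfsg

namespace Cfsg.Agent.S1417

set_option linter.unusedSectionVars false

open Subgroup
open Cfsg.Agent.Lib Cfsg.Agent.Lib.Helper30Trans Cfsg.Agent.Lib.Helper24BG
open Cfsg.Agent.Lib.Helper2BGDefs Cfsg.Agent.Lib.Helper14BGL123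
open Cfsg.Agent.Lib.Helper14BGWire (exc_normal)
open Cfsg.Agent.Lib.Helper21BGExcbasic (exists_norm_not_mem)
open Cfsg.Agent.Lib.Helper92BGExcnil (exc_nilpotent exc_uniq)
open Cfsg.Agent.Lib.Helper92BGExcab (exc_abelian exc_omega exc_two_reg)

section aux

variable {G : Type*} [Group G] [Finite G]

/-- `p ∉ σ(M)`: Hypothesis 11.1 holds for some `A₀`. -/
theorem exists_exc (hG : IsMinSimpleOddOrder G) {M : Subgroup G} (hM : IsCoatom M) {p : ℕ}
    [Fact p.Prime] (hp : p ∉ sigma M) {A : Subgroup G} (hAM : A ≤ M)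
    (hAe : IsElementaryAbelian p A) (hA2 : Nat.card A = p ^ 2) : ∃ A₀ : Subgroup G, Exc M p A₀ A := by
  by_contra hcon
  apply hp
  refine ((Cfsg.Agent.S1416.result hG M hM p A ⟨hAM, hAe, hA2⟩).2 ?_).1
  intro A₀ h0 h0p hN
  exact hcon ⟨A₀, hp, hAM, hAe, hA2, h0, h0p, hN.1⟩

/-- `M_σ A` is normal in `M` whenever `A ≤ M` is elementary abelian of order `p ^ 2`. -/
theorem normal_sup (hG : IsMinSimpleOddOrder G) {M : Subgroup G} (hM : IsCoatom M) {p : ℕ}
    [Fact p.Prime] {A : Subgroup G} (hAM : A ≤ M)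
    (hAe : IsElementaryAbelian p A) (hA2 : Nat.card A = p ^ 2) :
    M ≤ normalizer ((sigmaCore M ⊔ A : Subgroup G) : Set G) := by
  by_cases h : p ∈ sigma M
  · have : A ≤ sigmaCore M := Helper2BGb.pgroup_le_sigmaCore hG hM h hAM (isPGroup_of_elemAb hAe)
    rw [sup_eq_left.mpr this]
    exact Helper2BGb.le_normalizer_sigmaCore M
  · obtain ⟨A₀, hexc⟩ := exists_exc hG hM h hAM hAe hA2
    exact exc_normal hG hM hexc

theorem inter_bot (hG : IsMinSimpleOddOrder G) {M : Subgroup G} (hM : IsCoatom M) {p : ℕ}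
    [hpp : Fact p.Prime] {A₀ A : Subgroup G} (h : Exc M p A₀ A)
    (hreg : sigmaCore M ⊓ centralizer (A : Set G) = ⊥) {Ms : Subgroup G} (hMs : IsCoatom Ms)
    (hne : Ms ≠ M) (hAMs : A ≤ Ms) : sigmaCore M ⊓ Ms = ⊥ := by
  have hAp : IsPGroup p A := isPGroup_of_elemAb h.elem
  have hAD : A ≤ normalizer ((sigmaCore M ⊓ Ms : Subgroup G) : Set G) :=
    le_normalizer_inf (h.le.trans (Helper2BGb.le_normalizer_sigmaCore M)) (hAMs.trans le_normalizer)
  have hpD : ¬ p ∣ Nat.card (sigmaCore M ⊓ Ms : Subgroup G) := fun hd =>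
    h.notσ (Helper2BGb.card_sigmaCore M p hpp.out (hd.trans (card_dvd_of_le inf_le_left)))
  have hcop : (Nat.card A).Coprime (Nat.card (sigmaCore M ⊓ Ms : Subgroup G)) := by
    rw [h.card]
    exact Nat.Coprime.pow_left 2 ((Nat.Prime.coprime_iff_not_dvd hpp.out).mpr hpD)
  have hX := comm_le_sigmaCore hAp hAMs (normal_sup hG hMs hAMs h.elem h.card) inf_le_right hAD hpD
  have hD : sigmaCore M ⊓ Ms ≤ ⁅sigmaCore M ⊓ Ms, A⁆ := by
    intro k hk
    obtain ⟨x, hx, c, hc, rfl⟩ := Helper30SZ.exists_commutator_mul_centralizer hAD hcop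
      (Or.inl (sol hG (pgroup_ne_top hG hAp))) hk
    have hc1 : c ∈ sigmaCore M ⊓ centralizer (A : Set G) := ⟨hc.1.1, hc.2⟩
    rw [hreg, mem_bot] at hc1
    rw [hc1, mul_one]
    exact hx
  by_contra hne0
  apply hne
  refine exc_uniq hG hM h hMs hAMs ?_
  intro hbot
  apply hne0
  rw [eq_bot_iff, ← hbot]
  exact le_inf ((hD.trans hX).trans inf_le_right) inf_le_left

end aux


/-- Let G be a minimal simple group of odd order, M a maximal subgroup, p ∈ τ₂(M) and A ≤ M elementary abelian of order p ^ 2. Then (a) M_σ is nilpotent; (b) every Sylow p-subgroup P of M is abelian, and if A ≤ P then the elements of P of order dividing p are exactly those of A and N_G(P) is not contained in M; (c) M normalizes M_σA; (d) M_σ ∩ C_G(A) = 1; (e) M_σ ∩ M* = 1 for every maximal subgroup M* ≠ M containing A; (f) M_σ ∩ C_G(A₁) = 1 for some subgroup A₁ ≤ A of order p. -/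
theorem result {G : Type*} [Group G] [Finite G] (hG : Cfsg.IsMinSimpleOddOrder G)
    (M : Subgroup G) (hM : IsCoatom M) (p : ℕ) [Fact p.Prime] (hp : p ∈ Cfsg.tau2 M) (A : Subgroup G) (hA : (A ≤ M ∧ Cfsg.IsElementaryAbelian p A ∧ Nat.card A = p ^ 2)) :
    Group.IsNilpotent (Cfsg.sigmaCore M) ∧
      (∀ P : Sylow p M, IsMulCommutative (P : Subgroup M) ∧
        (A ≤ (P : Subgroup M).map M.subtype →
          (∀ x ∈ (P : Subgroup M).map M.subtype, x ^ p = 1 ↔ x ∈ A) ∧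
          ¬ Subgroup.normalizer ((((P : Subgroup M).map M.subtype : Subgroup G)) : Set G) ≤ M)) ∧
      M ≤ Subgroup.normalizer ((Cfsg.sigmaCore M ⊔ A : Subgroup G) : Set G) ∧
      Cfsg.sigmaCore M ⊓ Subgroup.centralizer (A : Set G) = ⊥ ∧
      (∀ Mstar : Subgroup G, IsCoatom Mstar → Mstar ≠ M → A ≤ Mstar → Cfsg.sigmaCore M ⊓ Mstar = ⊥) ∧
      ∃ A₁ : Subgroup G, A₁ ≤ A ∧ Nat.card A₁ = p ∧ Cfsg.sigmaCore M ⊓ Subgroup.centralizer (A₁ : Set G) = ⊥ := by
  obtain ⟨hAM, hAe, hA2⟩ := hA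
  have hpσ : p ∉ sigma M := hp.2.1
  obtain ⟨A₀, h⟩ := exists_exc hG hM hpσ hAM hAe hA2
  obtain ⟨A₁, A₂, hA₁, -, hA₁p, -, -, hreg₁, -⟩ := exc_two_reg hG hM h
  have hreg : sigmaCore M ⊓ Subgroup.centralizer (A : Set G) = ⊥ := by
    rw [eq_bot_iff, ← hreg₁]
    exact inf_le_inf_left _ (centralizer_le hA₁)
  refine ⟨exc_nilpotent hG hM h, ?_, exc_normal hG hM h, hreg, ?_, A₁, hA₁, hA₁p, hreg₁⟩
  · intro P
    have hP : IsSyl p ((P : Subgroup M).map M.subtype) M := isSyl_of_sylow P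
    have hab := exc_abelian hG hM h hP
    refine ⟨⟨⟨fun a b => ?_⟩⟩, ?_⟩
    · have := congrArg Subtype.val (hab.is_comm.comm ⟨((a : M) : G), ⟨a, a.2, rfl⟩⟩
        ⟨((b : M) : G), ⟨b, b.2, rfl⟩⟩)
      exact Subtype.ext (Subtype.ext this)
    · intro hAP
      refine ⟨exc_omega hG hM h hP hAP, ?_⟩
      have hA1 : A ≠ ⊥ := by
        rintro rfl
        rw [card_bot] at hA2
        have := (Fact.out : p.Prime).one_lt
        nlinarith
      obtain ⟨g, hg, hgM⟩ := exists_norm_not_mem hpσ hP (ne_bot_of_le_ne_bot hA1 hAP)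
      exact fun hle => hgM (hle hg)
  · intro Ms hMs hne hAMs
    exact inter_bot hG hM h hreg hMs hne hAMs

end Cfsg.Agent.S1417
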