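import Cfsg.Statements.S1415
import Cfsg.Agent.Lib.Helper31BGS
import Cfsg.Agent.Lib.Helper12CarterBase
import Cfsg.Agent.Lib.Helper28More
import Cfsg.Agent.Lib.Helper68BGC
import Cfsg.Agent.S1405

set_option autoImplicit false
open Cfsg

namespace Cfsg.Agent.S1415

open Subgroup
open scoped commutatorElement
open Cfsg.Agent.Lib.Helper30Trans
open Cfsg.Agent.Lib.Helper24BG
open Cfsg.Agent.Lib.Helper24BG2
open Cfsg.Agent.Lib.Helper27BGa
open Cfsg.Agent.Lib.Helper31BGS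

/-- the `q`-rank of a `q'`-group is zero -/
theorem rank_of_not_dvd {q k : ℕ} (hq : q.Prime) {X : Type*} [Group X] [Finite X]
    (h : ¬ q ∣ Nat.card X) : PRankLE q k X := by
  intro A _ hA
  have : Fact q.Prime := ⟨hq⟩
  have hp : IsPGroup q A := fun a => ⟨1, by rw [pow_one]; exact Subtype.ext (hA a a.2)⟩
  obtain ⟨n, hn⟩ := hp.exists_card_eq
  have hn0 : n = 0 := by
    by_contra h0
    apply h
    have h1 : q ∣ Nat.card A := by rw [hn]; exact dvd_pow_self q h0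
    exact h1.trans (card_subgroup_dvd_card A)
  rw [hn, hn0, pow_zero]
  exact Nat.one_le_pow _ _ hq.pos

/-- a nilpotent subgroup of odd order, all of whose primes have rank one in `M`, is cyclic -/
theorem cyclic_of_rank {G : Type*} [Group G] [Finite G] {M X : Subgroup G} (hodd : Odd (Nat.card X))
    (hXM : X ≤ M) (hn : Group.IsNilpotent X)
    (h : ∀ q : ℕ, q.Prime → q ∣ Nat.card X → PRankLE q 1 M) : IsCyclic X := by
  have h1 : RankLE 1 X := by
    intro q hq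
    by_cases hd : q ∣ Nat.card X
    · exact rank_le_of_le hXM (h q hq hd)
    · exact rank_of_not_dvd hq hd
  have := isZGroup_of_rank_one hodd h1
  infer_instance

/-- a Hall subgroup of a nilpotent subgroup `C` is normalized by `N(C)` -/
theorem normalizer_le_of_hall_nilpotent {G : Type*} [Group G] [Finite G] {T C : Subgroup G}
    (hC : Group.IsNilpotent C) (hTC : T ≤ C) (h : (Nat.card T).Coprime (T.relIndex C)) :
    normalizer (C : Set G) ≤ normalizer (T : Set G) := by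
  have h1 := Cfsg.Agent.Lib.Helper12CarterBase.le_normalizer_of_hall_of_nilpotent hC hTC h
  rw [le_normalizer_iff]
  intro g hg t ht
  have h2 : cj g T ≤ C := by
    rintro _ ⟨x, hx, rfl⟩
    exact (mem_normalizer_iff.mp hg x).mp (hTC hx)
  have h3 : cj g T ≤ T := Cfsg.Agent.Lib.Helper12CarterBase.le_of_normal_hall hTC h1 h2
    (by rw [card_cj]; exact h)
  exact h3 ⟨t, ht, rfl⟩

/-- `M' ≤ M_σ E'` -/
theorem derived_le {G : Type*} [Group G] {M E S : Subgroup G} (hE : IsComplIn E S M)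
    (hn : M ≤ normalizer (S : Set G)) : ⁅M, M⁆ ≤ S ⊔ ⁅E, E⁆ := by
  have hSM : S ≤ M := hE.2.1
  have hnorm : (S.subgroupOf M).Normal := (normal_subgroupOf_iff_le_normalizer hSM).mpr hn
  rw [commutator_le]
  intro a ha b hb
  obtain ⟨e₁, he₁, s₁, hs₁, rfl⟩ := hE.2.2.2 a ha
  obtain ⟨e₂, he₂, s₂, hs₂, rfl⟩ := hE.2.2.2 b hb
  let π := QuotientGroup.mk' (S.subgroupOf M)
  have hπ : ∀ (e s : G) (he : e ∈ M) (hs : s ∈ S), π ⟨e * s, M.mul_mem he (hSM hs)⟩ = π ⟨e, he⟩ := by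
    intro e s he hs
    have h1 : (⟨e * s, M.mul_mem he (hSM hs)⟩ : M) = ⟨e, he⟩ * ⟨s, hSM hs⟩ := rfl
    rw [h1, map_mul]
    have h2 : π ⟨s, hSM hs⟩ = 1 := (QuotientGroup.eq_one_iff _).mpr (mem_subgroupOf.mpr hs)
    rw [h2, mul_one]
  have h3 : π (⁅(⟨e₁ * s₁, ha⟩ : M), ⟨e₂ * s₂, hb⟩⁆) = π ⁅(⟨e₁, hE.1 he₁⟩ : M), ⟨e₂, hE.1 he₂⟩⁆ := by
    rw [map_commutatorElement, map_commutatorElement, hπ e₁ s₁ (hE.1 he₁) hs₁, hπ e₂ s₂ (hE.1 he₂) hs₂]
  have h4 : (⁅(⟨e₁ * s₁, ha⟩ : M), ⟨e₂ * s₂, hb⟩⁆) * (⁅(⟨e₁, hE.1 he₁⟩ : M), ⟨e₂, hE.1 he₂⟩⁆)⁻¹ ∈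
      S.subgroupOf M := by
    rw [← QuotientGroup.eq_one_iff]
    show π _ = 1
    rw [map_mul, map_inv, h3, mul_inv_cancel]
  have h5 : ⁅e₁ * s₁, e₂ * s₂⁆ * ⁅e₁, e₂⁆⁻¹ ∈ S := mem_subgroupOf.mp h4
  have h6 : ⁅e₁ * s₁, e₂ * s₂⁆ = (⁅e₁ * s₁, e₂ * s₂⁆ * ⁅e₁, e₂⁆⁻¹) * ⁅e₁, e₂⁆ := by group
  rw [h6]
  exact mul_mem ((le_sup_left : S ≤ S ⊔ ⁅E, E⁆) h5)
    ((le_sup_right : ⁅E, E⁆ ≤ S ⊔ ⁅E, E⁆) (commutator_mem_commutator he₁ he₂))

/-- Let G be a minimal simple group of odd order, M a maximal subgroup and E a complement to M_σ in M. Then the derived subgroup E' is nilpotent; every Hall τ₁(M)-subgroup of E is cyclic; and every Hall τ₃(M)-subgroup E₃ of E is cyclic, contained in E' and normal in E. -/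
theorem result {G : Type*} [Group G] [Finite G] (hG : Cfsg.IsMinSimpleOddOrder G)
    (M : Subgroup G) (hM : IsCoatom M) (E : Subgroup G) (hE : Cfsg.IsComplIn E (Cfsg.sigmaCore M) M) :
    Group.IsNilpotent ↥⁅E, E⁆ ∧
      (∀ E₁ : Subgroup G, Cfsg.IsPiHallOf (Cfsg.tau1 M) E₁ E → IsCyclic E₁) ∧
      ∀ E₃ : Subgroup G, Cfsg.IsPiHallOf (Cfsg.tau3 M) E₃ E → IsCyclic E₃ ∧ E₃ ≤ ⁅E, E⁆ ∧ E ≤ Subgroup.normalizer (E₃ : Set G) := by
  have h05 := Cfsg.Agent.S1405.result hG M hM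
  have hEM : E ≤ M := hE.1
  have hDE : ⁅E, E⁆ ≤ E := commutator_le_self E
  have hDM : ⁅E, E⁆ ≤ ⁅M, M⁆ := commutator_mono hEM hEM
  -- nilpotency of `E'`
  have hnil : Group.IsNilpotent ↥⁅E, E⁆ := by
    set N := piCore (alpha M) M with hN
    set C := (_root_.commutator ↥M).map (QuotientGroup.mk' N) with hC
    have hCn : Group.IsNilpotent C := h05.2.2.2.2
    have hmem : ∀ x : ↥⁅E, E⁆, (QuotientGroup.mk' N) ⟨x.1, hEM (hDE x.2)⟩ ∈ C := by
      intro x
      have h1 : x.1 ∈ (_root_.commutator ↥M).map M.subtype := by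
        rw [Cfsg.Agent.Lib.Helper68BGC.map_commutator_subtype]
        exact hDM x.2
      obtain ⟨y, hy, hyx⟩ := h1
      refine ⟨y, hy, ?_⟩
      congr 1
      exact Subtype.ext hyx
    let f : ↥⁅E, E⁆ →* C :=
      { toFun := fun x => ⟨(QuotientGroup.mk' N) ⟨x.1, hEM (hDE x.2)⟩, hmem x⟩
        map_one' := by
          apply Subtype.ext
          exact map_one (QuotientGroup.mk' N)
        map_mul' := by
          intro x y
          apply Subtype.ext
          exact map_mul (QuotientGroup.mk' N) ⟨x.1, hEM (hDE x.2)⟩ ⟨y.1, hEM (hDE y.2)⟩ }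
    have hf : Function.Injective f := by
      rw [injective_iff_map_eq_one]
      intro x hx
      have h1 : (QuotientGroup.mk' N) ⟨x.1, hEM (hDE x.2)⟩ = 1 := congrArg Subtype.val hx
      have h2 : (⟨x.1, hEM (hDE x.2)⟩ : M) ∈ N := (QuotientGroup.eq_one_iff _).mp h1
      have h3 : x.1 ∈ alphaCore M := ⟨_, h2, rfl⟩
      have h4 : x.1 ∈ E ⊓ sigmaCore M := ⟨hDE x.2, h05.2.2.1 h3⟩
      rw [hE.2.2.1, mem_bot] at h4
      exact Subtype.ext h4
    exact Group.nilpotent_of_mulEquiv (MonoidHom.ofInjective hf).symm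
  have hcopE : ∀ X : Subgroup G, X ≤ E → (Nat.card X).Coprime (Nat.card (sigmaCore M)) := by
    intro X hX
    rw [Nat.coprime_iff_gcd_eq_one]
    by_contra hne
    obtain ⟨p, hp, hpd⟩ := Nat.exists_prime_and_dvd hne
    exact not_mem_sigma_of_dvd_le_compl hG hM hE hX hp (hpd.trans (Nat.gcd_dvd_left _ _))
      (mem_sigma_of_dvd_sigmaCore hG hM hp (hpd.trans (Nat.gcd_dvd_right _ _)))
  refine ⟨hnil, ?_, ?_⟩
  · intro E₁ hE₁
    have hcop : (Nat.card E₁).Coprime (Nat.card ↥⁅E, E⁆) := by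
      rw [Nat.coprime_iff_gcd_eq_one]
      by_contra hne
      obtain ⟨p, hp, hpd⟩ := Nat.exists_prime_and_dvd hne
      exact (hE₁.2.1 p hp (hpd.trans (Nat.gcd_dvd_left _ _))).2.2.2.1
        ((hpd.trans (Nat.gcd_dvd_right _ _)).trans (card_dvd_of_le hDM))
    have hbot : ⁅E, E⁆ ⊓ E₁ = ⊥ := Cfsg.Agent.Lib.Helper30SZ.inf_eq_bot_of_coprime hcop
    have hcomm : IsMulCommutative E₁ := by
      refine ⟨⟨fun a b => ?_⟩⟩
      have h1 : ⁅(a : G), (b : G)⁆ ∈ ⁅E, E⁆ ⊓ E₁ :=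
        ⟨commutator_mem_commutator (hE₁.1 a.2) (hE₁.1 b.2), by
          show ⁅(a : G), (b : G)⁆ ∈ E₁
          rw [commutatorElement_def]
          exact mul_mem (mul_mem (mul_mem a.2 b.2) (inv_mem a.2)) (inv_mem b.2)⟩
      rw [hbot, mem_bot, commutatorElement_eq_one_iff_mul_comm] at h1
      exact Subtype.ext h1
    apply cyclic_of_rank (odd_sub hG E₁) (hE₁.1.trans hEM)
      (Cfsg.Agent.Lib.Helper28More.isNilpotent_of_isMulCommutative hcomm)
    intro q hq hqd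
    exact (hE₁.2.1 q hq hqd).2.2.2.2
  · intro E₃ hE₃
    -- primes of `τ₃` do not divide the index of `E'` in `E`
    have key : ∀ p : ℕ, p.Prime → p ∈ tau3 M → ¬ p ∣ (_root_.commutator ↥E).index := by
      intro p hp hp3
      have : Fact p.Prime := ⟨hp⟩
      have h1 : p ∣ Nat.card ↥⁅E, E⁆ := by
        have h2 : p ∣ Nat.card (sigmaCore M ⊔ ⁅E, E⁆ : Subgroup G) :=
          hp3.2.2.1.trans (card_dvd_of_le (derived_le hE (le_normalizer_sigmaCore M)))
        rw [Cfsg.Agent.Lib.Helper30SZ.card_sup ((hDE.trans hEM).trans (le_normalizer_sigmaCore M))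
          (hcopE _ hDE)] at h2
        rcases (hp.dvd_mul).mp h2 with h | h
        · exact absurd h (not_dvd_sigmaCore hG hM hp hp3.2.1)
        · exact h
      obtain ⟨P⟩ : Nonempty (Sylow p E) := inferInstance
      have hPne : p ≠ 2 := by
        rintro rfl
        have := odd_sub hG ⁅E, E⁆
        exact (Nat.not_even_iff_odd.mpr this) (even_iff_two_dvd.mpr h1)
      have hPc : IsCyclic ((P : Subgroup E).map E.subtype) :=
        cyclic_of_rank_one hPne (P.2.map _) (rank_le_of_le ((map_subtype_le _).trans hEM) hp3.2.2.2)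
      have hPc' : IsCyclic (P : Subgroup E) :=
        isCyclic_of_surjective _ ((P : Subgroup E).equivMapOfInjective E.subtype
          E.subtype_injective).symm.surjective
      rcases P.not_dvd_card_commutator_or_not_dvd_index_commutator with h | h
      · exfalso
        apply h
        rw [← Cfsg.Agent.Lib.Helper68BGC.map_commutator_subtype,
          card_map_of_injective E.subtype_injective] at h1
        exact h1
      · exact h
    have hle : E₃ ≤ ⁅E, E⁆ := by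
      have h1 : (_root_.commutator ↥E).relIndex (E₃.subgroupOf E) = 1 := by
        by_contra h1
        obtain ⟨p, hp, hpd⟩ := Nat.exists_prime_and_dvd h1
        have h2 : p ∣ Nat.card E₃ := by
          rw [← Cfsg.Agent.Lib.Helper30SZ.card_subgroupOf_of_le hE₃.1]
          exact hpd.trans (relIndex_dvd_card _ _)
        exact key p hp (hE₃.2.1 p hp h2) (hpd.trans (relIndex_dvd_index_of_normal _ _))
      rw [relIndex_eq_one] at h1
      intro x hx
      rw [← Cfsg.Agent.Lib.Helper68BGC.map_commutator_subtype]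
      exact ⟨⟨x, hE₃.1 hx⟩, h1 (mem_subgroupOf.mpr hx), rfl⟩
    have hn3 : Group.IsNilpotent E₃ := by
      have := hnil
      exact Group.nilpotent_of_mulEquiv (subgroupOfEquivOfLe hle)
    refine ⟨?_, hle, ?_⟩
    · apply cyclic_of_rank (odd_sub hG E₃) (hE₃.1.trans hEM) hn3
      intro q hq hqd
      exact (hE₃.2.1 q hq hqd).2.2.2
    · have hcop : (Nat.card E₃).Coprime (E₃.relIndex ⁅E, E⁆) := by
        rw [Nat.coprime_iff_gcd_eq_one]
        by_contra hne
        obtain ⟨p, hp, hpd⟩ := Nat.exists_prime_and_dvd hne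
        apply hE₃.2.2 p hp (hE₃.2.1 p hp (hpd.trans (Nat.gcd_dvd_left _ _)))
        exact (hpd.trans (Nat.gcd_dvd_right _ _)).trans (Dvd.intro _ (relIndex_mul_relIndex E₃ ⁅E, E⁆ E hle hDE))
      refine le_trans ?_ (normalizer_le_of_hall_nilpotent hnil hle hcop)
      exact Cfsg.Agent.Lib.Helper30SZ.le_normalizer_commutator le_normalizer le_normalizer

end Cfsg.Agent.S1415
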