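import Cfsg.Statements.S1418
import Cfsg.Agent.Lib.Helper31BGS
import Cfsg.Agent.S1416
import Cfsg.Agent.S1417

set_option autoImplicit false
open Cfsg

namespace Cfsg.Agent.S1418

open Subgroup
open Cfsg.Agent.Lib.Helper30Trans
open Cfsg.Agent.Lib.Helper24BG
open Cfsg.Agent.Lib.Helper24BG2
open Cfsg.Agent.Lib.Helper31BGS

/-- Let G be a minimal simple group of odd order, M a maximal subgroup, E a complement to M_σ in M, p ∈ τ₂(M), and A ≤ E elementary abelian of order p ^ 2. Then A is normal in E and contains every subgroup of E of order p; C_G(A) ≤ M ∩ N_G(A) = E and N_G(A) is not contained in M; and for every subgroup X ≤ A of order p centralizing a non-identity element of M_σ, C_G(X) ≤ M and M is the unique maximal subgroup containing C_G(X). -/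
theorem result {G : Type*} [Group G] [Finite G] (hG : Cfsg.IsMinSimpleOddOrder G)
    (M : Subgroup G) (hM : IsCoatom M) (E : Subgroup G) (hE : Cfsg.IsComplIn E (Cfsg.sigmaCore M) M) (p : ℕ) [Fact p.Prime] (hp : p ∈ Cfsg.tau2 M) (A : Subgroup G) (hA : (A ≤ E ∧ Cfsg.IsElementaryAbelian p A ∧ Nat.card A = p ^ 2)) :
    (E ≤ Subgroup.normalizer (A : Set G) ∧ ∀ X : Subgroup G, X ≤ E → Nat.card X = p → X ≤ A) ∧
      (Subgroup.centralizer (A : Set G) ≤ M ⊓ Subgroup.normalizer (A : Set G) ∧ M ⊓ Subgroup.normalizer (A : Set G) = E ∧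
        ¬ Subgroup.normalizer (A : Set G) ≤ M) ∧
      ∀ X : Subgroup G, X ≤ A → Nat.card X = p → Cfsg.sigmaCore M ⊓ Subgroup.centralizer (X : Set G) ≠ ⊥ → (Subgroup.centralizer (X : Set G) ≤ M ∧ ∀ L : Subgroup G, IsCoatom L → Subgroup.centralizer (X : Set G) ≤ L → L = M) := by
  obtain ⟨hAE, hAe, hAc⟩ := hA
  have hEM : E ≤ M := hE.1
  have hAM : A ≤ M := hAE.trans hEM
  have h17 := Cfsg.Agent.S1417.result hG M hM p hp A ⟨hAM, hAe, hAc⟩
  have h16 := (Cfsg.Agent.S1416.result hG M hM p A ⟨hAM, hAe, hAc⟩).1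
  have hAp : IsPGroup p A := isPGroup_of_elemAb hAe
  have hnS : M ≤ normalizer (sigmaCore M : Set G) := le_normalizer_sigmaCore M
  have hbot : ∀ x, x ∈ E → x ∈ sigmaCore M → x = 1 := by
    intro x h1 h2
    have : x ∈ E ⊓ sigmaCore M := ⟨h1, h2⟩
    rwa [hE.2.2.1, mem_bot] at this
  -- `A` is normal in `E`
  have hEN : E ≤ normalizer (A : Set G) := by
    rw [le_normalizer_iff]
    intro e he a ha
    have h1 : e * a * e⁻¹ ∈ sigmaCore M ⊔ A :=
      (mem_normalizer_iff.mp (h17.2.2.1 (hEM he)) a).mp ((le_sup_right : A ≤ sigmaCore M ⊔ A) ha)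
    obtain ⟨s, hs, a', ha', h2⟩ := (Cfsg.Agent.Lib.Helper30SZ.mem_sup_iff (hAM.trans hnS)).mp h1
    have h3 : s = e * a * e⁻¹ * a'⁻¹ := by rw [h2]; group
    have h4 : s = 1 := hbot s (by
      rw [h3]
      exact mul_mem (mul_mem (mul_mem he (hAE ha)) (inv_mem he)) (inv_mem (hAE ha'))) hs
    rw [h2, h4, one_mul]
    exact ha'
  -- a Sylow subgroup of `M` containing a given `p`-subgroup containing `A`
  have hsyl : ∀ Y : Subgroup G, IsPGroup p Y → Y ≤ M → A ≤ Y → ∃ Q : Subgroup G, Y ≤ Q ∧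
      (∀ x ∈ Q, x ^ p = 1 ↔ x ∈ A) ∧ ¬ normalizer (Q : Set G) ≤ M := by
    intro Y hY hYM hAY
    obtain ⟨Q, hQ, hYQ⟩ := exists_isSyl_ge hYM hY
    have h1 := (h17.2.1 hQ.toSylow).2
    rw [hQ.map_toSylow] at h1
    exact ⟨Q, hYQ, h1 (hAY.trans hYQ)⟩
  refine ⟨⟨hEN, ?_⟩, ⟨le_inf h16 (centralizer_le_normalizer _), ?_, ?_⟩, ?_⟩
  · intro X hXE hXc
    have hXp : IsPGroup p X := IsPGroup.of_card (n := 1) (by rw [hXc, pow_one])
    obtain ⟨Q, hYQ, hQ, -⟩ := hsyl (X ⊔ A) (hXp.to_sup_of_normal_right' hAp (hXE.trans hEN))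
      (sup_le (hXE.trans hEM) hAM) le_sup_right
    intro x hx
    apply (hQ x (hYQ ((le_sup_left : X ≤ X ⊔ A) hx))).mp
    have h1 : (⟨x, hx⟩ : X) ^ Nat.card X = 1 := pow_card_eq_one'
    rw [hXc] at h1
    exact congrArg Subtype.val h1
  · apply le_antisymm
    · rintro m ⟨hmM, hmN⟩
      obtain ⟨e, he, s, hs, rfl⟩ := hE.2.2.2 m hmM
      have hsN : s ∈ normalizer (A : Set G) := by
        have : s = e⁻¹ * (e * s) := by group
        rw [this]
        exact mul_mem (inv_mem (hEN he)) hmN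
      have hsC : s ∈ sigmaCore M ⊓ centralizer (A : Set G) := by
        refine ⟨hs, ?_⟩
        show s ∈ centralizer (A : Set G)
        rw [mem_centralizer_iff]
        intro a ha
        have h1 : s * a * s⁻¹ * a⁻¹ ∈ A := mul_mem ((mem_normalizer_iff.mp hsN a).mp ha) (inv_mem ha)
        have h2 : s * a * s⁻¹ * a⁻¹ ∈ sigmaCore M := by
          have h3 : s * a * s⁻¹ * a⁻¹ = s * (a * s⁻¹ * a⁻¹) := by group
          rw [h3]
          exact mul_mem hs ((mem_normalizer_iff.mp (hnS (hAM ha)) _).mp (inv_mem hs))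
        have h4 := hbot _ (hAE h1) h2
        have h5 : s * a = a * s := by
          have : s * a = (s * a * s⁻¹ * a⁻¹) * (a * s) := by group
          rw [this, h4, one_mul]
        exact h5.symm
      rw [h17.2.2.2.1, mem_bot] at hsC
      rw [hsC, mul_one]
      exact he
    · exact le_inf hEM hEN
  · obtain ⟨Q, hAQ, hQ, hQN⟩ := hsyl A hAp hAM le_rfl
    intro hN
    apply hQN
    refine le_trans ?_ hN
    rw [le_normalizer_iff]
    intro g hg a ha
    have haQ : a ∈ Q := hAQ ha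
    apply (hQ _ ((mem_normalizer_iff.mp hg a).mp haQ)).mp
    rw [conj_pow, hAe.2 a ha]
    group
  · intro X hXA hXc hne
    have hXp : IsPGroup p X := IsPGroup.of_card (n := 1) (by rw [hXc, pow_one])
    have hX1 : X ≠ ⊥ := by
      rintro rfl
      rw [card_bot] at hXc
      exact (Fact.out : p.Prime).one_lt.ne hXc
    have hkey : ∀ L : Subgroup G, IsCoatom L → centralizer (X : Set G) ≤ L → L = M := by
      intro L hL hXL
      by_contra hLM
      have hAL : A ≤ L := by
        refine le_trans ?_ hXL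
        intro a ha
        rw [mem_centralizer_iff]
        intro x hx
        exact congrArg Subtype.val (hAe.1.is_comm.comm ⟨x, hXA hx⟩ ⟨a, ha⟩)
      apply hne
      rw [eq_bot_iff, ← h17.2.2.2.2.1 L hL hLM hAL]
      exact inf_le_inf_left _ hXL
    have hCne : centralizer (X : Set G) ≠ ⊤ := by
      intro h
      apply norm_ne_top hG hX1 (pgroup_ne_top hG hXp)
      rw [eq_top_iff, ← h]
      exact centralizer_le_normalizer _
    obtain ⟨L, hL, hXL⟩ := exists_coatom hCne
    exact ⟨(hkey L hL hXL) ▸ hXL, hkey⟩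

end Cfsg.Agent.S1418
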