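import Cfsg.Statements.S1420
import Cfsg.Agent.Lib.Helper31BGS
import Cfsg.Agent.Lib.Helper30Gen
import Cfsg.Agent.S1404
import Cfsg.Agent.S1415
import Cfsg.Agent.S1416
import Cfsg.Agent.S1417
import Cfsg.Agent.S1418

set_option autoImplicit false
open Cfsg

namespace Cfsg.Agent.S1420

open Subgroup
open Cfsg.Agent.Lib.Helper24BG
open Cfsg.Agent.Lib.Helper24BG2
open Cfsg.Agent.Lib.Helper27BGa
open Cfsg.Agent.Lib.Helper31BGS

/-- a nilpotent group with abelian Sylow subgroups is abelian -/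
theorem comm_of_nilpotent {N : Type*} [Group N] [Finite N] [Group.IsNilpotent N]
    (h : ∀ (p : ℕ) [Fact p.Prime] (P : Sylow p N), p ∣ Nat.card N → IsMulCommutative (P : Subgroup N))
    (a b : N) : a * b = b * a := by
  obtain ⟨e⟩ := ((Group.isNilpotent_of_finite_tfae (G := N)).out 0 4).mp
    (inferInstance : Group.IsNilpotent N)
  apply e.symm.injective
  rw [map_mul, map_mul]
  funext p P
  have : Fact (p : ℕ).Prime := ⟨Nat.prime_of_mem_primeFactors p.2⟩
  have := h p P (Nat.dvd_of_mem_primeFactors p.2)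
  exact this.is_comm.comm _ _

/-- `σ(M)'`-subgroups of prime power order of `M` are abelian -/
theorem comm_of_pgroup {G : Type*} [Group G] [Finite G] (hG : IsMinSimpleOddOrder G)
    {M : Subgroup G} (hM : IsCoatom M) {r : ℕ} [hr : Fact r.Prime] (hrs : r ∉ sigma M) {R : Subgroup G}
    (hR : IsPGroup r R) (hRM : R ≤ M) : IsMulCommutative R := by
  by_cases hR1 : R = ⊥
  · subst hR1
    exact ⟨⟨fun a b => Subsingleton.elim _ _⟩⟩
  have hr2 : r ≠ 2 := ne_two hG hR hR1
  by_cases h1 : PRankLE r 1 M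
  · have := cyclic_of_rank_one hr2 hR (rank_le_of_le hRM h1)
    exact ⟨⟨fun a b => (IsCyclic.commGroup (α := R)).mul_comm a b⟩⟩
  · have h2 : PRankLE r 2 M := by
      by_contra h2
      exact hrs (alpha_subset_sigma hG hM ⟨hr.out, h2⟩)
    obtain ⟨A, hAM, hA, hAc⟩ := exists_sq h1
    have h17 := Cfsg.Agent.S1417.result hG M hM r ⟨hr.out, hrs, h2, h1⟩ A ⟨hAM, hA, hAc⟩
    obtain ⟨Q, hQ, hRQ⟩ := exists_isSyl_ge hRM hR
    have h3 := (h17.2.1 hQ.toSylow).1
    refine ⟨⟨fun a b => ?_⟩⟩
    have h4 := h3.is_comm.comm ⟨⟨a.1, hRM a.2⟩, mem_subgroupOf.mpr (hRQ a.2)⟩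
      ⟨⟨b.1, hRM b.2⟩, mem_subgroupOf.mpr (hRQ b.2)⟩
    apply Subtype.ext
    exact congrArg (fun z => ((z : M) : G)) (congrArg Subtype.val h4)

/-- an `r`-group, `r > p` odd, normalizing a group of order `p ^ 2` centralizes it -/
theorem le_centralizer_of_lt {G : Type*} [Group G] [Finite G] {p r : ℕ} [hp : Fact p.Prime]
    [hr : Fact r.Prime] (hpr : p < r) (hp2 : p ≠ 2) {A Z : Subgroup G} (hA : Nat.card A = p ^ 2)
    (hZ : IsPGroup r Z) (hZA : Z ≤ normalizer (A : Set G)) : Z ≤ centralizer (A : Set G) := by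
  have h1 := card_modEq_inf_centralizer hZ hZA
  have h2 : Nat.card (A ⊓ centralizer (Z : Set G) : Subgroup G) ∣ p ^ 2 := by
    rw [← hA]; exact card_dvd_of_le inf_le_left
  obtain ⟨k, hk, hc⟩ := (Nat.dvd_prime_pow hp.out).mp h2
  rw [hA, hc] at h1
  have hp1 : 1 < p := hp.out.one_lt
  have hodd : Odd p := hp.out.odd_of_ne_two hp2
  have hrodd : Odd r := hr.out.odd_of_ne_two (by omega)
  have hnd1 : ¬ r ∣ p - 1 := fun h => by
    have := Nat.le_of_dvd (by omega) h
    omega
  have hnd2 : ¬ r ∣ p + 1 := fun h => by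
    have h3 := Nat.le_of_dvd (by omega) h
    have h4 : r = p + 1 := by omega
    rw [h4] at hrodd
    exact (Nat.not_even_iff_odd.mpr hrodd) (hodd.add_one)
  have hnd3 : ¬ r ∣ p := fun h => by
    have := Nat.le_of_dvd (by omega) h
    omega
  have hk2 : k = 2 := by
    by_contra hne
    have h3 : r ∣ p ^ 2 - p ^ k := (Nat.modEq_iff_dvd' (Nat.pow_le_pow_right hp.out.pos hk)).mp h1.symm
    have hk' : k = 0 ∨ k = 1 := by omega
    rcases hk' with rfl | rfl
    · have h4 : p ^ 2 - p ^ 0 = (p - 1) * (p + 1) := by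
        obtain ⟨m, rfl⟩ : ∃ m, p = m + 1 := ⟨p - 1, by omega⟩
        simp
        ring_nf
        omega
      rw [h4] at h3
      rcases (hr.out.dvd_mul).mp h3 with h | h
      · exact hnd1 h
      · exact hnd2 h
    · have h4 : p ^ 2 - p ^ 1 = p * (p - 1) := by
        rw [Nat.mul_sub, pow_two, pow_one, mul_one]
      rw [h4] at h3
      rcases (hr.out.dvd_mul).mp h3 with h | h
      · exact hnd3 h
      · exact hnd1 h
  subst hk2
  have h5 : A ⊓ centralizer (Z : Set G) = A := eq_of_le_of_card_ge inf_le_left (by rw [hc, hA])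
  have h6 : A ≤ centralizer (Z : Set G) := inf_eq_left.mp h5
  exact le_centralizer_iff.mp h6

/-- Let G be a minimal simple group of odd order, M a maximal subgroup and E a complement to M_σ in M. Then every nilpotent subgroup of M whose order involves no prime of σ(M) is abelian; E' is abelian; for p ∈ σ(M) and every noncyclic p-subgroup P of M, N_G(P) ≤ M; and if x ≠ 1 in M has every prime divisor of its order in τ₂(M) and centralizes a non-identity element of M_σ, then C_G(x) ≤ M and M is the unique maximal subgroup containing C_G(x). -/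
theorem result {G : Type*} [Group G] [Finite G] (hG : Cfsg.IsMinSimpleOddOrder G)
    (M : Subgroup G) (hM : IsCoatom M) (E : Subgroup G) (hE : Cfsg.IsComplIn E (Cfsg.sigmaCore M) M) :
    (∀ N : Subgroup G, N ≤ M → Group.IsNilpotent N → (∀ p : ℕ, p.Prime → p ∣ Nat.card N → p ∉ Cfsg.sigma M) → IsMulCommutative N) ∧
      IsMulCommutative ↥⁅E, E⁆ ∧
      (∀ (p : ℕ) (P : Subgroup G), p ∈ Cfsg.sigma M → IsPGroup p P → P ≤ M → ¬ IsCyclic P → Subgroup.normalizer (P : Set G) ≤ M) ∧
      ∀ x ∈ M, x ≠ 1 → (∀ p : ℕ, p.Prime → p ∣ orderOf x → p ∈ Cfsg.tau2 M) → x ∈ Cfsg.sigmaHat M →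
        Subgroup.centralizer ({x} : Set G) ≤ M ∧ ∀ L : Subgroup G, IsCoatom L → Subgroup.centralizer ({x} : Set G) ≤ L → L = M := by
  have part1 : ∀ N : Subgroup G, N ≤ M → Group.IsNilpotent N →
      (∀ p : ℕ, p.Prime → p ∣ Nat.card N → p ∉ Cfsg.sigma M) → IsMulCommutative N := by
    intro N hNM hN hNp
    refine ⟨⟨fun a b => ?_⟩⟩
    apply comm_of_nilpotent
    intro p _ P hpd
    have h1 := comm_of_pgroup hG hM (hNp p Fact.out hpd) (P.2.map N.subtype)
      ((map_subtype_le _).trans hNM)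
    refine ⟨⟨fun a b => ?_⟩⟩
    have h2 := h1.is_comm.comm ⟨a.1.1, a.1, a.2, rfl⟩ ⟨b.1.1, b.1, b.2, rfl⟩
    apply Subtype.ext
    apply Subtype.ext
    exact (congrArg Subtype.val h2 : (a.1.1 * b.1.1 : G) = b.1.1 * a.1.1)
  refine ⟨part1, ?_, ?_, ?_⟩
  · apply part1 _ ((commutator_le_self E).trans hE.1) (Cfsg.Agent.S1415.result hG M hM E hE).1
    intro p hp hpd
    exact not_mem_sigma_of_dvd_le_compl hG hM hE (commutator_le_self E) hp hpd
  · intro p P hp hP hPM hnc
    have : Fact p.Prime := ⟨hp.1⟩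
    have hP1 : P ≠ ⊥ := by
      rintro rfl
      exact hnc inferInstance
    have hp2 : p ≠ 2 := ne_two hG hP hP1
    obtain ⟨W, hWP, -, hW, hWc⟩ := exists_normal_sq hp2 hP hnc
    have h16 := (Cfsg.Agent.S1416.result hG M hM p W ⟨hWP.trans hPM, hW, hWc⟩).1
    rw [(Cfsg.Agent.S1404.result hG M hM p hp P hP hP1 hPM).2]
    exact sup_le inf_le_left ((centralizer_le hWP).trans h16)
  · intro x hxM hx1 hτ hxh
    obtain ⟨-, y, hyS, hy1, hxy⟩ := hxh
    set n := orderOf x with hn
    have hn1 : n ≠ 1 := fun h => hx1 (orderOf_eq_one_iff.mp h)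
    have hn0 : 0 < n := orderOf_pos x
    set p := n.minFac with hpdef
    have hpp : p.Prime := Nat.minFac_prime hn1
    have : Fact p.Prime := ⟨hpp⟩
    have hpn : p ∣ n := Nat.minFac_dvd n
    have hp : p ∈ tau2 M := hτ p hpp hpn
    have hZM : zpowers x ≤ M := zpowers_le.mpr hxM
    obtain ⟨E', hE', hxE'⟩ := exists_compl_ge hG hM hZM (by
      intro q hq hqd
      rw [Nat.card_zpowers] at hqd
      exact (hτ q hq hqd).2.1)
    obtain ⟨R, hR, -⟩ := exists_isSyl_ge (p := p) (bot_le : (⊥ : Subgroup G) ≤ E') IsPGroup.of_bot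
    have hRM : IsSyl p R M := isSyl_of_not_dvd_relIndex hR hE'.1 (by
      rw [relIndex_compl hE']
      exact not_dvd_sigmaCore hG hM hpp hp.2.1)
    have hR1 : ¬ PRankLE p 1 R := fun h => hp.2.2.2 (rank_of_isSyl hRM h)
    obtain ⟨A, hAR, hA, hAc⟩ := exists_sq hR1
    have hAE : A ≤ E' := hAR.trans hR.1
    have h18 := Cfsg.Agent.S1418.result hG M hM E' hE' p hp A ⟨hAE, hA, hAc⟩
    have h17 := Cfsg.Agent.S1417.result hG M hM p hp A ⟨hAE.trans hE'.1, hA, hAc⟩
    have hAp : IsPGroup p A := isPGroup_of_elemAb hA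
    have hA1 : A ≠ ⊥ := by
      rintro rfl
      rw [card_bot] at hAc
      have := hpp.one_lt
      nlinarith
    have hp2 : p ≠ 2 := ne_two hG hAp hA1
    -- `x` centralizes `A`
    have hZA : zpowers x ≤ centralizer (A : Set G) := by
      apply Cfsg.Agent.Lib.Helper30Gen.le_of_forall_sylow_le
      intro r hr
      obtain ⟨Q⟩ : Nonempty (Sylow r (zpowers x)) := inferInstance
      refine ⟨Q, ?_⟩
      set Z := (Q : Subgroup (zpowers x)).map (zpowers x).subtype with hZ
      have hZr : IsPGroup r Z := Q.2.map _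
      have hZx : Z ≤ zpowers x := map_subtype_le _
      have hZN : Z ≤ normalizer (A : Set G) := (hZx.trans hxE').trans h18.1.1
      by_cases hZ1 : Z = ⊥
      · rw [hZ1]; exact bot_le
      have hrn : r ∣ n := by
        have h1 := dvd_card_of_pgroup hZr hZ1 hZx
        rwa [Nat.card_zpowers] at h1
      by_cases hrp : r = p
      · rw [hrp] at hZr
        have h1 : IsPGroup p (Z ⊔ A : Subgroup G) := hZr.to_sup_of_normal_right' hAp hZN
        have h2 := comm_of_pgroup hG hM hp.2.1 h1 (sup_le (hZx.trans hZM) (hAE.trans hE'.1))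
        intro z hz
        rw [mem_centralizer_iff]
        intro a ha
        exact congrArg Subtype.val (h2.is_comm.comm ⟨a, (le_sup_right : A ≤ Z ⊔ A) ha⟩
          ⟨z, (le_sup_left : Z ≤ Z ⊔ A) hz⟩)
      · have hle : p ≤ r := Nat.minFac_le_of_dvd hr.out.two_le hrn
        exact le_centralizer_of_lt (lt_of_le_of_ne hle (Ne.symm hrp)) hp2 hAc hZr hZN
    have hAx : A ≤ centralizer ({x} : Set G) := by
      intro a ha
      rw [mem_centralizer_iff]
      intro z hz
      rw [Set.mem_singleton_iff.mp hz]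
      exact (mem_centralizer_iff.mp (hZA (mem_zpowers x)) a ha).symm
    have hyx : y ∈ centralizer ({x} : Set G) := by
      rw [mem_centralizer_iff]
      intro z hz
      rw [Set.mem_singleton_iff.mp hz]
      exact hxy
    -- the subgroup of order `p`
    set X := zpowers (x ^ (n / p)) with hX
    have hXc : Nat.card X = p := by
      rw [Nat.card_zpowers, orderOf_pow_of_dvd (by
        intro h0
        have := Nat.div_mul_cancel hpn
        rw [h0] at this
        omega) (Nat.div_dvd_of_dvd hpn), ← hn, Nat.div_div_self hpn hn0.ne']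
    have hXx : X ≤ zpowers x := zpowers_le.mpr (pow_mem (mem_zpowers x) _)
    have hXA : X ≤ A := h18.1.2 X (hXx.trans hxE') hXc
    have hcc : centralizer ({x} : Set G) ≤ centralizer (X : Set G) := by
      rw [← centralizer_zpowers_eq]
      exact centralizer_le hXx
    have hne : sigmaCore M ⊓ centralizer (X : Set G) ≠ ⊥ := by
      intro h
      have : y ∈ sigmaCore M ⊓ centralizer (X : Set G) := ⟨hyS, hcc hyx⟩
      rw [h, mem_bot] at this
      exact hy1 this
    have h3 := h18.2.2 X hXA hXc hne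
    refine ⟨hcc.trans h3.1, ?_⟩
    intro L hL hxL
    by_contra hLM
    have h4 := h17.2.2.2.2.1 L hL hLM (hAx.trans hxL)
    have : y ∈ sigmaCore M ⊓ L := ⟨hyS, hxL hyx⟩
    rw [h4, mem_bot] at this
    exact hy1 this

end Cfsg.Agent.S1420
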