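import Cfsg.Statements.S1422
import Cfsg.Agent.Lib.Helper31BGV
import Cfsg.Agent.Lib.Helper5BGDisjoint
import Cfsg.Agent.S1404
import Cfsg.Agent.S1412
import Cfsg.Agent.S1416
import Cfsg.Agent.S1420

set_option autoImplicit false
open Cfsg

namespace Cfsg.Agent.S1422

open Subgroup
open Cfsg.Agent.Lib.Helper30Trans
open Cfsg.Agent.Lib.Helper24BG
open Cfsg.Agent.Lib.Helper24BG2
open Cfsg.Agent.Lib.Helper31BGS
open Cfsg.Agent.Lib.Helper31BGU
open Cfsg.Agent.Lib.Helper31BGV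

/-- the data available for each of two distinct maximal subgroups containing a common Sylow subgroup -/
theorem half {G : Type*} [Group G] [Finite G] (hG : IsMinSimpleOddOrder G) {p : ℕ} [hp : Fact p.Prime]
    {M L S : Subgroup G} (hM : IsCoatom M) (hL : IsCoatom L) (hne : L ≠ M) (hpM : p ∈ sigma M)
    (hpL : p ∈ sigma L) (hS : IsSyl p S ⊤) (hSM : S ≤ M) (hSL : S ≤ L) (hS1 : S ≠ ⊥)
    (hNM : normalizer (S : Set G) ≤ M) (hNL : normalizer (S : Set G) ≤ L)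
    (hr : PRankLE p 2 S) :
    alphaCore M ⊓ L ≤ centralizer (S : Set G) ∧ ¬ p ∣ Nat.card (alphaCore M) ∧ alphaCore M ≠ ⊥ := by
  have hSylM : IsSyl p S M := hS.mono hSM le_top
  have hconj : ∀ g : G, cj g M ≠ L := by
    intro g hg
    have h1 : cj g⁻¹ S ≤ M := by
      rw [cj_le_iff, inv_inv, hg]
      exact hSL
    obtain ⟨m, hm, c, hc, hgc⟩ := (Cfsg.Agent.S1404.result hG M hM p hpM S hS.2.1 hS1 hSM).1 g⁻¹ h1
    have hgM : g⁻¹ ∈ M := by
      rw [hgc]
      exact mul_mem hm (hNM (centralizer_le_normalizer _ hc))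
    have hgM' : g ∈ M := by
      have := inv_mem hgM
      rwa [inv_inv] at this
    apply hne
    rw [← hg]
    exact cj_eq_self_of_mem_normalizer (le_normalizer hgM')
  have hdis := (Cfsg.Agent.Lib.Helper5BGDisjoint.sigma_disjoint hG hM hL hconj).2.1
  have hMT : M ≤ normalizer (alphaCore M : Set G) :=
    Cfsg.Agent.Lib.Helper37Cores.le_normalizer_map_subtype _
  have hSσ : S ≤ sigmaCore L := by
    apply le_sigmaCore hG hL hSL
    intro q hq hqd
    obtain ⟨k, hk⟩ := IsPGroup.iff_card.mp hS.2.1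
    rw [hk] at hqd
    rw [(Nat.prime_dvd_prime_iff_eq hq hp.out).mp (hq.dvd_of_dvd_pow hqd)]
    exact hpL
  refine ⟨?_, ?_, ?_⟩
  · rintro t ⟨ht, htL⟩
    rw [mem_centralizer_iff]
    intro s hs
    have h1 : t * s * t⁻¹ * s⁻¹ ∈ alphaCore M := by
      have e : t * s * t⁻¹ * s⁻¹ = t * (s * t⁻¹ * s⁻¹) := by group
      rw [e]
      exact mul_mem ht ((mem_normalizer_iff.mp (hMT (hSM hs)) _).mp (inv_mem ht))
    have h2 : t * s * t⁻¹ * s⁻¹ ∈ sigmaCore L :=
      mul_mem ((mem_normalizer_iff.mp (le_normalizer_sigmaCore L htL) _).mp (hSσ hs))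
        (inv_mem (hSσ hs))
    have h3 : t * s * t⁻¹ * s⁻¹ ∈ alphaCore M ⊓ sigmaCore L := ⟨h1, h2⟩
    rw [hdis, mem_bot] at h3
    calc s * t = (t * s * t⁻¹ * s⁻¹)⁻¹ * (t * s) := by group
      _ = t * s := by rw [h3]; group
  · intro hd
    have h1 := (Cfsg.Agent.S1405.result hG M hM).1.2.1 p hp.out hd
    exact h1.2 (Cfsg.Agent.Lib.Helper27BGa.rank_of_isSyl hSylM hr)
  · intro hbot
    have h1 := frattini_alpha hG hM hpM hSylM
    rw [hbot, bot_sup_eq] at h1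
    exact hne ((hM.le_iff_eq hL.1).mp (h1.trans (inf_le_right.trans hNL)))

/-- Let G be a minimal simple group of odd order, p a prime and P a non-abelian p-subgroup of G. Then P lies in exactly one maximal subgroup of G. -/
theorem result {G : Type*} [Group G] [Finite G] (hG : Cfsg.IsMinSimpleOddOrder G) (p : ℕ) [Fact p.Prime] (P : Subgroup G) (hP : IsPGroup p P) (hPna : ¬ IsMulCommutative P) :
    Cfsg.InUniqueMaximal P := by
  have hpp : p.Prime := Fact.out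
  have hPtop : P ≠ ⊤ := pgroup_ne_top hG hP
  obtain ⟨M, hM, hPM⟩ := exists_coatom hPtop
  refine ⟨M, ⟨hM, hPM⟩, ?_⟩
  rintro L ⟨hL, hPL⟩
  by_contra hne
  have hpM : p ∈ sigma M := by
    by_contra h
    exact hPna (Cfsg.Agent.S1420.comm_of_pgroup hG hM h hP hPM)
  have hpL : p ∈ sigma L := by
    by_contra h
    exact hPna (Cfsg.Agent.S1420.comm_of_pgroup hG hL h hP hPL)
  obtain ⟨S, hQ, hPS⟩ := exists_isSyl_ge (le_inf hPM hPL) hP
  have hSna : ¬ IsMulCommutative S := by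
    intro h
    apply hPna
    refine ⟨⟨fun a b => Subtype.ext ?_⟩⟩
    exact congrArg (fun t : S => (t : G)) (h.is_comm.comm ⟨a, hPS a.2⟩ ⟨b, hPS b.2⟩)
  have hSnc : ¬ IsCyclic S := by
    intro h
    apply hSna
    exact ⟨⟨fun a b => (IsCyclic.commGroup (α := S)).mul_comm a b⟩⟩
  have hSM : S ≤ M := hQ.1.trans inf_le_left
  have hSL : S ≤ L := hQ.1.trans inf_le_right
  have hS1 : S ≠ ⊥ := by
    rintro rfl
    exact hSnc inferInstance
  have hNM : normalizer (S : Set G) ≤ M := by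
    obtain ⟨E, hE, -⟩ := exists_compl_ge hG hM (bot_le : (⊥ : Subgroup G) ≤ M) (by
      intro q hq hd
      rw [card_bot] at hd
      exact absurd (Nat.dvd_one.mp hd) hq.one_lt.ne')
    exact (Cfsg.Agent.S1420.result hG M hM E hE).2.2.1 p S hpM hQ.2.1 hSM hSnc
  have hNL : normalizer (S : Set G) ≤ L := by
    obtain ⟨E, hE, -⟩ := exists_compl_ge hG hL (bot_le : (⊥ : Subgroup G) ≤ L) (by
      intro q hq hd
      rw [card_bot] at hd
      exact absurd (Nat.dvd_one.mp hd) hq.one_lt.ne')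
    exact (Cfsg.Agent.S1420.result hG L hL E hE).2.2.1 p S hpL hQ.2.1 hSL hSnc
  have hS : IsSyl p S ⊤ := hQ.top_of_normalizer_le (le_inf hNM hNL)
  by_cases hr : PRankLE p 2 S
  swap
  · obtain ⟨K, -, hu⟩ := Cfsg.Agent.Lib.Helper68BGA.uniq_of_rank3 hG (pgroup_ne_top hG hS.2.1) hpp hr
    exact hne ((hu L ⟨hL, hSL⟩).trans (hu M ⟨hM, hSM⟩).symm)
  obtain ⟨hTL, hTp, hT1⟩ := half hG hM hL hne hpM hpL hS hSM hSL hS1 hNM hNL hr
  obtain ⟨hTL', hTp', hT1'⟩ := half hG hL hM (Ne.symm hne) hpL hpM hS hSL hSM hS1 hNL hNM hr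
  rcases Cfsg.Agent.S1412.result hG p hS.toSylowTop hr with h | ⟨P₁, P₂, hsup, -, hna, hc, hexp, -, -⟩
  · exact hSna h
  have hP₁S : P₁ ≤ S := by
    have : P₁ ≤ P₁ ⊔ P₂ := le_sup_left
    rw [hsup] at this
    exact this
  have hexp' : ∀ a ∈ P₁, a ^ p = 1 := by
    intro a ha
    have := Monoid.pow_exponent_eq_one (⟨a, ha⟩ : P₁)
    rw [hexp] at this
    exact congrArg Subtype.val this
  obtain ⟨hZc, -, -⟩ := cube_data hna hc
  set Z := P₁ ⊓ centralizer (P₁ : Set G) with hZ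
  have hZel : IsElementaryAbelian p Z := by
    refine ⟨⟨⟨fun a b => Subtype.ext ?_⟩⟩, fun a ha => hexp' a ha.1⟩
    exact mem_centralizer_iff.mp b.2.2 a a.2.1
  -- the subgroup supplied by B-G 12.4(b)
  have key : ∀ N : Subgroup G, IsCoatom N → S ≤ N → alphaCore N ≠ ⊥ → ∀ y ∈ P₁, y ∉ Z →
      ∃ A₀ : Subgroup G, A₀ ≤ zpowers y ⊔ Z ∧ Nat.card A₀ = p ∧ normalizer (A₀ : Set G) ≤ N ∧
        ∀ K : Subgroup G, IsCoatom K → normalizer (A₀ : Set G) ≤ K → K = N := by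
    intro N hN hSN hα y hy hyZ
    have hZy : ∀ z ∈ Z, z * y = y * z := fun z hz => (mem_centralizer_iff.mp hz.2 y hy).symm
    have hAN : (zpowers y ⊔ Z : Subgroup G) ≤ N :=
      (sup_le (zpowers_le.mpr hy) inf_le_left).trans (hP₁S.trans hSN)
    have h16 := (Cfsg.Agent.S1416.result hG N hN p (zpowers y ⊔ Z)
      ⟨hAN, elemAb_zpowers_sup hZel (hexp' y hy) hZy, card_zpowers_sup hZc (hexp' y hy) hyZ hZy⟩).2
    by_contra hcon
    push Not at hcon
    apply hα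
    refine (h16 ?_).2.1
    intro A₀ hA₀ hA₀c hgood
    obtain ⟨K, hK, hK1, hK2⟩ := hcon A₀ hA₀ hA₀c hgood.1
    exact hK2 (hgood.2 K hK hK1)
  by_cases hZgood : normalizer (Z : Set G) ≤ M ∧
      ∀ K : Subgroup G, IsCoatom K → normalizer (Z : Set G) ≤ K → K = M
  · apply hne
    refine (hM.le_iff_eq hL.1).mp ?_
    refine le_of_good hG hM hpM (hS.mono hSM le_top) hNL hP₁S hna hc hexp' hTL hTp ?_
    intro y hy hyZ
    obtain ⟨A₀, hA₀, hA₀c, hA₀N, -⟩ := key L hL hSL hT1' y hy hyZ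
    refine centralizer_le_of_normalizer_le hna hc (hP₁S.trans hSL) hy hA₀ hA₀c ?_ hA₀N
    rintro rfl
    exact hne (hZgood.2 L hL hA₀N)
  · apply hne
    symm
    refine (hL.le_iff_eq hM.1).mp ?_
    refine le_of_good hG hL hpL (hS.mono hSL le_top) hNM hP₁S hna hc hexp' hTL' hTp' ?_
    intro y hy hyZ
    obtain ⟨A₀, hA₀, hA₀c, hA₀N, hA₀u⟩ := key M hM hSM hT1 y hy hyZ
    refine centralizer_le_of_normalizer_le hna hc (hP₁S.trans hSM) hy hA₀ hA₀c ?_ hA₀N
    rintro rfl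
    exact hZgood ⟨hA₀N, hA₀u⟩

end Cfsg.Agent.S1422
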