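import Cfsg.Statements.S1427
import Cfsg.Agent.Lib.Helper30BG13B
import Cfsg.Agent.Lib.Helper38BG13primeclass

set_option autoImplicit false
open Cfsg

namespace Cfsg.Agent.S1427

open Cfsg.Agent.Lib.Helper30Trans Cfsg.Agent.Lib.Helper24BG Cfsg.Agent.Lib.Helper31BGS
open Cfsg.Agent.Lib.Helper38BG13primeclass Cfsg.Agent.Lib.Helper30BG13B

/-- Let G be a minimal simple group of odd order, M a maximal subgroup, E a complement to M_σ in M, and S a nontrivial cyclic Sylow subgroup of E (for some prime). Then M_σ ∩ C_G(x) = M_σ ∩ C_G(S) for every non-identity x ∈ S. -/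
theorem result {G : Type*} [Group G] [Finite G] (hG : Cfsg.IsMinSimpleOddOrder G)
    (M : Subgroup G) (hM : IsCoatom M) (E : Subgroup G) (hE : Cfsg.IsComplIn E (Cfsg.sigmaCore M) M) (p : ℕ) [Fact p.Prime] (S : Sylow p E) (hS1 : (S : Subgroup E) ≠ ⊥) (hSc : IsCyclic (S : Subgroup E)) :
    ∀ x ∈ (S : Subgroup E).map E.subtype, x ≠ 1 →
        Cfsg.sigmaCore M ⊓ Subgroup.centralizer ({x} : Set G) = Cfsg.sigmaCore M ⊓ Subgroup.centralizer (((S : Subgroup E).map E.subtype : Subgroup G) : Set G) := by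
  intro x hx hx1
  set S' : Subgroup G := (S : Subgroup E).map E.subtype with hS'
  have hp : p.Prime := Fact.out
  have hSE : IsSyl p S' E := isSyl_of_sylow S
  have hS'1 : S' ≠ ⊥ := by
    intro h
    apply hx1
    rw [h] at hx
    exact Subgroup.mem_bot.mp hx
  have hS'c : IsCyclic S' := by
    have e : (S : Subgroup E) ≃* S' := (S : Subgroup E).equivMapOfInjective E.subtype E.subtype_injective
    exact isCyclic_of_surjective e.toMonoidHom e.surjective
  have hpE : p ∣ Nat.card E := by
    obtain ⟨n, hn⟩ := IsPGroup.iff_card.mp hSE.2.1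
    have hn0 : n ≠ 0 := by
      rintro rfl
      rw [pow_zero] at hn
      exact hS'1 (Subgroup.card_eq_one.mp hn)
    have h1 : p ∣ Nat.card S' := by
      rw [hn]
      exact dvd_pow_self p hn0
    exact h1.trans (Subgroup.card_dvd_of_le hSE.1)
  have hpσ : p ∉ sigma M := not_mem_sigma_of_dvd_compl hG hM hE hp hpE
  have hSM : IsSyl p S' M := by
    apply isSyl_of_not_dvd_relIndex hSE hE.1
    rw [relIndex_compl hE]
    exact not_dvd_sigmaCore hG hM hp hpσ
  have hrk : PRankLE p 1 M := by
    apply Cfsg.Agent.Lib.Helper27BGa.rank_of_isSyl hSM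
    exact rank_one_of_cyclic hp.pos
  -- the subgroup generated by `x`
  set X : Subgroup G := Subgroup.zpowers x with hX
  have hXS : X ≤ S' := by
    rw [hX, Subgroup.zpowers_le]
    exact hx
  have hXp : IsPGroup p X := hSE.2.1.to_le hXS
  have hX1 : X ≠ ⊥ := by
    rw [hX, Ne, Subgroup.zpowers_eq_bot]
    exact hx1
  have hXtop : X ≠ ⊤ := pgroup_ne_top hG hXp
  obtain ⟨H, hH, hNH⟩ := exists_coatom (norm_ne_top hG hX1 hXtop)
  have nc : ∀ g : G, H ≠ cj g M := not_conj_of_rank_one hG hM hpσ hrk hXp hX1 hNH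
  have hτ : p ∉ tau1 H := by
    intro h
    rcases prime_class hG hH hXp hX1 hNH with h1 | h1
    · exact h.2.1 h1
    · exact h1.2.2.2 h.2.2.2.2
  have hSH : S' ≤ H :=
    (Subgroup.le_normalizer.trans (Cfsg.Agent.Lib.Helper27BGa.normalizer_le_of_cyclic hS'c hXS)).trans hNH
  have hB := Cfsg.Agent.Lib.Helper30BG13B.lemmaB hG hM hH nc hpσ hτ hSE.2.1 hSM.1 hSH
  apply le_antisymm
  · apply le_inf inf_le_left
    intro y hy
    have hyH : y ∈ H := by
      apply hNH
      have h1 : Subgroup.centralizer ({x} : Set G) ≤ Subgroup.normalizer (X : Set G) := by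
        refine le_trans ?_ (Subgroup.centralizer_le_normalizer _)
        intro z hz
        rw [Subgroup.mem_centralizer_singleton_iff] at hz
        rw [Subgroup.mem_centralizer_iff]
        rintro _ ⟨k, rfl⟩
        have hc : Commute x z := hz.symm
        exact (hc.zpow_left k).eq
      exact h1 (Subgroup.mem_inf.mp hy).2
    have hyD : y ∈ sigmaCore M ⊓ H := Subgroup.mem_inf.mpr ⟨(Subgroup.mem_inf.mp hy).1, hyH⟩
    rw [Subgroup.mem_centralizer_iff]
    intro s hs
    have := (Subgroup.mem_centralizer_iff.mp (hB hs)) y hyD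
    exact this.symm
  · apply le_inf inf_le_left
    refine inf_le_right.trans (Subgroup.centralizer_le ?_)
    intro z hz
    rw [Set.mem_singleton_iff.mp hz]
    exact hx

end Cfsg.Agent.S1427
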