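import Cfsg.Statements.S1428
import Cfsg.Agent.Lib.Helper30BG13C

set_option autoImplicit false
open Cfsg

namespace Cfsg.Agent.S1428

open Cfsg.Agent.Lib.Helper30Trans Cfsg.Agent.Lib.Helper24BG Cfsg.Agent.Lib.Helper31BGS
open Cfsg.Agent.Lib.Helper30BG13Defs Cfsg.Agent.Lib.Helper30BG13C
open Cfsg.Agent.Lib.Helper38BG13primeclass Cfsg.Agent.Lib.Helper38BG13classify
open Cfsg.Agent.Lib.Helper90BG13commsylow

/-- Let G be a minimal simple group of odd order, M a maximal subgroup, E a complement to M_σ in M, p ∈ τ₁(M), P ≤ E a subgroup of order p, and R a subgroup of prime order of E ∩ C_G(P). Then M_σ ∩ C_G(P) ≤ M_σ ∩ C_G(R). -/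
theorem result {G : Type*} [Group G] [Finite G] (hG : Cfsg.IsMinSimpleOddOrder G)
    (M : Subgroup G) (hM : IsCoatom M) (E : Subgroup G) (hE : Cfsg.IsComplIn E (Cfsg.sigmaCore M) M) (p : ℕ) (hp : p ∈ Cfsg.tau1 M) (P : Subgroup G) (hPE : P ≤ E) (hP : Nat.card P = p)
    (R : Subgroup G) (hRE : R ≤ E ⊓ Subgroup.centralizer (P : Set G)) (hR : (Nat.card R).Prime) :
    Cfsg.sigmaCore M ⊓ Subgroup.centralizer (P : Set G) ≤ Cfsg.sigmaCore M ⊓ Subgroup.centralizer (R : Set G) := by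
  have hpF : Fact p.Prime := ⟨hp.1⟩
  have hrF : Fact (Nat.card R).Prime := ⟨hR⟩
  have hRE' : R ≤ E := hRE.trans inf_le_left
  have hRP : R ≤ Subgroup.centralizer (P : Set G) := hRE.trans inf_le_right
  have hRM : R ≤ M := hRE'.trans hE.1
  have hPM : P ≤ M := hPE.trans hE.1
  have hrσ : Nat.card R ∉ sigma M := not_mem_sigma_of_dvd_le_compl hG hM hE hRE' hR dvd_rfl
  by_cases hrp : Nat.card R = p
  · rw [eq_of_rank_one hp.2.2.2.2 hPM hRM hP hrp hRP]
  by_contra hcon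
  set D : Subgroup G := sigmaCore M ⊓ Subgroup.centralizer (P : Set G) with hD
  have hnc : ¬ R ≤ Subgroup.centralizer (D : Set G) := by
    intro hle
    exact hcon (le_inf inf_le_left (Subgroup.le_centralizer_iff.mp hle))
  have hRD : R ≤ Subgroup.normalizer (D : Set G) := by
    intro x hx
    have h1 : x ∈ Subgroup.normalizer (sigmaCore M : Set G) :=
      Cfsg.Agent.Lib.Helper30BG2.le_normalizer_sigmaCore M (hRM hx)
    have h2 : x ∈ Subgroup.normalizer ((Subgroup.centralizer (P : Set G) : Subgroup G) : Set G) :=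
      Subgroup.le_normalizer (hRP hx)
    rw [Subgroup.mem_normalizer_iff] at h1 h2 ⊢
    intro y
    rw [hD, Subgroup.mem_inf, Subgroup.mem_inf, h1 y, h2 y]
  have hcop : (Nat.card R).Coprime (Nat.card D) := by
    rw [Nat.Prime.coprime_iff_not_dvd hR]
    intro hd
    exact not_dvd_sigmaCore hG hM hR hrσ (hd.trans (Subgroup.card_dvd_of_le inf_le_left))
  have hs : Group.IsSolvable D := by
    have := hG.2.2.2 M hM.1
    exact Group.isSolvable_of_isSolvable_injective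
      (Subgroup.inclusion_injective (inf_le_left.trans (Cfsg.Agent.Lib.Helper30BG2.sigmaCore_le M) : D ≤ M))
  obtain ⟨q, Q₀, hq, hQ₀, hRQ₀, hne, hle, hcc, hRn⟩ := exists_comm_sylow hRD hcop hs hnc
  have hqF : Fact q.Prime := ⟨hq⟩
  have hPp : IsPGroup p P := Cfsg.Agent.Lib.Helper30BG2.isPGroup_of_card_prime hP
  have hP1 : P ≠ ⊥ := Cfsg.Agent.Lib.Helper30BG2.ne_bot_of_card_prime hP
  obtain ⟨H, hH, hNP⟩ := exists_coatom (norm_ne_top hG hP1 (pgroup_ne_top hG hPp))
  have nc := not_conj_of_rank_one hG hM hp.2.1 hp.2.2.2.2 hPp hP1 hNP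
  have hQ₀M : Q₀ ≤ M := hQ₀.1.trans (inf_le_left.trans (Cfsg.Agent.Lib.Helper30BG2.sigmaCore_le M))
  have hQ₀H : Q₀ ≤ H := hQ₀.1.trans (inf_le_right.trans ((Subgroup.centralizer_le_normalizer _).trans hNP))
  have hab : IsMulCommutative Q₀ := by
    by_contra hna
    obtain ⟨L, -, hu⟩ := Cfsg.Agent.S1422.result hG q Q₀ hQ₀.2.1 hna
    exact nc_ne nc ((hu H ⟨hH, hQ₀H⟩).trans (hu M ⟨hM, hQ₀M⟩).symm)
  have hcop₀ : (Nat.card R).Coprime (Nat.card Q₀) :=
    Nat.Coprime.coprime_dvd_right (Subgroup.card_dvd_of_le hQ₀.1) hcop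
  have hcex : Cex M p (Nat.card R) q P R ⁅Q₀, R⁆ :=
    { hM := hM, hp := hp, hPM := hPM, hP := hP, hr := hR, hrM := hrσ, hrp := hrp, hRM := hRM
      hR := rfl, hRP := hRP, hq := hq, hQ := hQ₀.2.1.to_le hle, hQ1 := hne
      hQM := hle.trans (hQ₀.1.trans inf_le_left), hQP := hle.trans (hQ₀.1.trans inf_le_right)
      hRQ := hRn, hcomm := hcc
      hreg := by
        have := (Cfsg.Agent.S0055.result R Q₀ hRQ₀ hcop₀).1
        rw [eq_bot_iff, ← this]
        exact le_inf (le_inf (inf_le_left.trans hle) inf_le_right) inf_le_left }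
  exact no_cex hG hcex

end Cfsg.Agent.S1428
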