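import Mathlib
import Cfsg.Statements.S1426
import Cfsg.Agent.S1459
import Cfsg.Agent.S1423
import Cfsg.Agent.Lib.Helper30BG
import Cfsg.Agent.Lib.Helper31BGS
import Cfsg.Agent.Lib.Helper68BGC
import Cfsg.Agent.Lib.Helper54Coprime

set_option autoImplicit false
open Cfsg

namespace Cfsg.Agent.S1426

open Subgroup
open Cfsg.Agent.Lib.Helper30Trans
open Cfsg.Agent.Lib.Helper24BG
open Cfsg.Agent.Lib.Helper24BG2
open Cfsg.Agent.Lib.Helper68BGA
open Cfsg.Agent.Lib.Helper68BGC
open Cfsg.Agent.Lib.Helper31BGS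
open Cfsg.Agent.Lib.Helper30BG
open scoped commutatorElement

universe u
variable {G : Type u} [Group G] [Finite G]

/-- `M_σ ≤ M'` -/
theorem sigmaCore_le_derived (hG : IsMinSimpleOddOrder G) {M : Subgroup G} (hM : IsCoatom M) :
    sigmaCore M ≤ ⁅M, M⁆ := by
  apply Cfsg.Agent.Lib.Helper54Coprime.le_of_forall_sylow_le
  intro q _ Q
  rintro _ ⟨x, hx, rfl⟩
  by_cases hx1 : x = 1
  · rw [hx1]; exact one_mem _
  have hq : q ∣ Nat.card (sigmaCore M) := by
    obtain ⟨k, hk⟩ := (Q.2 ⟨x, hx⟩)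
    have hk' : x ^ q ^ k = 1 := by
      have := congrArg (fun t : (Q : Subgroup (sigmaCore M)) => (t : sigmaCore M)) hk
      simpa using this
    have h1 : orderOf x ∣ q ^ k := orderOf_dvd_of_pow_eq_one hk'
    obtain ⟨j, _, hj⟩ := (Nat.dvd_prime_pow Fact.out).mp h1
    have hj0 : j ≠ 0 := by
      rintro rfl
      rw [pow_zero, orderOf_eq_one_iff] at hj
      exact hx1 hj
    have h2 : q ∣ orderOf x := by rw [hj]; exact dvd_pow_self q hj0
    exact h2.trans (orderOf_dvd_natCard x)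
  have hqs : q ∈ sigma M := mem_sigma_of_dvd_sigmaCore hG hM Fact.out hq
  have hxM : (x : G) ∈ M := sigmaCore_le M x.2
  obtain ⟨k, hk⟩ := (Q.2 ⟨x, hx⟩)
  have hk' : (⟨(x : G), hxM⟩ : M) ^ q ^ k = 1 := by
    have := congrArg (fun t : (Q : Subgroup (sigmaCore M)) => ((t : sigmaCore M) : G)) hk
    apply Subtype.ext
    simpa using this
  have h3 := mem_commutator_of_sigma hG hM hqs ⟨(x : G), hxM⟩ ⟨k, hk'⟩
  rw [← map_commutator_subtype]
  exact ⟨_, h3, rfl⟩

theorem part12 (hG : IsMinSimpleOddOrder G) {M : Subgroup G} (hM : IsCoatom M) {E : Subgroup G}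
    (hE : IsComplIn E (sigmaCore M) M) :
    sigmaCore M ⊓ centralizer (E : Set G) ≤ ⁅sigmaCore M, sigmaCore M⁆ ∧
      ⁅sigmaCore M, E⁆ = sigmaCore M := by
  haveI : Group.IsSolvable M := sol hG hM.1
  set H : Subgroup M := piCore (sigma M) M with hH
  set K : Subgroup M := E.subgroupOf M with hK
  have hHmap : H.map M.subtype = sigmaCore M := rfl
  have hKmap : K.map M.subtype = E := by
    rw [hK, Subgroup.subgroupOf_map_subtype, inf_eq_left]; exact hE.1
  have hcardH : Nat.card H = Nat.card (sigmaCore M) := by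
    rw [← hHmap, card_map_of_injective M.subtype_injective]
  have hcardK : Nat.card K = Nat.card E := by
    rw [← hKmap, card_map_of_injective M.subtype_injective]
  have hidx : (sigmaCore M).relIndex M = H.index := by
    show ((H.map M.subtype).subgroupOf M).index = H.index
    rw [Subgroup.subgroupOf, Subgroup.comap_map_eq_self_of_injective M.subtype_injective]
  have h50 := (Cfsg.Agent.S1350.result hG M hM).1
  have hcop : (Nat.card H).Coprime H.index := by
    by_contra hn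
    obtain ⟨p, hp, h1, h2⟩ := Nat.Prime.not_coprime_iff_dvd.mp hn
    rw [hcardH] at h1
    rw [← hidx] at h2
    exact h50.2.2 p hp (h50.2.1 p hp h1) h2
  have hdisj : Disjoint H K := by
    rw [disjoint_iff, eq_bot_iff]
    rintro x ⟨hx1, hx2⟩
    have h1 : (x : G) ∈ E ⊓ sigmaCore M := ⟨mem_subgroupOf.mp hx2, ⟨x, hx1, rfl⟩⟩
    rw [hE.2.2.1, mem_bot] at h1
    rw [mem_bot]; exact Subtype.ext h1
  have hcompl : Subgroup.IsComplement' H K := by
    apply Subgroup.isComplement'_of_card_mul_and_disjoint _ hdisj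
    rw [hcardH, hcardK, mul_comm]; exact card_compl hE
  have hle : H ≤ commutator M := by
    intro x hx
    have h1 : (x : G) ∈ ⁅M, M⁆ := sigmaCore_le_derived hG hM ⟨x, hx, rfl⟩
    rw [← map_commutator_subtype] at h1
    obtain ⟨y, hy, hyx⟩ := h1
    have : y = x := Subtype.ext hyx
    exact this ▸ hy
  obtain ⟨h1, h2⟩ := (Cfsg.Agent.S1459.result (G := M)).1 H K inferInstance hcop hcompl hle
  constructor
  · rintro x ⟨⟨y, hy, rfl⟩, hxc⟩
    have hyc : y ∈ centralizer (K : Set M) := by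
      rw [mem_centralizer_iff]
      intro k hk
      apply Subtype.ext
      exact (mem_centralizer_iff.mp hxc) k (mem_subgroupOf.mp hk)
    have h3 := h2 ⟨hy, hyc⟩
    rw [← hHmap, ← Subgroup.map_commutator]
    exact ⟨y, h3, rfl⟩
  · rw [← hHmap, ← hKmap, ← Subgroup.map_commutator, ← h1]

theorem key (hG : IsMinSimpleOddOrder G) {M : Subgroup G} (hM : IsCoatom M) {g : G} (hg : g ∉ M)
    {p : ℕ} [Fact p.Prime] {X : Subgroup G} (hX : Nat.card X = p) (hXs : X ≤ sigmaCore M)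
    (hXg : X ≤ cj g M) (h : p ∈ beta M ∨ X ≤ ⁅sigmaCore M, sigmaCore M⁆) : False := by
  have hp : p ∈ sigma M :=
    mem_sigma_of_dvd_sigmaCore hG hM Fact.out (hX ▸ card_dvd_of_le hXs)
  have hXM := hXs.trans (sigmaCore_le M)
  obtain ⟨P⟩ : Nonempty (Sylow p ↥(sigmaCore M)) := inferInstance
  have h1 := (Cfsg.Agent.S1423.result hG M hM p hp X hXM hX P h).1.1
  exact hg (mem_of_le_cj hG hM hp (IsPGroup.of_card (n := 1) (by simpa using hX)) hXM h1 hXg)

theorem exists_prime_sub {D : Subgroup G} {p : ℕ} [Fact p.Prime] (h : p ∣ Nat.card D) :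
    ∃ X : Subgroup G, X ≤ D ∧ Nat.card X = p := by
  obtain ⟨x, hx⟩ := exists_prime_orderOf_dvd_card' p h
  refine ⟨zpowers (x : G), by rw [zpowers_le]; exact x.2, ?_⟩
  rw [Nat.card_zpowers, Subgroup.orderOf_coe, hx]

theorem part3 (hG : IsMinSimpleOddOrder G) {M : Subgroup G} (hM : IsCoatom M) {g : G} (hg : g ∉ M) :
    IsCyclic ↥(sigmaCore M ⊓ cj g M) ∧
      (∀ p : ℕ, p.Prime → p ∣ Nat.card ↥(sigmaCore M ⊓ cj g M) → p ∉ beta M) ∧
      sigmaCore M ⊓ cj g M ⊓ ⁅sigmaCore M, sigmaCore M⁆ = ⊥ := by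
  set D := sigmaCore M ⊓ cj g M with hD
  have hb : ∀ p : ℕ, p.Prime → p ∣ Nat.card ↥D → p ∉ beta M := by
    intro p hp hd hβ
    haveI : Fact p.Prime := ⟨hp⟩
    obtain ⟨X, hXD, hX⟩ := exists_prime_sub hd
    exact key hG hM hg hX (hXD.trans inf_le_left) (hXD.trans inf_le_right) (Or.inl hβ)
  have hd : D ⊓ ⁅sigmaCore M, sigmaCore M⁆ = ⊥ := by
    by_contra hne
    have h1 : Nat.card ↥(D ⊓ ⁅sigmaCore M, sigmaCore M⁆) ≠ 1 := by
      rw [Ne, Subgroup.card_eq_one]; exact hne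
    obtain ⟨p, hp, hpd⟩ := Nat.exists_prime_and_dvd h1
    haveI : Fact p.Prime := ⟨hp⟩
    obtain ⟨X, hXD, hX⟩ := exists_prime_sub hpd
    exact key hG hM hg hX (hXD.trans (inf_le_left.trans inf_le_left))
      (hXD.trans (inf_le_left.trans inf_le_right)) (Or.inr (hXD.trans inf_le_right))
  refine ⟨?_, hb, hd⟩
  have hcomm : ∀ a b : D, a * b = b * a := by
    intro a b
    have h1 : ⁅(a : G), (b : G)⁆ ∈ D ⊓ ⁅sigmaCore M, sigmaCore M⁆ :=
      ⟨by rw [commutatorElement_def]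
          exact D.mul_mem (D.mul_mem (D.mul_mem a.2 b.2) (D.inv_mem a.2)) (D.inv_mem b.2),
        commutator_mem_commutator a.2.1 b.2.1⟩
    rw [hd, mem_bot, commutatorElement_eq_one_iff_mul_comm] at h1
    exact Subtype.ext h1
  letI : CommGroup D := { (inferInstance : Group D) with mul_comm := hcomm }
  haveI : IsZGroup D := by
    refine ⟨fun p hp P => ?_⟩
    haveI : Fact p.Prime := ⟨hp⟩
    by_contra hnc
    set P' : Subgroup G := (P : Subgroup D).map D.subtype with hP'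
    have hP'D : P' ≤ D := map_subtype_le _
    have hP'p : IsPGroup p P' := P.2.map _
    have hnc' : ¬ IsCyclic P' := by
      intro h
      exact hnc (((P : Subgroup D).equivMapOfInjective D.subtype D.subtype_injective).isCyclic.mpr h)
    have hP1 : P' ≠ ⊥ := by
      intro h
      apply hnc'
      rw [h]; infer_instance
    have hpd : p ∣ Nat.card (sigmaCore M) :=
      dvd_card_of_pgroup hP'p hP1 (hP'D.trans inf_le_left)
    have hps : p ∈ sigma M := mem_sigma_of_dvd_sigmaCore hG hM hp hpd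
    have hP'M : P' ≤ M := (hP'D.trans inf_le_left).trans (sigmaCore_le M)
    have hN := norm_le_of_noncyclic hG hM hps hP'p hP'M hnc'
    exact hg (mem_of_le_cj hG hM hps hP'p hP'M
      ((Subgroup.centralizer_le_normalizer _).trans hN) (hP'D.trans inf_le_right))
  infer_instance

/-- Let G be a minimal simple group of odd order, M a maximal subgroup and E a complement to M_σ in M. Then M_σ ∩ C_G(E) ≤ (M_σ)', the commutator subgroup [M_σ, E] equals M_σ, and for every g outside M the intersection M_σ ∩ gMg⁻¹ is cyclic, has no prime divisor in β(M), and meets (M_σ)' trivially. -/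
theorem result {G : Type*} [Group G] [Finite G] (hG : Cfsg.IsMinSimpleOddOrder G)
    (M : Subgroup G) (hM : IsCoatom M) (E : Subgroup G) (hE : Cfsg.IsComplIn E (Cfsg.sigmaCore M) M) :
    Cfsg.sigmaCore M ⊓ Subgroup.centralizer (E : Set G) ≤ ⁅Cfsg.sigmaCore M, Cfsg.sigmaCore M⁆ ∧
      ⁅Cfsg.sigmaCore M, E⁆ = Cfsg.sigmaCore M ∧
      ∀ g : G, g ∉ M → IsCyclic ↥(Cfsg.sigmaCore M ⊓ M.map (MulAut.conj g).toMonoidHom) ∧
        (∀ p : ℕ, p.Prime → p ∣ Nat.card ↥(Cfsg.sigmaCore M ⊓ M.map (MulAut.conj g).toMonoidHom) → p ∉ Cfsg.beta M) ∧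
        Cfsg.sigmaCore M ⊓ M.map (MulAut.conj g).toMonoidHom ⊓ ⁅Cfsg.sigmaCore M, Cfsg.sigmaCore M⁆ = ⊥ := by
  obtain ⟨h1, h2⟩ := part12 hG hM hE
  exact ⟨h1, h2, fun g hg => part3 hG hM hg⟩

end Cfsg.Agent.S1426
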