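import Cfsg.Statements.S1431
import Cfsg.Agent.Lib.Helper52BG14
import Cfsg.Agent.Lib.Helper68BG36dichotomy

set_option autoImplicit false
open Cfsg

namespace Cfsg.Agent.S1431

open Subgroup Cfsg.Agent.Lib.Helper30Trans Cfsg.Agent.Lib.Helper24BG

/-- a nontrivial subgroup contains a subgroup of prime order. -/
theorem exists_prime_sub {G : Type*} [Group G] [Finite G] {D : Subgroup G} (hD : D ≠ ⊥) :
    ∃ X : Subgroup G, X ≤ D ∧ (Nat.card X).Prime := by
  have hDc : Nat.card D ≠ 1 := fun h => hD (Subgroup.card_eq_one.mp h)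
  obtain ⟨s, hs, hsd⟩ := Nat.exists_prime_and_dvd hDc
  haveI := Fact.mk hs
  obtain ⟨y, hy⟩ := exists_prime_orderOf_dvd_card' (G := D) s hsd
  refine ⟨zpowers (y : G), by rw [zpowers_le]; exact y.2, ?_⟩
  rw [Nat.card_zpowers, Subgroup.orderOf_coe, hy]
  exact hs

/-- a subgroup of order `p` for a prime divisor `p` of the order. -/
theorem exists_sub_card {G : Type*} [Group G] [Finite G] {D : Subgroup G} {p : ℕ} (hp : p.Prime)
    (hd : p ∣ Nat.card D) : ∃ X : Subgroup G, X ≤ D ∧ Nat.card X = p := by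
  haveI := Fact.mk hp
  obtain ⟨y, hy⟩ := exists_prime_orderOf_dvd_card' (G := D) p hd
  refine ⟨zpowers (y : G), by rw [zpowers_le]; exact y.2, ?_⟩
  rw [Nat.card_zpowers, Subgroup.orderOf_coe, hy]

/-- two subgroups of order `p` of a cyclic subgroup. -/
theorem le_of_cyclic {G : Type*} [Group G] [Finite G] {p : ℕ} (hp : p.Prime) {S X X' : Subgroup G}
    (hS : IsCyclic S) (hX : X ≤ S) (hX' : X' ≤ S) (hc : Nat.card X = p) (hc' : Nat.card X' = p) :
    X ≤ X' := by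
  haveI := Fact.mk hp
  obtain ⟨g, hg⟩ := (isCyclic_of_prime_card hc').exists_generator
  have hgo : orderOf (g : G) = p := by
    rw [Subgroup.orderOf_coe, orderOf_eq_card_of_forall_mem_zpowers hg, hc']
  intro x hx
  have hxp : x ^ p = 1 := by
    have := pow_card_eq_one' (G := X) (x := ⟨x, hx⟩)
    rw [hc] at this
    exact congrArg Subtype.val this
  have h1 := Cfsg.Agent.Lib.Helper68BG36dichotomy.mem_zpowers_of_cyclic (C := ↥S) hp
    (a := ⟨g, hX' g.2⟩) (b := ⟨x, hX hx⟩)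
    (by rw [← hgo]; exact (Subgroup.orderOf_mk _ _))
    (by apply Subtype.ext; exact hxp)
  obtain ⟨k, hk⟩ := Subgroup.mem_zpowers_iff.mp h1
  have hk' : (g : G) ^ k = x := congrArg Subtype.val hk
  rw [← hk']
  exact X'.zpow_mem g.2 k

/-- Let G be a minimal simple group of odd order, M a maximal subgroup, K ≠ 1 a Hall κ(M)-subgroup of M and K* = M_σ ∩ C_G(K). Then K* ∩ gMg⁻¹ = 1 for g ∉ M; K ∩ gKg⁻¹ = 1 for g ∈ M outside K K*; for every prime p dividing the order of K* and every Sylow p-subgroup S of M_σ, M is the unique maximal subgroup containing S, and S is not contained in K*; and every subgroup Y of G whose prime divisors lie in σ(M) and with Y ∩ K* ≠ 1 is contained in M_σ. -/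
theorem result {G : Type*} [Group G] [Finite G] (hG : Cfsg.IsMinSimpleOddOrder G)
    (M : Subgroup G) (hM : IsCoatom M) (K : Subgroup G) (hK : Cfsg.IsPiHallOf (Cfsg.kappa M) K M) (hK1 : K ≠ ⊥) :
    (∀ g : G, g ∉ M → (Cfsg.sigmaCore M ⊓ Subgroup.centralizer (K : Set G)) ⊓ M.map (MulAut.conj g).toMonoidHom = ⊥) ∧
      (∀ g ∈ M, g ∉ K ⊔ (Cfsg.sigmaCore M ⊓ Subgroup.centralizer (K : Set G)) → K ⊓ K.map (MulAut.conj g).toMonoidHom = ⊥) ∧
      (∀ (p : ℕ), p.Prime → p ∣ Nat.card ↥(Cfsg.sigmaCore M ⊓ Subgroup.centralizer (K : Set G)) → ∀ S : Sylow p ↥(Cfsg.sigmaCore M),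
        Cfsg.InUniqueMaximal ((S : Subgroup ↥(Cfsg.sigmaCore M)).map (Cfsg.sigmaCore M).subtype) ∧
        (S : Subgroup ↥(Cfsg.sigmaCore M)).map (Cfsg.sigmaCore M).subtype ≤ M ∧
        ¬ (S : Subgroup ↥(Cfsg.sigmaCore M)).map (Cfsg.sigmaCore M).subtype ≤ (Cfsg.sigmaCore M ⊓ Subgroup.centralizer (K : Set G))) ∧
      ∀ Y : Subgroup G, (∀ p : ℕ, p.Prime → p ∣ Nat.card Y → p ∈ Cfsg.sigma M) → Y ⊓ (Cfsg.sigmaCore M ⊓ Subgroup.centralizer (K : Set G)) ≠ ⊥ → Y ≤ Cfsg.sigmaCore M := by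
  obtain ⟨ha1, ha2, -, ha4, -, -⟩ := Cfsg.Agent.Lib.Helper52BG14.ptype_a hG hM hK hK1
  obtain ⟨hb1, hb2⟩ := Cfsg.Agent.Lib.Helper52BG14.ptype_b hG hM hK hK1
  have hc := fun {X : Subgroup G} => Cfsg.Agent.Lib.Helper52BG14.ptype_c hG hM hK hK1 (X := X)
  set Ks : Subgroup G := sigmaCore M ⊓ centralizer (K : Set G) with hKs
  have hMsM : sigmaCore M ≤ M := Cfsg.Agent.Lib.Helper30BG2.sigmaCore_le M
  have hσ : ∀ X : Subgroup G, X ≤ Ks → (Nat.card X).Prime → Nat.card X ∈ sigma M := fun X hX hXp =>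
    Cfsg.Agent.Lib.Helper30BG2.card_sigmaCore hG hM _ hXp
      (Subgroup.card_dvd_of_le (hX.trans inf_le_left))
  refine ⟨?_, ?_, ?_, ?_⟩
  · intro g hg
    by_contra hne
    obtain ⟨X, hX, hXp⟩ := exists_prime_sub hne
    haveI := Fact.mk hXp
    exact hg (Cfsg.Agent.Lib.Helper30BG.mem_of_le_cj hG hM (hσ X (hX.trans inf_le_left) hXp)
      (IsPGroup.of_card (n := 1) (by rw [pow_one])) ((hX.trans inf_le_left).trans
        (inf_le_left.trans hMsM)) (hc (hX.trans inf_le_left) hXp).1.1 (hX.trans inf_le_right))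
  · intro g hgM hg
    by_contra hne
    obtain ⟨X, hX, hXp⟩ := exists_prime_sub hne
    haveI := Fact.mk hXp
    have hXK : X ≤ K := hX.trans inf_le_left
    have hX' : cj g⁻¹ X ≤ K := by
      rw [cj_le_iff, inv_inv]; exact hX.trans inf_le_right
    have hκ : Nat.card X ∈ kappa M := hK.2.1 _ hXp (Subgroup.card_dvd_of_le hXK)
    have hr1 : PRankLE (Nat.card X) 1 M := by
      rcases Cfsg.Agent.Lib.Helper52BG14.kappa_cases hκ with h | h
      · exact h.2.2.2.2
      · exact h.2.2.2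
    have hXpg : IsPGroup (Nat.card X) X := IsPGroup.of_card (n := 1) (by rw [pow_one])
    have hXpg' : IsPGroup (Nat.card X) (cj g⁻¹ X) :=
      IsPGroup.of_card (n := 1) (by rw [pow_one, card_cj])
    have hsup : IsPGroup (Nat.card X) (X ⊔ cj g⁻¹ X : Subgroup G) :=
      IsPGroup.to_sup_of_normal_left' hXpg hXpg' (hX'.trans (ha4 X hXK hXp))
    obtain ⟨S, hS, hle⟩ := exists_isSyl_ge ((sup_le hXK hX').trans hK.1) hsup
    have hX1 : X ≠ ⊥ := by
      intro h
      rw [h, Subgroup.card_bot] at hXp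
      exact Nat.not_prime_one hXp
    have hScyc : IsCyclic S := Cfsg.Agent.Lib.Helper27BGa.cyclic_of_rank_one
      (ne_two hG hXpg hX1) hS.2.1 (rank_le_of_le hS.1 hr1)
    have h1 : cj g⁻¹ X ≤ X := le_of_cyclic hXp hScyc (le_sup_right.trans hle) (le_sup_left.trans hle)
      (card_cj _ _) rfl
    have h2 : cj g⁻¹ X = X := Subgroup.eq_of_le_of_card_ge h1 (by rw [card_cj])
    have h3 : g⁻¹ ∈ normalizer (X : Set G) :=
      Subgroup.mem_normalizer_iff_map_conj_eq.mpr h2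
    have h4 : g ∈ M ⊓ normalizer (X : Set G) := ⟨hgM, by simpa using inv_mem h3⟩
    rw [hb2 X hXK hXp] at h4
    exact hg h4
  · intro p hp hpd S
    obtain ⟨X, hX, hXc⟩ := exists_sub_card hp hpd
    have hXp : (Nat.card X).Prime := by rw [hXc]; exact hp
    have hSs := isSyl_of_sylow S
    have hu : InUniqueMaximal ((S : Subgroup ↥(sigmaCore M)).map (sigmaCore M).subtype) :=
      (hc hX hXp).2 _ (by rw [hXc]; exact hSs)
    refine ⟨hu, hSs.1.trans hMsM, ?_⟩
    intro hSK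
    obtain ⟨X₀, hX₀, hX₀p⟩ := exists_prime_sub hK1
    haveI := Fact.mk hX₀p
    have hX₀1 : X₀ ≠ ⊥ := by
      intro h
      rw [h, Subgroup.card_bot] at hX₀p
      exact Nat.not_prime_one hX₀p
    have hX₀pg : IsPGroup (Nat.card X₀) X₀ := IsPGroup.of_card (n := 1) (by rw [pow_one])
    obtain ⟨H, hH, hNH⟩ := exists_coatom (norm_ne_top hG hX₀1 (pgroup_ne_top hG hX₀pg))
    have hκ : Nat.card X₀ ∈ kappa M := hK.2.1 _ hX₀p (Subgroup.card_dvd_of_le hX₀)
    have hk := Cfsg.Agent.Lib.Helper52BG14.kappa_norm_sigma hG hM hκ (hX₀.trans hK.1) rfl hH hNH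
    have hSH : (S : Subgroup ↥(sigmaCore M)).map (sigmaCore M).subtype ≤ H := by
      refine (hSK.trans inf_le_right).trans (((Subgroup.centralizer_le hX₀).trans ?_).trans hNH)
      exact Cfsg.Agent.Lib.Helper27Basic.centralizer_le_normalizer' _
    obtain ⟨M', -, huq⟩ := hu
    have hHM : H = M := (huq H ⟨hH, hSH⟩).trans (huq M ⟨hM, hSs.1.trans hMsM⟩).symm
    exact hk.2.2 1 (by rw [cj_one]; exact hHM)
  · intro Y hY hYK
    have hY1 : Y ≠ ⊥ := by
      rintro rfl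
      exact hYK (bot_inf_eq _)
    obtain ⟨g, hg⟩ := Cfsg.Agent.Lib.Helper37BG.exists_cj_le_sigmaCore hG hM hY1 hY
    obtain ⟨X, hX, hXp⟩ := exists_prime_sub hYK
    haveI := Fact.mk hXp
    have hXKs : X ≤ Ks := hX.trans inf_le_right
    have h1 : X ≤ cj g⁻¹ M := by
      rw [← cj_le_iff]
      exact (cj_mono (hX.trans inf_le_left)).trans (hg.trans hMsM)
    have h2 : g⁻¹ ∈ M := Cfsg.Agent.Lib.Helper30BG.mem_of_le_cj hG hM (hσ X hXKs hXp)
      (IsPGroup.of_card (n := 1) (by rw [pow_one])) (hXKs.trans (inf_le_left.trans hMsM))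
      (hc hXKs hXp).1.1 h1
    have h3 : Y ≤ cj g⁻¹ (sigmaCore M) := cj_le_iff.mp hg
    rwa [cj_eq_self_of_mem_normalizer
      (Cfsg.Agent.Lib.Helper30BG2.le_normalizer_sigmaCore M h2)] at h3

end Cfsg.Agent.S1431
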