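import Cfsg.Statements.S0058
import Cfsg.Agent.Lib.Helper30Gen

set_option autoImplicit false
open Cfsg

namespace Cfsg.Agent.S0058

open Cfsg.Agent.Lib.Helper30Gen
open scoped IsMulCommutative

/-- Generation by centralisers: when a noncyclic abelian group A normalises K with coprime orders, K is generated by the fixed-point subgroups of the nonidentity elements of A. -/
theorem result {G : Type*} [Group G] [Finite G] (A K : Subgroup G)
    [IsMulCommutative A] (hA : ¬ IsCyclic A) (hAK : A ≤ Subgroup.normalizer (K : Set G)) (hcop : (Nat.card A).Coprime (Nat.card K)) :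
    (⨆ a ∈ {a : G | a ∈ A ∧ a ≠ 1}, K ⊓ Subgroup.centralizer {a}) = K := by
  apply le_antisymm
  · exact iSup₂_le fun _ _ => inf_le_left
  obtain ⟨r, w, z, hr, hw, hz, hw1, hzw⟩ := exists_rank_two hA
  have : Fact r.Prime := ⟨hr⟩
  have hrA : r ∣ Nat.card A := by
    have h1 : orderOf w = r := orderOf_eq_prime hw hw1
    rw [← h1]; exact orderOf_dvd_natCard w
  have hcopr : (Nat.card K).Coprime r := (Nat.Coprime.coprime_dvd_left hrA hcop).symm
  have key := le_gen (K := K) (r := r) (w := (w : G)) (z := (z : G))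
    (congrArg (fun t : A => (t : G)) (mul_comm w z))
    (congrArg (fun t : A => (t : G)) hw) (congrArg (fun t : A => (t : G)) hz) hcopr
    (hAK w.2) (hAK z.2)
  refine le_trans key ?_
  apply sup_le
  · refine le_iSup₂_of_le (w : G) ⟨w.2, fun h => hw1 (Subtype.ext h)⟩ le_rfl
  · apply iSup_le
    intro j
    refine le_iSup₂_of_le ((z : G) * (w : G) ^ j) ⟨(z * w ^ j).2, fun h => hzw j (Subtype.ext h)⟩ le_rfl

end Cfsg.Agent.S0058
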