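import Cfsg.Statements.S1432
import Cfsg.Agent.Lib.Helper52BG14
import Cfsg.Agent.Lib.Helper37BG14kbasic
import Cfsg.Agent.S1420

set_option autoImplicit false
open Cfsg

namespace Cfsg.Agent.S1432

open Subgroup Cfsg.Agent.Lib.Helper30Trans Cfsg.Agent.Lib.Helper24BG

theorem mem_centralizer_zpowers {G : Type*} [Group G] {x y : G} (h : x * y = y * x) (n : ℕ) :
    x ∈ centralizer ((zpowers (y ^ n) : Subgroup G) : Set G) := by
  rw [Subgroup.mem_centralizer_iff]
  intro z hz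
  obtain ⟨k, rfl⟩ := Subgroup.mem_zpowers_iff.mp hz
  exact ((Commute.zpow_right (Commute.pow_right (show Commute x y from h) n) k).eq).symm

theorem tau_cases {G : Type*} [Group G] [Finite G] (hG : Cfsg.IsMinSimpleOddOrder G)
    {M : Subgroup G} (hM : IsCoatom M) {r : ℕ} (hr : r.Prime) (hd : r ∣ Nat.card M)
    (hσ : r ∉ sigma M) : (r ∈ tau1 M ∨ r ∈ tau3 M) ∨ r ∈ tau2 M := by
  have h2 : PRankLE r 2 M := by
    by_contra h
    exact hσ (Cfsg.Agent.Lib.Helper68BGC.alpha_sub_sigma hG hM ⟨hr, h⟩)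
  by_cases h1 : PRankLE r 1 M
  · left
    by_cases h3 : r ∣ Nat.card ↥⁅M, M⁆
    · exact Or.inr ⟨hr, hσ, h3, h1⟩
    · exact Or.inl ⟨hr, hσ, hd, h3, h1⟩
  · exact Or.inr ⟨hr, hσ, h2, h1⟩

/-- Let G be a minimal simple group of odd order, M a maximal subgroup, x a non-identity element of M_σ and x' a non-identity element of C_M(x) no prime divisor of whose order lies in σ(M). Then either all prime divisors of the order of x' lie in κ(M) and C_G(x) ≤ M; or all of them lie in τ₂(M), they all lie in σ(L) for a single maximal subgroup L, and C_G(x') ≤ M with M the unique maximal subgroup containing C_G(x'). -/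
theorem result {G : Type*} [Group G] [Finite G] (hG : Cfsg.IsMinSimpleOddOrder G)
    (M : Subgroup G) (hM : IsCoatom M) (x : G) (hx : x ∈ Cfsg.sigmaCore M) (hx1 : x ≠ 1) (x' : G) (hx' : x' ∈ M ⊓ Subgroup.centralizer ({x} : Set G)) (hx'1 : x' ≠ 1)
    (hσ : ∀ p : ℕ, p.Prime → p ∣ orderOf x' → p ∉ Cfsg.sigma M) :
    ((∀ p : ℕ, p.Prime → p ∣ orderOf x' → p ∈ Cfsg.kappa M) ∧ Subgroup.centralizer ({x} : Set G) ≤ M) ∨
      ((∀ p : ℕ, p.Prime → p ∣ orderOf x' → p ∈ Cfsg.tau2 M) ∧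
        (∃ L : Subgroup G, IsCoatom L ∧ ∀ p : ℕ, p.Prime → p ∣ orderOf x' → p ∈ Cfsg.sigma L) ∧
        (Subgroup.centralizer ({x'} : Set G) ≤ M ∧ ∀ L : Subgroup G, IsCoatom L → Subgroup.centralizer ({x'} : Set G) ≤ L → L = M)) := by
  have hxx' : x * x' = x' * x := Subgroup.mem_centralizer_iff.mp hx'.2 x (Set.mem_singleton x)
  have ho : orderOf x' ≠ 0 := (orderOf_pos x').ne'
  have hMsM : sigmaCore M ≤ M := Cfsg.Agent.Lib.Helper30BG2.sigmaCore_le M
  -- the subgroup of order `r`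
  have hR : ∀ r : ℕ, r.Prime → r ∣ orderOf x' →
      Nat.card (zpowers (x' ^ (orderOf x' / r))) = r ∧ zpowers (x' ^ (orderOf x' / r)) ≤ M ∧
      x ∈ sigmaCore M ⊓ centralizer ((zpowers (x' ^ (orderOf x' / r)) : Subgroup G) : Set G) := by
    intro r hr hd
    refine ⟨by rw [Nat.card_zpowers, orderOf_pow_orderOf_div ho hd], ?_, hx,
      mem_centralizer_zpowers hxx' _⟩
    rw [zpowers_le]
    exact M.pow_mem hx'.1 _
  have hcase : ∀ r : ℕ, r.Prime → r ∣ orderOf x' → r ∈ kappa M ∨ r ∈ tau2 M := by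
    intro r hr hd
    obtain ⟨h1, h2, h3⟩ := hR r hr hd
    have hdM : r ∣ Nat.card M := by rw [← h1]; exact Subgroup.card_dvd_of_le h2
    rcases tau_cases hG hM hr hdM (hσ r hr hd) with h | h
    · left
      refine Cfsg.Agent.Lib.Helper37BG14kbasic.mem_kappa_of hG h h2 h1 ?_
      intro hbot
      rw [hbot, Subgroup.mem_bot] at h3
      exact hx1 h3
    · exact Or.inr h
  by_cases hex : ∃ r : ℕ, r.Prime ∧ r ∣ orderOf x' ∧ r ∈ kappa M
  · left
    obtain ⟨r, hr, hd, hκ⟩ := hex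
    obtain ⟨h1, h2, h3⟩ := hR r hr hd
    set k : G := x' ^ (orderOf x' / r) with hk
    obtain ⟨K, hK, hRK⟩ := Cfsg.Agent.Lib.Helper37BG14kbasic.exists_kappa_hall_ge hG hM h2 (by
      intro p hp hpd
      rw [h1] at hpd
      rwa [(Nat.prime_dvd_prime_iff_eq hp hr).mp hpd])
    have hkK : k ∈ K := hRK (mem_zpowers k)
    have hk1 : k ≠ 1 := by
      intro h
      rw [h, zpowers_one_eq_bot, Subgroup.card_bot] at h1
      exact hr.one_lt.ne h1
    have hK1 : K ≠ ⊥ := by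
      rintro rfl
      exact hk1 (Subgroup.mem_bot.mp hkK)
    obtain ⟨ha1, -, -, -, -, -⟩ := Cfsg.Agent.Lib.Helper52BG14.ptype_a hG hM hK hK1
    obtain ⟨-, hb2⟩ := Cfsg.Agent.Lib.Helper52BG14.ptype_b hG hM hK hK1
    set Ks : Subgroup G := sigmaCore M ⊓ centralizer (K : Set G) with hKs
    have hxKs : x ∈ Ks := by
      rw [← ha1 k hkK hk1]
      refine ⟨hx, ?_⟩
      show x ∈ centralizer ({k} : Set G)
      rw [Subgroup.mem_centralizer_iff]
      intro z hz
      rw [Set.mem_singleton_iff.mp hz]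
      exact ((Commute.pow_right (show Commute x x' from hxx') _).eq).symm
    have hx'N : x' ∈ M ⊓ normalizer ((zpowers k : Subgroup G) : Set G) := by
      refine ⟨hx'.1, Cfsg.Agent.Lib.Helper27Basic.centralizer_le_normalizer' _ ?_⟩
      exact mem_centralizer_zpowers rfl _
    rw [hb2 (zpowers k) hRK (by rw [h1]; exact hr)] at hx'N
    have hKsN : Ks ≤ normalizer (K : Set G) :=
      inf_le_right.trans (Cfsg.Agent.Lib.Helper27Basic.centralizer_le_normalizer' _)
    rw [← SetLike.mem_coe, coe_mul_of_right_le_normalizer_left K Ks hKsN, Set.mem_mul] at hx'N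
    obtain ⟨k₁, hk₁, s, hs, hks⟩ := hx'N
    have hcomm : Commute k₁ s := (Subgroup.mem_centralizer_iff.mp hs.2 k₁ hk₁)
    have hcop : (orderOf k₁).Coprime (orderOf s) := by
      apply Nat.coprime_of_dvd
      intro p hp hp1 hp2
      have h4 : p ∈ kappa M := hK.2.1 p hp (hp1.trans (Subgroup.orderOf_dvd_natCard K hk₁))
      have h5 : p ∈ sigma M := Cfsg.Agent.Lib.Helper30BG2.card_sigmaCore hG hM p hp
        (hp2.trans (Subgroup.orderOf_dvd_natCard _ hs.1))
      exact h4.2.2.1 h5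
    have hord : orderOf x' = orderOf k₁ * orderOf s := by
      rw [← hks]; exact hcomm.orderOf_mul_eq_mul_orderOf_of_coprime hcop
    have hs1 : s = 1 := by
      rw [← orderOf_eq_one_iff]
      by_contra hne
      obtain ⟨p, hp, hpd⟩ := Nat.exists_prime_and_dvd hne
      exact hσ p hp (by rw [hord]; exact Dvd.dvd.mul_left hpd _)
        (Cfsg.Agent.Lib.Helper30BG2.card_sigmaCore hG hM p hp
          (hpd.trans (Subgroup.orderOf_dvd_natCard _ hs.1)))
    have hx'K : x' ∈ K := by rw [← hks, hs1, mul_one]; exact hk₁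
    refine ⟨fun p hp hpd => hK.2.1 p hp (hpd.trans (Subgroup.orderOf_dvd_natCard K hx'K)), ?_⟩
    -- `C(x) ≤ M`
    have hox : orderOf x ≠ 1 := fun h => hx1 (orderOf_eq_one_iff.mp h)
    obtain ⟨q, hq, hqd⟩ := Nat.exists_prime_and_dvd hox
    have hX₀c : Nat.card (zpowers (x ^ (orderOf x / q))) = q := by
      rw [Nat.card_zpowers, orderOf_pow_orderOf_div (orderOf_pos x).ne' hqd]
    have hX₀ : zpowers (x ^ (orderOf x / q)) ≤ Ks := by
      rw [zpowers_le]; exact Ks.pow_mem hxKs _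
    have hc := (Cfsg.Agent.Lib.Helper52BG14.ptype_c hG hM hK hK1 hX₀ (by rw [hX₀c]; exact hq)).1.1
    refine le_trans ?_ hc
    intro g hg
    exact mem_centralizer_zpowers
      ((Subgroup.mem_centralizer_iff.mp hg x (Set.mem_singleton x)).symm) _
  · right
    have hτ : ∀ p : ℕ, p.Prime → p ∣ orderOf x' → p ∈ tau2 M := by
      intro p hp hpd
      rcases hcase p hp hpd with h | h
      · exact absurd ⟨p, hp, hpd, h⟩ hex
      · exact h
    have hox' : orderOf x' ≠ 1 := fun h => hx'1 (orderOf_eq_one_iff.mp h)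
    obtain ⟨r, hr, hrd⟩ := Nat.exists_prime_and_dvd hox'
    haveI := Fact.mk hr
    have hrτ := hτ r hr hrd
    obtain ⟨A, hAM, hAe, hA2⟩ := Cfsg.Agent.Lib.Helper31BGS.exists_sq hrτ.2.2.2
    obtain ⟨E, hE, hAE⟩ := Cfsg.Agent.Lib.Helper31BGS.exists_compl_ge hG hM hAM (by
      intro p hp hpd
      rw [hA2] at hpd
      rw [(Nat.prime_dvd_prime_iff_eq hp hr).mp (hp.dvd_of_dvd_pow hpd)]
      exact hrτ.2.1)
    have hAp : IsPGroup r A := isPGroup_of_elemAb hAe
    have hA1 : A ≠ ⊥ := by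
      rintro rfl
      rw [Subgroup.card_bot] at hA2
      exact (Nat.one_lt_pow (by norm_num) hr.one_lt).ne hA2
    obtain ⟨L, hL, hNL⟩ := exists_coatom (norm_ne_top hG hA1 (pgroup_ne_top hG hAp))
    have hn := Cfsg.Agent.Lib.Helper52BG14.norm_tau2 hG hM hE hrτ hAE hAe hA2 hL hNL
    refine ⟨hτ, ⟨L, hL, fun p hp hpd => hn.2.2.2.2.2 p (hτ p hp hpd)⟩, ?_⟩
    exact (Cfsg.Agent.S1420.result hG M hM E hE).2.2.2 x' hx'.1 hx'1 hτ
      ⟨hx'.1, x, hx, hx1, hxx'.symm⟩

end Cfsg.Agent.S1432
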