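import Cfsg.Statements.S1375
import Cfsg.Agent.S1432
import Cfsg.Agent.S1417
import Cfsg.Agent.Lib.Helper37BG14emb
import Cfsg.Agent.Lib.Helper37BG14kbasic
import Cfsg.Agent.Lib.Helper27BG16basic
import Cfsg.Agent.Lib.Helper27BG16fhall

set_option autoImplicit false
open Cfsg

namespace Cfsg.Agent.S1375

open Subgroup
open Cfsg.Agent.Lib.Helper30Trans Cfsg.Agent.Lib.Helper24BG Cfsg.Agent.Lib.Helper31BGS
open Cfsg.Agent.Lib.Helper37BG14emb
open Cfsg.Agent.Lib.Helper27BG16fhall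

/-- Let G be a minimal simple group of odd order, M a maximal subgroup, x ≠ 1 in M_σ with C_G(x) not contained in M. Then exactly one maximal subgroup N contains C_G(x); for it N_σ = N_F, C_{N_σ}(x) is a normal subgroup of C_G(x) complementing C_M(x), M ∩ N is a complement to N_σ in N, and for every standard factorisation N = K' U' N_σ one has U' ≠ 1 and x ∈ A(N) with x ∉ N_σ. -/
theorem result {G : Type*} [Group G] [Finite G] (hG : Cfsg.IsMinSimpleOddOrder G)
    (M : Subgroup G) (hM : IsCoatom M) (x : G) (hx : x ∈ Cfsg.sigmaCore M) (hx1 : x ≠ 1) (hxM : ¬ Subgroup.centralizer ({x} : Set G) ≤ M) :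
    ∃ N : Subgroup G, (IsCoatom N ∧ Subgroup.centralizer ({x} : Set G) ≤ N) ∧ (∀ L : Subgroup G, IsCoatom L → Subgroup.centralizer ({x} : Set G) ≤ L → L = N) ∧
        Cfsg.sigmaCore N = Cfsg.fittingHallOf N ∧
        Subgroup.centralizer ({x} : Set G) ≤ Subgroup.normalizer ((Cfsg.sigmaCore N ⊓ Subgroup.centralizer ({x} : Set G) : Subgroup G) : Set G) ∧
        Cfsg.IsComplIn (M ⊓ Subgroup.centralizer ({x} : Set G)) (Cfsg.sigmaCore N ⊓ Subgroup.centralizer ({x} : Set G)) (Subgroup.centralizer ({x} : Set G)) ∧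
        Cfsg.IsComplIn (M ⊓ N) (Cfsg.sigmaCore N) N ∧
        ∀ K' U' : Subgroup G, Cfsg.IsSigmaDecomposition N K' U' → U' ≠ ⊥ ∧ x ∈ Cfsg.sigmaA N U' ∧ x ∉ Cfsg.sigmaCore N := by
  have hox : orderOf x ≠ 1 := fun h => hx1 (orderOf_eq_one_iff.1 h)
  obtain ⟨q, hq, hqd⟩ := Nat.exists_prime_and_dvd hox
  have := Fact.mk hq
  set w := x ^ (orderOf x / q) with hw
  have how : orderOf w = q := orderOf_pow_orderOf_div (orderOf_pos x).ne' hqd
  set X := zpowers w with hXdef
  have hXc : Nat.card X = q := by rw [hXdef, Nat.card_zpowers, how]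
  have hXS : X ≤ sigmaCore M := zpowers_le.2 (pow_mem hx _)
  have hXM : X ≤ M := hXS.trans (sigmaCore_le M)
  have hqσ : q ∈ sigma M := mem_sigma_of_dvd_sigmaCore hG hM hq (hXc ▸ card_dvd_of_le hXS)
  have hx2 : x ∈ centralizer ((centralizer ({x} : Set G) : Subgroup G) : Set G) := by
    rw [mem_centralizer_iff]
    intro c hc
    exact ((mem_centralizer_iff.1 hc) x rfl).symm
  have hCC : centralizer ({x} : Set G) ≤ centralizer (X : Set G) :=
    le_centralizer_iff.1 (zpowers_le.2 (pow_mem hx2 _))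
  have hnot : ¬ normalizer (X : Set G) ≤ M := fun h =>
    hxM ((hCC.trans (centralizer_le_normalizer _)).trans h)
  have hX1 : X ≠ ⊥ := Cfsg.Agent.Lib.Helper30BG2.ne_bot_of_card_prime hXc
  have hXt : X ≠ ⊤ := fun h => hM.1 (top_le_iff.1 (h ▸ hXM))
  obtain ⟨N, hN, hNX⟩ := exists_coatom (norm_ne_top hG hX1 hXt)
  obtain ⟨hqτ, hcompl, hinf, -, hdisj, B, hBD, hBe, hB2⟩ :=
    emb hG hM hqσ (Cfsg.Agent.Lib.Helper30BG2.isPGroup_of_card_prime hXc) hX1 hXM hnot hN hNX
  have hCN : centralizer ({x} : Set G) ≤ N := (hCC.trans (centralizer_le_normalizer _)).trans hNX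
  have hxC : x ∈ centralizer ({x} : Set G) := by
    rw [mem_centralizer_iff]; intro h hh; rw [Set.mem_singleton_iff.1 hh]
  have hxN : x ∈ N := hCN hxC
  have hxM' : x ∈ M := sigmaCore_le M hx
  have hxD : x ∈ M ⊓ N := mem_inf.2 ⟨hxM', hxN⟩
  -- FACT 1
  have fact1 : ∀ c ∈ centralizer ({x} : Set G), ∃ d ∈ M ⊓ centralizer ({x} : Set G),
      ∃ s ∈ sigmaCore N ⊓ centralizer ({x} : Set G), c = d * s := by
    intro c hc
    obtain ⟨d, hd, s, hs, rfl⟩ := hcompl.2.2.2 c (hCN hc)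
    have hxd : x * d * x⁻¹ ∈ M ⊓ N := mul_mem (mul_mem hxD hd) (inv_mem hxD)
    have hxs : x * s * x⁻¹ ∈ sigmaCore N :=
      (mem_normalizer_iff.1 (le_normalizer_sigmaCore N hxN) s).1 hs
    have hcomm : x * (d * s) = d * s * x := (mem_centralizer_iff.1 hc) x rfl
    have e : d⁻¹ * (x * d * x⁻¹) = s * (x * s * x⁻¹)⁻¹ := by
      have h1 : x * d * x⁻¹ * (x * s * x⁻¹) = d * s := by
        calc x * d * x⁻¹ * (x * s * x⁻¹) = x * (d * s) * x⁻¹ := by group
          _ = d * s * x * x⁻¹ := by rw [hcomm]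
          _ = d * s := by group
      have h2 : x * d * x⁻¹ = d * s * (x * s * x⁻¹)⁻¹ := by rw [← h1]; group
      rw [h2]; group
    have h1 : d⁻¹ * (x * d * x⁻¹) ∈ (M ⊓ N) ⊓ sigmaCore N :=
      mem_inf.2 ⟨mul_mem (inv_mem hd) hxd, e ▸ mul_mem hs (inv_mem hxs)⟩
    rw [hcompl.2.2.1, mem_bot] at h1
    have hdx : x * d = d * x := by
      have h2 : x * d * x⁻¹ = d := by
        have := congrArg (fun t => d * t) h1
        simpa using this
      calc x * d = x * d * x⁻¹ * x := by group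
        _ = d * x := by rw [h2]
    have hsx : x * s = s * x := by
      have h2 : d * (x * s) = d * (s * x) := by
        calc d * (x * s) = (d * x) * s := by group
          _ = x * d * s := by rw [hdx]
          _ = x * (d * s) := by group
          _ = d * s * x := hcomm
          _ = d * (s * x) := by group
      exact mul_left_cancel h2
    refine ⟨d, mem_inf.2 ⟨(mem_inf.1 hd).1, ?_⟩, s, mem_inf.2 ⟨hs, ?_⟩, rfl⟩
    · rw [mem_centralizer_iff]; intro h hh; rw [Set.mem_singleton_iff.1 hh]; exact hdx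
    · rw [mem_centralizer_iff]; intro h hh; rw [Set.mem_singleton_iff.1 hh]; exact hsx
  -- the element `z`
  obtain ⟨c, hc, hcM⟩ := SetLike.not_le_iff_exists.1 hxM
  obtain ⟨d, hd, z, hz, rfl⟩ := fact1 c hc
  have hz1 : z ≠ 1 := by
    rintro rfl
    exact hcM (by rw [mul_one]; exact (mem_inf.1 hd).1)
  have hzS : z ∈ sigmaCore N := (mem_inf.1 hz).1
  have hxz : x * z = z * x := (mem_centralizer_iff.1 (mem_inf.1 hz).2) x rfl
  have hxz' : x ∈ N ⊓ centralizer ({z} : Set G) := by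
    refine mem_inf.2 ⟨hxN, ?_⟩
    rw [mem_centralizer_iff]; intro h hh; rw [Set.mem_singleton_iff.1 hh]; exact hxz.symm
  have hoxd : orderOf x ∣ Nat.card (sigmaCore M) := by
    have := orderOf_dvd_natCard (⟨x, hx⟩ : sigmaCore M)
    rwa [Subgroup.orderOf_mk] at this
  have hσx : ∀ p : ℕ, p.Prime → p ∣ orderOf x → p ∉ sigma N := fun p hp hd =>
    hdisj p (mem_sigma_of_dvd_sigmaCore hG hM hp (hd.trans hoxd))
  have hnil := (Cfsg.Agent.S1417.result hG N hN q hqτ B ⟨hBD.trans inf_le_right, hBe, hB2⟩).1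
  rcases Cfsg.Agent.S1432.result hG N hN z hzS hz1 x hxz' hx1 hσx with ⟨hk, -⟩ | ⟨hτall, -, -, huniq⟩
  · exact absurd hqτ (Cfsg.Agent.Lib.Helper37BG14kbasic.kappa_not_tau2 (hk q hq hqd))
  refine ⟨N, ⟨hN, hCN⟩, huniq, ((fittingHallOf_eq_sigmaCore_iff hG hN).2 hnil).symm, ?_, ?_, hcompl, ?_⟩
  · intro c hc
    have h1 := le_normalizer_sigmaCore N (hCN hc)
    have h2 : c ∈ normalizer ((centralizer ({x} : Set G) : Subgroup G) : Set G) := le_normalizer hc
    rw [mem_normalizer_iff] at h1 h2 ⊢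
    intro g
    rw [mem_inf, mem_inf, h1 g, h2 g]
  · refine ⟨inf_le_right, inf_le_right, ?_, fact1⟩
    rw [eq_bot_iff, ← hinf]
    exact le_inf (inf_le_right.trans inf_le_left) (inf_le_left.trans inf_le_left)
  · intro K' U' hdec
    refine ⟨?_, ⟨⟨hxN, z, hzS, hz1, hxz⟩, ?_⟩, ?_⟩
    · rintro rfl
      have h1 := Cfsg.Agent.Lib.Helper27BG16basic.card_eq hG hN hdec
      rw [card_bot, one_mul] at h1
      have h2 : q ∣ Nat.card N := hXc ▸ card_dvd_of_le (le_normalizer.trans hNX)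
      rw [h1] at h2
      rcases (Nat.Prime.dvd_mul hq).1 h2 with h | h
      · exact Cfsg.Agent.Lib.Helper37BG14kbasic.kappa_not_tau2 (Cfsg.Agent.Lib.Helper27BG16basic.K_primes hdec q hq h) hqτ
      · exact hqτ.2.1 (mem_sigma_of_dvd_sigmaCore hG hN hq h)
    · apply Cfsg.Agent.Lib.Helper27BG16basic.le_UMs hG hN hdec (zpowers_le.2 hxN) _ (mem_zpowers x)
      intro p hp hd hk
      rw [Nat.card_zpowers] at hd
      exact Cfsg.Agent.Lib.Helper37BG14kbasic.kappa_not_tau2 hk (hτall p hp hd)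
    · intro h
      have h1 : x ∈ sigmaCore N ⊓ M := mem_inf.2 ⟨h, hxM'⟩
      rw [hinf, mem_bot] at h1
      exact hx1 h1

end Cfsg.Agent.S1375
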