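import Cfsg.Statements.S1374
import Cfsg.Agent.Lib.Helper10BG14Trans
import Cfsg.Agent.S1375

set_option autoImplicit false
open Cfsg

namespace Cfsg.Agent.S1374

open Cfsg.Agent.Lib.Helper30Trans

/-- Let G be a minimal simple group of odd order, M a maximal subgroup and x a non-identity element of M_σ. Then C_M(x) has order coprime to its index in C_G(x), and C_G(x) has a normal subgroup R complementing C_M(x) such that for every conjugate gMg⁻¹ containing x there is exactly one r ∈ R with rMr⁻¹ = gMg⁻¹. -/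
theorem result {G : Type*} [Group G] [Finite G] (hG : Cfsg.IsMinSimpleOddOrder G)
    (M : Subgroup G) (hM : IsCoatom M) (x : G) (hx : x ∈ Cfsg.sigmaCore M) (hx1 : x ≠ 1) :
    (Nat.card ↥(M ⊓ Subgroup.centralizer ({x} : Set G))).Coprime ((M ⊓ Subgroup.centralizer ({x} : Set G)).relIndex (Subgroup.centralizer ({x} : Set G))) ∧
      ∃ R : Subgroup G, Subgroup.centralizer ({x} : Set G) ≤ Subgroup.normalizer (R : Set G) ∧ Cfsg.IsComplIn (M ⊓ Subgroup.centralizer ({x} : Set G)) R (Subgroup.centralizer ({x} : Set G)) ∧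
        ∀ g : G, x ∈ M.map (MulAut.conj g).toMonoidHom → ∃! r : G, r ∈ R ∧ M.map (MulAut.conj r).toMonoidHom = M.map (MulAut.conj g).toMonoidHom := by
  classical
  by_cases hxM : Subgroup.centralizer ({x} : Set G) ≤ M
  · have hinf : M ⊓ Subgroup.centralizer ({x} : Set G) = Subgroup.centralizer ({x} : Set G) :=
      inf_eq_right.mpr hxM
    refine ⟨?_, ⊥, ?_, ?_, ?_⟩
    · rw [hinf, Subgroup.relIndex_self]
      exact Nat.coprime_one_right _
    · intro c _
      rw [Subgroup.mem_normalizer_iff]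
      intro y
      rw [Subgroup.mem_bot, Subgroup.mem_bot]
      constructor
      · rintro rfl
        group
      · intro h
        have h1 : y = c⁻¹ * (c * y * c⁻¹) * c := by group
        rw [h1, h]
        group
    · rw [hinf]
      exact ⟨le_rfl, bot_le, inf_bot_eq _, fun m hm => ⟨m, hm, 1, one_mem _, (mul_one m).symm⟩⟩
    · intro g hg
      have h1 : cj g M = M := by
        by_contra hne
        obtain ⟨N, -, -, hNM, s, hs, hsg⟩ :=
          Cfsg.Agent.Lib.Helper10BG14Trans.core hG hM hx hx1 hg hne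
        have h2 : s ∈ Cfsg.sigmaCore N ⊓ M :=
          Subgroup.mem_inf.mpr ⟨(Subgroup.mem_inf.mp hs).1, hxM (Subgroup.mem_inf.mp hs).2⟩
        rw [hNM, Subgroup.mem_bot] at h2
        rw [h2, cj_one] at hsg
        exact hne hsg.symm
      refine ⟨1, ⟨one_mem _, ?_⟩, ?_⟩
      · show cj 1 M = cj g M
        rw [cj_one, h1]
      · rintro r ⟨hr, -⟩
        exact Subgroup.mem_bot.mp hr
  · obtain ⟨N, ⟨hN, hCN⟩, huniq, -, hnorm, hcompl, hD, -⟩ :=
      Cfsg.Agent.S1375.result hG M hM x hx hx1 hxM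
    have hNM : Cfsg.sigmaCore N ⊓ M = ⊥ := by
      rw [eq_bot_iff]
      intro y hy
      have h1 : y ∈ (M ⊓ N) ⊓ Cfsg.sigmaCore N :=
        Subgroup.mem_inf.mpr ⟨Subgroup.mem_inf.mpr ⟨(Subgroup.mem_inf.mp hy).2,
          Cfsg.Agent.Lib.Helper31BGS.sigmaCore_le N (Subgroup.mem_inf.mp hy).1⟩,
          (Subgroup.mem_inf.mp hy).1⟩
      rw [hD.2.2.1] at h1
      exact h1
    refine ⟨?_, Cfsg.sigmaCore N ⊓ Subgroup.centralizer ({x} : Set G), hnorm, hcompl, ?_⟩
    · rw [Cfsg.Agent.Lib.Helper31BGS.relIndex_compl hcompl]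
      exact Nat.Coprime.coprime_dvd_left
        (Subgroup.card_dvd_of_le (le_inf inf_le_left (inf_le_right.trans hCN)))
        (Nat.Coprime.coprime_dvd_right (Subgroup.card_dvd_of_le inf_le_left)
          (Cfsg.Agent.Lib.Helper37BGPart.coprime_compl hG hN hD))
    · intro g hg
      have hex : ∃ r ∈ Cfsg.sigmaCore N ⊓ Subgroup.centralizer ({x} : Set G),
          cj r M = cj g M := by
        by_cases hne : cj g M = M
        · exact ⟨1, one_mem _, by rw [cj_one, hne]⟩
        · obtain ⟨N', hN', hCN', -, s, hs, hsg⟩ :=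
            Cfsg.Agent.Lib.Helper10BG14Trans.core hG hM hx hx1 hg hne
          have h1 := huniq N' hN' hCN'
          subst h1
          exact ⟨s, hs, hsg⟩
      obtain ⟨r, hr, hrg⟩ := hex
      refine ⟨r, ⟨hr, hrg⟩, ?_⟩
      rintro r' ⟨hr', hr'g⟩
      have hr'g' : cj r' M = cj g M := hr'g
      have h1 : cj (r⁻¹ * r') M = M := by
        rw [cj_mul, hr'g', ← hrg, cj_inv_cj]
      have h2 : r⁻¹ * r' ∈ M := by
        have h3 := Cfsg.Agent.Lib.Helper27BGa.mem_normalizer_of_cj_eq h1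
        rwa [Cfsg.Agent.Lib.Helper27BGa.normalizer_coatom hG hM] at h3
      have h3 : r⁻¹ * r' ∈ Cfsg.sigmaCore N ⊓ M :=
        Subgroup.mem_inf.mpr ⟨mul_mem (inv_mem (Subgroup.mem_inf.mp hr).1)
          (Subgroup.mem_inf.mp hr').1, h2⟩
      rw [hNM, Subgroup.mem_bot] at h3
      exact (inv_mul_eq_one.mp h3).symm

end Cfsg.Agent.S1374
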