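import Cfsg.Statements.S1351
import Cfsg.Agent.Lib.Helper52BG14
import Cfsg.Agent.Lib.Helper52BG14b
import Cfsg.Agent.Lib.Helper70Hall

set_option autoImplicit false
open Cfsg

namespace Cfsg.Agent.S1351

open Subgroup Cfsg.Agent.Lib.Helper24BG Cfsg.Agent.Lib.Helper52BG14Defs

/-- Let G be a minimal simple group of odd order and M a maximal subgroup. Then M possesses a Hall κ(M)-subgroup, and every Hall κ(M)-subgroup of M is cyclic. -/
theorem result {G : Type*} [Group G] [Finite G] (hG : Cfsg.IsMinSimpleOddOrder G)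
    (M : Subgroup G) (hM : IsCoatom M) :
    (∃ K : Subgroup G, Cfsg.IsPiHallOf (Cfsg.kappa M) K M) ∧
      ∀ K : Subgroup G, Cfsg.IsPiHallOf (Cfsg.kappa M) K M → IsCyclic K := by
  constructor
  · have hs : Group.IsSolvable M := sol hG hM.1
    obtain ⟨H, h1, h2, -⟩ := Cfsg.Agent.Lib.Helper70Hall.exists_hall_set (G := M) (Cfsg.kappa M)
    refine ⟨H.map M.subtype, map_subtype_le _, ?_, ?_⟩
    · intro p hp hd
      rw [card_map_of_injective M.subtype_injective] at hd
      exact h1 p hp hd
    · intro p hp hπ hd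
      rw [relIndex, subgroupOf, comap_map_eq_self_of_injective M.subtype_injective] at hd
      exact h2 p hp hd hπ
  · intro K hK
    by_cases hK1 : K = ⊥
    · rw [hK1]
      infer_instance
    · exact (Cfsg.Agent.Lib.Helper52BG14b.kappa_hall_cyclic hG ⟨hM, hK, hK1⟩).1

end Cfsg.Agent.S1351
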