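import Cfsg.Statements.S1354
import Cfsg.Agent.S1430
import Cfsg.Agent.Lib.Helper3BGNotuniq
import Cfsg.Agent.Lib.Helper2BGb

set_option autoImplicit false
open Cfsg

namespace Cfsg.Agent.S1354

/-- Let G be a minimal simple group of odd order, M a maximal subgroup and K a cyclic Hall κ(M)-subgroup of M, and put K* = M_σ ∩ C_G(K). Then K* ≠ 1, and if K ≠ 1 then for every non-identity k ∈ K the centralizer C_M(k) is the subgroup generated by K and K* (an internal direct product, as K ∩ M_σ = 1 and K* centralizes K). -/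
theorem result {G : Type*} [Group G] [Finite G] (hG : Cfsg.IsMinSimpleOddOrder G)
    (M : Subgroup G) (hM : IsCoatom M) (K : Subgroup G)
    (hKc : IsCyclic K) (hK : Cfsg.IsPiHallOf (Cfsg.kappa M) K M) :
    Cfsg.sigmaCore M ⊓ Subgroup.centralizer (K : Set G) ≠ ⊥ ∧
      (K ≠ ⊥ → ∀ k ∈ K, k ≠ 1 →
        M ⊓ Subgroup.centralizer ({k} : Set G) = K ⊔ (Cfsg.sigmaCore M ⊓ Subgroup.centralizer (K : Set G))) := by
  by_cases hK1 : K = ⊥
  · refine ⟨?_, fun h => absurd hK1 h⟩
    subst hK1
    have : Subgroup.centralizer (((⊥ : Subgroup G) : Subgroup G) : Set G) = ⊤ := by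
      rw [eq_top_iff]
      intro g _
      rw [Subgroup.mem_centralizer_iff]
      intro h hh
      have : h = 1 := hh
      rw [this]; simp
    rw [this, inf_top_eq]
    exact Cfsg.Agent.Lib.Helper3BGNotuniq.sigmaCore_ne_bot hG hM
  obtain ⟨h1, -, h3⟩ := Cfsg.Agent.S1430.result hG M hM K hK hK1
  constructor
  · have hcard : Nat.card K ≠ 1 := fun h => hK1 (Subgroup.card_eq_one.mp h)
    obtain ⟨p, hp, hpK⟩ := Nat.exists_prime_and_dvd hcard
    have hpF : Fact p.Prime := ⟨hp⟩
    have hpκ : p ∈ Cfsg.kappa M := hK.2.1 p hp hpK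
    obtain ⟨R, hR, -⟩ := Cfsg.Agent.Lib.Helper24BG.exists_isSyl_ge (p := p) (bot_le : ⊥ ≤ K)
      IsPGroup.of_bot
    have hRM : Cfsg.Agent.Lib.Helper24BG.IsSyl p R M := by
      apply Cfsg.Agent.Lib.Helper2BGa.isSyl_of_not_dvd (hR.1.trans hK.1) hR.2.1
      rw [← Subgroup.relIndex_mul_relIndex R K M hR.1 hK.1]
      intro hd
      rcases (Nat.Prime.dvd_mul hp).mp hd with hd | hd
      · exact Cfsg.Agent.Lib.Helper2BGa.IsSyl.not_dvd_relIndex hR hd
      · exact hK.2.2 p hp hpκ hd
    obtain ⟨-, x, hx, hx1, y, hy, hy1, hxy⟩ := hpκ.2.2.2 hRM.toSylow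
    have hxR : (x : G) ∈ R := hx
    have hxK : (x : G) ∈ K := hR.1 hxR
    have hx1' : (x : G) ≠ 1 := fun h => hx1 (Subtype.ext h)
    intro hbot
    apply hy1
    have : y ∈ Cfsg.sigmaCore M ⊓ Subgroup.centralizer (K : Set G) := by
      rw [← h1 x hxK hx1']
      exact ⟨hy, Subgroup.mem_centralizer_singleton_iff.mpr hxy.symm⟩
    rw [hbot] at this
    exact this
  · intro _ k hk hk1
    have hcomm : ∀ a ∈ K, ∀ b ∈ K, a * b = b * a := by
      intro a ha b hb
      have := hKc.isMulCommutative.is_comm.comm ⟨a, ha⟩ ⟨b, hb⟩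
      exact congrArg Subtype.val this
    apply le_antisymm
    · intro g hg
      have hord : orderOf k ≠ 1 := fun h => hk1 (orderOf_eq_one_iff.mp h)
      obtain ⟨p, hp, hpk⟩ := Nat.exists_prime_and_dvd hord
      set x := k ^ (orderOf k / p) with hx
      have hxo : orderOf x = p := orderOf_pow_orderOf_div (orderOf_pos k).ne' hpk
      have hXK : Subgroup.zpowers x ≤ K := by
        rw [Subgroup.zpowers_le]
        exact K.pow_mem hk _
      have hXp : (Nat.card (Subgroup.zpowers x)).Prime := by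
        rw [Nat.card_zpowers, hxo]; exact hp
      rw [← (h3 (Subgroup.zpowers x) hXK hXp).1]
      refine ⟨hg.1, ?_⟩
      apply Subgroup.centralizer_le_normalizer
      rw [Subgroup.mem_centralizer_iff]
      intro z hz
      obtain ⟨n, rfl⟩ := Subgroup.mem_zpowers_iff.mp hz
      have hgk : g * k = k * g := Subgroup.mem_centralizer_singleton_iff.mp hg.2
      have h5 : Commute g k := hgk
      exact ((h5.pow_right _).zpow_right n).eq.symm
    · apply sup_le
      · refine le_inf hK.1 ?_
        intro a ha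
        rw [Subgroup.mem_centralizer_singleton_iff]
        exact hcomm a ha k hk
      · refine le_inf (inf_le_left.trans (Cfsg.Agent.Lib.Helper2BGb.sigmaCore_le M)) ?_
        intro a ha
        rw [Subgroup.mem_centralizer_singleton_iff]
        exact (Subgroup.mem_centralizer_iff.mp ha.2 k hk).symm

end Cfsg.Agent.S1354
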