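import Cfsg.Statements.S1366
import Cfsg.Agent.Lib.Helper52BG14
import Cfsg.Agent.Lib.Helper52BG14b

set_option autoImplicit false
open Cfsg

namespace Cfsg.Agent.S1366

open Subgroup Cfsg.Agent.Lib.Helper24BG Cfsg.Agent.Lib.Helper52BG14Defs

/-- Let G be a minimal simple group of odd order, M a maximal subgroup with standard factorisation M = K U M_σ, K ≠ 1, and K* = M_σ ∩ C_G(K). Then there is exactly one maximal subgroup M* of G such that K = M*_σ ∩ C_G(K*) and K* is a Hall κ(M*)-subgroup of M* (in particular κ(M*) is nonempty). -/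
theorem result {G : Type*} [Group G] [Finite G] (hG : Cfsg.IsMinSimpleOddOrder G)
    (M : Subgroup G) (hM : IsCoatom M) (K U : Subgroup G) (hKU : Cfsg.IsSigmaDecomposition M K U) (hK1 : K ≠ ⊥) :
    ∃! Mstar : Subgroup G, IsCoatom Mstar ∧ K = Cfsg.sigmaCore Mstar ⊓ Subgroup.centralizer ((Cfsg.sigmaCore M ⊓ Subgroup.centralizer (K : Set G)) : Set G) ∧
        Cfsg.IsPiHallOf (Cfsg.kappa Mstar) (Cfsg.sigmaCore M ⊓ Subgroup.centralizer (K : Set G)) Mstar := by
  have h : PT M K := ⟨hM, hKU.hall, hK1⟩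
  -- a subgroup of prime order of `K`
  obtain ⟨X, hXK, hXp⟩ : ∃ X : Subgroup G, X ≤ K ∧ (Nat.card X).Prime := by
    have hc : Nat.card K ≠ 1 := fun hc => hK1 (card_eq_one.1 hc)
    obtain ⟨p, hp, hd⟩ := Nat.exists_prime_and_dvd hc
    have : Fact p.Prime := ⟨hp⟩
    obtain ⟨x, hx⟩ := exists_prime_orderOf_dvd_card' p hd
    refine ⟨zpowers (x : G), ?_, ?_⟩
    · rw [zpowers_le]; exact x.2
    · rw [Nat.card_zpowers, Subgroup.orderOf_coe, hx]; exact hp
  have hX0 : X ≠ ⊥ := by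
    rintro rfl
    rw [card_bot] at hXp
    exact Nat.not_prime_one hXp
  have hXt : X ≠ ⊤ := by
    rintro rfl
    exact hM.1 (top_le_iff.1 (hXK.trans hKU.hall.1))
  obtain ⟨Ms, hMs, hN⟩ := exists_coatom (norm_ne_top hG hX0 hXt)
  obtain ⟨hPT, hKs, -⟩ := Cfsg.Agent.Lib.Helper52BG14b.pair_main hG h hXK hXp hMs hN
  refine ⟨Ms, ⟨hMs, hKs.symm, hPT.hall⟩, ?_⟩
  rintro L ⟨hL, hL1, hL2⟩
  have hNL := (Cfsg.Agent.Lib.Helper52BG14b.partner_iff hG h hL).1 ⟨hL1, hL2⟩ X hXK hXp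
  have hc := (Cfsg.Agent.Lib.Helper52BG14.ptype_c hG hMs hPT.hall hPT.ne (X := X)
      (by rw [show sigmaCore Ms ⊓ centralizer ((Ks M K : Subgroup G) : Set G) = K from hKs]; exact hXK) hXp).1
  exact hc.2 L hL ((centralizer_le_normalizer _).trans hNL)

end Cfsg.Agent.S1366
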