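import Cfsg.Statements.S1434

import Cfsg.Agent.Lib.Helper52BG14b
import Cfsg.Agent.Lib.Helper39Support
set_option autoImplicit false
open Cfsg

namespace Cfsg.Agent.S1434

open Subgroup
open Cfsg.Agent.Lib.Helper30Trans Cfsg.Agent.Lib.Helper24BG Cfsg.Agent.Lib.Helper52BG14Defs
  Cfsg.Agent.Lib.Helper52BG14 Cfsg.Agent.Lib.Helper52BG14b Cfsg.Agent.Lib.Helper39Support

section aux

variable {G : Type*} [Group G] [Finite G]

omit [Finite G] in
theorem comm_of_cyclic {K : Subgroup G} (h : IsCyclic K) {a b : G} (ha : a ∈ K) (hb : b ∈ K) :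
    a * b = b * a := by
  obtain ⟨c, hc⟩ := h
  obtain ⟨i, hi⟩ := mem_zpowers_iff.mp (hc ⟨a, ha⟩)
  obtain ⟨j, hj⟩ := mem_zpowers_iff.mp (hc ⟨b, hb⟩)
  have h1 : (⟨a, ha⟩ : K) * ⟨b, hb⟩ = ⟨b, hb⟩ * ⟨a, ha⟩ := by
    rw [← hi, ← hj, ← zpow_add, ← zpow_add, add_comm]
  exact congrArg Subtype.val h1

omit [Finite G] in
theorem mem_cent_of_le_zpowers {x c : G} (hc : c ∈ centralizer ({x} : Set G)) {Y : Subgroup G}
    (hY : Y ≤ zpowers x) : c ∈ centralizer (Y : Set G) := by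
  rw [mem_centralizer_iff]
  intro y hy
  obtain ⟨i, rfl⟩ := mem_zpowers_iff.mp (hY hy)
  have h1 : Commute x c := (mem_centralizer_singleton_iff.mp hc).symm
  exact (h1.zpow_left i).eq

theorem Ks_le (M K : Subgroup G) : Ks M K ≤ M :=
  inf_le_left.trans (Cfsg.Agent.Lib.Helper24BGCover.sigmaCore_le' M)

theorem cent_eq (hG : Cfsg.IsMinSimpleOddOrder G) {M K : Subgroup G} (h : PT M K) (hcyc : IsCyclic K)
    {x : G} (hx : x ∈ K) (hx1 : x ≠ 1) :
    M ⊓ centralizer ({x} : Set G) = K ⊔ Ks M K := by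
  apply le_antisymm
  · rintro c ⟨hcM, hc⟩
    obtain ⟨X0, hX0, hp⟩ := exists_prime_sub_zpowers hx1
    have hX0K : X0 ≤ K := hX0.trans (zpowers_le.mpr hx)
    rw [← (ptype_b hG h.max h.hall h.ne).2 X0 hX0K hp]
    exact ⟨hcM, centralizer_le_normalizer _ (mem_cent_of_le_zpowers hc hX0)⟩
  · apply sup_le
    · apply le_inf h.hall.1
      intro k hk
      rw [mem_centralizer_singleton_iff]
      exact comm_of_cyclic hcyc hk hx
    · apply le_inf (Ks_le M K)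
      exact inf_le_right.trans (centralizer_le (Set.singleton_subset_iff.mpr hx))

omit [Finite G] in
theorem mem_sup_Ks {M K : Subgroup G} {z : G} (hz : z ∈ K ⊔ Ks M K) :
    ∃ k ∈ K, ∃ s ∈ Ks M K, z = k * s := by
  have hn : Ks M K ≤ normalizer (K : Set G) := inf_le_right.trans (centralizer_le_normalizer _)
  exact (Cfsg.Agent.Lib.Helper30SZ.mem_sup_iff hn).mp hz

omit [Finite G] in
theorem commute_K_Ks {M K : Subgroup G} {k s : G} (hk : k ∈ K) (hs : s ∈ Ks M K) : Commute k s :=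
  mem_centralizer_iff.mp hs.2 k hk

theorem coprime_order (hG : Cfsg.IsMinSimpleOddOrder G) {M K : Subgroup G} (h : PT M K) {k s : G}
    (hk : k ∈ K) (hs : s ∈ Ks M K) : (orderOf k).Coprime (orderOf s) := by
  have h1 : orderOf k ∣ Nat.card K := by
    have := orderOf_dvd_natCard (⟨k, hk⟩ : K)
    rwa [orderOf_mk] at this
  have h2 : orderOf s ∣ Nat.card (Ks M K) := by
    have := orderOf_dvd_natCard (⟨s, hs⟩ : Ks M K)
    rwa [orderOf_mk] at this
  exact Nat.Coprime.coprime_dvd_left h1 (Nat.Coprime.coprime_dvd_right h2 (card_sup_Ks hG h).2)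

theorem core (hG : Cfsg.IsMinSimpleOddOrder G) {M K : Subgroup G} (h : PT M K) {X : Subgroup G}
    (hXK : X ≤ K) (hX : (Nat.card X).Prime) {Mstar : Subgroup G} (hMstar : IsCoatom Mstar)
    (hN : normalizer (X : Set G) ≤ Mstar) :
    Cfsg.kappa M = Cfsg.tau1 M ∧ Cfsg.IsPiHallOf (Cfsg.sigma M) (Ks M K) Mstar ∧
      (∀ x ∈ K, x ≠ 1 → ∀ y ∈ Ks M K, y ≠ 1 →
        M ⊓ Subgroup.centralizer ({x} : Set G) = K ⊔ Ks M K ∧ Mstar ⊓ Subgroup.centralizer ({y} : Set G) = K ⊔ Ks M K ∧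
        Subgroup.centralizer ({x * y} : Set G) = K ⊔ Ks M K) ∧
      (∀ g : G, g ∉ M → ∀ z ∈ ((↑(K ⊔ Ks M K) : Set G) \ ((K : Set G) ∪ ↑(Ks M K))), z ∉ M.map (MulAut.conj g).toMonoidHom) ∧
      Nat.card K * Nat.card ↥(Ks M K) * Set.ncard {a : G | ∃ g : G, ∃ z ∈ ((↑(K ⊔ Ks M K) : Set G) \ ((K : Set G) ∪ ↑(Ks M K))), a = g * z * g⁻¹} =
        (Nat.card K * Nat.card ↥(Ks M K) - Nat.card K - Nat.card ↥(Ks M K) + 1) * Nat.card G ∧
      Nat.card G < 2 * Set.ncard {a : G | ∃ g : G, ∃ z ∈ ((↑(K ⊔ Ks M K) : Set G) \ ((K : Set G) ∪ ↑(Ks M K))), a = g * z * g⁻¹} := by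
  obtain ⟨hPs, hKsKs, hinf, hnc, hnoU⟩ := pair_main hG h hXK hX hMstar hN
  obtain ⟨hcK, hcKs⟩ := kappa_hall_cyclic hG h
  obtain ⟨hcard, hcop⟩ := card_sup_Ks hG h
  have hKs1 : Ks M K ≠ ⊥ := hPs.ne
  -- the abelian group Z
  have hab : ∀ a ∈ K ⊔ Ks M K, ∀ b ∈ K ⊔ Ks M K, a * b = b * a := by
    intro a ha b hb
    obtain ⟨k, hk, s, hs, rfl⟩ := mem_sup_Ks ha
    obtain ⟨k', hk', s', hs', rfl⟩ := mem_sup_Ks hb
    have h1 : Commute k k' := comm_of_cyclic hcK hk hk'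
    have h2 : Commute k s' := commute_K_Ks hk hs'
    have h3 : Commute s k' := (commute_K_Ks hk' hs).symm
    have h4 : Commute s s' := comm_of_cyclic hcKs hs hs'
    exact ((h1.mul_right h2).mul_left (h3.mul_right h4)).eq
  -- sigma cores
  have hσ1 : Cfsg.sigmaCore M ⊓ Mstar = Ks M K := by
    obtain ⟨K₁, _, _, h3, _⟩ := pair hG h hXK hX hMstar hN
    exact h3
  have hσ2 : Cfsg.sigmaCore Mstar ⊓ M = K := by
    obtain ⟨X', hX'K, hX'⟩ := exists_prime_sub hKs1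
    have hX'1 : X' ≠ ⊥ := by
      rintro rfl
      simp at hX'
      exact Nat.not_prime_one hX'
    obtain ⟨K₁, _, _, h3, _⟩ := pair hG hPs hX'K hX' h.max (norm_le_of_le_Ks hG h hX'K hX'1)
    rw [h3, hKsKs]
  have hTI : ∀ d ∈ ((↑(K ⊔ Ks M K) : Set G) \ ((K : Set G) ∪ ↑(Ks M K))), ∀ g : G,
      g * d * g⁻¹ ∈ K ⊔ Ks M K → g ∈ K ⊔ Ks M K := by
    intro d hd g hg
    refine hat_ti hG h hd.1 ?_ hg
    intro L hL hdL
    have hdZ : d ∈ M ⊓ Mstar := hinf ▸ hd.1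
    rcases comp_eq_or hG h hXK hX hMstar hN hL with rfl | rfl
    · exact hd.2 (Or.inr (hσ1 ▸ (⟨hdL, hdZ.2⟩ : d ∈ Cfsg.sigmaCore L ⊓ Mstar)))
    · exact hd.2 (Or.inl (hσ2 ▸ (⟨hdL, hdZ.1⟩ : d ∈ Cfsg.sigmaCore L ⊓ M)))
  have hcount := class_support_count (K ⊔ Ks M K)
    ((↑(K ⊔ Ks M K) : Set G) \ ((K : Set G) ∪ ↑(Ks M K))) Set.sdiff_subset hab hTI
  -- cardinality of Zhat
  have hhat : ((↑(K ⊔ Ks M K) : Set G) \ ((K : Set G) ∪ ↑(Ks M K))).ncard =
      Nat.card K * Nat.card (Ks M K) - Nat.card K - Nat.card (Ks M K) + 1 := by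
    have hsub : ((K : Set G) ∪ ↑(Ks M K)) ⊆ (↑(K ⊔ Ks M K) : Set G) :=
      Set.union_subset (fun a ha => (le_sup_left : K ≤ K ⊔ Ks M K) ha)
        (fun a ha => (le_sup_right : Ks M K ≤ K ⊔ Ks M K) ha)
    rw [Set.ncard_sdiff hsub]
    have h1 : (↑(K ⊔ Ks M K) : Set G).ncard = Nat.card K * Nat.card (Ks M K) := by
      rw [← hcard]; exact (Nat.card_coe_set_eq _).symm
    have h2 := Set.ncard_union_add_ncard_inter (K : Set G) (↑(Ks M K) : Set G)
    have h3 : ((K : Set G) ∩ ↑(Ks M K)) = {1} := by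
      ext a
      simp only [Set.mem_inter_iff, SetLike.mem_coe, Set.mem_singleton_iff]
      constructor
      · rintro ⟨ha1, ha2⟩
        exact Cfsg.Agent.Lib.Helper30SZ.eq_one_of_mem_of_mem hcop.symm ha1 ha2
      · rintro rfl
        exact ⟨one_mem _, one_mem _⟩
    rw [h3, Set.ncard_singleton] at h2
    have h4 : (K : Set G).ncard = Nat.card K := (Nat.card_coe_set_eq _).symm
    have h5 : (↑(Ks M K) : Set G).ncard = Nat.card (Ks M K) := (Nat.card_coe_set_eq _).symm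
    rw [h4, h5] at h2
    rw [h1]
    have h6 : 2 ≤ Nat.card K := by
      have h61 : 1 ≤ Nat.card K := Nat.card_pos
      have h62 : Nat.card K ≠ 1 := fun e => h.ne (card_eq_one.mp e)
      omega
    have h7 : 2 ≤ Nat.card (Ks M K) := by
      have h61 : 1 ≤ Nat.card (Ks M K) := Nat.card_pos
      have h62 : Nat.card (Ks M K) ≠ 1 := fun e => hKs1 (card_eq_one.mp e)
      omega
    have h8 : Nat.card K + Nat.card (Ks M K) ≤ Nat.card K * Nat.card (Ks M K) := by nlinarith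
    omega
  have hmain : Nat.card K * Nat.card ↥(Ks M K) * Set.ncard {a : G | ∃ g : G, ∃ z ∈ ((↑(K ⊔ Ks M K) : Set G) \ ((K : Set G) ∪ ↑(Ks M K))), a = g * z * g⁻¹} =
        (Nat.card K * Nat.card ↥(Ks M K) - Nat.card K - Nat.card ↥(Ks M K) + 1) * Nat.card G := by
    rw [hhat, hcard] at hcount
    rw [mul_comm _ (Nat.card G), hcount, mul_comm]
  refine ⟨kappa_eq_tau1 hG h, Ks_hall_sigma hG h hXK hX hMstar hN, ?_, ?_, hmain, ?_⟩
  · intro x hx hx1 y hy hy1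
    have e1 := cent_eq hG h hcK hx hx1
    have e2 : Mstar ⊓ centralizer ({y} : Set G) = K ⊔ Ks M K := by
      have := cent_eq hG hPs hcKs hy hy1
      rw [hKsKs, sup_comm] at this
      exact this
    refine ⟨e1, e2, ?_⟩
    have hxy : Commute x y := commute_K_Ks hx hy
    obtain ⟨m1, m2⟩ := mem_zpowers_of_coprime hxy (coprime_order hG h hx hy)
    apply le_antisymm
    · intro c hc
      have hcx : c ∈ centralizer ({x} : Set G) := by
        have := mem_cent_of_le_zpowers hc (zpowers_le.mpr m1)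
        exact centralizer_le (Set.singleton_subset_iff.mpr (mem_zpowers x)) this
      have hcy : c ∈ centralizer ({y} : Set G) := by
        have := mem_cent_of_le_zpowers hc (zpowers_le.mpr m2)
        exact centralizer_le (Set.singleton_subset_iff.mpr (mem_zpowers y)) this
      obtain ⟨Y0, hY0, hp⟩ := exists_prime_sub_zpowers hy1
      have hY0K : Y0 ≤ Ks M K := hY0.trans (zpowers_le.mpr hy)
      have hcM : c ∈ M := (ptype_c hG h.max h.hall h.ne hY0K hp).1.1 (mem_cent_of_le_zpowers hcy hY0)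
      rw [← e1]
      exact ⟨hcM, hcx⟩
    · intro c hc
      rw [mem_centralizer_singleton_iff]
      exact (hab _ (mul_mem ((le_sup_left : K ≤ K ⊔ Ks M K) hx) ((le_sup_right : Ks M K ≤ K ⊔ Ks M K) hy)) c hc).symm
  · intro g hg z hz hzg
    obtain ⟨k, hk, s, hs, rfl⟩ := mem_sup_Ks hz.1
    have hs1 : s ≠ 1 := by
      rintro rfl
      exact hz.2 (Or.inl (by simpa using hk))
    obtain ⟨_, m2⟩ := mem_zpowers_of_coprime (commute_K_Ks hk hs) (coprime_order hG h hk hs)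
    have hle : zpowers s ≤ cj g M := (zpowers_le.mpr m2).trans (zpowers_le.mpr hzg)
    have hle2 : cj g⁻¹ (zpowers s) ≤ M := by
      rw [cj_le_iff, inv_inv]; exact hle
    have := mem_of_cj_le hG h (zpowers_le.mpr hs) (fun e => hs1 (zpowers_eq_bot.mp e)) hle2
    exact hg (by simpa using M.inv_mem this)
  · have ha := arith (odd_sub hG K) (odd_sub hG (Ks M K))
      (fun e => h.ne (card_eq_one.mp e)) (fun e => hKs1 (card_eq_one.mp e)) hcop
    have hpos : 0 < Nat.card K * Nat.card ↥(Ks M K) := Nat.mul_pos Nat.card_pos Nat.card_pos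
    have hGpos : 0 < Nat.card G := Nat.card_pos
    have h1 : Nat.card K * Nat.card ↥(Ks M K) * Nat.card G <
        Nat.card K * Nat.card ↥(Ks M K) * (2 * Set.ncard {a : G | ∃ g : G, ∃ z ∈ ((↑(K ⊔ Ks M K) : Set G) \ ((K : Set G) ∪ ↑(Ks M K))), a = g * z * g⁻¹}) := by
      calc Nat.card K * Nat.card ↥(Ks M K) * Nat.card G
          < 2 * (Nat.card K * Nat.card ↥(Ks M K) - Nat.card K - Nat.card ↥(Ks M K) + 1) * Nat.card G :=
            Nat.mul_lt_mul_of_pos_right ha hGpos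
        _ = 2 * ((Nat.card K * Nat.card ↥(Ks M K) - Nat.card K - Nat.card ↥(Ks M K) + 1) * Nat.card G) := by ring
        _ = _ := by rw [← hmain]; ring
    exact Nat.lt_of_mul_lt_mul_left h1

end aux

/-- Let G be a minimal simple group of odd order, M a maximal subgroup with standard factorisation M = K U M_σ, K ≠ 1, K* = M_σ ∩ C_G(K), and M* a maximal subgroup with K = M*_σ ∩ C_G(K*) and K* a Hall κ(M*)-subgroup of M*. Then κ(M) = τ₁(M); K* is a Hall σ(M)-subgroup of M*; for non-identity x ∈ K and y ∈ K*, C_M(x), C_{M*}(y) and C_G(xy) all equal K K*; the set Ẑ of elements of K K* outside K ∪ K* meets no gMg⁻¹ with g ∉ M; and with k = #K, k* = #K*, the union of the conjugates of Ẑ has k·k*·(number of elements) = (k k* − k − k* + 1)·#G and more than #G / 2 elements. -/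
theorem result {G : Type*} [Group G] [Finite G] (hG : Cfsg.IsMinSimpleOddOrder G)
    (M : Subgroup G) (hM : IsCoatom M) (K U : Subgroup G) (hKU : Cfsg.IsSigmaDecomposition M K U) (hK1 : K ≠ ⊥) (Mstar : Subgroup G) (hMstar : IsCoatom Mstar)
    (hKst : K = Cfsg.sigmaCore Mstar ⊓ Subgroup.centralizer ((Cfsg.sigmaCore M ⊓ Subgroup.centralizer (K : Set G)) : Set G))
    (hKstH : Cfsg.IsPiHallOf (Cfsg.kappa Mstar) (Cfsg.sigmaCore M ⊓ Subgroup.centralizer (K : Set G)) Mstar) :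
    Cfsg.kappa M = Cfsg.tau1 M ∧ Cfsg.IsPiHallOf (Cfsg.sigma M) (Cfsg.sigmaCore M ⊓ Subgroup.centralizer (K : Set G)) Mstar ∧
      (∀ x ∈ K, x ≠ 1 → ∀ y ∈ (Cfsg.sigmaCore M ⊓ Subgroup.centralizer (K : Set G)), y ≠ 1 →
        M ⊓ Subgroup.centralizer ({x} : Set G) = K ⊔ (Cfsg.sigmaCore M ⊓ Subgroup.centralizer (K : Set G)) ∧ Mstar ⊓ Subgroup.centralizer ({y} : Set G) = K ⊔ (Cfsg.sigmaCore M ⊓ Subgroup.centralizer (K : Set G)) ∧
        Subgroup.centralizer ({x * y} : Set G) = K ⊔ (Cfsg.sigmaCore M ⊓ Subgroup.centralizer (K : Set G))) ∧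
      (∀ g : G, g ∉ M → ∀ z ∈ ((↑(K ⊔ (Cfsg.sigmaCore M ⊓ Subgroup.centralizer (K : Set G))) : Set G) \ ((K : Set G) ∪ ↑(Cfsg.sigmaCore M ⊓ Subgroup.centralizer (K : Set G)))), z ∉ M.map (MulAut.conj g).toMonoidHom) ∧
      Nat.card K * Nat.card ↥(Cfsg.sigmaCore M ⊓ Subgroup.centralizer (K : Set G)) * Set.ncard {a : G | ∃ g : G, ∃ z ∈ ((↑(K ⊔ (Cfsg.sigmaCore M ⊓ Subgroup.centralizer (K : Set G))) : Set G) \ ((K : Set G) ∪ ↑(Cfsg.sigmaCore M ⊓ Subgroup.centralizer (K : Set G)))), a = g * z * g⁻¹} =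
        (Nat.card K * Nat.card ↥(Cfsg.sigmaCore M ⊓ Subgroup.centralizer (K : Set G)) - Nat.card K - Nat.card ↥(Cfsg.sigmaCore M ⊓ Subgroup.centralizer (K : Set G)) + 1) * Nat.card G ∧
      Nat.card G < 2 * Set.ncard {a : G | ∃ g : G, ∃ z ∈ ((↑(K ⊔ (Cfsg.sigmaCore M ⊓ Subgroup.centralizer (K : Set G))) : Set G) \ ((K : Set G) ∪ ↑(Cfsg.sigmaCore M ⊓ Subgroup.centralizer (K : Set G)))), a = g * z * g⁻¹} := by
  have h : PT M K := ⟨hM, hKU.hall, hK1⟩
  have hNall := (partner_iff hG h hMstar).mp ⟨hKst, hKstH⟩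
  obtain ⟨X, hXK, hX⟩ := exists_prime_sub hK1
  exact core hG h hXK hX hMstar (hNall X hXK hX)

end Cfsg.Agent.S1434
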