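import Cfsg.Statements.S1369

import Cfsg.Agent.S1434
set_option autoImplicit false
open Cfsg

namespace Cfsg.Agent.S1369

open Subgroup
open Cfsg.Agent.Lib.Helper30Trans Cfsg.Agent.Lib.Helper24BG Cfsg.Agent.Lib.Helper52BG14Defs
  Cfsg.Agent.Lib.Helper52BG14 Cfsg.Agent.Lib.Helper52BG14b Cfsg.Agent.Lib.Helper39Support
  Cfsg.Agent.S1434

section aux

variable {G : Type*} [Group G] [Finite G]

theorem exists_partner (hG : Cfsg.IsMinSimpleOddOrder G) {M K : Subgroup G} (h : PT M K) :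
    ∃ X Ms : Subgroup G, X ≤ K ∧ (Nat.card X).Prime ∧ IsCoatom Ms ∧
      normalizer (X : Set G) ≤ Ms := by
  obtain ⟨X, hXK, hX⟩ := exists_prime_sub h.ne
  have hX1 : X ≠ ⊥ := by
    rintro rfl
    simp at hX
    exact Nat.not_prime_one hX
  have hXt : X ≠ ⊤ := by
    rintro rfl
    exact h.max.1 (top_le_iff.mp (hXK.trans h.hall.1))
  obtain ⟨Ms, hMs, hle⟩ := exists_coatom (norm_ne_top hG hX1 hXt)
  exact ⟨X, Ms, hXK, hX, hMs, hle⟩

theorem U_ne_bot (hG : Cfsg.IsMinSimpleOddOrder G) {M K U : Subgroup G} (hM : IsCoatom M)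
    (hKU : Cfsg.IsSigmaDecomposition M K U) (hno : ¬ NoU M) : U ≠ ⊥ := by
  rintro rfl
  apply hno
  intro r hr hdvd hrσ
  have hcop : (Nat.card K).Coprime (Nat.card (Cfsg.sigmaCore M)) := by
    apply Nat.coprime_of_dvd
    intro p hp h1 h2
    exact (hKU.hall.2.1 p hp h1).2.2.1
      (Cfsg.Agent.Lib.Helper31BGS.mem_sigma_of_dvd_sigmaCore hG hM hp h2)
  have hn : K ≤ normalizer (Cfsg.sigmaCore M : Set G) :=
    hKU.hall.1.trans (Cfsg.Agent.Lib.Helper31BGS.le_normalizer_sigmaCore M)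
  have hc : Cfsg.IsComplIn (Cfsg.sigmaCore M) K M := by
    refine ⟨Cfsg.Agent.Lib.Helper31BGS.sigmaCore_le M, hKU.hall.1,
      Cfsg.Agent.Lib.Helper30SZ.inf_eq_bot_of_coprime hcop, ?_⟩
    intro m hm
    obtain ⟨a, ha, b, hb, rfl⟩ := hKU.compl.2.2.2 m hm
    rw [mem_bot] at ha
    subst ha
    rw [one_mul]
    rw [sup_comm] at hb
    exact (Cfsg.Agent.Lib.Helper30SZ.mem_sup_iff hn).mp hb
  rw [← Cfsg.Agent.Lib.Helper31BGS.card_compl hc] at hdvd
  rcases (Nat.Prime.dvd_mul hr).mp hdvd with h1 | h1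
  · exact absurd (Cfsg.Agent.Lib.Helper31BGS.mem_sigma_of_dvd_sigmaCore hG hM hr h1) hrσ
  · exact hKU.hall.2.1 r hr h1

/-- two subsets with more than half of the elements meet -/
theorem exists_common {X : Type*} [Finite X] {A B : Set X} (hA : Nat.card X < 2 * A.ncard)
    (hB : Nat.card X < 2 * B.ncard) : ∃ a, a ∈ A ∧ a ∈ B := by
  by_contra hcon
  push Not at hcon
  have hd : Disjoint A B := Set.disjoint_left.mpr hcon
  have h1 := Set.ncard_union_eq hd
  have h2 : (A ∪ B).ncard ≤ Nat.card X := by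
    rw [← Set.ncard_univ]
    exact Set.ncard_le_ncard (Set.subset_univ _)
  omega

theorem conj_of_kappa (hG : Cfsg.IsMinSimpleOddOrder G) {M K : Subgroup G} (h : PT M K)
    {X : Subgroup G} (hXK : X ≤ K) (hX : (Nat.card X).Prime) {Ms : Subgroup G} (hMs : IsCoatom Ms)
    (hN : normalizer (X : Set G) ≤ Ms) {H : Subgroup G} (hH : IsCoatom H)
    (hκ : (Cfsg.kappa H).Nonempty) : ∃ g : G, H = cj g M ∨ H = cj g Ms := by
  obtain ⟨KH, hKH, -⟩ := exists_kappa_hall_ge hG hH (Y := ⊥) bot_le (by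
    intro p hp hdvd
    simp at hdvd
    exact absurd hdvd hp.one_lt.ne')
  have hKH1 : KH ≠ ⊥ := by
    rintro rfl
    obtain ⟨p, hp⟩ := hκ
    apply hKH.2.2 p hp.1 hp
    rw [relIndex_bot_left]
    exact hp.2.1
  have hPH : PT H KH := ⟨hH, hKH, hKH1⟩
  obtain ⟨XH, HS, hXHK, hXH, hHS, hNH⟩ := exists_partner hG hPH
  have b1 := (core hG h hXK hX hMs hN).2.2.2.2.2
  have b2 := (core hG hPH hXHK hXH hHS hNH).2.2.2.2.2
  obtain ⟨a, ⟨g, z, hz, rfl⟩, ⟨g', z', hz', ha⟩⟩ := exists_common b1 b2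
  -- z = t z' t⁻¹
  set t := g⁻¹ * g' with ht
  have hzt : z = t * z' * t⁻¹ := by
    have : z = g⁻¹ * (g * z * g⁻¹) * g := by group
    rw [this, ha, ht]; group
  obtain ⟨k', hk', s', hs', rfl⟩ := mem_sup_Ks hz'.1
  have hs1 : s' ≠ 1 := by
    rintro rfl
    exact hz'.2 (Or.inl (by simpa using hk'))
  obtain ⟨_, m2⟩ := mem_zpowers_of_coprime (commute_K_Ks hk' hs') (coprime_order hG hPH hk' hs')
  obtain ⟨Y, hY, hYp⟩ := exists_prime_sub_zpowers hs1
  have hYσ : Y ≤ Cfsg.sigmaCore H := hY.trans ((zpowers_le.mpr hs').trans inf_le_left)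
  have hq : Nat.card Y ∈ Cfsg.sigma H :=
    Cfsg.Agent.Lib.Helper31BGS.mem_sigma_of_dvd_sigmaCore hG hH hYp (card_dvd_of_le hYσ)
  -- the conjugate of Y in Z
  have hYZ : cj t Y ≤ K ⊔ Ks M K := by
    have h1 : Y ≤ zpowers (k' * s') := hY.trans (zpowers_le.mpr m2)
    have h2 : cj t (zpowers (k' * s')) ≤ K ⊔ Ks M K := by
      rintro _ ⟨w, hw, rfl⟩
      obtain ⟨i, rfl⟩ := mem_zpowers_iff.mp hw
      have : (MulAut.conj t).toMonoidHom ((k' * s') ^ i) = z ^ i := by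
        rw [map_zpow, hzt]; rfl
      rw [this]
      exact zpow_mem hz.1 i
    exact (cj_mono h1).trans h2
  have hcard : Nat.card (cj t Y : Subgroup G) = Nat.card Y := by
    exact Nat.card_congr (Y.equivMapOfInjective _ (MulAut.conj t).injective).symm.toEquiv
  obtain ⟨L, hL, hYL⟩ := comp_of_prime hG h hYZ (hcard ▸ hYp)
  have hq' : Nat.card Y ∈ Cfsg.sigma L := by
    have := Cfsg.Agent.Lib.Helper31BGS.mem_sigma_of_dvd_sigmaCore hG hL.1 (hcard ▸ hYp)
      (card_dvd_of_le hYL)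
    rwa [hcard] at this
  obtain ⟨u, hu⟩ := Cfsg.Agent.Lib.Helper37BGPart.sigma_conj hG hL.1 hH hq' hq
  rcases comp_eq_or hG h hXK hX hMs hN hL with rfl | rfl
  · exact ⟨u, Or.inl hu⟩
  · exact ⟨u, Or.inr hu⟩

end aux

/-- Let G be a minimal simple group of odd order, M a maximal subgroup with standard factorisation M = K U M_σ, K ≠ 1, K* = M_σ ∩ C_G(K), and M* a maximal subgroup with K = M*_σ ∩ C_G(K*) and K* a Hall κ(M*)-subgroup of M*. Then either U ≠ 1 or every K*-invariant complement of K* M*_σ in M* is nontrivial; and every maximal subgroup H of G with κ(H) nonempty is conjugate to M or to M*. -/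
theorem result {G : Type*} [Group G] [Finite G] (hG : Cfsg.IsMinSimpleOddOrder G)
    (M : Subgroup G) (hM : IsCoatom M) (K U : Subgroup G) (hKU : Cfsg.IsSigmaDecomposition M K U) (hK1 : K ≠ ⊥) (Mstar : Subgroup G) (hMstar : IsCoatom Mstar)
    (hKst : K = Cfsg.sigmaCore Mstar ⊓ Subgroup.centralizer ((Cfsg.sigmaCore M ⊓ Subgroup.centralizer (K : Set G)) : Set G))
    (hKstH : Cfsg.IsPiHallOf (Cfsg.kappa Mstar) (Cfsg.sigmaCore M ⊓ Subgroup.centralizer (K : Set G)) Mstar) :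
    (U ≠ ⊥ ∨ ∀ Ustar : Subgroup G, Cfsg.IsSigmaDecomposition Mstar (Cfsg.sigmaCore M ⊓ Subgroup.centralizer (K : Set G)) Ustar → Ustar ≠ ⊥) ∧
      ∀ H : Subgroup G, IsCoatom H → (Cfsg.kappa H).Nonempty →
        ∃ g : G, H = M.map (MulAut.conj g).toMonoidHom ∨ H = Mstar.map (MulAut.conj g).toMonoidHom := by
  have h : PT M K := ⟨hM, hKU.hall, hK1⟩
  have hNall := (partner_iff hG h hMstar).mp ⟨hKst, hKstH⟩
  obtain ⟨X, hXK, hX⟩ := exists_prime_sub hK1
  have hN := hNall X hXK hX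
  obtain ⟨hPs, hKsKs, hinf, hnc, hnoU⟩ := pair_main hG h hXK hX hMstar hN
  refine ⟨?_, ?_⟩
  · rcases hnoU with hno | hno
    · exact Or.inl (U_ne_bot hG hM hKU hno)
    · exact Or.inr (fun Ustar hUs => U_ne_bot hG hMstar hUs hno)
  · intro H hH hκ
    exact conj_of_kappa hG h hXK hX hMstar hN hH hκ

end Cfsg.Agent.S1369
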