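import Cfsg.Statements.S1446
import Cfsg.Agent.Lib.Helper66Wf11

set_option autoImplicit false
open Cfsg

namespace Cfsg.Agent.S1446

/-- Let X be a finite group with subgroups K, R, M such that: K and R are nontrivial, K ∩ R = 1, R normalizes K, no non-identity element of R centralizes a non-identity element of K, K ⊔ R is solvable of odd order; M is nilpotent and nontrivial, normalized by K and by R, with order coprime to that of K ⊔ R, M ∩ C(K) = 1, and M ∩ C(x) = M ∩ C(R) for all non-identity x ∈ R. Then R has prime order p, #M = #(M ∩ C(R)) ^ p, and if M ∩ C(R) is cyclic then [K, K] centralizes M. -/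
theorem result {X : Type*} [Group X] [Finite X] (K R M : Subgroup X) (hK1 : K ≠ ⊥) (hR1 : R ≠ ⊥) (hKR : K ⊓ R = ⊥)
    (hRK : R ≤ Subgroup.normalizer (K : Set X)) (hfrob : ∀ r ∈ R, r ≠ 1 → K ⊓ Subgroup.centralizer ({r} : Set X) = ⊥)
    (hsolv : Group.IsSolvable ↥(K ⊔ R)) (hodd : Odd (Nat.card ↥(K ⊔ R)))
    (hM1 : M ≠ ⊥) (hMn : Group.IsNilpotent M) (hKM : K ≤ Subgroup.normalizer (M : Set X)) (hRM : R ≤ Subgroup.normalizer (M : Set X))
    (hcop : (Nat.card ↥(K ⊔ R)).Coprime (Nat.card M)) (hCK : M ⊓ Subgroup.centralizer (K : Set X) = ⊥)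
    (hpr : ∀ x ∈ R, x ≠ 1 → M ⊓ Subgroup.centralizer ({x} : Set X) = M ⊓ Subgroup.centralizer (R : Set X)) :
    (Nat.card R).Prime ∧ Nat.card M = Nat.card ↥(M ⊓ Subgroup.centralizer (R : Set X)) ^ Nat.card R ∧
      (IsCyclic ↥(M ⊓ Subgroup.centralizer (R : Set X)) → ⁅K, K⁆ ≤ Subgroup.centralizer (M : Set X)) := by
  have hUn : ∀ e ∈ R, ∀ u ∈ K, e * u * e⁻¹ ∈ K :=
    fun e he u hu => (Subgroup.mem_normalizer_iff.mp (hRK he) u).mp hu
  have hfpf : ∀ e ∈ R, e ≠ 1 → ∀ u ∈ K, e * u = u * e → u = 1 := by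
    intro e he he1 u hu h
    have hmem : u ∈ K ⊓ Subgroup.centralizer ({e} : Set X) := by
      refine ⟨hu, ?_⟩
      change u ∈ Subgroup.centralizer ({e} : Set X)
      rw [Subgroup.mem_centralizer_iff]
      intro y hy
      rw [Set.mem_singleton_iff.mp hy]
      exact h
    rw [hfrob e he he1] at hmem
    exact hmem
  have hnil : Group.IsNilpotent K := Cfsg.Agent.Lib.Helper66Wf9.nil_of_frob K R hR1 hUn hfpf
  have hΓ : K ⊔ R ≤ Subgroup.normalizer (M : Set X) := sup_le hKM hRM
  have hsolvM : Group.IsSolvable M := inferInstance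
  -- the formula for subgroups of `R`
  have hform : ∀ R₀ : Subgroup X, R₀ ≤ R →
      Nat.card M = Nat.card ↥(M ⊓ Subgroup.centralizer (R₀ : Set X)) ^ Nat.card R₀ := by
    intro R₀ hR₀
    have hle : K ⊔ R₀ ≤ K ⊔ R := sup_le_sup_left hR₀ K
    have h1 := Cfsg.Agent.Lib.Helper66Wf9.formula K R₀ hnil (fun e he => hUn e (hR₀ he))
      (fun e he => hfpf e (hR₀ he)) _ M rfl (hle.trans hΓ) hsolvM
      (Nat.Coprime.of_dvd_right (Subgroup.card_dvd_of_le hle) hcop.symm)
    have h2 : M ⊓ Subgroup.centralizer ((K ⊔ R₀ : Subgroup X) : Set X) = ⊥ := by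
      rw [eq_bot_iff, ← hCK]
      refine inf_le_inf_left _ (Subgroup.centralizer_le ?_)
      exact (le_sup_left : K ≤ K ⊔ R₀)
    rw [h2, hCK, Subgroup.card_bot, one_pow, one_mul, mul_one] at h1
    exact h1
  have hM2 := hform R le_rfl
  have hbase : 2 ≤ Nat.card ↥(M ⊓ Subgroup.centralizer (R : Set X)) := by
    by_contra hlt
    have h1 : Nat.card ↥(M ⊓ Subgroup.centralizer (R : Set X)) = 1 := by
      have := Nat.card_pos (α := ↥(M ⊓ Subgroup.centralizer (R : Set X)))
      omega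
    rw [h1, one_pow] at hM2
    exact hM1 (Subgroup.card_eq_one.mp hM2)
  refine ⟨?_, hM2, ?_⟩
  · have hc1 : Nat.card R ≠ 1 := fun h => hR1 (Subgroup.card_eq_one.mp h)
    obtain ⟨p, hp, hpd⟩ := Nat.exists_prime_and_dvd hc1
    have : Fact p.Prime := ⟨hp⟩
    obtain ⟨c, hc⟩ := exists_prime_orderOf_dvd_card' p hpd
    have hcX : orderOf (c : X) = p := by rw [← hc]; exact Subgroup.orderOf_coe c
    have hc1 : (c : X) ≠ 1 := by
      intro h
      rw [h, orderOf_one] at hcX
      exact hp.one_lt.ne hcX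
    have h3 := hform (Subgroup.zpowers (c : X)) (by rw [Subgroup.zpowers_le]; exact c.2)
    have h4 : M ⊓ Subgroup.centralizer ((Subgroup.zpowers (c : X) : Subgroup X) : Set X) =
        M ⊓ Subgroup.centralizer (R : Set X) := by
      rw [← hpr c c.2 hc1]
      congr 1
      ext y
      rw [Subgroup.mem_centralizer_iff, Subgroup.mem_centralizer_iff]
      constructor
      · intro h z hz
        rw [Set.mem_singleton_iff.mp hz]
        exact h _ (Subgroup.mem_zpowers _)
      · rintro h _ ⟨i, rfl⟩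
        have h5 : Commute (c : X) y := h _ (Set.mem_singleton _)
        exact (h5.zpow_left i)
    rw [h4, Nat.card_zpowers, hcX, hM2] at h3
    have := Nat.pow_right_injective hbase h3
    rw [this]
    exact hp
  · intro hcyc
    exact Cfsg.Agent.Lib.Helper66Wf11.comm_le_centralizer K R hnil hUn hfpf _ M rfl hΓ hsolvM
      hcop.symm hCK hcyc

end Cfsg.Agent.S1446
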