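import Cfsg.Statements.S3737
import Cfsg.Agent.Lib.Helper30Baer
import Cfsg.Agent.Lib.Helper30SZ

set_option autoImplicit false
open Cfsg

namespace Cfsg.Agent.S3737

open Subgroup Cfsg.Agent.Lib.Helper30Baer Cfsg.Agent.Lib.Helper30SZ Cfsg.Agent.Lib.Helper30Coprime
open scoped commutatorElement

/-- class two case inside an ambient group -/
theorem class_two_ambient {X : Type*} [Group X] [Finite X] {p : ℕ} [Fact p.Prime] (hp : p ≠ 2)
    (P Q G : Subgroup X) (hP : IsPGroup p P) (hQ : (Nat.card Q).Coprime p)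
    (hPQ : P ≤ normalizer (Q : Set X)) (hG : IsPGroup p G)
    (hPG : P ≤ normalizer (G : Set X)) (hQG : Q ≤ normalizer (G : Set X))
    (hC : G ⊓ centralizer (P : Set X) ≤ centralizer (Q : Set X))
    (hcl : ∀ x ∈ G, ∀ y ∈ G, ∀ z ∈ G, ⁅x, y⁆ * z = z * ⁅x, y⁆) :
    Q ≤ centralizer (G : Set X) := by
  set N := normalizer (G : Set X) with hN
  let φ := G.normalizerMonoidHom
  have hφ : ∀ (g : X) (hg : g ∈ N) (x : G), ((φ ⟨g, hg⟩ x : G) : X) = g * x * g⁻¹ := by
    intro g hg x; rfl
  let P' := (P.subgroupOf N).map φ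
  let Q' := (Q.subgroupOf N).map φ
  have hP' : IsPGroup p P' := (hP.comap_subtype).map φ
  have hQ' : (Nat.card Q').Coprime p := by
    have h1 : Nat.card Q' ∣ Nat.card (Q.subgroupOf N) := card_map_dvd _ _
    rw [card_subgroupOf_of_le hQG] at h1
    exact Nat.Coprime.coprime_dvd_left h1 hQ
  have hPQ' : P' ≤ normalizer (Q' : Set (MulAut G)) := by
    rw [le_normalizer_iff]
    rintro _ ⟨g, hg, rfl⟩ _ ⟨a, ha, rfl⟩
    refine ⟨g * a * g⁻¹, ?_, by simp⟩
    have hg' : (g : X) ∈ P := hg
    have ha' : (a : X) ∈ Q := ha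
    exact (mem_normalizer_iff.mp (hPQ hg') _).mp ha'
  have hcen : ∀ x y z : G, ⁅x, y⁆ * z = z * ⁅x, y⁆ := by
    intro x y z
    apply Subtype.ext
    exact hcl x x.2 y y.2 z z.2
  have hC' : ∀ x : G, (∀ f ∈ P', f x = x) → ∀ f ∈ Q', f x = x := by
    intro x hx
    have h1 : (x : X) ∈ G ⊓ centralizer (P : Set X) := by
      refine Subgroup.mem_inf.mpr ⟨x.2, ?_⟩
      rw [mem_centralizer_iff]
      intro g hg
      have h2 := hx (φ ⟨g, hPG hg⟩) ⟨⟨g, hPG hg⟩, hg, rfl⟩
      have h3 := congrArg Subtype.val h2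
      rw [hφ] at h3
      calc g * (x : X) = (g * x * g⁻¹) * g := by group
        _ = x * g := by rw [h3]
    have h4 := hC h1
    rintro _ ⟨a, ha, rfl⟩
    apply Subtype.ext
    rw [hφ]
    have h5 := (mem_centralizer_iff.mp h4) a ha
    rw [h5]; group
  have key := class_two_case hp hG hcen P' Q' hP' hQ' hPQ' hC'
  rw [le_centralizer_iff_conj]
  intro a ha x hx
  have h1 := key (φ ⟨a, hQG ha⟩) ⟨⟨a, hQG ha⟩, ha, rfl⟩ ⟨x, hx⟩
  exact congrArg Subtype.val h1

theorem commutator_lt_self {X : Type*} [Group X] {G : Subgroup X} (hs : Group.IsSolvable G)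
    (hne : G ≠ ⊥) : ⁅G, G⁆ < G := by
  rw [← nontrivial_iff_ne_bot] at hne
  conv_rhs => rw [← G.range_subtype, MonoidHom.range_eq_map]
  conv_lhs => rw [← G.range_subtype, MonoidHom.range_eq_map, ← map_commutator]
  rw [map_subtype_lt_map_subtype]
  exact Group.IsSolvable.commutator_lt_top_of_nontrivial G

theorem main {X : Type*} [Group X] [Finite X] {p : ℕ} [Fact p.Prime] (hp : p ≠ 2)
    (P Q : Subgroup X) (hP : IsPGroup p P) (hQ : (Nat.card Q).Coprime p)
    (hPQ : P ≤ normalizer (Q : Set X)) :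
    ∀ (n : ℕ) (G : Subgroup X), Nat.card G = n → IsPGroup p G →
      P ≤ normalizer (G : Set X) → Q ≤ normalizer (G : Set X) →
      G ⊓ centralizer (P : Set X) ≤ centralizer (Q : Set X) → Q ≤ centralizer (G : Set X) := by
  intro n
  induction n using Nat.strong_induction_on with
  | _ n ih =>
  intro G hn hG hPG hQG hC
  have IH : ∀ H : Subgroup X, H < G → P ≤ normalizer (H : Set X) → Q ≤ normalizer (H : Set X) →
      Q ≤ centralizer (H : Set X) := by
    intro H hH h1 h2
    exact ih (Nat.card H) (hn ▸ card_lt_of_lt hH) H rfl (hG.to_le hH.le) h1 h2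
      (le_trans (inf_le_inf_right _ hH.le) hC)
  have hcopG : ∀ H : Subgroup X, H ≤ G → (Nat.card Q).Coprime (Nat.card H) := by
    intro H hH
    obtain ⟨k, hk⟩ := IsPGroup.iff_card.mp (hG.to_le hH)
    rw [hk]; exact hQ.pow_right k
  have hGQ : ⁅G, Q⁆ ≤ G := commutator_le_of_le_normalizer hQG
  rcases lt_or_eq_of_le hGQ with hlt | heq
  · have h1 := IH _ hlt (le_normalizer_commutator hPG hPQ) (le_normalizer_commutator hQG le_normalizer)
    rw [le_centralizer_iff_conj] at h1 ⊢
    refine centralizes_of_chain (hcopG _ hGQ) h1 ?_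
    intro a ha x hx
    have h2 : ⁅x⁻¹, a⁆ ∈ ⁅G, Q⁆ := commutator_mem_commutator (G.inv_mem hx) ha
    rw [commutatorElement_def] at h2
    simpa [mul_assoc] using h2
  · by_cases hbot : G = ⊥
    · rw [hbot, le_centralizer_iff_conj]
      intro a _ x hx
      rw [mem_bot.mp hx]; simp
    have hs : Group.IsSolvable G := by
      have := hG.isNilpotent
      infer_instance
    have hD := commutator_lt_self hs hbot
    have hQD := IH _ hD (le_normalizer_commutator hPG hPG) (le_normalizer_commutator hQG hQG)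
    have h1 : ⁅Q, ⁅G, G⁆⁆ = ⊥ := by
      rw [commutator_eq_bot_iff_le_centralizer]; exact hQD
    have h2 : ⁅⁅⁅G, G⁆, G⁆, Q⁆ = ⊥ := by
      rw [commutator_comm, commutator_eq_bot_iff_le_centralizer]
      refine le_trans hQD (centralizer_le ?_)
      have : ⁅⁅G, G⁆, G⁆ ≤ ⁅G, G⁆ := commutator_mono hD.le le_rfl
      exact this
    have h3 : ⁅⁅G, Q⁆, ⁅G, G⁆⁆ = ⊥ := by
      apply commutator_commutator_eq_bot_of_rotate
      · rw [h1]; simp
      · exact h2
    rw [heq, commutator_eq_bot_iff_le_centralizer] at h3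
    apply class_two_ambient hp P Q G hP hQ hPQ hG hPG hQG hC
    intro x hx y hy z hz
    exact (mem_centralizer_iff.mp (h3 hz)) _ (commutator_mem_commutator hx hy)

/-- Thompson's strengthening of the P × Q lemma for odd primes. Let p be an odd prime and let P, Q and G be subgroups of a finite group with P a p-group, Q of order prime to p and normalized by P, and G a p-group normalized by both P and Q. If every element of G centralized by P is centralized by Q, then Q centralizes G. -/
theorem result {X : Type*} [Group X] [Finite X] {p : ℕ} [Fact p.Prime] (hp : p ≠ 2) (P Q G : Subgroup X) (hP : IsPGroup p P) (hQ : (Nat.card Q).Coprime p) (hPQ : P ≤ Subgroup.normalizer (Q : Set X)) (hG : IsPGroup p G) (hPG : P ≤ Subgroup.normalizer (G : Set X)) (hQG : Q ≤ Subgroup.normalizer (G : Set X)) (hC : G ⊓ Subgroup.centralizer (P : Set X) ≤ Subgroup.centralizer (Q : Set X)) : Q ≤ Subgroup.centralizer (G : Set X) := by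
  exact main hp P Q hP hQ hPQ _ G rfl hG hPG hQG hC

end Cfsg.Agent.S3737
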