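import Mathlib
import Cfsg.Statements.S1439
import Cfsg.Agent.S1409
import Cfsg.Agent.S1418
import Cfsg.Agent.Lib.Helper31BGS
import Cfsg.Agent.Lib.Helper30Bender
import Cfsg.Agent.Lib.Helper2KWa

set_option autoImplicit false
open Cfsg

namespace Cfsg.Agent.S1439

open Subgroup
open Cfsg.Agent.Lib.Helper30Trans
open Cfsg.Agent.Lib.Helper24BG
open Cfsg.Agent.Lib.Helper24BG2
open Cfsg.Agent.Lib.Helper27BGa
open Cfsg.Agent.Lib.Helper31BGS
open Cfsg.Agent.Lib.Helper30Bender
open Cfsg.Agent.Lib.Helper2KWa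

universe u
variable {G : Type u} [Group G] [Finite G]

theorem exists_prime_sub {D : Subgroup G} {p : ℕ} [Fact p.Prime] (h : p ∣ Nat.card D) :
    ∃ X : Subgroup G, X ≤ D ∧ Nat.card X = p := by
  obtain ⟨x, hx⟩ := exists_prime_orderOf_dvd_card' p h
  refine ⟨zpowers (x : G), by rw [zpowers_le]; exact x.2, ?_⟩
  rw [Nat.card_zpowers, Subgroup.orderOf_coe, hx]

theorem prime_dvd_pgroup {q p : ℕ} [Fact q.Prime] {D : Subgroup G} (hD : IsPGroup q D) (hp : p.Prime)
    (h : p ∣ Nat.card D) : p = q := by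
  obtain ⟨n, hn⟩ := hD.exists_card_eq
  rw [hn] at h
  exact (Nat.prime_dvd_prime_iff_eq hp Fact.out).mp (hp.dvd_of_dvd_pow h)

/-- a nontrivial normal `q`-subgroup of `M`, `q ∉ σ(M)`: then `q ∈ τ₂(M)` and the subgroup is cyclic -/
theorem keyA (hG : IsMinSimpleOddOrder G) {M : Subgroup G} (hM : IsCoatom M) {q : ℕ} [hq : Fact q.Prime]
    (hqs : q ∉ sigma M) {D : Subgroup G} (hD : IsPGroup q D) (hDM : D ≤ M)
    (hn : M ≤ normalizer (D : Set G)) (hD1 : D ≠ ⊥) : q ∈ tau2 M ∧ IsCyclic D := by
  have hq2 : q ≠ 2 := ne_two hG hD hD1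
  have h2 : PRankLE q 2 M := by
    by_contra h2
    exact hqs (alpha_subset_sigma hG hM ⟨hq.out, h2⟩)
  have h1 : ¬ PRankLE q 1 M := by
    intro h1
    have hc : IsCyclic D := cyclic_of_rank_one hq2 hD (rank_le_of_le hDM h1)
    obtain ⟨X, hXD, hX⟩ := exists_prime_sub (dvd_card_of_pgroup hD hD1 le_rfl)
    have hX1 : X ≠ ⊥ := by
      intro h
      rw [h, Subgroup.card_bot] at hX
      exact hq.out.one_lt.ne hX
    have hNX : normalizer (X : Set G) = M :=
      norm_eq hG hM hX1 (hXD.trans hDM) (hn.trans (normalizer_le_of_cyclic hc hXD))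
    exact (Cfsg.Agent.S1409.result hG M hM q hqs X hX hNX.le).1.2 h1
  have hτ : q ∈ tau2 M := ⟨hq.out, hqs, h2, h1⟩
  refine ⟨hτ, ?_⟩
  by_contra hnc
  obtain ⟨A, hAD, -, hA, hAc⟩ := exists_normal_sq hq2 hD hnc
  obtain ⟨E, hE, hDE⟩ := exists_compl_ge hG hM hDM (fun p hp hpd => by
    rw [prime_dvd_pgroup hD hp hpd]; exact hqs)
  have h18 := Cfsg.Agent.S1418.result hG M hM E hE q hτ A ⟨hAD.trans hDE, hA, hAc⟩
  have hA1 : A ≠ ⊥ := by
    intro h
    rw [h, Subgroup.card_bot] at hAc
    have := Nat.one_lt_pow (n := 2) (by norm_num) hq.out.one_lt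
    omega
  have hMA : M ≤ normalizer (A : Set G) := by
    intro m hm
    apply mem_normalizer_of_forall
    intro a ha
    by_cases ha1 : a = 1
    · rw [ha1]; simp
    have hmem : m * a * m⁻¹ ∈ D := (mem_normalizer_iff.mp (hn hm) a).mp (hAD ha)
    have hord : orderOf (m * a * m⁻¹) = q := by
      rw [orderOf_conj]
      exact orderOf_eq_prime (hA.2 a ha) ha1
    have hz : zpowers (m * a * m⁻¹) ≤ A := by
      apply h18.1.2
      · rw [zpowers_le]; exact hDE hmem
      · rw [Nat.card_zpowers, hord]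
    exact hz (mem_zpowers _)
  exact h18.2.1.2.2 (norm_eq hG hM hA1 ((hAD.trans hDM)) hMA).le

theorem normalizer_le_normalizer_fittingOf (X : Subgroup G) :
    normalizer (X : Set G) ≤ normalizer ((fittingOf X : Subgroup G) : Set G) := by
  intro g hg
  apply mem_normalizer_of_forall
  have h1 : cj g (fittingOf X) ≤ fittingOf X := by
    have hle : cj g (fittingOf X) ≤ X := by
      have := cj_mono (k := g) (fittingOf_le X)
      rwa [cj_eq_self_of_mem_normalizer hg] at this
    apply le_fittingOf hle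
    · intro x hx
      have hx' : g⁻¹ * x * g ∈ X := (mem_normalizer_iff''.mp hg x).mp hx
      have h2 := le_normalizer_fittingOf X hx'
      apply mem_normalizer_of_forall
      intro y hy
      rw [mem_cj] at hy ⊢
      have h3 := (mem_normalizer_iff.mp h2 _).mp hy
      have h4 : g⁻¹ * (x * y * x⁻¹) * g = g⁻¹ * x * g * (g⁻¹ * y * g) * (g⁻¹ * x * g)⁻¹ := by group
      rw [h4]; exact h3
    · exact (Group.isNilpotent_congr
        ((fittingOf X).equivMapOfInjective _ (MulAut.conj g).injective)).mp (fittingOf_isNilpotent X)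
  intro x hx
  exact h1 (conj_mem_cj hx)

/-- Let G be a minimal simple group of odd order and M a maximal subgroup, and let Y be the largest normal subgroup of F(M) involving no prime of σ(M). Then Y is cyclic, every prime divisor of its order lies in τ₂(M), and F(M) is generated by F(M_σ) and Y (a direct product, the orders being coprime). -/
theorem result {G : Type*} [Group G] [Finite G] (hG : Cfsg.IsMinSimpleOddOrder G)
    (M : Subgroup G) (hM : IsCoatom M) :
    IsCyclic ↥(Cfsg.piCoreOf {q | q.Prime ∧ q ∉ Cfsg.sigma M} (Cfsg.fittingOf M)) ∧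
      (∀ p : ℕ, p.Prime → p ∣ Nat.card ↥(Cfsg.piCoreOf {q | q.Prime ∧ q ∉ Cfsg.sigma M} (Cfsg.fittingOf M)) → p ∈ Cfsg.tau2 M) ∧
      Cfsg.fittingOf M = Cfsg.fittingOf (Cfsg.sigmaCore M) ⊔ Cfsg.piCoreOf {q | q.Prime ∧ q ∉ Cfsg.sigma M} (Cfsg.fittingOf M) := by
  set F := fittingOf M with hF
  set Y := piCoreOf {q | q.Prime ∧ q ∉ sigma M} F with hY
  have hFnil : Group.IsNilpotent F := fittingOf_isNilpotent M
  have hFM : F ≤ M := fittingOf_le M
  have hYF : Y ≤ F := piCoreOf_le _ _
  have hkey : ∀ q : ℕ, q.Prime → q ∣ Nat.card Y → q ∈ tau2 M ∧ IsCyclic (pt F q) := by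
    intro q hq hd
    haveI : Fact q.Prime := ⟨hq⟩
    have hqs : q ∉ sigma M := (card_piCoreOf _ F q hq hd).2
    exact keyA hG hM hqs (isPGroup_pt F q) ((pt_le F q).trans hFM)
      ((le_normalizer_fittingOf M).trans (normalizer_le_normalizer_pt hFnil q))
      (pt_ne_bot (hd.trans (card_dvd_of_le hYF)))
  refine ⟨?_, fun p hp hd => (hkey p hp hd).1, ?_⟩
  · haveI : Group.IsNilpotent Y := isNilpotent_of_le hFnil hYF
    haveI : IsZGroup Y := by
      refine ⟨fun p hp P => ?_⟩
      haveI : Fact p.Prime := ⟨hp⟩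
      by_cases hd : p ∣ Nat.card Y
      · have hc := (hkey p hp hd).2
        have hle : (P : Subgroup Y).map Y.subtype ≤ pt F p := by
          rintro _ ⟨x, hx, rfl⟩
          rw [mem_pt hFnil]
          refine ⟨hYF x.2, ?_⟩
          obtain ⟨k, hk⟩ := (IsPGroup.iff_orderOf.mp P.2) ⟨x, hx⟩
          refine ⟨k, ?_⟩
          rw [Subgroup.orderOf_mk] at hk
          simpa using hk
        have h2 : IsCyclic ((P : Subgroup Y).map Y.subtype) := Subgroup.isCyclic_of_le hle
        exact ((P : Subgroup Y).equivMapOfInjective Y.subtype Y.subtype_injective).isCyclic.mpr h2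
      · have h1 : Nat.card (P : Subgroup Y) = 1 := by
          obtain ⟨n, hn⟩ := P.2.exists_card_eq
          cases n with
          | zero => simpa using hn
          | succ n =>
            exfalso
            apply hd
            have : p ∣ Nat.card (P : Subgroup Y) := by
              rw [hn]; exact dvd_pow_self p (Nat.succ_ne_zero n)
            exact this.trans (Subgroup.card_subgroup_dvd_card _)
        haveI : Subsingleton (P : Subgroup Y) := (Nat.card_eq_one_iff_unique.mp h1).1
        infer_instance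
    infer_instance
  · apply le_antisymm
    · apply fittingOf_le_of_forall
      intro p hp D hDM hn hD
      haveI : Fact p.Prime := ⟨hp⟩
      by_cases hps : p ∈ sigma M
      · refine le_trans ?_ le_sup_left
        have hDs : D ≤ sigmaCore M := by
          apply le_sigmaCore hG hM hDM
          intro r hr hrd
          rw [prime_dvd_pgroup hD hr hrd]; exact hps
        exact le_fittingOf hDs ((sigmaCore_le M).trans hn) hD.isNilpotent
      · refine le_trans ?_ le_sup_right
        have hDF : D ≤ F := le_fittingOf hDM hn hD.isNilpotent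
        apply le_piCoreOf hDF (hFM.trans hn)
        intro r hr hrd
        rw [prime_dvd_pgroup hD hr hrd]; exact ⟨hp, hps⟩
    · refine sup_le ?_ hYF
      apply le_fittingOf ((fittingOf_le _).trans (sigmaCore_le M))
      · exact (le_normalizer_sigmaCore M).trans (normalizer_le_normalizer_fittingOf _)
      · exact fittingOf_isNilpotent _

end Cfsg.Agent.S1439
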