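import Cfsg.Statements.S1373
import Cfsg.Agent.S1366
import Cfsg.Agent.S1369
import Cfsg.Agent.S1372
import Cfsg.Agent.S1351
import Cfsg.Agent.S1352
import Cfsg.Agent.S1354

set_option autoImplicit false
open Cfsg

namespace Cfsg.Agent.S1373

/-- Let G be a minimal simple group of odd order and M a maximal subgroup with standard factorisation M = K U M_σ, K ≠ 1 and U = 1. Then M_σ ∩ C_G(K) has prime order. -/
theorem result {G : Type*} [Group G] [Finite G] (hG : Cfsg.IsMinSimpleOddOrder G)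
    (M : Subgroup G) (hM : IsCoatom M) (K U : Subgroup G) (hKU : Cfsg.IsSigmaDecomposition M K U) (hK1 : K ≠ ⊥) (hU : U = ⊥) :
    (Nat.card ↥(Cfsg.sigmaCore M ⊓ Subgroup.centralizer (K : Set G))).Prime := by
  obtain ⟨Mstar, ⟨hMs, hKst, hKstH⟩, -⟩ := Cfsg.Agent.S1366.result hG M hM K U hKU hK1
  have h1 := (Cfsg.Agent.S1369.result hG M hM K U hKU hK1 Mstar hMs hKst hKstH).1
  have h2 := h1.resolve_left (fun h => h hU)
  have hcyc := (Cfsg.Agent.S1351.result hG Mstar hMs).2 _ hKstH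
  obtain ⟨Ustar, hUstar⟩ := (Cfsg.Agent.S1352.result hG Mstar hMs _ hcyc hKstH).1
  have hKs1 := (Cfsg.Agent.S1354.result hG M hM K hKU.cyclic hKU.hall).1
  exact (Cfsg.Agent.S1372.result hG Mstar hMs _ Ustar hUstar hKs1 (h2 Ustar hUstar)).1

end Cfsg.Agent.S1373
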