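import Cfsg.Statements.S4337

set_option autoImplicit false
open Cfsg

namespace Cfsg.Agent.S4337

open Equiv Equiv.Perm
open scoped commutatorElement

def V4 : Subgroup (Perm (Fin 4)) where
  carrier := {x | x * x = 1 ∧ sign x = 1}
  one_mem' := by decide
  mul_mem' := by
    have : ∀ a b : Perm (Fin 4), (a * a = 1 ∧ sign a = 1) → (b * b = 1 ∧ sign b = 1) →
      ((a * b) * (a * b) = 1 ∧ sign (a * b) = 1) := by decide +kernel
    intro a b ha hb
    exact this a b ha hb
  inv_mem' := by
    have : ∀ a : Perm (Fin 4), (a * a = 1 ∧ sign a = 1) → (a⁻¹ * a⁻¹ = 1 ∧ sign a⁻¹ = 1) := by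
      decide +kernel
    intro a ha
    exact this a ha

theorem comm_A4 : ∀ a b : Perm (Fin 4), sign a = 1 → sign b = 1 → ⁅a, b⁆ ∈ V4 := by
  have : ∀ a b : Perm (Fin 4), sign a = 1 → sign b = 1 →
      ((a * b * a⁻¹ * b⁻¹) * (a * b * a⁻¹ * b⁻¹) = 1 ∧ sign (a * b * a⁻¹ * b⁻¹) = 1) := by decide +kernel
  exact this

theorem comm_V4 : ∀ a b : Perm (Fin 4), a ∈ V4 → b ∈ V4 → ⁅a, b⁆ = 1 := by
  have : ∀ a b : Perm (Fin 4), (a * a = 1 ∧ sign a = 1) → (b * b = 1 ∧ sign b = 1) →
      a * b * a⁻¹ * b⁻¹ = 1 := by decide +kernel
  exact this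

theorem solvS4 : Group.IsSolvable (Perm (Fin 4)) := by
  refine ⟨⟨3, ?_⟩⟩
  have h1 : derivedSeries (Perm (Fin 4)) 1 ≤ (sign : Perm (Fin 4) →* ℤˣ).ker := by
    rw [derivedSeries_succ, Subgroup.commutator_le]
    intro a _ b _
    rw [MonoidHom.mem_ker, commutatorElement_def, map_mul, map_mul, map_mul, map_inv, map_inv,
      mul_comm (sign a) (sign b), mul_inv_cancel_right, mul_inv_cancel]
  have h2 : derivedSeries (Perm (Fin 4)) 2 ≤ V4 := by
    rw [derivedSeries_succ, Subgroup.commutator_le]
    intro a ha b hb
    exact comm_A4 a b (h1 ha) (h1 hb)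
  rw [derivedSeries_succ, eq_bot_iff, Subgroup.commutator_le]
  intro a ha b hb
  exact comm_V4 a b (h2 ha) (h2 hb)

theorem solv_small (α : Type*) [Fintype α] [DecidableEq α] (h : Fintype.card α ≤ 4) :
    Group.IsSolvable (Perm α) := by
  have : Nonempty (α ↪ Fin 4) := Function.Embedding.nonempty_of_card_le (by simpa using h)
  obtain ⟨ι⟩ := this
  have := solvS4
  exact Group.isSolvable_of_isSolvable_injective (viaEmbeddingHom_injective ι)

theorem solv_closure {α : Type*} [Fintype α] [DecidableEq α] (S : Set (Perm α)) (T : Finset α)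
    (hS : ∀ s ∈ S, s.support ⊆ T) (hT : T.card ≤ 4) : Group.IsSolvable (Subgroup.closure S) := by
  have : Group.IsSolvable (Perm {x // x ∈ T}) := solv_small _ (by simpa using hT)
  have hle : Subgroup.closure S ≤ (ofSubtype : Perm {x // x ∈ T} →* Perm α).range := by
    rw [Subgroup.closure_le]
    intro s hs
    have h2 : ∀ x, s x ≠ x → x ∈ T := fun x hx => hS s hs (mem_support.mpr hx)
    have h1 : ∀ x, s x ∈ T ↔ x ∈ T := by
      intro x
      by_cases hx : s x = x
      · rw [hx]
      · exact ⟨fun _ => h2 x hx, fun _ => hS s hs (apply_mem_support.mpr (mem_support.mpr hx))⟩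
    exact ⟨subtypePerm s h1, ofSubtype_subtypePerm h1 h2⟩
  have : Group.IsSolvable (ofSubtype : Perm {x // x ∈ T} →* Perm α).range :=
    Group.isSolvable_of_surjective (MonoidHom.rangeRestrict_surjective _)
  exact Group.isSolvable_of_isSolvable_injective (Subgroup.inclusion_injective hle)

theorem solv_central {G : Type*} [Group G] (a b c : G) (hca : Commute c a) (hcb : Commute c b)
    (hK : Group.IsSolvable (Subgroup.closure ({a, b} : Set G))) :
    Group.IsSolvable (Subgroup.closure ({a, b, c} : Set G)) := by
  set K := Subgroup.closure ({a, b} : Set G) with hKdef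
  set C := Subgroup.zpowers c with hC
  have hcomm : ∀ (k : K) (z : C), Commute (K.subtype k) (C.subtype z) := by
    intro k z
    have h1 : K ≤ Subgroup.centralizer ({c} : Set G) := by
      rw [hKdef, Subgroup.closure_le]
      intro x hx
      rw [SetLike.mem_coe, Subgroup.mem_centralizer_singleton_iff]
      rcases hx with rfl | rfl
      · exact hca.symm.eq
      · exact hcb.symm.eq
    have h2 : Commute (k : G) c := Subgroup.mem_centralizer_singleton_iff.mp (h1 k.2)
    obtain ⟨n, hn⟩ := Subgroup.mem_zpowers_iff.mp z.2
    change Commute (k : G) (z : G)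
    rw [← hn]
    exact h2.zpow_right n
  let f : K × C →* G := MonoidHom.noncommCoprod K.subtype C.subtype hcomm
  have hle : Subgroup.closure ({a, b, c} : Set G) ≤ f.range := by
    rw [Subgroup.closure_le]
    intro x hx
    rcases hx with rfl | rfl | rfl
    · exact ⟨(⟨x, Subgroup.subset_closure (by simp)⟩, 1), by simp [f]⟩
    · exact ⟨(⟨x, Subgroup.subset_closure (by simp)⟩, 1), by simp [f]⟩
    · exact ⟨(1, ⟨x, Subgroup.mem_zpowers x⟩), by simp [f]⟩
  have : Group.IsSolvable C := Group.isSolvable_of_comm (fun x y => mul_comm' x y)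
  have : Group.IsSolvable f.range :=
    Group.isSolvable_of_surjective (MonoidHom.rangeRestrict_surjective _)
  exact Group.isSolvable_of_isSolvable_injective (Subgroup.inclusion_injective hle)

theorem card_union_lt {α : Type*} [DecidableEq α] (X Y : Finset α) (h : ¬ Disjoint X Y) :
    (X ∪ Y).card + 1 ≤ X.card + Y.card := by
  rw [← Finset.card_union_add_card_inter]
  have : 0 < (X ∩ Y).card := Finset.card_pos.mpr (Finset.not_disjoint_iff_nonempty_inter.mp h)
  omega

/-- In a finite symmetric group, any three transpositions generate a solvable subgroup. -/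
theorem result (n : ℕ) (a b c : Equiv.Perm (Fin n))
    (ha : a.IsSwap) (hb : b.IsSwap) (hc : c.IsSwap) :
    Group.IsSolvable (Subgroup.closure ({a, b, c} : Set (Equiv.Perm (Fin n)))) := by
  have hA : a.support.card = 2 := card_support_eq_two.mpr ha
  have hB : b.support.card = 2 := card_support_eq_two.mpr hb
  have hC : c.support.card = 2 := card_support_eq_two.mpr hc
  have pair : ∀ x y : Perm (Fin n), x.support.card = 2 → y.support.card = 2 →
      Group.IsSolvable (Subgroup.closure ({x, y} : Set (Perm (Fin n)))) := by
    intro x y hx hy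
    apply solv_closure _ (x.support ∪ y.support)
    · rintro s (rfl | rfl)
      · exact Finset.subset_union_left
      · exact Finset.subset_union_right
    · have := Finset.card_union_le x.support y.support
      omega
  have comm_of : ∀ x y z : Perm (Fin n), Disjoint z.support (x.support ∪ y.support) →
      Commute z x ∧ Commute z y := by
    intro x y z h
    rw [Finset.disjoint_union_right] at h
    exact ⟨(disjoint_iff_disjoint_support.mpr h.1).commute,
      (disjoint_iff_disjoint_support.mpr h.2).commute⟩
  by_cases h1 : Disjoint c.support (a.support ∪ b.support)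
  · exact solv_central a b c (comm_of a b c h1).1 (comm_of a b c h1).2 (pair a b hA hB)
  by_cases h2 : Disjoint a.support (b.support ∪ c.support)
  · have := solv_central b c a (comm_of b c a h2).1 (comm_of b c a h2).2 (pair b c hB hC)
    have e : ({a, b, c} : Set (Perm (Fin n))) = {b, c, a} := by
      ext x; simp only [Set.mem_insert_iff, Set.mem_singleton_iff]; tauto
    rw [e]; exact this
  by_cases h3 : Disjoint b.support (a.support ∪ c.support)
  · have := solv_central a c b (comm_of a c b h3).1 (comm_of a c b h3).2 (pair a c hA hC)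
    have e : ({a, b, c} : Set (Perm (Fin n))) = {a, c, b} := by
      ext x; simp only [Set.mem_insert_iff, Set.mem_singleton_iff]; tauto
    rw [e]; exact this
  apply solv_closure _ (a.support ∪ b.support ∪ c.support)
  · rintro s (rfl | rfl | rfl)
    · exact Finset.subset_union_left.trans Finset.subset_union_left
    · exact Finset.subset_union_right.trans Finset.subset_union_left
    · exact Finset.subset_union_right
  · by_cases hab : Disjoint a.support b.support
    · have hac : ¬ Disjoint a.support c.support := by
        intro h; apply h2; rw [Finset.disjoint_union_right]; exact ⟨hab, h⟩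
      have e1 := card_union_lt _ _ hac
      have e2 := card_union_lt _ _ h3
      have e3 : a.support ∪ b.support ∪ c.support = b.support ∪ (a.support ∪ c.support) := by
        ext x; simp only [Finset.mem_union]; tauto
      rw [e3]
      omega
    · have e1 := card_union_lt _ _ hab
      have e2 := card_union_lt _ _ h1
      rw [Finset.union_comm]
      omega

end Cfsg.Agent.S4337
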