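import Cfsg.Statements.S1229
import Cfsg.Agent.Lib.Helper26ElemCentB

set_option autoImplicit false
open Cfsg

namespace Cfsg.Agent.S1229

open Cfsg.Agent.Lib.Helper26StrEmb Cfsg.Agent.Lib.Helper26ElemCent Cfsg.Agent.Lib.Helper26ElemCentB

theorem D_trans {G : Type*} [Group G] [Finite G] (hC : ElemCent G) (T : Sylow 2 G)
    (hnc : ¬ IsCyclic (T : Subgroup G)) (hnn : ¬ (T : Subgroup G).Normal)
    {x y z z' : G ⧸ NT T} (hxy : x ≠ y) (hzx : z ≠ x) (hzy : z ≠ y) (hz'x : z' ≠ x) (hz'y : z' ≠ y) :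
    ∃ d : G, d • x = x ∧ d • y = y ∧ d • z = z' := by
  have hH := stronglyEmbedded_normalizer hC T hnc hnn
  obtain ⟨t, htx, ht2, hty⟩ := T_trans hC T hnc hnn hxy.symm hzx
  obtain ⟨t', ht'x, ht'2, ht'y⟩ := T_trans hC T hnc hnn hxy.symm hz'x
  have ht1 : t ≠ 1 := by
    rintro rfl
    rw [one_smul] at hty
    exact hzy hty.symm
  have ht'1 : t' ≠ 1 := by
    rintro rfl
    rw [one_smul] at ht'y
    exact hz'y ht'y.symm
  obtain ⟨u, hu, hux, _⟩ := exists_swap' hH hxy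
  obtain ⟨w, _, h1, h2, h3⟩ := trans_invol hH hxy hu hux (orderOf_eq_two_of ht2 ht1) htx
    (orderOf_eq_two_of ht'2 ht'1) ht'x
  refine ⟨w * u, h1, h2, ?_⟩
  rw [← hty, ← ht'y, ← h3]
  have : (w * u * t * (w * u)⁻¹) • y = (w * u * t * (w * u)⁻¹) • ((w * u) • y) := by rw [h2]
  rw [this, ← mul_smul, ← mul_smul]
  congr 1
  group

/-- Let G be a finite group with a Sylow 2-subgroup T that is neither cyclic nor normal, such that the centralizer of every involution is an elementary abelian 2-group; put H = N_G(T) and X = G/H. Then G is triply transitive on X, an element fixing three distinct points of X is the identity, and T acts regularly on X minus the point H. -/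
theorem result {G : Type*} [Group G] [Finite G] (T : Sylow 2 G) (hnc : ¬ IsCyclic (T : Subgroup G)) (hnn : ¬ (T : Subgroup G).Normal) (hC : ∀ t : G, orderOf t = 2 → IsMulCommutative (Subgroup.centralizer ({t} : Set G)) ∧ ∀ c ∈ Subgroup.centralizer ({t} : Set G), c ^ 2 = 1) : (∀ x₁ x₂ x₃ y₁ y₂ y₃ : G ⧸ Subgroup.normalizer ((T : Subgroup G) : Set G), x₁ ≠ x₂ → x₁ ≠ x₃ → x₂ ≠ x₃ → y₁ ≠ y₂ → y₁ ≠ y₃ → y₂ ≠ y₃ → ∃ g : G, g • x₁ = y₁ ∧ g • x₂ = y₂ ∧ g • x₃ = y₃) ∧ (∀ g : G, ∀ x₁ x₂ x₃ : G ⧸ Subgroup.normalizer ((T : Subgroup G) : Set G), x₁ ≠ x₂ → x₁ ≠ x₃ → x₂ ≠ x₃ → g • x₁ = x₁ → g • x₂ = x₂ → g • x₃ = x₃ → g = 1) ∧ (∀ x y : G ⧸ Subgroup.normalizer ((T : Subgroup G) : Set G), x ≠ QuotientGroup.mk 1 → y ≠ QuotientGroup.mk 1 → ∃! t : G, t ∈ T ∧ t • x = y) := by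
  have hC' : ElemCent G := hC
  have hH := stronglyEmbedded_normalizer hC' T hnc hnn
  refine ⟨?_, ?_, ?_⟩
  · intro x₁ x₂ x₃ y₁ y₂ y₃ hx12 hx13 hx23 hy12 hy13 hy23
    obtain ⟨g₁, hg₁⟩ := MulAction.exists_smul_eq G x₁ y₁
    have h2 : g₁ • x₂ ≠ y₁ := by
      rw [← hg₁]
      intro h
      exact hx12 (smul_left_cancel _ h).symm
    obtain ⟨t, hty, _, htx⟩ := T_trans hC' T hnc hnn h2 hy12.symm
    have h3 : (t * g₁) • x₃ ≠ y₁ := by
      intro h
      have : (t * g₁) • x₁ = y₁ := by rw [mul_smul, hg₁, hty]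
      rw [← this] at h
      exact hx13 (smul_left_cancel _ h).symm
    have h4 : (t * g₁) • x₃ ≠ y₂ := by
      intro h
      have : (t * g₁) • x₂ = y₂ := by rw [mul_smul, htx]
      rw [← this] at h
      exact hx23 (smul_left_cancel _ h).symm
    obtain ⟨d, hd1, hd2, hd3⟩ := D_trans hC' T hnc hnn hy12 h3 h4 hy13.symm hy23.symm
    refine ⟨d * (t * g₁), ?_, ?_, ?_⟩
    · rw [mul_smul, mul_smul, hg₁, hty, hd1]
    · rw [mul_smul, mul_smul, htx, hd2]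
    · rw [mul_smul, hd3]
  · intro g x₁ x₂ x₃ h12 h13 h23 h1 h2 h3
    exact three_fixed hC' T hnc hnn h12 h13 h23 h1 h2 h3
  · intro x y hx hy
    obtain ⟨t, ht0, ht2, htx⟩ := T_trans hC' T hnc hnn hx hy
    have htT : t ∈ (T : Subgroup G) := by
      have := (inT_iff hC' T 1 t).1 ⟨ht0, ht2⟩
      simpa using this
    refine ⟨t, ⟨htT, htx⟩, ?_⟩
    rintro t' ⟨ht'T, ht'x⟩
    have ht'T' : t' ∈ (T : Subgroup G) := ht'T
    have hm : t⁻¹ * t' ∈ (T : Subgroup G) := mul_mem (inv_mem htT) ht'T'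
    have h5 := (inT_iff hC' T 1 (t⁻¹ * t')).2 (by simpa using hm)
    have h6 : (t⁻¹ * t') • x = x := by
      rw [mul_smul, ht'x, inv_smul_eq_iff, htx]
    have h7 := free hH h5.1 h6 hx.symm h5.2
    rw [inv_mul_eq_one] at h7
    exact h7.symm

end Cfsg.Agent.S1229
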