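import Cfsg.Statements.S1230
import Cfsg.Agent.Lib.Helper26Sh3
import Cfsg.Agent.S1229

set_option autoImplicit false
open Cfsg

namespace Cfsg.Agent.S1230



/-- Let G be a finite group with a Sylow 2-subgroup T that is neither cyclic nor normal, such that the centralizer of every involution is an elementary abelian 2-group. Then G ≅ PSL(2,F) for a finite field F with |F| = |T|. -/
theorem result {G : Type*} [Group G] [Finite G] (T : Sylow 2 G) (hnc : ¬ IsCyclic (T : Subgroup G)) (hnn : ¬ (T : Subgroup G).Normal) (hC : ∀ t : G, orderOf t = 2 → IsMulCommutative (Subgroup.centralizer ({t} : Set G)) ∧ ∀ c ∈ Subgroup.centralizer ({t} : Set G), c ^ 2 = 1) : ∃ (F : Type) (_ : Field F) (_ : Fintype F), Fintype.card F = Nat.card T ∧ Nonempty (G ≃* Matrix.ProjectiveSpecialLinearGroup (Fin 2) F) := by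
  obtain ⟨h1, h2, h3⟩ := Cfsg.Agent.S1229.result T hnc hnn hC
  have h : Cfsg.Agent.Lib.Helper26Sh3.Sharp3 G
      (G ⧸ Subgroup.normalizer ((T : Subgroup G) : Set G)) := ⟨h1, h2⟩
  -- the number of cosets
  have hne : ∃ x : G ⧸ Subgroup.normalizer ((T : Subgroup G) : Set G), x ≠ QuotientGroup.mk 1 := by
    by_contra hcon
    push Not at hcon
    apply hnn
    have htop : Subgroup.normalizer ((T : Subgroup G) : Set G) = ⊤ := by
      rw [eq_top_iff]
      intro g _
      have := hcon (QuotientGroup.mk g)
      rw [QuotientGroup.eq] at this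
      simpa using this
    exact Subgroup.normalizer_eq_top_iff.1 htop
  obtain ⟨x₀, hx₀⟩ := hne
  have hcard : Nat.card (G ⧸ Subgroup.normalizer ((T : Subgroup G) : Set G)) = Nat.card T + 1 := by
    rw [← Finite.card_option]
    symm
    apply Nat.card_congr
    refine Equiv.ofBijective (fun o : Option T => o.elim (QuotientGroup.mk 1) (fun t => (t : G) • x₀))
      ⟨?_, ?_⟩
    · have hT1 : ∀ t : T, (t : G) • x₀ ≠ QuotientGroup.mk 1 := by
        intro t ht
        apply hx₀
        have h4 : (t : G) • (QuotientGroup.mk 1 : G ⧸ Subgroup.normalizer ((T : Subgroup G) : Set G))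
            = QuotientGroup.mk 1 := by
          rw [MulAction.Quotient.smul_mk, QuotientGroup.eq]
          simpa using Subgroup.le_normalizer t.2
        rw [← h4] at ht
        exact smul_left_cancel _ ht
      intro o o' hoo
      cases o with
      | none =>
        cases o' with
        | none => rfl
        | some t' => exact absurd hoo.symm (hT1 t')
      | some t =>
        cases o' with
        | none => exact absurd hoo (hT1 t)
        | some t' =>
          obtain ⟨t₀, -, huniq⟩ := h3 x₀ ((t' : G) • x₀) hx₀ (hT1 t')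
          have e1 := huniq t ⟨t.2, hoo⟩
          have e2 := huniq t' ⟨t'.2, rfl⟩
          rw [Subtype.ext (e1.trans e2.symm)]
    · intro y
      by_cases hy : y = QuotientGroup.mk 1
      · exact ⟨none, hy.symm⟩
      · obtain ⟨t, ⟨ht, hty⟩, -⟩ := h3 x₀ y hx₀ hy
        exact ⟨some ⟨t, ht⟩, hty⟩
  obtain ⟨k, hk⟩ := T.2.exists_card_eq
  have hk0 : k ≠ 0 := by
    rintro rfl
    apply hnc
    rw [pow_zero] at hk
    have : Subsingleton (T : Subgroup G) := (Nat.card_eq_one_iff_unique.1 hk).1
    infer_instance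
  have h2k : 2 ≤ 2 ^ k := by
    calc 2 = 2 ^ 1 := (pow_one 2).symm
      _ ≤ 2 ^ k := Nat.pow_le_pow_right (by norm_num) (by omega)
  have hk' : Nat.card T = 2 ^ k := hk
  obtain ⟨a, F, iF, iFt, -, hca, hF, -, hPSL, -⟩ := h.main_odd
    (by rw [hcard, hk']; exact (Nat.even_pow.2 ⟨even_two, hk0⟩).add_one) (by omega)
  refine ⟨F, iF, iFt, ?_, hPSL⟩
  rw [hF]
  omega

end Cfsg.Agent.S1230
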