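import Cfsg.Statements.S0741
import Mathlib

set_option autoImplicit false
open Cfsg

namespace Cfsg.Agent.S0741

open MulAction

/-- If the two-point stabilisers of a finite Zassenhaus group of degree `n + 1` have even order `d`, then `2d ≥ n - 1`. -/
theorem result {G Ω : Type*} [Group G] [Finite G] [MulAction G Ω] [Fintype Ω] (hZ : Cfsg.IsZassenhausGroup G Ω) {a b : Ω} (hab : a ≠ b) (heven : Even (Nat.card ↥(MulAction.stabilizer G a ⊓ MulAction.stabilizer G b))) : Fintype.card Ω - 2 ≤ 2 * Nat.card ↥(MulAction.stabilizer G a ⊓ MulAction.stabilizer G b) := by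
  classical
  have : Fintype G := Fintype.ofFinite G
  obtain ⟨hf, h2, h3, -, -⟩ := hZ
  rw [is_two_pretransitive_iff] at h2
  set H := stabilizer G a ⊓ stabilizer G b with hH
  have hmemH : ∀ g : G, g ∈ H ↔ g • a = a ∧ g • b = b := by
    intro g
    rw [hH, Subgroup.mem_inf, mem_stabilizer_iff, mem_stabilizer_iff]
  have : Fact (Nat.Prime 2) := ⟨Nat.prime_two⟩
  obtain ⟨z', hz'⟩ := exists_prime_orderOf_dvd_card' (G := ↥H) 2 heven.two_dvd
  rw [← Subgroup.orderOf_coe] at hz'
  obtain ⟨z, hzH, hz⟩ : ∃ z : G, z ∈ H ∧ orderOf z = 2 := ⟨z', z'.2, hz'⟩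
  have hz1 : z ≠ 1 := by
    intro h
    rw [h, orderOf_one] at hz
    omega
  have hzz : ∀ x : Ω, z • z • x = x := by
    intro x
    rw [← mul_smul, ← sq, ← hz, pow_orderOf_eq_one, one_smul]
  have hza : z • a = a := ((hmemH z).1 hzH).1
  have hzb : z • b = b := ((hmemH z).1 hzH).2
  have hfixz : ∀ x : Ω, z • x = x → x = a ∨ x = b := by
    intro x hx
    by_contra hcon
    push Not at hcon
    exact hz1 (h3 z a b x hab (Ne.symm hcon.2) (Ne.symm hcon.1) hza hzb hx)
  set Hf : Finset G := Finset.univ.filter (fun g => g ∈ H) with hHf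
  set d := Nat.card H with hd
  have hHfc : Hf.card = d := by
    rw [hd, Nat.card_eq_fintype_card, Fintype.card_subtype]
  have hdpos : 0 < d := Nat.card_pos
  set S : Finset G := Finset.univ.filter (fun g => g • a = b ∧ g • b = a) with hS
  set P : Finset G := Finset.univ.filter (fun g => g * z * g⁻¹ ∈ S) with hP
  set M : Finset Ω := Finset.univ.filter (fun c => z • c ≠ c) with hM
  have hmemS : ∀ g : G, g ∈ S ↔ g • a = b ∧ g • b = a := by
    intro g; rw [hS, Finset.mem_filter]; simp
  have hmemHf : ∀ g : G, g ∈ Hf ↔ g • a = a ∧ g • b = b := by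
    intro g; rw [hHf, Finset.mem_filter, hmemH]; simp
  -- (1)
  have c1 : S.card ≤ d := by
    rcases S.eq_empty_or_nonempty with h | ⟨s₀, hs₀⟩
    · rw [h]; simp
    · rw [← hHfc]
      rw [hmemS] at hs₀
      apply Finset.card_le_card_of_injOn (fun g => s₀⁻¹ * g)
      · intro g hg
        have hg' := (hmemS g).1 hg
        show s₀⁻¹ * g ∈ Hf
        rw [hmemHf, mul_smul, mul_smul, hg'.1, hg'.2]
        constructor
        · rw [inv_smul_eq_iff, hs₀.1]
        · rw [inv_smul_eq_iff, hs₀.2]
      · intro g _ g' _ h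
        exact mul_left_cancel h
  -- (2)
  have c2 : Fintype.card Ω - 2 ≤ M.card := by
    have h1 := Finset.card_filter_add_card_filter_not (s := (Finset.univ : Finset Ω))
      (fun c => z • c = c)
    have h4 : (Finset.univ.filter (fun c : Ω => z • c = c)).card ≤ 2 := by
      have hsub : Finset.univ.filter (fun c : Ω => z • c = c) ⊆ {a, b} := by
        intro x hx
        rw [Finset.mem_filter] at hx
        rcases hfixz x hx.2 with h | h <;> simp [h]
      exact (Finset.card_le_card hsub).trans Finset.card_le_two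
    rw [Finset.card_univ] at h1
    have h5 : M.card = (Finset.univ.filter (fun c : Ω => ¬ z • c = c)).card := rfl
    omega
  -- (3)
  have hγ : ∀ c : Ω, ∃ g : G, z • c ≠ c → g • c = a ∧ g • (z • c) = b := by
    intro c
    by_cases hc : z • c = c
    · exact ⟨1, fun h => absurd hc h⟩
    · obtain ⟨g, hg⟩ := h2 (Ne.symm hc) hab
      exact ⟨g, fun _ => hg⟩
  choose γ hγ using hγ
  have c3 : M.card * d ≤ P.card := by
    rw [← hHfc, ← Finset.card_product]
    apply Finset.card_le_card_of_injOn (fun x => x.2 * γ x.1)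
    · rintro ⟨c, h⟩ hx
      rw [Finset.mem_coe, Finset.mem_product] at hx
      have hc : z • c ≠ c := by
        have := hx.1
        rw [hM, Finset.mem_filter] at this
        exact this.2
      have hh := (hmemHf h).1 hx.2
      obtain ⟨g1, g2⟩ := hγ c hc
      show h * γ c ∈ P
      rw [hP, Finset.mem_filter, hmemS]
      refine ⟨Finset.mem_univ _, ?_, ?_⟩
      · have e1 : (h * γ c)⁻¹ • a = c := by
          rw [inv_smul_eq_iff, mul_smul, g1, hh.1]
        rw [mul_smul, e1, mul_smul, mul_smul, g2, hh.2]
      · have e1 : (h * γ c)⁻¹ • b = z • c := by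
          rw [inv_smul_eq_iff, mul_smul, g2, hh.2]
        rw [mul_smul, e1, mul_smul, mul_smul, hzz, g1, hh.1]
    · rintro ⟨c, h⟩ hx ⟨c', h'⟩ hx' heq
      rw [Finset.mem_coe, Finset.mem_product] at hx hx'
      have hc : z • c ≠ c := by
        have := hx.1
        rw [hM, Finset.mem_filter] at this
        exact this.2
      have hc' : z • c' ≠ c' := by
        have := hx'.1
        rw [hM, Finset.mem_filter] at this
        exact this.2
      have hh := (hmemHf h).1 hx.2
      have hh' := (hmemHf h').1 hx'.2
      have heq' : h * γ c = h' * γ c' := heq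
      have e1 : (h * γ c)⁻¹ • a = c := by
        rw [inv_smul_eq_iff, mul_smul, (hγ c hc).1, hh.1]
      have e2 : (h' * γ c')⁻¹ • a = c' := by
        rw [inv_smul_eq_iff, mul_smul, (hγ c' hc').1, hh'.1]
      have hcc : c = c' := by rw [← e1, ← e2, heq']
      subst hcc
      have := mul_right_cancel heq'
      rw [this]
  -- (4)
  have c4 : P.card ≤ (d + d) * S.card := by
    apply Finset.card_le_mul_card_image_of_maps_to (f := fun g => g * z * g⁻¹)
    · intro g hg
      rw [hP, Finset.mem_filter] at hg
      exact hg.2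
    · intro t _
      rcases (P.filter (fun g => g * z * g⁻¹ = t)).eq_empty_or_nonempty with h | ⟨g₀, hg₀⟩
      · rw [h]; simp
      · rw [Finset.mem_filter] at hg₀
        have hle : (Hf ∪ S).card ≤ d + d := by
          have := Finset.card_union_le Hf S
          omega
        refine le_trans ?_ hle
        apply Finset.card_le_card_of_injOn (fun g => g₀⁻¹ * g)
        · intro g hg
          rw [Finset.mem_coe, Finset.mem_filter] at hg
          have hcomm : (g₀⁻¹ * g) * z = z * (g₀⁻¹ * g) := by
            have h1 : g * z * g⁻¹ = g₀ * z * g₀⁻¹ := by rw [hg.2, hg₀.2]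
            have h2 : g * z = g₀ * z * g₀⁻¹ * g := by
              rw [← h1]; group
            calc (g₀⁻¹ * g) * z = g₀⁻¹ * (g * z) := by group
              _ = g₀⁻¹ * (g₀ * z * g₀⁻¹ * g) := by rw [h2]
              _ = z * (g₀⁻¹ * g) := by group
          set w := g₀⁻¹ * g with hw
          have hwa : z • (w • a) = w • a := by
            rw [← mul_smul, ← hcomm, mul_smul, hza]
          have hwb : z • (w • b) = w • b := by
            rw [← mul_smul, ← hcomm, mul_smul, hzb]
          have hne : w • a ≠ w • b := fun h => hab (smul_left_cancel w h)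
          show w ∈ Hf ∪ S
          rw [Finset.mem_union, hmemHf, hmemS]
          rcases hfixz _ hwa with h1 | h1 <;> rcases hfixz _ hwb with h2 | h2
          · exact absurd (h1.trans h2.symm) hne
          · left; exact ⟨h1, h2⟩
          · right; exact ⟨h1, h2⟩
          · exact absurd (h1.trans h2.symm) hne
        · intro g _ g' _ h
          exact mul_left_cancel h
  have c5 : (Fintype.card Ω - 2) * d ≤ (2 * d) * d := by
    calc (Fintype.card Ω - 2) * d ≤ M.card * d := Nat.mul_le_mul_right _ c2
      _ ≤ P.card := c3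
      _ ≤ (d + d) * S.card := c4
      _ ≤ (d + d) * d := Nat.mul_le_mul_left _ c1
      _ = (2 * d) * d := by ring
  exact Nat.le_of_mul_le_mul_right c5 hdpos

end Cfsg.Agent.S0741
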