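import Cfsg.Statements.S0680
import Mathlib

set_option autoImplicit false
open Cfsg

namespace Cfsg.Agent.S0680

open MulAction

theorem arith {a b m : ℕ} (hm : 1 ≤ m) (h : a * b = (m + 1) * m) (ha : a ≤ m) (hb : b ≤ m + 1) :
    a = m ∧ b = m + 1 := by
  constructor
  · by_contra hne
    have ha' : a + 1 ≤ m := by omega
    have : a * b ≤ (m - 1) * (m + 1) := Nat.mul_le_mul (by omega) hb
    obtain ⟨k, rfl⟩ : ∃ k, m = k + 1 := ⟨m - 1, by omega⟩
    simp only [Nat.add_sub_cancel] at this
    nlinarith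
  · by_contra hne
    have hb' : b ≤ m := by omega
    have : a * b ≤ m * m := Nat.mul_le_mul ha hb'
    nlinarith

/-- The core structure theorem for a sharply doubly transitive action. -/
theorem core {G α : Type*} [Group G] [MulAction G α] [Fintype α] [DecidableEq α]
    (h2t : IsMultiplyPretransitive G α 2)
    (sharp : ∀ (g : G) (a b : α), a ≠ b → g • a = a → g • b = b → g = 1)
    (h2 : 2 ≤ Fintype.card α) :
    ∃ (p j : ℕ) (C : Subgroup G), p.Prime ∧ 1 ≤ j ∧ Fintype.card α = p ^ j ∧
      Nat.card G = p ^ j * (p ^ j - 1) ∧ C.Normal ∧ (∀ g, g ∈ C ↔ g = 1 ∨ ∀ a : α, g • a ≠ a) ∧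
      (∀ x ∈ C, ∀ y ∈ C, x * y = y * x) ∧ (∀ x ∈ C, x ^ p = 1) ∧ Nat.card C = p ^ j := by
  classical
  obtain ⟨m, hm⟩ : ∃ m, Fintype.card α = m + 1 := ⟨Fintype.card α - 1, by omega⟩
  have hm1 : 1 ≤ m := by omega
  have htr : IsPretransitive G α := isPretransitive_of_is_two_pretransitive
  obtain ⟨a₀, b₀, hab₀⟩ : ∃ a b : α, a ≠ b := by
    have : 1 < Fintype.card α := by omega
    exact Fintype.exists_pair_of_one_lt_card this
  -- the order of G
  have eG : G ≃ (Fin 2 ↪ α) := Equiv.ofBijective (fun g => g • (Function.Embedding.embFinTwo hab₀)) ⟨by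
      intro g g' h
      have h0 : g • a₀ = g' • a₀ := congrArg (fun f : Fin 2 ↪ α => f 0) h
      have h1 : g • b₀ = g' • b₀ := congrArg (fun f : Fin 2 ↪ α => f 1) h
      have := sharp (g'⁻¹ * g) a₀ b₀ hab₀ (by rw [mul_smul, h0, inv_smul_smul])
        (by rw [mul_smul, h1, inv_smul_smul])
      exact (inv_mul_eq_one.mp this).symm, by
      intro y
      exact h2t.exists_smul_eq _ y⟩
  have hfin : Finite G := Finite.of_equiv _ eG.symm
  have : Fintype G := Fintype.ofFinite G
  have hG : Nat.card G = (m + 1) * m := by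
    rw [Nat.card_congr eG, Nat.card_eq_fintype_card, Fintype.card_embedding_eq, hm, Fintype.card_fin]
    simp [Nat.descFactorial, mul_comm]
  -- point stabilisers
  have hstab : ∀ a : α, Nat.card (stabilizer G a) = m := by
    intro a
    have h1 := (stabilizer G a).card_mul_index
    rw [index_stabilizer_of_transitive, Nat.card_eq_fintype_card (α := α), hm, hG, mul_comm] at h1
    exact Nat.eq_of_mul_eq_mul_left (by omega) h1
  -- derangements
  let D : Finset G := Finset.univ.filter (fun g => ∀ a : α, g • a ≠ a)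
  have hD : D.card ≤ m := by
    have hB := sum_card_fixedBy_eq_card_orbits_mul_card_group G α
    have hΩ : Fintype.card (Quotient (orbitRel G α)) = 1 := by
      apply le_antisymm
      · rw [Fintype.card_le_one_iff_subsingleton]
        exact (pretransitive_iff_subsingleton_quotient G α).mp htr
      · exact Fintype.card_pos_iff.mpr ⟨Quotient.mk'' a₀⟩
    rw [hΩ, one_mul] at hB
    have hpt : ∀ g : G, Fintype.card (fixedBy α g) + (if g ∈ D then 1 else 0) ≤
        1 + (if g = 1 then m else 0) := by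
      intro g
      by_cases hg1 : g = 1
      · have h1 : g ∉ D := by
          simp only [D, Finset.mem_filter, Finset.mem_univ, true_and, not_forall, not_not]
          exact ⟨a₀, by rw [hg1, one_smul]⟩
        have h2 : Fintype.card (fixedBy α g) ≤ m + 1 := hm ▸ Fintype.card_subtype_le _
        rw [if_neg h1, if_pos hg1]
        omega
      · by_cases hgD : g ∈ D
        · have h1 : Fintype.card (fixedBy α g) = 0 := by
            rw [Fintype.card_eq_zero_iff]
            constructor
            rintro ⟨a, ha⟩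
            simp only [D, Finset.mem_filter, Finset.mem_univ, true_and] at hgD
            exact hgD a ha
          simp only [hgD, hg1, if_true, if_false, h1]
          omega
        · have h1 : Fintype.card (fixedBy α g) ≤ 1 := by
            rw [Fintype.card_le_one_iff_subsingleton]
            constructor
            rintro ⟨a, ha⟩ ⟨b, hb⟩
            by_contra hne
            exact hg1 (sharp g a b (fun h => hne (Subtype.ext h)) ha hb)
          simp only [hgD, hg1, if_false]
          omega
    have hsum := Finset.sum_le_sum (fun g (_ : g ∈ (Finset.univ : Finset G)) => hpt g)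
    rw [Finset.sum_add_distrib, Finset.sum_add_distrib, hB] at hsum
    simp only [Finset.sum_ite_mem, Finset.univ_inter, Finset.sum_const, smul_eq_mul, mul_one,
      Finset.sum_ite_eq', Finset.mem_univ, if_true, Finset.card_univ] at hsum
    omega
  have memD : ∀ g : G, g ∈ D ↔ ∀ a : α, g • a ≠ a := by
    intro g
    simp [D]
  -- a prime
  obtain ⟨p, hp, hpd⟩ := Nat.exists_prime_and_dvd (n := m + 1) (by omega)
  have hpF : Fact p.Prime := ⟨hp⟩
  obtain ⟨x, hx⟩ := exists_prime_orderOf_dvd_card' (G := G) p (by rw [hG]; exact Dvd.dvd.mul_right hpd m)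
  have hcop : ∀ (y : G) (k : ℕ), y ^ (p ^ k) = 1 → y ≠ 1 → y ∈ D := by
    intro y k hy hy1
    rw [memD]
    intro a ha
    apply hy1
    have h1 : orderOf (⟨y, ha⟩ : stabilizer G a) ∣ m := by
      rw [← hstab a]; exact orderOf_dvd_natCard _
    have h2 : orderOf (⟨y, ha⟩ : stabilizer G a) ∣ p ^ k := by
      rw [orderOf_dvd_iff_pow_eq_one]
      exact Subtype.ext hy
    have h3 : Nat.Coprime (p ^ k) m := by
      apply Nat.Coprime.pow_left
      rw [Nat.Prime.coprime_iff_not_dvd hp]
      intro h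
      have := (Nat.dvd_add_right h).mp hpd
      exact hp.one_lt.ne' (Nat.dvd_one.mp this)
    have h4 : orderOf (⟨y, ha⟩ : stabilizer G a) = 1 := Nat.eq_one_of_dvd_coprimes h3 h2 h1
    rw [orderOf_eq_one_iff] at h4
    exact congrArg Subtype.val h4
  have hx1 : x ≠ 1 := by
    intro h
    rw [h, orderOf_one] at hx
    exact hp.one_lt.ne hx
  have hxp : x ^ p = 1 := by rw [← hx]; exact pow_orderOf_eq_one x
  have hxD : x ∈ D := hcop x 1 (by rw [pow_one]; exact hxp) hx1
  have conjD : ∀ (g y : G), y ∈ D → g * y * g⁻¹ ∈ D := by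
    intro g y hy
    rw [memD] at hy ⊢
    intro a ha
    apply hy (g⁻¹ • a)
    rw [mul_smul, mul_smul, ← eq_inv_smul_iff] at ha
    exact ha
  -- the centraliser
  let C : Subgroup G := Subgroup.centralizer {x}
  have hCD : (C : Set G) ⊆ insert 1 (D : Set G) := by
    intro y hy
    by_cases hy1 : y = 1
    · exact Or.inl hy1
    · right
      rw [Finset.mem_coe, memD]
      intro a ha
      apply hy1
      have hxa : x • a ≠ a := (memD x).mp hxD a
      have hc : x * y = y * x := Subgroup.mem_centralizer_iff.mp hy x rfl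
      apply sharp y a (x • a) hxa.symm ha
      rw [← mul_smul, ← hc, mul_smul, ha]
  have hOD : orbit (ConjAct G) x ⊆ (D : Set G) := by
    rintro _ ⟨g, rfl⟩
    exact conjD _ _ hxD
  have hCnc : Nat.card C = (C : Set G).ncard := by
    rw [← SetLike.coe_sort_coe, Nat.card_coe_set_eq]
  have hCcard : Nat.card C ≤ m + 1 := by
    rw [hCnc]
    calc (C : Set G).ncard ≤ (insert 1 (D : Set G)).ncard := Set.ncard_le_ncard hCD (Set.toFinite _)
      _ ≤ (D : Set G).ncard + 1 := Set.ncard_insert_le _ _
      _ ≤ m + 1 := by rw [Set.ncard_coe_finset]; omega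
  have hOcard : Nat.card (orbit (ConjAct G) x) ≤ m := by
    rw [Nat.card_coe_set_eq]
    calc (orbit (ConjAct G) x).ncard ≤ (D : Set G).ncard := Set.ncard_le_ncard hOD (Set.toFinite _)
      _ ≤ m := by rw [Set.ncard_coe_finset]; exact hD
  have hprod : Nat.card (orbit (ConjAct G) x) * Nat.card C = (m + 1) * m := by
    rw [Subgroup.nat_card_centralizer_nat_card_stabilizer, ← Nat.card_prod,
      Nat.card_congr (orbitProdStabilizerEquivGroup (ConjAct G) x), ← hG]
    rfl
  obtain ⟨hO, hC⟩ := arith hm1 hprod hOcard hCcard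
  have hCeq : (C : Set G) = insert 1 (D : Set G) := by
    apply Set.eq_of_subset_of_ncard_le hCD _ (Set.toFinite _)
    rw [← hCnc, hC]
    calc (insert 1 (D : Set G)).ncard ≤ (D : Set G).ncard + 1 := Set.ncard_insert_le _ _
      _ ≤ m + 1 := by rw [Set.ncard_coe_finset]; omega
  have hOeq : orbit (ConjAct G) x = (D : Set G) := by
    apply Set.eq_of_subset_of_ncard_le hOD _ (Set.toFinite _)
    rw [Nat.card_coe_set_eq] at hO
    rw [hO, Set.ncard_coe_finset]; exact hD
  have memC : ∀ g, g ∈ C ↔ g = 1 ∨ ∀ a : α, g • a ≠ a := by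
    intro g
    rw [← SetLike.mem_coe, hCeq, Set.mem_insert_iff, Finset.mem_coe, memD]
  have hCn : C.Normal := by
    constructor
    intro y hy g
    rw [memC] at hy ⊢
    rcases hy with rfl | hy
    · left; simp
    · right
      exact (memD _).mp (conjD g y ((memD y).mpr hy))
  have hconj : ∀ y ∈ C, y = 1 ∨ ∃ g : G, y = g * x * g⁻¹ := by
    intro y hy
    rcases (memC y).mp hy with h | h
    · exact Or.inl h
    · right
      have : y ∈ orbit (ConjAct G) x := by
        rw [hOeq, Finset.mem_coe, memD]; exact h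
      obtain ⟨g, hg⟩ := this
      exact ⟨ConjAct.ofConjAct g, hg.symm⟩
  have hexp : ∀ y ∈ C, y ^ p = 1 := by
    intro y hy
    rcases hconj y hy with rfl | ⟨g, rfl⟩
    · exact one_pow _
    · rw [conj_pow, hxp, mul_one, mul_inv_cancel]
  have hcomm : ∀ y ∈ C, ∀ z ∈ C, y * z = z * y := by
    intro y hy z hz
    rcases hconj y hy with rfl | ⟨g, rfl⟩
    · simp
    · have h1 : g⁻¹ * z * g⁻¹⁻¹ ∈ C := hCn.conj_mem z hz g⁻¹
      have h2 : x * (g⁻¹ * z * g⁻¹⁻¹) = (g⁻¹ * z * g⁻¹⁻¹) * x := Subgroup.mem_centralizer_iff.mp h1 x rfl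
      rw [inv_inv] at h2
      calc g * x * g⁻¹ * z = g * (x * (g⁻¹ * z * g)) * g⁻¹ := by group
        _ = g * ((g⁻¹ * z * g) * x) * g⁻¹ := by rw [h2]
        _ = z * (g * x * g⁻¹) := by group
  have hpg : IsPGroup p C := by
    intro y
    refine ⟨1, ?_⟩
    rw [pow_one]
    exact Subtype.ext (hexp y y.2)
  obtain ⟨j, hj⟩ := IsPGroup.iff_card.mp hpg
  have hmj : m + 1 = p ^ j := by rw [← hC, hj]
  refine ⟨p, j, C, hp, ?_, by rw [hm, hmj], ?_, hCn, memC, hcomm, hexp, hj⟩
  · by_contra h
    have : j = 0 := by omega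
    rw [this, pow_zero] at hmj
    omega
  · rw [hG, ← hmj]; simp

/-- A finite sharply doubly transitive permutation group has degree a prime power `p ^ j`; a Sylow `p`-subgroup is normal, elementary abelian and regular, and consists of the identity together with the elements without fixed points. (Frobenius' Theorem is not needed.) -/
theorem result {α : Type*} [Fintype α] [DecidableEq α] (G : Subgroup (Equiv.Perm α)) [MulAction.IsMultiplyPretransitive G α 2] (hsharp : ∀ x : Fin 2 ↪ α, MulAction.stabilizer G x = ⊥) (h2 : 2 ≤ Fintype.card α) : ∃ p j : ℕ, p.Prime ∧ 1 ≤ j ∧ Fintype.card α = p ^ j ∧ ∀ (hp : Fact p.Prime) (P : Sylow p G), (P : Subgroup G).Normal ∧ IsMulCommutative (P : Subgroup G) ∧ (∀ x ∈ (P : Subgroup G), x ^ p = 1) ∧ MulAction.IsPretransitive (P : Subgroup G) α ∧ (∀ a : α, MulAction.stabilizer (P : Subgroup G) a = ⊥) ∧ ∀ g : G, g ∈ (P : Subgroup G) ↔ g = 1 ∨ ∀ a : α, g • a ≠ a := by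
  have sharp : ∀ (g : G) (a b : α), a ≠ b → g • a = a → g • b = b → g = 1 := by
    intro g a b hab ha hb
    have : g ∈ stabilizer G (Function.Embedding.embFinTwo hab) := by
      rw [mem_stabilizer_iff]
      ext i
      fin_cases i
      · exact ha
      · exact hb
    rw [hsharp, Subgroup.mem_bot] at this
    exact this
  obtain ⟨p, j, C, hp, hj, hcard, hG, hCn, memC, hcomm, hexp, hCcard⟩ := core inferInstance sharp h2
  refine ⟨p, j, hp, hj, hcard, ?_⟩
  intro hpF P
  have hpg : IsPGroup p C := by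
    intro y
    refine ⟨1, ?_⟩
    rw [pow_one]
    exact Subtype.ext (hexp y y.2)
  have hPC : (P : Subgroup G) = C := by
    symm
    apply Subgroup.eq_of_le_of_card_ge (IsPGroup.le_sylow_of_normal hpg P)
    obtain ⟨k, hk⟩ := IsPGroup.iff_card.mp P.isPGroup'
    have h1 : p ^ k ∣ p ^ j * (p ^ j - 1) := by
      rw [← hk, ← hG]; exact Subgroup.card_subgroup_dvd_card _
    have h2 : Nat.Coprime (p ^ k) (p ^ j - 1) := by
      apply Nat.Coprime.pow_left
      rw [Nat.Prime.coprime_iff_not_dvd hp]
      intro h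
      have h3 : p ∣ p ^ j := dvd_pow_self p (by omega)
      have h4 : 1 ≤ p ^ j := Nat.one_le_pow _ _ hp.pos
      have h5 : p ∣ p ^ j - (p ^ j - 1) := Nat.dvd_sub h3 h
      have h6 : p ^ j - (p ^ j - 1) = 1 := by omega
      rw [h6] at h5
      exact hp.one_lt.ne' (Nat.dvd_one.mp h5)
    have h3 := Nat.Coprime.dvd_of_dvd_mul_right h2 h1
    rw [hk, hCcard]
    exact Nat.le_of_dvd (pow_pos hp.pos _) h3
  rw [hPC]
  have hst : ∀ a : α, stabilizer C a = ⊥ := by
    intro a
    rw [eq_bot_iff]
    intro y hy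
    rw [Subgroup.mem_bot]
    rcases (memC y).mp y.2 with h | h
    · exact Subtype.ext h
    · exact absurd hy (h a)
  refine ⟨hCn, ⟨⟨fun a b => Subtype.ext (hcomm a a.2 b b.2)⟩⟩, hexp, ?_, hst, memC⟩
  constructor
  intro a b
  have hbij : Function.Bijective (fun c : C => c • a) := by
    rw [Nat.bijective_iff_injective_and_card]
    refine ⟨?_, by rw [hCcard, Nat.card_eq_fintype_card, hcard]⟩
    intro c c' h
    have h1 : c'⁻¹ * c ∈ stabilizer C a := by
      rw [mem_stabilizer_iff, mul_smul]
      simp only at h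
      rw [h, inv_smul_smul]
    rw [hst, Subgroup.mem_bot] at h1
    exact (inv_mul_eq_one.mp h1).symm
  exact hbij.2 b

end Cfsg.Agent.S0680
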