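import Cfsg.Statements.S0732
import Cfsg.Agent.Lib.Helper75DegP1C
import Cfsg.Agent.Lib.Helper16PglB
import Cfsg.Agent.Lib.Helper16FeitD
import Cfsg.Agent.Lib.Helper6Transport
import Cfsg.Agent.S0680

set_option autoImplicit false
open Cfsg

namespace Cfsg.Agent.S0732

open Cfsg.Agent.Lib.Helper75DegP1 Cfsg.Agent.Lib.Helper61Feit Cfsg.Agent.Lib.Helper61Feit2

/-- A transitive permutation group on `p + 1` points (`p` prime) of order `(p+1) p d` with `d < p` is isomorphic to `PGL(2,p)` with `d = p - 1`, or to `PSL(2,p)` with `2d = p - 1`, or else `p + 1 = 2^q` for a prime `q`, `d = 1` or `d = q`, and the group is permutation-isomorphic to a group of semi-affine maps `x ↦ a φ(x) + b` of the field with `2^q` elements. -/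
theorem result {α : Type*} [Fintype α] [DecidableEq α] {p d : ℕ} (hp : p.Prime) (hα : Fintype.card α = p + 1) (G : Subgroup (Equiv.Perm α)) [MulAction.IsPretransitive G α] (hG : Nat.card G = (p + 1) * p * d) (hd : d < p) : (d = p - 1 ∧ Nonempty (G ≃* Matrix.ProjGenLinGroup (Fin 2) (ZMod p))) ∨ (2 * d = p - 1 ∧ Nonempty (G ≃* Matrix.ProjectiveSpecialLinearGroup (Fin 2) (ZMod p))) ∨ (∃ q : ℕ, q.Prime ∧ p + 1 = 2 ^ q ∧ (d = 1 ∨ d = q) ∧ ∃ e : α ≃ GaloisField 2 q, ∀ g : G, (e.symm.trans (((g : Equiv.Perm α)).trans e)) ∈ Cfsg.semiaffineGroup (GaloisField 2 q)) := by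
  classical
  have : Fact p.Prime := ⟨hp⟩
  have D : TData G α p :=
    ⟨by rw [Nat.card_eq_fintype_card, hα], two_trans hp hα hG hd,
      fun g a b c hab hbc hac => three_point hp hα hG hd g a b c hab hbc hac⟩
  obtain ⟨x, y, hxy⟩ : ∃ x y : α, x ≠ y := by
    have h1 : 1 < Fintype.card α := by rw [hα]; have := hp.pos; omega
    exact Fintype.one_lt_card_iff.1 h1
  have hd0 : 0 < d := by
    rcases Nat.eq_zero_or_pos d with h | h
    · rw [h, mul_zero] at hG
      exact absurd hG (Nat.card_pos).ne'
    · exact h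
  have hcard2 : ∀ a b : α, a ≠ b → Nat.card (stab2 G a b) = d := by
    intro a b hab
    have h1 := card_G D hab
    rw [hG] at h1
    have h2 : 0 < (p + 1) * p := Nat.mul_pos (by omega) hp.pos
    exact (Nat.eq_of_mul_eq_mul_left h2 h1).symm
  obtain ⟨U, hUcard, hUle, hUnorm, hUfree, hUtr⟩ := exists_kernel (G := G) hp hα hG hd x
  by_cases hdp : d + 1 = p
  · -- sharply triply transitive
    left
    refine ⟨by omega, ?_⟩
    obtain ⟨u, hu, hu1⟩ : ∃ u ∈ U, u ≠ 1 := by
      by_contra hc
      push Not at hc
      have h1 : U = ⊥ := (Subgroup.eq_bot_iff_forall _).2 hc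
      rw [h1, Subgroup.card_bot] at hUcard
      exact hp.one_lt.ne hUcard
    have hup : u ^ p = 1 := by
      have h1 : (⟨u, hu⟩ : U) ^ Nat.card U = 1 := pow_card_eq_one'
      rw [hUcard] at h1
      exact congrArg Subtype.val h1
    have hord : orderOf u = p := orderOf_eq_prime hup hu1
    have hpow : ∀ w ∈ U, ∃ k : ℕ, u ^ k = w := by
      intro w hw
      have h1 : (⟨w, hw⟩ : U) ∈ Subgroup.zpowers (⟨u, hu⟩ : U) :=
        mem_zpowers_of_prime_card hUcard (fun h => hu1 (congrArg Subtype.val h))
      rw [← mem_powers_iff_mem_zpowers] at h1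
      obtain ⟨k, hk⟩ := h1
      exact ⟨k, congrArg Subtype.val hk⟩
    have hfaith : ∀ g : G, (∀ z : α, g • z = z) → g = 1 := by
      intro g hg
      apply FaithfulSMul.eq_of_smul_eq_smul (α := α)
      intro z
      rw [hg, one_smul]
    obtain ⟨v, hv1, hv2⟩ := exists_smul_pair D hxy.symm hxy
    apply Cfsg.Agent.Helper16Pgl.pgl_of_sharp3 (G := G) (Ω := α) (p := p) hfaith
      (fun g a b c hab hac hbc => D.three_point g a b c hab hbc hac) hxy.symm u (hUle hu) hup
      ?_ ?_ ?_ ?_ v hv1 hv2
    · intro k hk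
      have h1 := hUfree _ (U.pow_mem hu k) y hxy.symm hk
      rw [← hord]
      exact orderOf_dvd_of_pow_eq_one h1
    · intro z hz
      obtain ⟨w, hw, hwz⟩ := hUtr y z hxy.symm hz
      obtain ⟨k, rfl⟩ := hpow w hw
      exact ⟨k, hwz⟩
    · intro g _ hgx
      obtain ⟨k, hk⟩ := hpow _ (hUnorm g hgx u hu)
      exact ⟨k, hk.symm⟩
    · intro z hzy hzx
      have hcy : u • y ≠ y := fun h => hu1 (hUfree u hu y hxy.symm h)
      have hcx : u • y ≠ x := by
        intro h
        exact hxy.symm (smul_left_cancel u (h.trans (hUle hu).symm))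
      have hfix : ∀ s : stab2 G x y, (s : G) • (u • y) ≠ x ∧ (s : G) • (u • y) ≠ y := by
        intro s
        have hs := mem_stab2.1 s.2
        constructor
        · intro h1
          exact hcx (smul_left_cancel (s : G) (h1.trans hs.1.symm))
        · intro h1
          exact hcy (smul_left_cancel (s : G) (h1.trans hs.2.symm))
      let φ : stab2 G x y → {w : α // w ≠ x ∧ w ≠ y} := fun s => ⟨(s : G) • (u • y), hfix s⟩
      have hinj : Function.Injective φ := by
        intro s t hst
        have h1 : (s : G) • (u • y) = (t : G) • (u • y) := congrArg Subtype.val hst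
        have hs := mem_stab2.1 s.2
        have ht := mem_stab2.1 t.2
        have h2 : (t : G)⁻¹ * (s : G) = 1 := by
          apply D.three_point _ x y (u • y) hxy (Ne.symm hcy) (Ne.symm hcx)
          · rw [mul_smul, hs.1, inv_smul_eq_iff, ht.1]
          · rw [mul_smul, hs.2, inv_smul_eq_iff, ht.2]
          · rw [mul_smul, h1, inv_smul_smul]
        apply Subtype.ext
        exact (inv_mul_eq_one.1 h2).symm
      have hcard : Nat.card {w : α // w ≠ x ∧ w ≠ y} ≤ Nat.card (stab2 G x y) := by
        rw [Nat.card_eq_fintype_card, Fintype.card_subtype]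
        have h1 : Finset.univ.filter (fun w : α => w ≠ x ∧ w ≠ y)
            = (Finset.univ.erase x).erase y := by
          ext w
          simp only [Finset.mem_filter, Finset.mem_univ, true_and, Finset.mem_erase, and_true]
          tauto
        rw [h1, Finset.card_erase_of_mem (Finset.mem_erase.2 ⟨hxy.symm, Finset.mem_univ _⟩),
          Finset.card_erase_of_mem (Finset.mem_univ _), Finset.card_univ, hα, hcard2 x y hxy]
        omega
      obtain ⟨s, hs⟩ := (Function.Injective.bijective_of_nat_card_le hinj hcard).2 ⟨z, hzx, hzy⟩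
      have hs' := mem_stab2.1 s.2
      exact ⟨s, hs'.2, hs'.1, congrArg Subtype.val hs⟩
  · right
    by_cases hreg : ∃ N : Subgroup G, N.Normal ∧ MulAction.IsPretransitive N α ∧
        ∀ a : α, MulAction.stabilizer N a = ⊥
    · right
      obtain ⟨N, hN, hNt, hNr⟩ := hreg
      have hp2 : p ≠ 2 := by
        intro h
        omega
      obtain ⟨q, hq, hpq, hdq, e, he⟩ := semiaffine_of_regular_normal hp hp2 hα hG hd N hN hNt hNr
      exact ⟨q, hq, hpq, hdq, e, fun g => he g⟩
    · left
      have hd1 : d ≠ 1 := by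
        intro h1
        apply hreg
        have h2t := D.two_trans
        obtain ⟨r, j, hr, -, -, hP⟩ := Cfsg.Agent.S0680.result G (by
          intro t
          rw [eq_bot_iff]
          intro g hg
          rw [MulAction.mem_stabilizer_iff] at hg
          have hgi : ∀ i, g • t i = t i := fun i => by
            have := DFunLike.congr_fun hg i
            exact this
          have h01 : t 0 ≠ t 1 := fun h => by simpa using t.injective h
          have h3 : g ∈ stab2 G (t 0) (t 1) := mem_stab2.2 ⟨hgi 0, hgi 1⟩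
          have h4 := hcard2 _ _ h01
          rw [h1] at h4
          rw [Subgroup.card_eq_one.1 h4] at h3
          exact h3) (by rw [hα]; have := hp.pos; omega)
        have hrf : Fact r.Prime := ⟨hr⟩
        obtain ⟨h5, -, -, h6, h7, -⟩ := hP hrf default
        exact ⟨_, h5, h6, h7⟩
      have hZ : Cfsg.IsZassenhausGroup G α := by
        refine ⟨inferInstance, D.two_trans, D.three_point, ?_, ?_⟩
        · have h1 : stab2 G x y ≠ ⊥ := by
            intro h
            have h2 := hcard2 x y hxy
            rw [h, Subgroup.card_bot] at h2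
            exact hd1 h2.symm
          obtain ⟨g, hg, hg1⟩ : ∃ g ∈ stab2 G x y, g ≠ 1 := by
            by_contra hc
            push Not at hc
            exact h1 ((Subgroup.eq_bot_iff_forall _).2 hc)
          have hg' := mem_stab2.1 hg
          exact ⟨g, hg1, x, y, hxy, hg'.1, hg'.2⟩
        · intro N hN hNt
          by_contra hc
          push Not at hc
          exact hreg ⟨N, hN, hNt, hc⟩
      have K : KData G α x p U := by
        refine ⟨hUle, hUcard, ?_⟩
        intro u hu hu1 c hc
        by_contra hcx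
        exact hu1 (hUfree u hu c hcx hc)
      have hUcomm : ∀ a ∈ U, ∀ b ∈ U, a * b = b * a := by
        have hcyc : IsCyclic U := isCyclic_of_prime_card hUcard
        intro a ha b hb
        let _ := IsCyclic.commGroup (α := U)
        exact congrArg Subtype.val (mul_comm (⟨a, ha⟩ : U) ⟨b, hb⟩)
      obtain ⟨h1, K', iK, iKt, hK', -, ⟨e⟩⟩ := Cfsg.Agent.Helper16Feit.psl_of_zass hZ
        (by rw [Nat.card_eq_fintype_card, hα]) hxy K hUcomm (by rw [hcard2 x y hxy]; exact hdp)
      rw [hcard2 x y hxy] at h1
      refine ⟨by omega, ?_⟩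
      obtain ⟨e'⟩ := Cfsg.Agent.Lib.Helper6Transport.nonempty_pslEquiv (n := Fin 2) (F := K')
        (K := ZMod p) (by rw [hK', ZMod.card])
      exact ⟨e.trans e'⟩

end Cfsg.Agent.S0732
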