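import Cfsg.Statements.S4700
import Mathlib
import Cfsg.Agent.Lib.H59BRCore
import Cfsg.Agent.Lib.H59BRRed
import Cfsg.Agent.Lib.H59BRArA
import Cfsg.Agent.Lib.H59BRIso

set_option autoImplicit false
open Cfsg

namespace Cfsg.Agent.S4700



/-- Let G be a finite perfect group and p a prime such that a Sylow p-subgroup of G has order p, and write the number of Sylow p-subgroups as 1 + np. Let H = O_p'(G). Then either p > 3 and G/H is isomorphic to PSL(2, p); or p = 2^m + 1 > 3 and G/H is isomorphic to SL(2, 2^m); or n = (hup + u^2 + u + h)/(u + 1) for some positive integers h and u. -/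
theorem result {G : Type*} [Group G] [Finite G] (hperf : commutator G = ⊤) (p : ℕ) [Fact p.Prime] (P : Sylow p G) (hP : Nat.card P = p) (n : ℕ) (hn : Nat.card (Sylow p G) = 1 + n * p) : (∃ (F : Type) (_ : Field F) (_ : Fintype F), Fintype.card F = p ∧ 3 < p ∧ Nonempty (G ⧸ Cfsg.pPrimeCore p G ≃* Matrix.ProjectiveSpecialLinearGroup (Fin 2) F)) ∨ (∃ (m : ℕ) (F : Type) (_ : Field F) (_ : Fintype F), Fintype.card F = 2 ^ m ∧ p = 2 ^ m + 1 ∧ 3 < p ∧ Nonempty (G ⧸ Cfsg.pPrimeCore p G ≃* Matrix.SpecialLinearGroup (Fin 2) F)) ∨ (∃ h u : ℕ, 0 < h ∧ 0 < u ∧ n * (u + 1) = h * u * p + u ^ 2 + u + h) := by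
  classical
  have hpp : p.Prime := Fact.out
  have hperf' := Cfsg.Agent.Lib.H59BRRed.perf_quot hperf (Cfsg.pPrimeCore p G)
  have hcore : Cfsg.pPrimeCore p (G ⧸ Cfsg.pPrimeCore p G) = ⊥ :=
    Cfsg.Agent.Lib.H59BRRed.core_quot
  obtain ⟨Pb, hPb, hdvd⟩ := Cfsg.Agent.Lib.H59BRRed.red P hP
  have hmod : Nat.card (Sylow p (G ⧸ Cfsg.pPrimeCore p G)) ≡ 1 [MOD p] :=
    card_sylow_modEq_one p _
  have hpos : 0 < Nat.card (Sylow p (G ⧸ Cfsg.pPrimeCore p G)) := Nat.card_pos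
  obtain ⟨n', hn'⟩ : ∃ n' : ℕ, Nat.card (Sylow p (G ⧸ Cfsg.pPrimeCore p G)) = 1 + n' * p := by
    have h1 := (Nat.modEq_iff_dvd' hpos).mp hmod.symm
    obtain ⟨c, hc⟩ := h1
    exact ⟨c, by rw [mul_comm c p]; omega⟩
  have hn'1 : 1 ≤ n' := Cfsg.Agent.Lib.H59BRBasicA.n_pos hperf' Pb hPb n' hn'
  obtain ⟨q, hq⟩ := hdvd
  rw [hn, hn'] at hq
  have hq0 : 0 < q := by
    rcases Nat.eq_zero_or_pos q with h0 | h0
    · rw [h0, mul_zero] at hq
      omega
    · exact h0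
  obtain ⟨k, hk⟩ : ∃ k : ℕ, q = 1 + k * p := by
    have h1 : q ≡ 1 [MOD p] := by
      have h2 : (1 + n' * p) * q ≡ 1 * q [MOD p] :=
        Nat.ModEq.mul_right q (by
          have : n' * p ≡ 0 [MOD p] := (Nat.modEq_zero_iff_dvd.mpr (Dvd.intro_left n' rfl))
          simpa using Nat.ModEq.add_left 1 this)
      have h3 : 1 + n * p ≡ 1 [MOD p] := by
        have : n * p ≡ 0 [MOD p] := (Nat.modEq_zero_iff_dvd.mpr (Dvd.intro_left n rfl))
        simpa using Nat.ModEq.add_left 1 this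
      rw [one_mul] at h2
      exact h2.symm.trans (hq ▸ h3)
    have h4 := (Nat.modEq_iff_dvd' hq0).mp h1.symm
    obtain ⟨c, hc⟩ := h4
    exact ⟨c, by rw [mul_comm c p]; omega⟩
  rw [hk] at hq
  rcases Nat.eq_zero_or_pos k with hk0 | hk0
  · -- `n' = n`
    have hnn : n' = n := by
      rw [hk0, zero_mul, add_zero, mul_one] at hq
      have : n * p = n' * p := by omega
      exact (Nat.eq_of_mul_eq_mul_right hpp.pos this).symm
    rw [hnn] at hn'
    by_cases hexc : Cfsg.Agent.Lib.Helper59BRDefs.Exc p n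
    · exact Or.inr (Or.inr hexc)
    · have hC := Cfsg.Agent.Lib.H59BRCore.coreB hperf' Pb hPb hcore n hn' hexc
      rcases Cfsg.Agent.Lib.H59BRCore.coreA hperf' Pb hPb hC n hn' hexc with ⟨h3, ⟨e⟩⟩ |
        ⟨m, F, iF, iFt, hF, hpm, h3, ⟨e⟩⟩
      · exact Or.inl ⟨ZMod p, inferInstance, inferInstance, ZMod.card p, h3, ⟨e⟩⟩
      · obtain ⟨e'⟩ := Cfsg.Agent.Lib.H59BRIso.sl_equiv_psl F m hF
        exact Or.inr (Or.inl ⟨m, F, iF, iFt, hF, hpm, h3, ⟨e.trans e'.symm⟩⟩)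
  · exact Or.inr (Or.inr (Cfsg.Agent.Lib.H59BRArA.exc_of_prod hn'1 hk0 hpp.pos hq))

end Cfsg.Agent.S4700
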