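import Cfsg.Statements.S4701
import Mathlib
import Cfsg.Agent.S4700
import Cfsg.Agent.Lib.H59BRArA
import Cfsg.Agent.Lib.H59BRBasicA
import Cfsg.Agent.Lib.Helper6DkCor2
import Cfsg.Agent.Lib.Helper6SL2Syl
import Cfsg.Agent.Lib.Helper27Core

set_option autoImplicit false
open Cfsg

namespace Cfsg.Agent.S4701



/-- Let G be a finite perfect group and p a prime dividing the order of G with p^3 larger than the order of G. Suppose a Sylow p-subgroup of G is not normal and G has no normal subgroup of order 2. Then p > 3 and G is isomorphic to PSL(2, p), or to SL(2, 2^m) with p = 2^m + 1. -/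
theorem result {G : Type*} [Group G] [Finite G] (hperf : commutator G = ⊤) (p : ℕ) [Fact p.Prime] (hdvd : p ∣ Nat.card G) (hbig : Nat.card G < p ^ 3) (P : Sylow p G) (hP : ¬ (P : Subgroup G).Normal) (h2 : ∀ N : Subgroup G, N.Normal → Nat.card N ≠ 2) : (∃ (F : Type) (_ : Field F) (_ : Fintype F), Fintype.card F = p ∧ 3 < p ∧ Nonempty (G ≃* Matrix.ProjectiveSpecialLinearGroup (Fin 2) F)) ∨ (∃ (m : ℕ) (F : Type) (_ : Field F) (_ : Fintype F), Fintype.card F = 2 ^ m ∧ p = 2 ^ m + 1 ∧ 3 < p ∧ Nonempty (G ≃* Matrix.SpecialLinearGroup (Fin 2) F)) := by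
  classical
  have hpp : p.Prime := Fact.out
  have hp2 : 2 ≤ p := hpp.two_le
  -- the number of Sylow subgroups
  have hmod : Nat.card (Sylow p G) ≡ 1 [MOD p] := card_sylow_modEq_one p G
  have hpos : 0 < Nat.card (Sylow p G) := Nat.card_pos
  obtain ⟨n, hn⟩ : ∃ n : ℕ, Nat.card (Sylow p G) = 1 + n * p := by
    have h1 := (Nat.modEq_iff_dvd' hpos).mp hmod.symm
    obtain ⟨c, hc⟩ := h1
    exact ⟨c, by rw [mul_comm c p]; omega⟩
  have hidx : (Subgroup.normalizer ((P : Subgroup G) : Set G)).index = 1 + n * p := by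
    rw [← hn]; exact (Sylow.card_eq_index_normalizer P).symm
  have hn1 : 1 ≤ n := by
    rcases Nat.eq_zero_or_pos n with h0 | h0
    · exfalso
      rw [h0, zero_mul, add_zero] at hidx
      exact hP (Subgroup.normalizer_eq_top_iff.mp (Subgroup.index_eq_one.mp hidx))
    · exact h0
  have hG : Nat.card G = Nat.card (Subgroup.normalizer ((P : Subgroup G) : Set G)) * (1 + n * p) := by
    rw [← hidx]; exact (Subgroup.card_mul_index _).symm
  have hPN : Nat.card P ≤ Nat.card (Subgroup.normalizer ((P : Subgroup G) : Set G)) :=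
    Nat.le_of_dvd Nat.card_pos (Subgroup.card_dvd_of_le Subgroup.le_normalizer)
  -- `|P| = p`
  have hPp : Nat.card P = p := by
    obtain ⟨k, hk⟩ := IsPGroup.iff_card.mp P.2
    have hk0 : k ≠ 0 := by
      rintro rfl
      rw [pow_zero] at hk
      have := P.ne_bot_of_dvd_card hdvd
      exact this (Subgroup.card_eq_one.mp hk)
    rcases Nat.lt_or_ge k 2 with h | h
    · have : k = 1 := by omega
      rw [hk, this, pow_one]
    · exfalso
      have h1 : p ^ 2 ≤ Nat.card P := by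
        rw [hk]; exact Nat.pow_le_pow_right hpp.pos h
      have h2' : p ^ 2 * (1 + 1 * p) ≤ Nat.card G := by
        rw [hG]
        exact Nat.mul_le_mul (h1.trans hPN)
          (Nat.add_le_add_left (Nat.mul_le_mul_right p hn1) 1)
      have h3 : p ^ 2 * (1 + 1 * p) = p ^ 2 + p ^ 3 := by ring
      omega
  have hH : Nat.card G = Nat.card (G ⧸ Cfsg.pPrimeCore p G) * Nat.card (Cfsg.pPrimeCore p G) :=
    Subgroup.card_eq_card_quotient_mul_card_subgroup _
  have hHpos : 0 < Nat.card (Cfsg.pPrimeCore p G) := Nat.card_pos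
  have hH2 : Nat.card (Cfsg.pPrimeCore p G) ≠ 2 := h2 _ inferInstance
  have key : Nat.card (Cfsg.pPrimeCore p G) < 3 → Nonempty (G ≃* G ⧸ Cfsg.pPrimeCore p G) := by
    intro h
    have h1 : Nat.card (Cfsg.pPrimeCore p G) = 1 := by omega
    have h2' : Cfsg.pPrimeCore p G = ⊥ := Subgroup.card_eq_one.mp h1
    exact ⟨(QuotientGroup.quotientBot (G := G)).symm.trans
      (QuotientGroup.quotientMulEquivOfEq h2'.symm)⟩
  rcases Cfsg.Agent.S4700.result hperf p P hPp n hn with ⟨F, iF, iFt, hF, h3, ⟨e⟩⟩ |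
    ⟨m, F, iF, iFt, hF, hpm, h3, ⟨e⟩⟩ | hexc
  · left
    have hodd : Odd (Fintype.card F) := by
      rw [hF]; exact hpp.odd_of_ne_two (by omega)
    have hc := Cfsg.Agent.Lib.Helper6DkCor.card_PSL2_odd hodd
    rw [← Nat.card_congr e.toEquiv, hF] at hc
    obtain ⟨e'⟩ := key (by
      by_contra hge
      have hge' : 3 ≤ Nat.card (Cfsg.pPrimeCore p G) := by omega
      have h4 : 2 * Nat.card G = p * (p - 1) * (p + 1) * Nat.card (Cfsg.pPrimeCore p G) := by
        rw [hH, ← hc]; ring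
      have h5 : p * (p - 1) * (p + 1) * 3 ≤ 2 * Nat.card G := by
        rw [h4]; exact Nat.mul_le_mul_left _ hge'
      obtain ⟨r, rfl⟩ : ∃ r, p = r + 4 := ⟨p - 4, by omega⟩
      have h6 : (r + 4) * (r + 4 - 1) * (r + 4 + 1) * 3 = (r + 4) * (r + 3) * (r + 5) * 3 := by
        rfl
      rw [h6] at h5
      nlinarith)
    exact ⟨F, iF, iFt, hF, h3, ⟨e'.trans e⟩⟩
  · right
    have hc := Cfsg.Agent.Lib.Helper6SL2Syl.card_SL2 (F := F)
    rw [← Nat.card_congr e.toEquiv, hF] at hc
    obtain ⟨e'⟩ := key (by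
      by_contra hge
      have hge' : 3 ≤ Nat.card (Cfsg.pPrimeCore p G) := by omega
      have h5 : 2 ^ m * ((2 ^ m) ^ 2 - 1) * 3 ≤ Nat.card G := by
        rw [hH, hc]; exact Nat.mul_le_mul_left _ hge'
      obtain ⟨r, hr⟩ : ∃ r, 2 ^ m = r + 3 := ⟨2 ^ m - 3, by omega⟩
      rw [hr] at h5 hpm
      have h6 : (r + 3) ^ 2 - 1 = (r + 2) * (r + 4) := by
        have : (r + 3) ^ 2 = (r + 2) * (r + 4) + 1 := by ring
        omega
      rw [h6] at h5
      rw [hpm] at hbig
      nlinarith)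
    exact ⟨m, F, iF, iFt, hF, hpm, h3, ⟨e'.trans e⟩⟩
  · exfalso
    have h4 : p + 3 ≤ 2 * n := Cfsg.Agent.Lib.H59BRArA.two_n_ge hexc
    have he := Cfsg.Agent.Lib.H59BRBasicA.two_le_e hperf P hPp
    have hcn : Subgroup.centralizer ((P : Subgroup G) : Set G) ≤
        Subgroup.normalizer ((P : Subgroup G) : Set G) := Subgroup.centralizer_le_normalizer _
    have h5 := Cfsg.Agent.Lib.Helper27Core.card_mul_relIndex hcn
    have hPC : (P : Subgroup G) ≤ Subgroup.centralizer ((P : Subgroup G) : Set G) := by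
      have hcyc : IsCyclic (P : Subgroup G) := isCyclic_of_prime_card hPp
      intro x hx
      rw [Subgroup.mem_centralizer_iff]
      intro y hy
      obtain ⟨g, hg⟩ := hcyc.exists_generator
      obtain ⟨i, hi⟩ := hg ⟨x, hx⟩
      obtain ⟨j, hj⟩ := hg ⟨y, hy⟩
      have hab : Commute (⟨y, hy⟩ : (P : Subgroup G)) ⟨x, hx⟩ := by
        rw [← hi, ← hj]
        exact ((Commute.refl g).zpow_zpow j i)
      exact congrArg Subtype.val hab.eq
    have h6 : p ≤ Nat.card (Subgroup.centralizer ((P : Subgroup G) : Set G)) := by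
      have := Nat.le_of_dvd Nat.card_pos (Subgroup.card_dvd_of_le hPC)
      omega
    have h7 : 2 * p ≤ Nat.card (Subgroup.normalizer ((P : Subgroup G) : Set G)) := by
      rw [← h5, mul_comm 2 p]; exact Nat.mul_le_mul h6 he
    have h8 : 2 * p * (1 + n * p) ≤ Nat.card G := by
      rw [hG]; exact Nat.mul_le_mul_right _ h7
    have h9 : (p + 3) * p ≤ 2 * n * p := Nat.mul_le_mul_right p h4
    have h10 : p * ((p + 3) * p) ≤ p * (2 * n * p) := Nat.mul_le_mul_left p h9
    have h11 : 2 * p * (1 + n * p) = 2 * p + p * (2 * n * p) := by ring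
    have h12 : p * ((p + 3) * p) = p ^ 3 + 3 * p ^ 2 := by ring
    omega

end Cfsg.Agent.S4701
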