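import Cfsg.Statements.S0999
import Cfsg.Agent.S4701
import Cfsg.Agent.Lib.H59BRIso

set_option autoImplicit false
open Cfsg

namespace Cfsg.Agent.S0999

/-- Let G be a non-cyclic finite simple group and p a prime divisor of its order with p^3 > |G|. Then p > 3 and G is isomorphic to the projective special linear group of dimension 2 over the field with p elements, or p - 1 is a power of 2 and G is isomorphic to that group over the field with p - 1 elements. -/
theorem result {G : Type*} [Group G] [Finite G] [IsSimpleGroup G] (hG : ¬ IsCyclic G) (p : ℕ) (hp : p.Prime) (hdvd : p ∣ Nat.card G) (hbig : Nat.card G < p ^ 3) : (∃ (F : Type) (_ : Field F) (_ : Fintype F), Fintype.card F = p ∧ 3 < p ∧ Nonempty (G ≃* Matrix.ProjectiveSpecialLinearGroup (Fin 2) F)) ∨ (∃ (m : ℕ) (F : Type) (_ : Field F) (_ : Fintype F), Fintype.card F = 2 ^ m ∧ p = 2 ^ m + 1 ∧ 3 < p ∧ Nonempty (G ≃* Matrix.ProjectiveSpecialLinearGroup (Fin 2) F)) := by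
  have : Fact p.Prime := ⟨hp⟩
  have hperf : commutator G = ⊤ := by
    rcases (inferInstance : (commutator G).Normal).eq_bot_or_eq_top with h1 | h1
    · exfalso
      apply hG
      have hcomm : ∀ a b : G, a * b = b * a := by
        intro a b
        have h2 : a * b * a⁻¹ * b⁻¹ ∈ commutator G :=
          Subgroup.commutator_mem_commutator (Subgroup.mem_top a) (Subgroup.mem_top b)
        rw [h1, Subgroup.mem_bot] at h2
        calc a * b = (a * b * a⁻¹ * b⁻¹) * (b * a) := by group
          _ = b * a := by rw [h2, one_mul]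
      let _ : CommGroup G := { (inferInstance : Group G) with mul_comm := hcomm }
      exact IsSimpleGroup.isCyclic
    · exact h1
  obtain ⟨P⟩ : Nonempty (Sylow p G) := inferInstance
  have hP : ¬ (P : Subgroup G).Normal := by
    intro hN
    rcases hN.eq_bot_or_eq_top with h1 | h1
    · exact P.ne_bot_of_dvd_card hdvd h1
    · have hpg : IsPGroup p G := by
        have h2 := P.isPGroup'
        rw [h1] at h2
        exact h2.of_equiv Subgroup.topEquiv
      have hnil : Group.IsNilpotent G := hpg.isNilpotent
      have hsol : Group.IsSolvable G := inferInstance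
      have := Group.IsSolvable.commutator_lt_top_of_nontrivial G
      rw [hperf] at this
      exact lt_irrefl _ this
  have h2 : ∀ N : Subgroup G, N.Normal → Nat.card N ≠ 2 := by
    intro N hN hc
    rcases hN.eq_bot_or_eq_top with h1 | h1
    · rw [h1, Subgroup.card_bot] at hc
      omega
    · rw [h1, Subgroup.card_top] at hc
      have : Fact (Nat.Prime 2) := ⟨Nat.prime_two⟩
      exact hG (isCyclic_of_prime_card hc)
  rcases Cfsg.Agent.S4701.result hperf p hdvd hbig P hP h2 with h | ⟨m, F, i1, i2, hF, hpm, h3, ⟨e⟩⟩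
  · exact Or.inl h
  · obtain ⟨e'⟩ := Cfsg.Agent.Lib.H59BRIso.sl_equiv_psl F m hF
    exact Or.inr ⟨m, F, i1, i2, hF, hpm, h3, ⟨e.trans e'⟩⟩

end Cfsg.Agent.S0999
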