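import Cfsg.Statements.S5256
import Cfsg.Agent.Lib.Helper89Fusion
import Cfsg.Agent.Lib.Helper88Quot
import Cfsg.Agent.Lib.Helper87Closed

set_option autoImplicit false
open Cfsg

namespace Cfsg.Agent.S5256

open Cfsg.FusionSystem Cfsg.Agent.Lib.Helper87Fusion Cfsg.Agent.Lib.Helper87Fusion2
  Cfsg.Agent.Lib.Helper88Factor Cfsg.Agent.Lib.Helper88Quot Cfsg.Agent.Lib.Helper87Closed
  Cfsg.Agent.Lib.Helper86Fusion Cfsg.Agent.Lib.Helper86Fusion2

theorem pResidual_le_map {A B : Type*} [Group A] [Group B] [Finite A] {p : ℕ} [hp : Fact p.Prime]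
    (c : A →* B) (hc : Function.Surjective c) : pResidual p B ≤ (pResidual p A).map c := by
  unfold pResidual
  rw [Subgroup.closure_le]
  intro b hb
  obtain ⟨a, rfl⟩ := hc b
  obtain ⟨k, m, hm, hkm⟩ := Nat.exists_eq_pow_mul_and_not_dvd (orderOf_pos a).ne' p hp.out.ne_one
  have hb' : Nat.Coprime (p ^ k) (orderOf (c a)) := (Nat.Coprime.pow_right k hb).symm
  obtain ⟨j, hj⟩ := exists_pow_eq_self_of_coprime hb'
  refine ⟨(a ^ (p ^ k)) ^ j, Subgroup.subset_closure ?_, by rw [map_pow, map_pow, hj]⟩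
  have h1 : orderOf (a ^ (p ^ k)) = m := by
    rw [orderOf_pow_of_dvd (pow_ne_zero _ hp.out.ne_zero) (hkm ▸ Dvd.intro _ rfl), hkm]
    exact Nat.mul_div_cancel_left _ (pow_pos hp.out.pos _)
  have h2 : orderOf ((a ^ (p ^ k)) ^ j) ∣ m := h1 ▸ orderOf_pow_dvd j
  exact Nat.Coprime.coprime_dvd_left h2 ((Nat.Prime.coprime_iff_not_dvd hp.out).2 hm).symm

variable {Ω : Type*} [Group Ω] {S : Subgroup Ω} {Ω' : Type*} [Group Ω'] {S' : Subgroup Ω'}

theorem exists_autHom [Finite S] {p : ℕ} [Fact p.Prime] (hS : IsPGroup p S) {F : FusionSystem S}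
    (hF : F.IsSaturated p) {T : Subgroup Ω} (hT : F.StronglyClosed T) {θ : ↥S →* Ω'}
    {E : FusionSystem S'} (hE : F.IsFactorSystem T θ E) {P : Subgroup Ω} (hP : P ≤ S)
    {P' : Subgroup Ω'} (hPP' : imageAlong θ P = P') :
    ∃ c : F.autGroup P →* E.autGroup P', ∀ (α : F.autGroup P) (x : P) (hx : tt θ x ∈ P'),
      ((((c α : E.autGroup P') : MulAut P') ⟨tt θ x, hx⟩ : P') : Ω') =
        tt θ (((α : MulAut P) x : P) : Ω) := by
  subst hPP'
  have hq := IsFactorSystem.isQuot hE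
  have key : ∀ α : F.autGroup P, ∃ α' : E.autGroup (imageAlong θ P),
      ∀ (x : P) (hx : tt θ x ∈ imageAlong θ P),
      ((((α' : E.autGroup _) : MulAut _) ⟨tt θ x, hx⟩ : imageAlong θ P) : Ω') =
        tt θ (((α : MulAut P) x : P) : Ω) := by
    intro α
    have hα := (mem_autGroup_iff_totA F hP α).1 α.2
    obtain ⟨f', hf', H⟩ := isMap_induced hS hF hT hE hα
    have him : f' '' (imageAlong θ P : Set Ω') = (imageAlong θ P : Set Ω') := by
      ext y
      constructor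
      · rintro ⟨z, hz, rfl⟩
        obtain ⟨x, hx, hxS, rfl⟩ := (mem_imageAlong θ).1 hz
        rw [H x hx]
        exact (mem_imageAlong θ).2 ⟨_, totA_mem _ hx, hP (totA_mem _ hx), rfl⟩
      · intro hy
        obtain ⟨x, hx, hxS, rfl⟩ := (mem_imageAlong θ).1 hy
        obtain ⟨w, hw, hwx⟩ := IsMap.exists_of_mem_image (totA_image (α : MulAut P)) hx
        refine ⟨tt θ w, (mem_imageAlong θ).2 ⟨w, hw, hP hw, rfl⟩, ?_⟩
        rw [H w hw, hwx]
    obtain ⟨α', hα', hα'f⟩ := hf'.exists_aut him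
    refine ⟨⟨α', hα'⟩, fun x hx => ?_⟩
    show ((α' ⟨tt θ x, hx⟩ : imageAlong θ P) : Ω') = _
    rw [hα'f, H x x.2, totA_apply]
  choose c hc using key
  refine ⟨MonoidHom.mk' c (fun α β => ?_), hc⟩
  apply Subtype.ext
  apply MulEquiv.ext
  intro y
  obtain ⟨x, hx, hxS, hxy⟩ := (mem_imageAlong θ).1 y.2
  have hy : y = ⟨tt θ ((⟨x, hx⟩ : P) : Ω), hxy ▸ y.2⟩ := Subtype.ext hxy.symm
  apply Subtype.ext
  rw [hy, hc (α * β) ⟨x, hx⟩]
  show _ = ((((c α : E.autGroup _) : MulAut _) (((c β : E.autGroup _) : MulAut _) _) :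
    imageAlong θ P) : Ω')
  have h1 : (((c β : E.autGroup _) : MulAut _)
      (⟨tt θ ((⟨x, hx⟩ : P) : Ω), hxy ▸ y.2⟩ : imageAlong θ P)) =
      ⟨tt θ ((((β : MulAut P) ⟨x, hx⟩ : P)) : Ω),
        (mem_imageAlong θ).2 ⟨_, ((β : MulAut P) ⟨x, hx⟩ : P).2,
          hP ((β : MulAut P) ⟨x, hx⟩ : P).2, rfl⟩⟩ := Subtype.ext (hc β ⟨x, hx⟩ _)
  rw [h1, hc α]
  rfl

theorem image_preimage {T : Subgroup Ω} {θ : ↥S →* Ω'} (hq : IsQuot θ T S') {P' : Subgroup Ω'}
    (hP' : P' ≤ S') : imageAlong θ (preimageAlong θ P') = P' := by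
  ext y
  rw [mem_imageAlong]
  constructor
  · rintro ⟨x, hx, -, rfl⟩
    exact ((mem_preimageAlong θ).1 hx).2
  · intro hy
    obtain ⟨x, hx, hxy⟩ := hq.exists_pre hP' hy
    exact ⟨x, hx, preimageAlong_le θ P' hx, hxy⟩

/-- Let F be a saturated fusion system over a finite p-group S, T a subgroup of S strongly closed in F, and E a factor system F/T realised along a homomorphism θ of S with kernel T. Then the hyperfocal subgroup of E is the image under θ of the hyperfocal subgroup of F (hyp(F/T) = T·hyp(F)/T). -/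
theorem result {Ω : Type*} [Group Ω] {S : Subgroup Ω} [Finite S] (p : ℕ) [Fact p.Prime] (hS : IsPGroup p S) (F : Cfsg.FusionSystem S) (hF : F.IsSaturated p) (T : Subgroup Ω) (hT : F.StronglyClosed T) {Ω' : Type*} [Group Ω'] {S' : Subgroup Ω'} (θ : ↥S →* Ω') (E : Cfsg.FusionSystem S') (hE : F.IsFactorSystem T θ E) : E.hyperfocalSubgroup p = ((F.hyperfocalSubgroup p).subgroupOf S).map θ := by
  have hq := IsFactorSystem.isQuot hE
  show _ = imageAlong θ (F.hyperfocalSubgroup p)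
  apply le_antisymm
  · unfold hyperfocalSubgroup
    rw [Subgroup.closure_le]
    rintro _ ⟨P', α', x', hP', hα', rfl⟩
    have hPS : preimageAlong θ P' ≤ S := preimageAlong_le θ P'
    obtain ⟨c, hc⟩ := exists_autHom hS hF hT hE hPS (image_preimage hq hP')
    have hsurj : Function.Surjective c := by
      intro β
      have hβ := (mem_autGroup_iff_totA E hP' β).1 β.2
      obtain ⟨-, f, hf, H⟩ := (isMap_factor_iff hE).1 hβ
      have him : f '' (preimageAlong θ P' : Set Ω) = (preimageAlong θ P' : Set Ω) := by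
        refine image_eq_of_card_le hf hPS (fun x hx => ?_) le_rfl
        rw [mem_preimageAlong]
        refine ⟨hf.mem hx, ?_⟩
        rw [← H x hx]
        exact totA_mem _ ((mem_preimageAlong θ).1 hx).2
      obtain ⟨α, hα, hαf⟩ := hf.exists_aut him
      refine ⟨⟨α, hα⟩, ?_⟩
      apply Subtype.ext
      apply MulEquiv.ext
      intro y
      obtain ⟨x, hx, hxy⟩ := hq.exists_pre hP' y.2
      have hy : y = ⟨tt θ ((⟨x, hx⟩ : preimageAlong θ P') : Ω), hxy ▸ y.2⟩ := Subtype.ext hxy.symm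
      apply Subtype.ext
      rw [hy, hc ⟨α, hα⟩ ⟨x, hx⟩]
      show tt θ ((α ⟨x, hx⟩ : preimageAlong θ P') : Ω) = _
      rw [hαf, ← H x hx, totA_of_mem]
    have : Finite (preimageAlong θ P') := finite_of_le hPS
    obtain ⟨α, hα, rfl⟩ := pResidual_le_map c hsurj hα'
    obtain ⟨x, hx, hxy⟩ := hq.exists_pre hP' x'.2
    have hy : x' = ⟨tt θ ((⟨x, hx⟩ : preimageAlong θ P') : Ω), hxy ▸ x'.2⟩ := Subtype.ext hxy.symm
    rw [hy, hc α ⟨x, hx⟩]
    refine (mem_imageAlong θ).2 ⟨_, mem_hyperfocal_of hPS hα ⟨x, hx⟩, ?_, ?_⟩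
    · exact S.mul_mem (S.inv_mem (hPS hx)) (hPS ((α : MulAut (preimageAlong θ P')) ⟨x, hx⟩).2)
    · rw [tt_mul θ (S.inv_mem (hPS hx)) (hPS ((α : MulAut (preimageAlong θ P')) ⟨x, hx⟩).2),
        tt_inv θ (hPS hx)]
  · intro y hy
    obtain ⟨z, hz, hzS, rfl⟩ := (mem_imageAlong θ).1 hy
    have key : ∀ z ∈ F.hyperfocalSubgroup p, z ∈ S ∧ tt θ z ∈ E.hyperfocalSubgroup p := by
      intro z hz
      unfold hyperfocalSubgroup at hz
      induction hz using Subgroup.closure_induction with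
      | mem w hw =>
        obtain ⟨P, α, x, hP, hα, rfl⟩ := hw
        have h1 : (x : Ω) ∈ S := hP x.2
        have h2 : (((α : MulAut P) x : P) : Ω) ∈ S := hP ((α : MulAut P) x).2
        refine ⟨S.mul_mem (S.inv_mem h1) h2, ?_⟩
        obtain ⟨c, hc⟩ := exists_autHom hS hF hT hE hP rfl
        have hx' : tt θ x ∈ imageAlong θ P := (mem_imageAlong θ).2 ⟨x, x.2, h1, rfl⟩
        have hle : imageAlong θ P ≤ S' := by
          intro y hy
          obtain ⟨x, -, hxS, rfl⟩ := (mem_imageAlong θ).1 hy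
          exact hq.tt_mem hxS
        have := mem_hyperfocal_of hle (pResidual_map c hα) ⟨tt θ x, hx'⟩
        rw [hc α x hx'] at this
        rw [tt_mul θ (S.inv_mem h1) h2, tt_inv θ h1]
        exact this
      | one => exact ⟨S.one_mem, by rw [tt_one]; exact Subgroup.one_mem _⟩
      | mul a b _ _ ha hb =>
        exact ⟨S.mul_mem ha.1 hb.1, by rw [tt_mul θ ha.1 hb.1]; exact Subgroup.mul_mem _ ha.2 hb.2⟩
      | inv a _ ha =>
        exact ⟨S.inv_mem ha.1, by rw [tt_inv θ ha.1]; exact Subgroup.inv_mem _ ha.2⟩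
    exact (key z hz).2

end Cfsg.Agent.S5256
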