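import Cfsg.Statements.S0228
import Cfsg.Agent.Lib.Helper6Syl
import Cfsg.Agent.Lib.Helper6Perm

set_option autoImplicit false
open Cfsg

namespace Cfsg.Agent.S0228

open Cfsg.Agent.Lib.Helper6Inv Cfsg.Agent.Lib.Helper6Syl

theorem sylow_eq_of_common {G : Type*} [Group G] [Finite G] {p : ℕ} [Fact p.Prime]
    (Q1 Q2 : Sylow p G) (h1 : Nat.card Q1 = p) (g : G) (hg : g ≠ 1)
    (hg1 : g ∈ Q1) (hg2 : g ∈ Q2) : Q1 = Q2 := by
  have hle : (Q1 : Subgroup G) ≤ Q2 := by
    intro x hx
    have htop := zpowers_eq_top_of_prime_card (G := Q1) h1 (g := ⟨g, hg1⟩)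
      (fun h => hg (congrArg Subtype.val h))
    have hx' : (⟨x, hx⟩ : Q1) ∈ Subgroup.zpowers (⟨g, hg1⟩ : Q1) := htop ▸ Subgroup.mem_top _
    obtain ⟨k, hk⟩ := Subgroup.mem_zpowers_iff.1 hx'
    have hk' := congrArg Subtype.val hk
    simp only at hk'
    rw [← hk']
    exact Subgroup.zpow_mem _ hg2 k
  exact Sylow.ext (Q1.3 Q2.2 hle).symm

/-- A group of order 12 in which no involution is central is isomorphic to the alternating group on four letters. -/
theorem result {G : Type*} [Group G] [Finite G] (hG : Nat.card G = 12) (hz : ∀ z : G, orderOf z = 2 → z ∉ Subgroup.center G) : Nonempty (G ≃* alternatingGroup (Fin 4)) := by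
  classical
  have : Fact (Nat.Prime 3) := ⟨by norm_num⟩
  have hcard3 : ∀ P : Sylow 3 G, Nat.card P = 3 := by
    intro P
    have h : (12).factorization 3 = 1 := by decide +kernel
    rw [Sylow.card_eq_multiplicity, hG, h, pow_one]
  have hcard2 : ∀ P : Sylow 2 G, Nat.card P = 2 ^ 2 := by
    intro P
    have h : (12).factorization 2 = 2 := by decide +kernel
    rw [Sylow.card_eq_multiplicity, hG, h]
  obtain ⟨P⟩ : Nonempty (Sylow 3 G) := inferInstance
  have hidx : (P : Subgroup G).index = 4 := by
    have := (P : Subgroup G).card_mul_index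
    rw [hcard3 P, hG] at this
    omega
  have h1 := card_sylow_modEq_one 3 G
  have h2 := P.card_dvd_index
  rw [hidx] at h2
  have h3 : Nat.card (Sylow 3 G) = 1 ∨ Nat.card (Sylow 3 G) = 4 := by
    have hle := Nat.le_of_dvd (by norm_num) h2
    unfold Nat.ModEq at h1
    generalize Nat.card (Sylow 3 G) = k at *
    interval_cases k <;> simp_all
  rcases h3 with h3 | h3
  · exfalso
    have hsub : Subsingleton (Sylow 3 G) := (Nat.card_eq_one_iff_unique.1 h3).1
    have hPn : (P : Subgroup G).Normal := Sylow.normal_of_subsingleton P
    obtain ⟨a, ha⟩ := exists_prime_orderOf_dvd_card' (G := G) 3 (by rw [hG]; norm_num)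
    have haP : a ∈ P := by
      have hp : IsPGroup 3 (Subgroup.zpowers a) := by
        apply IsPGroup.of_card (n := 1)
        rw [Nat.card_zpowers, ha, pow_one]
      obtain ⟨Q, hQ⟩ := hp.exists_le_sylow
      rw [Subsingleton.elim P Q]
      exact hQ (Subgroup.mem_zpowers a)
    have ha1 : a ≠ 1 := by
      intro h
      rw [h, orderOf_one] at ha
      omega
    have hcl : Nat.card {b : G // IsConj a b} + 1 ≤ 3 := by
      rw [← Finite.card_option, ← hcard3 P]
      refine Nat.card_le_card_of_injective (fun o => match o with
        | none => (1 : P)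
        | some b => ⟨b.1, ?_⟩) ?_
      · obtain ⟨c, hc⟩ := isConj_iff.1 b.2
        rw [← hc]
        exact hPn.conj_mem a haP c
      · have hne : ∀ b : {b : G // IsConj a b}, b.1 ≠ 1 := by
          intro b hb
          obtain ⟨c, hc⟩ := isConj_iff.1 b.2
          rw [hb] at hc
          apply ha1
          have : a = c⁻¹ * (c * a * c⁻¹) * c := by group
          rw [this, hc]; group
        rintro (_ | b) (_ | b') h
        · rfl
        · exact absurd (congrArg Subtype.val h).symm (hne b')
        · exact absurd (congrArg Subtype.val h) (hne b)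
        · have h' := congrArg Subtype.val h
          simp only at h'
          rw [Subtype.ext h']
    have hmul := card_conj_mul_card_centralizer a
    rw [hG] at hmul
    have heven : 2 ∣ Nat.card (Subgroup.centralizer ({a} : Set G)) := by
      generalize Nat.card {b : G // IsConj a b} = k at *
      generalize Nat.card (Subgroup.centralizer ({a} : Set G)) = m at *
      have hk2 : k ≤ 2 := by omega
      interval_cases k
      · omega
      · omega
      · omega
    obtain ⟨z, hzo⟩ := exists_prime_orderOf_dvd_card'
      (G := Subgroup.centralizer ({a} : Set G)) 2 heven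
    have hz2 : orderOf (z : G) = 2 := by rw [Subgroup.orderOf_coe, hzo]
    have hza : (z : G) * a = a * z := Subgroup.mem_centralizer_singleton_iff.1 z.2
    apply hz z hz2
    -- the centralizer of z is everything
    have h3dvd : 3 ∣ Nat.card (Subgroup.centralizer ({(z : G)} : Set G)) := by
      have haC : a ∈ Subgroup.centralizer ({(z : G)} : Set G) := by
        rw [Subgroup.mem_centralizer_singleton_iff]; exact hza.symm
      have h4 : orderOf (⟨a, haC⟩ : Subgroup.centralizer ({(z : G)} : Set G)) = 3 := by
        rw [← ha]; exact Subgroup.orderOf_mk a haC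
      exact h4 ▸ orderOf_dvd_natCard _
    have h4dvd : 4 ∣ Nat.card (Subgroup.centralizer ({(z : G)} : Set G)) := by
      obtain ⟨Q, hQ⟩ := (isPGroup_zpowers_of_orderOf_two hz2).exists_le_sylow
      have hzQ : (z : G) ∈ Q := hQ (Subgroup.mem_zpowers _)
      have hcomm := IsPGroup.isMulCommutative_of_card_eq_prime_sq (hcard2 Q)
      have hle : (Q : Subgroup G) ≤ Subgroup.centralizer ({(z : G)} : Set G) := by
        intro x hx
        rw [Subgroup.mem_centralizer_singleton_iff]
        have := hcomm.is_comm.comm (⟨x, hx⟩ : Q) ⟨z, hzQ⟩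
        exact congrArg Subtype.val this
      have := Subgroup.card_dvd_of_le hle
      rw [hcard2 Q] at this
      exact this
    have h12 : 12 ∣ Nat.card (Subgroup.centralizer ({(z : G)} : Set G)) := by
      have : Nat.Coprime 3 4 := by norm_num
      exact this.mul_dvd_of_dvd_of_dvd h3dvd h4dvd
    have htop : Subgroup.centralizer ({(z : G)} : Set G) = ⊤ := by
      apply Subgroup.eq_top_of_card_eq
      apply Nat.dvd_antisymm (Subgroup.card_subgroup_dvd_card _)
      rw [hG]; exact h12
    rw [Subgroup.centralizer_eq_top_iff_subset, Set.singleton_subset_iff] at htop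
    exact htop
  · let φ := MulAction.toPermHom G (Sylow 3 G)
    have hinj : Function.Injective φ := by
      rw [injective_iff_map_eq_one]
      intro g hg
      by_contra hg1
      have hmem : ∀ Q : Sylow 3 G, g ∈ Q := by
        intro Q
        have h4 : g • Q = Q := by
          have := congrArg (fun σ => σ Q) hg
          simpa [φ] using this
        rw [Sylow.smul_eq_iff_mem_normalizer] at h4
        have h5 := Sylow.card_eq_index_normalizer Q
        rw [h3] at h5
        have h6 := (Subgroup.normalizer (Q : Set G)).card_mul_index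
        rw [← h5, hG] at h6
        have h7 : Nat.card (Subgroup.normalizer (Q : Set G)) = 3 := by omega
        have h8 : (Q : Subgroup G) = Subgroup.normalizer (Q : Set G) := by
          refine Subgroup.eq_of_le_of_card_ge (K := Subgroup.normalizer (Q : Set G))
            Subgroup.le_normalizer ?_
          rw [h7, hcard3 Q]
        have : g ∈ (Q : Subgroup G) := by rw [h8]; exact h4
        exact this
      have hsub : Subsingleton (Sylow 3 G) :=
        ⟨fun A B => sylow_eq_of_common A B (hcard3 A) g hg1 (hmem A) (hmem B)⟩
      have := Finite.card_le_one_iff_subsingleton.2 hsub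
      omega
    exact Cfsg.Agent.Lib.Helper6Perm.mulEquiv_alternating_of_injective h3 φ hinj
      (by rw [hG]; rfl)

end Cfsg.Agent.S0228
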