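import Cfsg.Statements.S0805
import Mathlib
import Cfsg.Agent.Lib.Helper18Field
import Cfsg.Agent.Lib.Helper7SL

set_option autoImplicit false
open Cfsg

namespace Cfsg.Agent.S0805

open Matrix Matrix.ProjGenLinGroup
open scoped MatrixGroups

theorem exists_subgroup_of_range_le {X G G' : Type*} [Group X] [Group G] [Group G'] (j : G →* G')
    (hj : Function.Injective j) (φ : X →* G') (hφ : Function.Injective φ)
    (h : φ.range ≤ j.range) : ∃ H : Subgroup G, Nonempty (H ≃* X) := by
  refine ⟨φ.range.comap j, ⟨?_⟩⟩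
  have e1 := Subgroup.equivMapOfInjective (φ.range.comap j) j hj
  have e2 : (φ.range.comap j).map j = φ.range := by
    rw [Subgroup.map_comap_eq, inf_eq_right.2 h]
  exact e1.trans ((MulEquiv.subgroupCongr e2).trans (MonoidHom.ofInjective hφ).symm)

theorem pgl_map_injective {K F : Type*} [Field K] [Field F] (ι : K →+* F) :
    Function.Injective (ProjGenLinGroup.map (n := Fin 2) ι) := by
  rw [injective_iff_map_eq_one]
  intro x hx
  induction x using Matrix.ProjGenLinGroup.induction_on with | mk g =>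
  rw [map_mk, mk_eq_one, GeneralLinearGroup.center_eq_range_scalar] at hx
  obtain ⟨u, hu⟩ := hx
  have hent : ∀ i j, ι ((g : Matrix (Fin 2) (Fin 2) K) i j) = if i = j then (u : F) else 0 := by
    intro i j
    have := congrArg (fun h : GL (Fin 2) F => (h : Matrix (Fin 2) (Fin 2) F) i j) hu
    simp only [GeneralLinearGroup.coe_scalar, Matrix.scalar_apply, Matrix.diagonal_apply] at this
    rw [this]
    rfl
  have h00 : (g : Matrix (Fin 2) (Fin 2) K) 0 0 ≠ 0 := by
    intro h0
    have := hent 0 0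
    rw [h0, map_zero, if_pos rfl] at this
    exact u.ne_zero this.symm
  rw [mk_eq_one, GeneralLinearGroup.center_eq_range_scalar]
  refine ⟨Units.mk0 _ h00, Units.ext ?_⟩
  ext i j
  simp only [GeneralLinearGroup.coe_scalar, Matrix.scalar_apply, Matrix.diagonal_apply, Units.val_mk0]
  apply ι.injective
  rw [hent i j]
  split_ifs with hij
  · rw [hent 0 0, if_pos rfl]
  · rw [map_zero]

theorem mem_range_toPGL {F : Type*} [Field F] (g : GL (Fin 2) F)
    (hsq : IsSquare ((g : Matrix (Fin 2) (Fin 2) F).det)) :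
    ProjGenLinGroup.mk g ∈ (ProjectiveSpecialLinearGroup.toPGL (n := Fin 2) (R := F)).range := by
  obtain ⟨s, hs⟩ := hsq
  have hdet : (g : Matrix (Fin 2) (Fin 2) F).det ≠ 0 := by
    have := g.det.ne_zero
    simpa using this
  have hs0 : s ≠ 0 := by
    rintro rfl
    rw [mul_zero] at hs
    exact hdet hs
  have hX : (s⁻¹ • (g : Matrix (Fin 2) (Fin 2) F)).det = 1 := by
    rw [Matrix.det_smul, hs]
    simp only [Fintype.card_fin]
    field_simp
  let X : SpecialLinearGroup (Fin 2) F := ⟨s⁻¹ • (g : Matrix (Fin 2) (Fin 2) F), hX⟩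
  refine ⟨QuotientGroup.mk X, ?_⟩
  rw [ProjectiveSpecialLinearGroup.toPGL_mk, mk_eq_mk_iff]
  refine ⟨Units.mk0 s hs0, Units.ext ?_⟩
  rw [Units.val_mul, SpecialLinearGroup.coe_GL_coe_matrix, GeneralLinearGroup.coe_scalar,
    Units.val_mk0]
  change (s⁻¹ • (g : Matrix (Fin 2) (Fin 2) F)) * Matrix.scalar (Fin 2) s = _
  ext i j
  simp [Matrix.mul_apply, Matrix.diagonal_apply]
  fin_cases j <;> simp <;> field_simp

theorem geom_mod_two (x : ℕ) (hx : Odd x) (m : ℕ) :
    (∑ i ∈ Finset.range m, x ^ i) % 2 = m % 2 := by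
  induction m with
  | zero => simp
  | succ n ih =>
    have h1 : x ^ n % 2 = 1 := Nat.odd_iff.1 (hx.pow)
    rw [Finset.sum_range_succ, Nat.add_mod, ih, h1]
    omega

theorem arith_odd (k m N : ℕ) (hk : Odd k) (hk1 : 1 < k) (hm : Odd m)
    (hN : N * 2 = k ^ m * ((k ^ m) ^ 2 - 1)) : ¬ (k * (k ^ 2 - 1) ∣ N) := by
  rintro ⟨c, rfl⟩
  obtain ⟨x, hx⟩ : ∃ x, k ^ 2 = x + 1 := ⟨k ^ 2 - 1, by
    have : 1 ≤ k ^ 2 := Nat.one_le_pow _ _ (by omega)
    omega⟩
  have hx0 : 0 < x := by
    have : 1 < k ^ 2 := Nat.one_lt_pow (by norm_num) hk1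
    omega
  have h1 := geom_sum_mul_add x m
  rw [← hx] at h1
  have h2 : (k ^ m) ^ 2 = (k ^ 2) ^ m := by rw [← pow_mul, ← pow_mul, mul_comm]
  rw [h2, ← h1, hx, Nat.add_sub_cancel, Nat.add_sub_cancel] at hN
  have hS := geom_mod_two (k ^ 2) hk.pow m
  rw [hx] at hS
  generalize (∑ i ∈ Finset.range m, (x + 1) ^ i) = S at hN hS
  have h3 : (k * c * 2) * x = (k ^ m * S) * x := by
    rw [← mul_assoc] at hN
    rw [← hN]; ring
  have h4 := Nat.eq_of_mul_eq_mul_right hx0 h3
  have h5 : (k ^ m * S) % 2 = 1 := by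
    have a1 : k ^ m % 2 = 1 := Nat.odd_iff.1 hk.pow
    have a2 : m % 2 = 1 := Nat.odd_iff.1 hm
    rw [Nat.mul_mod, a1, hS, a2]
  omega

theorem card_PGL_two {K : Type*} [Field K] [Fintype K] :
    Nat.card (Matrix.ProjGenLinGroup (Fin 2) K) = Fintype.card K * (Fintype.card K ^ 2 - 1) := by
  have h1 := Subgroup.card_eq_card_quotient_mul_card_subgroup (Subgroup.center (GL (Fin 2) K))
  rw [Cfsg.Agent.Lib.Helper7SL.card_center_GL, Matrix.card_GL_field, Nat.card_units,
    Nat.card_eq_fintype_card (α := K)] at h1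
  change _ = Nat.card (Matrix.ProjGenLinGroup (Fin 2) K) * _ at h1
  have hk : 1 < Fintype.card K := Fintype.one_lt_card
  generalize Fintype.card K = k at h1 hk ⊢
  generalize Nat.card (Matrix.ProjGenLinGroup (Fin 2) K) = P at h1 ⊢
  simp only [Fin.prod_univ_two, Fin.val_zero, Fin.val_one, pow_zero, pow_one] at h1
  have h2 : k ^ 2 - k = k * (k - 1) := by
    obtain ⟨t, rfl⟩ : ∃ t, k = t + 1 := ⟨k - 1, by omega⟩
    rw [Nat.add_sub_cancel]
    have : (t + 1) ^ 2 = (t + 1) * t + (t + 1) := by ring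
    rw [this, Nat.add_sub_cancel]
  rw [h2, ← mul_assoc] at h1
  have := Nat.eq_of_mul_eq_mul_right (by omega) h1
  rw [← this, mul_comm]

theorem isSquare_of_even {K F : Type*} [Field K] [Fintype K] [Field F] [Fintype F]
    (hodd : Odd (Fintype.card F)) (m : ℕ) (hm : Even m) (hK : Fintype.card K ^ m = Fintype.card F)
    (ι : K →+* F) (d : K) (hd : d ≠ 0) : IsSquare (ι d) := by
  have hchar : ringChar F ≠ 2 := by
    intro h
    have := FiniteField.even_card_of_char_two h
    have := Nat.odd_iff.1 hodd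
    omega
  have hιd : ι d ≠ 0 := by simpa using hd
  rw [FiniteField.isSquare_iff hchar hιd]
  obtain ⟨m', rfl⟩ := hm
  have hkodd : Odd (Fintype.card K) := by
    by_contra h
    rw [Nat.not_odd_iff_even] at h
    have hm0 : m' + m' ≠ 0 := by
      intro h0
      rw [h0, pow_zero] at hK
      have : 1 < Fintype.card F := Fintype.one_lt_card
      omega
    have : Even (Fintype.card F) := by rw [← hK]; exact h.pow_of_ne_zero hm0
    exact (Nat.not_odd_iff_even.2 this) hodd
  have h1 := FiniteField.pow_card_sub_one_eq_one d hd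
  obtain ⟨t, ht⟩ := hkodd
  rw [ht] at h1 hK
  have h2 := geom_sum_mul_add (4 * t * (t + 1)) m'
  have h3 : (2 * t + 1) ^ (m' + m') = (4 * t * (t + 1) + 1) ^ m' := by
    rw [← two_mul, pow_mul]; congr 1; ring
  rw [h3, ← h2] at hK
  generalize (∑ i ∈ Finset.range m', (4 * t * (t + 1) + 1) ^ i) = S at hK
  have h4 : Fintype.card F / 2 = (2 * t + 1 - 1) * (S * (t + 1)) := by
    have : Fintype.card F = 2 * ((2 * t + 1 - 1) * (S * (t + 1))) + 1 := by
      rw [← hK, Nat.add_sub_cancel]; ring
    omega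
  rw [h4, pow_mul, ← map_pow, h1, map_one, one_pow]

/-- Subfield subgroups: let F be a finite field of odd order q and K a finite field with |K|^m = q, m ≥ 1. Then PSL_2(F) has a subgroup isomorphic to PSL_2(K), and has a subgroup isomorphic to PGL_2(K) if and only if m is even. -/
theorem result {F K : Type*} [Field F] [Fintype F] [Field K] [Fintype K] {q : ℕ} (hF : Fintype.card F = q) (hodd : Odd q) (m : ℕ) (hm : 1 ≤ m) (hK : Fintype.card K ^ m = q) : (∃ H : Subgroup (Matrix.ProjectiveSpecialLinearGroup (Fin 2) F), Nonempty (H ≃* Matrix.ProjectiveSpecialLinearGroup (Fin 2) K)) ∧ ((∃ H : Subgroup (Matrix.ProjectiveSpecialLinearGroup (Fin 2) F), Nonempty (H ≃* Matrix.ProjGenLinGroup (Fin 2) K)) ↔ Even m) := by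
  classical
  subst hF
  obtain ⟨ι⟩ := Cfsg.Agent.Lib.Helper18Field.exists_ringHom (K := K) (F := F) m hK
  have hdet : ∀ g : GL (Fin 2) K,
      ((GeneralLinearGroup.map ι g : GL (Fin 2) F) : Matrix (Fin 2) (Fin 2) F).det
        = ι ((g : Matrix (Fin 2) (Fin 2) K).det) := by
    intro g
    exact (RingHom.map_det ι _).symm
  refine ⟨?_, ?_, ?_⟩
  · refine exists_subgroup_of_range_le ProjectiveSpecialLinearGroup.toPGL
      ProjectiveSpecialLinearGroup.toPGL_injective
      ((ProjGenLinGroup.map (n := Fin 2) ι).comp ProjectiveSpecialLinearGroup.toPGL)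
      ((pgl_map_injective ι).comp ProjectiveSpecialLinearGroup.toPGL_injective) ?_
    rintro _ ⟨x, rfl⟩
    induction x using QuotientGroup.induction_on with | H A =>
    rw [MonoidHom.comp_apply, ProjectiveSpecialLinearGroup.toPGL_mk, map_mk]
    apply mem_range_toPGL
    rw [hdet]
    have : ((SpecialLinearGroup.toGL A : GL (Fin 2) K) : Matrix (Fin 2) (Fin 2) K).det = 1 := A.2
    rw [this, map_one]
    exact IsSquare.one
  · rintro ⟨H, ⟨e⟩⟩
    by_contra hne
    rw [Nat.not_even_iff_odd] at hne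
    have h1 : Nat.card H = Fintype.card K * (Fintype.card K ^ 2 - 1) := by
      rw [Nat.card_congr e.toEquiv, card_PGL_two]
    have h2 := Subgroup.card_subgroup_dvd_card H
    rw [h1] at h2
    have h3 := Cfsg.Agent.Lib.Helper7SL.card_PSL_two_mul_two (F := F) hodd
    rw [← hK] at h3
    have hkodd : Odd (Fintype.card K) := by
      by_contra h
      rw [Nat.not_odd_iff_even] at h
      have : Even (Fintype.card F) := by rw [← hK]; exact h.pow_of_ne_zero (by omega)
      exact (Nat.not_odd_iff_even.2 this) hodd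
    exact arith_odd _ m _ hkodd Fintype.one_lt_card hne h3 h2
  · intro hm2
    refine exists_subgroup_of_range_le ProjectiveSpecialLinearGroup.toPGL
      ProjectiveSpecialLinearGroup.toPGL_injective
      (ProjGenLinGroup.map (n := Fin 2) ι) (pgl_map_injective ι) ?_
    rintro _ ⟨x, rfl⟩
    induction x using Matrix.ProjGenLinGroup.induction_on with | mk g =>
    rw [map_mk]
    apply mem_range_toPGL
    rw [hdet]
    apply isSquare_of_even hodd m hm2 hK
    have := g.det.ne_zero
    simpa using this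

end Cfsg.Agent.S0805
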