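import Cfsg.Statements.S0804
import Mathlib
import Cfsg.Agent.Lib.Helper47Poly
import Cfsg.Agent.S0243

set_option autoImplicit false
open Cfsg

namespace Cfsg.Agent.S0804



section aux
open Cfsg.Agent.Lib.Helper47Poly

theorem exists_subgroup_A5 {G : Type*} [Group G] (a1 a2 a3 : G) (h1 : a1 ^ 3 = 1) (h2 : a2 ^ 2 = 1)
    (h3 : a3 ^ 2 = 1) (h12 : (a1⁻¹ * a2) ^ 3 = 1) (h13 : (a1⁻¹ * a3) ^ 2 = 1)
    (h23 : (a2⁻¹ * a3) ^ 3 = 1) (hne : a1 ≠ 1) :
    ∃ H : Subgroup G, Nonempty (H ≃* alternatingGroup (Fin 5)) := by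
  obtain ⟨φ, hm1, _, _⟩ := exists_altHom_five a1 a2 a3 h1 h2 h3 h12 h13 h23
  have hinj : Function.Injective φ := by
    rcases (MonoidHom.normal_ker φ).eq_bot_or_eq_top with h | h
    · exact (MonoidHom.ker_eq_bot_iff φ).mp h
    · exfalso
      obtain ⟨w, rfl⟩ := hm1
      have : w ∈ φ.ker := by rw [h]; trivial
      exact hne this
  exact ⟨φ.range, ⟨(MonoidHom.ofInjective hinj).symm⟩⟩

variable {F : Type*} [Field F]

theorem exists_A5_odd (φ a b h : F) (hφ : φ ^ 2 = φ + 1) (hab : a ^ 2 + b ^ 2 = -1) (hh : 2 * h = 1) :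
    ∃ H : Subgroup (Matrix.ProjectiveSpecialLinearGroup (Fin 2) F),
      Nonempty (H ≃* alternatingGroup (Fin 5)) := by
  have d1 : (h * (1 + a - b)) * (h * (1 - a + b)) - (h * (a + b - 1)) * (h * (a + b + 1)) = 1 := by
    linear_combination (-2 * h ^ 2) * hab + (2 * h + 1) * hh
  have d2 : (0 : F) * 0 - (-1) * 1 = 1 := by ring
  have d3 : (h * ((φ - 1) * a + φ * b)) * (-(h * ((φ - 1) * a + φ * b))) -
      (h * ((φ - 1) * b - φ * a - 1)) * (h * ((φ - 1) * b - φ * a + 1)) = 1 := by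
    linear_combination (-h ^ 2 * ((φ - 1) ^ 2 + φ ^ 2)) * hab + (2 * h ^ 2) * hφ + (2 * h + 1) * hh
  apply exists_subgroup_A5 (pr (mkSL _ _ _ _ d1)) (pr (mkSL _ _ _ _ d2)) (pr (mkSL _ _ _ _ d3))
  · apply pr_cube
    left
    linear_combination hh
  · apply pr_sq
    ring
  · apply pr_sq
    ring
  · rw [← map_inv, ← map_mul, mkSL_inv, mkSL_mul]
    apply pr_cube
    left
    linear_combination hh
  · rw [← map_inv, ← map_mul, mkSL_inv, mkSL_mul]
    apply pr_sq
    linear_combination (2 * h ^ 2) * hab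
  · rw [← map_inv, ← map_mul, mkSL_inv, mkSL_mul]
    apply pr_cube
    left
    linear_combination hh
  · rw [Ne, pr_eq_one_iff]
    rintro ⟨e1, e2, _⟩
    have : (1 : F) = 0 := by linear_combination e2 - e1 - hh
    exact one_ne_zero this

theorem exists_A5_two (φ : F) (hφ : φ ^ 2 = φ + 1) (h2 : (2 : F) = 0) :
    ∃ H : Subgroup (Matrix.ProjectiveSpecialLinearGroup (Fin 2) F),
      Nonempty (H ≃* alternatingGroup (Fin 5)) := by
  have d1 : (0 : F) * 1 - 1 * 1 = 1 := by linear_combination -h2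
  have d2 : (0 : F) * 0 - φ * (φ + 1) = 1 := by linear_combination -hφ - (φ + 1) * h2
  have d3 : (0 : F) * 0 - 1 * 1 = 1 := by linear_combination -h2
  apply exists_subgroup_A5 (pr (mkSL _ _ _ _ d1)) (pr (mkSL _ _ _ _ d2)) (pr (mkSL _ _ _ _ d3))
  · apply pr_cube
    left
    ring
  · apply pr_sq
    ring
  · apply pr_sq
    ring
  · rw [← map_inv, ← map_mul, mkSL_inv, mkSL_mul]
    apply pr_cube
    right
    linear_combination (-φ) * h2
  · rw [← map_inv, ← map_mul, mkSL_inv, mkSL_mul]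
    apply pr_sq
    linear_combination -h2
  · rw [← map_inv, ← map_mul, mkSL_inv, mkSL_mul]
    apply pr_cube
    right
    linear_combination (-φ) * h2
  · rw [Ne, pr_eq_one_iff]
    rintro ⟨e1, _, _⟩
    exact one_ne_zero e1

theorem exists_sq_add_sq [Fintype F] (hF : ringChar F ≠ 2) : ∃ a b : F, a ^ 2 + b ^ 2 = -1 := by
  have hodd : Fintype.card F % 2 = 1 := FiniteField.odd_card_of_char_ne_two hF
  obtain ⟨a, b, hab⟩ := FiniteField.exists_root_sum_quadratic (R := F)
    (f := Polynomial.X ^ 2) (g := Polynomial.X ^ 2 + 1) (by simp)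
    (by
      rw [Polynomial.degree_add_eq_left_of_degree_lt] <;> simp) hodd
  refine ⟨a, b, ?_⟩
  simp at hab
  linear_combination hab

local instance fact5 : Fact (Nat.Prime 5) := ⟨by norm_num⟩

theorem chi_aux : ∀ (y : ZMod 4) (x : ZMod 5), x * (x ^ 2 - 1) = 0 →
    quadraticChar (ZMod 5) (((ZMod.χ₄ y : ℤ) : ZMod 5) * x) ≠ -1 := by
  decide

theorem exists_golden_odd [Fintype F] (hF : ringChar F ≠ 2)
    (h5 : 5 ∣ Fintype.card F * (Fintype.card F ^ 2 - 1)) : ∃ φ : F, φ ^ 2 = φ + 1 := by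
  have hsq : IsSquare ((5 : ℕ) : F) := by
    rw [FiniteField.isSquare_odd_prime_iff hF (by norm_num)]
    apply chi_aux
    have h1 : ((Fintype.card F * (Fintype.card F ^ 2 - 1) : ℕ) : ZMod 5) = 0 :=
      (ZMod.natCast_eq_zero_iff _ _).mpr h5
    have hpos : 1 ≤ Fintype.card F ^ 2 := Nat.one_le_pow _ _ Fintype.card_pos
    rw [Nat.cast_mul, Nat.cast_sub hpos] at h1
    simpa using h1
  obtain ⟨s, hs⟩ := hsq
  have h2 : (2 : F) ≠ 0 := by
    intro h
    apply hF
    have : CharP F 2 := CharTwo.of_one_ne_zero_of_two_eq_zero one_ne_zero h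
    exact ringChar.eq F 2
  refine ⟨(1 + s) / 2, ?_⟩
  field_simp
  push_cast at hs
  linear_combination -hs

theorem exists_golden_two [Fintype F] (hF : ringChar F = 2)
    (h5 : 5 ∣ Fintype.card F * (Fintype.card F ^ 2 - 1)) : ∃ φ : F, φ ^ 2 = φ + 1 := by
  classical
  have : CharP F 2 := by
    rw [← hF]; exact ringChar.charP F
  have h2 : (2 : F) = 0 := CharTwo.two_eq_zero
  obtain ⟨n, hp, hn⟩ := FiniteField.card F 2
  have h3 : 3 ∣ Fintype.card F - 1 := by
    rw [hn] at h5 ⊢
    have hn_even : Even (n : ℕ) := by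
      by_contra hodd
      rw [Nat.not_even_iff_odd] at hodd
      obtain ⟨k, hk⟩ := hodd
      have h5' : (5 : ℕ) ∣ (2 ^ (n : ℕ)) ^ 2 - 1 := by
        rcases (Nat.Prime.dvd_mul (by norm_num)).mp h5 with h | h
        · have := Nat.Prime.dvd_of_dvd_pow (by norm_num) h
          omega
        · exact h
      rw [hk] at h5'
      have e : (2 ^ (2 * k + 1)) ^ 2 = 4 * 16 ^ k := by
        rw [← pow_mul, show (2 * k + 1) * 2 = 2 + 4 * k by ring, pow_add, pow_mul]
        norm_num
      rw [e] at h5'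
      have h16 : 16 ^ k % 5 = 1 := by
        rw [Nat.pow_mod]; simp
      have hpos : 1 ≤ 16 ^ k := Nat.one_le_pow _ _ (by norm_num)
      omega
    obtain ⟨k, hk⟩ := hn_even
    rw [hk, ← two_mul, pow_mul]
    norm_num
    have h4 : 4 ^ k % 3 = 1 := by
      rw [Nat.pow_mod]; simp
    have hpos : 1 ≤ 4 ^ k := Nat.one_le_pow _ _ (by norm_num)
    omega
  have : Fact (Nat.Prime 3) := ⟨by norm_num⟩
  have hcard : Fintype.card Fˣ = Fintype.card F - 1 := Fintype.card_units F
  obtain ⟨w, hw⟩ := exists_prime_orderOf_dvd_card (G := Fˣ) 3 (by rw [hcard]; exact h3)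
  have hw3 : (w : F) ^ 3 = 1 := by
    have := pow_orderOf_eq_one w
    rw [hw] at this
    have h' := congrArg Units.val this
    simpa using h'
  have hw1 : (w : F) ≠ 1 := by
    intro h
    have : w = 1 := Units.ext h
    rw [this, orderOf_one] at hw
    norm_num at hw
  refine ⟨(w : F), ?_⟩
  have hfac : ((w : F) - 1) * ((w : F) ^ 2 + w + 1) = 0 := by linear_combination hw3
  rcases mul_eq_zero.mp hfac with h | h
  · exact absurd (sub_eq_zero.mp h) hw1
  · linear_combination h - ((w : F) + 1) * h2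

end aux

/-- PSL_2(q) has a subgroup isomorphic to A_5 iff 5 ∣ q(q² − 1). -/
theorem result {F : Type*} [Field F] [Fintype F] {q : ℕ} (hF : Fintype.card F = q) : (∃ H : Subgroup (Matrix.ProjectiveSpecialLinearGroup (Fin 2) F), Nonempty (H ≃* alternatingGroup (Fin 5))) ↔ 5 ∣ q * (q ^ 2 - 1) := by
  subst hF
  constructor
  · rintro ⟨H, ⟨e⟩⟩
    have hcardH : Nat.card H = 60 := by
      rw [Nat.card_congr e.toEquiv]
      have := two_mul_nat_card_alternatingGroup (α := Fin 5)
      rw [Nat.card_eq_fintype_card (α := Equiv.Perm (Fin 5)), Fintype.card_perm, Fintype.card_fin] at this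
      have h5 : Nat.factorial 5 = 120 := by decide
      omega
    have hdvd : 60 ∣ Nat.card (Matrix.ProjectiveSpecialLinearGroup (Fin 2) F) := by
      rw [← hcardH]
      exact Subgroup.card_subgroup_dvd_card H
    have h := Cfsg.Agent.S0243.result (F := F) rfl 2 (le_refl 2)
    rw [Fin.prod_univ_two] at h
    simp only [Fin.val_zero, Fin.val_one, pow_zero, pow_one] at h
    have h5 : 5 ∣ (Fintype.card F ^ 2 - 1) * (Fintype.card F ^ 2 - Fintype.card F) := by
      rw [← h]
      apply Dvd.dvd.mul_left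
      apply Dvd.dvd.mul_left
      exact Dvd.dvd.trans (by norm_num) hdvd
    have hq : 1 ≤ Fintype.card F := Fintype.card_pos
    have e1 : Fintype.card F ^ 2 - Fintype.card F = Fintype.card F * (Fintype.card F - 1) := by
      rw [Nat.mul_sub, mul_one, sq]
    have e2 : Fintype.card F ^ 2 - 1 = (Fintype.card F + 1) * (Fintype.card F - 1) := by
      obtain ⟨k, hk⟩ : ∃ k, Fintype.card F = k + 1 := ⟨Fintype.card F - 1, by omega⟩
      rw [hk]
      simp only [Nat.add_sub_cancel]
      have : (k + 1) ^ 2 = (k + 1 + 1) * k + 1 := by ring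
      omega
    rcases (Nat.Prime.dvd_mul (by norm_num)).mp h5 with h | h
    · exact Dvd.dvd.mul_left h _
    · rw [e1] at h
      rcases (Nat.Prime.dvd_mul (by norm_num)).mp h with h | h
      · exact Dvd.dvd.mul_right h _
      · apply Dvd.dvd.mul_left
        rw [e2]
        exact Dvd.dvd.mul_left h _
  · intro h5
    by_cases hc : ringChar F = 2
    · obtain ⟨φ, hφ⟩ := exists_golden_two hc h5
      have : CharP F 2 := by
        rw [← hc]; exact ringChar.charP F
      exact exists_A5_two φ hφ CharTwo.two_eq_zero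
    · obtain ⟨φ, hφ⟩ := exists_golden_odd hc h5
      obtain ⟨a, b, hab⟩ := exists_sq_add_sq hc
      have h2 : (2 : F) ≠ 0 := by
        intro h
        apply hc
        have : CharP F 2 := CharTwo.of_one_ne_zero_of_two_eq_zero one_ne_zero h
        exact ringChar.eq F 2
      exact exists_A5_odd φ a b (1 / 2) hφ hab (by field_simp)

end Cfsg.Agent.S0804
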