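import Cfsg.Statements.S0803
import Mathlib
import Cfsg.Agent.Lib.Helper47Poly
import Cfsg.Agent.S0243

set_option autoImplicit false
open Cfsg

namespace Cfsg.Agent.S0803



section aux
open Cfsg.Agent.Lib.Helper47Poly Cfsg.Agent.Lib.Helper47AltHom

set_option maxRecDepth 100000 in
theorem normal_closure_S4 : ∀ σ : Equiv.Perm (Fin 4), σ ≠ 1 → ∃ τ ρ : Equiv.Perm (Fin 4),
    τ * σ * τ⁻¹ * (ρ * σ * ρ⁻¹) = Equiv.swap 0 1 * Equiv.swap 2 3 := by
  decide

theorem mul_pow_symm {G : Type*} [Group G] (x y : G) (hx : x ^ 2 = 1) (hy : y ^ 2 = 1) (m : ℕ)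
    (h : (x * y) ^ m = 1) : (y * x) ^ m = 1 := by
  have hx' : x⁻¹ = x := by
    rw [inv_eq_iff_mul_eq_one, ← pow_two, hx]
  have hy' : y⁻¹ = y := by
    rw [inv_eq_iff_mul_eq_one, ← pow_two, hy]
  have : y * x = (x * y)⁻¹ := by rw [mul_inv_rev, hx', hy']
  rw [this, inv_pow, h, inv_one]

theorem exists_subgroup_S4 {G : Type*} [Group G] (t1 t2 t3 : G) (h1 : t1 ^ 2 = 1) (h2 : t2 ^ 2 = 1)
    (h3 : t3 ^ 2 = 1) (h12 : (t1 * t2) ^ 3 = 1) (h13 : (t1 * t3) ^ 2 = 1)
    (h23 : (t2 * t3) ^ 3 = 1) (hne : t1 * t3 ≠ 1) :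
    ∃ H : Subgroup G, Nonempty (H ≃* Equiv.Perm (Fin 4)) := by
  obtain ⟨φ, hφ⟩ : ∃ φ : Equiv.Perm (Fin 4) →* G, ∀ i : Fin 3,
      φ (Equiv.swap i.castSucc i.succ) = (![t1, t2, t3] : Fin 3 → G) i :=
    exists_permHom 3 ![t1, t2, t3] (by
      intro i j
      rw [coxA3]
      have h12' := mul_pow_symm _ _ h1 h2 _ h12
      have h13' := mul_pow_symm _ _ h1 h3 _ h13
      have h23' := mul_pow_symm _ _ h2 h3 _ h23
      rw [pow_two] at h1 h2 h3
      fin_cases i <;> fin_cases j <;> simp <;> assumption)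
  have hinj : Function.Injective φ := by
    rw [injective_iff_map_eq_one]
    intro σ hσ
    by_contra hne1
    obtain ⟨τ, ρ, h⟩ := normal_closure_S4 σ hne1
    apply hne
    have e1 : φ (Equiv.swap 0 1) = t1 := hφ 0
    have e3 : φ (Equiv.swap 2 3) = t3 := hφ 2
    rw [← e1, ← e3, ← map_mul, ← h]
    simp [hσ]
  exact ⟨φ.range, ⟨(MonoidHom.ofInjective hinj).symm⟩⟩

variable {F : Type*} [Field F]

theorem exists_S4 (a b u : F) (hab : a ^ 2 + b ^ 2 = -1) (hu : 2 * u ^ 2 = 1) :
    ∃ H : Subgroup (Matrix.ProjectiveSpecialLinearGroup (Fin 2) F),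
      Nonempty (H ≃* Equiv.Perm (Fin 4)) := by
  have d1 : (u * a) * (u * (-a)) - (u * (b - 1)) * (u * (b + 1)) = 1 := by
    linear_combination (-u ^ 2) * hab + hu
  have d2 : (u * (a - b)) * (u * (b - a)) - (u * (a + b)) * (u * (a + b)) = 1 := by
    linear_combination (-2 * u ^ 2) * hab + hu
  have d3 : (u * (-a)) * (u * a) - (u * (-1 - b)) * (u * (1 - b)) = 1 := by
    linear_combination (-u ^ 2) * hab + hu
  have hu0 : u ≠ 0 := by
    rintro rfl
    simp at hu
  have h20 : (2 : F) ≠ 0 := by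
    intro h
    rw [h] at hu
    simp at hu
  apply exists_subgroup_S4 (pr (mkSL _ _ _ _ d1)) (pr (mkSL _ _ _ _ d2)) (pr (mkSL _ _ _ _ d3))
  · apply pr_sq
    ring
  · apply pr_sq
    ring
  · apply pr_sq
    ring
  · rw [← map_mul, mkSL_mul]
    apply pr_cube
    right
    linear_combination (2 * u ^ 2) * hab - hu
  · rw [← map_mul, mkSL_mul]
    apply pr_sq
    linear_combination (-2 * u ^ 2) * hab
  · rw [← map_mul, mkSL_mul]
    apply pr_cube
    left
    linear_combination (-2 * u ^ 2) * hab + hu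
  · rw [← map_mul, mkSL_mul, Ne, pr_eq_one_iff]
    rintro ⟨e1, _, e3⟩
    have ha : a = 0 := by
      have : (-2 * u ^ 2) * a = 0 := by linear_combination e1
      rcases mul_eq_zero.mp this with h | h
      · exfalso
        have : (1 : F) = 0 := by linear_combination -h - hu
        exact one_ne_zero this
      · exact h
    have hb : b = 0 := by
      have : (2 * (2 * u ^ 2)) * b = 0 := by linear_combination e3
      rw [hu, mul_one] at this
      rcases mul_eq_zero.mp this with h | h
      · exact absurd h h20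
      · exact h
    rw [ha, hb] at hab
    have : (1 : F) = 0 := by linear_combination hab
    exact one_ne_zero this

theorem no_order_four (h2 : (2 : F) = 0) (x : Matrix.ProjectiveSpecialLinearGroup (Fin 2) F)
    (hx : x ^ 4 = 1) : x ^ 2 = 1 := by
  obtain ⟨g, rfl⟩ := QuotientGroup.mk'_surjective _ x
  obtain ⟨a, b, c, d, h, rfl⟩ := exists_mkSL g
  change pr (mkSL a b c d h) ^ 4 = 1 at hx
  change pr (mkSL a b c d h) ^ 2 = 1
  apply pr_sq
  by_contra ht
  rw [show (4 : ℕ) = 2 * 2 by norm_num, pow_mul, ← map_pow, ← map_pow, pow_two, pow_two, mkSL_mul, mkSL_mul,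
    pr_eq_one_iff] at hx
  obtain ⟨e1, e2, e3⟩ := hx
  have ht3 : (a + d) ^ 3 ≠ 0 := pow_ne_zero _ ht
  have hb : b = 0 := by
    have : (a + d) ^ 3 * b = 0 := by linear_combination e1 + (2 * b * (a + d)) * h + b * (a + d) * h2
    exact (mul_eq_zero.mp this).resolve_left ht3
  have hc : c = 0 := by
    have : (a + d) ^ 3 * c = 0 := by linear_combination e2 + (2 * c * (a + d)) * h + c * (a + d) * h2
    exact (mul_eq_zero.mp this).resolve_left ht3
  have had : a - d = 0 := by
    have : (a + d) ^ 3 * (a - d) = 0 := by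
      linear_combination e3 + (2 * (a - d) * (a + d)) * h + (a - d) * (a + d) * h2
    exact (mul_eq_zero.mp this).resolve_left ht3
  apply ht
  linear_combination had + d * h2

theorem exists_sq_add_sq [Fintype F] (hF : ringChar F ≠ 2) : ∃ a b : F, a ^ 2 + b ^ 2 = -1 := by
  have hodd : Fintype.card F % 2 = 1 := FiniteField.odd_card_of_char_ne_two hF
  obtain ⟨a, b, hab⟩ := FiniteField.exists_root_sum_quadratic (R := F)
    (f := Polynomial.X ^ 2) (g := Polynomial.X ^ 2 + 1) (by simp)
    (by
      rw [Polynomial.degree_add_eq_left_of_degree_lt] <;> simp) hodd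
  refine ⟨a, b, ?_⟩
  simp at hab
  linear_combination hab

end aux

/-- PSL_2(q) has a subgroup isomorphic to S_4 iff q² ≡ 1 (mod 16). -/
theorem result {F : Type*} [Field F] [Fintype F] {q : ℕ} (hF : Fintype.card F = q) : (∃ H : Subgroup (Matrix.ProjectiveSpecialLinearGroup (Fin 2) F), Nonempty (H ≃* Equiv.Perm (Fin 4))) ↔ q ^ 2 % 16 = 1 := by
  subst hF
  constructor
  · rintro ⟨H, ⟨e⟩⟩
    by_cases hc : ringChar F = 2
    · exfalso
      have : CharP F 2 := by
        rw [← hc]; exact ringChar.charP F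
      let σ : Equiv.Perm (Fin 4) := finRotate 4
      have h4 : σ ^ 4 = 1 := by decide
      have h2 : σ ^ 2 ≠ 1 := by decide
      have hx4 : ((e.symm σ : H) : Matrix.ProjectiveSpecialLinearGroup (Fin 2) F) ^ 4 = 1 := by
        rw [← Subgroup.coe_pow, ← map_pow, h4, map_one, Subgroup.coe_one]
      have hx2 := no_order_four CharTwo.two_eq_zero _ hx4
      rw [← Subgroup.coe_pow, ← map_pow] at hx2
      have hx2' : e.symm (σ ^ 2) = 1 := Subtype.ext hx2
      rw [map_eq_one_iff _ e.symm.injective] at hx2'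
      exact h2 hx2'
    · have hodd : Fintype.card F % 2 = 1 := FiniteField.odd_card_of_char_ne_two hc
      have hcardH : Nat.card H = 24 := by
        rw [Nat.card_congr e.toEquiv, Nat.card_eq_fintype_card, Fintype.card_perm, Fintype.card_fin]
        decide
      have hdvd : 24 ∣ Nat.card (Matrix.ProjectiveSpecialLinearGroup (Fin 2) F) := by
        rw [← hcardH]
        exact Subgroup.card_subgroup_dvd_card H
      have h := Cfsg.Agent.S0243.result (F := F) rfl 2 (le_refl 2)
      rw [Fin.prod_univ_two] at h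
      simp only [Fin.val_zero, Fin.val_one, pow_zero, pow_one] at h
      obtain ⟨k, hk⟩ : ∃ k, Fintype.card F = 2 * k + 1 := ⟨Fintype.card F / 2, by omega⟩
      obtain ⟨N, hN⟩ := hdvd
      rw [hN, hk] at h
      rw [hk]
      have hg : Nat.gcd 2 (2 * k + 1 - 1) = 2 := by
        simp
      rw [hg] at h
      have hk0 : 0 < k := by
        rcases Nat.eq_zero_or_pos k with rfl | h0
        · have := Fintype.one_lt_card (α := F)
          omega
        · exact h0
      have e1 : (2 * k + 1) ^ 2 - 1 = 4 * (k * (k + 1)) := by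
        have : (2 * k + 1) ^ 2 = 4 * (k * (k + 1)) + 1 := by ring
        omega
      have e2 : (2 * k + 1) ^ 2 - (2 * k + 1) = (2 * k + 1) * (2 * k) := by
        have : (2 * k + 1) ^ 2 = (2 * k + 1) * (2 * k) + (2 * k + 1) := by ring
        omega
      rw [e1, e2, show 2 * k + 1 - 1 = 2 * k by omega] at h
      -- 2 * (2k * 24 N) = 4 k (k+1) (2k+1) 2k
      have h' : 12 * N = (k * (k + 1)) * (2 * k + 1) := by
        have : (8 * k) * (12 * N) = (8 * k) * ((k * (k + 1)) * (2 * k + 1)) := by
          linarith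
        exact Nat.eq_of_mul_eq_mul_left (by omega) this
      have h4 : 4 ∣ k * (k + 1) := by
        have h4' : 4 ∣ (k * (k + 1)) * (2 * k + 1) := ⟨3 * N, by omega⟩
        have hcop : Nat.Coprime 4 (2 * k + 1) := by
          have : Nat.Coprime 2 (2 * k + 1) := by simp
          exact Nat.Coprime.pow_left 2 this
        exact hcop.dvd_of_dvd_mul_right h4'
      obtain ⟨m, hm⟩ := h4
      have : (2 * k + 1) ^ 2 = 16 * m + 1 := by
        have : (2 * k + 1) ^ 2 = 4 * (k * (k + 1)) + 1 := by ring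
        omega
      omega
  · intro h16
    have hq8 : Fintype.card F % 8 = 1 ∨ Fintype.card F % 8 = 7 := by
      have h1 : Fintype.card F ^ 2 % 16 = (Fintype.card F % 16) ^ 2 % 16 := by
        rw [Nat.pow_mod]
      rw [h1] at h16
      have hlt : Fintype.card F % 16 < 16 := Nat.mod_lt _ (by norm_num)
      have h8 : Fintype.card F % 8 = (Fintype.card F % 16) % 8 := by omega
      rw [h8]
      generalize Fintype.card F % 16 = r at h16 hlt
      interval_cases r <;> simp_all
    have hc : ringChar F ≠ 2 := by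
      intro hc
      have := FiniteField.even_card_of_char_two hc
      omega
    have hsq : IsSquare (2 : F) := by
      rw [FiniteField.isSquare_two_iff]
      omega
    obtain ⟨s, hs⟩ := hsq
    obtain ⟨a, b, hab⟩ := exists_sq_add_sq hc
    have h2 : (2 : F) ≠ 0 := by
      intro h
      apply hc
      have : CharP F 2 := CharTwo.of_one_ne_zero_of_two_eq_zero one_ne_zero h
      exact ringChar.eq F 2
    have hs0 : s ≠ 0 := by
      rintro rfl
      simp at hs
      exact h2 hs
    refine exists_S4 a b (1 / s) hab ?_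
    field_simp
    linear_combination hs

end Cfsg.Agent.S0803
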