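import Cfsg.Statements.S0802
import Mathlib
import Cfsg.Agent.Lib.Helper47Poly
import Cfsg.Agent.S0804

set_option autoImplicit false
open Cfsg

namespace Cfsg.Agent.S0802



section aux
open Cfsg.Agent.Lib.Helper47Poly Cfsg.Agent.Lib.Helper47AltHom

/-- the double transposition. -/
def vv : alternatingGroup (Fin 4) := ⟨Equiv.swap 0 1 * Equiv.swap 2 3, by
  rw [Equiv.Perm.mem_alternatingGroup]; decide⟩

/-- a three-cycle. -/
def cc : alternatingGroup (Fin 4) := ⟨Equiv.swap 0 1 * Equiv.swap 1 2, by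
  rw [Equiv.Perm.mem_alternatingGroup]; decide⟩

set_option maxRecDepth 100000 in
theorem normal_closure_A4 : ∀ σ : alternatingGroup (Fin 4), σ ≠ 1 → ∃ τ ρ : alternatingGroup (Fin 4),
    ρ * (τ * σ * τ⁻¹ * σ⁻¹) * ρ⁻¹ = vv := by
  decide

theorem exists_subgroup_A4 {G : Type*} [Group G] (a1 a2 : G) (h1 : a1 ^ 3 = 1) (h2 : a2 ^ 2 = 1)
    (h12 : (a1⁻¹ * a2) ^ 3 = 1) (hne : a2 ≠ 1) :
    ∃ H : Subgroup G, Nonempty (H ≃* alternatingGroup (Fin 4)) := by
  obtain ⟨φ, hφ⟩ : ∃ φ : alternatingGroup (Fin 4) →* G, ∀ (i : Fin 3)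
      (h : Equiv.swap (0 : Fin 4) 1 * Equiv.swap i.castSucc i.succ ∈ alternatingGroup (Fin 4)),
      φ ⟨Equiv.swap (0 : Fin 4) 1 * Equiv.swap i.castSucc i.succ, h⟩ = (![1, a1, a2] : Fin 3 → G) i :=
    exists_altHom 2 ![1, a1, a2] rfl (by
      intro i j
      rw [coxA3]
      have h1' := inv_mul_pow_symm 1 a1 3 (by simpa using h1)
      have h2' := inv_mul_pow_symm 1 a2 2 (by simpa using h2)
      have h12' := inv_mul_pow_symm _ _ _ h12
      fin_cases i <;> fin_cases j <;> simp <;> assumption)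
  have hv : φ vv = a2 := hφ 2 vv.2
  have hinj : Function.Injective φ := by
    rw [injective_iff_map_eq_one]
    intro σ hσ
    by_contra hne1
    obtain ⟨τ, ρ, h⟩ := normal_closure_A4 σ hne1
    apply hne
    rw [← hv, ← h]
    simp [hσ]
  exact ⟨φ.range, ⟨(MonoidHom.ofInjective hinj).symm⟩⟩

variable {F : Type*} [Field F]

theorem exists_A4_odd (a b h : F) (hab : a ^ 2 + b ^ 2 = -1) (hh : 2 * h = 1) :
    ∃ H : Subgroup (Matrix.ProjectiveSpecialLinearGroup (Fin 2) F),
      Nonempty (H ≃* alternatingGroup (Fin 4)) := by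
  have d1 : (h * (1 + a - b)) * (h * (1 - a + b)) - (h * (a + b - 1)) * (h * (a + b + 1)) = 1 := by
    linear_combination (-2 * h ^ 2) * hab + (2 * h + 1) * hh
  have d2 : (0 : F) * 0 - (-1) * 1 = 1 := by ring
  apply exists_subgroup_A4 (pr (mkSL _ _ _ _ d1)) (pr (mkSL _ _ _ _ d2))
  · apply pr_cube
    left
    linear_combination hh
  · apply pr_sq
    ring
  · rw [← map_inv, ← map_mul, mkSL_inv, mkSL_mul]
    apply pr_cube
    left
    linear_combination hh
  · rw [Ne, pr_eq_one_iff]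
    rintro ⟨_, e2, _⟩
    exact one_ne_zero e2

theorem exists_A4_two (φ : F) (hφ : φ ^ 2 = φ + 1) (h2 : (2 : F) = 0) :
    ∃ H : Subgroup (Matrix.ProjectiveSpecialLinearGroup (Fin 2) F),
      Nonempty (H ≃* alternatingGroup (Fin 4)) := by
  have d1 : φ * (φ + 1) - 0 * 0 = 1 := by linear_combination hφ + φ * h2
  have d2 : (1 : F) * 1 - 1 * 0 = 1 := by ring
  apply exists_subgroup_A4 (pr (mkSL _ _ _ _ d1)) (pr (mkSL _ _ _ _ d2))
  · apply pr_cube
    left
    linear_combination φ * h2
  · apply pr_sq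
    linear_combination h2
  · rw [← map_inv, ← map_mul, mkSL_inv, mkSL_mul]
    apply pr_cube
    left
    linear_combination φ * h2
  · rw [Ne, pr_eq_one_iff]
    rintro ⟨e1, _, _⟩
    exact one_ne_zero e1

theorem trace_of_sq (a b c d : F) (h) (h1 : pr (mkSL a b c d h) ^ 2 = 1) (hne : pr (mkSL a b c d h) ≠ 1) :
    a + d = 0 := by
  rw [← map_pow, pow_two, mkSL_mul, pr_eq_one_iff] at h1
  rw [Ne, pr_eq_one_iff] at hne
  by_contra ht
  obtain ⟨e1, e2, e3⟩ := h1
  apply hne
  refine ⟨?_, ?_, ?_⟩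
  · have : (a + d) * b = 0 := by linear_combination e1
    exact (mul_eq_zero.mp this).resolve_left ht
  · have : (a + d) * c = 0 := by linear_combination e2
    exact (mul_eq_zero.mp this).resolve_left ht
  · have : (a + d) * (a - d) = 0 := by linear_combination e3
    exact sub_eq_zero.mp ((mul_eq_zero.mp this).resolve_left ht)

theorem trace_of_cube (h2 : (2 : F) = 0) (a b c d : F) (h) (h1 : pr (mkSL a b c d h) ^ 3 = 1)
    (hne : pr (mkSL a b c d h) ≠ 1) : a + d = 1 := by
  rw [← map_pow, pow_succ, pow_two, mkSL_mul, mkSL_mul, pr_eq_one_iff] at h1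
  rw [Ne, pr_eq_one_iff] at hne
  by_contra ht
  have ht' : (a + d - 1) ^ 2 ≠ 0 := pow_ne_zero _ (sub_ne_zero.mpr ht)
  obtain ⟨e1, e2, e3⟩ := h1
  apply hne
  refine ⟨?_, ?_, ?_⟩
  · have : (a + d - 1) ^ 2 * b = 0 := by linear_combination e1 + b * h + (b - (a + d) * b) * h2
    exact (mul_eq_zero.mp this).resolve_left ht'
  · have : (a + d - 1) ^ 2 * c = 0 := by linear_combination e2 + c * h + (c - (a + d) * c) * h2
    exact (mul_eq_zero.mp this).resolve_left ht'
  · have : (a + d - 1) ^ 2 * (a - d) = 0 := by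
      linear_combination e3 + (a - d) * h + ((a - d) - (a + d) * (a - d)) * h2
    exact sub_eq_zero.mp ((mul_eq_zero.mp this).resolve_left ht')

theorem exists_omega (h2 : (2 : F) = 0) (x c : Matrix.ProjectiveSpecialLinearGroup (Fin 2) F)
    (hx2 : x ^ 2 = 1) (hx : x ≠ 1) (hc3 : c ^ 3 = 1) (hc : c ≠ 1) (hxc3 : (x * c) ^ 3 = 1)
    (hxc : x * c ≠ 1) : ∃ ω : F, ω ^ 2 + ω + 1 = 0 := by
  obtain ⟨X, rfl⟩ := QuotientGroup.mk'_surjective _ x
  obtain ⟨C, rfl⟩ := QuotientGroup.mk'_surjective _ c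
  obtain ⟨a, b, c, d, h, rfl⟩ := exists_mkSL X
  obtain ⟨e, f, g, k, h', rfl⟩ := exists_mkSL C
  change pr (mkSL a b c d h) ^ 2 = 1 at hx2
  change pr (mkSL a b c d h) ≠ 1 at hx
  change pr (mkSL e f g k h') ^ 3 = 1 at hc3
  change pr (mkSL e f g k h') ≠ 1 at hc
  change (pr (mkSL a b c d h) * pr (mkSL e f g k h')) ^ 3 = 1 at hxc3
  change pr (mkSL a b c d h) * pr (mkSL e f g k h') ≠ 1 at hxc
  rw [← map_mul, mkSL_mul] at hxc3 hxc
  have t1 := trace_of_sq _ _ _ _ _ hx2 hx
  have t2 := trace_of_cube h2 _ _ _ _ _ hc3 hc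
  have t3 := trace_of_cube h2 _ _ _ _ _ hxc3 hxc
  have hd : d = -a := by linear_combination t1
  have hk : k = 1 - e := by linear_combination t2
  subst hd hk
  by_cases hc0 : c = 0
  · subst hc0
    have ha : a + 1 = 0 := by
      have : (a + 1) ^ 2 = 0 := by linear_combination -h + a * h2
      exact pow_eq_zero_iff (by norm_num) |>.mp this
    have hb : b ≠ 0 := by
      intro hb
      apply hx
      rw [pr_eq_one_iff]
      exact ⟨hb, rfl, by linear_combination a * h2⟩
    have hg : g = 0 := by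
      have : b * g = 0 := by linear_combination t3 + ha - a * e * h2
      exact (mul_eq_zero.mp this).resolve_left hb
    subst hg
    exact ⟨e, by linear_combination -h' + e * h2⟩
  · refine ⟨(g * (a + 1) + e * c) / c, ?_⟩
    have hN : (g * (a + 1) + e * c) ^ 2 + (g * (a + 1) + e * c) * c + c ^ 2 = 0 := by
      linear_combination (-g ^ 2) * h + (-c ^ 2) * h' + (-g * c) * t3 +
        (a * e * g * c + a * g ^ 2 + g * (a + 1) * e * c + e * c ^ 2) * h2
    field_simp
    linear_combination hN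

end aux

/-- PSL_2(p^n) has a subgroup isomorphic to A_4 if and only if it is not the case that p = 2 and n is odd. -/
theorem result {F : Type*} [Field F] [Fintype F] (p n : ℕ) [Fact p.Prime] [CharP F p] (hF : Fintype.card F = p ^ n) : (∃ H : Subgroup (Matrix.ProjectiveSpecialLinearGroup (Fin 2) F), Nonempty (H ≃* alternatingGroup (Fin 4))) ↔ ¬ (p = 2 ∧ Odd n) := by
  classical
  constructor
  · rintro ⟨H, ⟨e⟩⟩ ⟨rfl, hn⟩
    have h2 : (2 : F) = 0 := CharTwo.two_eq_zero
    let ψ : alternatingGroup (Fin 4) →* Matrix.ProjectiveSpecialLinearGroup (Fin 2) F :=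
      H.subtype.comp e.symm.toMonoidHom
    have hψ : Function.Injective ψ := H.subtype_injective.comp e.symm.injective
    have hne : ∀ σ, σ ≠ 1 → ψ σ ≠ 1 := by
      intro σ hσ h
      exact hσ (hψ (by rw [h, map_one]))
    obtain ⟨ω, hω⟩ := exists_omega h2 (ψ vv) (ψ cc)
      (by rw [← map_pow, show vv ^ 2 = 1 by decide, map_one]) (hne _ (by decide))
      (by rw [← map_pow, show cc ^ 3 = 1 by decide, map_one]) (hne _ (by decide))
      (by rw [← map_mul, ← map_pow, show (vv * cc) ^ 3 = 1 by decide, map_one])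
      (by rw [← map_mul]; exact hne _ (by decide))
    have hω0 : ω ≠ 0 := by
      rintro rfl
      simp at hω
    have hω3 : ω ^ 3 = 1 := by linear_combination (ω - 1) * hω
    have hω1 : ω ≠ 1 := by
      rintro rfl
      have : (1 : F) = 0 := by linear_combination hω - h2
      exact one_ne_zero this
    have hord : orderOf (Units.mk0 ω hω0) = 3 := by
      apply orderOf_eq_prime
      · apply Units.ext
        simpa using hω3
      · intro h
        apply hω1
        simpa using congrArg Units.val h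
    have hdvd : 3 ∣ Fintype.card Fˣ := by
      rw [← hord]
      exact orderOf_dvd_card
    rw [Fintype.card_units, hF] at hdvd
    obtain ⟨k, rfl⟩ := hn
    have e1 : 2 ^ (2 * k + 1) = 2 * 4 ^ k := by
      rw [pow_succ, pow_mul]
      norm_num
      ring
    rw [e1] at hdvd
    have h4 : 4 ^ k % 3 = 1 := by
      rw [Nat.pow_mod]; simp
    have hpos : 1 ≤ 4 ^ k := Nat.one_le_pow _ _ (by norm_num)
    omega
  · intro hpn
    by_cases hp : p = 2
    · subst hp
      have hn : Even n := by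
        rw [← Nat.not_odd_iff_even]
        exact fun h => hpn ⟨rfl, h⟩
      have hc : ringChar F = 2 := ringChar.eq F 2
      obtain ⟨k, rfl⟩ := hn
      obtain ⟨φ, hφ⟩ := Cfsg.Agent.S0804.exists_golden_two hc (by
        rw [hF]
        apply Dvd.dvd.mul_left
        rw [← pow_mul, show (k + k) * 2 = 4 * k by ring, pow_mul]
        norm_num
        have h16 : 16 ^ k % 5 = 1 := by
          rw [Nat.pow_mod]; simp
        have hpos : 1 ≤ 16 ^ k := Nat.one_le_pow _ _ (by norm_num)
        omega)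
      exact exists_A4_two φ hφ CharTwo.two_eq_zero
    · have hc : ringChar F ≠ 2 := by
        rw [ringChar.eq F p]
        exact hp
      obtain ⟨a, b, hab⟩ := Cfsg.Agent.S0804.exists_sq_add_sq hc
      have h2 : (2 : F) ≠ 0 := by
        intro h
        apply hc
        have : CharP F 2 := CharTwo.of_one_ne_zero_of_two_eq_zero one_ne_zero h
        exact ringChar.eq F 2
      exact exists_A4_odd a b (1 / 2) hab (by field_simp)

end Cfsg.Agent.S0802
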