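import Cfsg.Statements.S0494
import Cfsg.Agent.Lib.Helper11Counting
import Cfsg.Agent.S0991

set_option autoImplicit false
open Cfsg

namespace Cfsg.Agent.S0494

/-- A simple group of order 60 is isomorphic to the alternating group of degree 5. -/
theorem result {G : Type*} [Group G] [Finite G] [IsSimpleGroup G]
    (h : Nat.card G = 60) : Nonempty (G ≃* alternatingGroup (Fin 5)) := by
  have hG : ¬ IsMulCommutative G := by
    intro hc
    obtain ⟨x, hx⟩ := exists_prime_orderOf_dvd_card' (G := G) 2 (by rw [h]; norm_num)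
    have hn : (Subgroup.zpowers x).Normal := by
      refine ⟨fun n hn g => ?_⟩
      have : g * n * g⁻¹ = n := by
        rw [hc.is_comm.comm g n]; group
      rwa [this]
    have hcard : Nat.card (Subgroup.zpowers x) = 2 := by rw [Nat.card_zpowers, hx]
    rcases hn.eq_bot_or_eq_top with h1 | h1
    · rw [h1, Subgroup.card_bot] at hcard; norm_num at hcard
    · rw [h1, Subgroup.card_top, h] at hcard; norm_num at hcard
  have hF : ¬ Lib.Helper11Frobenius.FrobCond 2 G := by
    intro hF
    obtain ⟨N, hN, h1, k, hk⟩ := Lib.Helper11Frobenius.frobenius hF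
    rcases hN.eq_bot_or_eq_top with rfl | rfl
    · rw [Subgroup.index_bot, h] at hk
      have h3 : 3 ∣ 2 ^ k := by rw [← hk]; norm_num
      have := Nat.prime_three.dvd_of_dvd_pow h3
      norm_num at this
    · rw [Subgroup.card_top, h] at h1
      norm_num at h1
  unfold Lib.Helper11Frobenius.FrobCond at hF
  push Not at hF
  obtain ⟨Q, hQ, g, hgN, hgp, hgC⟩ := hF
  obtain ⟨b, hb⟩ := IsPGroup.iff_card.mp hQ
  have hbd : 2 ^ b ∣ 60 := by rw [← hb, ← h]; exact Subgroup.card_subgroup_dvd_card Q
  have hb2 : b ≤ 2 := by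
    by_contra hcon
    push Not at hcon
    have : 2 ^ 3 ∣ 60 := (pow_dvd_pow 2 hcon).trans hbd
    norm_num at this
  obtain ⟨r, hrp, hrd, d, hd1, hdb, hr⟩ :=
    Lib.Helper11Counting.exists_prime_dvd_pow_sub_one Q b hb g hgp hgN hgC
  have hd : d = 1 ∨ d = 2 := by omega
  have hd2 : d = 2 := by
    rcases hd with rfl | rfl
    · norm_num at hr
      exact absurd hr hrp.one_lt.ne'
    · rfl
  subst hd2
  have hb2' : b = 2 := by omega
  subst hb2'
  have hr3 : r = 3 := (Nat.prime_dvd_prime_iff_eq hrp (by norm_num)).mp (by simpa using hr)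
  subst hr3
  set N := Subgroup.normalizer (Q : Set G) with hN
  have h4 : 4 ∣ Nat.card N := by
    have : Nat.card Q ∣ Nat.card N := Subgroup.card_dvd_of_le Subgroup.le_normalizer
    rwa [hb] at this
  have h3 : 3 ∣ Nat.card N := by
    have : orderOf (⟨g, hgN⟩ : N) ∣ Nat.card N := orderOf_dvd_natCard _
    rw [Subgroup.orderOf_mk] at this
    exact hrd.trans this
  have h12 : 12 ∣ Nat.card N := Nat.Coprime.mul_dvd_of_dvd_of_dvd (by norm_num : Nat.Coprime 4 3) h4 h3
  have hidx : N.index = 5 := by
    have h5 := N.card_mul_index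
    rw [h] at h5
    obtain ⟨c, hc⟩ := h12
    rw [hc] at h5
    have h6 : c * N.index = 5 := by nlinarith
    have h7 : N.index ∣ 5 := Dvd.intro_left _ h6
    rcases (Nat.dvd_prime (by norm_num : Nat.Prime 5)).mp h7 with h8 | h8
    · exfalso
      rw [Subgroup.index_eq_one, hN, Subgroup.normalizer_eq_top_iff] at h8
      rcases h8.eq_bot_or_eq_top with h9 | h9
      · rw [h9, Subgroup.card_bot] at hb; norm_num at hb
      · rw [h9, Subgroup.card_top, h] at hb; norm_num at hb
    · exact h8
  have hemb := S0991.result hG N (by intro h9; rw [h9, Subgroup.index_top] at hidx; norm_num at hidx)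
  rw [hidx] at hemb
  obtain ⟨f, hf⟩ := hemb
  have hcardA : Nat.card (alternatingGroup (Fin 5)) = 60 := by
    have := two_mul_card_alternatingGroup (α := Fin 5)
    rw [Fintype.card_perm, Fintype.card_fin] at this
    rw [Nat.card_eq_fintype_card]
    have h120 : Nat.factorial 5 = 120 := rfl
    omega
  have hbij : Function.Bijective f := by
    rw [Nat.bijective_iff_injective_and_card]
    exact ⟨hf, by rw [h, hcardA]⟩
  exact ⟨MulEquiv.ofBijective f hbij⟩

end Cfsg.Agent.S0494
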