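import Cfsg.Statements.S4750
import Cfsg.Agent.Lib.Helper82TIChar
import Cfsg.Agent.Lib.Helper82Mult
import Cfsg.Agent.Lib.Helper4Char4

set_option autoImplicit false
open scoped Pointwise
open Cfsg

namespace Cfsg.Agent.S4750

open Cfsg.Agent.Lib.Helper82TI Cfsg.Agent.Lib.Helper82TIChar Cfsg.Agent.Lib.Helper82Irr
  Cfsg.Agent.Lib.Helper82Linear Cfsg.Agent.Lib.Helper82Mult Cfsg.Agent.Lib.Helper4Char
  Cfsg.Agent.Lib.Helper4Char4
open scoped ComplexConjugate

theorem classInner_self_eq {K : Type*} [Group K] [Fintype K] (χ : K → ℂ) :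
    Cfsg.classInner χ χ = Cfsg.classInner (fun g => χ g * conj (χ g)) (fun _ => 1) := by
  simp [Cfsg.classInner]

theorem eq_zero_of_classInner_self {K : Type*} [Group K] [Fintype K] (χ : K → ℂ)
    (h : Cfsg.classInner χ χ = 0) : χ = 0 := by
  unfold Cfsg.classInner at h
  have h1 : ∑ g : K, χ g * conj (χ g) = 0 := by
    rcases mul_eq_zero.mp h with h | h
    · exact absurd (inv_eq_zero.mp h) card_ne_zero
    · exact h
  have h2 : ∑ g : K, Complex.normSq (χ g) = 0 := by
    have : ((∑ g : K, Complex.normSq (χ g) : ℝ) : ℂ) = 0 := by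
      rw [← h1]
      push_cast
      exact Finset.sum_congr rfl fun g _ => (Complex.mul_conj _).symm
    exact_mod_cast this
  funext g
  have := (Finset.sum_eq_zero_iff_of_nonneg (fun g _ => Complex.normSq_nonneg (χ g))).mp h2 g
    (Finset.mem_univ g)
  exact Complex.normSq_eq_zero.mp this

/-- Let P be a Sylow p-subgroup of the finite group G that meets each conjugate g P g⁻¹ with g outside N_G(P) trivially, χ a character of G with χ(1)² ≤ |P|, and H a subgroup of G containing N_G(P). Then the inner product of χ with itself over G equals the inner product over H of the restriction of χ to H. -/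
theorem result {G : Type*} [Group G] [Fintype G] [DecidableEq G] (p : ℕ) [Fact p.Prime] (P : Sylow p G) (hTI : ∀ g : G, g ∉ Subgroup.normalizer ((P : Subgroup G) : Set G) → (P : Subgroup G) ⊓ (MulAut.conj g • (P : Subgroup G)) = ⊥) (χ : G → ℂ) (hχ : Cfsg.IsCharacter G χ) (hdeg : Cfsg.charDegree χ ^ 2 ≤ Nat.card ↥(P : Subgroup G)) (H : Subgroup G) [Fintype ↥H] (hH : Subgroup.normalizer ((P : Subgroup G) : Set G) ≤ H) : Cfsg.classInner χ χ = Cfsg.classInner (fun h : ↥H => χ h) (fun h : ↥H => χ h) := by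
  classical
  by_cases h0 : Cfsg.classInner χ χ = 0
  · have := eq_zero_of_classInner_self χ h0
    subst this
    simp [Cfsg.classInner]
  have hψ : Cfsg.IsCharacter G (χ * fun g => conj (χ g)) := IsCharacter.mul hχ (IsCharacter.conj hχ)
  obtain ⟨m, hm, hsum⟩ := exists_mult hψ
  have hd := degree_eq_sum_mult hψ m hsum
  have hdψ : Cfsg.charDegree (χ * fun g => conj (χ g)) = Cfsg.charDegree χ ^ 2 := by
    have : ((Cfsg.charDegree (χ * fun g => conj (χ g)) : ℕ) : ℂ) = ((Cfsg.charDegree χ ^ 2 : ℕ) : ℂ) := by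
      rw [charDegree_cast hψ]
      push_cast
      rw [Pi.mul_apply, ← charDegree_cast hχ]
      simp [sq]
    exact_mod_cast this
  have hL : Cfsg.classInner χ χ = m (irrOne G) := by
    rw [classInner_self_eq, ← hm]
    rfl
  have hm1 : m (irrOne G) ≠ 0 := by
    intro h
    apply h0
    rw [hL, h]
    simp
  rw [hL, classInner_self_eq]
  have hres : (fun h : H => χ h * conj (χ h)) =
      ∑ θ : Cfsg.IrrCharacter G, (m θ : ℂ) • (fun h : H => (θ : G → ℂ) h) := by
    funext h
    have := congrFun hsum (h : G)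
    rw [Pi.mul_apply] at this
    rw [this]
    simp [Finset.sum_apply]
  rw [hres, classInner_sum_left, Finset.sum_eq_single (irrOne G)]
  · rw [classInner_smul_left]
    have : Cfsg.classInner (fun h : H => ((irrOne G : Cfsg.IrrCharacter G) : G → ℂ) h) (fun _ => 1) = 1 :=
      classInner_irr_self (isIrrCharacter_one (G := H))
    rw [this, mul_one]
  · intro θ _ hθ
    rw [classInner_smul_left]
    by_cases hmθ : m θ = 0
    · rw [hmθ]; simp
    by_contra hne
    have hne' : Cfsg.classInner (fun h : H => (θ : G → ℂ) h) (fun _ => 1) ≠ 0 := by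
      intro h
      apply hne
      rw [h, mul_zero]
    have hθ1 : (θ : G → ℂ) ≠ fun _ => 1 := by
      intro h
      apply hθ
      exact Subtype.ext h
    have hge := degree_ge p (P : Subgroup G) H P.2 (Subgroup.le_normalizer.trans hH)
      (free_of_TI p P hTI H hH) θ hθ1 hne'
    have h2 : m (irrOne G) * Cfsg.charDegree ((irrOne G : Cfsg.IrrCharacter G) : G → ℂ) +
        m θ * Cfsg.charDegree (θ : G → ℂ) ≤
        ∑ χ : Cfsg.IrrCharacter G, m χ * Cfsg.charDegree (χ : G → ℂ) := by
      rw [← Finset.sum_pair (f := fun χ : Cfsg.IrrCharacter G => m χ * Cfsg.charDegree (χ : G → ℂ))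
        (Ne.symm hθ)]
      exact Finset.sum_le_sum_of_subset (Finset.subset_univ _)
    have h3 : 1 ≤ m (irrOne G) * Cfsg.charDegree ((irrOne G : Cfsg.IrrCharacter G) : G → ℂ) :=
      Nat.mul_pos (Nat.pos_of_ne_zero hm1) (irr_charDegree_pos _)
    have h4 : Cfsg.charDegree (θ : G → ℂ) ≤ m θ * Cfsg.charDegree (θ : G → ℂ) :=
      Nat.le_mul_of_pos_left _ (Nat.pos_of_ne_zero hmθ)
    omega
  · intro h
    exact absurd (Finset.mem_univ _) h

end Cfsg.Agent.S4750
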