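import Cfsg.Statements.S0165
import Cfsg.Agent.Lib.Helper4Char3
import Cfsg.Agent.Lib.Helper81ClassMul

set_option autoImplicit false
open Cfsg

namespace Cfsg.Agent.S0165

/-- If p ^ n is the exact power of the prime p dividing the order of a finite group and p ^ n divides the degree of an irreducible complex representation, then its character vanishes at every element of order divisible by p. -/
theorem result {G : Type*} [Group G] [Finite G] {V : Type*} [AddCommGroup V] [Module ℂ V] [FiniteDimensional ℂ V] (ρ : Representation ℂ G V) [ρ.IsIrreducible] (p n : ℕ) (hp : p.Prime) (hn : p ^ n ∣ Nat.card G) (hn' : ¬ p ^ (n + 1) ∣ Nat.card G) (hdeg : p ^ n ∣ Module.finrank ℂ V) (x : G) (hx : p ∣ orderOf x) : ρ.character x = 0 := by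
  classical
  cases nonempty_fintype G
  obtain ⟨M, hM⟩ := Cfsg.Agent.Lib.Helper81ClassMul.exists_modular hp
  let χ : Cfsg.IrrCharacter G := ⟨ρ.character, Cfsg.Agent.Lib.Helper4Char.isIrrCharacter_of_rep ρ⟩
  have hdeg0 : ((Cfsg.charDegree (χ : G → ℂ) : ℕ) : ℂ) = (Module.finrank ℂ V : ℂ) := by
    rw [Cfsg.Agent.Lib.Helper81Base.charDegree_eq]
    exact Representation.char_one ρ
  have hdeg1 : Cfsg.charDegree (χ : G → ℂ) = Module.finrank ℂ V := by exact_mod_cast hdeg0
  have hdvd : Module.finrank ℂ V ∣ Nat.card G := Cfsg.Agent.Lib.Helper4Char3.finrank_dvd_card ρ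
  have hpos : 0 < Module.finrank ℂ V := Cfsg.Agent.Lib.Helper4Char.finrank_pos_of_irreducible ρ
  have hnd : ¬ p ∣ Nat.card G / Cfsg.charDegree (χ : G → ℂ) := by
    rw [hdeg1]
    intro h
    apply hn'
    obtain ⟨c, hc⟩ := hdvd
    rw [hc, Nat.mul_div_cancel_left _ hpos] at h
    rw [hc, pow_succ]
    exact Nat.mul_dvd_mul hdeg h
  have hblock := (Cfsg.Agent.Lib.Helper81Orth2.defect_zero_iff hM χ).mp hnd
  have hB : Cfsg.IsPBlock M ({χ} : Set (Cfsg.IrrCharacter G)) := ⟨χ, hblock.symm⟩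
  have h1 : ¬ p ∣ orderOf (1 : G) := by
    rw [orderOf_one]; exact hp.one_lt.ne' ∘ Nat.dvd_one.mp
  have h2 := Cfsg.Agent.Lib.Helper81Orth.weak_block_orth hM hB h1 hx
  simp only [Set.mem_singleton_iff] at h2
  rw [Finset.sum_ite_eq' Finset.univ χ, if_pos (Finset.mem_univ _)] at h2
  rcases mul_eq_zero.mp h2 with h3 | h3
  · exact absurd h3 (Cfsg.Agent.Lib.Helper81Base.irr_one_ne_zero χ)
  · exact (map_eq_zero _).mp h3

end Cfsg.Agent.S0165
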