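import Cfsg.Statements.S0953
import Cfsg.Agent.Lib.Helper25Rob2

set_option autoImplicit false
open Cfsg

namespace Cfsg.Agent.S0953

/-- Let P be a Sylow p-subgroup of the finite group G with normalizer N, and fix a maximal ideal M of the algebraic integers containing p. The number of blocks of G having P as a defect group equals the number of conjugacy classes of N consisting of elements of order prime to p that centralize P. -/
theorem result {G : Type*} [Group G] [Finite G] (p : ℕ) [Fact p.Prime] (M : Ideal Cfsg.AlgInt) (hM : Cfsg.IsPModular p M) (P : Sylow p G) : Nat.card {B : Set (Cfsg.IrrCharacter G) // Cfsg.IsPBlock M B ∧ Cfsg.IsDefectGroup p M B (P : Subgroup G)} = Nat.card {C : ConjClasses (Subgroup.normalizer ((P : Subgroup G) : Set G)) // ∀ n : Subgroup.normalizer ((P : Subgroup G) : Set G), ConjClasses.mk n = C → ¬ p ∣ orderOf n ∧ (n : G) ∈ Subgroup.centralizer ((P : Subgroup G) : Set G)} := by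
  classical
  have : Fintype G := Fintype.ofFinite G
  rw [Cfsg.Agent.Lib.Helper25Rob2.card_blocks_normalizer hM (P : Subgroup G) P.2]
  let S : Sylow p (Subgroup.normalizer ((P : Subgroup G) : Set G)) :=
    P.subtype Subgroup.le_normalizer
  have hS : (S : Subgroup (Subgroup.normalizer ((P : Subgroup G) : Set G)))
      = (P : Subgroup G).subgroupOf (Subgroup.normalizer ((P : Subgroup G) : Set G)) := rfl
  have hn : (S : Subgroup (Subgroup.normalizer ((P : Subgroup G) : Set G))).Normal := by
    rw [hS]; exact Subgroup.normal_in_normalizer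
  rw [← hS, Cfsg.Agent.Lib.Helper25Rob2.card_blocks_normal_sylow hM S]
  have good_iff : ∀ n : Subgroup.normalizer ((P : Subgroup G) : Set G),
      Cfsg.Agent.Lib.Helper25Rob.Good p
        (S : Subgroup (Subgroup.normalizer ((P : Subgroup G) : Set G))) n ↔
      (¬ p ∣ orderOf n ∧ (n : G) ∈ Subgroup.centralizer ((P : Subgroup G) : Set G)) := by
    intro n
    unfold Cfsg.Agent.Lib.Helper25Rob.Good
    apply and_congr Iff.rfl
    constructor
    · intro h
      have h1 := Cfsg.Agent.Lib.Helper20Defect.le_centralizer_singleton_iff.mp h.1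
      rw [Subgroup.mem_centralizer_iff] at h1 ⊢
      intro g hg
      have := h1 ⟨g, Subgroup.le_normalizer hg⟩ hg
      exact congrArg Subtype.val this
    · intro h
      apply (Cfsg.Agent.Lib.Helper87Sylow.sylow_sylIn S).of_le _ le_top
      apply Cfsg.Agent.Lib.Helper20Defect.le_centralizer_singleton_iff.mpr
      rw [Subgroup.mem_centralizer_iff] at h ⊢
      intro g hg
      apply Subtype.ext
      exact h (g : G) hg
  apply Nat.card_congr
  apply Equiv.subtypeEquivRight
  intro C
  constructor
  · intro h n hn'
    rw [← good_iff]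
    apply h.conj
    rw [← ConjClasses.mk_eq_mk_iff_isConj, hn']
    exact Quotient.out_eq C
  · intro h
    rw [good_iff]
    exact h _ (Quotient.out_eq C)

end Cfsg.Agent.S0953
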