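import Cfsg.Statements.S0955
import Cfsg.Agent.Lib.Helper20Sub

set_option autoImplicit false
open Cfsg

namespace Cfsg.Agent.S0955

open Cfsg.Agent.Lib.Helper20Local Cfsg.Agent.Lib.Helper20Block Cfsg.Agent.Lib.Helper20Induced
open Cfsg.Agent.Lib.Helper20Defect Cfsg.Agent.Lib.Helper87Sylow Cfsg.Agent.Lib.Helper20First
open Cfsg.Agent.Lib.Helper20Sub Cfsg.Agent.Lib.Helper20Brauer Cfsg.Agent.Lib.Helper20Conj

/-- Let D be a defect group of a block of the finite group G relative to a maximal ideal M of the algebraic integers containing the prime p. Then D is the largest normal p-subgroup of its own normalizer: O_p(N_G(D)) = D. -/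
theorem result {G : Type*} [Group G] [Finite G] (p : ℕ) [Fact p.Prime] (M : Ideal Cfsg.AlgInt) (hM : Cfsg.IsPModular p M) (B : Set (Cfsg.IrrCharacter G)) (hB : Cfsg.IsPBlock M B) (D : Subgroup G) (hD : Cfsg.IsDefectGroup p M B D) : (Cfsg.pCore p (Subgroup.normalizer (D : Set G))).map (Subgroup.normalizer (D : Set G)).subtype = D := by
  classical
  cases nonempty_fintype G
  have hDp : IsPGroup p D := by
    obtain ⟨y, hy, hS⟩ := isDefectGroup_iff.mp hD
    exact hS.isPGroup
  obtain ⟨b, hb⟩ := exists_block_induced hM hDp hB hD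
  have hbD := defectGroup_of_induced hM hDp hb hD
  have h1 := Cfsg.Agent.S0912.result p M hM b hb.1 _ hbD
  have hDp' : IsPGroup p (D.subgroupOf (Subgroup.normalizer (D : Set G))) :=
    hDp.of_equiv (Subgroup.subgroupOfEquivOfLe Subgroup.le_normalizer).symm
  have h2 : D.subgroupOf (Subgroup.normalizer (D : Set G))
      ≤ Cfsg.pCore p (Subgroup.normalizer (D : Set G)) :=
    le_sSup ⟨inferInstance, hDp'⟩
  rw [le_antisymm h1 h2]
  exact map_subgroupOf_normalizer D

end Cfsg.Agent.S0955
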