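import Cfsg.Statements.S0147
import Cfsg.Agent.Lib.Helper19Ind

set_option autoImplicit false
open Cfsg

namespace Cfsg.Agent.S0147

open Cfsg.Agent.Lib.Helper19Ind

theorem ext_sub {G : Type*} [Group G] (H K : Subgroup G) (θ : H → ℂ) (w : K) :
    Cfsg.extendByZero (H.subgroupOf K) (fun x => θ ⟨(x : K), Subgroup.mem_subgroupOf.mp x.2⟩) w
      = Cfsg.extendByZero H θ (w : G) := by
  by_cases hw : (w : G) ∈ H
  · rw [extendByZero_of_mem H θ hw,
      extendByZero_of_mem (H.subgroupOf K) _ (Subgroup.mem_subgroupOf.mpr hw)]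
  · rw [extendByZero_of_not_mem H θ hw,
      extendByZero_of_not_mem (H.subgroupOf K) _ (fun h => hw (Subgroup.mem_subgroupOf.mp h))]

theorem key {G : Type*} [Group G] (H K : Subgroup G) [Fintype K] (hHK : H ≤ K) (θ : H → ℂ)
    (z : G) :
    Cfsg.extendByZero K (Cfsg.indFun (H.subgroupOf K)
      (fun x => θ ⟨(x : K), Subgroup.mem_subgroupOf.mp x.2⟩)) z
      = (Nat.card H : ℂ)⁻¹ * ∑ y : K, Cfsg.extendByZero H θ ((y : G)⁻¹ * z * y) := by
  have hcard : Nat.card (H.subgroupOf K) = Nat.card H :=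
    Nat.card_congr (Subgroup.subgroupOfEquivOfLe hHK).toEquiv
  by_cases hz : z ∈ K
  · rw [extendByZero_of_mem K _ hz, indFun_apply, hcard]
    congr 1
    apply Finset.sum_congr rfl
    intro y _
    rw [ext_sub]
    rfl
  · rw [extendByZero_of_not_mem K _ hz]
    symm
    apply mul_eq_zero_of_right
    apply Finset.sum_eq_zero
    intro y _
    apply extendByZero_of_not_mem
    intro h
    apply hz
    have h1 := K.mul_mem (K.mul_mem y.2 (hHK h)) (K.inv_mem y.2)
    simpa [mul_assoc] using h1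


/-- Transitivity of induction: inducing from H to K and then from K to G is the same as inducing from H to G. -/
theorem result {G : Type*} [Group G] [Fintype G] (H K : Subgroup G) [Fintype K] (hHK : H ≤ K) (θ : H → ℂ) : Cfsg.indFun K (Cfsg.indFun (H.subgroupOf K) (fun x => θ ⟨(x : K), Subgroup.mem_subgroupOf.mp x.2⟩)) = Cfsg.indFun H θ := by
  ext g
  rw [indFun_apply, indFun_apply]
  simp only [key H K hHK θ]
  rw [← Finset.mul_sum, Finset.sum_comm]
  have h1 : ∀ y : K, ∑ x : G, Cfsg.extendByZero H θ ((y : G)⁻¹ * (x⁻¹ * g * x) * y)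
      = ∑ x : G, Cfsg.extendByZero H θ (x⁻¹ * g * x) := by
    intro y
    refine Fintype.sum_equiv (Equiv.mulRight (y : G)) _ _ ?_
    intro x
    simp only [Equiv.coe_mulRight]
    congr 1
    group
  simp only [h1]
  rw [Finset.sum_const, Finset.card_univ, nsmul_eq_mul, ← Nat.card_eq_fintype_card]
  have hK : (Nat.card K : ℂ) ≠ 0 := Nat.cast_ne_zero.mpr Nat.card_pos.ne'
  field_simp

end Cfsg.Agent.S0147
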