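import Cfsg.Statements.S4018
import Mathlib
import Cfsg.Agent.Lib.Helper70Friendship
import Cfsg.Agent.Lib.Helper70Sup

set_option autoImplicit false
open Cfsg

namespace Cfsg.Agent.S4018

open Cfsg.Agent.Lib.Helper70Basic Cfsg.Agent.Lib.Helper70Sup Cfsg.Agent.Lib.Helper70Friendship
open Cfsg.Agent.Lib.Helper40Sylow

/-- the working hypotheses -/
structure Hyp (G : Type*) [Group G] [Finite G] (P : Sylow 3 G) (m : ℕ) : Prop where
  simple : IsSimpleGroup G
  card : Nat.card P = m
  odd : ¬ 2 ∣ m
  comm : ∀ a ∈ P, ∀ b ∈ P, a * b = b * a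
  cardC : Nat.card (Subgroup.centralizer (P : Set G)) = 2 * m
  four : 4 ≤ Nat.card G
  even : ∀ H : Subgroup G, H ≠ ⊤ → 2 ∣ Nat.card H → Nat.card H ∣ 4 * m

variable {G : Type*} [Group G] [Finite G] {P : Sylow 3 G} {m : ℕ}

theorem inv_eq_self {x : G} (hx : orderOf x = 2) : x⁻¹ = x := by
  have h1 : x ^ 2 = 1 := hx ▸ pow_orderOf_eq_one x
  rw [sq] at h1
  exact inv_eq_of_mul_eq_one_left h1

theorem ne_one_of_inv {x : G} (hx : orderOf x = 2) : x ≠ 1 := by
  rintro rfl
  rw [orderOf_one] at hx
  omega

theorem orderOf_conj (a x : G) : orderOf (a * x * a⁻¹) = orderOf x := by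
  have := (MulAut.conj a).orderOf_eq x
  simpa [MulAut.conj_apply] using this

/-- an element of `P` of order dividing 2 is trivial -/
theorem eq_one_of_sq (H : Hyp G P m) {p : G} (hp : p ∈ P) (h2 : p * p = 1) : p = 1 := by
  have h1 : orderOf (⟨p, hp⟩ : (P : Subgroup G)) ∣ m := H.card ▸ orderOf_dvd_natCard _
  rw [← Subgroup.orderOf_coe] at h1
  have h3 : orderOf p ∣ 2 := orderOf_dvd_of_pow_eq_one (by rw [sq]; exact h2)
  rcases (Nat.dvd_prime Nat.prime_two).mp h3 with h4 | h4
  · exact orderOf_eq_one_iff.mp h4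
  · exact absurd (h4 ▸ h1) H.odd

theorem not_central (H : Hyp G P m) {t : G} (ht : orderOf t = 2) (hc : ∀ g : G, g * t = t * g) :
    False := by
  have hn : (Subgroup.zpowers t).Normal := by
    refine ⟨fun n hn g => ?_⟩
    obtain ⟨k, rfl⟩ := hn
    have : Commute g (t ^ k) := (show Commute g t from hc g).zpow_right k
    show g * t ^ k * g⁻¹ ∈ _
    rw [this.eq]
    simpa using Subgroup.zpow_mem_zpowers t k
  have := H.simple
  rcases hn.eq_bot_or_eq_top with h | h
  · exact ne_one_of_inv ht (Subgroup.zpowers_eq_bot.mp h)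
  · have h1 : Nat.card (Subgroup.zpowers t) = Nat.card G := by rw [h, Subgroup.card_top]
    rw [Nat.card_zpowers, ht] at h1
    have := H.four
    omega

theorem normalizer_zpowers_ne_top (H : Hyp G P m) {g x : G} (hg : g ≠ 1)
    (hx : x * g ≠ g * x) : Subgroup.normalizer ((Subgroup.zpowers g : Subgroup G) : Set G) ≠ ⊤ := by
  intro htop
  have hn : (Subgroup.zpowers g).Normal := Subgroup.normalizer_eq_top_iff.mp htop
  have := H.simple
  rcases hn.eq_bot_or_eq_top with h | h
  · exact hg (Subgroup.zpowers_eq_bot.mp h)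
  · have hx' : x ∈ Subgroup.zpowers g := by rw [h]; trivial
    obtain ⟨k, rfl⟩ := hx'
    exact hx ((Commute.refl g).zpow_left k).eq

/-- Key lemma: centralizer of a nontrivial element of `P` inverted by an involution. -/
theorem key (H : Hyp G P m) {h x : G} (hP : h ∈ P) (h1 : h ≠ 1) (hx : orderOf x = 2)
    (hinv : x * h * x⁻¹ = h⁻¹) :
    ∃ t : G, orderOf t = 2 ∧ t * h = h * t ∧ ∀ w : G, orderOf w = 2 → w * h = h * w → w = t := by
  have hxh : x * h ≠ h * x := by
    intro hc
    apply h1
    apply eq_one_of_sq H hP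
    have : x * h * x⁻¹ = h := by rw [hc]; group
    rw [this] at hinv
    calc h * h = h * h⁻¹ := by rw [← hinv]
      _ = 1 := mul_inv_cancel h
  obtain ⟨C, hCdef⟩ : ∃ C, C = Subgroup.centralizer (P : Set G) := ⟨_, rfl⟩
  obtain ⟨E, hEdef⟩ : ∃ E, E = Subgroup.centralizer ({h} : Set G) := ⟨_, rfl⟩
  obtain ⟨L, hLdef⟩ : ∃ L, L = Subgroup.normalizer ((Subgroup.zpowers h : Subgroup G) : Set G) :=
    ⟨_, rfl⟩
  have hCcard : Nat.card C = 2 * m := by rw [hCdef]; exact H.cardC
  have hCE : C ≤ E := by
    rw [hCdef, hEdef]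
    exact Subgroup.centralizer_le (Set.singleton_subset_iff.mpr hP)
  have hEL : E ≤ L := by
    intro c hc
    rw [hEdef, Subgroup.mem_centralizer_singleton_iff] at hc
    rw [hLdef]
    apply mem_normalizer_zpowers
    rw [hc]
    simpa using Subgroup.mem_zpowers h
  have hxL : x ∈ L := by
    rw [hLdef]
    apply mem_normalizer_zpowers
    rw [hinv]
    exact Subgroup.inv_mem _ (Subgroup.mem_zpowers h)
  have hxE : x ∉ E := by
    rw [hEdef, Subgroup.mem_centralizer_singleton_iff]
    exact hxh
  have hLtop : L ≠ ⊤ := hLdef ▸ normalizer_zpowers_ne_top H h1 hxh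
  have hL2 : 2 ∣ Nat.card L := by
    have := orderOf_dvd_natCard (⟨x, hxL⟩ : L)
    rwa [← Subgroup.orderOf_coe, hx] at this
  have hLcard := H.even L hLtop hL2
  have hmpos : 0 < m := by
    rw [← H.card]; exact Nat.card_pos
  have hEC : C = E := by
    apply Subgroup.eq_of_le_of_card_ge hCE
    rw [hCcard]
    have h2 := card_mul_relIndex' hEL
    have h3 : E.relIndex L ≠ 1 := by
      intro h4
      rw [Subgroup.relIndex_eq_one] at h4
      exact hxE (h4 hxL)
    have h4 : E.relIndex L ≠ 0 := by
      intro h5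
      rw [h5, mul_zero] at h2
      exact (Nat.card_pos (α := L)).ne h2
    have h5 : Nat.card L ≤ 4 * m := Nat.le_of_dvd (by omega) hLcard
    have h6 : Nat.card E * 2 ≤ Nat.card E * E.relIndex L := Nat.mul_le_mul_left _ (by omega)
    omega
  have hPC : (P : Subgroup G) ≤ C := by
    intro a ha
    rw [hCdef, Subgroup.mem_centralizer_iff]
    intro b hb
    exact H.comm b hb a ha
  have := Fact.mk Nat.prime_two
  obtain ⟨t, ht⟩ := exists_prime_orderOf_dvd_card' (G := C) 2 (by rw [hCcard]; exact dvd_mul_right 2 m)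
  have hto : orderOf (t : G) = 2 := by rw [Subgroup.orderOf_coe]; exact ht
  have hidx : ((P : Subgroup G).subgroupOf C).index = 2 := by
    have h2 := card_mul_relIndex' hPC
    have h3 : Nat.card (P : Subgroup G) = m := H.card
    rw [h3, hCcard] at h2
    have : m * (P : Subgroup G).relIndex C = m * 2 := by rw [h2]; ring
    exact Nat.eq_of_mul_eq_mul_left hmpos this
  have hnotP : ∀ w : G, orderOf w = 2 → w ∉ P := by
    intro w hw hwP
    apply ne_one_of_inv hw
    apply eq_one_of_sq H hwP
    have := hw ▸ pow_orderOf_eq_one w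
    rwa [sq] at this
  refine ⟨t, hto, ?_, ?_⟩
  · have := hCE t.2
    rw [hEdef, Subgroup.mem_centralizer_singleton_iff] at this
    exact this
  · intro w hw hwh
    have hwC : w ∈ C := by
      rw [hEC, hEdef, Subgroup.mem_centralizer_singleton_iff]
      exact hwh
    have h2 := Subgroup.mul_mem_iff_of_index_two hidx (a := ⟨w, hwC⟩) (b := t)
    have h3 : (⟨w, hwC⟩ : C) * t ∈ (P : Subgroup G).subgroupOf C := by
      rw [h2]
      constructor
      · intro h4; exact absurd (Subgroup.mem_subgroupOf.mp h4) (hnotP w hw)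
      · intro h4; exact absurd (Subgroup.mem_subgroupOf.mp h4) (hnotP t hto)
    have h4 : w * (t : G) ∈ P := Subgroup.mem_subgroupOf.mp h3
    have h5 : (w * (t : G)) * w = w * (w * (t : G)) := by
      have := hwC
      rw [hCdef, Subgroup.mem_centralizer_iff] at this
      exact this _ h4
    have hww : w * w = 1 := by
      have := hw ▸ pow_orderOf_eq_one w
      rwa [sq] at this
    have htt : (t : G) * (t : G) = 1 := by
      have := hto ▸ pow_orderOf_eq_one (t : G)
      rwa [sq] at this
    have h6 : (w * (t : G)) * (w * (t : G)) = 1 := by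
      calc (w * (t : G)) * (w * (t : G)) = ((w * (t : G)) * w) * (t : G) := by group
        _ = (w * (w * (t : G))) * (t : G) := by rw [h5]
        _ = (w * w) * ((t : G) * (t : G)) := by group
        _ = 1 := by rw [hww, htt, one_mul]
    have h7 := eq_one_of_sq H h4 h6
    calc w = w * ((t : G) * (t : G)) := by rw [htt, mul_one]
      _ = (w * (t : G)) * (t : G) := by group
      _ = t := by rw [h7, one_mul]

theorem sq_eq_one {x : G} (hx : orderOf x = 2) : x * x = 1 := by
  have := hx ▸ pow_orderOf_eq_one x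
  rwa [sq] at this

theorem comm_case (H : Hyp G P m) {x y w : G} (hx : orderOf x = 2) (hy : orderOf y = 2)
    (hne : x ≠ y) (hc : x * y = y * x) (hw : orderOf w = 2) (hwx : w ≠ x) (hwy : w ≠ y)
    (hcx : w * x = x * w) (hcy : w * y = y * w) : w = x * y := by
  by_contra hne2
  have hn1 : ∀ n ∈ Subgroup.zpowers x, y * n * y⁻¹ ∈ Subgroup.zpowers x := by
    intro n hn
    rcases mem_zpowers_two hx hn with rfl | rfl
    · simp
    · rw [← hc]; simp
  have hy1 : y ∉ Subgroup.zpowers x := by
    intro h
    rcases mem_zpowers_two hx h with h | h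
    · exact ne_one_of_inv hy h
    · exact hne h.symm
  have hT2 := card_sup_zpowers_prime Nat.prime_two (Subgroup.zpowers x) y hy hy1 hn1
  rw [Nat.card_zpowers, hx] at hT2
  have hw2 : w ∉ Subgroup.zpowers x ⊔ Subgroup.zpowers y := by
    intro h
    rcases mem_sup_zpowers_two _ hy hn1 h with h | ⟨n, hn, h'⟩
    · rcases mem_zpowers_two hx h with h | h
      · exact ne_one_of_inv hw h
      · exact hwx h
    · rcases mem_zpowers_two hx hn with rfl | rfl
      · exact hwy (by simpa using h')
      · exact hne2 (by rw [h', hc])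
  have hcen : Subgroup.zpowers x ⊔ Subgroup.zpowers y ≤ Subgroup.centralizer ({w} : Set G) := by
    refine sup_le ?_ ?_
    · rw [Subgroup.zpowers_le, Subgroup.mem_centralizer_singleton_iff]; exact hcx.symm
    · rw [Subgroup.zpowers_le, Subgroup.mem_centralizer_singleton_iff]; exact hcy.symm
  have hn2 : ∀ n ∈ Subgroup.zpowers x ⊔ Subgroup.zpowers y,
      w * n * w⁻¹ ∈ Subgroup.zpowers x ⊔ Subgroup.zpowers y := by
    intro n hn
    have := Subgroup.mem_centralizer_singleton_iff.mp (hcen hn)
    rw [← this]; simpa using hn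
  have hT3 := card_sup_zpowers_prime Nat.prime_two _ w hw hw2 hn2
  rw [hT2] at hT3
  have hT3top : Subgroup.zpowers x ⊔ Subgroup.zpowers y ⊔ Subgroup.zpowers w ≠ ⊤ := by
    intro htop
    apply not_central H hx
    have hle : Subgroup.zpowers x ⊔ Subgroup.zpowers y ⊔ Subgroup.zpowers w ≤
        Subgroup.centralizer ({x} : Set G) := by
      refine sup_le (sup_le ?_ ?_) ?_
      · rw [Subgroup.zpowers_le, Subgroup.mem_centralizer_singleton_iff]
      · rw [Subgroup.zpowers_le, Subgroup.mem_centralizer_singleton_iff]; exact hc.symm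
      · rw [Subgroup.zpowers_le, Subgroup.mem_centralizer_singleton_iff]; exact hcx
    intro g
    have hg : g ∈ Subgroup.centralizer ({x} : Set G) := hle (by rw [htop]; trivial)
    exact Subgroup.mem_centralizer_singleton_iff.mp hg
  have h8 := H.even _ hT3top (by rw [hT3]; norm_num)
  rw [hT3] at h8
  apply H.odd
  have : 4 * 2 ∣ 4 * m := by simpa using h8
  exact Nat.dvd_of_mul_dvd_mul_left (by norm_num) this

theorem noncomm_case (H : Hyp G P m) (hm3 : ∃ e, m = 3 ^ e) {x y : G} (hx : orderOf x = 2)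
    (hy : orderOf y = 2) (hxy : x * y ≠ y * x) :
    ∃ t : G, orderOf t = 2 ∧ t * x = x * t ∧ t * y = y * t ∧
      ∀ w, orderOf w = 2 → w * x = x * w → w * y = y * w → w = t := by
  have hxx := sq_eq_one hx
  have hyy := sq_eq_one hy
  have hxi := inv_eq_self hx
  have hyi := inv_eq_self hy
  obtain ⟨g, hg⟩ : ∃ g, g = x * y := ⟨_, rfl⟩
  have hgi : g⁻¹ = y * x := by rw [hg, mul_inv_rev, hxi, hyi]
  have hgx : x * g * x⁻¹ = g⁻¹ := by
    rw [hgi, hg, hxi]
    calc x * (x * y) * x = (x * x) * y * x := by group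
      _ = y * x := by rw [hxx, one_mul]
  have hgy : y * g * y⁻¹ = g⁻¹ := by
    rw [hgi, hg, hyi]
    calc y * (x * y) * y = y * x * (y * y) := by group
      _ = y * x := by rw [hyy, mul_one]
  have hgg : g * g ≠ 1 := by
    intro h
    apply hxy
    have : g = g⁻¹ := eq_inv_of_mul_eq_one_left h
    rw [hgi, hg] at this
    exact this
  have hg1 : g ≠ 1 := by
    rintro h
    rw [h, one_mul] at hgg
    exact hgg rfl
  have hxg : x * g ≠ g * x := by
    intro h
    apply hgg
    have h1 : x * g * x⁻¹ = g := by rw [h]; group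
    rw [hgx] at h1
    calc g * g = g⁻¹ * g := by rw [h1]
      _ = 1 := inv_mul_cancel g
  have hxz : x ∉ Subgroup.zpowers g := by
    rintro ⟨k, hk⟩
    apply hxg
    rw [← hk]
    exact ((Commute.refl g).zpow_left k).eq
  have hxN : x ∈ Subgroup.normalizer ((Subgroup.zpowers g : Subgroup G) : Set G) := by
    apply mem_normalizer_zpowers
    rw [hgx]
    exact Subgroup.inv_mem _ (Subgroup.mem_zpowers g)
  have hn1 : ∀ n ∈ Subgroup.zpowers g, x * n * x⁻¹ ∈ Subgroup.zpowers g := by
    intro n hn
    exact (Subgroup.mem_normalizer_iff.mp hxN n).mp hn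
  have hD := card_sup_zpowers_prime Nat.prime_two (Subgroup.zpowers g) x hx hxz hn1
  rw [Nat.card_zpowers] at hD
  have hDtop : Subgroup.zpowers g ⊔ Subgroup.zpowers x ≠ ⊤ := by
    intro htop
    apply normalizer_zpowers_ne_top H hg1 hxg
    rw [eq_top_iff, ← htop]
    exact sup_le Subgroup.le_normalizer (Subgroup.zpowers_le.mpr hxN)
  have hDd := H.even _ hDtop (by rw [hD]; exact dvd_mul_left 2 _)
  rw [hD] at hDd
  have hg2m : orderOf g ∣ 2 * m := by
    have : 2 * orderOf g ∣ 2 * (2 * m) := by
      have e1 : 2 * orderOf g = orderOf g * 2 := by ring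
      have e2 : 2 * (2 * m) = 4 * m := by ring
      rw [e1, e2]; exact hDd
    exact Nat.dvd_of_mul_dvd_mul_left (by norm_num) this
  obtain ⟨h, hh⟩ : ∃ h, h = g * g := ⟨_, rfl⟩
  have hhm : h ^ m = 1 := by
    rw [hh, ← sq, ← pow_mul]
    exact orderOf_dvd_iff_pow_eq_one.mp hg2m
  have hh1 : h ≠ 1 := hh ▸ hgg
  have hhx : x * h * x⁻¹ = h⁻¹ := by
    rw [hh, mul_inv_rev, ← hgx]; group
  have hhy : y * h * y⁻¹ = h⁻¹ := by
    rw [hh, mul_inv_rev, ← hgy]; group
  obtain ⟨e, he⟩ := hm3
  have hho : orderOf h ∣ 3 ^ e := he ▸ orderOf_dvd_of_pow_eq_one hhm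
  obtain ⟨j, -, hj⟩ := (Nat.dvd_prime_pow Nat.prime_three).mp hho
  obtain ⟨P', hP'⟩ := (isPGroup_zpowers 3 h j hj).exists_le_sylow
  obtain ⟨a, ha⟩ := MulAction.exists_smul_eq G P' P
  have hh0 : a * h * a⁻¹ ∈ P := by
    have h0 : a * h * a⁻¹ ∈ ((a • P' : Sylow 3 G) : Subgroup G) := by
      rw [sylow_smul_eq_cj, mem_cj]
      have : a⁻¹ * (a * h * a⁻¹) * a = h := by group
      rw [this]
      exact hP' (Subgroup.mem_zpowers h)
    rw [ha] at h0
    exact h0
  obtain ⟨t0, ht0, ht0h, ht0u⟩ := key H (h := a * h * a⁻¹) (x := a * x * a⁻¹) hh0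
    (by
      intro h1
      apply hh1
      have : h = a⁻¹ * (a * h * a⁻¹) * a := by group
      rw [this, h1]; group)
    (by rw [orderOf_conj]; exact hx)
    (by
      have : a * x * a⁻¹ * (a * h * a⁻¹) * (a * x * a⁻¹)⁻¹ = a * (x * h * x⁻¹) * a⁻¹ := by group
      rw [this, hhx]; group)
  obtain ⟨t, ht⟩ : ∃ t, t = a⁻¹ * t0 * a := ⟨_, rfl⟩
  have hto : orderOf t = 2 := by
    have := orderOf_conj a⁻¹ t0
    rw [inv_inv] at this
    rw [ht, this]; exact ht0
  have hth : t * h = h * t := by
    have e1 : t * h = a⁻¹ * (t0 * (a * h * a⁻¹)) * a := by rw [ht]; group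
    have e2 : h * t = a⁻¹ * ((a * h * a⁻¹) * t0) * a := by rw [ht]; group
    rw [e1, e2, ht0h]
  have huniq : ∀ w, orderOf w = 2 → w * h = h * w → w = t := by
    intro w hw hwh
    have h1 := ht0u (a * w * a⁻¹) (by rw [orderOf_conj]; exact hw) (by
      have e1 : a * w * a⁻¹ * (a * h * a⁻¹) = a * (w * h) * a⁻¹ := by group
      have e2 : a * h * a⁻¹ * (a * w * a⁻¹) = a * (h * w) * a⁻¹ := by group
      rw [e1, e2, hwh])
    rw [ht, ← h1]; group
  have hconj : ∀ z : G, z * h * z⁻¹ = h⁻¹ → t * z = z * t := by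
    intro z hz
    have h1 : z * t * z⁻¹ = t := by
      apply huniq
      · rw [orderOf_conj]; exact hto
      · have hc : Commute t h⁻¹ := (show Commute t h from hth).inv_right
        have hc2 := hc.map (MulAut.conj z)
        simp only [MulAut.conj_apply] at hc2
        have e1 : z * h⁻¹ * z⁻¹ = h := by
          have : z * h⁻¹ * z⁻¹ = (z * h * z⁻¹)⁻¹ := by group
          rw [this, hz, inv_inv]
        rw [e1] at hc2
        exact hc2.eq
    calc t * z = (z * t * z⁻¹) * z := by rw [h1]
      _ = z * t := by group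
  refine ⟨t, hto, hconj x hhx, hconj y hhy, ?_⟩
  intro w hw hwx hwy
  apply huniq w hw
  have c1 : Commute w x := hwx
  have c2 : Commute w y := hwy
  have c3 : Commute w g := hg ▸ c1.mul_right c2
  exact (hh ▸ c3.mul_right c3).eq

/-- Let G be a finite group with an abelian Sylow 3-subgroup P such that the normalizer of P has order 4·#P, the centralizer C of P has order 2·#P, C meets each of its conjugates by elements outside its normalizer trivially, and every proper subgroup of G of even order has order dividing 4·#P. Then G is not simple. -/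
theorem result {G : Type*} [Group G] [Finite G]
    (P : Sylow 3 G) (hab : IsMulCommutative P)
    (hN : Nat.card (Subgroup.normalizer ((P : Subgroup G) : Set G)) = 4 * Nat.card P)
    (hC : Nat.card (Subgroup.centralizer (P : Set G)) = 2 * Nat.card P)
    (hTI : Cfsg.IsTISubset (Subgroup.centralizer (P : Set G) : Set G))
    (heven : ∀ H : Subgroup G, H ≠ ⊤ → 2 ∣ Nat.card H → Nat.card H ∣ 4 * Nat.card P) :
    ¬ IsSimpleGroup G := by
  intro hs
  obtain ⟨e, he⟩ := IsPGroup.iff_card.mp P.2
  have H : Hyp G P (Nat.card P) :=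
    { simple := hs
      card := rfl
      odd := by
        have h1 : Nat.card P = 3 ^ e := he
        rw [h1]
        intro h2
        have := Nat.prime_two.dvd_of_dvd_pow h2
        omega
      comm := fun a ha b hb => congrArg Subtype.val (hab.is_comm.comm ⟨a, ha⟩ ⟨b, hb⟩)
      cardC := hC
      four := by
        have h1 := Subgroup.card_le_card_group (Subgroup.normalizer ((P : Subgroup G) : Set G))
        rw [hN] at h1
        have h2 : 0 < Nat.card P := Nat.card_pos
        omega
      even := heven }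
  have hm3 : ∃ e, Nat.card P = 3 ^ e := ⟨e, he⟩
  have := Fact.mk Nat.prime_two
  obtain ⟨t0, ht0⟩ := exists_prime_orderOf_dvd_card' (G := Subgroup.centralizer (P : Set G)) 2
    (by rw [hC]; exact dvd_mul_right 2 _)
  have ht0' : orderOf (t0 : G) = 2 := by rw [Subgroup.orderOf_coe]; exact ht0
  have hne : Nonempty {x : G // orderOf x = 2} := ⟨⟨t0, ht0'⟩⟩
  obtain ⟨t, ht⟩ := exists_politician_of_existsUnique
    (SimpleGraph.fromRel (fun a b : {x : G // orderOf x = 2} => a.1 * b.1 = b.1 * a.1)) (by
    intro v w hvw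
    have hvw' : v.1 ≠ w.1 := fun h => hvw (Subtype.ext h)
    by_cases hc : v.1 * w.1 = w.1 * v.1
    · have ho : orderOf (v.1 * w.1) = 2 := by
        apply orderOf_eq_prime
        · rw [sq]
          calc v.1 * w.1 * (v.1 * w.1) = v.1 * w.1 * (w.1 * v.1) := by rw [hc]
            _ = v.1 * (w.1 * w.1) * v.1 := by group
            _ = 1 := by rw [sq_eq_one w.2, mul_one, sq_eq_one v.2]
        · intro h1
          apply hvw'
          have := eq_inv_of_mul_eq_one_left h1
          rw [inv_eq_self w.2] at this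
          exact this
      refine ⟨⟨v.1 * w.1, ho⟩, ⟨?_, ?_⟩, ?_⟩
      · rw [SimpleGraph.fromRel_adj]
        refine ⟨?_, Or.inl ?_⟩
        · intro h1
          have h2 : v.1 = v.1 * w.1 := congrArg Subtype.val h1
          exact ne_one_of_inv w.2 (by simpa using h2)
        · show v.1 * (v.1 * w.1) = v.1 * w.1 * v.1
          rw [mul_assoc, hc.symm]
      · rw [SimpleGraph.fromRel_adj]
        refine ⟨?_, Or.inl ?_⟩
        · intro h1
          have h2 : w.1 = v.1 * w.1 := congrArg Subtype.val h1
          exact ne_one_of_inv v.2 (by simpa using h2)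
        · show w.1 * (v.1 * w.1) = v.1 * w.1 * w.1
          rw [← mul_assoc, hc.symm]
      · rintro u ⟨h1, h2⟩
        rw [SimpleGraph.fromRel_adj] at h1 h2
        apply Subtype.ext
        apply comm_case H v.2 w.2 hvw' hc u.2
        · exact fun h => h1.1 (Subtype.ext h.symm)
        · exact fun h => h2.1 (Subtype.ext h.symm)
        · rcases h1.2 with h | h
          · exact h.symm
          · exact h
        · rcases h2.2 with h | h
          · exact h.symm
          · exact h
    · obtain ⟨t, hto, htv, htw, hu⟩ := noncomm_case H hm3 v.2 w.2 hc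
      refine ⟨⟨t, hto⟩, ⟨?_, ?_⟩, ?_⟩
      · rw [SimpleGraph.fromRel_adj]
        refine ⟨?_, Or.inr htv⟩
        intro h1
        apply hc
        have h2 : v.1 = t := congrArg Subtype.val h1
        rw [h2]; exact htw
      · rw [SimpleGraph.fromRel_adj]
        refine ⟨?_, Or.inr htw⟩
        intro h1
        apply hc
        have h2 : w.1 = t := congrArg Subtype.val h1
        rw [h2]; exact htv.symm
      · rintro u ⟨h1, h2⟩
        rw [SimpleGraph.fromRel_adj] at h1 h2
        apply Subtype.ext
        apply hu u.1 u.2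
        · rcases h1.2 with h | h
          · exact h.symm
          · exact h
        · rcases h2.2 with h | h
          · exact h.symm
          · exact h)
  -- the politician is central
  have hcomm : ∀ w : G, orderOf w = 2 → w * t.1 = t.1 * w := by
    intro w hw
    by_cases h1 : t = ⟨w, hw⟩
    · rw [h1]
    · have := ht ⟨w, hw⟩ h1
      rw [SimpleGraph.fromRel_adj] at this
      rcases this.2 with h | h
      · exact h.symm
      · exact h
  have hK : Subgroup.normalClosure ({t.1} : Set G) = ⊤ := by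
    rcases (Subgroup.normalClosure_normal (s := ({t.1} : Set G))).eq_bot_or_eq_top with h | h
    · exfalso
      have h1 : t.1 ∈ Subgroup.normalClosure ({t.1} : Set G) :=
        Subgroup.subset_normalClosure (Set.mem_singleton _)
      rw [h, Subgroup.mem_bot] at h1
      exact ne_one_of_inv t.2 h1
    · exact h
  have hle : Subgroup.normalClosure ({t.1} : Set G) ≤ Subgroup.centralizer ({t.1} : Set G) := by
    rw [Subgroup.normalClosure, Subgroup.closure_le]
    intro z hz
    rw [Group.mem_conjugatesOfSet_iff] at hz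
    obtain ⟨a, ha, hconj⟩ := hz
    rw [Set.mem_singleton_iff] at ha
    subst ha
    obtain ⟨c, hc⟩ := isConj_iff.mp hconj
    rw [SetLike.mem_coe, Subgroup.mem_centralizer_singleton_iff]
    apply hcomm
    rw [← hc, orderOf_conj]
    exact t.2
  apply not_central H t.2
  intro g
  have hg : g ∈ Subgroup.centralizer ({t.1} : Set G) := hle (by rw [hK]; trivial)
  exact Subgroup.mem_centralizer_singleton_iff.mp hg

end Cfsg.Agent.S4018
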