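import Cfsg.Statements.S3985
import Cfsg.Agent.S0055
import Cfsg.Agent.Lib.Helper2Parts
import Cfsg.Agent.Lib.Helper2Conj

set_option autoImplicit false
open Cfsg

namespace Cfsg.Agent.S3985

open Subgroup Pointwise
open Cfsg.Agent.Lib.Helper2Parts Cfsg.Agent.Lib.Helper2Conj

/-- Let P be a cyclic Sylow p-subgroup of the finite group G. Then P meets each conjugate g P g⁻¹ with g outside N_G(P) trivially if and only if P is weakly self-centralizing: C_G(x) = C_G(P) for every non-identity x ∈ P. -/
theorem result {G : Type*} [Group G] [Finite G] (p : ℕ) [Fact p.Prime] (P : Sylow p G) (hcyc : IsCyclic ↥(P : Subgroup G)) : (∀ g : G, g ∉ Subgroup.normalizer ((P : Subgroup G) : Set G) → (P : Subgroup G) ⊓ (MulAut.conj g • (P : Subgroup G)) = ⊥) ↔ ∀ x : G, x ∈ (P : Subgroup G) → x ≠ 1 → Subgroup.centralizer ({x} : Set G) = Subgroup.centralizer ((P : Subgroup G) : Set G) := by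
  have hPc : IsMulCommutative (P : Subgroup G) := ⟨⟨fun x y => by
    obtain ⟨g, hg⟩ := hcyc.exists_generator
    obtain ⟨i, rfl⟩ := hg x
    obtain ⟨j, rfl⟩ := hg y
    exact (Commute.zpow_zpow_self g i j)⟩⟩
  have hPcent : (P : Subgroup G) ≤ centralizer ((P : Subgroup G) : Set G) :=
    le_centralizer_iff_isMulCommutative.2 hPc
  constructor
  · intro hTI x hx hx1
    apply le_antisymm
    · intro g hg
      rw [mem_centralizer_singleton_iff] at hg
      have hgN : g ∈ normalizer ((P : Subgroup G) : Set G) := by
        by_contra h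
        have h1 := hTI g h
        have h2 : x ∈ (P : Subgroup G) ⊓ (MulAut.conj g • (P : Subgroup G)) := by
          refine mem_inf.2 ⟨hx, ?_⟩
          rw [mem_conj_smul]
          have : g⁻¹ * x * g = x := by rw [mul_assoc, ← hg]; group
          rw [this]; exact hx
        rw [h1, mem_bot] at h2
        exact hx1 h2
      obtain ⟨u, v, hu, hv, rfl, hup, hvp⟩ := exists_parts p g
      have hzN : zpowers (u * v) ≤ normalizer ((P : Subgroup G) : Set G) := by
        rw [zpowers_le]; exact hgN
      have hzC : zpowers (u * v) ≤ centralizer {x} := by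
        rw [zpowers_le, mem_centralizer_singleton_iff]; exact hg
      have huP : u ∈ (P : Subgroup G) := mem_sylow_of_mem_normalizer P hup (hzN hu)
      have hvC : v ∈ centralizer ((P : Subgroup G) : Set G) := by
        set K := zpowers v with hK
        have hKN : K ≤ normalizer ((P : Subgroup G) : Set G) := by
          rw [hK, zpowers_le]; exact hzN hv
        have hcop : (Nat.card K).Coprime (Nat.card (P : Subgroup G)) := by
          obtain ⟨n, hn⟩ := IsPGroup.iff_card.1 P.2
          rw [hn, hK, Nat.card_zpowers]
          exact Nat.Coprime.pow_right n hvp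
        have h1 := Cfsg.Agent.S0055.result K (P : Subgroup G) hKN hcop
        rcases P.2.commutator_eq_bot_or_commutator_eq_self hKN hcop.symm with h2 | h2
        · exact (commutator_eq_bot_iff_le_centralizer.1 h2) (mem_zpowers v)
        · exfalso
          apply hx1
          have h3 : x ∈ ((P : Subgroup G) ⊓ centralizer (K : Set G)) ⊓ ⁅(P : Subgroup G), K⁆ := by
            refine mem_inf.2 ⟨mem_inf.2 ⟨hx, ?_⟩, ?_⟩
            · rw [mem_centralizer_iff]
              intro k hk
              have hk' : k ∈ zpowers (u * v) := by
                have : K ≤ zpowers (u * v) := by rw [hK, zpowers_le]; exact hv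
                exact this hk
              exact mem_centralizer_singleton_iff.1 (hzC hk')
            · rw [commutator_comm, h2]; exact hx
          rw [h1.1, mem_bot] at h3
          exact h3
      exact mul_mem (hPcent huP) hvC
    · exact centralizer_le (Set.singleton_subset_iff.2 hx)
  · intro h g hg
    rw [eq_bot_iff]
    intro x hx
    rw [mem_bot]
    by_contra hx1
    apply hg
    obtain ⟨hxP, hxg⟩ := mem_inf.1 hx
    have h1 := h x hxP hx1
    -- the conjugate of P centralises x
    have h2 : (MulAut.conj g • (P : Subgroup G)) ≤ centralizer ((P : Subgroup G) : Set G) := by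
      rw [← h1]
      intro y hy
      rw [mem_centralizer_singleton_iff]
      have : IsMulCommutative (MulAut.conj g • (P : Subgroup G) : Subgroup G) :=
        isMulCommutative_conj_smul _ g
      exact setLike_mul_comm hy hxg
    have h3 : ((g • P : Sylow p G) : Subgroup G) ≤ normalizer ((P : Subgroup G) : Set G) :=
      h2.trans (centralizer_le_normalizer _)
    have h4 : ((g • P : Sylow p G) : Subgroup G) ≤ P := by
      intro y hy
      obtain ⟨k, hk⟩ := (IsPGroup.iff_orderOf.1 (g • P).2) ⟨y, hy⟩
      exact mem_sylow_of_mem_normalizer P ⟨k, by rw [← hk, Subgroup.orderOf_mk]⟩ (h3 hy)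
    apply Sylow.smul_eq_iff_mem_normalizer.1
    exact Sylow.ext ((g • P).3 P.2 h4).symm

end Cfsg.Agent.S3985
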