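import Cfsg.Statements.S4403
import Cfsg.Agent.Lib.Helper54StrEmb2
import Cfsg.Agent.Lib.Helper11Frobenius
import Cfsg.Agent.Lib.Helper54Coprime
import Cfsg.Agent.Lib.Helper29Basic

set_option autoImplicit false
open Cfsg

namespace Cfsg.Agent.S4403

open Subgroup Cfsg.Agent.Lib.Helper40Sylow Cfsg.Agent.Lib.Helper11Frobenius

section core
variable {G : Type*} [Group G]

theorem conj_pow_zpow {x g : G} {k : ℤ} (hx : x * g * x⁻¹ = g ^ k) (j : ℕ) :
    x ^ j * g * (x ^ j)⁻¹ = g ^ (k ^ j) := by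
  induction j with
  | zero => simp
  | succ j ih =>
    have e : x ^ (j + 1) * g * (x ^ (j + 1))⁻¹ = x * (x ^ j * g * (x ^ j)⁻¹) * x⁻¹ := by
      rw [pow_succ']; group
    rw [e, ih, ← conj_zpow, hx, ← zpow_mul, pow_succ']

theorem core {p : ℕ} [Fact p.Prime] {x g : G} {k : ℤ} {n m : ℕ} (hg : orderOf g = p ^ n)
    (hx : x * g * x⁻¹ = g ^ k) (hm : x ^ m * g * (x ^ m)⁻¹ = g) (hpm : ¬ p ∣ m) (hk : (p : ℤ) ∣ k - 1) :
    g ^ k = g := by
  have hp : p.Prime := Fact.out
  have h1 := conj_pow_zpow hx m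
  rw [hm] at h1
  have h2 : g ^ (k ^ m) = g ^ (1 : ℤ) := by rw [← h1, zpow_one]
  rw [zpow_eq_zpow_iff_modEq, hg] at h2
  rcases n with _ | n'
  · have : g = 1 := by rw [← orderOf_eq_one_iff, hg, pow_zero]
    rw [this]; simp
  · have h3 := dvd_sub_pow_of_dvd_sub (R := ℤ) (p := p) (a := k) (b := 1) hk n'
    rw [one_pow] at h3
    set u : ZMod (p ^ (n' + 1)) := (k : ZMod (p ^ (n' + 1))) with hu
    have e1 : u ^ m = 1 := by
      have := (ZMod.intCast_eq_intCast_iff _ _ _).mpr h2
      push_cast at this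
      exact this
    have e2 : u ^ (p ^ n') = 1 := by
      have : ((k ^ p ^ n' - 1 : ℤ) : ZMod (p ^ (n' + 1))) = 0 := by
        rw [ZMod.intCast_zmod_eq_zero_iff_dvd]
        exact_mod_cast h3
      push_cast at this
      exact sub_eq_zero.mp this
    have e3 := pow_gcd_eq_one.mpr ⟨e1, e2⟩
    have e4 : Nat.gcd m (p ^ n') = 1 :=
      Nat.Coprime.pow_right _ ((Nat.Prime.coprime_iff_not_dvd hp).mpr hpm).symm
    rw [e4, pow_one] at e3
    have e5 : k ≡ 1 [ZMOD ((p ^ (n' + 1) : ℕ) : ℤ)] := by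
      rw [← ZMod.intCast_eq_intCast_iff]
      rw [← hu, e3]; simp
    have : g ^ k = g ^ (1 : ℤ) := by
      rw [zpow_eq_zpow_iff_modEq, hg]; exact e5
    rw [this, zpow_one]

theorem exists_gen {R : Subgroup G} (hc : IsCyclic R) : ∃ g : G, R = zpowers g := by
  obtain ⟨⟨g, hg⟩, h⟩ := hc.exists_generator
  refine ⟨g, le_antisymm ?_ (by rw [zpowers_le]; exact hg)⟩
  intro y hy
  obtain ⟨n, hn⟩ := h ⟨y, hy⟩
  refine ⟨n, ?_⟩
  have := congrArg Subtype.val hn
  simpa using this

theorem cyc_fix [Finite G] {p : ℕ} [Fact p.Prime] {R : Subgroup G} (hR : IsPGroup p R) (hc : IsCyclic R)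
    {x : G} (hx : x ∈ normalizer (R : Set G)) {m : ℕ} (hm : x ^ m ∈ centralizer (R : Set G)) (hpm : ¬ p ∣ m)
    {z : G} (hz : z ∈ R) (hz1 : z ≠ 1) (hzx : x * z * x⁻¹ = z) : x ∈ centralizer (R : Set G) := by
  have hp : p.Prime := Fact.out
  obtain ⟨g, rfl⟩ := exists_gen hc
  obtain ⟨n, hn⟩ := IsPGroup.iff_card.mp hR
  rw [Nat.card_zpowers] at hn
  have hgm : g ∈ zpowers g := mem_zpowers g
  obtain ⟨k, hk⟩ : ∃ k : ℤ, g ^ k = x * g * x⁻¹ := (hx g).mp hgm
  obtain ⟨a, ha⟩ : ∃ a : ℤ, g ^ a = z := hz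
  have h1 : g ^ (k * a) = g ^ a := by
    rw [zpow_mul, hk, conj_zpow, ha, hzx]
  rw [zpow_eq_zpow_iff_modEq, hn] at h1
  have h2 : ¬ ((p ^ n : ℕ) : ℤ) ∣ a := by
    intro h
    apply hz1
    rw [← ha, ← orderOf_dvd_iff_zpow_eq_one, hn]
    exact h
  have h3 : (p : ℤ) ∣ k - 1 := by
    by_contra hcon
    have hpi : Prime (p : ℤ) := Nat.prime_iff_prime_int.mp hp
    have c1 : IsCoprime (p : ℤ) (k - 1) := (Prime.coprime_iff_not_dvd hpi).mpr hcon
    have c2 : IsCoprime ((p ^ n : ℕ) : ℤ) (k - 1) := by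
      push_cast
      exact c1.pow_left
    have c3 : ((p ^ n : ℕ) : ℤ) ∣ (k - 1) * a := by
      have := h1.symm.dvd
      have e : k * a - a = (k - 1) * a := by ring
      rwa [e] at this
    exact h2 (c2.dvd_of_dvd_mul_left c3)
  have h4 : x ^ m * g * (x ^ m)⁻¹ = g := by
    have := mem_centralizer_iff.mp hm g hgm
    rw [← this]; group
  have h5 := core hn hk.symm h4 hpm h3
  rw [hk] at h5
  rw [mem_centralizer_iff]
  intro y hy
  obtain ⟨b, rfl⟩ := hy
  have hcomm : Commute x g := by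
    show x * g = g * x
    calc x * g = (x * g * x⁻¹) * x := by group
      _ = g * x := by rw [h5]
  exact (hcomm.zpow_right b).symm

end core

section npc
variable {C : Type*} [Group C] [Finite C] {p : ℕ} [Fact p.Prime]

theorem normalizer_le_centralizer_of_fix (P : Sylow p C) (hc : IsCyclic (P : Subgroup C)) {z : C}
    (hz : z ∈ center C) (hzP : z ∈ (P : Subgroup C)) (hz1 : z ≠ 1) :
    normalizer ((P : Subgroup C) : Set C) ≤ centralizer ((P : Subgroup C) : Set C) := by
  intro x hx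
  have hn : ((P : Subgroup C).subgroupOf (normalizer ((P : Subgroup C) : Set C))).Normal :=
    Subgroup.normal_in_normalizer
  have h1 := Subgroup.pow_index_mem ((P : Subgroup C).subgroupOf (normalizer ((P : Subgroup C) : Set C)))
    (⟨x, hx⟩ : normalizer ((P : Subgroup C) : Set C))
  rw [mem_subgroupOf] at h1
  have h2 : x ^ ((P : Subgroup C).relIndex (normalizer ((P : Subgroup C) : Set C))) ∈ (P : Subgroup C) := by
    simpa [Subgroup.relIndex] using h1
  have hab : (P : Subgroup C) ≤ centralizer ((P : Subgroup C) : Set C) := by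
    have : IsMulCommutative (P : Subgroup C) := hc.isMulCommutative
    exact Subgroup.le_centralizer _
  refine cyc_fix P.2 hc hx (hab h2) ?_ hzP hz1 ?_
  · intro hd
    apply P.not_dvd_index
    rw [← Subgroup.relIndex_mul_index (Subgroup.le_normalizer (H := (P : Subgroup C)))]
    exact hd.mul_right _
  · rw [(mem_center_iff.mp hz x)]; group

theorem hasNPC_of_central (P : Sylow p C) (hc : IsCyclic (P : Subgroup C)) {z : C}
    (hz : z ∈ center C) (hzP : z ∈ (P : Subgroup C)) (hz1 : z ≠ 1) : HasNPC p C :=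
  (hasNPC_iff_sylow P).mpr ⟨_, inferInstance,
    MonoidHom.ker_transferSylow_isComplement' P (normalizer_le_centralizer_of_fix P hc hz hzP hz1)⟩

end npc

section caseA
variable {K : Type*} [Group K] [Finite K] {p : ℕ} [Fact p.Prime]
open Cfsg.Agent.Lib.Helper54Core

theorem caseA (hO : Cfsg.pPrimeCore p K = ⊥) (P : Sylow p K) (hP : IsCyclic ↥(P : Subgroup K))
    (hne : Cfsg.pCore p K ≠ ⊥) :
    (P : Subgroup K) = Cfsg.pCore p K ∧ centralizer ((P : Subgroup K) : Set K) = P := by
  have hp : p.Prime := Fact.out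
  set Q := Cfsg.pCore p K with hQ
  have hQn : Q.Normal := Subgroup.sSup_normal _ (fun _ h => h.1)
  have hQp : IsPGroup p Q := pCore_isPGroup _
  have hQP : Q ≤ P := IsPGroup.le_sylow_of_normal hQp P
  set C := centralizer (Q : Set K) with hC
  have hCn : C.Normal := inferInstance
  have hab : (P : Subgroup K) ≤ centralizer ((P : Subgroup K) : Set K) := by
    have : IsMulCommutative (P : Subgroup K) := hP.isMulCommutative
    exact Subgroup.le_centralizer _
  have hPC : (P : Subgroup K) ≤ C := hab.trans (centralizer_le hQP)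
  obtain ⟨z, hzQ, hz1⟩ : ∃ z ∈ Q, z ≠ 1 := by
    by_contra hcon
    push Not at hcon
    exact hne ((Subgroup.eq_bot_iff_forall _).mpr hcon)
  let P' : Sylow p C := P.subtype hPC
  have hc' : IsCyclic (P' : Subgroup C) :=
    isCyclic_of_surjective _ (subgroupOfEquivOfLe hPC).symm.surjective
  have hzC : z ∈ C := hPC (hQP hzQ)
  have hz' : (⟨z, hzC⟩ : C) ∈ center C := by
    rw [mem_center_iff]
    rintro ⟨y, hy⟩
    apply Subtype.ext
    exact (mem_centralizer_iff.mp hy z hzQ).symm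
  have hzP' : (⟨z, hzC⟩ : C) ∈ (P' : Subgroup C) := by
    show (⟨z, hzC⟩ : C) ∈ (P : Subgroup K).subgroupOf C
    rw [mem_subgroupOf]
    exact hQP hzQ
  obtain ⟨N, hN, h1, k, h2⟩ := hasNPC_of_central P' hc' hz' hzP' (by
    intro h; exact hz1 (congrArg Subtype.val h))
  have hNK : (N.map C.subtype).Normal := by
    constructor
    rintro _ ⟨x, hx, rfl⟩ g
    have hxg : g * (x : K) * g⁻¹ ∈ C := hCn.conj_mem _ x.2 g
    refine ⟨⟨_, hxg⟩, ?_, rfl⟩
    have e1 := (mem_iff_coprime N h1 k h2 x).mp hx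
    apply (mem_iff_coprime N h1 k h2 _).mpr
    rw [← Subgroup.orderOf_coe] at e1 ⊢
    have : orderOf (g * (x : K) * g⁻¹) = orderOf (x : K) := by
      have := orderOf_injective (MulAut.conj g).toMonoidHom (MulAut.conj g).injective (x : K)
      simpa using this
    show (orderOf (g * (x : K) * g⁻¹)).Coprime p
    rw [this]; exact e1
  have hNbot : N = ⊥ := by
    have h3 : N.map C.subtype ≤ Cfsg.pPrimeCore p K := by
      apply le_pPrimeCore hNK
      rw [Nat.card_congr (N.equivMapOfInjective _ C.subtype_injective).symm.toEquiv]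
      exact h1
    rw [hO] at h3
    exact (Subgroup.map_eq_bot_iff_of_injective _ C.subtype_injective).mp (le_bot_iff.mp h3)
  have hCp : IsPGroup p C := by
    apply IsPGroup.of_card (n := k)
    rw [← h2, hNbot, index_bot]
  have hCQ : C ≤ Q := le_pCore hCn hCp
  have hPQ : (P : Subgroup K) = Q := le_antisymm (hPC.trans hCQ) hQP
  refine ⟨hPQ, ?_⟩
  rw [hPQ]
  exact le_antisymm hCQ (hPQ.symm.le.trans hPC)

theorem quot (hdvd : p ∣ Nat.card K) (P : Sylow p K) (hP : IsCyclic ↥(P : Subgroup K))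
    (hn : (P : Subgroup K).Normal) (hcen : centralizer ((P : Subgroup K) : Set K) = P) :
    IsCyclic (K ⧸ (P : Subgroup K)) ∧ (P : Subgroup K).index ∣ p - 1 := by
  have hp : p.Prime := Fact.out
  obtain ⟨g, hg⟩ := exists_gen hP
  obtain ⟨n, hn'⟩ := IsPGroup.iff_card.mp P.2
  have hn0 : n ≠ 0 := by
    rintro rfl
    rw [pow_zero, Subgroup.card_eq_one] at hn'
    exact P.ne_bot_of_dvd_card hdvd hn'
  have hgP : g ∈ (P : Subgroup K) := by rw [hg]; exact mem_zpowers g
  have hgo : orderOf g = p ^ n := by rw [← hn', hg, Nat.card_zpowers]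
  let _ : MulDistribMulAction K (P : Subgroup K) :=
    MulDistribMulAction.compHom _ (MulAut.conjNormal (H := (P : Subgroup K)))
  let ϕ := MulDistribMulAction.toMonoidHomZModOfIsCyclic (P : Subgroup K) K hn'
  have key : ∀ x : K, x * g * x⁻¹ = g ^ ((ϕ x).cast : ℤ) := by
    intro x
    have := MulDistribMulAction.toMonoidHomZModOfIsCyclic_apply hn' x (⟨g, hgP⟩ : (P : Subgroup K))
      ((ϕ x).cast : ℤ) (by simp [ϕ])
    have h2 := congrArg Subtype.val this
    have h3 : ((x • (⟨g, hgP⟩ : (P : Subgroup K)) : (P : Subgroup K)) : K) = x * g * x⁻¹ := rfl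
    rw [h3] at h2
    simpa using h2
  let ψ : K →* ZMod p := ((ZMod.castHom (dvd_pow_self p hn0) (ZMod p)) : ZMod (p ^ n) →* ZMod p).comp ϕ
  let ψ' : K →* (ZMod p)ˣ := ψ.toHomUnits
  have hab : ∀ y ∈ (P : Subgroup K), y * g * y⁻¹ = g := by
    intro y hy
    rw [hg] at hy
    obtain ⟨b, rfl⟩ := hy
    have : Commute (g ^ b) g := (Commute.refl g).zpow_left b
    rw [this.eq]; group
  have hker : ψ'.ker = (P : Subgroup K) := by
    ext x
    rw [MonoidHom.mem_ker]
    constructor
    · intro hx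
      have h1 : ψ x = 1 := by
        have := congrArg Units.val hx
        simpa [ψ'] using this
      have h2 : (((ϕ x).cast : ℤ) : ZMod p) = 1 := by
        rw [ZMod.intCast_cast]
        exact h1
      have h3 : (p : ℤ) ∣ ((ϕ x).cast : ℤ) - 1 := by
        rw [← ZMod.intCast_zmod_eq_zero_iff_dvd]
        push_cast
        rw [h2, sub_self]
      have h4 := core hgo (key x) (hab _ (Subgroup.pow_index_mem (P : Subgroup K) x)) P.not_dvd_index h3
      rw [← key x] at h4
      rw [← hcen, hg, mem_centralizer_iff]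
      intro y hy
      obtain ⟨b, rfl⟩ := hy
      have hcomm : Commute x g := by
        show x * g = g * x
        calc x * g = (x * g * x⁻¹) * x := by group
          _ = g * x := by rw [h4]
      exact (hcomm.zpow_right b).symm
    · intro hx
      have h1 := key x
      rw [hab x hx] at h1
      have h2 : g ^ ((ϕ x).cast : ℤ) = g ^ (1 : ℤ) := by rw [← h1, zpow_one]
      rw [zpow_eq_zpow_iff_modEq, hgo, ← ZMod.intCast_eq_intCast_iff] at h2
      have h3 : ϕ x = 1 := by simpa using h2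
      apply Units.ext
      show ψ x = 1
      show (ZMod.castHom (dvd_pow_self p hn0) (ZMod p)) (ϕ x) = 1
      rw [h3, map_one]
  constructor
  · let e : ψ'.range ≃* K ⧸ (P : Subgroup K) :=
      (QuotientGroup.quotientKerEquivRange ψ').symm.trans (QuotientGroup.quotientMulEquivOfEq hker)
    exact isCyclic_of_surjective e e.surjective
  · rw [← hker, Subgroup.index_ker]
    have := Subgroup.card_subgroup_dvd_card ψ'.range
    rwa [Nat.card_eq_fintype_card (α := (ZMod p)ˣ), ZMod.card_units] at this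

end caseA

section caseB
variable {K : Type*} [Group K] [Finite K] {p : ℕ} [Fact p.Prime]
open Cfsg.Agent.Lib.Helper54Core Cfsg.Agent.Lib.Helper54StrEmb Cfsg.Agent.Lib.Helper54StrEmb2
  Cfsg.Agent.Lib.Helper28Comp Cfsg.Agent.Lib.Helper28Layer Cfsg.Agent.Lib.Helper28More
  Cfsg.Agent.Lib.Helper28Fitting

theorem inf_ne_bot_of_cyclic {W A B : Subgroup K} (hW : IsCyclic W) (hWp : IsPGroup p W) (hA : A ≤ W)
    (hB : B ≤ W) (hA1 : A ≠ ⊥) (hB1 : B ≠ ⊥) : A ⊓ B ≠ ⊥ := by
  have hp : p.Prime := Fact.out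
  have key : ∀ A : Subgroup K, A ≤ W → A ≠ ⊥ → ∃ a ∈ A, orderOf a = p := by
    intro A hA hA1
    have hAp : IsPGroup p A := hWp.to_le hA
    have : p ∣ Nat.card A := by
      obtain ⟨n, hn⟩ := IsPGroup.iff_card.mp hAp
      rcases n with _ | n
      · exact absurd (Subgroup.card_eq_one.mp (by simpa using hn)) hA1
      · rw [hn]; exact dvd_pow_self _ (Nat.succ_ne_zero n)
    obtain ⟨a, ha⟩ := exists_prime_orderOf_dvd_card' p this
    exact ⟨a, a.2, by rwa [Subgroup.orderOf_coe]⟩
  obtain ⟨a, haA, hao⟩ := key A hA hA1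
  obtain ⟨b, hbB, hbo⟩ := key B hB hB1
  have h1 : zpowers a = zpowers b :=
    Cfsg.Agent.Lib.Helper29Basic.eq_of_card_eq_of_le_cyclic hW ((zpowers_le).mpr (hA haA))
      ((zpowers_le).mpr (hB hbB)) (by rw [Nat.card_zpowers, Nat.card_zpowers, hao, hbo])
  intro h
  have ha : a ∈ A ⊓ B := ⟨haA, ((zpowers_le).mpr hbB) (h1 ▸ mem_zpowers a)⟩
  rw [h, mem_bot] at ha
  rw [ha, orderOf_one] at hao
  exact hp.one_lt.ne hao

theorem fitting_bot (hO : Cfsg.pPrimeCore p K = ⊥) (hbot : Cfsg.pCore p K = ⊥) :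
    Cfsg.fittingSubgroup K = ⊥ := by
  have hp : p.Prime := Fact.out
  rw [fitting_eq_iSup_pCore, eq_bot_iff]
  apply iSup_le
  intro q
  have hqn : (Cfsg.pCore (q : ℕ) K).Normal := Subgroup.sSup_normal _ (fun _ h => h.1)
  have hqp : IsPGroup (q : ℕ) (Cfsg.pCore (q : ℕ) K) := Cfsg.Agent.Lib.Helper54Core.pCore_isPGroup _
  by_cases hq : (q : ℕ) = p
  · rw [hq, hbot]
  · have : Fact (q : ℕ).Prime := ⟨q.2⟩
    rw [← hO]
    apply le_pPrimeCore hqn
    obtain ⟨n, hn⟩ := IsPGroup.iff_card.mp hqp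
    rw [hn]
    exact Nat.Coprime.pow_left n ((Nat.coprime_primes q.2 hp).mpr hq)

theorem caseB (hdvd : p ∣ Nat.card K) (hO : Cfsg.pPrimeCore p K = ⊥) (P : Sylow p K)
    (hP : IsCyclic ↥(P : Subgroup K)) (hbot : Cfsg.pCore p K = ⊥) :
    ∃ L : Subgroup K, CompIn L ⊤ ∧ Cfsg.generalizedFittingSubgroup K = L ∧ cen L = ⊥ ∧
      p ∣ Nat.card L ∧ L.Normal := by
  have hp : p.Prime := Fact.out
  have hF := fitting_bot hO hbot
  have hgf : Cfsg.generalizedFittingSubgroup K = layerIn ⊤ := by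
    unfold Cfsg.generalizedFittingSubgroup
    rw [hF, sup_bot_eq, layer_eq]
  have hPne : (P : Subgroup K) ≠ ⊥ := P.ne_bot_of_dvd_card hdvd
  have hlne : layerIn (⊤ : Subgroup K) ≠ ⊥ := by
    intro h
    have h1 := centralizer_gfit_le (G := K)
    rw [hgf, h] at h1
    apply hPne
    rw [eq_bot_iff]
    refine le_trans ?_ h1
    intro x _
    rw [mem_centralizer_iff]
    intro y hy
    have : y = 1 := by simpa using hy
    rw [this]; simp
  have hex : ∃ L : Subgroup K, CompIn L ⊤ := by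
    by_contra hcon
    push Not at hcon
    apply hlne
    unfold layerIn
    rw [eq_bot_iff]
    exact sSup_le fun L hL => absurd hL (hcon L)
  obtain ⟨L, hL⟩ := hex
  have hdv : ∀ L' : Subgroup K, CompIn L' ⊤ → p ∣ Nat.card L' := by
    intro L' hL'
    by_contra h
    have h3 : L' ≤ Cfsg.pPrimeCore p K :=
      Cfsg.Agent.Lib.Helper37Cores.le_pPrimeCore_of_isSubnormal (sn_top_iff.mp hL'.1)
        ((Nat.Prime.coprime_iff_not_dvd hp).mpr h).symm
    rw [hO] at h3
    exact hL'.2.ne_bot (le_bot_iff.mp h3)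
  have hsyl : ∀ L' : Subgroup K, CompIn L' ⊤ → (P : Subgroup K) ⊓ L' ≠ ⊥ := by
    intro L' hL'
    have h1 : IsSylowIn p ((P : Subgroup K) ⊓ L') L' := isSylowIn_inf_of_sn (isSylowIn_top P) hL'.1
    exact isSylowIn_ne_bot h1 (hdv L' hL')
  have hcl : cen (layerIn (⊤ : Subgroup K)) = ⊥ := by
    have h1 := cen_layerIn_le_fittingIn (⊤ : Subgroup K)
    rw [← fitting_eq, hF] at h1
    exact le_bot_iff.mp h1
  have huniq : ∀ L', CompIn L' ⊤ → L' = L := by
    intro L' hL'
    by_contra hne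
    have hcomm : ⁅L', L⁆ = ⊥ := (hL'.eq_or_commute hL).resolve_left hne
    have h1 := inf_ne_bot_of_cyclic hP P.2 (inf_le_left : (P : Subgroup K) ⊓ L' ≤ P)
      (inf_le_left : (P : Subgroup K) ⊓ L ≤ P) (hsyl L' hL') (hsyl L hL)
    apply h1
    rw [eq_bot_iff, ← hcl]
    intro z hz
    have hzL' : z ∈ L' := hz.1.2
    have hzL : z ∈ L := hz.2.2
    refine ⟨compIn_le_layerIn hL hzL, ?_⟩
    have : layerIn (⊤ : Subgroup K) ≤ centralizer ({z} : Set K) := by
      apply sSup_le
      intro L'' hL''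
      by_cases h : L'' = L
      · rw [h]
        rw [commutator_comm] at hcomm
        have h2 := commutator_eq_bot_iff_le_centralizer.mp hcomm
        exact h2.trans (centralizer_le (by simpa using hzL'))
      · have h2 := commutator_eq_bot_iff_le_centralizer.mp ((CompIn.eq_or_commute hL'' hL).resolve_left h)
        exact h2.trans (centralizer_le (by simpa using hzL))
    exact Cfsg.Agent.Lib.Helper28Util.mem_centralizer_subgroup_iff_le.mpr this
  have hlayer : layerIn (⊤ : Subgroup K) = L := by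
    apply le_antisymm
    · exact sSup_le fun L' hL' => (huniq L' hL').le
    · exact compIn_le_layerIn hL
  refine ⟨L, hL, hgf.trans hlayer, ?_, hdv L hL, ?_⟩
  · rw [← hlayer]; exact hcl
  · rw [← hlayer]; exact normIn_top_iff.mp (layerIn_normIn ⊤)

theorem sylow_le (P : Sylow p K) (hP : IsCyclic ↥(P : Subgroup K)) {L : Subgroup K} (hLn : L.Normal)
    (hperf : ⁅L, L⁆ = L) (hdv : p ∣ Nat.card L) : (P : Subgroup K) ≤ L := by
  have hp : p.Prime := Fact.out
  set X : Subgroup K := (P : Subgroup K) ⊔ L with hX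
  have hPX : (P : Subgroup K) ≤ X := le_sup_left
  have hLX : L ≤ X := le_sup_right
  have hXX : ⁅X, X⁆ = L := by
    apply le_antisymm
    · have h1 : X.map (QuotientGroup.mk' L) = (P : Subgroup K).map (QuotientGroup.mk' L) := by
        rw [hX, Subgroup.map_sup]
        have : L.map (QuotientGroup.mk' L) = ⊥ := by
          rw [Subgroup.map_eq_bot_iff, QuotientGroup.ker_mk']
        rw [this, sup_bot_eq]
      have h2 : ⁅(P : Subgroup K), (P : Subgroup K)⁆ = ⊥ := by
        rw [commutator_eq_bot_iff_le_centralizer]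
        have : IsMulCommutative (P : Subgroup K) := hP.isMulCommutative
        exact Subgroup.le_centralizer _
      have h3 : (⁅X, X⁆).map (QuotientGroup.mk' L) = ⊥ := by
        rw [Subgroup.map_commutator, h1, ← Subgroup.map_commutator, h2, Subgroup.map_bot]
      rw [Subgroup.map_eq_bot_iff, QuotientGroup.ker_mk'] at h3
      exact h3
    · rw [← hperf]
      exact Subgroup.commutator_mono (hperf ▸ hLX) (hperf ▸ hLX)
  let PX : Sylow p X := P.subtype hPX
  have hc : IsCyclic (PX : Subgroup X) :=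
    isCyclic_of_surjective _ (subgroupOfEquivOfLe hPX).symm.surjective
  have hcomm : commutator X = L.subgroupOf X := by
    apply Subgroup.map_injective X.subtype_injective
    rw [Subgroup.map_subtype_commutator, hXX, Subgroup.map_subgroupOf_eq_of_le hLX]
  have h4 := Sylow.not_dvd_card_commutator_or_not_dvd_index_commutator PX
  rw [hcomm] at h4
  have h5 : Nat.card (L.subgroupOf X) = Nat.card L :=
    Nat.card_congr (subgroupOfEquivOfLe hLX).toEquiv
  rw [h5] at h4
  have h6 : ¬ p ∣ L.relIndex X := h4.resolve_left (not_not.mpr hdv)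
  rw [hX, Subgroup.relIndex_sup_right] at h6
  rw [← Subgroup.relIndex_eq_one]
  obtain ⟨n, hn⟩ := IsPGroup.iff_card.mp P.2
  have h7 : L.relIndex (P : Subgroup K) ∣ p ^ n := by
    rw [← hn]; exact Subgroup.relIndex_dvd_card _ _
  obtain ⟨j, -, hj⟩ := (Nat.dvd_prime_pow hp).mp h7
  rcases j with _ | j
  · simpa using hj
  · exact absurd (hj ▸ dvd_pow_self p (Nat.succ_ne_zero j)) h6

end caseB

theorem result {K : Type*} [Group K] [Finite K] (p : ℕ) [Fact p.Prime] (hp : p ∣ Nat.card K) (hO : Cfsg.pPrimeCore p K = ⊥)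
    (P : Sylow p K) (hP : IsCyclic ↥(P : Subgroup K)) :
    ((P : Subgroup K).Normal ∧ Subgroup.centralizer ((P : Subgroup K) : Set K) = (P : Subgroup K) ∧
      (∀ (_ : (P : Subgroup K).Normal), IsCyclic (K ⧸ (P : Subgroup K))) ∧ (P : Subgroup K).index ∣ p - 1) ∨
    (IsSimpleGroup ↥(Cfsg.generalizedFittingSubgroup K) ∧ ¬ IsMulCommutative ↥(Cfsg.generalizedFittingSubgroup K) ∧
      ¬ p ∣ (Cfsg.generalizedFittingSubgroup K).index) := by
  by_cases hbot : Cfsg.pCore p K = ⊥
  · right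
    obtain ⟨L, hL, hgf, hcen, hdv, hLn⟩ := caseB hp hO P hP hbot
    rw [hgf]
    have hqs : Cfsg.IsQuasisimple L := Cfsg.Agent.Lib.Helper28Comp.isQuasisimple_iff_QS.mpr hL.2
    obtain ⟨hperf, hnt, hN⟩ := Cfsg.Agent.Lib.Helper28Comp.isQuasisimple_iff.mp hqs
    have hc : center L = ⊥ := by
      have := Cfsg.Agent.Lib.Helper28More.map_center L
      rw [hcen] at this
      exact (Subgroup.map_eq_bot_iff_of_injective _ L.subtype_injective).mp this
    refine ⟨?_, ?_, ?_⟩
    · refine { exists_pair_ne := hnt.exists_pair_ne, eq_bot_or_eq_top_of_normal := ?_ }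
      intro N hNn
      rcases hN N hNn with h | h
      · exact Or.inr h
      · rw [hc] at h
        exact Or.inl (le_bot_iff.mp h)
    · exact Group.IsPerfect.not_isMulCommutative L
    · intro hd
      exact P.not_dvd_index (hd.trans (Subgroup.index_dvd_of_le (sylow_le P hP hLn hL.2.perfect hdv)))
  · left
    obtain ⟨h1, h2⟩ := caseA hO P hP hbot
    have hn : (P : Subgroup K).Normal := by
      rw [h1]
      exact Subgroup.sSup_normal _ (fun _ h => h.1)
    obtain ⟨h3, h4⟩ := quot hp P hP hn h2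
    exact ⟨hn, h2, fun _ => h3, h4⟩

end Cfsg.Agent.S4403
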