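import Cfsg.Statements.S0029
import Cfsg.Agent.Lib.Helper1Coprime
import Cfsg.Agent.Lib.Helper1Char

set_option autoImplicit false
open Cfsg

namespace Cfsg.Agent.S0029

open Subgroup Cfsg.Agent.Lib.Helper1Basic Cfsg.Agent.Lib.Helper1Coprime Cfsg.Agent.Lib.Helper1Char

theorem result {G : Type*} [Group G] [Finite G] (A K : Subgroup G)
    (hAK : A ≤ Subgroup.normalizer (K : Set G))
    (hcop : (Nat.card A).Coprime (Nat.card (frattini K)))
    (htriv : ∀ a ∈ A, ∀ k ∈ K, a * k * a⁻¹ * k⁻¹ ∈ (frattini K).map K.subtype) :
    A ≤ Subgroup.centralizer (K : Set G) := by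
  set U : Subgroup G := (frattini K).map K.subtype with hU
  have hAU : A ≤ normalizer (U : Set G) :=
    hAK.trans (normalizer_le_normalizer_map_of_characteristic (frattini K))
  have hcardU : Nat.card U = Nat.card (frattini K) :=
    card_map_of_injective K.subtype_injective
  have hsolU : Group.IsSolvable U := by
    have : Group.IsNilpotent (frattini K) := frattini_nilpotent
    have : Group.IsSolvable (frattini K) := inferInstance
    exact isSolvable_map K.subtype (frattini K)
  have key : (centralizer (A : Set G)).subgroupOf K = ⊤ := by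
    apply frattini_nongenerating
    rw [eq_top_iff]
    intro k _
    obtain ⟨u, hu, hc⟩ := exists_mul_mem_centralizer hAU (hcardU ▸ hcop) (Or.inr hsolU) k
      (fun a ha => htriv a ha k k.2)
    obtain ⟨u', hu', rfl⟩ := hu
    have e : k = (u' * k) * (k⁻¹ * u'⁻¹ * k) := by group
    rw [e]
    refine mul_mem (mem_sup_left ?_) (mem_sup_right ?_)
    · rw [mem_subgroupOf]; exact hc
    · have h1 : (frattini K).Normal := inferInstance
      have := h1.conj_mem _ (inv_mem hu') k⁻¹
      simpa using this
  rw [le_centralizer_iff]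
  intro k hk
  have : (⟨k, hk⟩ : K) ∈ (centralizer (A : Set G)).subgroupOf K := key ▸ mem_top _
  exact this

end Cfsg.Agent.S0029
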