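import Cfsg.Statements.S1365
import Cfsg.Agent.Lib.Helper51BG16
import Cfsg.Agent.Lib.Helper68BGC
import Cfsg.Agent.S1459

set_option autoImplicit false
open Cfsg

namespace Cfsg.Agent.S1365

open Subgroup
open scoped commutatorElement
open Cfsg.Agent.Lib.Helper30Trans Cfsg.Agent.Lib.Helper24BG Cfsg.Agent.Lib.Helper51BG16

theorem derived_eq {G : Type*} [Group G] [Finite G] (hG : Cfsg.IsMinSimpleOddOrder G)
    {M : Subgroup G} (hM : IsCoatom M) {K U : Subgroup G} (hKU : Cfsg.IsSigmaDecomposition M K U)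
    (hK1 : K ≠ ⊥) : ⁅M, M⁆ = U ⊔ Cfsg.sigmaCore M := by
  have hKM : K ≤ M := hKU.hall.1
  have hUM : U ≤ M := hKU.compl.1
  have hσM : Cfsg.sigmaCore M ≤ M := Cfsg.Agent.Lib.Helper2BGb.sigmaCore_le M
  apply le_antisymm
  · have hfac : ∀ m ∈ M, ∃ a ∈ K, ∃ b ∈ U ⊔ Cfsg.sigmaCore M, m = a * b := by
      intro m hm
      obtain ⟨u, hu, b, hb, rfl⟩ := hKU.compl.2.2.2 m hm
      have hKn : K ≤ normalizer ((Cfsg.sigmaCore M : Subgroup G) : Set G) :=
        hKM.trans (Cfsg.Agent.Lib.Helper2BGb.le_normalizer_sigmaCore M)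
      rw [sup_comm, Cfsg.Agent.Lib.Helper30SZ.mem_sup_iff hKn] at hb
      obtain ⟨s, hs, k, hk, rfl⟩ := hb
      -- `u s k = k (k⁻¹ u s k)`
      refine ⟨k, hk, k⁻¹ * (u * s) * k, ?_, by group⟩
      have h1 : u * s ∈ U ⊔ Cfsg.sigmaCore M := mul_mem (mem_sup_left hu) (mem_sup_right hs)
      have h2 := normal_UMs hKU (M.inv_mem (hKM hk))
      have h3 := (mem_normalizer_iff.mp h2 (u * s)).mp h1
      simpa using h3
    have h1 := Cfsg.Agent.Lib.Helper2BGa.commutator_le_sup hKM (normal_UMs hKU) hfac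
    have h2 : ⁅K, K⁆ = ⊥ := by
      haveI := hKU.cyclic
      rw [commutator_eq_bot_iff_le_centralizer]
      intro x hx
      rw [mem_centralizer_iff]
      intro y hy
      have := (IsCyclic.commGroup (α := K)).mul_comm ⟨y, hy⟩ ⟨x, hx⟩
      exact congrArg Subtype.val this
    rwa [h2, sup_bot_eq] at h1
  · apply sup_le _ (Cfsg.Agent.Lib.Helper2BGb.sigmaCore_le_derived hG hM)
    intro u hu
    haveI := hKU.cyclic
    have hsol : Group.IsSolvable K := by
      letI := IsCyclic.commGroup (α := K)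
      infer_instance
    obtain ⟨x, hx, c, hc, rfl⟩ := Cfsg.Agent.Lib.Helper30SZ.exists_commutator_mul_centralizer
      hKU.normal (coprime_K_U hG hM hKU) (Or.inl hsol) hu
    obtain ⟨k, hk, hk1⟩ := exists_ne_one_of_ne_bot' hK1
    have hc1 : c = 1 := by
      have h1 : c ∈ U ⊓ centralizer ({k} : Set G) := by
        refine ⟨hc.1, ?_⟩
        exact centralizer_le (Set.singleton_subset_iff.mpr hk) hc.2
      rw [(U_abelian_free hG hM hKU hK1).2 k hk hk1, mem_bot] at h1
      exact h1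
    rw [hc1, mul_one]
    exact commutator_mono hUM hKM hx

/-- Let G be a minimal simple group of odd order and M a maximal subgroup with standard factorisation M = K U M_σ and K ≠ 1. Then the derived subgroup of M is generated by U and M_σ, and M_σ ∩ C_G(K) is contained in the second derived subgroup of M. -/
theorem result {G : Type*} [Group G] [Finite G] (hG : Cfsg.IsMinSimpleOddOrder G)
    (M : Subgroup G) (hM : IsCoatom M) (K U : Subgroup G) (hKU : Cfsg.IsSigmaDecomposition M K U) (hK1 : K ≠ ⊥) :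
    ⁅M, M⁆ = U ⊔ Cfsg.sigmaCore M ∧ (Cfsg.sigmaCore M ⊓ Subgroup.centralizer (K : Set G)) ≤ ⁅⁅M, M⁆, ⁅M, M⁆⁆ := by
  have hD := derived_eq hG hM hKU hK1
  refine ⟨hD, ?_⟩
  haveI : Group.IsSolvable M := sol hG hM.1
  have hKM : K ≤ M := hKU.hall.1
  set H : Subgroup M := commutator M with hH
  set K' : Subgroup M := K.subgroupOf M with hK'
  have hHmap : H.map M.subtype = ⁅M, M⁆ := Cfsg.Agent.Lib.Helper68BGC.map_commutator_subtype M
  have hcardH : Nat.card H = Nat.card U * Nat.card (Cfsg.sigmaCore M) := by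
    rw [← card_UMs hG hM hKU, ← hD, ← hHmap, card_map_of_injective M.subtype_injective]
  have hcardK : Nat.card K' = Nat.card K := Cfsg.Agent.Lib.Helper30SZ.card_subgroupOf_of_le hKM
  have hcardM := card_eq hG hM hKU
  have hdisj : Disjoint H K' := by
    rw [disjoint_iff, eq_bot_iff]
    rintro x ⟨hx1, hx2⟩
    have h1 : (x : G) ∈ K ⊓ (U ⊔ Cfsg.sigmaCore M) := by
      refine ⟨mem_subgroupOf.mp hx2, ?_⟩
      rw [← hD, ← hHmap]
      exact ⟨x, hx1, rfl⟩
    rw [K_inf_UMs hG hM hKU, mem_bot] at h1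
    rw [mem_bot]; exact Subtype.ext h1
  have hcompl : Subgroup.IsComplement' H K' := by
    apply Subgroup.isComplement'_of_card_mul_and_disjoint _ hdisj
    rw [hcardH, hcardK, hcardM]; ring
  have hidx : H.index = Nat.card K := by
    have h1 := H.card_mul_index
    rw [hcardH, hcardM] at h1
    have hpos : 0 < Nat.card U * Nat.card (Cfsg.sigmaCore M) := Nat.mul_pos Nat.card_pos Nat.card_pos
    apply Nat.eq_of_mul_eq_mul_left hpos
    rw [h1]; ring
  have hcop : (Nat.card H).Coprime H.index := by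
    rw [hcardH, hidx]
    exact Nat.Coprime.mul_left (coprime_K_U hG hM hKU).symm (coprime_K_Ms hG hM hKU).symm
  obtain ⟨-, h2⟩ := (Cfsg.Agent.S1459.result (G := M)).1 H K' inferInstance hcop hcompl le_rfl
  rintro x ⟨hxσ, hxc⟩
  have hxD : x ∈ ⁅M, M⁆ := Cfsg.Agent.Lib.Helper2BGb.sigmaCore_le_derived hG hM hxσ
  rw [← hHmap] at hxD
  obtain ⟨y, hy, rfl⟩ := hxD
  have hyc : y ∈ centralizer (K' : Set M) := by
    rw [mem_centralizer_iff]
    intro k hk
    apply Subtype.ext
    exact (mem_centralizer_iff.mp hxc) k (mem_subgroupOf.mp hk)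
  have h3 := h2 ⟨hy, hyc⟩
  rw [← hHmap, ← Subgroup.map_commutator]
  exact ⟨y, h3, rfl⟩

end Cfsg.Agent.S1365
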