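import Cfsg.Statements.S1357
import Cfsg.Agent.S1437
import Cfsg.Agent.Lib.Helper60BG15nonTInil
import Cfsg.Agent.Lib.Helper76BG15intersigma
import Cfsg.Agent.Lib.Helper51BG16

set_option autoImplicit false
open Cfsg

namespace Cfsg.Agent.S1357

/-- Let G be a minimal simple group of odd order and M a maximal subgroup with standard factorisation M = K U M_σ. If M_F ≠ M_σ then U = 1, the Fitting subgroup F(M) meets its conjugates by elements outside its normalizer trivially, and K has prime order. -/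
theorem result {G : Type*} [Group G] [Finite G] (hG : Cfsg.IsMinSimpleOddOrder G)
    (M : Subgroup G) (hM : IsCoatom M) (K U : Subgroup G) (hKU : Cfsg.IsSigmaDecomposition M K U) (hne : Cfsg.fittingHallOf M ≠ Cfsg.sigmaCore M) :
    U = ⊥ ∧ Cfsg.IsTISubset (Cfsg.fittingOf M : Set G) ∧ (Nat.card K).Prime := by
  have h := Cfsg.Agent.S1437.result hG M hM K U hKU hne
  refine ⟨h.1, ?_, h.2.2.1⟩
  intro g hg x hx hgx
  by_contra hx1
  have hgM : g ∉ M := fun hgM =>
    hg (Cfsg.Agent.Lib.Helper30Bender.le_normalizer_fittingOf M hgM)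
  have hX : Cfsg.fittingOf M ⊓ (Cfsg.fittingOf M).map (MulAut.conj g).toMonoidHom ≠ ⊥ := by
    intro hbot
    have hmem : g * x * g⁻¹ ∈
        Cfsg.fittingOf M ⊓ (Cfsg.fittingOf M).map (MulAut.conj g).toMonoidHom :=
      ⟨hgx, ⟨x, hx, rfl⟩⟩
    rw [hbot, Subgroup.mem_bot] at hmem
    apply hx1
    have : x = g⁻¹ * (g * x * g⁻¹) * g := by group
    rw [this, hmem]
    group
  refine hne (Cfsg.Agent.Lib.Helper60BG15nonTInil.fittingHallOf_eq_of_nonTI_of hG hM hgM hX
    (Cfsg.Agent.Lib.Helper76BG15intersigma.inter_le_sigmaCore hG hM hgM) ?_)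
  intro _
  obtain ⟨-, -, -, hP, hb, Q, hQ, -⟩ := Cfsg.Agent.Lib.Helper56BG15.bg152 hG hM hKU hne
  exact ⟨K, _, Q, hP, hb, hQ⟩

end Cfsg.Agent.S1357
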