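import Cfsg.Statements.S1419
import Cfsg.Agent.Lib.Helper31BGW
import Cfsg.Agent.Lib.Helper3BGNotuniq
import Cfsg.Agent.Lib.Helper30Bender
import Cfsg.Agent.S1409
import Cfsg.Agent.S1416
import Cfsg.Agent.S1417
import Cfsg.Agent.S1418
import Cfsg.Agent.S1420

set_option autoImplicit false
open Cfsg

namespace Cfsg.Agent.S1419

open Subgroup
open Cfsg.Agent.Lib.Helper30Trans
open Cfsg.Agent.Lib.Helper24BG
open Cfsg.Agent.Lib.Helper24BG2
open Cfsg.Agent.Lib.Helper2BGDefs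
open Cfsg.Agent.Lib.Helper38BGTrans
open Cfsg.Agent.Lib.Helper31BGS
open Cfsg.Agent.Lib.Helper31BGV
open Cfsg.Agent.Lib.Helper31BGW

theorem maxSq_of_tau2 {G : Type*} [Group G] [Finite G] (hG : IsMinSimpleOddOrder G) {M : Subgroup G}
    (hM : IsCoatom M) {p : ℕ} [Fact p.Prime] (hp : p ∈ tau2 M) {A : Subgroup G} (hAM : A ≤ M)
    (hAe : IsElementaryAbelian p A) (hA2 : Nat.card A = p ^ 2) : MaxSq p A :=
  ⟨hAe, hA2, (Cfsg.Agent.S1408.result hG M hM p hp.2.1 hp.2.2.1 hp.2.2.2).2 A hAM hAe hA2⟩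

/-- part (a) -/
theorem tau2_unique {G : Type*} [Group G] [Finite G] (hG : IsMinSimpleOddOrder G) {M E A : Subgroup G}
    (hM : IsCoatom M) (hE : IsComplIn E (sigmaCore M) M) {p : ℕ} [hpf : Fact p.Prime]
    (hp : p ∈ tau2 M) (hS : ∀ S : Sylow p G, ¬ IsMulCommutative (S : Subgroup G))
    (hA : A ≤ E ∧ IsElementaryAbelian p A ∧ Nat.card A = p ^ 2) {q : ℕ} (hq : q ∈ tau2 M) :
    q = p := by
  by_contra hne
  have hqf : Fact q.Prime := ⟨hq.1⟩
  have hAM : A ≤ M := hA.1.trans hE.1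
  have hAp : IsPGroup p A := isPGroup_of_elemAb hA.2.1
  have hMax := maxSq_of_tau2 hG hM hp hAM hA.2.1 hA.2.2
  have hA1 : A ≠ ⊥ := by
    intro h
    have := hA.2.2
    rw [h, card_bot] at this
    have h2 := hpf.out.two_le
    nlinarith
  -- an elementary abelian subgroup of order `q ^ 2` in `E`
  obtain ⟨Q, hQ, -⟩ := exists_isSyl_ge (p := q) (bot_le : (⊥ : Subgroup G) ≤ E) IsPGroup.of_bot
  have hQM : IsSyl q Q M := by
    apply isSyl_of_not_dvd_relIndex hQ hE.1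
    rw [relIndex_compl hE]
    exact not_dvd_sigmaCore hG hM hq.1 hq.2.1
  have hQr : ¬ PRankLE q 1 Q := fun h => hq.2.2.2 (Cfsg.Agent.Lib.Helper27BGa.rank_of_isSyl hQM h)
  obtain ⟨B, hBQ, hBe, hBc⟩ := exists_sq hQr
  have hBE : B ≤ E := hBQ.trans hQ.1
  have h18p := Cfsg.Agent.S1418.result hG M hM E hE p hp A hA
  have h18q := Cfsg.Agent.S1418.result hG M hM E hE q hq B ⟨hBE, hBe, hBc⟩
  have hBA : B ⊓ A = ⊥ := by
    apply Cfsg.Agent.Lib.Helper30SZ.inf_eq_bot_of_coprime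
    rw [hA.2.2, hBc]
    exact Nat.Coprime.pow _ _ ((Nat.coprime_primes hpf.out hq.1).mpr (Ne.symm hne))
  have hBCA : B ≤ centralizer (A : Set G) :=
    Cfsg.Agent.Lib.Helper24BG3.le_centralizer_of_inf_bot (hBE.trans h18p.1.1) le_rfl
      (hA.1.trans h18q.1.1) hBA
  -- the nonabelian group `T = N_S(A)`
  obtain ⟨S, hSyl, hAS⟩ := exists_isSyl_ge (le_top : A ≤ ⊤) hAp
  have hSna : ¬ IsMulCommutative S := hS hSyl.toSylowTop
  have hTna := normalizer_nonab hMax hSyl.2.1 hAS hSna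
  set T := S ⊓ normalizer (A : Set G) with hT
  have hTp : IsPGroup p T := hSyl.2.1.to_le inf_le_left
  obtain ⟨Ms, ⟨hMs, hTMs⟩, huniq⟩ := Cfsg.Agent.S1422.result hG p T hTp hTna
  have hNMs : normalizer (A : Set G) ≤ Ms := by
    obtain ⟨K, hK, hNK⟩ := exists_coatom (norm_ne_top hG hA1 (pgroup_ne_top hG hAp))
    have := huniq K ⟨hK, inf_le_right.trans hNK⟩
    exact this ▸ hNK
  have hpσ : p ∈ sigma Ms := by
    by_contra h
    exact hTna (Cfsg.Agent.S1420.comm_of_pgroup hG hMs h hTp hTMs)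
  have hEMs : E ≤ Ms := h18p.1.1.trans hNMs
  have hBMs : B ≤ Ms := hBE.trans hEMs
  have hAMs : A ≤ Ms := hA.1.trans hEMs
  have hqr1 : ¬ PRankLE q 1 Ms := by
    apply not_rank_of_elemAb hBMs hBe
    rw [hBc]
    exact Nat.pow_lt_pow_right hq.1.one_lt (by norm_num)
  have hqσ : q ∈ sigma Ms := by
    by_contra hqs
    have hq2 : q ∈ tau2 Ms := by
      refine ⟨hq.1, hqs, ?_, hqr1⟩
      by_contra h
      exact hqs (Cfsg.Agent.Lib.Helper2BGb.alpha_subset_sigma hG hMs ⟨hq.1, h⟩)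
    have h17 := (Cfsg.Agent.S1417.result hG Ms hMs q hq2 B ⟨hBMs, hBe, hBc⟩).2.2.2.1
    apply hA1
    rw [eq_bot_iff, ← h17]
    exact le_inf (Cfsg.Agent.Lib.Helper2BGb.pgroup_le_sigmaCore hG hMs hpσ hAMs hAp)
      (le_centralizer_iff.mp hBCA)
  have hpβ : p ∉ beta Ms := fun h =>
    (Cfsg.Agent.S1408.result hG M hM p hp.2.1 hp.2.2.1 hp.2.2.2).1 h.2
  have hqβ : q ∉ beta Ms := fun h =>
    (Cfsg.Agent.S1408.result hG M hM q hq.2.1 hq.2.2.1 hq.2.2.2).1 h.2
  obtain ⟨S', Q', hS', hQ', hcomm, hAS'⟩ :=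
    exists_commuting_syl hG hMs (Ne.symm hne) hpσ hqσ hpβ hqβ hAMs hAp
  have hQ'M : Q' ≤ M := (hcomm.trans (centralizer_le hAS')).trans (h18p.2.1.1.trans inf_le_left)
  have hQ'r : ¬ PRankLE q 1 Q' := fun h => hqr1 (Cfsg.Agent.Lib.Helper27BGa.rank_of_isSyl hQ' h)
  obtain ⟨B', hB'Q, hB'e, hB'c⟩ := exists_sq hQ'r
  have h16 := (Cfsg.Agent.S1416.result hG M hM q B' ⟨hB'Q.trans hQ'M, hB'e, hB'c⟩).1
  have hS'M : S' ≤ M := ((le_centralizer_iff.mp hcomm).trans (centralizer_le hB'Q)).trans h16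
  have hab := Cfsg.Agent.S1420.comm_of_pgroup hG hM hp.2.1 hS'.2.1 hS'M
  exact hS (Cfsg.Agent.Lib.Helper2BGb.sigma_syl_top hpσ hS').toSylowTop hab

theorem le_normalizer_inf_centralizer' {G : Type*} [Group G] {K A H : Subgroup G}
    (hA : K ≤ normalizer (A : Set G)) (hH : K ≤ normalizer (H : Set G)) :
    K ≤ normalizer ((A ⊓ centralizer (H : Set G) : Subgroup G) : Set G) := by
  rw [le_normalizer_iff]
  rintro g hg x ⟨hxA, hxC⟩
  refine ⟨(mem_normalizer_iff.mp (hA hg) x).mp hxA, ?_⟩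
  show g * x * g⁻¹ ∈ centralizer (H : Set G)
  rw [mem_centralizer_iff]
  intro h hh
  have h1 : g⁻¹ * h * g⁻¹⁻¹ ∈ H := (mem_normalizer_iff.mp (hH (inv_mem hg)) h).mp hh
  have h2 := mem_centralizer_iff.mp hxC _ h1
  rw [inv_inv] at h2
  calc h * (g * x * g⁻¹) = g * ((g⁻¹ * h * g) * x) * g⁻¹ := by group
    _ = g * (x * (g⁻¹ * h * g)) * g⁻¹ := by rw [h2]
    _ = g * x * g⁻¹ * h := by group

/-- Let G be a minimal simple group of odd order whose Sylow p-subgroups are nonabelian, M a maximal subgroup with p ∈ τ₂(M), E a complement to M_σ in M and A ≤ E elementary abelian of order p ^ 2. Then τ₂(M) = {p}; A₀ = A ∩ C_G(M_σ) has order p and F(M) is generated by M_σ and A₀ (a direct product); and every subgroup X ≠ A₀ of E of order p satisfies M_σ ∩ C_G(X) = 1 and C_G(X) ⊄ M. -/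
theorem result {G : Type*} [Group G] [Finite G] (hG : Cfsg.IsMinSimpleOddOrder G)
    (M : Subgroup G) (hM : IsCoatom M) (E : Subgroup G) (hE : Cfsg.IsComplIn E (Cfsg.sigmaCore M) M) (p : ℕ) [Fact p.Prime] (hp : p ∈ Cfsg.tau2 M) (hS : ∀ S : Sylow p G, ¬ IsMulCommutative (S : Subgroup G))
    (A : Subgroup G) (hA : (A ≤ E ∧ Cfsg.IsElementaryAbelian p A ∧ Nat.card A = p ^ 2)) :
    Cfsg.tau2 M = {p} ∧
      (Nat.card ↥(A ⊓ Subgroup.centralizer (Cfsg.sigmaCore M : Set G)) = p ∧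
        Cfsg.fittingOf M = Cfsg.sigmaCore M ⊔ (A ⊓ Subgroup.centralizer (Cfsg.sigmaCore M : Set G))) ∧
      ∀ X : Subgroup G, X ≤ E → Nat.card X = p → X ≠ A ⊓ Subgroup.centralizer (Cfsg.sigmaCore M : Set G) →
        Cfsg.sigmaCore M ⊓ Subgroup.centralizer (X : Set G) = ⊥ ∧ ¬ Subgroup.centralizer (X : Set G) ≤ M := by
  have hpp : p.Prime := Fact.out
  have hAM : A ≤ M := hA.1.trans hE.1
  have hAp : IsPGroup p A := isPGroup_of_elemAb hA.2.1
  have hMax := maxSq_of_tau2 hG hM hp hAM hA.2.1 hA.2.2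
  have h17 := Cfsg.Agent.S1417.result hG M hM p hp A ⟨hAM, hA.2.1, hA.2.2⟩
  have h18 := Cfsg.Agent.S1418.result hG M hM E hE p hp A hA
  obtain ⟨P, hP, hAP⟩ := exists_isSyl_ge hAM hAp
  obtain ⟨S, hSyl, hPS⟩ := exists_isSyl_ge (le_top : P ≤ ⊤) hP.2.1
  have hAS : A ≤ S := hAP.trans hPS
  have hSna : ¬ IsMulCommutative S := hS hSyl.toSylowTop
  obtain ⟨Z₀, hZ₀A, hZ₀c, hZ₀mem, hconj⟩ :=
    Cfsg.Agent.Lib.Helper38BGNonab.nonab_structure hG hMax hSyl.2.1 hAS hSna
  have hSM : ¬ S ≤ M := fun h => hSna (Cfsg.Agent.S1420.comm_of_pgroup hG hM hp.2.1 hSyl.2.1 h)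
  have hSZ₀ : S ≤ centralizer (Z₀ : Set G) := by
    intro s hs
    rw [mem_centralizer_iff]
    intro z hz
    exact (mem_centralizer_iff.mp ((hZ₀mem z).mp hz).2.1 s hs).symm
  have L1 : ∀ x ∈ S, x ∈ M → ∀ X : Subgroup G, X ≤ A → cj x X = X := by
    intro x hxS hxM X hXA
    have hab := Cfsg.Agent.S1420.comm_of_pgroup hG hM hp.2.1
      (hSyl.2.1.to_le inf_le_left : IsPGroup p (S ⊓ M : Subgroup G)) inf_le_right
    apply cj_eq_self_of_mem_normalizer
    apply centralizer_le_normalizer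
    rw [mem_centralizer_iff]
    intro a ha
    have h1 : a ∈ S ⊓ M := ⟨hAS (hXA ha), hAM (hXA ha)⟩
    have h2 : x ∈ S ⊓ M := ⟨hxS, hxM⟩
    exact setLike_mul_comm h1 h2
  have L2 : ∀ X X' : Subgroup G, X ≤ A → X' ≤ A → Nat.card X = p → Nat.card X' = p → X ≠ Z₀ →
      X' ≠ Z₀ → (∀ L : Subgroup G, IsCoatom L → centralizer (X : Set G) ≤ L → L = M) →
      centralizer (X' : Set G) ≤ M → X' = X := by
    intro X X' hX hX' hXc hX'c hXZ hX'Z huniq hCX'
    obtain ⟨x, hx, hxX⟩ := hconj X X' hX hX' hXc hX'c hXZ hX'Z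
    rw [← hxX, Cfsg.Agent.Lib.Helper14Sylow.centralizer_cj, cj_le_iff] at hCX'
    have h1 := huniq _ (isCoatom_cj hM x⁻¹) hCX'
    have h2 : x⁻¹ ∈ M := by
      have := Cfsg.Agent.Lib.Helper27BGa.mem_normalizer_of_cj_eq h1
      rwa [Cfsg.Agent.Lib.Helper27BGa.normalizer_coatom hG hM] at this
    have h3 : x ∈ M := by
      have := inv_mem h2
      rwa [inv_inv] at this
    rw [← hxX]
    exact L1 x hx.1 h3 X hX
  have hσ1 : sigmaCore M ≠ ⊥ := Cfsg.Agent.Lib.Helper3BGNotuniq.sigmaCore_ne_bot hG hM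
  have hpσ : ¬ p ∣ Nat.card (sigmaCore M) := not_dvd_sigmaCore hG hM hpp hp.2.1
  have hgen := Cfsg.Agent.Lib.Helper30Hyp.le_iSup_hyperplane_centralizers hA.2.1.1 hA.2.1.2 hpσ
    (hAM.trans (le_normalizer_sigmaCore M))
  have hhyp : ∀ B : Subgroup G, B ≤ A → B.relIndex A ≤ p → ∃ b ∈ B, b ≠ 1 := by
    intro B _ hBi
    apply exists_ne_one_of_ne_bot'
    rintro rfl
    rw [relIndex_bot_left, hA.2.2] at hBi
    have : p ^ 1 < p ^ 2 := Nat.pow_lt_pow_right hpp.one_lt (by norm_num)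
    rw [pow_one] at this
    omega
  have hzc : ∀ b ∈ A, b ≠ 1 → Nat.card (zpowers b) = p := by
    intro b hb hb1
    rw [Nat.card_zpowers]
    exact orderOf_eq_prime (hA.2.1.2 b hb) hb1
  have hZ₀reg : sigmaCore M ⊓ centralizer (Z₀ : Set G) = ⊥ := by
    by_contra h
    exact hSM (hSZ₀.trans (h18.2.2 Z₀ hZ₀A hZ₀c h).1)
  obtain ⟨X₀, hX₀A, hX₀c, hX₀⟩ : ∃ X₀ : Subgroup G, X₀ ≤ A ∧ Nat.card X₀ = p ∧
      sigmaCore M ⊓ centralizer (X₀ : Set G) ≠ ⊥ := by
    by_contra hcon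
    push Not at hcon
    apply hσ1
    rw [eq_bot_iff]
    refine hgen.trans (iSup_le ?_)
    rintro ⟨B, hBA, hBi⟩
    obtain ⟨b, hb, hb1⟩ := hhyp B hBA hBi
    rw [← hcon (zpowers b) (zpowers_le.mpr (hBA hb)) (hzc b (hBA hb) hb1)]
    exact inf_le_inf_left _ (centralizer_le (zpowers_le.mpr hb))
  have hX₀good := h18.2.2 X₀ hX₀A hX₀c hX₀
  have hX₀Z : X₀ ≠ Z₀ := by
    rintro rfl
    exact hX₀ hZ₀reg
  have L4 : ∀ X : Subgroup G, X ≤ A → Nat.card X = p → X ≠ X₀ →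
      sigmaCore M ⊓ centralizer (X : Set G) = ⊥ := by
    intro X hXA hXc hne
    by_contra h
    have hXZ : X ≠ Z₀ := by
      rintro rfl
      exact h hZ₀reg
    exact hne (L2 X₀ X hX₀A hXA hX₀c hXc hX₀Z hXZ hX₀good.2 (h18.2.2 X hXA hXc h).1)
  have L5 : sigmaCore M ≤ centralizer (X₀ : Set G) := by
    refine hgen.trans (iSup_le ?_)
    rintro ⟨B, hBA, hBi⟩
    by_cases hXB : X₀ ≤ B
    · exact inf_le_right.trans (centralizer_le hXB)
    · obtain ⟨b, hb, hb1⟩ := hhyp B hBA hBi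
      have hne : zpowers b ≠ X₀ := by
        intro h
        exact hXB (h ▸ zpowers_le.mpr hb)
      have h4 := L4 (zpowers b) (zpowers_le.mpr (hBA hb)) (hzc b (hBA hb) hb1) hne
      calc sigmaCore M ⊓ centralizer (B : Set G)
          ≤ sigmaCore M ⊓ centralizer ((zpowers b : Subgroup G) : Set G) :=
            inf_le_inf_left _ (centralizer_le (zpowers_le.mpr hb))
        _ = ⊥ := h4
        _ ≤ _ := bot_le
  have L6 : A ⊓ centralizer (sigmaCore M : Set G) = X₀ := by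
    apply le_antisymm
    · rintro a ⟨haA, haC⟩
      by_contra haX
      have ha1 : a ≠ 1 := fun h => haX (h ▸ one_mem _)
      have hne : zpowers a ≠ X₀ := fun h => haX (h ▸ mem_zpowers a)
      have h4 := L4 (zpowers a) (zpowers_le.mpr haA) (hzc a haA ha1) hne
      apply hσ1
      rw [eq_bot_iff, ← h4]
      refine le_inf le_rfl ?_
      rw [le_centralizer_iff]
      exact zpowers_le.mpr haC
    · exact le_inf hX₀A (le_centralizer_iff.mp L5)
  have partC : ∀ X : Subgroup G, X ≤ E → Nat.card X = p → X ≠ X₀ →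
      sigmaCore M ⊓ centralizer (X : Set G) = ⊥ ∧ ¬ centralizer (X : Set G) ≤ M := by
    intro X hXE hXc hne
    have hXA := h18.1.2 X hXE hXc
    refine ⟨L4 X hXA hXc hne, fun hC => ?_⟩
    by_cases hXZ : X = Z₀
    · subst hXZ
      exact hSM (hSZ₀.trans hC)
    · exact hne (L2 X₀ X hX₀A hXA hX₀c hXc hX₀Z hXZ hX₀good.2 hC)
  have hMX₀ : M ≤ normalizer (X₀ : Set G) := by
    have h1 : E ≤ normalizer (X₀ : Set G) := by
      rw [← L6]
      exact le_normalizer_inf_centralizer' h18.1.1 (hE.1.trans (le_normalizer_sigmaCore M))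
    have h2 : sigmaCore M ≤ normalizer (X₀ : Set G) := L5.trans (centralizer_le_normalizer _)
    intro m hm
    obtain ⟨e, he, s, hs, rfl⟩ := hE.2.2.2 m hm
    exact mul_mem (h1 he) (h2 hs)
  have hPab := Cfsg.Agent.S1420.comm_of_pgroup hG hM hp.2.1 hP.2.1 hP.1
  have hFM : fittingOf M = sigmaCore M ⊔ X₀ := by
    apply le_antisymm
    · apply Cfsg.Agent.Lib.Helper30Bender.fittingOf_le_of_forall
      intro q hq D hDM hDn hDq
      have hqf : Fact q.Prime := ⟨hq⟩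
      by_cases hD1 : D = ⊥
      · rw [hD1]; exact bot_le
      by_cases hqσ : q ∈ sigma M
      · exact (Cfsg.Agent.Lib.Helper2BGb.pgroup_le_sigmaCore hG hM hqσ hDM hDq).trans le_sup_left
      have hDσ : D ⊓ sigmaCore M = ⊥ := by
        apply Cfsg.Agent.Lib.Helper30SZ.inf_eq_bot_of_coprime
        obtain ⟨k, hk⟩ := IsPGroup.iff_card.mp hDq
        rw [hk]
        exact (Nat.Coprime.pow_right _
          ((Nat.Prime.coprime_iff_not_dvd hq).mpr (not_dvd_sigmaCore hG hM hq hqσ)).symm)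
      have hDC : D ≤ centralizer (sigmaCore M : Set G) :=
        Cfsg.Agent.Lib.Helper24BG3.le_centralizer_of_inf_bot (hDM.trans (le_normalizer_sigmaCore M))
          le_rfl ((sigmaCore_le M).trans hDn) hDσ
      have hqp : q = p := by
        by_contra hqp
        have hr1 : PRankLE q 1 M := by
          by_contra h
          apply hqp
          apply tau2_unique hG hM hE hp hS hA
          refine ⟨hq, hqσ, ?_, h⟩
          by_contra h2
          exact hqσ (Cfsg.Agent.Lib.Helper2BGb.alpha_subset_sigma hG hM ⟨hq, h2⟩)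
        have hq2 : q ≠ 2 := ne_two hG hDq hD1
        have hDcyc : IsCyclic D :=
          Cfsg.Agent.Lib.Helper27BGa.cyclic_of_rank_one hq2 hDq (rank_le_of_le hDM hr1)
        obtain ⟨x, hx, hxo⟩ : ∃ x ∈ D, orderOf x = q := by
          have hd : q ∣ Nat.card D := dvd_card_of_pgroup hDq hD1 le_rfl
          obtain ⟨y, hy⟩ := exists_prime_orderOf_dvd_card' q hd
          exact ⟨y, y.2, by rw [← hy, Subgroup.orderOf_coe]⟩
        have hx1 : zpowers x ≠ ⊥ := by
          intro h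
          rw [zpowers_eq_bot] at h
          rw [h, orderOf_one] at hxo
          exact hq.one_lt.ne hxo
        have hXn : normalizer ((zpowers x : Subgroup G) : Set G) = M :=
          norm_eq hG hM hx1 ((zpowers_le.mpr hx).trans hDM)
            (hDn.trans (Cfsg.Agent.Lib.Helper27BGa.normalizer_le_of_cyclic hDcyc (zpowers_le.mpr hx)))
        exact (Cfsg.Agent.S1409.result hG M hM q hqσ (zpowers x) (by rw [Nat.card_zpowers, hxo])
          hXn.le).1.2 hr1
      subst hqp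
      have hDP : D ≤ P := by
        obtain ⟨P', hP', hDP'⟩ := exists_isSyl_ge hDM hDq
        obtain ⟨x, hx, hxP⟩ := Cfsg.Agent.Lib.Helper2BGa.isSyl_conj hP hP'
        rw [← hxP, ← cj_eq_self_of_mem_normalizer (hDn hx)]
        exact cj_mono hDP'
      have hDA : D ≤ centralizer (A : Set G) := by
        intro d hd
        rw [mem_centralizer_iff]
        intro a ha
        exact setLike_mul_comm (hAP ha) (hDP hd)
      have key : ∀ d ∈ D, (d ^ q) ^ q = 1 → d ^ q = 1 := by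
        intro d hd hdq
        by_contra hne
        have h1 := pow_mem_centralizer hG hMax hSyl hAS (hPS (hDP hd)) (hDA hd) hdq
        have h2 : d ^ q ∈ Z₀ := (hZ₀mem _).mpr ⟨pow_mem (hPS (hDP hd)) q, h1, hdq⟩
        have h3 := eq_zpowers_of_card_prime hZ₀c h2 hne
        apply hσ1
        rw [eq_bot_iff, ← hZ₀reg]
        refine le_inf le_rfl ?_
        rw [le_centralizer_iff, h3]
        exact zpowers_le.mpr (pow_mem (hDC hd) q)
      have key2 : ∀ n : ℕ, ∀ d ∈ D, d ^ (q ^ n) = 1 → d ^ q = 1 := by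
        intro n
        induction n with
        | zero =>
          intro d _ h
          rw [pow_zero, pow_one] at h
          rw [h, one_pow]
        | succ n ih =>
          intro d hd h
          apply key d hd
          apply ih (d ^ q) (pow_mem hd q)
          rw [← pow_mul, ← pow_succ']
          exact h
      refine le_trans ?_ le_sup_right
      intro d hd
      obtain ⟨n, hn⟩ := hDq ⟨d, hd⟩
      have hn' : d ^ (q ^ n) = 1 := congrArg Subtype.val hn
      have hdq := key2 n d hd hn'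
      rw [← L6]
      exact ⟨MaxSq.mem_of_cent hMax (hDA hd) hdq, hDC hd⟩
    · refine sup_le (Cfsg.Agent.Lib.Helper30Bender.le_fittingOf (sigmaCore_le M)
        (le_normalizer_sigmaCore M) h17.1) (Cfsg.Agent.Lib.Helper30Bender.le_fittingOf
        (hX₀A.trans hAM) hMX₀ ?_)
      exact (IsPGroup.of_card (p := p) (n := 1) (by rw [hX₀c, pow_one])).isNilpotent
  rw [L6]
  refine ⟨?_, ⟨hX₀c, hFM⟩, partC⟩
  ext q
  rw [Set.mem_singleton_iff]
  constructor
  · exact fun hq => tau2_unique hG hM hE hp hS hA hq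
  · rintro rfl
    exact hp

end Cfsg.Agent.S1419
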