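import Cfsg.Statements.S1421
import Cfsg.Agent.Lib.Helper31BG21Defs
import Cfsg.Agent.Lib.Helper31BGW
import Cfsg.Agent.Lib.Helper37BGPartA
import Cfsg.Agent.Lib.Helper38BG13classify
import Cfsg.Agent.Lib.Helper31BG21abnormal
import Cfsg.Agent.Lib.Helper31BG21nonabA
import Cfsg.Agent.Lib.Helper11BG21irr
import Cfsg.Agent.Lib.Helper11BG21lift
import Cfsg.Agent.Lib.Helper11BG21nonabB
import Cfsg.Agent.Lib.Helper72BG21agemo
import Cfsg.Agent.Lib.Helper72BG21expo
import Cfsg.Agent.Lib.Helper72BG21isup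
import Cfsg.Agent.S1419

set_option autoImplicit false
open Cfsg

namespace Cfsg.Agent.S1421

open Subgroup
open Cfsg.Agent.Lib.Helper30Trans
open Cfsg.Agent.Lib.Helper24BG
open Cfsg.Agent.Lib.Helper24BG2
open Cfsg.Agent.Lib.Helper31BGS
open Cfsg.Agent.Lib.Helper31BGV
open Cfsg.Agent.Lib.Helper31BG21Defs
open Cfsg.Agent.Lib.Helper31BG21abnormal (ab_normal)
open Cfsg.Agent.Lib.Helper31BG21nonabA (nonab_cent)
open Cfsg.Agent.Lib.Helper11BG21irr (irr)
open Cfsg.Agent.Lib.Helper11BG21lift (lift)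
open Cfsg.Agent.Lib.Helper11BG21nonabB (nonab_compl)
open Cfsg.Agent.Lib.Helper72BG21agemo (exists_agemo)
open Cfsg.Agent.Lib.Helper72BG21expo (exponent_eq)
open Cfsg.Agent.Lib.Helper72BG21isup (prime_of_mem_iSup mem_of_mem_iSup)

variable {G : Type*} [Group G] [Finite G]

/-- a conjugate of a commutator-trivial element -/
theorem conj_eq_mul_comm (k n : G) : n⁻¹ * k * n = k * (k⁻¹ * n⁻¹ * k⁻¹⁻¹ * n⁻¹⁻¹) := by group

/-- regularize an invariant liftable line -/
theorem exists_regular_line (hG : IsMinSimpleOddOrder G) {M E : Subgroup G} (hM : IsCoatom M)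
    (hE : IsComplIn E (sigmaCore M) M) {p : ℕ} [Fact p.Prime] (hp : p ∈ tau2 M) {A S K L : Subgroup G}
    (hAE : A ≤ E) (hAe : IsElementaryAbelian p A) (hA2 : Nat.card A = p ^ 2) (hS : IsSyl p S ⊤)
    (hAS : A ≤ S) (hSab : IsMulCommutative S) (hKE : K ≤ E) (hLA : L ≤ A) (hL : Nat.card L = p)
    (hKL : K ≤ normalizer (L : Set G)) (hlift : Liftable S L) :
    ∃ L' : Subgroup G, L' ≤ A ∧ Nat.card L' = p ∧ K ≤ normalizer (L' : Set G) ∧ Liftable S L' ∧
      sigmaCore M ⊓ centralizer (L' : Set G) = ⊥ := by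
  obtain ⟨-, hNS, hder, -⟩ := ab_normal hG hM hE hp hAE hAe hA2 hS hAS hSab
  have h18 := Cfsg.Agent.S1418.result hG M hM E hE p hp A ⟨hAE, hAe, hA2⟩
  by_cases hreg : sigmaCore M ⊓ centralizer (L : Set G) = ⊥
  · exact ⟨L, hLA, hL, hKL, hlift, hreg⟩
  have good := h18.2.2 L hLA hL hreg
  obtain ⟨n, hn, hnM⟩ := SetLike.not_le_iff_exists.mp h18.2.1.2.2
  have hL'A : cj n L ≤ A := by
    have := cj_mono (k := n) hLA
    rwa [cj_eq_self_of_mem_normalizer hn] at this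
  refine ⟨cj n L, hL'A, by rw [card_cj, hL], ?_, ?_, ?_⟩
  · intro k hk
    rw [Cfsg.Agent.Lib.Helper14Sylow.normalizer_cj, mem_cj, conj_eq_mul_comm]
    refine mul_mem (hKL hk) ?_
    have hkN : k ∈ normalizer (A : Set G) := h18.1.1 (hKE hk)
    have h1 : k⁻¹ * n⁻¹ * k⁻¹⁻¹ * n⁻¹⁻¹ ∈ ⁅normalizer (A : Set G), normalizer (A : Set G)⁆ :=
      commutator_mem_commutator (inv_mem hkN) (inv_mem hn)
    exact centralizer_le_normalizer _ (centralizer_le hLA (hder h1))
  · obtain ⟨y, hyS, hy, hLy⟩ := hlift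
    have hnS : n ∈ normalizer (S : Set G) := hNS ▸ hn
    refine ⟨n * y * n⁻¹, (mem_normalizer_iff.mp hnS y).mp hyS, ?_, ?_⟩
    · intro s hs
      have : orderOf (n * y * n⁻¹) = orderOf y := by
        have := orderOf_injective (MulAut.conj n).toMonoidHom (MulAut.conj n).injective y
        simpa using this
      rw [this]
      exact hy s hs
    · have h1 := cj_mono (k := n) hLy
      have h2 : cj n (zpowers y) = zpowers (n * y * n⁻¹) := by
        rw [cj, MonoidHom.map_zpowers]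
        rfl
      rwa [h2] at h1
  · by_contra h
    have good' := (h18.2.2 (cj n L) hL'A (by rw [card_cj, hL]) h).1
    rw [Cfsg.Agent.Lib.Helper14Sylow.centralizer_cj, cj_le_iff] at good'
    have h1 := good.2 _ (isCoatom_cj hM n⁻¹) good'
    have h2 : n⁻¹ ∈ M := by
      have := Cfsg.Agent.Lib.Helper27BGa.mem_normalizer_of_cj_eq h1
      rwa [Cfsg.Agent.Lib.Helper27BGa.normalizer_coatom hG hM] at this
    apply hnM
    have := inv_mem h2
    rwa [inv_inv] at this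

theorem tau13_data {M : Subgroup G} {r : ℕ} (h : r ∈ tau1 M ∪ tau3 M) :
    r ∉ sigma M ∧ PRankLE r 1 M := by
  rcases h with h | h
  · exact ⟨h.2.1, h.2.2.2.2⟩
  · exact ⟨h.2.1, h.2.2.2⟩

/-- `K` normalizes a line of `A` -/
theorem exists_invariant_line (hG : IsMinSimpleOddOrder G) {M E : Subgroup G} (hM : IsCoatom M)
    (hE : IsComplIn E (sigmaCore M) M) {p : ℕ} [hpf : Fact p.Prime] (hp : p ∈ tau2 M)
    {A S K : Subgroup G} (hAE : A ≤ E) (hAe : IsElementaryAbelian p A) (hA2 : Nat.card A = p ^ 2)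
    (hS : IsSyl p S ⊤) (hAS : A ≤ S) (hSab : IsMulCommutative S) (hKE : K ≤ E)
    (hKπ : ∀ r : ℕ, r.Prime → r ∣ Nat.card K → r ∈ tau1 M ∪ tau3 M) (hreg : Reg M K) :
    ∃ L : Subgroup G, L ≤ A ∧ Nat.card L = p ∧ K ≤ normalizer (L : Set G) := by
  obtain ⟨-, hNS, hder, -⟩ := ab_normal hG hM hE hp hAE hAe hA2 hS hAS hSab
  have h18 := Cfsg.Agent.S1418.result hG M hM E hE p hp A ⟨hAE, hAe, hA2⟩
  have hpp := hpf.out
  by_contra hno
  push Not at hno
  have hsemi : ∀ u ∈ normalizer (A : Set G), u ∉ centralizer (A : Set G) →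
      A ⊓ centralizer ({u} : Set G) = ⊥ := by
    intro u hu huC
    by_contra hne
    set D := A ⊓ centralizer ({u} : Set G) with hD
    have hDA : D ≤ A := inf_le_left
    have hDc : Nat.card D = p := by
      have h1 : Nat.card D ∣ p ^ 2 := hA2 ▸ card_dvd_of_le hDA
      obtain ⟨j, hj, hc⟩ := (Nat.dvd_prime_pow hpp).mp h1
      interval_cases j
      · exact absurd (card_eq_one.mp (by rw [hc, pow_zero])) hne
      · rw [hc, pow_one]
      · exfalso
        apply huC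
        have h2 : D = A := eq_of_le_of_card_ge hDA (by rw [hc, hA2])
        rw [mem_centralizer_iff]
        intro a ha
        have h3 : a ∈ D := h2 ▸ ha
        exact (mem_centralizer_iff.mp h3.2 u rfl).symm
    apply hno D hDA hDc
    rw [le_normalizer_iff]
    rintro k hk d ⟨hdA, hdu⟩
    have hkN : k ∈ normalizer (A : Set G) := h18.1.1 (hKE hk)
    refine ⟨(mem_normalizer_iff.mp hkN d).mp hdA, ?_⟩
    show k * d * k⁻¹ ∈ centralizer ({u} : Set G)
    rw [mem_centralizer_iff]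
    intro w hw
    rw [Set.mem_singleton_iff.mp hw]
    have h1 : u⁻¹ * k⁻¹ * u⁻¹⁻¹ * k⁻¹⁻¹ ∈ ⁅normalizer (A : Set G), normalizer (A : Set G)⁆ :=
      commutator_mem_commutator (inv_mem hu) (inv_mem hkN)
    have h2 := mem_centralizer_iff.mp (hder h1) d hdA
    have h3 : u * d = d * u := mem_centralizer_iff.mp hdu u rfl
    rw [inv_inv, inv_inv] at h2
    -- `k⁻¹ u k = u c` with `c` centralizing `d`
    calc u * (k * d * k⁻¹) = k * (u * ((u⁻¹ * k⁻¹ * u * k) * d)) * k⁻¹ := by group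
      _ = k * (u * (d * (u⁻¹ * k⁻¹ * u * k))) * k⁻¹ := by rw [h2]
      _ = k * ((u * d) * (u⁻¹ * k⁻¹ * u * k)) * k⁻¹ := by group
      _ = k * ((d * u) * (u⁻¹ * k⁻¹ * u * k)) * k⁻¹ := by rw [h3]
      _ = k * d * k⁻¹ * u := by group
  have hKC : K ≤ centralizer (A : Set G) := by
    intro k hk
    refine Cfsg.Agent.Lib.Helper2BGa.mem_of_primary _ k rfl ?_
    intro r hr y hy hyr
    have hyK : y ∈ K := (zpowers_le.mpr hk) hy
    by_cases hy1 : y = 1
    · rw [hy1]; exact one_mem _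
    obtain ⟨j, hj⟩ := hyr
    have hrd : r ∣ Nat.card K := by
      have h1 : orderOf y ∣ Nat.card K := by
        have := orderOf_dvd_natCard (⟨y, hyK⟩ : K)
        rwa [Subgroup.orderOf_mk] at this
      have hj0 : j ≠ 0 := by
        rintro rfl
        rw [pow_zero, orderOf_eq_one_iff] at hj
        exact hy1 hj
      exact (hj ▸ dvd_pow_self r hj0 : r ∣ orderOf y).trans h1
    obtain ⟨hrσ, hr1⟩ := tau13_data (hKπ r hr hrd)
    have : Fact r.Prime := ⟨hr⟩
    refine irr hG hM hE hp hAE hAe hA2 hS hAS hSab hNS hsemi hrσ hr1 (hKE hyK) ⟨j, hj⟩ ?_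
    intro e he he1
    exact hreg e ((zpowers_le.mpr hyK) he) he1
  have hA1 : A ≠ ⊥ := by
    intro h
    rw [h, card_bot] at hA2
    have h2 := hpp.two_le
    nlinarith
  obtain ⟨a, ha, ha1⟩ := exists_ne_one_of_ne_bot' hA1
  apply hno (zpowers a) (zpowers_le.mpr ha)
  · rw [Nat.card_zpowers]
    exact orderOf_eq_prime (hAe.2 a ha) ha1
  · exact (hKC.trans (centralizer_le (zpowers_le.mpr ha))).trans (centralizer_le_normalizer _)

theorem exists_sq_le_compl (hG : IsMinSimpleOddOrder G) {M E : Subgroup G} (hM : IsCoatom M)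
    (hE : IsComplIn E (sigmaCore M) M) {p : ℕ} [hpf : Fact p.Prime] (hp : p ∈ tau2 M) :
    ∃ A : Subgroup G, A ≤ E ∧ IsElementaryAbelian p A ∧ Nat.card A = p ^ 2 := by
  obtain ⟨Q, hQ, -⟩ := exists_isSyl_ge (p := p) (bot_le : (⊥ : Subgroup G) ≤ E) IsPGroup.of_bot
  have hQM : IsSyl p Q M := by
    apply isSyl_of_not_dvd_relIndex hQ hE.1
    rw [relIndex_compl hE]
    exact not_dvd_sigmaCore hG hM hp.1 hp.2.1
  have hQr : ¬ PRankLE p 1 Q := fun h => hp.2.2.2 (Cfsg.Agent.Lib.Helper27BGa.rank_of_isSyl hQM h)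
  obtain ⟨B, hBQ, hBe, hBc⟩ := exists_sq hQr
  exact ⟨B, hBQ.trans hQ.1, hBe, hBc⟩

/-- the data attached to a prime of `τ₂(M)` with abelian Sylow subgroups -/
theorem prime_data (hG : IsMinSimpleOddOrder G) {M E : Subgroup G} (hM : IsCoatom M)
    (hE : IsComplIn E (sigmaCore M) M) {p : ℕ} [hpf : Fact p.Prime] (hp : p ∈ tau2 M)
    (hab : ∃ S : Sylow p G, IsMulCommutative (S : Subgroup G)) {K : Subgroup G} (hKE : K ≤ E)
    (hKπ : ∀ r : ℕ, r.Prime → r ∣ Nat.card K → r ∈ tau1 M ∪ tau3 M) (hreg : Reg M K) :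
    ∃ S P₀ : Subgroup G, IsSyl p S E ∧ E ≤ normalizer (S : Set G) ∧ IsMulCommutative S ∧ P₀ ≤ S ∧
      K ≤ normalizer (P₀ : Set G) ∧
      (∀ x ∈ P₀, x ^ p = 1 → x ≠ 1 → sigmaCore M ⊓ centralizer ({x} : Set G) = ⊥) ∧
      ∃ y ∈ P₀, ∀ s ∈ S, s ^ orderOf y = 1 := by
  have hpp := hpf.out
  obtain ⟨A, hAE, hAe, hA2⟩ := exists_sq_le_compl hG hM hE hp
  have hAp : IsPGroup p A := isPGroup_of_elemAb hAe
  have hA1 : A ≠ ⊥ := by
    intro h
    rw [h, card_bot] at hA2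
    have h2 := hpp.two_le
    nlinarith
  obtain ⟨S, hS, hAS⟩ := exists_isSyl_ge (le_top : A ≤ ⊤) hAp
  have hSab : IsMulCommutative S := by
    obtain ⟨S₀, hS₀⟩ := hab
    obtain ⟨x, -, hx⟩ := Cfsg.Agent.Lib.Helper2BGa.isSyl_conj hS (isSyl_top S₀)
    rw [← hx]
    infer_instance
  obtain ⟨hSE, hNS, hder, hΩ⟩ := ab_normal hG hM hE hp hAE hAe hA2 hS hAS hSab
  have h18 := Cfsg.Agent.S1418.result hG M hM E hE p hp A ⟨hAE, hAe, hA2⟩
  have hES : E ≤ normalizer (S : Set G) := hNS ▸ h18.1.1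
  have hS1 : S ≠ ⊥ := fun h => hA1 (eq_bot_iff.mpr (h ▸ hAS))
  obtain ⟨V, hVA, hV1, hNV, hVlift⟩ := exists_agemo hS.2.1 hSab hS1 hΩ
  obtain ⟨L, hLV, hL, hKL⟩ : ∃ L : Subgroup G, L ≤ V ∧ Nat.card L = p ∧
      K ≤ normalizer (L : Set G) := by
    have h1 : Nat.card V ∣ p ^ 2 := hA2 ▸ card_dvd_of_le hVA
    obtain ⟨j, hj, hc⟩ := (Nat.dvd_prime_pow hpp).mp h1
    interval_cases j
    · exact absurd (card_eq_one.mp (by rw [hc, pow_zero])) hV1
    · exact ⟨V, le_rfl, by rw [hc, pow_one], (hKE.trans hES).trans hNV⟩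
    · have h2 : V = A := eq_of_le_of_card_ge hVA (by rw [hc, hA2])
      obtain ⟨L, hLA, hL, hKL⟩ :=
        exists_invariant_line hG hM hE hp hAE hAe hA2 hS hAS hSab hKE hKπ hreg
      exact ⟨L, h2 ▸ hLA, hL, hKL⟩
  obtain ⟨L', hL'A, hL', hKL', hlift', hreg'⟩ := exists_regular_line hG hM hE hp hAE hAe hA2 hS hAS
    hSab hKE (hLV.trans hVA) hL hKL (hVlift L hLV hL)
  have hp2 : p ≠ 2 := ne_two hG hAp hA1
  have hcop : (Nat.card K).Coprime p := by
    rw [Nat.coprime_comm, Nat.Prime.coprime_iff_not_dvd hpp]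
    intro hd
    exact hp.2.2.2 (tau13_data (hKπ p hpp hd)).2
  obtain ⟨P₀, hP₀S, hKP₀, hP₀L, hy⟩ :=
    lift hp2 hS.2.1 hSab hAS hA2 hΩ (hKE.trans hES) hcop hL' hKL' hlift'
  refine ⟨S, P₀, hS.mono hSE le_top, hES, hSab, hP₀S, hKP₀, ?_, hy⟩
  intro x hx hxp hx1
  have h1 := eq_zpowers_of_card_prime hL' (hP₀L x hx hxp) hx1
  rw [← Cfsg.Agent.Lib.Helper27BGa.centralizer_zpowers_eq, ← h1]
  exact hreg'

theorem mem_of_normal_syl {r : ℕ} [Fact r.Prime] {E S : Subgroup G} (hS : IsSyl r S E)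
    (hn : E ≤ normalizer (S : Set G)) {y : G} (hy : y ∈ E) (hyr : ∃ k : ℕ, orderOf y = r ^ k) :
    y ∈ S := by
  obtain ⟨k, hk⟩ := hyr
  have hp : IsPGroup r (zpowers y) := IsPGroup.of_card (n := k) (by rw [Nat.card_zpowers, hk])
  obtain ⟨g, hg, hle⟩ := exists_cj_le hS hp (zpowers_le.mpr hy)
  rw [cj_le_iff, cj_eq_self_of_mem_normalizer (hn (inv_mem hg))] at hle
  exact hle (mem_zpowers y)

theorem le_normalizer_iSup' {ι : Type*} {K : Subgroup G} (P : ι → Subgroup G)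
    (h : ∀ i, K ≤ normalizer (P i : Set G)) :
    K ≤ normalizer ((⨆ i, P i : Subgroup G) : Set G) := by
  intro k hk
  rw [Cfsg.Agent.Lib.Helper14Sylow.mem_normalizer_iff_cj]
  show (⨆ i, P i).map (MulAut.conj k).toMonoidHom = ⨆ i, P i
  rw [Subgroup.map_iSup]
  congr 1
  funext i
  exact cj_eq_self_of_mem_normalizer (h i hk)

/-- a non-identity element has a power of prime order -/
theorem exists_prime_order_pow {e : G} (he : e ≠ 1) :
    ∃ r : ℕ, r.Prime ∧ ∃ m : ℕ, orderOf (e ^ m) = r := by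
  have h1 : orderOf e ≠ 1 := fun h => he (orderOf_eq_one_iff.mp h)
  obtain ⟨r, hr, hd⟩ := Nat.exists_prime_and_dvd h1
  refine ⟨r, hr, orderOf e / r, ?_⟩
  have h2 : orderOf e / r ∣ orderOf e := Nat.div_dvd_of_dvd hd
  have h3 : orderOf e / r ≠ 0 := by
    intro h0
    have := Nat.div_mul_cancel hd
    rw [h0, zero_mul] at this
    exact (orderOf_pos e).ne this
  rw [orderOf_pow_of_dvd h3 h2, Nat.div_div_self hd (orderOf_pos e).ne']

/-- Let G be a minimal simple group of odd order, M a maximal subgroup and E a complement to M_σ in M. Suppose that every non-identity element e of E all of whose order's prime divisors lie in τ₁(M) ∪ τ₃(M) has M_σ ∩ C_G(e) = 1. Then E has an abelian normal subgroup A₀ with E ∩ C_G(x) ≤ A₀ for every non-identity x ∈ M_σ, and E has a subgroup E₀ of the same exponent as E such that no non-identity element of E₀ centralizes a non-identity element of M_σ. -/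
theorem result {G : Type*} [Group G] [Finite G] (hG : Cfsg.IsMinSimpleOddOrder G)
    (M : Subgroup G) (hM : IsCoatom M) (E : Subgroup G) (hE : Cfsg.IsComplIn E (Cfsg.sigmaCore M) M)
    (h : ∀ e ∈ E, e ≠ 1 → (∀ p : ℕ, p.Prime → p ∣ orderOf e → p ∈ Cfsg.tau1 M ∪ Cfsg.tau3 M) →
      Cfsg.sigmaCore M ⊓ Subgroup.centralizer ({e} : Set G) = ⊥) :
    (∃ A₀ : Subgroup G, A₀ ≤ E ∧ E ≤ Subgroup.normalizer (A₀ : Set G) ∧ IsMulCommutative A₀ ∧
        ∀ x ∈ Cfsg.sigmaCore M, x ≠ 1 → E ⊓ Subgroup.centralizer ({x} : Set G) ≤ A₀) ∧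
      ∃ E₀ : Subgroup G, E₀ ≤ E ∧ Monoid.exponent E₀ = Monoid.exponent E ∧
        ∀ e ∈ E₀, e ≠ 1 → Cfsg.sigmaCore M ⊓ Subgroup.centralizer ({e} : Set G) = ⊥ := by
  -- from a nontrivial intersection to a commuting pair
  have hpair : ∀ e : G, sigmaCore M ⊓ centralizer ({e} : Set G) ≠ ⊥ →
      ∃ x ∈ sigmaCore M, x ≠ 1 ∧ e * x = x * e := by
    intro e he
    obtain ⟨x, hx, hx1⟩ := exists_ne_one_of_ne_bot' he
    exact ⟨x, hx.1, hx1, mem_centralizer_iff.mp hx.2 e rfl⟩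
  by_cases hcase : ∃ p ∈ tau2 M, ∀ S : Sylow p G, ¬ IsMulCommutative (S : Subgroup G)
  · -- nonabelian Sylow subgroups
    obtain ⟨p, hp, hS⟩ := hcase
    have hpf : Fact p.Prime := ⟨hp.1⟩
    obtain ⟨A, hAE, hAe, hA2⟩ := exists_sq_le_compl hG hM hE hp
    have h18 := Cfsg.Agent.S1418.result hG M hM E hE p hp A ⟨hAE, hAe, hA2⟩
    have hcent := nonab_cent hG hM hE h hp hS hAE hAe hA2
    obtain ⟨E₀, hE₀E, hE₀A, hexp⟩ := nonab_compl hG hM hE hp hS hAE hAe hA2
    refine ⟨⟨A ⊓ centralizer (sigmaCore M : Set G), inf_le_left.trans hAE,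
      Cfsg.Agent.S1419.le_normalizer_inf_centralizer' h18.1.1
        (hE.1.trans (le_normalizer_sigmaCore M)), (elemAb_of_le hAe inf_le_left).1, hcent⟩,
      E₀, hE₀E, hexp, ?_⟩
    intro e he he1
    by_contra hne
    obtain ⟨x, hx, hx1, hex⟩ := hpair e hne
    have h1 : e ∈ E ⊓ centralizer ({x} : Set G) := by
      refine ⟨hE₀E he, ?_⟩
      show e ∈ centralizer ({x} : Set G)
      rw [mem_centralizer_iff]
      intro w hw
      rw [Set.mem_singleton_iff.mp hw]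
      exact hex.symm
    have h2 : e ∈ E₀ ⊓ (A ⊓ centralizer (sigmaCore M : Set G)) := ⟨he, hcent x hx hx1 h1⟩
    rw [hE₀A, mem_bot] at h2
    exact he1 h2
  -- abelian Sylow subgroups
  push Not at hcase
  have hEs : Group.IsSolvable E :=
    Cfsg.Agent.Lib.Helper30SZ.solvable_of_le (sol hG hM.1) hE.1
  obtain ⟨K, hKE, hKπ, hKhall⟩ :=
    Cfsg.Agent.Lib.Helper37BGPartA.exists_hallOf hEs (tau1 M ∪ tau3 M)
  -- classification of the primes of `E`
  have hclass : ∀ r : ℕ, r.Prime → ∀ y ∈ E, y ≠ 1 → (∃ k : ℕ, orderOf y = r ^ k) →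
      r ∈ tau1 M ∪ tau3 M ∨ r ∈ tau2 M := by
    intro r hr y hy hy1 ⟨k, hk⟩
    have hk0 : k ≠ 0 := by
      rintro rfl
      rw [pow_zero, orderOf_eq_one_iff] at hk
      exact hy1 hk
    have h1 : r ∣ Nat.card E := by
      have h2 : orderOf y ∣ Nat.card E := by
        have := orderOf_dvd_natCard (⟨y, hy⟩ : E)
        rwa [Subgroup.orderOf_mk] at this
      exact (hk ▸ dvd_pow_self r hk0 : r ∣ orderOf y).trans h2
    have h3 := not_mem_sigma_of_dvd_compl hG hM hE hr h1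
    rcases Cfsg.Agent.Lib.Helper38BG13classify.mem_tau_cases hG hM hr
      (h1.trans (card_dvd_of_le hE.1)) with h4 | h4 | h4 | h4
    · exact absurd h4 h3
    · exact Or.inl (Or.inl h4)
    · exact Or.inr h4
    · exact Or.inl (Or.inr h4)
  -- elements of prime power order for a prime of `τ₁ ∪ τ₃` act regularly
  have hreg13 : ∀ r : ℕ, r.Prime → r ∈ tau1 M ∪ tau3 M → ∀ y ∈ E, y ≠ 1 →
      (∃ k : ℕ, orderOf y = r ^ k) → sigmaCore M ⊓ centralizer ({y} : Set G) = ⊥ := by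
    intro r hr hr13 y hy hy1 ⟨k, hk⟩
    apply h y hy hy1
    intro t ht htd
    rw [hk] at htd
    rw [(Nat.prime_dvd_prime_iff_eq ht hr).mp (ht.dvd_of_dvd_pow htd)]
    exact hr13
  have hregK : Reg M K := by
    intro e he he1
    apply h e (hKE he) he1
    intro t ht htd
    apply hKπ t ht
    have := orderOf_dvd_natCard (⟨e, he⟩ : K)
    rw [Subgroup.orderOf_mk] at this
    exact htd.trans this
  have key : ∀ i : {p : ℕ // p ∈ tau2 M}, ∃ S P₀ : Subgroup G, IsSyl i.1 S E ∧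
      E ≤ normalizer (S : Set G) ∧ IsMulCommutative S ∧ P₀ ≤ S ∧ K ≤ normalizer (P₀ : Set G) ∧
      (∀ x ∈ P₀, x ^ i.1 = 1 → x ≠ 1 → sigmaCore M ⊓ centralizer ({x} : Set G) = ⊥) ∧
      ∃ y ∈ P₀, ∀ s ∈ S, s ^ orderOf y = 1 := by
    intro i
    have : Fact i.1.Prime := ⟨i.2.1⟩
    exact prime_data hG hM hE i.2 (hcase i.1 i.2) hKE hKπ hregK
  choose S P₀ hSyl hES hSab hPS hKP hPreg hPy using key
  have hpr : ∀ i : {p : ℕ // p ∈ tau2 M}, i.1.Prime := fun i => i.2.1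
  have hinj : Function.Injective (fun i : {p : ℕ // p ∈ tau2 M} => i.1) := Subtype.val_injective
  have hSp : ∀ i, IsPGroup i.1 (S i) := fun i => (hSyl i).2.1
  have hcomm : ∀ i j, S i ≤ centralizer (S j : Set G) := by
    intro i j
    by_cases hij : i = j
    · subst hij
      intro a ha
      rw [mem_centralizer_iff]
      intro b hb
      have := hSab i
      exact setLike_mul_comm hb ha
    · apply Cfsg.Agent.Lib.Helper24BG3.le_centralizer_of_inf_bot ((hSyl i).1.trans (hES j)) le_rfl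
        ((hSyl j).1.trans (hES i))
      apply Cfsg.Agent.Lib.Helper30SZ.inf_eq_bot_of_coprime
      haveI : Fact j.1.Prime := ⟨hpr j⟩
      haveI : Fact i.1.Prime := ⟨hpr i⟩
      obtain ⟨k, hk⟩ := IsPGroup.iff_card.mp (hSp j)
      obtain ⟨l, hl⟩ := IsPGroup.iff_card.mp (hSp i)
      rw [hk, hl]
      exact Nat.Coprime.pow _ _ ((Nat.coprime_primes (hpr j) (hpr i)).mpr
        (fun hc => hij (Subtype.ext hc.symm)))
  set T := ⨆ i, S i with hT
  set R := ⨆ i, P₀ i with hR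
  have hTE : T ≤ E := iSup_le (fun i => (hSyl i).1)
  have hRT : R ≤ T := iSup_mono hPS
  have hTT : T ≤ centralizer (T : Set G) := by
    refine iSup_le (fun i => ?_)
    rw [le_centralizer_iff]
    exact iSup_le (fun j => hcomm j i)
  have hTab : IsMulCommutative T :=
    ⟨⟨fun a b => Subtype.ext (mem_centralizer_iff.mp (hTT b.2) a a.2)⟩⟩
  have hET : E ≤ normalizer (T : Set G) := le_normalizer_iSup' S hES
  have hKR : K ≤ normalizer (R : Set G) := le_normalizer_iSup' P₀ hKP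
  have hmemS : ∀ (i : {p : ℕ // p ∈ tau2 M}) (y : G), y ∈ E → (∃ k : ℕ, orderOf y = i.1 ^ k) →
      y ∈ S i := by
    intro i y hy hyr
    have : Fact i.1.Prime := ⟨hpr i⟩
    exact mem_of_normal_syl (hSyl i) (hES i) hy hyr
  have hTK : T ⊓ K = ⊥ := by
    rw [eq_bot_iff]
    rintro z ⟨hzT, hzK⟩
    rw [mem_bot]
    by_contra hz1
    have h1 : orderOf z ≠ 1 := fun hh => hz1 (orderOf_eq_one_iff.mp hh)
    obtain ⟨r, hr, hd⟩ := Nat.exists_prime_and_dvd h1
    obtain ⟨i, hi⟩ := prime_of_mem_iSup S (fun i => i.1) hpr hSp hcomm hzT hr hd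
    have h2 : r ∣ Nat.card K := by
      have := orderOf_dvd_natCard (⟨z, hzK⟩ : K)
      rw [Subgroup.orderOf_mk] at this
      exact hd.trans this
    have h3 := (tau13_data (hKπ r hr h2)).2
    rw [hi] at h3
    exact i.2.2.2.2 h3
  refine ⟨⟨T, hTE, hET, hTab, ?_⟩, R ⊔ K, sup_le (hRT.trans hTE) hKE, ?_, ?_⟩
  · -- centralizers
    rintro x hx hx1 c ⟨hcE, hcx⟩
    refine Cfsg.Agent.Lib.Helper2BGa.mem_of_primary _ c rfl ?_
    intro r hr y hy hyr
    by_cases hy1 : y = 1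
    · rw [hy1]; exact one_mem _
    have hyE : y ∈ E := (zpowers_le.mpr hcE) hy
    have hyx : y ∈ centralizer ({x} : Set G) := (zpowers_le.mpr hcx) hy
    rcases hclass r hr y hyE hy1 hyr with h13 | h2
    · exfalso
      have h3 := hreg13 r hr h13 y hyE hy1 hyr
      have h4 : x ∈ sigmaCore M ⊓ centralizer ({y} : Set G) := by
        refine ⟨hx, ?_⟩
        show x ∈ centralizer ({y} : Set G)
        rw [mem_centralizer_iff]
        intro w hw
        rw [Set.mem_singleton_iff.mp hw]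
        exact (mem_centralizer_iff.mp hyx x rfl).symm
      rw [h3, mem_bot] at h4
      exact hx1 h4
    · exact le_iSup S ⟨r, h2⟩ (hmemS ⟨r, h2⟩ y hyE hyr)
  · -- exponent
    apply exponent_eq (sup_le (hRT.trans hTE) hKE)
    intro r hr y hy hyr
    by_cases hy1 : y = 1
    · exact ⟨1, one_mem _, by rw [hy1]⟩
    rcases hclass r hr y hy hy1 hyr with h13 | h2
    · have hrf : Fact r.Prime := ⟨hr⟩
      obtain ⟨Q, hQ, -⟩ := exists_isSyl_ge (p := r) (bot_le : (⊥ : Subgroup G) ≤ K) IsPGroup.of_bot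
      have hQE : IsSyl r Q E := isSyl_of_not_dvd_relIndex hQ hKE (hKhall r hr h13)
      obtain ⟨k, hk⟩ := hyr
      have hp : IsPGroup r (zpowers y) := IsPGroup.of_card (n := k) (by rw [Nat.card_zpowers, hk])
      obtain ⟨g, -, hle⟩ := exists_cj_le hQE hp (zpowers_le.mpr hy)
      refine ⟨g * y * g⁻¹, le_sup_right (a := R) (hQ.1 (hle (conj_mem_cj (mem_zpowers y)))), ?_⟩
      have : orderOf (g * y * g⁻¹) = orderOf y := by
        have := orderOf_injective (MulAut.conj g).toMonoidHom (MulAut.conj g).injective y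
        simpa using this
      rw [this]
    · obtain ⟨z, hz, hzs⟩ := hPy ⟨r, h2⟩
      exact ⟨z, le_sup_left (b := K) (le_iSup P₀ ⟨r, h2⟩ hz),
        orderOf_dvd_of_pow_eq_one (hzs y (hmemS ⟨r, h2⟩ y hy hyr))⟩
  · -- regularity
    intro e he he1
    by_contra hne
    obtain ⟨x, hx, hx1, hex⟩ := hpair e hne
    obtain ⟨r, hr, m, hm⟩ := exists_prime_order_pow he1
    set e' := e ^ m with he'
    have he'1 : e' ≠ 1 := by
      intro hh
      rw [hh, orderOf_one] at hm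
      exact hr.one_lt.ne hm
    have he'E₀ : e' ∈ R ⊔ K := pow_mem he m
    have he'E : e' ∈ E := (sup_le (hRT.trans hTE) hKE) he'E₀
    have he'r : ∃ k : ℕ, orderOf e' = r ^ k := ⟨1, by rw [hm, pow_one]⟩
    have hxe' : x ∈ sigmaCore M ⊓ centralizer ({e'} : Set G) := by
      refine ⟨hx, ?_⟩
      show x ∈ centralizer ({e'} : Set G)
      rw [mem_centralizer_iff]
      intro w hw
      rw [Set.mem_singleton_iff.mp hw]
      have : Commute e x := hex
      exact this.pow_left m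
    have hcontra : sigmaCore M ⊓ centralizer ({e'} : Set G) = ⊥ := by
      rcases hclass r hr e' he'E he'1 he'r with h13 | h2
      · exact hreg13 r hr h13 e' he'E he'1 he'r
      · have h3 : e' ∈ T := le_iSup S ⟨r, h2⟩ (hmemS ⟨r, h2⟩ e' he'E he'r)
        obtain ⟨ρ, hρ, κ, hκ, hprod⟩ := (Cfsg.Agent.Lib.Helper30SZ.mem_sup_iff hKR).mp he'E₀
        have h4 : κ ∈ T ⊓ K := by
          refine ⟨?_, hκ⟩
          have : κ = ρ⁻¹ * e' := by rw [hprod]; group
          rw [this]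
          exact T.mul_mem (T.inv_mem (hRT hρ)) h3
        rw [hTK, mem_bot] at h4
        have h5 : e' ∈ R := by rw [hprod, h4, mul_one]; exact hρ
        have h6 : e' ^ r = 1 := by rw [← hm]; exact pow_orderOf_eq_one e'
        have h7 := mem_of_mem_iSup P₀ S (fun i => i.1) hpr hinj hSp hPS hcomm h5 ⟨r, h2⟩ h6
        exact hPreg ⟨r, h2⟩ e' h7 h6 he'1
    rw [hcontra, mem_bot] at hxe'
    exact hx1 hxe'

end Cfsg.Agent.S1421
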