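import Cfsg.Statements.S1359
import Cfsg.Agent.S1421
import Cfsg.Agent.Lib.Helper51BG16

set_option autoImplicit false
open Cfsg

namespace Cfsg.Agent.S1359

theorem comm_of_le {G : Type*} [Group G] {A B : Subgroup G} (hB : IsMulCommutative B) (h : A ≤ B) :
    IsMulCommutative A :=
  ⟨⟨fun a b => Subtype.ext (by
    have := congrArg Subtype.val (hB.is_comm.comm (⟨a, h a.2⟩ : B) ⟨b, h b.2⟩)
    exact this)⟩⟩

/-- Let G be a minimal simple group of odd order and M a maximal subgroup with standard factorisation M = K U M_σ. Then the subgroup generated by those elements of U which centralize some non-identity element of M_σ is abelian. -/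
theorem result {G : Type*} [Group G] [Finite G] (hG : Cfsg.IsMinSimpleOddOrder G)
    (M : Subgroup G) (hM : IsCoatom M) (K U : Subgroup G) (hKU : Cfsg.IsSigmaDecomposition M K U) :
    IsMulCommutative (Subgroup.closure ((U : Set G) ∩ Cfsg.sigmaHat M)) := by
  by_cases hK1 : K = ⊥
  · have hκ : kappa M = ∅ := (Cfsg.Agent.Lib.Helper51BG16.kappa_eq_empty_iff hKU.hall).2 hK1
    have hE : Cfsg.IsComplIn U (Cfsg.sigmaCore M) M := by
      have := hKU.compl
      rwa [hK1, bot_sup_eq] at this
    have hyp : ∀ e ∈ U, e ≠ 1 →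
        (∀ p : ℕ, p.Prime → p ∣ orderOf e → p ∈ Cfsg.tau1 M ∪ Cfsg.tau3 M) →
        Cfsg.sigmaCore M ⊓ Subgroup.centralizer ({e} : Set G) = ⊥ := by
      intro e he he1 hp
      rw [Subgroup.eq_bot_iff_forall]
      rintro y ⟨hy, hyc⟩
      by_contra hy1
      have ho : orderOf e ≠ 1 := fun h => he1 (orderOf_eq_one_iff.1 h)
      obtain ⟨p, hpp, hpe⟩ := Nat.exists_prime_and_dvd ho
      have hpτ := hp p hpp hpe
      have hσr : p ∉ sigma M ∧ PRankLE p 1 M := by
        rcases hpτ with h | h
        · exact ⟨h.2.1, h.2.2.2.2⟩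
        · exact ⟨h.2.1, h.2.2.2⟩
      have hey : e * y = y * e := by
        have := (Subgroup.mem_centralizer_iff.mp hyc) e (Set.mem_singleton e)
        exact this
      have hx : orderOf (e ^ (orderOf e / p)) = p := by
        rw [orderOf_pow_of_dvd (by
          intro h0
          have := Nat.div_mul_cancel hpe
          rw [h0, zero_mul] at this
          exact (orderOf_pos e).ne this) (Nat.div_dvd_of_dvd hpe)]
        exact Nat.div_div_self hpe (orderOf_pos e).ne'
      have hcomm : e ^ (orderOf e / p) * y = y * e ^ (orderOf e / p) :=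
        ((Commute.pow_left (show Commute e y from hey)) _)
      have := Cfsg.Agent.Lib.Helper51BG16.mem_kappa hG hM hpp hσr.1 hσr.2
        (pow_mem (hE.1 he) _) hx hy hy1 hcomm
      rw [hκ] at this
      exact this
    obtain ⟨⟨A₀, -, -, hA₀c, hA₀⟩, -⟩ := Cfsg.Agent.S1421.result hG M hM U hE hyp
    apply comm_of_le hA₀c
    rw [Subgroup.closure_le]
    rintro a ⟨haU, -, y, hy, hy1, hay⟩
    apply hA₀ y hy hy1
    refine ⟨haU, ?_⟩
    show a ∈ Subgroup.centralizer ({y} : Set G)
    rw [Subgroup.mem_centralizer_iff]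
    intro z hz
    rw [Set.mem_singleton_iff] at hz
    subst hz
    exact hay.symm
  · apply comm_of_le (Cfsg.Agent.Lib.Helper51BG16.U_abelian_free hG hM hKU hK1).1
    rw [Subgroup.closure_le]
    exact fun a ha => ha.1

end Cfsg.Agent.S1359
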