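import Cfsg.Statements.S1360
import Cfsg.Agent.Lib.Helper51BG16
import Cfsg.Agent.Lib.Helper27BGa
import Cfsg.Agent.Lib.Helper14Sylow
import Cfsg.Agent.Lib.Helper24BG2
import Cfsg.Agent.S1417
import Cfsg.Agent.S1418
import Cfsg.Agent.S1421

set_option autoImplicit false
open Cfsg

namespace Cfsg.Agent.S1360

open Subgroup
open Cfsg.Agent.Lib.Helper30Trans Cfsg.Agent.Lib.Helper24BG Cfsg.Agent.Lib.Helper24BG2
open Cfsg.Agent.Lib.Helper51BG16 Cfsg.Agent.Lib.Helper2BGa

theorem bottom_mem {G : Type*} [Group G] {y w : G} {p e : ℕ} (hp : p.Prime)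
    (hy : orderOf y = p ^ (e + 1)) (hw : w ∈ zpowers y) (hw1 : w ≠ 1) : y ^ (p ^ e) ∈ zpowers w := by
  have hfin : IsOfFinOrder y := by
    rw [← orderOf_pos_iff, hy]; exact pow_pos hp.pos _
  have hwd : orderOf w ∣ p ^ (e + 1) := hy ▸ orderOf_dvd_of_mem_zpowers hw
  obtain ⟨k, -, hk⟩ := (Nat.dvd_prime_pow hp).mp hwd
  have hk0 : k ≠ 0 := by
    rintro rfl
    rw [pow_zero, orderOf_eq_one_iff] at hk
    exact hw1 hk
  obtain ⟨k', rfl⟩ := Nat.exists_eq_succ_of_ne_zero hk0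
  set v := w ^ (p ^ k') with hv
  have hvo : orderOf v = p := by
    rw [hv, orderOf_pow_of_dvd (pow_ne_zero _ hp.ne_zero) (by rw [hk]; exact pow_dvd_pow p (Nat.le_succ k')), hk,
      Nat.succ_eq_add_one, pow_succ, Nat.mul_div_cancel_left _ (pow_pos hp.pos _)]
  have hvy : v ∈ zpowers y := (zpowers y).pow_mem hw _
  obtain ⟨j, hj⟩ := (hfin.mem_powers_iff_mem_zpowers).mpr hvy
  have hj' : y ^ j = v := hj
  have h1 : y ^ (j * p) = 1 := by
    rw [pow_mul, hj', ← hvo, pow_orderOf_eq_one]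
  have h2 : p ^ (e + 1) ∣ j * p := hy ▸ orderOf_dvd_of_pow_eq_one h1
  have h3 : p ^ e ∣ j := by
    rw [pow_succ] at h2
    exact Nat.dvd_of_mul_dvd_mul_right hp.pos h2
  obtain ⟨t, rfl⟩ := h3
  set x := y ^ (p ^ e) with hx
  have hxo : orderOf x = p := by
    rw [hx, orderOf_pow_of_dvd (pow_ne_zero _ hp.ne_zero) (by rw [hy]; exact pow_dvd_pow p (Nat.le_succ e)), hy,
      pow_succ, Nat.mul_div_cancel_left _ (pow_pos hp.pos _)]
  have hxt : x ^ t = v := by rw [hx, ← pow_mul, hj']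
  have hcop : Nat.Coprime t (orderOf x) := by
    rw [hxo, Nat.coprime_comm, Nat.Prime.coprime_iff_not_dvd hp]
    intro hd
    have : v = 1 := by
      rw [← hxt]
      exact orderOf_dvd_iff_pow_eq_one.mp (hxo ▸ hd)
    rw [this, orderOf_one] at hvo
    exact hp.one_lt.ne hvo
  obtain ⟨m, hm⟩ := exists_pow_eq_self_of_coprime hcop
  rw [← hm, hxt]
  exact (zpowers w).pow_mem ((zpowers w).pow_mem (mem_zpowers w) _) _

def Reg {G : Type*} [Group G] (T : Set G) (u : G) : Prop := ∀ w ∈ zpowers u, w ∈ T → w = 1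

theorem Reg.mul {G : Type*} [Group G] {T : Set G} (hT : ∀ w ∈ T, ∀ n : ℕ, w ^ n ∈ T) {u v : G}
    (huv : Commute u v) (hcop : (orderOf u).Coprime (orderOf v)) (hu : Reg T u) (hv : Reg T v) :
    Reg T (u * v) := by
  intro w hw hwT
  obtain ⟨j, rfl⟩ := mem_zpowers_iff.mp hw
  rw [huv.mul_zpow] at hwT ⊢
  have hc : Commute (u ^ j) (v ^ j) := (huv.zpow_left j).zpow_right j
  have h1 : (u ^ j) ^ orderOf v = 1 := by
    apply hu _ ((zpowers u).pow_mem (zpow_mem_zpowers u j) _)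
    have := hT _ hwT (orderOf v)
    rw [hc.mul_pow] at this
    have e : (v ^ j) ^ orderOf v = 1 := by
      rw [← zpow_natCast, ← zpow_mul, mul_comm, zpow_mul, zpow_natCast, pow_orderOf_eq_one, one_zpow]
    rwa [e, mul_one] at this
  have h2 : (v ^ j) ^ orderOf u = 1 := by
    apply hv _ ((zpowers v).pow_mem (zpow_mem_zpowers v j) _)
    have := hT _ hwT (orderOf u)
    rw [hc.mul_pow] at this
    have e : (u ^ j) ^ orderOf u = 1 := by
      rw [← zpow_natCast, ← zpow_mul, mul_comm, zpow_mul, zpow_natCast, pow_orderOf_eq_one, one_zpow]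
    rwa [e, one_mul] at this
  have h3 : (u ^ j) ^ orderOf u = 1 := by
    rw [← zpow_natCast, ← zpow_mul, mul_comm, zpow_mul, zpow_natCast, pow_orderOf_eq_one, one_zpow]
  have h4 : (v ^ j) ^ orderOf v = 1 := by
    rw [← zpow_natCast, ← zpow_mul, mul_comm, zpow_mul, zpow_natCast, pow_orderOf_eq_one, one_zpow]
  have h5 : u ^ j = 1 := by
    have := Nat.dvd_gcd (orderOf_dvd_of_pow_eq_one h3) (orderOf_dvd_of_pow_eq_one h1)
    rw [hcop.gcd_eq_one, Nat.dvd_one, orderOf_eq_one_iff] at this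
    exact this
  have h6 : v ^ j = 1 := by
    have := Nat.dvd_gcd (orderOf_dvd_of_pow_eq_one h2) (orderOf_dvd_of_pow_eq_one h4)
    rw [hcop.gcd_eq_one, Nat.dvd_one, orderOf_eq_one_iff] at this
    exact this
  rw [h5, h6, one_mul]

theorem exists_reg {G : Type*} [Group G] {T : Set G} (hT : ∀ w ∈ T, ∀ n : ℕ, w ^ n ∈ T) {U : Subgroup G}
    (hU : ∀ a ∈ U, ∀ b ∈ U, a * b = b * a) (f : ℕ → ℕ) (s : Finset ℕ) :
    (∀ p ∈ s, p.Prime) → (∀ p ∈ s, ∃ y ∈ U, orderOf y = p ^ f p ∧ Reg T y) →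
      ∃ u ∈ U, orderOf u = ∏ p ∈ s, p ^ f p ∧ Reg T u := by
  classical
  induction s using Finset.induction_on with
  | empty =>
    intro _ _
    refine ⟨1, U.one_mem, by simp, ?_⟩
    intro w hw _
    rw [zpowers_one_eq_bot, mem_bot] at hw
    exact hw
  | insert p s hps ih =>
    intro hpr hex
    obtain ⟨u, huU, huo, hu⟩ := ih (fun q hq => hpr q (Finset.mem_insert_of_mem hq))
      (fun q hq => hex q (Finset.mem_insert_of_mem hq))
    obtain ⟨y, hyU, hyo, hy⟩ := hex p (Finset.mem_insert_self p s)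
    have hcop : (orderOf y).Coprime (orderOf u) := by
      rw [hyo, huo]
      apply Nat.Coprime.prod_right
      intro q hq
      apply Nat.coprime_pow_primes _ _ (hpr p (Finset.mem_insert_self p s))
        (hpr q (Finset.mem_insert_of_mem hq))
      rintro rfl
      exact hps hq
    have hc : Commute y u := hU y hyU u huU
    refine ⟨y * u, U.mul_mem hyU huU, ?_, Reg.mul hT hc hcop hy hu⟩
    rw [hc.orderOf_mul_eq_mul_orderOf_of_coprime hcop, hyo, huo, Finset.prod_insert hps]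


theorem sigmaHat_pow {G : Type*} [Group G] {M : Subgroup G} :
    ∀ w ∈ Cfsg.sigmaHat M, ∀ n : ℕ, w ^ n ∈ Cfsg.sigmaHat M := by
  rintro w ⟨hwM, y, hy, hy1, hwy⟩ n
  exact ⟨M.pow_mem hwM n, y, hy, hy1, ((show Commute w y from hwy).pow_left n).eq⟩

/-- `x` centralises a non-identity element of `M_σ`. -/
def Bad {G : Type*} [Group G] (M : Subgroup G) (x : G) : Prop :=
  ∃ y ∈ Cfsg.sigmaCore M, y ≠ 1 ∧ x * y = y * x

theorem reg_of_not_bad {G : Type*} [Group G] {M : Subgroup G} {p e : ℕ} (hp : p.Prime) {y : G}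
    (hyo : orderOf y = p ^ (e + 1)) (h : ¬ Bad M (y ^ (p ^ e))) : Reg (Cfsg.sigmaHat M) y := by
  intro w hw hwT
  by_contra hw1
  apply h
  obtain ⟨-, z, hz, hz1, hwz⟩ := hwT
  obtain ⟨k, hk⟩ := mem_zpowers_iff.mp (bottom_mem hp hyo hw hw1)
  refine ⟨z, hz, hz1, ?_⟩
  rw [← hk]
  exact ((show Commute w z from hwz).zpow_left k).eq

theorem inf_centralizer_ne_bot_of_bad {G : Type*} [Group G] {M : Subgroup G} {x : G} (h : Bad M x) :
    Cfsg.sigmaCore M ⊓ centralizer ((zpowers x : Subgroup G) : Set G) ≠ ⊥ := by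
  obtain ⟨y, hy, hy1, hxy⟩ := h
  intro hbot
  apply hy1
  have : y ∈ Cfsg.sigmaCore M ⊓ centralizer ((zpowers x : Subgroup G) : Set G) := by
    refine Subgroup.mem_inf.mpr ⟨hy, ?_⟩
    rw [Cfsg.Agent.Lib.Helper27BGa.centralizer_zpowers_eq, mem_centralizer_iff]
    intro z hz
    rw [Set.mem_singleton_iff] at hz
    rw [hz]; exact hxy
  rwa [hbot, mem_bot] at this

theorem exists_good {G : Type*} [Group G] [Finite G] (hG : Cfsg.IsMinSimpleOddOrder G)
    {M : Subgroup G} (hM : IsCoatom M) {K U : Subgroup G} (hKU : Cfsg.IsSigmaDecomposition M K U)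
    {p : ℕ} (hp : p.Prime) {e : ℕ} {y : G} (hyU : y ∈ U) (hyo : orderOf y = p ^ (e + 1)) :
    ∃ y' ∈ U, orderOf y' = p ^ (e + 1) ∧ Reg (Cfsg.sigmaHat M) y' := by
  haveI := Fact.mk hp
  by_cases hbad : Bad M (y ^ (p ^ e))
  swap
  · exact ⟨y, hyU, hyo, reg_of_not_bad hp hyo hbad⟩
  have hUM : U ≤ M := hKU.compl.1
  set x := y ^ (p ^ e) with hx
  have hxo : orderOf x = p := by
    rw [hx, orderOf_pow_of_dvd (pow_ne_zero _ hp.ne_zero) (by rw [hyo]; exact pow_dvd_pow p (Nat.le_succ e)), hyo,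
      pow_succ, Nat.mul_div_cancel_left _ (pow_pos hp.pos _)]
  have hxU : x ∈ U := U.pow_mem hyU _
  have hpU : p ∣ Nat.card U := hxo ▸ Subgroup.orderOf_dvd_natCard U hxU
  obtain ⟨hpκ, hpσ⟩ := U_primes hG hM hKU p hp hpU
  have hr1 : ¬ Cfsg.PRankLE p 1 M := by
    intro hr
    obtain ⟨z, hz, hz1, hxz⟩ := hbad
    exact hpκ (mem_kappa hG hM hp hpσ hr (hUM hxU) hxo hz hz1 hxz)
  have hr2 : Cfsg.PRankLE p 2 M := rank_le_two hG hM hp hpσ
  have hτ : p ∈ Cfsg.tau2 M := ⟨hp, hpσ, hr2, hr1⟩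
  -- the Sylow subgroup
  have hyp : IsPGroup p (zpowers y) := by
    rw [IsPGroup.iff_card]
    exact ⟨e + 1, by rw [Nat.card_zpowers, hyo]⟩
  obtain ⟨P, hPU, hyP⟩ := exists_isSyl_ge (zpowers_le.mpr hyU) hyp
  have hPM : IsSyl p P M := by
    refine isSyl_of_not_dvd (hPU.1.trans hUM) hPU.2.1 ?_
    rw [← relIndex_mul_relIndex P U M hPU.1 hUM]
    intro hd
    rcases (Nat.Prime.dvd_mul hp).mp hd with h | h
    · exact Cfsg.Agent.Lib.Helper2BGa.IsSyl.not_dvd_relIndex hPU h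
    · have h1 : Nat.card U * U.relIndex M = Nat.card M :=
        Cfsg.Agent.Lib.Helper3BGNotuniq.card_mul_relIndex_of_le hUM
      rw [card_eq hG hM hKU, mul_assoc] at h1
      have h2 : U.relIndex M = Nat.card K * Nat.card (Cfsg.sigmaCore M) :=
        Nat.eq_of_mul_eq_mul_left Nat.card_pos h1
      rw [h2] at h
      rcases (Nat.Prime.dvd_mul hp).mp h with h | h
      · exact hpκ (K_primes hKU p hp h)
      · exact hpσ (Cfsg.Agent.Lib.Helper2BGb.card_sigmaCore M p hp h)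
  -- the elementary abelian subgroup
  obtain ⟨B, hBM, hBe, hBc⟩ := exists_elemAb hr1
  have hBc2 : Nat.card B = p ^ 2 := by
    have h1 : Nat.card B ≤ p ^ 2 := by
      by_contra hlt
      exact not_rank_of_elemAb hBM hBe (not_le.mp hlt) hr2
    obtain ⟨k, hk⟩ := IsPGroup.iff_card.mp (isPGroup_of_elemAb hBe)
    rw [hk] at h1 hBc ⊢
    have h2 : k ≤ 2 := (Nat.pow_le_pow_iff_right hp.one_lt).mp h1
    have h3 : 1 < k := (Nat.pow_lt_pow_iff_right hp.one_lt).mp hBc
    have : k = 2 := by omega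
    rw [this]
  obtain ⟨m, hm, hmB⟩ := exists_cj_le hPM (isPGroup_of_elemAb hBe) hBM
  set A := cj m B with hA
  have hAe : Cfsg.IsElementaryAbelian p A := elemAb_cj hBe m
  have hAc : Nat.card A = p ^ 2 := by rw [hA, card_cj, hBc2]
  have hAM : A ≤ M := hmB.trans hPM.1
  have h17 := (Cfsg.Agent.S1417.result hG M hM p hτ A ⟨hAM, hAe, hAc⟩).2.1 hPM.toSylow
  rw [hPM.map_toSylow] at h17
  obtain ⟨hΩ, hN⟩ := h17.2 hmB
  obtain ⟨g, hgN, hgM⟩ := SetLike.not_le_iff_exists.mp hN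
  have hAE : A ≤ K ⊔ U := (hmB.trans hPU.1).trans le_sup_right
  have h18 := (Cfsg.Agent.S1418.result hG M hM (K ⊔ U) (compl_KU hG hM hKU) p hτ A ⟨hAE, hAe, hAc⟩).2.2
  have hxP : x ∈ P := P.pow_mem (hyP (mem_zpowers y)) _
  have hxA : x ∈ A := (hΩ x hxP).mp (by rw [← hxo, pow_orderOf_eq_one])
  have hX := h18 (zpowers x) (zpowers_le.mpr hxA) (by rw [Nat.card_zpowers, hxo])
    (inf_centralizer_ne_bot_of_bad hbad)
  -- the conjugate
  have hconjP : ∀ z ∈ P, g * z * g⁻¹ ∈ P := fun z hz => (mem_normalizer_iff.mp hgN z).mp hz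
  have hy'o : orderOf (g * y * g⁻¹) = p ^ (e + 1) := by
    rw [← hyo]
    exact orderOf_injective (MulAut.conj g).toMonoidHom (MulAut.conj g).injective y
  refine ⟨g * y * g⁻¹, hPU.1 (hconjP y (hyP (mem_zpowers y))), hy'o, reg_of_not_bad hp hy'o ?_⟩
  intro hbad'
  rw [conj_pow, ← hx] at hbad'
  have hx'o : orderOf (g * x * g⁻¹) = p := by
    rw [← hxo]
    exact orderOf_injective (MulAut.conj g).toMonoidHom (MulAut.conj g).injective x
  have hx'A : g * x * g⁻¹ ∈ A := (hΩ _ (hconjP x hxP)).mp (by rw [← hx'o, pow_orderOf_eq_one])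
  have hX' := h18 (zpowers (g * x * g⁻¹)) (zpowers_le.mpr hx'A) (by rw [Nat.card_zpowers, hx'o])
    (inf_centralizer_ne_bot_of_bad hbad')
  have h3 : centralizer ((zpowers (g * x * g⁻¹) : Subgroup G) : Set G) ≤ cj g M := by
    have : zpowers (g * x * g⁻¹) = cj g (zpowers x) := by
      show _ = (zpowers x).map (MulAut.conj g).toMonoidHom
      rw [MonoidHom.map_zpowers]; rfl
    rw [this, Cfsg.Agent.Lib.Helper14Sylow.centralizer_cj]
    exact cj_mono hX.1
  have h4 := hX'.2 (cj g M) (isCoatom_cj hM g) h3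
  have h5 := Cfsg.Agent.Lib.Helper27BGa.mem_normalizer_of_cj_eq h4
  rw [Cfsg.Agent.Lib.Helper27BGa.normalizer_coatom hG hM] at h5
  exact hgM h5

/-- Let G be a minimal simple group of odd order and M a maximal subgroup with standard factorisation M = K U M_σ. Then U contains a subgroup U₀ with the same exponent as U such that no non-identity element of U₀ centralizes a non-identity element of M_σ. -/
theorem result {G : Type*} [Group G] [Finite G] (hG : Cfsg.IsMinSimpleOddOrder G)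
    (M : Subgroup G) (hM : IsCoatom M) (K U : Subgroup G) (hKU : Cfsg.IsSigmaDecomposition M K U) :
    ∃ U₀ : Subgroup G, U₀ ≤ U ∧ Monoid.exponent U₀ = Monoid.exponent U ∧ ∀ u ∈ U₀, u ∈ Cfsg.sigmaHat M → u = 1 := by
  by_cases hK1 : K = ⊥
  · subst hK1
    have hE : Cfsg.IsComplIn U (Cfsg.sigmaCore M) M := by
      have := hKU.compl
      rwa [bot_sup_eq] at this
    have hκ : Cfsg.kappa M = ∅ := (kappa_eq_empty_iff hKU.hall).mpr rfl
    obtain ⟨-, E₀, hE₀, hexp, hreg⟩ := Cfsg.Agent.S1421.result hG M hM U hE (by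
      intro e he he1 hτ
      by_contra hne
      obtain ⟨z, hz, hz1⟩ := exists_ne_one_of_ne_bot' hne
      have ho : orderOf e ≠ 1 := by rwa [Ne, orderOf_eq_one_iff]
      obtain ⟨p, hp, hpd⟩ := Nat.exists_prime_and_dvd ho
      obtain ⟨c, hc⟩ := hpd
      have hc0 : c ≠ 0 := by
        rintro rfl
        rw [mul_zero] at hc
        exact (orderOf_pos e).ne' hc
      have hxo : orderOf (e ^ c) = p := by
        rw [orderOf_pow_of_dvd hc0 ⟨p, by rw [hc, mul_comm]⟩, hc, Nat.mul_div_cancel _ (Nat.pos_of_ne_zero hc0)]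
      have hcomm : e * z = z * e := by
        have := mem_centralizer_iff.mp hz.2 e (Set.mem_singleton e)
        exact this
      have hmem : p ∈ Cfsg.kappa M := by
        have hpτ := hτ p hp ⟨c, hc⟩
        have hσr : p ∉ Cfsg.sigma M ∧ Cfsg.PRankLE p 1 M := by
          rcases hpτ with h | h
          · exact ⟨h.2.1, h.2.2.2.2⟩
          · exact ⟨h.2.1, h.2.2.2⟩
        exact mem_kappa hG hM hp hσr.1 hσr.2 (M.pow_mem (hE.1 he) c) hxo hz.1 hz1
          ((show Commute e z from hcomm).pow_left c).eq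
      rw [hκ] at hmem
      exact hmem)
    refine ⟨E₀, hE₀, hexp, ?_⟩
    rintro u hu ⟨-, z, hz, hz1, huz⟩
    by_contra hu1
    apply hz1
    have : z ∈ Cfsg.sigmaCore M ⊓ centralizer ({u} : Set G) := by
      refine Subgroup.mem_inf.mpr ⟨hz, ?_⟩
      rw [mem_centralizer_iff]
      intro w hw
      rw [Set.mem_singleton_iff] at hw
      rw [hw]; exact huz
    rwa [hreg u hu hu1, mem_bot] at this
  · have hUab := (U_abelian_free hG hM hKU hK1).1
    have hcomm : ∀ a ∈ U, ∀ b ∈ U, a * b = b * a := fun a ha b hb =>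
      congrArg Subtype.val (hUab.is_comm.comm ⟨a, ha⟩ ⟨b, hb⟩)
    letI : CommGroup U := { (inferInstance : Group U) with mul_comm := hUab.is_comm.comm }
    obtain ⟨g₀, hg₀⟩ := Monoid.exists_orderOf_eq_exponent (G := U) (Monoid.ExponentExists.of_finite)
    set n := Monoid.exponent U with hn
    have hn0 : n ≠ 0 := (Monoid.ExponentExists.of_finite (G := U)).exponent_ne_zero
    have hg₀' : orderOf (g₀ : G) = n := by rw [Subgroup.orderOf_coe, hg₀]
    obtain ⟨u, huU, huo, hu⟩ := exists_reg (T := Cfsg.sigmaHat M) sigmaHat_pow hcomm n.factorization n.primeFactors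
      (fun p hp => Nat.prime_of_mem_primeFactors hp) (by
        intro p hp
        have hpp := Nat.prime_of_mem_primeFactors hp
        have he : n.factorization p ≠ 0 := by
          rw [← Finsupp.mem_support_iff, Nat.support_factorization]; exact hp
        obtain ⟨e, he'⟩ := Nat.exists_eq_succ_of_ne_zero he
        have hd : p ^ n.factorization p ∣ n := Nat.ordProj_dvd n p
        have hyo : orderOf ((g₀ : G) ^ (n / p ^ n.factorization p)) = p ^ (e + 1) := by
          rw [orderOf_pow_of_dvd (Nat.div_ne_zero_iff_of_dvd hd |>.mpr ⟨hn0, pow_ne_zero _ hpp.ne_zero⟩)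
            (by rw [hg₀']; exact Nat.div_dvd_of_dvd hd), hg₀', Nat.div_div_self hd hn0, he']
        rw [he']
        exact exists_good hG hM hKU hpp (U.pow_mem g₀.2 _) hyo)
    refine ⟨zpowers u, zpowers_le.mpr huU, ?_, hu⟩
    rw [IsCyclic.exponent_eq_card, Nat.card_zpowers, huo]
    have := Nat.factorization_prod_pow_eq_self hn0
    rw [Finsupp.prod, Nat.support_factorization] at this
    exact this

end Cfsg.Agent.S1360
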