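import Cfsg.Statements.S1364
import Cfsg.Agent.Lib.Helper51BG16
import Cfsg.Agent.Lib.Helper3CopAb
import Cfsg.Agent.S1351
import Cfsg.Agent.S1354
import Cfsg.Agent.S1366
import Cfsg.Agent.S1431
import Cfsg.Agent.S1437

set_option autoImplicit false
open Cfsg

namespace Cfsg.Agent.S1364

open Subgroup
open Cfsg.Agent.Lib.Helper30Trans Cfsg.Agent.Lib.Helper24BG Cfsg.Agent.Lib.Helper2BGa
open Cfsg.Agent.Lib.Helper2BGb Cfsg.Agent.Lib.Helper51BG16

/-- Let G be a minimal simple group of odd order, M a maximal subgroup with standard factorisation M = K U M_σ and K ≠ 1, and put K* = M_σ ∩ C_G(K). Then K* is cyclic, nontrivial and contained in M_F, while M_F itself is not cyclic. -/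
theorem result {G : Type*} [Group G] [Finite G] (hG : Cfsg.IsMinSimpleOddOrder G)
    (M : Subgroup G) (hM : IsCoatom M) (K U : Subgroup G) (hKU : Cfsg.IsSigmaDecomposition M K U) (hK1 : K ≠ ⊥) :
    IsCyclic ↥(Cfsg.sigmaCore M ⊓ Subgroup.centralizer (K : Set G)) ∧ (Cfsg.sigmaCore M ⊓ Subgroup.centralizer (K : Set G)) ≠ ⊥ ∧ (Cfsg.sigmaCore M ⊓ Subgroup.centralizer (K : Set G)) ≤ Cfsg.fittingHallOf M ∧ ¬ IsCyclic (Cfsg.fittingHallOf M) := by
  obtain ⟨Ks, hKs⟩ : ∃ Ks, Ks = sigmaCore M ⊓ centralizer (K : Set G) := ⟨_, rfl⟩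
  rw [← hKs]
  have hKsσ : Ks ≤ sigmaCore M := hKs ▸ inf_le_left
  have hcyc : IsCyclic Ks := by
    obtain ⟨Mstar, ⟨hMs, -, hHall⟩, -⟩ := Cfsg.Agent.S1366.result hG M hM K U hKU hK1
    rw [hKs]
    exact (Cfsg.Agent.S1351.result hG Mstar hMs).2 _ hHall
  have hne : Ks ≠ ⊥ := hKs ▸ (Cfsg.Agent.S1354.result hG M hM K hKU.cyclic hKU.hall).1
  have hle : Ks ≤ fittingHallOf M := by
    by_cases hF : fittingHallOf M = sigmaCore M
    · rw [hF]
      exact hKsσ
    · obtain ⟨-, -, -, hq, -, -, Q, hQF, hQn, hQp, hQi, -⟩ :=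
        Cfsg.Agent.S1437.result hG M hM K U hKU hF
      rw [← hKs] at hq hQp hQi
      refine le_trans ?_ hQF
      apply le_of_relIndex_coprime hKsσ ((sigmaCore_le M).trans hQn)
      intro r hr hd
      have hrq : r = Nat.card Ks := (Nat.prime_dvd_prime_iff_eq hr hq).mp hd
      rw [hrq]
      exact hQi
  refine ⟨hcyc, hne, hle, ?_⟩
  intro hFc
  have hKsc : Nat.card Ks ≠ 1 := fun h => hne (card_eq_one.mp h)
  obtain ⟨p, hp, hpd⟩ := Nat.exists_prime_and_dvd hKsc
  have : Fact p.Prime := ⟨hp⟩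
  obtain ⟨F, hF⟩ : ∃ F, F = fittingHallOf M := ⟨_, rfl⟩
  rw [← hF] at hle hFc
  have hFσ : F ≤ sigmaCore M := hF ▸ fittingHallOf_le_sigmaCore hG hM
  have hFM : F ≤ M := hFσ.trans (sigmaCore_le M)
  have hFn : M ≤ normalizer (F : Set G) := hF ▸ le_normalizer_fittingHallOf M
  have hFnil : Group.IsNilpotent F := hF ▸ fittingHallOf_nilpotent M
  have hFh : (Nat.card F).Coprime (F.relIndex M) := hF ▸ fittingHallOf_hall M
  have hpF : p ∣ Nat.card F := hpd.trans (card_dvd_of_le hle)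
  obtain ⟨P, hP, -⟩ := exists_isSyl_ge (p := p) (bot_le : (⊥ : Subgroup G) ≤ F) IsPGroup.of_bot
  have hnd : ¬ p ∣ P.relIndex F := IsSyl.not_dvd_relIndex hP
  have hPn : normalizer (F : Set G) ≤ normalizer (P : Set G) := by
    apply normalizer_le_normalizer_hall hFnil hP.1
    intro r hr hd
    obtain ⟨n, hn⟩ := IsPGroup.iff_card.mp hP.2.1
    rw [hn] at hd
    have hrq : r = p := (Nat.prime_dvd_prime_iff_eq hr hp).mp (hr.dvd_of_dvd_pow hd)
    rw [hrq]
    exact hnd
  have hPM : IsSyl p P M := by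
    apply isSyl_of_not_dvd (hP.1.trans hFM) hP.2.1
    rw [← relIndex_mul_relIndex P F M hP.1 hFM]
    intro hd
    rcases (Nat.Prime.dvd_mul hp).mp hd with h | h
    · exact hnd h
    · exact hp.one_lt.ne' (Nat.eq_one_of_dvd_coprimes hFh hpF h)
  have hPσ : IsSyl p P (sigmaCore M) := hPM.mono (hP.1.trans hFσ) (sigmaCore_le M)
  have hPc : IsCyclic P := by
    have : IsCyclic F := hFc
    exact isCyclic_of_injective (inclusion hP.1) (inclusion_injective hP.1)
  have hKM : K ≤ M := hKU.hall.1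
  have hKP : K ≤ normalizer (P : Set G) := (hKM.trans hFn).trans hPn
  have hcop : (Nat.card P).Coprime (Nat.card K) :=
    Nat.Coprime.coprime_dvd_left (card_dvd_of_le hPσ.1) (coprime_K_Ms hG hM hKU).symm
  -- an element of order `p` of `Ks`
  obtain ⟨y, hy⟩ := exists_prime_orderOf_dvd_card' (G := Ks) p hpd
  have hy1 : (y : G) ≠ 1 := by
    intro h
    have : y = 1 := Subtype.ext h
    rw [this, orderOf_one] at hy
    exact hp.one_lt.ne hy
  have hyP : (y : G) ∈ P := by
    have h1 : zpowers (y : G) ≤ P := by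
      apply le_of_relIndex_coprime (zpowers_le.mpr (hle y.2)) (le_normalizer.trans hPn)
      intro r hr hd
      rw [Nat.card_zpowers, Subgroup.orderOf_coe, hy] at hd
      have hrq : r = p := (Nat.prime_dvd_prime_iff_eq hr hp).mp hd
      rw [hrq]
      exact hnd
    exact h1 (mem_zpowers _)
  have hyK : (y : G) ∈ centralizer (K : Set G) := by
    have h0 : Ks ≤ centralizer (K : Set G) := hKs ▸ inf_le_right
    exact h0 y.2
  have hPK : P ≤ centralizer (K : Set G) := by
    rcases hP.2.1.commutator_eq_bot_or_commutator_eq_self hKP hcop with h | h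
    · rw [commutator_comm] at h
      exact commutator_eq_bot_iff_le_centralizer.mp h
    · exfalso
      have hPcomm : IsMulCommutative P := IsCyclic.isMulCommutative
      have h1 := Cfsg.Agent.Lib.Helper3CopAb.comm_inf_cent_eq_bot hPcomm hKP hcop.symm
      rw [commutator_comm, h] at h1
      have h2 : (y : G) ∈ P ⊓ centralizer (K : Set G) := ⟨hyP, hyK⟩
      rw [h1] at h2
      exact hy1 (mem_bot.mp h2)
  obtain ⟨-, -, h3, -⟩ := Cfsg.Agent.S1431.result hG M hM K hKU.hall hK1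
  have h4 := (h3 p hp (hKs ▸ hpd) hPσ.toSylow).2.2
  rw [hPσ.map_toSylow] at h4
  exact h4 (le_inf hPσ.1 hPK)

end Cfsg.Agent.S1364
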