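import Cfsg.Statements.S1368
import Cfsg.Agent.Lib.Helper67BG16
import Cfsg.Agent.S1430
import Cfsg.Agent.S1434
import Cfsg.Agent.S1351
import Cfsg.Agent.S1352
import Cfsg.Agent.S1354

set_option autoImplicit false
open Cfsg

namespace Cfsg.Agent.S1368

/-- Let G be a minimal simple group of odd order, M a maximal subgroup with standard factorisation M = K U M_σ, K ≠ 1, K* = M_σ ∩ C_G(K), and M* a maximal subgroup with K = M*_σ ∩ C_G(K*) and K* a Hall κ(M*)-subgroup of M*. Then M ∩ M* is the subgroup generated by K and K*, and it is cyclic. -/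
theorem result {G : Type*} [Group G] [Finite G] (hG : Cfsg.IsMinSimpleOddOrder G)
    (M : Subgroup G) (hM : IsCoatom M) (K U : Subgroup G) (hKU : Cfsg.IsSigmaDecomposition M K U) (hK1 : K ≠ ⊥) (Mstar : Subgroup G) (hMstar : IsCoatom Mstar)
    (hKst : K = Cfsg.sigmaCore Mstar ⊓ Subgroup.centralizer ((Cfsg.sigmaCore M ⊓ Subgroup.centralizer (K : Set G)) : Set G))
    (hKstH : Cfsg.IsPiHallOf (Cfsg.kappa Mstar) (Cfsg.sigmaCore M ⊓ Subgroup.centralizer (K : Set G)) Mstar) :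
    M ⊓ Mstar = K ⊔ (Cfsg.sigmaCore M ⊓ Subgroup.centralizer (K : Set G)) ∧ IsCyclic ↥(K ⊔ (Cfsg.sigmaCore M ⊓ Subgroup.centralizer (K : Set G))) := by
  classical
  have hcyc := (Cfsg.Agent.S1351.result hG Mstar hMstar).2 _ hKstH
  obtain ⟨Ustar, hUstar⟩ := (Cfsg.Agent.S1352.result hG Mstar hMstar _ hcyc hKstH).1
  have hKs1 := (Cfsg.Agent.S1354.result hG M hM K hKU.cyclic hKU.hall).1
  have hKst2 : K = Cfsg.sigmaCore Mstar ⊓ Subgroup.centralizer
      ((Cfsg.sigmaCore M ⊓ Subgroup.centralizer (K : Set G) : Subgroup G) : Set G) := hKst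
  have hA : (Cfsg.sigmaCore M ⊓ Subgroup.centralizer (K : Set G)) = Cfsg.sigmaCore M ⊓
      Subgroup.centralizer ((Cfsg.sigmaCore Mstar ⊓ Subgroup.centralizer
        ((Cfsg.sigmaCore M ⊓ Subgroup.centralizer (K : Set G) : Subgroup G) : Set G) : Subgroup G) : Set G) := by
    rw [← hKst2]
  have hB : Cfsg.IsPiHallOf (Cfsg.kappa M) (Cfsg.sigmaCore Mstar ⊓ Subgroup.centralizer
        ((Cfsg.sigmaCore M ⊓ Subgroup.centralizer (K : Set G) : Subgroup G) : Set G)) M := by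
    rw [← hKst2]; exact hKU.hall
  have h34 := (Cfsg.Agent.S1434.result hG Mstar hMstar _ Ustar hUstar hKs1 M hM hA hB).2.1
  rw [← hKst2] at h34
  -- `K` is a Hall `σ(M*)`-subgroup of `M`
  have hKMs : K ≤ Cfsg.sigmaCore Mstar := by
    rw [hKst2]; exact inf_le_left
  have hY : M ⊓ Cfsg.sigmaCore Mstar ≤ K := by
    refine Cfsg.Agent.Lib.Helper67BG16.le_of_hall h34 (le_inf hKU.hall.1 hKMs) inf_le_left ?_
    intro p hp hd
    exact Cfsg.Agent.Lib.Helper2BGb.card_sigmaCore Mstar p hp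
      (hd.trans (Subgroup.card_dvd_of_le inf_le_right))
  have hYe : M ⊓ Cfsg.sigmaCore Mstar = K := le_antisymm hY (le_inf hKU.hall.1 hKMs)
  obtain ⟨X, hXK, hXp⟩ := Cfsg.Agent.Lib.Helper67BG16.exists_prime_sub hK1
  have h30 := ((Cfsg.Agent.S1430.result hG M hM K hKU.hall hK1).2.2 X hXK hXp).2.1
  refine ⟨le_antisymm ?_ ?_, ?_⟩
  · rw [← h30]
    intro g hg
    have hgM : g ∈ M := (Subgroup.mem_inf.mp hg).1
    have hgS : g ∈ Mstar := (Subgroup.mem_inf.mp hg).2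
    refine Subgroup.mem_inf.mpr ⟨hgM, ?_⟩
    have h1 : g ∈ Subgroup.normalizer (Cfsg.sigmaCore Mstar : Set G) :=
      Cfsg.Agent.Lib.Helper2BGb.le_normalizer_sigmaCore Mstar hgS
    rw [Subgroup.mem_normalizer_iff] at h1 ⊢
    intro n
    rw [← hYe, Subgroup.mem_inf, Subgroup.mem_inf]
    constructor
    · rintro ⟨h2, h3⟩
      exact ⟨mul_mem (mul_mem hgM h2) (inv_mem hgM), (h1 n).mp h3⟩
    · rintro ⟨h2, h3⟩
      refine ⟨?_, (h1 n).mpr h3⟩
      have := mul_mem (mul_mem (inv_mem hgM) h2) hgM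
      have e : g⁻¹ * (g * n * g⁻¹) * g = n := by group
      rwa [e] at this
  · refine sup_le (le_inf hKU.hall.1 (hKMs.trans (Cfsg.Agent.Lib.Helper2BGb.sigmaCore_le Mstar))) ?_
    exact le_inf (inf_le_left.trans (Cfsg.Agent.Lib.Helper2BGb.sigmaCore_le M)) hKstH.1
  · refine Cfsg.Agent.Lib.Helper67BG16.isCyclic_sup hKU.cyclic hcyc inf_le_right ?_
    exact Nat.Coprime.coprime_dvd_right (Subgroup.card_dvd_of_le inf_le_left)
      (Cfsg.Agent.Lib.Helper27BG16basic.coprime_K_Ms hG hM hKU)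

end Cfsg.Agent.S1368
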