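import Cfsg.Statements.S1370
import Cfsg.Agent.Lib.Helper67BG16
import Cfsg.Agent.S1368
import Cfsg.Agent.S1366
import Cfsg.Agent.S1431

set_option autoImplicit false
open Cfsg

namespace Cfsg.Agent.S1370

theorem eq_one_of_pow {G : Type*} [Group G] {A : Subgroup G} {x : G} (hx : x ∈ A) {n : ℕ}
    (hco : (Nat.card A).Coprime n) (h : x ^ n = 1) : x = 1 := by
  have h1 : orderOf x ∣ n := orderOf_dvd_of_pow_eq_one h
  have h2 : orderOf x ∣ Nat.card A := Subgroup.orderOf_dvd_natCard A hx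
  have h3 : orderOf x ∣ 1 := by
    have := Nat.dvd_gcd h2 h1
    rwa [hco] at this
  exact orderOf_eq_one_iff.mp (Nat.dvd_one.mp h3)

theorem pow_card_of_mem {G : Type*} [Group G] {A : Subgroup G} {x : G} (hx : x ∈ A) :
    x ^ Nat.card A = 1 :=
  orderOf_dvd_iff_pow_eq_one.mp (Subgroup.orderOf_dvd_natCard A hx)

theorem coprime_K_Ks {G : Type*} [Group G] [Finite G] (hG : Cfsg.IsMinSimpleOddOrder G)
    {M : Subgroup G} (hM : IsCoatom M) {K U : Subgroup G} (hKU : Cfsg.IsSigmaDecomposition M K U) :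
    (Nat.card K).Coprime (Nat.card ↥(Cfsg.sigmaCore M ⊓ Subgroup.centralizer (K : Set G))) :=
  Nat.Coprime.coprime_dvd_right (Subgroup.card_dvd_of_le inf_le_left)
    (Cfsg.Agent.Lib.Helper27BG16basic.coprime_K_Ms hG hM hKU)

theorem commute_K_Ks {G : Type*} [Group G] {M K : Subgroup G} {x y : G} (hx : x ∈ K)
    (hy : y ∈ Cfsg.sigmaCore M ⊓ Subgroup.centralizer (K : Set G)) : Commute x y := by
  have := (Subgroup.mem_inf.mp hy).2
  rw [Subgroup.mem_centralizer_iff] at this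
  exact this x hx

theorem Z_le {G : Type*} [Group G] [Finite G] {M K U : Subgroup G}
    (hKU : Cfsg.IsSigmaDecomposition M K U) :
    K ⊔ (Cfsg.sigmaCore M ⊓ Subgroup.centralizer (K : Set G)) ≤ M :=
  sup_le hKU.hall.1 (inf_le_left.trans (Cfsg.Agent.Lib.Helper2BGb.sigmaCore_le M))

/-- the fusion control: `z, g z g⁻¹ ∈ Ẑ` forces `g ∈ Z`. -/
theorem key {G : Type*} [Group G] [Finite G] (hG : Cfsg.IsMinSimpleOddOrder G)
    (M : Subgroup G) (hM : IsCoatom M) (K U : Subgroup G) (hKU : Cfsg.IsSigmaDecomposition M K U)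
    (hK1 : K ≠ ⊥) {g z : G}
    (hz : z ∈ ((↑(K ⊔ (Cfsg.sigmaCore M ⊓ Subgroup.centralizer (K : Set G))) : Set G) \ ((K : Set G) ∪ ↑(Cfsg.sigmaCore M ⊓ Subgroup.centralizer (K : Set G)))))
    (hgz : g * z * g⁻¹ ∈ ((↑(K ⊔ (Cfsg.sigmaCore M ⊓ Subgroup.centralizer (K : Set G))) : Set G) \ ((K : Set G) ∪ ↑(Cfsg.sigmaCore M ⊓ Subgroup.centralizer (K : Set G))))) :
    g ∈ K ⊔ (Cfsg.sigmaCore M ⊓ Subgroup.centralizer (K : Set G)) := by
  obtain ⟨Mstar, ⟨hMs, hKst, hKstH⟩, -⟩ := Cfsg.Agent.S1366.result hG M hM K U hKU hK1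
  have h34 := (Cfsg.Agent.S1434.result hG M hM K U hKU hK1 Mstar hMs hKst hKstH).2.2.2.1
  have hgM : g ∈ M := by
    by_contra hg
    apply h34 g hg _ hgz
    exact ⟨z, Z_le hKU hz.1, by simp⟩
  by_contra hgZ
  have h31 := (Cfsg.Agent.S1431.result hG M hM K hKU.hall hK1).2.1 g hgM hgZ
  obtain ⟨x, hx, y, hy, hx1, hy1, rfl⟩ := Cfsg.Agent.Lib.Helper27BG16basic.exists_mul_of_mem_Zhat hz
  obtain ⟨x', hx', y', hy', hx1', hy1', e⟩ :=
    Cfsg.Agent.Lib.Helper27BG16basic.exists_mul_of_mem_Zhat hgz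
  have e1 : (x * y) ^ Nat.card ↥(Cfsg.sigmaCore M ⊓ Subgroup.centralizer (K : Set G))
      = x ^ Nat.card ↥(Cfsg.sigmaCore M ⊓ Subgroup.centralizer (K : Set G)) := by
    rw [(commute_K_Ks hx hy).mul_pow, pow_card_of_mem hy, mul_one]
  have e2 : (x' * y') ^ Nat.card ↥(Cfsg.sigmaCore M ⊓ Subgroup.centralizer (K : Set G))
      = x' ^ Nat.card ↥(Cfsg.sigmaCore M ⊓ Subgroup.centralizer (K : Set G)) := by
    rw [(commute_K_Ks hx' hy').mul_pow, pow_card_of_mem hy', mul_one]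
  have e3 : g * x ^ Nat.card ↥(Cfsg.sigmaCore M ⊓ Subgroup.centralizer (K : Set G)) * g⁻¹
      = x' ^ Nat.card ↥(Cfsg.sigmaCore M ⊓ Subgroup.centralizer (K : Set G)) := by
    rw [← e1, ← e2, ← e, conj_pow]
  have h4 : x' ^ Nat.card ↥(Cfsg.sigmaCore M ⊓ Subgroup.centralizer (K : Set G))
      ∈ K ⊓ K.map (MulAut.conj g).toMonoidHom := by
    refine Subgroup.mem_inf.mpr ⟨pow_mem hx' _,
      ⟨x ^ Nat.card ↥(Cfsg.sigmaCore M ⊓ Subgroup.centralizer (K : Set G)), pow_mem hx _, ?_⟩⟩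
    simpa using e3
  rw [h31, Subgroup.mem_bot] at h4
  exact hx1' (eq_one_of_pow hx' (coprime_K_Ks hG hM hKU) h4)

theorem mul_mem_Zhat {G : Type*} [Group G] [Finite G] (hG : Cfsg.IsMinSimpleOddOrder G)
    {M : Subgroup G} (hM : IsCoatom M) {K U : Subgroup G} (hKU : Cfsg.IsSigmaDecomposition M K U)
    {x y : G} (hx : x ∈ K) (hy : y ∈ Cfsg.sigmaCore M ⊓ Subgroup.centralizer (K : Set G))
    (hx1 : x ≠ 1) (hy1 : y ≠ 1) :
    x * y ∈ ((↑(K ⊔ (Cfsg.sigmaCore M ⊓ Subgroup.centralizer (K : Set G))) : Set G) \ ((K : Set G) ∪ ↑(Cfsg.sigmaCore M ⊓ Subgroup.centralizer (K : Set G)))) := by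
  have hd : K ⊓ (Cfsg.sigmaCore M ⊓ Subgroup.centralizer (K : Set G)) = ⊥ :=
    (Subgroup.disjoint_of_coprime_natCard (coprime_K_Ks hG hM hKU)).eq_bot
  refine ⟨mul_mem (Subgroup.mem_sup_left hx) (Subgroup.mem_sup_right hy), ?_⟩
  rintro (h | h)
  · apply hy1
    have h2 : y ∈ K := by
      have := mul_mem (inv_mem hx) h
      rwa [inv_mul_cancel_left] at this
    have : y ∈ K ⊓ (Cfsg.sigmaCore M ⊓ Subgroup.centralizer (K : Set G)) :=
      Subgroup.mem_inf.mpr ⟨h2, hy⟩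
    rwa [hd, Subgroup.mem_bot] at this
  · apply hx1
    have h2 : x ∈ (Cfsg.sigmaCore M ⊓ Subgroup.centralizer (K : Set G)) := by
      have := mul_mem h (inv_mem hy)
      rwa [mul_inv_cancel_right] at this
    have : x ∈ K ⊓ (Cfsg.sigmaCore M ⊓ Subgroup.centralizer (K : Set G)) :=
      Subgroup.mem_inf.mpr ⟨hx, h2⟩
    rwa [hd, Subgroup.mem_bot] at this

/-- Let G be a minimal simple group of odd order, M a maximal subgroup with standard factorisation M = K U M_σ, K ≠ 1, K* = M_σ ∩ C_G(K) and Z the subgroup generated by K and K*. Then the set of elements of Z lying in neither K nor K* is a TI-subset of G, and its set-normalizer in G is exactly Z. -/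
theorem result {G : Type*} [Group G] [Finite G] (hG : Cfsg.IsMinSimpleOddOrder G)
    (M : Subgroup G) (hM : IsCoatom M) (K U : Subgroup G) (hKU : Cfsg.IsSigmaDecomposition M K U) (hK1 : K ≠ ⊥) :
    Cfsg.IsTISubset ((↑(K ⊔ (Cfsg.sigmaCore M ⊓ Subgroup.centralizer (K : Set G))) : Set G) \ ((K : Set G) ∪ ↑(Cfsg.sigmaCore M ⊓ Subgroup.centralizer (K : Set G)))) ∧ Subgroup.normalizer ((↑(K ⊔ (Cfsg.sigmaCore M ⊓ Subgroup.centralizer (K : Set G))) : Set G) \ ((K : Set G) ∪ ↑(Cfsg.sigmaCore M ⊓ Subgroup.centralizer (K : Set G)))) = K ⊔ (Cfsg.sigmaCore M ⊓ Subgroup.centralizer (K : Set G)) := by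
  classical
  obtain ⟨Mstar, ⟨hMs, hKst, hKstH⟩, -⟩ := Cfsg.Agent.S1366.result hG M hM K U hKU hK1
  have hcyc := (Cfsg.Agent.S1368.result hG M hM K U hKU hK1 Mstar hMs hKst hKstH).2
  have hKs1 := (Cfsg.Agent.S1354.result hG M hM K hKU.cyclic hKU.hall).1
  have hcomm : ∀ a ∈ K ⊔ (Cfsg.sigmaCore M ⊓ Subgroup.centralizer (K : Set G)),
      ∀ b ∈ K ⊔ (Cfsg.sigmaCore M ⊓ Subgroup.centralizer (K : Set G)), a * b = b * a := by
    intro a ha b hb
    have := (IsCyclic.isMulCommutative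
      (α := ↥(K ⊔ (Cfsg.sigmaCore M ⊓ Subgroup.centralizer (K : Set G))))).is_comm.comm ⟨a, ha⟩ ⟨b, hb⟩
    exact congrArg Subtype.val this
  have hN : Subgroup.normalizer ((↑(K ⊔ (Cfsg.sigmaCore M ⊓ Subgroup.centralizer (K : Set G))) : Set G) \ ((K : Set G) ∪ ↑(Cfsg.sigmaCore M ⊓ Subgroup.centralizer (K : Set G)))) = K ⊔ (Cfsg.sigmaCore M ⊓ Subgroup.centralizer (K : Set G)) := by
    apply le_antisymm
    · intro g hg
      obtain ⟨x, hx, hx1⟩ := Cfsg.Agent.Lib.Helper30Trans.exists_ne_one_of_ne_bot' hK1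
      obtain ⟨y, hy, hy1⟩ := Cfsg.Agent.Lib.Helper30Trans.exists_ne_one_of_ne_bot' hKs1
      have hz := mul_mem_Zhat hG hM hKU hx hy hx1 hy1
      exact key hG M hM K U hKU hK1 hz ((Subgroup.mem_set_normalizer_iff.mp hg _).mp hz)
    · intro g hg
      rw [Subgroup.mem_set_normalizer_iff]
      intro h
      constructor
      · intro hh
        have e : g * h * g⁻¹ = h := by
          rw [hcomm g hg h hh.1, mul_inv_cancel_right]
        rwa [e]
      · intro hh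
        have h1 : h ∈ K ⊔ (Cfsg.sigmaCore M ⊓ Subgroup.centralizer (K : Set G)) := by
          have := mul_mem (mul_mem (inv_mem hg) hh.1) hg
          have e : g⁻¹ * (g * h * g⁻¹) * g = h := by group
          rwa [e] at this
        have e : g * h * g⁻¹ = h := by
          rw [hcomm g hg h h1, mul_inv_cancel_right]
        rwa [e] at hh
  refine ⟨?_, hN⟩
  intro g hg x hx hgx
  exact absurd (key hG M hM K U hKU hK1 hx hgx) (by rw [hN] at hg; exact hg)

end Cfsg.Agent.S1370
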