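import Cfsg.Statements.S1435
import Cfsg.Agent.Lib.H30BG1412lemmaF
import Cfsg.Agent.Lib.H30BG1412sylU
import Cfsg.Agent.Lib.H30BG1412kempty
import Cfsg.Agent.Lib.H30BG1412Usigma
import Cfsg.Agent.Lib.H30BG1412inter
import Cfsg.Agent.Lib.H30BG1412normU
import Cfsg.Agent.Lib.Helper66BG15allbeta

set_option autoImplicit false
open Cfsg

namespace Cfsg.Agent.S1435

/-- Let G be a minimal simple group of odd order, M a maximal subgroup with standard factorisation M = K U M_σ, K ≠ 1, U ≠ 1, K* = M_σ ∩ C_G(K), M* a maximal subgroup with K = M*_σ ∩ C_G(K*) and K* a Hall κ(M*)-subgroup of M*, r a prime dividing the order of U, R a Sylow r-subgroup of U, and H a maximal subgroup containing N_G(R). Then κ(H) is empty, U ≤ H_σ, M ∩ H = U ⊔ K, H ∩ N_G(U) ⊄ M, K ≤ F(H ∩ M*), and H ∩ M* is a complement to H_σ in H. -/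
theorem result {G : Type*} [Group G] [Finite G] (hG : Cfsg.IsMinSimpleOddOrder G)
    (M : Subgroup G) (hM : IsCoatom M) (K U : Subgroup G) (hKU : Cfsg.IsSigmaDecomposition M K U) (hK1 : K ≠ ⊥) (hU1 : U ≠ ⊥) (Mstar : Subgroup G) (hMstar : IsCoatom Mstar)
    (hKst : K = Cfsg.sigmaCore Mstar ⊓ Subgroup.centralizer ((Cfsg.sigmaCore M ⊓ Subgroup.centralizer (K : Set G)) : Set G))
    (hKstH : Cfsg.IsPiHallOf (Cfsg.kappa Mstar) (Cfsg.sigmaCore M ⊓ Subgroup.centralizer (K : Set G)) Mstar)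
    (r : ℕ) [Fact r.Prime] (hr : r ∣ Nat.card U) (R : Sylow r U) (H : Subgroup G) (hH : IsCoatom H)
    (hNR : Subgroup.normalizer (((R : Subgroup U).map U.subtype : Subgroup G) : Set G) ≤ H) :
    Cfsg.kappa H = ∅ ∧ U ≤ Cfsg.sigmaCore H ∧ M ⊓ H = U ⊔ K ∧ ¬ H ⊓ Subgroup.normalizer (U : Set G) ≤ M ∧
      K ≤ Cfsg.fittingOf (H ⊓ Mstar) ∧ Cfsg.IsComplIn (H ⊓ Mstar) (Cfsg.sigmaCore H) H := by
  have h : Cfsg.Agent.Lib.Helper30BG1412Defs.P2 M K U Mstar :=
    ⟨hM, hKU, hK1, hU1, hMstar, hKst, hKstH⟩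
  have hbeta := (Cfsg.Agent.Lib.Helper66BG15allbeta.all_beta hG hM hKU hK1 hU1).2.2
  set R' : Subgroup G := (R : Subgroup U).map U.subtype with hR'
  have hRs : Cfsg.Agent.Lib.Helper24BG.IsSyl r R' U := Cfsg.Agent.Lib.Helper24BG.isSyl_of_sylow R
  have hR1 : R' ≠ ⊥ := by
    intro h0
    have h1 : (R : Subgroup U) = ⊥ := by
      rw [hR', Subgroup.map_eq_bot_iff_of_injective _ U.subtype_injective] at h0
      exact h0
    have h2 := R.card_eq_multiplicity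
    rw [h1, Subgroup.card_bot] at h2
    have h3 : (Nat.card U).factorization r ≠ 0 := by
      rw [← Nat.pos_iff_ne_zero]
      exact (Fact.out : r.Prime).factorization_pos_of_dvd Nat.card_pos.ne' hr
    have h4 : 1 < r ^ (Nat.card U).factorization r := Nat.one_lt_pow h3 (Fact.out : r.Prime).one_lt
    omega
  obtain ⟨hk, hp, hne⟩ := Cfsg.Agent.Lib.H30BG1412kempty.kappa_empty hG h hRs hR1 hH hNR
  have hUK : U ⊔ K ≤ H := (Cfsg.Agent.Lib.H30BG1412sylU.sylU hG h hRs hR1).1.trans hNR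
  have hU : U ≤ Cfsg.sigmaCore H :=
    Cfsg.Agent.Lib.H30BG1412Usigma.U_le_sigmaCore hG h hbeta hH hk hp hUK
  have hMH : M ⊓ H = U ⊔ K := Cfsg.Agent.Lib.H30BG1412inter.inter_eq hG h hH hUK hU
  have hKH : K ≤ H := le_sup_right.trans hUK
  have hKp : (Nat.card K).Prime := Cfsg.Agent.Lib.H30BG1412basic.card_K hG h
  obtain ⟨F, hF, hKF⟩ := Cfsg.Agent.Lib.Helper31BGS.exists_compl_ge hG hH hKH (by
    intro q hq hd
    rw [(Nat.prime_dvd_prime_iff_eq hq hKp).mp hd]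
    exact hp)
  obtain ⟨hFM, hKfit, hbot⟩ := Cfsg.Agent.Lib.H30BG1412lemmaF.lemmaF hG h hbeta hH hk hF hKF
  have hHM : H ⊓ Mstar = F := by
    apply le_antisymm
    · intro x hx
      obtain ⟨a, ha, b, hb, rfl⟩ := hF.2.2.2 x hx.1
      have hbM : b ∈ Mstar := by
        have := Mstar.mul_mem (Mstar.inv_mem (hFM ha)) hx.2
        simpa using this
      have hb1 : b ∈ Cfsg.sigmaCore H ⊓ Mstar := ⟨hb, hbM⟩
      rw [hbot, Subgroup.mem_bot] at hb1
      rw [hb1, mul_one]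
      exact ha
    · exact le_inf hF.1 hFM
  refine ⟨hk, hU, hMH, Cfsg.Agent.Lib.H30BG1412normU.normU_not_le hG h hH hk hp hne hU hMH, ?_, ?_⟩
  · rw [hHM]
    exact hKfit
  · rw [hHM]
    exact hF

end Cfsg.Agent.S1435
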