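import Cfsg.Statements.S1363
import Cfsg.Agent.S1366
import Cfsg.Agent.S1435
import Cfsg.Agent.Lib.Helper51BG16

set_option autoImplicit false
open Cfsg

namespace Cfsg.Agent.S1363

/-- Let G be a minimal simple group of odd order and M a maximal subgroup with standard factorisation M = K U M_σ and K ≠ 1. Then U is abelian and the normalizer of U in G is not contained in M. -/
theorem result {G : Type*} [Group G] [Finite G] (hG : Cfsg.IsMinSimpleOddOrder G)
    (M : Subgroup G) (hM : IsCoatom M) (K U : Subgroup G) (hKU : Cfsg.IsSigmaDecomposition M K U) (hK1 : K ≠ ⊥) :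
    IsMulCommutative U ∧ ¬ Subgroup.normalizer (U : Set G) ≤ M := by
  refine ⟨(Cfsg.Agent.Lib.Helper51BG16.U_abelian_free hG hM hKU hK1).1, ?_⟩
  by_cases hU1 : U = ⊥
  · subst hU1
    intro h
    apply hM.1
    rw [eq_top_iff]
    refine le_trans ?_ h
    intro g _
    rw [Subgroup.mem_normalizer_iff]
    intro x
    simp [Subgroup.mem_bot]
  · obtain ⟨Mstar, ⟨hMs, hKst, hKstH⟩, -⟩ := Cfsg.Agent.S1366.result hG M hM K U hKU hK1
    have hcard : Nat.card U ≠ 1 := fun h => hU1 (Subgroup.card_eq_one.1 h)
    obtain ⟨r, hr, hrU⟩ := Nat.exists_prime_and_dvd hcard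
    have : Fact r.Prime := ⟨hr⟩
    obtain ⟨R⟩ : Nonempty (Sylow r U) := inferInstance
    set R' : Subgroup G := (R : Subgroup U).map U.subtype with hR'
    have hUM : U ≤ M := hKU.compl.1
    have hR'0 : R' ≠ ⊥ := by
      intro h
      have h1 : (R : Subgroup U) = ⊥ := by
        rw [hR', Subgroup.map_eq_bot_iff_of_injective _ U.subtype_injective] at h
        exact h
      have h2 := R.card_eq_multiplicity
      rw [h1, Subgroup.card_bot] at h2
      have h3 : (Nat.card U).factorization r ≠ 0 := by
        rw [← Nat.pos_iff_ne_zero]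
        exact hr.factorization_pos_of_dvd Nat.card_pos.ne' hrU
      have h4 : 1 < r ^ (Nat.card U).factorization r := Nat.one_lt_pow h3 hr.one_lt
      omega
    have hR'1 : R' ≠ ⊤ := by
      intro h
      apply hM.1
      rw [eq_top_iff, ← h]
      exact (Subgroup.map_subtype_le _).trans hUM
    obtain ⟨H, hH, hNH⟩ := Cfsg.Agent.Lib.Helper24BG.exists_coatom
      (Cfsg.Agent.Lib.Helper24BG.norm_ne_top hG hR'0 hR'1)
    have h5 := (Cfsg.Agent.S1435.result hG M hM K U hKU hK1 hU1 Mstar hMs hKst hKstH r hrU R H hH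
      hNH).2.2.2.1
    intro h
    exact h5 (inf_le_right.trans h)

end Cfsg.Agent.S1363
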