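import Cfsg.Statements.S1381
import Cfsg.Agent.Lib.Helper14BG16
import Cfsg.Agent.S1372

set_option autoImplicit false
open Cfsg

namespace Cfsg.Agent.S1381

open Subgroup
open Cfsg.Agent.Lib Cfsg.Agent.Lib.Helper30Trans Cfsg.Agent.Lib.Helper24BG
open Cfsg.Agent.Lib.Helper51BG16 Cfsg.Agent.Lib.Helper14BG16


/-- Let G be a minimal simple group of odd order and M a maximal subgroup with standard factorisation M = K U M_σ. Then M is of Type II if and only if K ≠ 1 and U ≠ 1. -/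
theorem result {G : Type*} [Group G] [Finite G] (hG : Cfsg.IsMinSimpleOddOrder G)
    (M : Subgroup G) (hM : IsCoatom M) (K U : Subgroup G) (hKU : Cfsg.IsSigmaDecomposition M K U) :
    Cfsg.IsOfTypeII M ↔ (K ≠ ⊥ ∧ U ≠ ⊥) := by
  constructor
  · rintro ⟨W₁, U', W₂, hP, hU'1, -, -, -, hN, -, -⟩
    have hK1 : K ≠ ⊥ := K_ne_bot_of_typeP hG hM hKU.hall hP
    refine ⟨hK1, ?_⟩
    rintro rfl
    have hder : ⁅M, M⁆ = sigmaCore M := by
      rw [(Cfsg.Agent.S1365.result hG M hM K ⊥ hKU hK1).1, bot_sup_eq]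
    have hc : IsComplIn (fittingHallOf M) U' (sigmaCore M) := hder ▸ hP.U_compl
    exact hN (normalizer_le_of_hall hG hM hc.2.1 hU'1 (hall_of_compl hc))
  · rintro ⟨hK1, hU1⟩
    have hH : fittingHallOf M = sigmaCore M := fhall_eq_of_U_ne_bot hG hM hKU hU1
    obtain ⟨hUc, hUN⟩ := Cfsg.Agent.S1363.result hG M hM K U hKU hK1
    obtain ⟨hKp, hTI, -⟩ := Cfsg.Agent.S1372.result hG M hM K U hKU hK1 hU1
    obtain ⟨hF1, hF2⟩ := typeF_derived hG hM hKU hK1 hU1
    have hc : IsComplIn (fittingHallOf M) U ⁅M, M⁆ := by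
      rw [hH, (Cfsg.Agent.S1365.result hG M hM K U hKU hK1).1]
      exact compl_Ms_U hG hM hKU
    exact ⟨K, U, _, isTypePWith_of hG hM hKU hK1 (nilpotent_of_comm hUc) hKU.normal hc, hU1, hKp, hTI,
      hUc, hUN, hF1, hF2⟩

end Cfsg.Agent.S1381
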