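import Cfsg.Statements.S1382
import Cfsg.Agent.Lib.Helper14BG16

set_option autoImplicit false
open Cfsg

namespace Cfsg.Agent.S1382

open Subgroup
open Cfsg.Agent.Lib Cfsg.Agent.Lib.Helper30Trans Cfsg.Agent.Lib.Helper24BG
open Cfsg.Agent.Lib.Helper51BG16 Cfsg.Agent.Lib.Helper14BG16


theorem aux {G : Type*} [Group G] [Finite G] (hG : Cfsg.IsMinSimpleOddOrder G)
    {M : Subgroup G} (hM : IsCoatom M) {K U : Subgroup G} (hKU : Cfsg.IsSigmaDecomposition M K U)
    {W₁ U' W₂ : Subgroup G} (hP : IsTypePWith M W₁ U' W₂) (hU'1 : U' ≠ ⊥)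
    (hN : normalizer (U' : Set G) ≤ M) :
    K ≠ ⊥ ∧ U = ⊥ ∧ Cfsg.fittingHallOf M ≠ Cfsg.sigmaCore M := by
  have hK1 : K ≠ ⊥ := K_ne_bot_of_typeP hG hM hKU.hall hP
  have hder := (Cfsg.Agent.S1365.result hG M hM K U hKU hK1).1
  have hU : U = ⊥ := by
    by_contra hU1
    have hH : fittingHallOf M = sigmaCore M := fhall_eq_of_U_ne_bot hG hM hKU hU1
    have hc : IsComplIn (sigmaCore M) U' (U ⊔ sigmaCore M) := by
      have := hP.U_compl
      rwa [hH, hder] at this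
    obtain ⟨m, -, -, hdec⟩ := exists_decomp_of_compl hG hM hKU hc
    have hK1' : cj m K ≠ ⊥ := by
      intro h
      apply hK1
      have := card_cj m K
      rw [h, card_bot] at this
      exact card_eq_one.mp this.symm
    exact (Cfsg.Agent.S1363.result hG M hM _ U' hdec hK1').2 hN
  refine ⟨hK1, hU, ?_⟩
  intro hH
  rw [hU, bot_sup_eq] at hder
  have hc := hP.U_compl
  rw [hH, hder] at hc
  apply hU'1
  rw [eq_bot_iff, ← hc.2.2.1]
  exact le_inf hc.2.1 le_rfl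


/-- Let G be a minimal simple group of odd order and M a maximal subgroup with standard factorisation M = K U M_σ. Then M is of Type III or of Type IV if and only if K ≠ 1, U = 1 and M_F ≠ M_σ. -/
theorem result {G : Type*} [Group G] [Finite G] (hG : Cfsg.IsMinSimpleOddOrder G)
    (M : Subgroup G) (hM : IsCoatom M) (K U : Subgroup G) (hKU : Cfsg.IsSigmaDecomposition M K U) :
    (Cfsg.IsOfTypeIII M ∨ Cfsg.IsOfTypeIV M) ↔ (K ≠ ⊥ ∧ U = ⊥ ∧ Cfsg.fittingHallOf M ≠ Cfsg.sigmaCore M) := by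
  constructor
  · rintro (⟨W₁, U', W₂, hP, hU'1, -, -, -, hN⟩ | ⟨W₁, U', W₂, hP, hU'1, -, -, -, hN⟩)
    · exact aux hG hM hKU hP hU'1 hN
    · exact aux hG hM hKU hP hU'1 hN
  · rintro ⟨hK1, -, hne⟩
    obtain ⟨-, hder, -⟩ := Cfsg.Agent.S1437.result hG M hM K U hKU hne
    obtain ⟨-, hTI, hKp⟩ := Cfsg.Agent.S1357.result hG M hM K U hKU hne
    obtain ⟨U', hn, hKU', hc, hU'1⟩ := exists_compl_fhall hG hM hKU hne
    have hN : normalizer (U' : Set G) ≤ M :=
      normalizer_le_of_hall hG hM hc.2.1 hU'1 (hall_of_compl hc)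
    have hP := isTypePWith_of hG hM hKU hK1 hn hKU' (hder ▸ hc)
    by_cases hab : IsMulCommutative U'
    · exact Or.inl ⟨K, U', _, hP, hU'1, hKp, hTI, hab, hN⟩
    · exact Or.inr ⟨K, U', _, hP, hU'1, hKp, hTI, hab, hN⟩

end Cfsg.Agent.S1382
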