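import Cfsg.Statements.S1361
import Cfsg.Agent.Lib.Helper31BGS
import Cfsg.Agent.Lib.Helper30Gen
import Cfsg.Agent.S1417
import Cfsg.Agent.S1418

set_option autoImplicit false
open Cfsg

namespace Cfsg.Agent.S1361

open Subgroup
open Cfsg.Agent.Lib.Helper24BG
open Cfsg.Agent.Lib.Helper24BG2
open Cfsg.Agent.Lib.Helper27BGa
open Cfsg.Agent.Lib.Helper31BGS

/-- `σ(M)'`-subgroups of prime power order of `M` are abelian -/
theorem comm_of_pgroup {G : Type*} [Group G] [Finite G] (hG : IsMinSimpleOddOrder G)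
    {M : Subgroup G} (hM : IsCoatom M) {r : ℕ} [hr : Fact r.Prime] (hrs : r ∉ sigma M) {R : Subgroup G}
    (hR : IsPGroup r R) (hRM : R ≤ M) : IsMulCommutative R := by
  by_cases hR1 : R = ⊥
  · subst hR1
    exact ⟨⟨fun a b => Subsingleton.elim _ _⟩⟩
  have hr2 : r ≠ 2 := ne_two hG hR hR1
  by_cases h1 : PRankLE r 1 M
  · have := cyclic_of_rank_one hr2 hR (rank_le_of_le hRM h1)
    exact ⟨⟨fun a b => (IsCyclic.commGroup (α := R)).mul_comm a b⟩⟩
  · have h2 : PRankLE r 2 M := by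
      by_contra h2
      exact hrs (alpha_subset_sigma hG hM ⟨hr.out, h2⟩)
    obtain ⟨A, hAM, hA, hAc⟩ := exists_sq h1
    have h17 := Cfsg.Agent.S1417.result hG M hM r ⟨hr.out, hrs, h2, h1⟩ A ⟨hAM, hA, hAc⟩
    obtain ⟨Q, hQ, hRQ⟩ := exists_isSyl_ge hRM hR
    have h3 := (h17.2.1 hQ.toSylow).1
    refine ⟨⟨fun a b => ?_⟩⟩
    have h4 := h3.is_comm.comm ⟨⟨a.1, hRM a.2⟩, mem_subgroupOf.mpr (hRQ a.2)⟩
      ⟨⟨b.1, hRM b.2⟩, mem_subgroupOf.mpr (hRQ b.2)⟩
    apply Subtype.ext
    exact congrArg (fun z => ((z : M) : G)) (congrArg Subtype.val h4)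

/-- an `r`-group, `r > p` odd, normalizing a group of order `p ^ 2` centralizes it -/
theorem le_centralizer_of_lt {G : Type*} [Group G] [Finite G] {p r : ℕ} [hp : Fact p.Prime]
    [hr : Fact r.Prime] (hpr : p < r) (hp2 : p ≠ 2) {A Z : Subgroup G} (hA : Nat.card A = p ^ 2)
    (hZ : IsPGroup r Z) (hZA : Z ≤ normalizer (A : Set G)) : Z ≤ centralizer (A : Set G) := by
  have h1 := card_modEq_inf_centralizer hZ hZA
  have h2 : Nat.card (A ⊓ centralizer (Z : Set G) : Subgroup G) ∣ p ^ 2 := by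
    rw [← hA]; exact card_dvd_of_le inf_le_left
  obtain ⟨k, hk, hc⟩ := (Nat.dvd_prime_pow hp.out).mp h2
  rw [hA, hc] at h1
  have hp1 : 1 < p := hp.out.one_lt
  have hodd : Odd p := hp.out.odd_of_ne_two hp2
  have hrodd : Odd r := hr.out.odd_of_ne_two (by omega)
  have hnd1 : ¬ r ∣ p - 1 := fun h => by
    have := Nat.le_of_dvd (by omega) h
    omega
  have hnd2 : ¬ r ∣ p + 1 := fun h => by
    have h3 := Nat.le_of_dvd (by omega) h
    have h4 : r = p + 1 := by omega
    rw [h4] at hrodd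
    exact (Nat.not_even_iff_odd.mpr hrodd) (hodd.add_one)
  have hnd3 : ¬ r ∣ p := fun h => by
    have := Nat.le_of_dvd (by omega) h
    omega
  have hk2 : k = 2 := by
    by_contra hne
    have h3 : r ∣ p ^ 2 - p ^ k := (Nat.modEq_iff_dvd' (Nat.pow_le_pow_right hp.out.pos hk)).mp h1.symm
    have hk' : k = 0 ∨ k = 1 := by omega
    rcases hk' with rfl | rfl
    · have h4 : p ^ 2 - p ^ 0 = (p - 1) * (p + 1) := by
        obtain ⟨m, rfl⟩ : ∃ m, p = m + 1 := ⟨p - 1, by omega⟩
        simp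
        ring_nf
        omega
      rw [h4] at h3
      rcases (hr.out.dvd_mul).mp h3 with h | h
      · exact hnd1 h
      · exact hnd2 h
    · have h4 : p ^ 2 - p ^ 1 = p * (p - 1) := by
        rw [Nat.mul_sub, pow_two, pow_one, mul_one]
      rw [h4] at h3
      rcases (hr.out.dvd_mul).mp h3 with h | h
      · exact hnd3 h
      · exact hnd1 h
  subst hk2
  have h5 : A ⊓ centralizer (Z : Set G) = A := eq_of_le_of_card_ge inf_le_left (by rw [hc, hA])
  have h6 : A ≤ centralizer (Z : Set G) := inf_eq_left.mp h5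
  exact le_centralizer_iff.mp h6


/-- primes of a subgroup of `U` centralizing a non-identity element of `M_σ` lie in `τ₂(M)` -/
theorem mem_tau2 {G : Type*} [Group G] [Finite G] (hG : IsMinSimpleOddOrder G)
    {M : Subgroup G} (hM : IsCoatom M) {K U : Subgroup G} (hKU : IsSigmaDecomposition M K U)
    {x y : G} (hxU : x ∈ U) {r : ℕ} [hr : Fact r.Prime] (hx : orderOf x = r)
    (hy : y ∈ sigmaCore M) (hy1 : y ≠ 1) (hxy : x * y = y * x) : r ∈ tau2 M := by
  have hc := card_compl hKU.compl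
  have hUM : U ≤ M := hKU.compl.1
  have hxM : x ∈ M := hUM hxU
  have hrU : r ∣ Nat.card U := by
    have h0 := orderOf_dvd_natCard (⟨x, hxU⟩ : U)
    rwa [← Subgroup.orderOf_coe, hx] at h0
  have hrM : r ∣ Nat.card M := hrU.trans (card_dvd_of_le hUM)
  have h50 := Cfsg.Agent.S1350.result hG M hM
  -- `|U|` divides the relative index of any subgroup of `K M_σ`
  have key : ∀ Y : Subgroup G, Y ≤ K ⊔ sigmaCore M → Nat.card U ∣ Y.relIndex M := by
    intro Y hY
    have hYM : Y ≤ M := hY.trans hKU.compl.2.1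
    have h1 := (Y.subgroupOf M).card_mul_index
    rw [Cfsg.Agent.Lib.Helper30SZ.card_subgroupOf_of_le hYM, ← hc] at h1
    obtain ⟨k, hk⟩ := card_dvd_of_le hY
    rw [hk] at h1
    have h2 : Nat.card Y * (Y.subgroupOf M).index = Nat.card Y * (Nat.card U * k) := by
      rw [h1]; ring
    have h3 := Nat.eq_of_mul_eq_mul_left Nat.card_pos h2
    exact ⟨k, h3⟩
  have hrs : r ∉ sigma M := fun hs =>
    h50.1.2.2 r hr.out hs (hrU.trans (key _ le_sup_right))
  have hrk : r ∉ kappa M := fun hk =>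
    hKU.hall.2.2 r hr.out hk (hrU.trans (key _ le_sup_left))
  have h2 : PRankLE r 2 M := by
    by_contra h2
    exact hrs (alpha_subset_sigma hG hM ⟨hr.out, h2⟩)
  refine ⟨hr.out, hrs, h2, fun h1 => hrk ⟨hr.out, hrM, hrs, fun P => ?_⟩⟩
  have hx1 : x ≠ 1 := by
    rintro rfl
    rw [orderOf_one] at hx
    exact hr.out.one_lt.ne hx
  have hZp : IsPGroup r (zpowers (⟨x, hxM⟩ : M)) := by
    apply IsPGroup.of_card (n := 1)
    rw [Nat.card_zpowers, pow_one, ← hx, ← Subgroup.orderOf_coe]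
  have hP1 : (P : Subgroup M) ≠ ⊥ := by
    intro h
    have h3 := P.not_dvd_index
    have h4 := (P : Subgroup M).card_mul_index
    rw [h, card_bot, one_mul] at h4
    rw [h, h4] at h3
    exact h3 hrM
  have hr2 : r ≠ 2 := by
    have : IsPGroup r ((P : Subgroup M).map M.subtype) := P.2.map _
    apply ne_two hG this
    intro h
    exact hP1 ((map_eq_bot_iff_of_injective _ M.subtype_injective).mp h)
  constructor
  · have h3 : IsCyclic ((P : Subgroup M).map M.subtype) :=
      cyclic_of_rank_one hr2 (P.2.map _) (rank_le_of_le (map_subtype_le _) h1)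
    exact isCyclic_of_surjective ((P : Subgroup M).equivMapOfInjective M.subtype
      M.subtype_injective).symm ((P : Subgroup M).equivMapOfInjective M.subtype
      M.subtype_injective).symm.surjective
  · obtain ⟨Q, hQ⟩ := hZp.exists_le_sylow
    obtain ⟨m, hm⟩ := MulAction.exists_smul_eq M Q P
    refine ⟨m * ⟨x, hxM⟩ * m⁻¹, ?_, ?_, (m : G) * y * (m : G)⁻¹, ?_, ?_, ?_⟩
    · rw [← hm, Sylow.coe_subgroup_smul]
      exact ⟨⟨x, hxM⟩, hQ (mem_zpowers _), rfl⟩
    · intro h
      apply hx1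
      have h3 : (⟨x, hxM⟩ : M) = 1 := by
        have := congrArg (fun z => m⁻¹ * z * m) h
        simpa [mul_assoc] using this
      exact congrArg Subtype.val h3
    · exact (mem_normalizer_iff.mp (le_normalizer_sigmaCore M m.2) y).mp hy
    · intro h
      apply hy1
      have := congrArg (fun z => (m : G)⁻¹ * z * m) h
      simpa [mul_assoc] using this
    · push_cast
      calc (m : G) * x * (m : G)⁻¹ * ((m : G) * y * (m : G)⁻¹) = m * (x * y) * (m : G)⁻¹ := by group
        _ = m * (y * x) * (m : G)⁻¹ := by rw [hxy]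
        _ = _ := by group


/-- Let G be a minimal simple group of odd order and M a maximal subgroup with standard factorisation M = K U M_σ. If X is a nontrivial subgroup of U centralizing some non-identity element of M_σ, then C_G(X) ≤ M and M is the unique maximal subgroup of G containing C_G(X). -/
theorem result {G : Type*} [Group G] [Finite G] (hG : Cfsg.IsMinSimpleOddOrder G)
    (M : Subgroup G) (hM : IsCoatom M) (K U : Subgroup G) (hKU : Cfsg.IsSigmaDecomposition M K U) (X : Subgroup G) (hXU : X ≤ U) (hX : X ≠ ⊥)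
    (hXc : Cfsg.sigmaCore M ⊓ Subgroup.centralizer (X : Set G) ≠ ⊥) :
    Subgroup.centralizer (X : Set G) ≤ M ∧ ∀ L : Subgroup G, IsCoatom L → Subgroup.centralizer (X : Set G) ≤ L → L = M := by
  obtain ⟨y, hy, hy1⟩ := (Subgroup.ne_bot_iff_exists_ne_one (H := sigmaCore M ⊓ centralizer (X : Set G))).mp hXc |>.elim
    (fun y hy => (⟨y.1, y.2, fun h => hy (Subtype.ext h)⟩ : ∃ y : G, y ∈ sigmaCore M ⊓ centralizer (X : Set G) ∧ y ≠ 1))
  have hyS : y ∈ sigmaCore M := hy.1
  have hyX : ∀ x ∈ X, x * y = y * x := fun x hx => (mem_centralizer_iff.mp hy.2 x hx)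
  have hUM : U ≤ M := hKU.compl.1
  have hXM : X ≤ M := hXU.trans hUM
  have hτ : ∀ r : ℕ, r.Prime → r ∣ Nat.card X → r ∈ tau2 M := by
    intro r hr hrd
    have : Fact r.Prime := ⟨hr⟩
    obtain ⟨x, hx⟩ := exists_prime_orderOf_dvd_card' (G := X) r hrd
    exact mem_tau2 hG hM hKU (hXU x.2) (by rw [Subgroup.orderOf_coe]; exact hx) hyS hy1 (hyX x x.2)
  set n := Nat.card X with hn
  have hn1 : n ≠ 1 := fun h => hX (X.eq_bot_of_card_eq h)
  set p := n.minFac with hpdef
  have hpp : p.Prime := Nat.minFac_prime hn1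
  have : Fact p.Prime := ⟨hpp⟩
  have hpn : p ∣ n := Nat.minFac_dvd n
  have hp : p ∈ tau2 M := hτ p hpp hpn
  obtain ⟨E', hE', hXE'⟩ := exists_compl_ge hG hM hXM (fun q hq hqd => (hτ q hq hqd).2.1)
  obtain ⟨R, hR, -⟩ := exists_isSyl_ge (p := p) (bot_le : (⊥ : Subgroup G) ≤ E') IsPGroup.of_bot
  have hRM : IsSyl p R M := isSyl_of_not_dvd_relIndex hR hE'.1 (by
    rw [relIndex_compl hE']
    exact not_dvd_sigmaCore hG hM hpp hp.2.1)
  have hR1 : ¬ PRankLE p 1 R := fun h => hp.2.2.2 (rank_of_isSyl hRM h)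
  obtain ⟨A, hAR, hA, hAc⟩ := exists_sq hR1
  have hAE : A ≤ E' := hAR.trans hR.1
  have h18 := Cfsg.Agent.S1418.result hG M hM E' hE' p hp A ⟨hAE, hA, hAc⟩
  have h17 := Cfsg.Agent.S1417.result hG M hM p hp A ⟨hAE.trans hE'.1, hA, hAc⟩
  have hAp : IsPGroup p A := isPGroup_of_elemAb hA
  have hA1 : A ≠ ⊥ := by
    rintro rfl
    rw [card_bot] at hAc
    have := hpp.one_lt
    nlinarith
  have hp2 : p ≠ 2 := ne_two hG hAp hA1
  -- `X` centralizes `A`
  have hZA : X ≤ centralizer (A : Set G) := by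
    apply Cfsg.Agent.Lib.Helper30Gen.le_of_forall_sylow_le
    intro r hr
    obtain ⟨Q⟩ : Nonempty (Sylow r X) := inferInstance
    refine ⟨Q, ?_⟩
    set Z := (Q : Subgroup X).map X.subtype with hZ
    have hZr : IsPGroup r Z := Q.2.map _
    have hZx : Z ≤ X := map_subtype_le _
    have hZN : Z ≤ normalizer (A : Set G) := (hZx.trans hXE').trans h18.1.1
    by_cases hZ1 : Z = ⊥
    · rw [hZ1]; exact bot_le
    have hrn : r ∣ n := dvd_card_of_pgroup hZr hZ1 hZx
    by_cases hrp : r = p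
    · rw [hrp] at hZr
      have h1 : IsPGroup p (Z ⊔ A : Subgroup G) := hZr.to_sup_of_normal_right' hAp hZN
      have h2 := comm_of_pgroup hG hM hp.2.1 h1 (sup_le (hZx.trans hXM) (hAE.trans hE'.1))
      intro z hz
      rw [mem_centralizer_iff]
      intro a ha
      exact congrArg Subtype.val (h2.is_comm.comm ⟨a, (le_sup_right : A ≤ Z ⊔ A) ha⟩
        ⟨z, (le_sup_left : Z ≤ Z ⊔ A) hz⟩)
    · have hle : p ≤ r := Nat.minFac_le_of_dvd hr.out.two_le hrn
      exact le_centralizer_of_lt (lt_of_le_of_ne hle (Ne.symm hrp)) hp2 hAc hZr hZN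
  have hAX : A ≤ centralizer (X : Set G) := le_centralizer_iff.mp hZA
  -- a subgroup of order `p`
  obtain ⟨x, hx⟩ := exists_prime_orderOf_dvd_card' (G := X) p hpn
  set X₀ := zpowers (x : G) with hX₀
  have hXc' : Nat.card X₀ = p := by
    rw [Nat.card_zpowers, Subgroup.orderOf_coe]; exact hx
  have hXx : X₀ ≤ X := zpowers_le.mpr x.2
  have hXA : X₀ ≤ A := h18.1.2 X₀ (hXx.trans hXE') hXc'
  have hcc : centralizer (X : Set G) ≤ centralizer (X₀ : Set G) := centralizer_le hXx
  have hne : sigmaCore M ⊓ centralizer (X₀ : Set G) ≠ ⊥ := by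
    intro h
    have : y ∈ sigmaCore M ⊓ centralizer (X₀ : Set G) := ⟨hyS, hcc hy.2⟩
    rw [h, mem_bot] at this
    exact hy1 this
  have h3 := h18.2.2 X₀ hXA hXc' hne
  refine ⟨hcc.trans h3.1, ?_⟩
  intro L hL hxL
  by_contra hLM
  have h4 := h17.2.2.2.2.1 L hL hLM (hAX.trans hxL)
  have : y ∈ sigmaCore M ⊓ L := ⟨hyS, hxL hy.2⟩
  rw [h4, mem_bot] at this
  exact hy1 this

end Cfsg.Agent.S1361
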