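import Cfsg.Statements.S1362
import Cfsg.Agent.Lib.Helper51BG16a
import Cfsg.Agent.Lib.Helper27BGa
import Cfsg.Agent.Lib.Helper14Sylow
import Cfsg.Agent.S1361

set_option autoImplicit false
open Cfsg

namespace Cfsg.Agent.S1362

open Subgroup
open Cfsg.Agent.Lib.Helper30Trans Cfsg.Agent.Lib.Helper24BG Cfsg.Agent.Lib.Helper51BG16

/-- a non-trivial `σ(M)'`-power of an element of `A(M)`: `M` is the only maximal subgroup over its centralizer. -/
theorem uniq_of_power {G : Type*} [Group G] [Finite G] (hG : Cfsg.IsMinSimpleOddOrder G)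
    {M : Subgroup G} (hM : IsCoatom M) {K U : Subgroup G} (hKU : Cfsg.IsSigmaDecomposition M K U)
    {a : G} (ha : a ∈ Cfsg.sigmaA M U) {b : G} (hb : b ∈ zpowers a) (hb1 : b ≠ 1)
    (hσ : ∀ p : ℕ, p.Prime → p ∣ orderOf b → p ∉ Cfsg.sigma M) :
    centralizer ({b} : Set G) ≤ M ∧ ∀ L : Subgroup G, IsCoatom L → centralizer ({b} : Set G) ≤ L → L = M := by
  obtain ⟨⟨haM, y, hy, hy1, hay⟩, haU⟩ := ha
  have hUM : U ⊔ Cfsg.sigmaCore M ≤ M := sup_le hKU.compl.1 (Cfsg.Agent.Lib.Helper2BGb.sigmaCore_le M)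
  have hbU : zpowers b ≤ U ⊔ Cfsg.sigmaCore M := by
    rw [zpowers_le]
    exact (zpowers_le.mpr haU) hb
  have hby : b * y = y * b := by
    obtain ⟨k, rfl⟩ := mem_zpowers_iff.mp hb
    exact ((Commute.zpow_left (show Commute a y from hay) k)).eq
  obtain ⟨m, hm, hmU⟩ := exists_cj_le_U hG hM hKU hbU (by
    intro p hp hd
    rw [Nat.card_zpowers] at hd
    exact hσ p hp hd)
  have hmM : m ∈ M := hUM hm
  have hX1 : cj m (zpowers b) ≠ ⊥ := by
    intro h
    apply hb1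
    have h1 : m * b * m⁻¹ ∈ cj m (zpowers b) := conj_mem_cj (mem_zpowers b)
    rw [h, mem_bot] at h1
    have : b = m⁻¹ * (m * b * m⁻¹) * m := by group
    rw [this, h1]; group
  have hXc : Cfsg.sigmaCore M ⊓ centralizer ((cj m (zpowers b) : Subgroup G) : Set G) ≠ ⊥ := by
    intro h
    apply hy1
    have h1 : m * y * m⁻¹ ∈ Cfsg.sigmaCore M ⊓ centralizer ((cj m (zpowers b) : Subgroup G) : Set G) := by
      refine ⟨?_, ?_⟩
      · have := (Cfsg.Agent.Lib.Helper2BGb.le_normalizer_sigmaCore M) hmM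
        exact (mem_normalizer_iff.mp this y).mp hy
      · rw [Cfsg.Agent.Lib.Helper14Sylow.centralizer_cj]
        apply conj_mem_cj
        rw [Cfsg.Agent.Lib.Helper27BGa.centralizer_zpowers_eq, mem_centralizer_iff]
        intro z hz
        rw [Set.mem_singleton_iff] at hz
        rw [hz]; exact hby
    rw [h, mem_bot] at h1
    have : y = m⁻¹ * (m * y * m⁻¹) * m := by group
    rw [this, h1]; group
  obtain ⟨h1, h2⟩ := Cfsg.Agent.S1361.result hG M hM K U hKU _ hmU hX1 hXc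
  rw [Cfsg.Agent.Lib.Helper14Sylow.centralizer_cj, Cfsg.Agent.Lib.Helper27BGa.centralizer_zpowers_eq] at h1 h2
  have hcjM : cj m⁻¹ M = M := Cfsg.Agent.Lib.Helper2BGa.cj_eq_self_of_mem (M.inv_mem hmM)
  refine ⟨?_, ?_⟩
  · have := cj_le_iff.mp h1
    rwa [hcjM] at this
  · intro L hL hCL
    have h3 := h2 (cj m L) (isCoatom_cj hL m) (cj_mono hCL)
    have : L = cj m⁻¹ (cj m L) := (cj_inv_cj m L).symm
    rw [this, h3, hcjM]

/-- an element of `M` outside `M_σ` has a non-trivial `σ(M)'`-power. -/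
theorem exists_power {G : Type*} [Group G] [Finite G] (hG : Cfsg.IsMinSimpleOddOrder G)
    {M : Subgroup G} (hM : IsCoatom M) {a : G} (haM : a ∈ M) (ha : a ∉ Cfsg.sigmaCore M) :
    ∃ k : ℤ, a ^ k ≠ 1 ∧ ∀ p : ℕ, p.Prime → p ∣ orderOf (a ^ k) → p ∉ Cfsg.sigma M := by
  by_contra hcon
  push_neg at hcon
  apply ha
  refine Cfsg.Agent.Lib.Helper2BGa.mem_of_primary (orderOf a) a rfl ?_
  intro p hp y hy ⟨k, hk⟩
  by_cases hy1 : y = 1
  · rw [hy1]; exact one_mem _
  obtain ⟨j, rfl⟩ := mem_zpowers_iff.mp hy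
  obtain ⟨q, hq, hqd, hqσ⟩ := hcon j hy1
  rw [hk] at hqd
  have hqp : q = p := (Nat.prime_dvd_prime_iff_eq hq hp).mp (hq.dvd_of_dvd_pow hqd)
  subst hqp
  haveI := Fact.mk hq
  have hle : zpowers (a ^ j) ≤ Cfsg.sigmaCore M := by
    refine Cfsg.Agent.Lib.Helper2BGb.pi_le_sigmaCore hG hM (zpowers_le.mpr (M.zpow_mem haM j)) ?_
    intro r hr hrd
    rw [Nat.card_zpowers, hk] at hrd
    have : r = q := (Nat.prime_dvd_prime_iff_eq hr hq).mp (hr.dvd_of_dvd_pow hrd)
    rw [this]; exact hqσ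
  exact hle (mem_zpowers _)

theorem le_normalizer_T {G : Type*} [Group G] [Finite G]
    {M : Subgroup G} {K U : Subgroup G} (hKU : Cfsg.IsSigmaDecomposition M K U) :
    M ≤ normalizer (Cfsg.sigmaA M U \ (Cfsg.sigmaCore M : Set G)) := by
  have key : ∀ m ∈ M, ∀ n ∈ (Cfsg.sigmaA M U \ (Cfsg.sigmaCore M : Set G)),
      m * n * m⁻¹ ∈ (Cfsg.sigmaA M U \ (Cfsg.sigmaCore M : Set G)) := by
    intro m hm n hn
    obtain ⟨⟨⟨hnM, y, hy, hy1, hny⟩, hnU⟩, hnσ⟩ := hn
    have hN := (Cfsg.Agent.Lib.Helper2BGb.le_normalizer_sigmaCore M) hm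
    refine ⟨⟨⟨M.mul_mem (M.mul_mem hm hnM) (M.inv_mem hm), m * y * m⁻¹,
      (mem_normalizer_iff.mp hN y).mp hy, ?_, ?_⟩, ?_⟩, ?_⟩
    · intro h
      apply hy1
      have : y = m⁻¹ * (m * y * m⁻¹) * m := by group
      rw [this, h]; group
    · calc m * n * m⁻¹ * (m * y * m⁻¹) = m * (n * y) * m⁻¹ := by group
        _ = m * (y * n) * m⁻¹ := by rw [hny]
        _ = m * y * m⁻¹ * (m * n * m⁻¹) := by group
    · exact (mem_normalizer_iff.mp (normal_UMs hKU hm) n).mp hnU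
    · intro h
      exact hnσ ((mem_normalizer_iff.mp hN n).mpr h)
  intro m hm
  rw [mem_set_normalizer_iff]
  intro n
  refine ⟨key m hm n, fun h => ?_⟩
  have := key m⁻¹ (M.inv_mem hm) _ h
  have e : m⁻¹ * (m * n * m⁻¹) * m⁻¹⁻¹ = n := by group
  rwa [e] at this

/-- Let G be a minimal simple group of odd order and M a maximal subgroup with standard factorisation M = K U M_σ, and let A(M) be the set of elements of U M_σ centralizing some non-identity element of M_σ. Then A(M) with M_σ removed is a TI-subset of G. -/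
theorem result {G : Type*} [Group G] [Finite G] (hG : Cfsg.IsMinSimpleOddOrder G)
    (M : Subgroup G) (hM : IsCoatom M) (K U : Subgroup G) (hKU : Cfsg.IsSigmaDecomposition M K U) :
    Cfsg.IsTISubset (Cfsg.sigmaA M U \ (Cfsg.sigmaCore M : Set G)) := by
  intro g hg a ha hga
  exfalso
  apply hg
  apply le_normalizer_T hKU
  obtain ⟨k, hk1, hkσ⟩ := exists_power hG hM ha.1.1.1 ha.2
  have h1 := uniq_of_power hG hM hKU ha.1 (zpow_mem_zpowers a k) hk1 hkσ
  have e : (g * a * g⁻¹) ^ k = g * a ^ k * g⁻¹ := by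
    rw [conj_zpow]
  have hk1' : (g * a * g⁻¹) ^ k ≠ 1 := by
    rw [e]
    intro h
    apply hk1
    have : a ^ k = g⁻¹ * (g * a ^ k * g⁻¹) * g := by group
    rw [this, h]; group
  have hord : orderOf ((g * a * g⁻¹) ^ k) = orderOf (a ^ k) := by
    rw [e]
    exact orderOf_injective (MulAut.conj g).toMonoidHom (MulAut.conj g).injective (a ^ k)
  have h2 := uniq_of_power hG hM hKU hga.1 (zpow_mem_zpowers _ k) hk1' (by rw [hord]; exact hkσ)
  have h3 : centralizer ({(g * a * g⁻¹) ^ k} : Set G) ≤ cj g M := by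
    rw [e, ← Cfsg.Agent.Lib.Helper27BGa.centralizer_zpowers_eq]
    have : zpowers (g * a ^ k * g⁻¹) = cj g (zpowers (a ^ k)) := by
      show _ = (zpowers (a ^ k)).map (MulAut.conj g).toMonoidHom
      rw [MonoidHom.map_zpowers]; rfl
    rw [this, Cfsg.Agent.Lib.Helper14Sylow.centralizer_cj, Cfsg.Agent.Lib.Helper27BGa.centralizer_zpowers_eq]
    exact cj_mono h1.1
  have h4 := h2.2 (cj g M) (isCoatom_cj hM g) h3
  have h5 := Cfsg.Agent.Lib.Helper27BGa.mem_normalizer_of_cj_eq h4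
  rwa [Cfsg.Agent.Lib.Helper27BGa.normalizer_coatom hG hM] at h5

end Cfsg.Agent.S1362
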