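import Cfsg.Statements.S2475
import Cfsg.Agent.Lib.Helper46SL2

set_option autoImplicit false
open Cfsg

namespace Cfsg.Agent.S2475

open Lib.Helper46SL2 in
theorem exists_of_dvd {G : Type*} [Group G] (x : G) (hx : 0 < orderOf x) (m : ℕ) (hm : m ∣ orderOf x) :
    ∃ y : G, orderOf y = m := by
  obtain ⟨k, hk⟩ := hm
  have hk0 : k ≠ 0 := by
    rintro rfl
    rw [mul_zero] at hk
    omega
  refine ⟨x ^ k, ?_⟩
  rw [orderOf_pow_of_dvd hk0 (Dvd.intro_left _ hk.symm), hk, Nat.mul_div_cancel _ (Nat.pos_of_ne_zero hk0)]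

/-- The set of element orders of PSL(2,q): let F be a finite field of characteristic p with q ≥ 4 elements and d = gcd(2, q − 1). The orders of elements of PSL(2,F) are exactly the divisors of p, of (q − 1)/d and of (q + 1)/d. -/
theorem result {F : Type*} [Field F] [Fintype F] (p : ℕ) [Fact p.Prime] [CharP F p] (h4 : 4 ≤ Fintype.card F) :
    Set.range (orderOf : Matrix.ProjectiveSpecialLinearGroup (Fin 2) F → ℕ) =
      {m : ℕ | m ∣ p ∨ m ∣ (Fintype.card F - 1) / Nat.gcd 2 (Fintype.card F - 1) ∨ m ∣ (Fintype.card F + 1) / Nat.gcd 2 (Fintype.card F - 1)} := by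
  have hq1 : 1 ≤ Fintype.card F := Fintype.card_pos
  have hgcd : Nat.gcd (Fintype.card F + 1) 2 = Nat.gcd 2 (Fintype.card F - 1) := by
    have e : Fintype.card F + 1 = (Fintype.card F - 1) + 2 := by omega
    rw [e, Nat.gcd_add_self_left, Nat.gcd_comm]
  ext m
  simp only [Set.mem_range, Set.mem_ofPred_eq]
  constructor
  · rintro ⟨g, rfl⟩
    exact Lib.Helper46SL2.orderOf_mk_dvd p g
  · rintro (hm | hm | hm)
    · -- unipotent element
      let u : Matrix.SpecialLinearGroup (Fin 2) F := Lib.Helper46SL2.mk2 1 1 0 1 (by ring)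
      have hu : orderOf (QuotientGroup.mk u : Matrix.ProjectiveSpecialLinearGroup (Fin 2) F) = p := by
        apply orderOf_eq_prime
        · rw [Lib.Helper46SL2.mk_pow_eq_one_iff]
          apply Lib.Helper46SL2.pow_char_mem_center p
          simp only [Lib.Helper46SL2.tr, u, Lib.Helper46SL2.mk2_00, Lib.Helper46SL2.mk2_11]
          norm_num
        · rw [Ne, Lib.Helper46SL2.mk_eq_one_iff, Lib.Helper46SL2.mem_center_iff]
          simp [u]
      exact exists_of_dvd _ (by rw [hu]; exact (Fact.out : p.Prime).pos) m (by rw [hu]; exact hm)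
    · -- split torus
      obtain ⟨a, ha⟩ := IsCyclic.exists_ofOrder_eq_natCard (α := Fˣ)
      have hcard : Nat.card Fˣ = Fintype.card F - 1 := by
        classical
        rw [Nat.card_eq_fintype_card, Fintype.card_units]
      rw [hcard] at ha
      have ha' : orderOf (a : F) = Fintype.card F - 1 := by rw [orderOf_units, ha]
      have ha0 : (a : F) ≠ 0 := a.ne_zero
      have ha2 : (a : F) ^ 2 ≠ 1 := by
        intro h
        have := orderOf_dvd_of_pow_eq_one h
        rw [ha'] at this
        have := Nat.le_of_dvd (by norm_num) this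
        omega
      have ho := Lib.Helper46SL2.orderOf_mk_of_eigen (RingHom.id F) (Lib.Helper46SL2.dg (a : F) ha0) (a : F) ha0 ha2
        (by simp [Lib.Helper46SL2.tr_dg])
      rw [orderOf_pow' _ (by norm_num), ha', Nat.gcd_comm] at ho
      have hpos : 0 < (Fintype.card F - 1) / Nat.gcd 2 (Fintype.card F - 1) :=
        Nat.div_pos (Nat.le_of_dvd (by omega) (Nat.gcd_dvd_right _ _)) (Nat.gcd_pos_of_pos_left _ (by norm_num))
      exact exists_of_dvd _ (by rw [ho]; exact hpos) m (by rw [ho]; exact hm)
    · -- nonsplit torus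
      obtain ⟨t, z, hz, hz0, hzt⟩ := Lib.Helper46SL2.exists_nonsplit (F := F)
      have hz2 : z ^ 2 ≠ 1 := by
        intro h
        have := orderOf_dvd_of_pow_eq_one h
        rw [hz] at this
        have := Nat.le_of_dvd (by norm_num) this
        omega
      have ho := Lib.Helper46SL2.orderOf_mk_of_eigen (algebraMap F (AlgebraicClosure F))
        (Lib.Helper46SL2.comp 1 t one_ne_zero) z hz0 hz2 (by rw [Lib.Helper46SL2.tr_comp, hzt])
      rw [orderOf_pow' _ (by norm_num), hz, hgcd] at ho
      have hpos : 0 < (Fintype.card F + 1) / Nat.gcd 2 (Fintype.card F - 1) :=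
        Nat.div_pos (by
          have := Nat.le_of_dvd (by norm_num) (Nat.gcd_dvd_left 2 (Fintype.card F - 1))
          omega) (Nat.gcd_pos_of_pos_left _ (by norm_num))
      exact exists_of_dvd _ (by rw [ho]; exact hpos) m (by rw [ho]; exact hm)

end Cfsg.Agent.S2475
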