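import Cfsg.Statements.S0493
import Cfsg.Agent.Lib.Helper4Burnside
import Cfsg.Agent.Lib.Helper21Simple

set_option autoImplicit false
open Cfsg

namespace Cfsg.Agent.S0493

theorem arith : ∀ n ∈ Finset.range 101, n = 0 ∨ n = 60 ∨ n = 84 ∨ (n % 4 = 2 ∧ n ≠ 2) ∨
    ∃ q ∈ ({2, 3, 5, 7} : Finset ℕ), ∃ b ∈ Finset.range 7,
      ∃ a ∈ Finset.range 4, n = (n / q ^ b).minFac ^ a * q ^ b := by
  decide +kernel

/-- A finite simple group of order at most 100 that is not cyclic has order 60. -/
theorem result {G : Type*} [Group G] [Finite G] [IsSimpleGroup G]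
    (hG : ¬ IsCyclic G) (h : Nat.card G ≤ 100) : Nat.card G = 60 := by
  have hnc : ¬ IsMulCommutative G := by
    intro hc
    let _ : CommGroup G := { ‹Group G› with mul_comm := hc.is_comm.comm }
    exact hG IsSimpleGroup.isCyclic
  have hns : ¬ Group.IsSolvable G := by
    intro hs
    exact hnc ⟨⟨IsSimpleGroup.comm_iff_isSolvable.2 hs⟩⟩
  rcases arith (Nat.card G) (Finset.mem_range.2 (by omega)) with h0 | h0 | h0 | h0 | h0
  · exact absurd h0 Nat.card_pos.ne'
  · exact h0
  · -- order 84
    exfalso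
    have : Fact (Nat.Prime 7) := ⟨by norm_num⟩
    obtain ⟨P⟩ : Nonempty (Sylow 7 G) := inferInstance
    have h1 := Cfsg.Agent.Lib.Helper21Simple.card_sylow_ne_one hnc (p := 7) (by rw [h0]; norm_num)
    have h2 := (Cfsg.Agent.Lib.Helper21Simple.sylow_card_index (p := 7) (a := 1) (m := 12)
      (by rw [h0]; norm_num) (by norm_num) P).2
    have h3 := P.card_dvd_index
    rw [h2] at h3
    have h4 := card_sylow_modEq_one 7 G
    have h5 : Nat.card (Sylow 7 G) ≤ 12 := Nat.le_of_dvd (by norm_num) h3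
    unfold Nat.ModEq at h4
    interval_cases (Nat.card (Sylow 7 G)) <;> omega
  · -- order 2 * odd
    exfalso
    obtain ⟨h1, h2⟩ := h0
    have : Fact (Nat.Prime 2) := ⟨by norm_num⟩
    obtain ⟨P⟩ : Nonempty (Sylow 2 G) := inferInstance
    have hmf : (Nat.card G).minFac = 2 := by
      rw [Nat.minFac_eq_two_iff]; omega
    apply Cfsg.Agent.Lib.Helper21Simple.not_isCyclic_sylow_minFac hnc hmf P
    have h3 := (Cfsg.Agent.Lib.Helper21Simple.sylow_card_index (p := 2) (a := 1)
      (m := Nat.card G / 2) (by omega) (by omega) P).1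
    exact isCyclic_of_prime_card (p := 2) (by simpa using h3)
  · exfalso
    obtain ⟨q, hq, b, -, a, -, hn⟩ := h0
    have hq' : q.Prime := by
      simp only [Finset.mem_insert, Finset.mem_singleton] at hq
      rcases hq with rfl | rfl | rfl | rfl <;> norm_num
    by_cases hm : Nat.card G / q ^ b = 1
    · rw [hm, Nat.minFac_one, one_pow] at hn
      exact hns (Cfsg.Agent.Lib.Helper4Burnside.burnside_paqb 2 q 0 b (by norm_num) hq'
        (by rw [hn]; ring))
    · exact hns (Cfsg.Agent.Lib.Helper4Burnside.burnside_paqb _ q a b (Nat.minFac_prime hm) hq' hn)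

end Cfsg.Agent.S0493
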