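import Cfsg.Statements.S1477
import Cfsg.Agent.Lib.Helper31Nilpotent

set_option autoImplicit false
open Cfsg
open Cfsg.Agent.Lib.Helper31Nilpotent

namespace Cfsg.Agent.S1477

set_option linter.unusedSectionVars false

variable {G : Type*} [Group G] [Finite G]

theorem cent_eq (hCN : Cfsg.IsCNGroup G) (H : Subgroup G)
    (hmax : ∀ L : Subgroup G, Group.IsNilpotent L → H ≤ L → L = H)
    (z : G) (hz1 : z ≠ 1) (hzc : ∀ h ∈ H, h * z = z * h) :
    Subgroup.centralizer ({z} : Set G) = H :=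
  hmax _ (hCN z hz1) (fun h hh => Subgroup.mem_centralizer_singleton_iff.mpr (hzc h hh))

/-- a central `p`-element of `H`, seen in `G` -/
theorem exists_central (H : Subgroup G) (hH : Group.IsNilpotent H) (p : ℕ) [Fact p.Prime]
    (hp : p ∣ Nat.card H) :
    ∃ z ∈ H, z ≠ 1 ∧ (∃ k, orderOf z = p ^ k) ∧ ∀ h ∈ H, h * z = z * h := by
  obtain ⟨z, hz1, ⟨k, hk⟩, hzc⟩ := exists_central_p_element (N := H) hp
  refine ⟨z, z.2, fun h => hz1 (Subtype.ext h), ⟨k, by rw [Subgroup.orderOf_coe, hk]⟩, ?_⟩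
  intro h hh
  exact congrArg Subtype.val (hzc ⟨h, hh⟩)

/-- commuting of coprime-order elements inside a nilpotent subgroup -/
theorem commute_in (C : Subgroup G) (hC : Group.IsNilpotent C) {a b : G} (ha : a ∈ C) (hb : b ∈ C)
    (hco : (orderOf a).Coprime (orderOf b)) : a * b = b * a := by
  have := coprime_commute C ⟨a, ha⟩ ⟨b, hb⟩ (by rwa [Subgroup.orderOf_mk, Subgroup.orderOf_mk])
  exact congrArg Subtype.val this

theorem part_a (hCN : Cfsg.IsCNGroup G) (H : Subgroup G) (hH : Group.IsNilpotent H)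
    (hmax : ∀ L : Subgroup G, Group.IsNilpotent L → H ≤ L → L = H) :
    (Nat.card H).Coprime H.index := by
  by_contra hnc
  obtain ⟨p, hp, hpH, hpI⟩ := Nat.Prime.not_coprime_iff_dvd.mp hnc
  have := Fact.mk hp
  obtain ⟨y, hyH, hy1, ⟨k, hyk⟩, hyc⟩ := exists_central H hH p hpH
  have hCy := cent_eq hCN H hmax y hy1 hyc
  let PH : Sylow p H := default
  have hPp : IsPGroup p ((PH : Subgroup H).map H.subtype) := PH.isPGroup'.map _
  obtain ⟨S, hS⟩ := hPp.exists_le_sylow
  have hpS : ∀ (x : G) (hx : x ∈ H) (j : ℕ), orderOf x = p ^ j → x ∈ S := by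
    intro x hx j hj
    apply hS
    refine ⟨⟨x, hx⟩, mem_sylow_of_orderOf PH _ (k := j) (by rw [Subgroup.orderOf_mk, hj]), rfl⟩
  have hyS : y ∈ S := hpS y hyH k hyk
  have hSnt : Nontrivial S := ⟨⟨y, hyS⟩, 1, fun h => hy1 (congrArg Subtype.val h)⟩
  have hcnt := S.isPGroup'.center_nontrivial
  obtain ⟨z0, hz0⟩ := exists_ne (1 : Subgroup.center S)
  have hz0c : ∀ s ∈ S, s * (z0 : S) = (z0 : S) * s := by
    intro s hs
    exact congrArg Subtype.val (Subgroup.mem_center_iff.mp z0.2 ⟨s, hs⟩)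
  have hz01 : ((z0 : S) : G) ≠ 1 := fun h => hz0 (Subtype.ext (Subtype.ext h))
  have hz0H : ((z0 : S) : G) ∈ H := by
    rw [← hCy, Subgroup.mem_centralizer_singleton_iff]
    exact (hz0c y hyS).symm
  obtain ⟨j, hj⟩ := (IsPGroup.iff_orderOf.mp S.isPGroup') (z0 : S)
  have hcen := central_of_commute_p (N := H) (p := p) ⟨((z0 : S) : G), hz0H⟩ (j := j)
    (by rw [Subgroup.orderOf_mk, Subgroup.orderOf_coe, hj])
    (by
      intro x i hx
      apply Subtype.ext
      exact hz0c x (hpS x x.2 i (by rw [Subgroup.orderOf_coe, hx])))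
  have hCz := cent_eq hCN H hmax ((z0 : S) : G) hz01
    (fun h hh => congrArg Subtype.val (hcen ⟨h, hh⟩))
  have hSH : (S : Subgroup G) ≤ H := by
    rw [← hCz]
    intro s hs
    exact Subgroup.mem_centralizer_singleton_iff.mpr (hz0c s hs)
  exact S.not_dvd_index (hpI.trans (Subgroup.index_dvd_of_le hSH))

theorem cent_conj_le (H : Subgroup G) (g u : G) (hu : Subgroup.centralizer ({u} : Set G) = H) :
    Subgroup.centralizer ({g * u * g⁻¹} : Set G) ≤ H.map (MulAut.conj g).toMonoidHom := by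
  intro c hc
  rw [Subgroup.mem_centralizer_singleton_iff] at hc
  refine ⟨g⁻¹ * c * g, ?_, by simp [MulAut.conj_apply]; group⟩
  rw [SetLike.mem_coe, ← hu, Subgroup.mem_centralizer_singleton_iff]
  calc g⁻¹ * c * g * u = g⁻¹ * (c * (g * u * g⁻¹)) * g := by group
    _ = g⁻¹ * ((g * u * g⁻¹) * c) * g := by rw [hc]
    _ = u * (g⁻¹ * c * g) := by group

theorem part_b (hCN : Cfsg.IsCNGroup G) (H : Subgroup G) (hH : Group.IsNilpotent H)
    (hmax : ∀ L : Subgroup G, Group.IsNilpotent L → H ≤ L → L = H)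
    (hnpp : ¬ IsPrimePow (Nat.card H)) (h1 : Nat.card H ≠ 1) (g : G)
    (hg : H.map (MulAut.conj g).toMonoidHom ≠ H) : H ⊓ H.map (MulAut.conj g).toMonoidHom = ⊥ := by
  by_contra hne
  obtain ⟨x, hx, hx1⟩ : ∃ x ∈ H ⊓ H.map (MulAut.conj g).toMonoidHom, x ≠ 1 :=
    (Subgroup.ne_bot_iff_exists_ne_one).mp hne |>.elim
      (fun m hm => ⟨m.1, m.2, fun h => hm (Subtype.ext h)⟩)
  obtain ⟨hxH, hxHg⟩ := Subgroup.mem_inf.mp hx
  obtain ⟨x0, hx0H, hx0⟩ := hxHg
  have hx0' : g * x0 * g⁻¹ = x := hx0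
  have hcard : 1 < (Nat.card H).primeFactors.card := by
    have h2 : (Nat.card H).primeFactors.card ≠ 1 := fun h => hnpp (isPrimePow_iff_card_primeFactors_eq_one.mpr h)
    have h3 : (Nat.card H).primeFactors.card ≠ 0 := by
      rw [Finset.card_ne_zero, Finset.nonempty_iff_ne_empty, Ne, Nat.primeFactors_eq_empty]
      rintro (h | h)
      · exact Nat.card_pos.ne' h
      · exact h1 h
    omega
  obtain ⟨p, hp, q, hq, hpq⟩ := Finset.one_lt_card.mp hcard
  have hpp := Nat.prime_of_mem_primeFactors hp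
  have hqq := Nat.prime_of_mem_primeFactors hq
  have := Fact.mk hpp
  have := Fact.mk hqq
  obtain ⟨u, huH, hu1, ⟨a, hua⟩, huc⟩ := exists_central H hH p (Nat.dvd_of_mem_primeFactors hp)
  obtain ⟨z, hzH, hz1, ⟨b, hzb⟩, hzc⟩ := exists_central H hH q (Nat.dvd_of_mem_primeFactors hq)
  have hCu := cent_eq hCN H hmax u hu1 huc
  have hCz := cent_eq hCN H hmax z hz1 hzc
  have hCu' := cent_conj_le H g u hCu
  have hCz' := cent_conj_le H g z hCz
  have hC := hCN x hx1
  have huC : u ∈ Subgroup.centralizer ({x} : Set G) :=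
    Subgroup.mem_centralizer_singleton_iff.mpr (huc x hxH).symm
  have hzC : z ∈ Subgroup.centralizer ({x} : Set G) :=
    Subgroup.mem_centralizer_singleton_iff.mpr (hzc x hxH).symm
  have hu'C : g * u * g⁻¹ ∈ Subgroup.centralizer ({x} : Set G) := by
    rw [Subgroup.mem_centralizer_singleton_iff, ← hx0']
    calc g * u * g⁻¹ * (g * x0 * g⁻¹) = g * (u * x0) * g⁻¹ := by group
      _ = g * (x0 * u) * g⁻¹ := by rw [huc x0 hx0H]
      _ = g * x0 * g⁻¹ * (g * u * g⁻¹) := by group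
  have hz'C : g * z * g⁻¹ ∈ Subgroup.centralizer ({x} : Set G) := by
    rw [Subgroup.mem_centralizer_singleton_iff, ← hx0']
    calc g * z * g⁻¹ * (g * x0 * g⁻¹) = g * (z * x0) * g⁻¹ := by group
      _ = g * (x0 * z) * g⁻¹ := by rw [hzc x0 hx0H]
      _ = g * x0 * g⁻¹ * (g * z * g⁻¹) := by group
  have hou' : orderOf (g * u * g⁻¹) = p ^ a := by
    rw [← hua]; exact (MulAut.conj g).orderOf_eq u
  have hoz' : orderOf (g * z * g⁻¹) = q ^ b := by
    rw [← hzb]; exact (MulAut.conj g).orderOf_eq z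
  have hcopq : ∀ i j : ℕ, (p ^ i).Coprime (q ^ j) := fun i j =>
    Nat.Coprime.pow i j ((Nat.coprime_primes hpp hqq).mpr hpq)
  have hz'H : g * z * g⁻¹ ∈ H := by
    rw [← hCu, Subgroup.mem_centralizer_singleton_iff]
    exact (commute_in _ hC huC hz'C (by rw [hua, hoz']; exact hcopq a b)).symm
  have hu'H : g * u * g⁻¹ ∈ H := by
    rw [← hCz, Subgroup.mem_centralizer_singleton_iff]
    exact (commute_in _ hC hu'C hzC (by rw [hou', hzb]; exact hcopq a b))
  have hle : H ≤ H.map (MulAut.conj g).toMonoidHom := by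
    intro h hh
    obtain ⟨k, m, hkm, e1, e2, hmp⟩ := exists_order_split p (⟨h, hh⟩ : H)
    have e1' : orderOf (h ^ m) = p ^ k := by
      rw [← e1, ← Subgroup.orderOf_coe]; rfl
    have e2' : orderOf (h ^ (p ^ k)) = m := by
      rw [← e2, ← Subgroup.orderOf_coe]; rfl
    apply mem_of_coprime_pow _ h hkm.symm
    · apply hCz'
      rw [Subgroup.mem_centralizer_singleton_iff]
      exact commute_in H hH (H.pow_mem hh m) hz'H (by rw [e1', hoz']; exact hcopq k b)
    · apply hCu'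
      rw [Subgroup.mem_centralizer_singleton_iff]
      exact commute_in H hH (H.pow_mem hh _) hu'H (by rw [e2', hou']; exact Nat.Coprime.pow_right a hmp)
  have hnil : Group.IsNilpotent (H.map (MulAut.conj g).toMonoidHom) :=
    Group.nilpotent_of_surjective ((MulAut.conj g).toMonoidHom.subgroupMap H)
      ((MulAut.conj g).toMonoidHom.subgroupMap_surjective H)
  exact hg (hmax _ hnil hle)

theorem part_c (hCN : Cfsg.IsCNGroup G) (H : Subgroup G) (hH : Group.IsNilpotent H)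
    (hmax : ∀ L : Subgroup G, Group.IsNilpotent L → H ≤ L → L = H)
    (hTI : ∀ g : G, H.map (MulAut.conj g).toMonoidHom ≠ H → H ⊓ H.map (MulAut.conj g).toMonoidHom = ⊥)
    (x : G) (hx : x ∈ H) (hx1 : x ≠ 1) : Subgroup.centralizer ({x} : Set G) ≤ H := by
  set C := Subgroup.centralizer ({x} : Set G) with hCdef
  have hCn : Group.IsNilpotent C := hCN x hx1
  have hnorm : ∀ c ∈ C, H.map (MulAut.conj c).toMonoidHom = H := by
    intro c hc
    by_contra hne
    have h1 := hTI c hne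
    have h2 : x ∈ H ⊓ H.map (MulAut.conj c).toMonoidHom := by
      refine ⟨hx, x, hx, ?_⟩
      have := Subgroup.mem_centralizer_singleton_iff.mp hc
      show c * x * c⁻¹ = x
      rw [this]; group
    rw [h1, Subgroup.mem_bot] at h2
    exact hx1 h2
  set ZH : Subgroup G := H ⊓ Subgroup.centralizer (H : Set G) with hZH
  have hZmem : ∀ z, z ∈ ZH ↔ z ∈ H ∧ ∀ h ∈ H, h * z = z * h := by
    intro z
    rw [hZH, Subgroup.mem_inf, Subgroup.mem_centralizer_iff]
    rfl
  have hZn : (ZH.subgroupOf C).Normal := by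
    constructor
    intro n hn c
    rw [Subgroup.mem_subgroupOf, hZmem] at hn ⊢
    obtain ⟨hnH, hnc⟩ := hn
    have hcH : ∀ h ∈ H, (c : G) * h * (c : G)⁻¹ ∈ H := by
      intro h hh
      rw [← hnorm c c.2]
      exact ⟨h, hh, rfl⟩
    refine ⟨hcH _ hnH, ?_⟩
    intro h hh
    rw [← hnorm c c.2] at hh
    obtain ⟨h', hh', rfl⟩ := hh
    show (c : G) * h' * (c : G)⁻¹ * ((c : G) * n * (c : G)⁻¹) = ((c : G) * n * (c : G)⁻¹) * ((c : G) * h' * (c : G)⁻¹)
    calc (c : G) * h' * (c : G)⁻¹ * ((c : G) * n * (c : G)⁻¹) = (c : G) * (h' * n) * (c : G)⁻¹ := by group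
      _ = (c : G) * (n * h') * (c : G)⁻¹ := by rw [hnc h' hh']
      _ = _ := by group
  have hZne : ZH.subgroupOf C ≠ ⊥ := by
    have hnt : Nontrivial H := ⟨⟨x, hx⟩, 1, fun h => hx1 (congrArg Subtype.val h)⟩
    have := Group.IsNilpotent.center_ne_bot (G := H)
    obtain ⟨z, hz⟩ := (Subgroup.ne_bot_iff_exists_ne_one).mp this
    have hzc : ∀ h ∈ H, h * ((z : H) : G) = ((z : H) : G) * h := fun h hh =>
      congrArg Subtype.val (Subgroup.mem_center_iff.mp z.2 ⟨h, hh⟩)
    have hzC : ((z : H) : G) ∈ C := Subgroup.mem_centralizer_singleton_iff.mpr (hzc x hx).symm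
    intro hbot
    have h2 : (⟨((z : H) : G), hzC⟩ : C) ∈ ZH.subgroupOf C := by
      rw [Subgroup.mem_subgroupOf, hZmem]
      exact ⟨(z : H).2, hzc⟩
    rw [hbot, Subgroup.mem_bot] at h2
    apply hz
    apply Subtype.ext
    apply Subtype.ext
    exact congrArg (fun c : C => (c : G)) h2
  obtain ⟨w, hwZ, hwc, hw1⟩ := exists_center_mem_of_normal (ZH.subgroupOf C) hZne
  rw [Subgroup.mem_subgroupOf, hZmem] at hwZ
  have hCw := cent_eq hCN H hmax (w : G) (fun h => hw1 (Subtype.ext h)) hwZ.2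
  rw [← hCw]
  intro c hc
  rw [Subgroup.mem_centralizer_singleton_iff]
  exact congrArg Subtype.val (Subgroup.mem_center_iff.mp hwc ⟨c, hc⟩)

/-- Let G be a finite group in which every non-identity element has nilpotent centralizer, and H a nilpotent subgroup not properly contained in any nilpotent subgroup. Then the order of H is coprime to its index; if the order of H is not a prime power then H ∩ gHg⁻¹ = 1 whenever gHg⁻¹ ≠ H; and if H ∩ gHg⁻¹ = 1 whenever gHg⁻¹ ≠ H, then C_G(x) ≤ H for every non-identity x ∈ H. -/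
theorem result {G : Type*} [Group G] [Finite G] (hCN : Cfsg.IsCNGroup G) (H : Subgroup G) (hH : Group.IsNilpotent H)
    (hmax : ∀ L : Subgroup G, Group.IsNilpotent L → H ≤ L → L = H) :
    (Nat.card H).Coprime H.index ∧
      (¬ IsPrimePow (Nat.card H) → Nat.card H ≠ 1 → ∀ g : G, H.map (MulAut.conj g).toMonoidHom ≠ H → H ⊓ H.map (MulAut.conj g).toMonoidHom = ⊥) ∧
      ((∀ g : G, H.map (MulAut.conj g).toMonoidHom ≠ H → H ⊓ H.map (MulAut.conj g).toMonoidHom = ⊥) → ∀ x ∈ H, x ≠ 1 → Subgroup.centralizer ({x} : Set G) ≤ H) := by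
  exact ⟨part_a hCN H hH hmax, part_b hCN H hH hmax, part_c hCN H hH hmax⟩

end Cfsg.Agent.S1477
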