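import Cfsg.Statements.S1527
import Mathlib
-- import your own Cfsg.Agent.* helpers here

set_option autoImplicit false
open Cfsg

namespace Cfsg.Agent.S1527

open scoped Classical in
/-- the non-identity elements conjugate into `H`. -/
noncomputable def cset {G : Type*} [Group G] [Fintype G] (H : Subgroup G) : Finset G :=
  Finset.univ.filter (fun g => g ≠ 1 ∧ ∃ x : G, x * g * x⁻¹ ∈ H)

theorem card_cset {G : Type*} [Group G] [Fintype G] (H : Subgroup G)
    (hTI : Cfsg.IsTISubset (H : Set G)) :
    (cset H).card = (Subgroup.normalizer (H : Set G)).index * (Nat.card H - 1) := by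
  classical
  set N := Subgroup.normalizer (H : Set G) with hN
  -- double counting
  have hA : ∀ g : G, (∑ x : G, if g ≠ 1 ∧ x * g * x⁻¹ ∈ H then 1 else 0) =
      if g ∈ cset H then Nat.card N else 0 := by
    intro g
    split_ifs with hg
    · obtain ⟨-, hg1, x₀, hx₀⟩ := Finset.mem_filter.1 hg
      rw [← Finset.card_filter, Nat.card_eq_fintype_card, Fintype.card_subtype]
      apply Finset.card_bij (fun x _ => x * x₀⁻¹)
      · intro x hx
        obtain ⟨-, -, hx⟩ := Finset.mem_filter.1 hx
        rw [Finset.mem_filter]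
        refine ⟨Finset.mem_univ _, ?_⟩
        by_contra hcon
        have h1 := hTI (x * x₀⁻¹) hcon (x₀ * g * x₀⁻¹) hx₀ (by
          have e : x * x₀⁻¹ * (x₀ * g * x₀⁻¹) * (x * x₀⁻¹)⁻¹ = x * g * x⁻¹ := by group
          rw [e]; exact hx)
        apply hg1
        have : g = x₀⁻¹ * (x₀ * g * x₀⁻¹) * x₀ := by group
        rw [this, h1]; group
      · intro x _ y _ h
        exact mul_right_cancel h
      · intro y hy
        obtain ⟨-, hy⟩ := Finset.mem_filter.1 hy
        refine ⟨y * x₀, ?_, by group⟩
        rw [Finset.mem_filter]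
        refine ⟨Finset.mem_univ _, hg1, ?_⟩
        have := (Subgroup.mem_normalizer_iff.1 hy (x₀ * g * x₀⁻¹)).1 hx₀
        have e : y * x₀ * g * (y * x₀)⁻¹ = y * (x₀ * g * x₀⁻¹) * y⁻¹ := by group
        rw [e]; exact this
    · apply Finset.sum_eq_zero
      intro x _
      rw [if_neg]
      rintro ⟨h1, h2⟩
      exact hg (Finset.mem_filter.2 ⟨Finset.mem_univ _, h1, x, h2⟩)
  have hB : ∀ x : G, (∑ g : G, if g ≠ 1 ∧ x * g * x⁻¹ ∈ H then 1 else 0) = Nat.card H - 1 := by
    intro x
    rw [← Finset.card_filter]
    have h1 : (Finset.univ.filter (fun g : G => g ≠ 1 ∧ x * g * x⁻¹ ∈ H)).card =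
        ((Finset.univ.filter (fun g : G => g ∈ H)).erase 1).card := by
      apply Finset.card_bij (fun g _ => x * g * x⁻¹)
      · intro g hg
        obtain ⟨-, hg1, hg2⟩ := Finset.mem_filter.1 hg
        rw [Finset.mem_erase, Finset.mem_filter]
        refine ⟨?_, Finset.mem_univ _, hg2⟩
        intro h
        apply hg1
        have : g = x⁻¹ * (x * g * x⁻¹) * x := by group
        rw [this, h]; group
      · intro g _ g' _ h
        exact mul_left_cancel (mul_right_cancel h)
      · intro y hy
        obtain ⟨hy1, hy2⟩ := Finset.mem_erase.1 hy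
        obtain ⟨-, hy2⟩ := Finset.mem_filter.1 hy2
        refine ⟨x⁻¹ * y * x, ?_, by group⟩
        rw [Finset.mem_filter]
        refine ⟨Finset.mem_univ _, ?_, ?_⟩
        · intro h
          apply hy1
          have : y = x * (x⁻¹ * y * x) * x⁻¹ := by group
          rw [this, h]; group
        · have e : x * (x⁻¹ * y * x) * x⁻¹ = y := by group
          rw [e]; exact hy2
    rw [h1, Finset.card_erase_of_mem (Finset.mem_filter.2 ⟨Finset.mem_univ _, H.one_mem⟩),
      Nat.card_eq_fintype_card, Fintype.card_subtype]
  have hC : Nat.card N * (cset H).card = Nat.card G * (Nat.card H - 1) := by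
    have h1 : ∑ g : G, (∑ x : G, if g ≠ 1 ∧ x * g * x⁻¹ ∈ H then 1 else 0) =
        Nat.card N * (cset H).card := by
      rw [Finset.sum_congr rfl (fun g _ => hA g), ← Finset.sum_filter, Finset.sum_const,
        smul_eq_mul, mul_comm]
      congr 2
      ext g; simp
    rw [← h1, Finset.sum_comm, Finset.sum_congr rfl (fun x _ => hB x), Finset.sum_const,
      Finset.card_univ, smul_eq_mul, ← Nat.card_eq_fintype_card]
  rw [← N.card_mul_index, mul_assoc] at hC
  exact Nat.eq_of_mul_eq_mul_left Nat.card_pos hC

/-- Let G be a finite group and H i (i in a finite index type) subgroups of pairwise coprime orders, each of whose underlying sets is a TI-subset of G, such that every non-identity element of G is conjugate to an element of some H i. Then Nat.card G − 1 = Σ_i [G : N_G(H i)] · (Nat.card (H i) − 1). -/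
theorem result {G : Type*} [Group G] [Finite G] {ι : Type*} [Fintype ι] (H : ι → Subgroup G) (hcop : ∀ i j, i ≠ j → Nat.Coprime (Nat.card (H i)) (Nat.card (H j))) (hTI : ∀ i, Cfsg.IsTISubset (H i : Set G)) (hcover : ∀ g : G, g ≠ 1 → ∃ i, ∃ x : G, x * g * x⁻¹ ∈ H i) : Nat.card G - 1 = ∑ i, (Subgroup.normalizer (H i : Set G)).index * (Nat.card (H i) - 1) := by
  classical
  have : Fintype G := Fintype.ofFinite G
  rw [← Finset.sum_congr rfl (fun i _ => card_cset (H i) (hTI i))]
  rw [← Finset.card_biUnion]
  · have : (Finset.univ.biUnion fun i => cset (H i)) = (Finset.univ : Finset G).erase 1 := by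
      ext g
      simp only [Finset.mem_biUnion, Finset.mem_univ, true_and, Finset.mem_erase, and_true]
      constructor
      · rintro ⟨i, hi⟩
        exact (Finset.mem_filter.1 hi).2.1
      · intro hg
        obtain ⟨i, x, hx⟩ := hcover g hg
        exact ⟨i, Finset.mem_filter.2 ⟨Finset.mem_univ _, hg, x, hx⟩⟩
    rw [this, Finset.card_erase_of_mem (Finset.mem_univ _), Finset.card_univ,
      Nat.card_eq_fintype_card]
  · intro i _ j _ hij
    rw [Function.onFun, Finset.disjoint_left]
    intro g hgi hgj
    obtain ⟨-, hg1, x, hx⟩ := Finset.mem_filter.1 hgi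
    obtain ⟨-, -, y, hy⟩ := Finset.mem_filter.1 hgj
    apply hg1
    have h1 : orderOf g ∣ Nat.card (H i) := by
      have := Subgroup.orderOf_dvd_natCard (H i) hx
      have e : orderOf (x * g * x⁻¹) = orderOf g := by
        have := (MulAut.conj x).orderOf_eq g
        simpa using this
      rwa [e] at this
    have h2 : orderOf g ∣ Nat.card (H j) := by
      have := Subgroup.orderOf_dvd_natCard (H j) hy
      have e : orderOf (y * g * y⁻¹) = orderOf g := by
        have := (MulAut.conj y).orderOf_eq g
        simpa using this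
      rwa [e] at this
    have h3 := Nat.dvd_gcd h1 h2
    rw [Nat.coprime_iff_gcd_eq_one.1 (hcop i j hij), Nat.dvd_one] at h3
    exact orderOf_eq_one_iff.1 h3

end Cfsg.Agent.S1527
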