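import Cfsg.Statements.S1526
import Cfsg.Agent.Lib.Helper32PartD

set_option autoImplicit false
open Cfsg

namespace Cfsg.Agent.S1526

open Cfsg.Agent.Lib.Helper4Char Cfsg.Agent.Lib.Helper4Char2 Cfsg.Agent.Lib.Helper4Char4
open Cfsg.Agent.Lib.Helper32Virt Cfsg.Agent.Lib.Helper32Coh Cfsg.Agent.Lib.Helper32Sub
open Cfsg.Agent.Lib.Helper32Link Cfsg.Agent.Lib.Helper32PartA Cfsg.Agent.Lib.Helper32PartB
open Cfsg.Agent.Lib.Helper32PartC Cfsg.Agent.Lib.Helper32PartD Cfsg.Agent.S1527

/-- Let G be a finite group of odd order and (L i, H i), i in a finite index type with at least two elements, pairs of subgroups with H i a nontrivial proper normal subgroup of L i such that every non-identity element of H i has its centraliser within L i contained in H i (L i is a Frobenius group with kernel H i), the orders of the H i pairwise coprime, and the underlying set of each H i a TI-subset of G with normaliser L i. If every non-identity element of G is conjugate to an element of some H i, we reach a contradiction.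 -/
theorem result {G : Type*} [Group G] [Finite G] (hodd : Odd (Nat.card G)) {ι : Type*} [Fintype ι] (hι : 2 ≤ Fintype.card ι) (L H : ι → Subgroup G) (hHL : ∀ i, H i < L i) (hH1 : ∀ i, H i ≠ ⊥) (hHn : ∀ i, ∀ x ∈ L i, ∀ h ∈ H i, x * h * x⁻¹ ∈ H i) (hfrob : ∀ i, ∀ h ∈ H i, h ≠ 1 → L i ⊓ Subgroup.centralizer ({h} : Set G) ≤ H i) (hcop : ∀ i j, i ≠ j → Nat.Coprime (Nat.card (H i)) (Nat.card (H j))) (hTI : ∀ i, Cfsg.IsTISubset (H i : Set G) ∧ Subgroup.normalizer (H i : Set G) = L i) (hcover : ∀ g : G, g ≠ 1 → ∃ i, ∃ x : G, x * g * x⁻¹ ∈ H i) : False := by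
  classical
  letI : Fintype G := Fintype.ofFinite G
  have hpack : ∀ i, ∃ (e m : ℕ) (T : Finset (G → ℂ)) (k : (G → ℂ) → ℕ) (η β : G → ℂ),
      Pack (H i) (L i) e m T k η β := fun i =>
    exists_pack (H i) (L i) hodd (hHL i) (hH1 i) (hHn i) (hfrob i) (hTI i).1 (hTI i).2
  choose e m T k η β hP using hpack
  have hηs : ∀ i, SIrr G (η i) := fun i => (hP i).sirr _ (hP i).eta_mem
  have hηg : ∀ i, IsGeneralizedCharacter G (η i) := fun i => (hηs i).gen
  have hone : SIrr G (fun _ : G => (1 : ℂ)) :=
    Or.inl Cfsg.Agent.Lib.Helper82Linear.isIrrCharacter_one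
  -- orthogonality between the families
  have hcross : ∀ i j, i ≠ j → ∀ ξ ∈ T i, ∀ ξ' ∈ T j, classInner ξ ξ' = 0 := by
    intro i j hij ξ hξ ξ' hξ'
    obtain ⟨ξs, hξs, hne, hsupp⟩ := (hP i).partner ξ hξ
    obtain ⟨ξs', hξs', hne', hsupp'⟩ := (hP j).partner ξ' hξ'
    have h1 : ξ 1 = ξs 1 := by
      have := hsupp 1 (Or.inl rfl)
      simp only [Pi.sub_apply] at this
      exact sub_eq_zero.1 this
    have h2 : ξ' 1 = ξs' 1 := by
      have := hsupp' 1 (Or.inl rfl)
      simp only [Pi.sub_apply] at this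
      exact sub_eq_zero.1 this
    exact (four_signed ((hP i).sirr ξ hξ) ((hP i).sirr ξs hξs) ((hP j).sirr ξ' hξ')
      ((hP j).sirr ξs' hξs') 1 1 1 1 one_ne_zero one_ne_zero one_ne_zero one_ne_zero
      ((hP i).orth ξ hξ ξs hξs hne.symm) ((hP j).orth ξ' hξ' ξs' hξs' hne'.symm)
      (by
        simp only [Complex.ofReal_one, one_smul]
        exact supp_orth (H i) (H j) (hcop i j hij) hsupp hsupp')
      (by rw [h1]) (by rw [h2])).1
  have hcint : ∀ i j, ∃ n : ℤ, classInner (η i) (β j) = n := fun i j =>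
    gen_inner_int (hηg i) (hP j).beta_gen
  choose c hc using hcint
  have hc' : ∀ i j, classInner (β j) (η i) = c i j := fun i j => by
    rw [gen_inner_comm (hP j).beta_gen (hηg i), hc]
  have hval : ∀ i j, i ≠ j → ∀ z ∈ H j, z ≠ 1 → η i z = c i j := by
    intro i j hij z hz hz1
    rw [← hc i j]
    apply (hP j).const (η i) (gen_isClassFunction (hηg i)) _ z hz hz1
    intro ξ hξ
    rw [classInner_sub_right, classInner_zsmul_right, hcross i j hij _ (hP i).eta_mem ξ hξ,
      hcross i j hij _ (hP i).eta_mem _ (hP j).eta_mem]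
    simp
  -- parity
  have hpar : ∀ i j, i ≠ j → c i j ≠ 0 ∨ c j i ≠ 0 := by
    intro i j hij
    have hΓg : ∀ i, IsGeneralizedCharacter G (β i + η i - fun _ => 1) := fun i =>
      gen_sub (gen_add (hP i).beta_gen (hηg i)) hone.gen
    have hΓc : ∀ i, conjFun (β i + η i - fun _ => 1) = β i + η i - fun _ => 1 := by
      intro i
      rw [conjFun_sub, conjFun_add, (hP i).beta_conj]
      have : conjFun (fun _ : G => (1 : ℂ)) = fun _ => 1 := by funext x; simp [conjFun]
      rw [this]; ring
    have hη1 : ∀ i, classInner (η i) (fun _ => 1) = 0 := fun i => (hP i).orth_one _ (hP i).eta_mem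
    have h1η : ∀ i, classInner (fun _ => 1) (η i) = 0 := fun i => by
      rw [← classInner_conj_symm, hη1 i, map_zero]
    have h1β : ∀ i, classInner (fun _ => 1) (β i) = 1 := fun i => by
      rw [← classInner_conj_symm, (hP i).beta_one, map_one]
    have hΓ1 : classInner (β i + η i - fun _ => 1) (fun _ => 1) = 0 := by
      rw [classInner_sub_left, classInner_add_left, (hP i).beta_one, hη1 i, hone.inner_self]
      ring
    obtain ⟨n, hn⟩ := parity hodd (hΓg i) (hΓg j) (hΓc i) (hΓc j) hΓ1
    rw [classInner_sub_left, classInner_add_left, classInner_sub_right, classInner_sub_right,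
      classInner_sub_right, classInner_add_right, classInner_add_right, classInner_add_right,
      supp_orth (H i) (H j) (hcop i j hij) (hP i).beta_supp (hP j).beta_supp, hc' j i, hc i j,
      (hP i).beta_one, hcross i j hij _ (hP i).eta_mem _ (hP j).eta_mem, hη1 i, h1β j, h1η j,
      hone.inner_self] at hn
    have h2 : c j i + c i j - 1 = 2 * n := by
      have : ((c j i + c i j - 1 : ℤ) : ℂ) = ((2 * n : ℤ) : ℂ) := by
        rw [← hn]; push_cast; ring
      exact_mod_cast this
    by_contra hcon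
    push Not at hcon
    rw [hcon.1, hcon.2] at h2
    omega
  -- Bessel's inequality for `β i`
  have hE : ∀ i, ∑ j ∈ Finset.univ.erase i, (m j : ℝ) * (c j i : ℝ) ^ 2 ≤ (e i : ℝ) - 1 := by
    intro i
    set R : Finset (G → ℂ) := insert (fun _ => 1) (Finset.univ.biUnion T) with hR
    have hRmem : ∀ α, α ∈ R ↔ α = (fun _ => 1) ∨ ∃ j, α ∈ T j := by
      intro α
      rw [hR, Finset.mem_insert, Finset.mem_biUnion]
      simp
    have hRs : ∀ α ∈ R, SIrr G α := by
      intro α hα
      rcases (hRmem α).1 hα with rfl | ⟨j, hj⟩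
      · exact hone
      · exact (hP j).sirr α hj
    have hON : ON R := by
      refine ⟨?_, fun α hα => (hRs α hα).gen⟩
      intro α hα α' hα'
      by_cases hEq : α = α'
      · subst hEq
        rw [if_pos rfl, (hRs α hα).inner_self]
      rw [if_neg hEq]
      rcases (hRmem α).1 hα with rfl | ⟨j, hj⟩
      · rcases (hRmem α').1 hα' with rfl | ⟨j', hj'⟩
        · exact absurd rfl hEq
        · rw [← classInner_conj_symm, (hP j').orth_one α' hj', map_zero]
      · rcases (hRmem α').1 hα' with rfl | ⟨j', hj'⟩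
        · exact (hP j).orth_one α hj
        · by_cases hjj : j = j'
          · subst hjj
            exact (hP j).orth α hj α' hj' hEq
          · exact hcross j j' hjj α hj α' hj'
    have hb := bessel hON (β i)
    have hnot : (fun _ : G => (1 : ℂ)) ∉ Finset.univ.biUnion T := by
      intro h
      obtain ⟨j, -, hj⟩ := Finset.mem_biUnion.1 h
      have := (hP j).orth_one _ hj
      rw [hone.inner_self] at this
      exact one_ne_zero this
    have hdisj : Set.PairwiseDisjoint (↑(Finset.univ : Finset ι)) T := by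
      intro j _ j' _ hjj
      rw [Function.onFun, Finset.disjoint_left]
      intro α hα hα'
      have := hcross j j' hjj α hα α hα'
      rw [((hP j).sirr α hα).inner_self] at this
      exact one_ne_zero this
    rw [hR, Finset.sum_insert hnot, Finset.sum_biUnion hdisj, (hP i).beta_one,
      ← Finset.add_sum_erase _ _ (Finset.mem_univ i)] at hb
    have hip : ip (β i) (β i) = (e i : ℝ) + 1 := by
      unfold ip; rw [(hP i).beta_norm]; simp
    rw [hip] at hb
    have hother : ∀ j ∈ Finset.univ.erase i, ∑ ξ ∈ T j, ‖classInner (β i) ξ‖ ^ 2 =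
        (m j : ℝ) * (c j i : ℝ) ^ 2 := by
      intro j hj
      have hji : j ≠ i := (Finset.mem_erase.1 hj).1
      have h1 : ∀ ξ ∈ T j, ‖classInner (β i) ξ‖ ^ 2 = ((k j ξ ^ 2 : ℕ) : ℝ) * (c j i : ℝ) ^ 2 := by
        intro ξ hξ
        have h2 : ξ = (ξ - (k j ξ : ℤ) • η j) + (k j ξ : ℤ) • η j := by ring
        rw [h2, classInner_add_right, classInner_zsmul_right, hc' j i,
          supp_orth (H i) (H j) (hcop i j hji.symm) (hP i).beta_supp ((hP j).diff ξ hξ), zero_add]
        have : (((k j ξ : ℕ) : ℤ) : ℂ) * (c j i : ℂ) = (((k j ξ : ℝ) * (c j i : ℝ) : ℝ) : ℂ) := by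
          push_cast; ring
        rw [← h2, this, Complex.norm_real, Real.norm_eq_abs, sq_abs]
        push_cast; ring
      rw [Finset.sum_congr rfl h1, ← Finset.sum_mul, ← Nat.cast_sum, (hP j).sum_k]
    rw [Finset.sum_congr rfl hother] at hb
    have hown := (hP i).own_bessel
    have : ‖(1 : ℂ)‖ ^ 2 = (1 : ℝ) := by simp
    rw [this] at hb
    linarith
  -- numerical data
  set g : ℝ := (Nat.card G : ℝ) with hg
  have hg0 : 0 < g := Nat.cast_pos.2 Nat.card_pos
  set N : ι → ℝ := fun j => ((cset (H j)).card : ℝ) with hNdef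
  have hN0 : ∀ j, 0 ≤ N j := fun j => Nat.cast_nonneg _
  have hN : ∀ j, (e j : ℝ) * (Nat.card (H j) : ℝ) * N j = g * ((Nat.card (H j) : ℝ) - 1) := by
    intro j
    have h1 := card_cset (H j) (hTI j).1
    rw [(hTI j).2] at h1
    have h2 := (L j).card_mul_index
    rw [(hP j).card_L] at h2
    have h3 : 1 ≤ Nat.card (H j) := Nat.card_pos
    simp only [hNdef, hg]
    rw [h1, ← h2]
    push_cast [Nat.cast_sub h3]
    ring
  have hclass : g = 1 + ∑ j, N j := by
    have := split H hcop hcover (fun _ => (1 : ℝ))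
    simp only [Finset.sum_const, Finset.card_univ, nsmul_eq_mul, mul_one] at this
    rw [← Nat.card_eq_fintype_card] at this
    exact this
  have hRn : ∀ i, ∃ A : ℝ, g * ((e i : ℝ) * (Nat.card (H i) : ℝ) - (e i : ℝ) ^ 2) ≤
      (e i : ℝ) * (Nat.card (H i) : ℝ) * A ∧
      1 + A + ∑ j ∈ Finset.univ.erase i, (c i j : ℝ) ^ 2 * N j ≤ g := by
    intro i
    have hcl := gen_isClassFunction (hηg i)
    set F : G → ℝ := fun x => ‖η i x‖ ^ 2 with hF
    have hFcl : ∀ x y : G, F (y * x * y⁻¹) = F x := by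
      intro x y
      simp only [hF]
      rw [hcl x y]
    have h1 : ∑ x : G, F x = g := by
      have h2 := inner_self_eq (η i)
      rw [(hηs i).inner_self] at h2
      have h3 : (1 : ℝ) = (Nat.card G : ℝ)⁻¹ * ∑ x : G, ‖η i x‖ ^ 2 := by exact_mod_cast h2
      rw [← hg] at h3
      field_simp at h3
      linarith
    refine ⟨∑ x ∈ cset (H i), F x, ?_, ?_⟩
    · have h2 := sum_cset (H i) (hTI i).1 F hFcl
      rw [(hTI i).2, (hP i).card_L] at h2
      push_cast at h2
      rw [h2]
      exact mul_le_mul_of_nonneg_left (hP i).own_norm hg0.le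
    · have h2 := split H hcop hcover F
      rw [h1, ← Finset.add_sum_erase _ _ (Finset.mem_univ i)] at h2
      have h3 : ∀ j ∈ Finset.univ.erase i, ∑ x ∈ cset (H j), F x = (c i j : ℝ) ^ 2 * N j := by
        intro j hj
        have hji : j ≠ i := (Finset.mem_erase.1 hj).1
        have h4 : ∀ x ∈ cset (H j), F x = (c i j : ℝ) ^ 2 := by
          intro x hx
          obtain ⟨-, hx1, y, hy⟩ := Finset.mem_filter.1 hx
          rw [← hFcl x y]
          simp only [hF]
          rw [hval i j hji.symm _ hy (by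
            intro h
            apply hx1
            have : x = y⁻¹ * (y * x * y⁻¹) * y := by group
            rw [this, h]; group)]
          have : ((c i j : ℤ) : ℂ) = (((c i j : ℤ) : ℝ) : ℂ) := by push_cast; rfl
          rw [this, Complex.norm_real, Real.norm_eq_abs, sq_abs]
        rw [Finset.sum_congr rfl h4, Finset.sum_const, nsmul_eq_mul, mul_comm]
      rw [Finset.sum_congr rfl h3] at h2
      have h5 : 1 ≤ F 1 := by
        obtain ⟨n, hn⟩ := gen_one_int (hηg i)
        have hn0 : n ≠ 0 := by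
          rintro rfl
          exact (hηs i).one_ne_zero (by rw [hn]; simp)
        simp only [hF]
        have : ((n : ℤ) : ℂ) = (((n : ℤ) : ℝ) : ℂ) := by push_cast; rfl
        rw [hn, this, Complex.norm_real, Real.norm_eq_abs, sq_abs]
        have h6 : 1 ≤ n ^ 2 := by
          have := sq_nonneg n
          have h7 : n ^ 2 ≠ 0 := pow_ne_zero 2 hn0
          omega
        exact_mod_cast h6
      linarith
  -- the index with the smallest kernel
  have hne : (Finset.univ : Finset ι).Nonempty := by
    rw [← Finset.card_pos, Finset.card_univ]; omega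
  obtain ⟨i, -, hmin⟩ := Finset.exists_min_image Finset.univ (fun i => Nat.card (H i)) hne
  have hoddH : ∀ j, Odd (Nat.card (H j)) := fun j =>
    hodd.of_dvd_nat (Subgroup.card_subgroup_dvd_card (H j))
  have hgap : ∀ j, j ≠ i → Nat.card (H i) + 2 ≤ Nat.card (H j) := by
    intro j hji
    have h1 := hmin j (Finset.mem_univ j)
    have h2 : Nat.card (H i) ≠ Nat.card (H j) := by
      intro h
      have h3 := hcop i j hji.symm
      rw [h, Nat.coprime_self] at h3
      have := (Subgroup.one_lt_card_iff_ne_bot (H j)).2 (hH1 j)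
      omega
    obtain ⟨a, ha⟩ := hoddH i
    obtain ⟨b, hb⟩ := hoddH j
    omega
  obtain ⟨A, hA1, hA2⟩ := hRn i
  have hcardH : ∀ j, (Nat.card (H j) : ℝ) = (e j : ℝ) * (m j : ℝ) + 1 := by
    intro j
    rw [← (hP j).card_H]; push_cast; ring
  apply final_arith g (e i) (Nat.card (H i)) (m i) A (N i) hg0
    (by exact_mod_cast (hP i).one_lt_e) (by exact_mod_cast (hP i).two_le_m) (hcardH i) hA1 (hN i)
  have hsumN : ∑ j ∈ Finset.univ.erase i, N j = g - 1 - N i := by
    have := Finset.add_sum_erase Finset.univ N (Finset.mem_univ i)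
    linarith
  set hi : ℝ := (Nat.card (H i) : ℝ) with hhi
  have hhi0 : 0 ≤ hi := Nat.cast_nonneg _
  have hterm : ∀ j ∈ Finset.univ.erase i, (hi + 2) * N j ≤
      (hi + 2) * ((c i j : ℝ) ^ 2 * N j) + g * ((m j : ℝ) * (c j i : ℝ) ^ 2) := by
    intro j hj
    have hji : j ≠ i := (Finset.mem_erase.1 hj).1
    have hsq : ∀ n : ℤ, n ≠ 0 → (1 : ℝ) ≤ (n : ℝ) ^ 2 := by
      intro n hn0
      have h6 : 1 ≤ n ^ 2 := by
        have := sq_nonneg n
        have h7 : n ^ 2 ≠ 0 := pow_ne_zero 2 hn0
        omega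
      exact_mod_cast h6
    have hm0 : (0 : ℝ) ≤ (m j : ℝ) := Nat.cast_nonneg _
    rcases hpar i j hji.symm with h | h
    · have h1 := hsq _ h
      have h2 : N j ≤ (c i j : ℝ) ^ 2 * N j := by nlinarith [hN0 j]
      have h3 : (hi + 2) * N j ≤ (hi + 2) * ((c i j : ℝ) ^ 2 * N j) :=
        mul_le_mul_of_nonneg_left h2 (by linarith)
      have h4 : 0 ≤ g * ((m j : ℝ) * (c j i : ℝ) ^ 2) := by positivity
      linarith
    · have h1 := hsq _ h
      have h2 : (Nat.card (H j) : ℝ) * N j = g * (m j : ℝ) := by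
        have h3 := hN j
        have he0 : (e j : ℝ) ≠ 0 := by
          have := (hP j).one_lt_e
          exact Nat.cast_ne_zero.mpr (by omega)
        apply mul_left_cancel₀ he0
        rw [← mul_assoc, h3, hcardH j]; ring
      have h3 : hi + 2 ≤ (Nat.card (H j) : ℝ) := by
        have := hgap j hji
        rw [hhi]
        exact_mod_cast this
      have h4 : (hi + 2) * N j ≤ g * (m j : ℝ) := by
        rw [← h2]
        exact mul_le_mul_of_nonneg_right h3 (hN0 j)
      have h5 : g * (m j : ℝ) ≤ g * ((m j : ℝ) * (c j i : ℝ) ^ 2) := by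
        apply mul_le_mul_of_nonneg_left _ hg0.le
        nlinarith
      have h6 : 0 ≤ (hi + 2) * ((c i j : ℝ) ^ 2 * N j) := by
        have := hN0 j
        positivity
      linarith
  have hsum := Finset.sum_le_sum hterm
  rw [Finset.sum_add_distrib, ← Finset.mul_sum, ← Finset.mul_sum, ← Finset.mul_sum, hsumN] at hsum
  have hEi := hE i
  have h7 : (hi + 2) * ∑ j ∈ Finset.univ.erase i, (c i j : ℝ) ^ 2 * N j ≤ (hi + 2) * (g - 1 - A) :=
    mul_le_mul_of_nonneg_left (by linarith) (by linarith)
  have h8 : g * ∑ j ∈ Finset.univ.erase i, (m j : ℝ) * (c j i : ℝ) ^ 2 ≤ g * ((e i : ℝ) - 1) :=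
    mul_le_mul_of_nonneg_left hEi hg0.le
  nlinarith

end Cfsg.Agent.S1526
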