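import Cfsg.Statements.S1473
import Cfsg.Agent.Lib.Helper31Nilpotent
import Cfsg.Agent.Lib.Helper31PGroup
import Cfsg.Agent.Lib.Helper31Coset

set_option autoImplicit false
open Cfsg
open Cfsg.Agent.Lib.Helper31Nilpotent Cfsg.Agent.Lib.Helper31Coset

namespace Cfsg.Agent.S1473

universe u

theorem commute_in {G : Type*} [Group G] (C : Subgroup G) (hC : Group.IsNilpotent C) {a b : G}
    (ha : a ∈ C) (hb : b ∈ C) (hco : (orderOf a).Coprime (orderOf b)) : a * b = b * a := by
  have := coprime_commute C ⟨a, ha⟩ ⟨b, hb⟩ (by rwa [Subgroup.orderOf_mk, Subgroup.orderOf_mk])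
  exact congrArg Subtype.val this

theorem comm_mem {G : Type*} [Group G] (H : Subgroup G) [H.Normal] {t c : G}
    (h : QuotientGroup.mk' H t * QuotientGroup.mk' H c = QuotientGroup.mk' H c * QuotientGroup.mk' H t) :
    t * c * t⁻¹ * c⁻¹ ∈ H := by
  rw [← QuotientGroup.eq_one_iff]
  show QuotientGroup.mk' H (t * c * t⁻¹ * c⁻¹) = 1
  rw [map_mul, map_mul, map_mul, h, map_inv, map_inv]
  group

theorem cn_quotient_pgroup {G : Type*} [Group G] [Finite G] (hCN : Cfsg.IsCNGroup G) (p : ℕ)
    [hp : Fact p.Prime] (H : Subgroup G) [hHn : H.Normal] (hH : IsPGroup p H) (hH1 : H ≠ ⊥) :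
    Cfsg.IsCNGroup (G ⧸ H) := by
  intro xbar hxbar
  have ho1 : orderOf xbar ≠ 1 := fun h => hxbar (orderOf_eq_one_iff.mp h)
  have hopos : orderOf xbar ≠ 0 := (orderOf_pos xbar).ne'
  obtain ⟨r, hr, hro⟩ : ∃ r, r.Prime ∧ r ∣ orderOf xbar :=
    ⟨_, Nat.minFac_prime ho1, Nat.minFac_dvd _⟩
  have := Fact.mk hr
  set ybar := xbar ^ (orderOf xbar / r) with hybar
  have hyo : orderOf ybar = r := orderOf_pow_orderOf_div hopos hro
  have hybar1 : ybar ≠ 1 := by
    intro h; rw [h, orderOf_one] at hyo; exact hr.one_lt.ne hyo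
  have hybr : ybar ^ r = 1 := by rw [← hyo]; exact pow_orderOf_eq_one ybar
  have hle : Subgroup.centralizer ({xbar} : Set (G ⧸ H)) ≤ Subgroup.centralizer ({ybar} : Set (G ⧸ H)) := by
    intro c hc
    rw [Subgroup.mem_centralizer_singleton_iff] at hc ⊢
    exact (Commute.pow_right (show Commute c xbar from hc) _)
  suffices h : ∃ L : Subgroup G, Group.IsNilpotent L ∧
      Subgroup.centralizer ({ybar} : Set (G ⧸ H)) ≤ L.map (QuotientGroup.mk' H) by
    obtain ⟨L, hL, hle2⟩ := h
    exact nilpotent_of_le (nilpotent_map _ hL) (hle.trans hle2)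
  obtain ⟨y, hy⟩ := QuotientGroup.mk'_surjective H ybar
  have hyH : y ∉ H := by
    intro h
    apply hybar1
    rw [← hy]
    exact (QuotientGroup.eq_one_iff y).mpr h
  have hyr : y ^ r ∈ H := by
    rw [← QuotientGroup.eq_one_iff]
    show QuotientGroup.mk' H (y ^ r) = 1
    rw [map_pow, hy, hybr]
  obtain ⟨a, ha⟩ := IsPGroup.iff_card.mp hH
  have hyra : (y ^ r) ^ (p ^ a) = 1 := by
    have := pow_card_eq_one' (G := H) (x := ⟨y ^ r, hyr⟩)
    rw [ha] at this
    exact congrArg Subtype.val this
  by_cases hrp : r = p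
  · subst hrp
    set C := (Subgroup.centralizer ({ybar} : Set (G ⧸ H))).comap (QuotientGroup.mk' H) with hC
    have hCmem : ∀ c, c ∈ C ↔ QuotientGroup.mk' H c * ybar = ybar * QuotientGroup.mk' H c := by
      intro c
      rw [hC, Subgroup.mem_comap, Subgroup.mem_centralizer_singleton_iff]
    have hHC : H ≤ C := by
      intro h hh
      rw [hCmem]
      have : QuotientGroup.mk' H h = 1 := (QuotientGroup.eq_one_iff h).mpr hh
      rw [this, one_mul, mul_one]
    have hyC : y ∈ C := by rw [hCmem, hy]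
    have hyp : IsPGroup r (Subgroup.zpowers y) := by
      have h1 : orderOf y ∣ r ^ (a + 1) := by
        apply orderOf_dvd_of_pow_eq_one
        rw [pow_succ', pow_mul]; exact hyra
      obtain ⟨b, -, hb⟩ := (Nat.dvd_prime_pow hr).mp h1
      exact IsPGroup.of_card (n := b) (by rw [Nat.card_zpowers, hb])
    have hP : IsPGroup r (H ⊔ Subgroup.zpowers y : Subgroup G) := hH.to_sup_of_normal_left hyp
    have hPC : H ⊔ Subgroup.zpowers y ≤ C := sup_le hHC (by rwa [Subgroup.zpowers_le])
    obtain ⟨SC, hSC⟩ := (hP.comap_subtype (K := C)).exists_le_sylow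
    set S := (SC : Subgroup C).map C.subtype with hS
    have hSp : IsPGroup r S := SC.isPGroup'.map _
    have hPS : H ⊔ Subgroup.zpowers y ≤ S := by
      intro g hg
      exact ⟨⟨g, hPC hg⟩, hSC (Subgroup.mem_subgroupOf.mpr hg), rfl⟩
    have hHS : H ≤ S := le_sup_left.trans hPS
    have hyS : y ∈ S := hPS (le_sup_right (a := H) (Subgroup.mem_zpowers y))
    have hne : H.subgroupOf S ≠ ⊥ := by
      intro hb
      apply hH1
      rw [Subgroup.subgroupOf_eq_bot, disjoint_iff, inf_eq_left.mpr hHS] at hb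
      exact hb
    obtain ⟨z, hzH, hzc, hz1⟩ :=
      Cfsg.Agent.Lib.Helper31PGroup.exists_center_mem_of_normal hSp (H.subgroupOf S) hne
    have hz1' : (z : G) ≠ 1 := fun h => hz1 (Subtype.ext h)
    have hzS : ∀ s ∈ S, s * (z : G) = (z : G) * s := fun s hs =>
      congrArg Subtype.val (Subgroup.mem_center_iff.mp hzc ⟨s, hs⟩)
    obtain ⟨b, hb⟩ := (IsPGroup.iff_orderOf.mp hSp) z
    have hzo : orderOf (z : G) = r ^ b := by rw [Subgroup.orderOf_coe, hb]
    refine ⟨Subgroup.centralizer {(z : G)}, hCN _ hz1', ?_⟩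
    suffices hCle : C ≤ Subgroup.centralizer {(z : G)} by
      intro cbar hcbar
      obtain ⟨c, rfl⟩ := QuotientGroup.mk'_surjective H cbar
      exact ⟨c, hCle hcbar, rfl⟩
    set K1 := (Subgroup.centralizer {(z : G)}).subgroupOf C with hK1
    have hidx : K1.index = 1 := by
      rw [Nat.eq_one_iff_not_exists_prime_dvd]
      intro s hs hdvd
      have := Fact.mk hs
      by_cases hsp : s = r
      · subst hsp
        have hle1 : (SC : Subgroup C) ≤ K1 := by
          intro c hc
          rw [hK1, Subgroup.mem_subgroupOf, Subgroup.mem_centralizer_singleton_iff]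
          exact hzS c ⟨c, hc, rfl⟩
        exact SC.not_dvd_index (hdvd.trans (Subgroup.index_dvd_of_le hle1))
      · let Q : Sylow s C := default
        have hle1 : (Q : Subgroup C) ≤ K1 := by
          intro c hc
          rw [hK1, Subgroup.mem_subgroupOf, Subgroup.mem_centralizer_singleton_iff]
          obtain ⟨k, hk⟩ := (IsPGroup.iff_orderOf.mp Q.isPGroup') ⟨c, hc⟩
          have hco : orderOf (c : G) = s ^ k := by
            rw [Subgroup.orderOf_mk] at hk
            rw [Subgroup.orderOf_coe, hk]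
          have hR : IsPGroup s (Subgroup.zpowers (c : G)) :=
            IsPGroup.of_card (n := k) (by rw [Nat.card_zpowers, hco])
          have hsH : ¬ s ∣ Nat.card H := by
            rw [ha]
            intro hd
            exact hsp ((Nat.prime_dvd_prime_iff_eq hs hr).mp (hs.dvd_of_dvd_pow hd))
          have hx : ∀ t ∈ Subgroup.zpowers (c : G), t * y * t⁻¹ * y⁻¹ ∈ H := by
            intro t ht
            have htC : t ∈ C := (Subgroup.zpowers_le.mpr c.2) ht
            apply comm_mem
            rw [hy]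
            exact (hCmem t).mp htC
          obtain ⟨h, hh, hfix⟩ := exists_fixed_in_coset H s hsH _ hR y hx
          have hyh1 : y * h ≠ 1 := by
            intro h1
            apply hyH
            rw [eq_inv_of_mul_eq_one_left h1]
            exact H.inv_mem hh
          have hD := hCN (y * h) hyh1
          have hcD : (c : G) ∈ Subgroup.centralizer ({y * h} : Set G) :=
            Subgroup.mem_centralizer_singleton_iff.mpr (hfix c (Subgroup.mem_zpowers _))
          have hzD : (z : G) ∈ Subgroup.centralizer ({y * h} : Set G) :=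
            Subgroup.mem_centralizer_singleton_iff.mpr (hzS _ (S.mul_mem hyS (hHS hh))).symm
          apply commute_in _ hD hcD hzD
          rw [hco, hzo]
          exact Nat.Coprime.pow k b ((Nat.coprime_primes hs hr).mpr hsp)
        exact Q.not_dvd_index (hdvd.trans (Subgroup.index_dvd_of_le hle1))
    rw [Subgroup.index_eq_one, hK1, Subgroup.subgroupOf_eq_top] at hidx
    exact hidx
  · have hcop : Nat.Coprime (p ^ a) r :=
      Nat.Coprime.pow_left a ((Nat.coprime_primes hp.out hr).mpr (Ne.symm hrp))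
    obtain ⟨j, -, hj⟩ := Nat.exists_mul_mod_eq_one_of_coprime hcop hr.one_lt
    set y' := y ^ (p ^ a * j) with hy'
    have hy'r : y' ^ r = 1 := by
      calc y' ^ r = ((y ^ r) ^ (p ^ a)) ^ j := by
            rw [hy', ← pow_mul, ← pow_mul, ← pow_mul]; congr 1; ring
        _ = 1 := by rw [hyra, one_pow]
    have hy'bar : QuotientGroup.mk' H y' = ybar := by
      rw [hy', map_pow, hy, pow_eq_pow_mod _ hybr, hj, pow_one]
    have hy'1 : y' ≠ 1 := by
      intro h; rw [h, map_one] at hy'bar; exact hybar1 hy'bar.symm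
    refine ⟨Subgroup.centralizer {y'}, hCN y' hy'1, ?_⟩
    intro cbar hcbar
    obtain ⟨c, rfl⟩ := QuotientGroup.mk'_surjective H cbar
    rw [Subgroup.mem_centralizer_singleton_iff] at hcbar
    have hR : IsPGroup r (Subgroup.zpowers y') :=
      IsPGroup.of_card (n := 1) (by rw [Nat.card_zpowers, pow_one]; exact orderOf_eq_prime hy'r hy'1)
    have hrH : ¬ r ∣ Nat.card H := by
      rw [ha]
      intro hd
      exact hrp ((Nat.prime_dvd_prime_iff_eq hr hp.out).mp (hr.dvd_of_dvd_pow hd))
    have hx : ∀ t ∈ Subgroup.zpowers y', t * c * t⁻¹ * c⁻¹ ∈ H := by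
      intro t ht
      obtain ⟨i, rfl⟩ := ht
      apply comm_mem
      show QuotientGroup.mk' H (y' ^ i) * _ = _ * QuotientGroup.mk' H (y' ^ i)
      rw [map_zpow, hy'bar]
      exact ((show Commute (QuotientGroup.mk' H c) ybar from hcbar).zpow_right i).symm
    obtain ⟨h, hh, hfix⟩ := exists_fixed_in_coset H r hrH _ hR c hx
    refine ⟨c * h, ?_, ?_⟩
    · rw [SetLike.mem_coe, Subgroup.mem_centralizer_singleton_iff]
      exact (hfix y' (Subgroup.mem_zpowers y')).symm
    · rw [map_mul]
      have : QuotientGroup.mk' H h = 1 := (QuotientGroup.eq_one_iff h).mpr hh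
      rw [this, mul_one]

theorem cn_of_equiv {G G' : Type*} [Group G] [Group G'] (e : G ≃* G') (h : Cfsg.IsCNGroup G) :
    Cfsg.IsCNGroup G' := by
  intro g' hg'
  have h1 : e.symm g' ≠ 1 := by
    intro h0
    apply hg'
    have := congrArg e h0
    simpa using this
  have hn := h (e.symm g') h1
  let f : Subgroup.centralizer ({g'} : Set G') →* Subgroup.centralizer ({e.symm g'} : Set G) :=
    (e.symm.toMonoidHom.comp (Subgroup.subtype _)).codRestrict _ (fun c => by
      rw [Subgroup.mem_centralizer_singleton_iff]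
      have := Subgroup.mem_centralizer_singleton_iff.mp c.2
      show e.symm c * e.symm g' = e.symm g' * e.symm c
      rw [← map_mul, ← map_mul, this])
  refine nilpotent_of_injective f ?_
  intro c d hcd
  have h2 : e.symm c = e.symm d := congrArg Subtype.val hcd
  exact Subtype.ext (e.symm.injective h2)

def omegaSub {G : Type*} [Group G] (A : Subgroup G) (hA : ∀ a ∈ A, ∀ b ∈ A, a * b = b * a) (p : ℕ) :
    Subgroup G where
  carrier := {g | g ∈ A ∧ g ^ p = 1}
  mul_mem' := by
    rintro a b ⟨ha, hap⟩ ⟨hb, hbp⟩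
    refine ⟨A.mul_mem ha hb, ?_⟩
    rw [(show Commute a b from hA a ha b hb).mul_pow, hap, hbp, one_mul]
  one_mem' := ⟨A.one_mem, one_pow p⟩
  inv_mem' := by
    rintro a ⟨ha, hap⟩
    exact ⟨A.inv_mem ha, by rw [inv_pow, hap, inv_one]⟩

theorem exists_normal_pgroup {G : Type*} [Group G] [Finite G] (H : Subgroup G) [H.Normal]
    (hs : Group.IsSolvable H) (hne : H ≠ ⊥) :
    ∃ (p : ℕ) (_ : Fact p.Prime) (H0 : Subgroup G), H0.Normal ∧ IsPGroup p H0 ∧ H0 ≠ ⊥ ∧ H0 ≤ H := by
  classical
  have hnt : Nontrivial H := (Subgroup.nontrivial_iff_ne_bot H).mpr hne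
  have hex := hs.solvable
  have hk : derivedSeries H (Nat.find hex) = ⊥ := Nat.find_spec hex
  have hk0 : Nat.find hex ≠ 0 := by
    intro h0
    rw [h0, derivedSeries_zero] at hk
    exact top_ne_bot hk
  obtain ⟨j, hj⟩ : ∃ j, Nat.find hex = j + 1 := ⟨Nat.find hex - 1, by omega⟩
  have hAne : derivedSeries H j ≠ ⊥ := Nat.find_min hex (by omega)
  rw [hj, derivedSeries_succ, Subgroup.commutator_eq_bot_iff_le_centralizer] at hk
  set A : Subgroup G := (derivedSeries H j).map H.subtype with hA
  have hAn : A.Normal := by rw [hA]; infer_instance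
  have hAc : ∀ a ∈ A, ∀ b ∈ A, a * b = b * a := by
    rintro _ ⟨a, ha, rfl⟩ _ ⟨b, hb, rfl⟩
    exact congrArg Subtype.val (Subgroup.mem_centralizer_iff.mp (hk hb) a ha)
  have hAne' : A ≠ ⊥ := by
    rw [hA, Ne, Subgroup.map_eq_bot_iff_of_injective _ H.subtype_injective]
    exact hAne
  have hAcard : Nat.card A ≠ 1 := fun h => hAne' (Subgroup.card_eq_one.mp h)
  set p := (Nat.card A).minFac with hp
  have hpp : p.Prime := Nat.minFac_prime hAcard
  have hfact := Fact.mk hpp
  obtain ⟨x, hx⟩ := exists_prime_orderOf_dvd_card' (G := A) p (Nat.minFac_dvd _)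
  refine ⟨p, hfact, omegaSub A hAc p, ?_, ?_, ?_, ?_⟩
  · constructor
    rintro n ⟨hnA, hnp⟩ g
    exact ⟨hAn.conj_mem n hnA g, by rw [conj_pow, hnp]; group⟩
  · intro g
    refine ⟨1, ?_⟩
    apply Subtype.ext
    rw [pow_one]
    exact g.2.2
  · intro hbot
    have hmem : (x : G) ∈ omegaSub A hAc p := by
      refine ⟨x.2, ?_⟩
      have := pow_orderOf_eq_one x
      rw [hx] at this
      exact congrArg Subtype.val this
    rw [hbot, Subgroup.mem_bot] at hmem
    have : x = 1 := Subtype.ext hmem
    rw [this, orderOf_one] at hx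
    exact hpp.one_lt.ne hx
  · rintro g ⟨hgA, -⟩
    obtain ⟨a, -, rfl⟩ := hgA
    exact a.2

theorem main (n : ℕ) : ∀ (G : Type u) [Group G] [Finite G] (H : Subgroup G) [H.Normal],
    Nat.card H = n → Cfsg.IsCNGroup G → Group.IsSolvable H → Cfsg.IsCNGroup (G ⧸ H) := by
  induction n using Nat.strong_induction_on with
  | _ n ih =>
    intro G _ _ H _ hn hCN hs
    by_cases hH : H = ⊥
    · subst hH; exact cn_of_equiv (QuotientGroup.quotientBot).symm hCN
    obtain ⟨p, hp, H0, hH0n, hH0p, hH0ne, hH0le⟩ := exists_normal_pgroup H hs hH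
    have h1 : Cfsg.IsCNGroup (G ⧸ H0) := cn_quotient_pgroup hCN p H0 hH0p hH0ne
    have hsurj := (QuotientGroup.mk' H0).subgroupMap_surjective H
    have hcard : Nat.card (H.map (QuotientGroup.mk' H0)) < n := by
      rw [← hn]
      have : Fintype H := Fintype.ofFinite _
      have : Fintype (H.map (QuotientGroup.mk' H0)) := Fintype.ofFinite _
      rw [Nat.card_eq_fintype_card, Nat.card_eq_fintype_card]
      apply Fintype.card_lt_of_surjective_not_injective _ hsurj
      intro hinj
      apply hH0ne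
      rw [Subgroup.eq_bot_iff_forall]
      intro x hx
      have h2 : (QuotientGroup.mk' H0).subgroupMap H ⟨x, hH0le hx⟩ = (QuotientGroup.mk' H0).subgroupMap H 1 := by
        apply Subtype.ext
        show QuotientGroup.mk' H0 x = QuotientGroup.mk' H0 1
        rw [map_one]
        exact (QuotientGroup.eq_one_iff x).mpr hx
      exact congrArg Subtype.val (hinj h2)
    have hsol : Group.IsSolvable (H.map (QuotientGroup.mk' H0)) :=
      Group.isSolvable_of_surjective hsurj
    have h2 := ih _ hcard (G ⧸ H0) (H.map (QuotientGroup.mk' H0)) rfl h1 hsol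
    exact cn_of_equiv (QuotientGroup.quotientQuotientEquivQuotient H0 H hH0le) h2

/-- Let G be a finite group in which the centralizer of every non-identity element is nilpotent, and H a solvable normal subgroup of G. Then in G/H the centralizer of every non-identity element is nilpotent. -/
theorem result {G : Type*} [Group G] [Finite G] (hCN : Cfsg.IsCNGroup G) (H : Subgroup G) [H.Normal] (hH : Group.IsSolvable H) :
    Cfsg.IsCNGroup (G ⧸ H) := by
  exact main _ G H rfl hCN hH

end Cfsg.Agent.S1473
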