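import Cfsg.Statements.S0183
import Cfsg.Agent.Lib.Helper32CN3
import Cfsg.Agent.S1473

set_option autoImplicit false
open Cfsg

namespace Cfsg.Agent.S0183

universe u

theorem cn_subgroup {G : Type u} [Group G] (h : Cfsg.IsCNGroup G) (K : Subgroup G) :
    Cfsg.IsCNGroup K := by
  intro x hx
  have hx' : (x : G) ≠ 1 := fun h1 => hx (Subtype.ext h1)
  haveI := h x hx'
  let f : Subgroup.centralizer ({x} : Set K) →* Subgroup.centralizer ({(x : G)} : Set G) :=
    { toFun := fun a => ⟨((a : K) : G), by
        rw [Subgroup.mem_centralizer_singleton_iff]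
        exact congrArg Subtype.val (Subgroup.mem_centralizer_singleton_iff.1 a.2)⟩
      map_one' := rfl
      map_mul' := fun _ _ => rfl }
  have hf : f.ker ≤ Subgroup.center _ := by
    intro a ha
    have h1 : ((a : K) : G) = 1 := congrArg Subtype.val (MonoidHom.mem_ker.1 ha)
    have h2 : a = 1 := Subtype.ext (Subtype.ext h1)
    rw [h2]
    exact Subgroup.one_mem _
  exact Subgroup.isNilpotent_of_ker_le_center f hf

theorem main : ∀ (n : ℕ) (G : Type u) [Group G] [Finite G], Nat.card G = n →
    Odd (Nat.card G) → Cfsg.IsCNGroup G → Group.IsSolvable G := by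
  intro n
  induction n using Nat.strong_induction_on with
  | _ n ih =>
  intro G _ _ hn hodd h
  have IH : ∀ K : Subgroup G, K ≠ ⊤ → Group.IsSolvable K := by
    intro K hK
    have hlt : Nat.card K < n := by
      rw [← hn]
      refine lt_of_le_of_ne (Subgroup.card_le_card_group K) ?_
      intro he
      exact hK (Subgroup.eq_top_of_card_eq K he)
    exact ih _ hlt K rfl (Odd.of_dvd_nat hodd (Subgroup.card_subgroup_dvd_card K))
      (cn_subgroup h K)
  by_contra hns
  by_cases hnorm : ∃ N : Subgroup G, N.Normal ∧ N ≠ ⊥ ∧ N ≠ ⊤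
  · obtain ⟨N, hN, hN1, hN2⟩ := hnorm
    haveI := hN
    have hNs := IH N hN2
    have hcard : Nat.card G = Nat.card (G ⧸ N) * Nat.card N :=
      Subgroup.card_eq_card_quotient_mul_card_subgroup N
    have hN1' : Nat.card N ≠ 1 := by rw [Ne, Subgroup.card_eq_one]; exact hN1
    have hNpos : 0 < Nat.card N := Nat.card_pos
    have hQpos : 0 < Nat.card (G ⧸ N) := Nat.card_pos
    have hlt : Nat.card (G ⧸ N) < n := by
      rw [← hn, hcard]
      have : 2 ≤ Nat.card N := by omega
      nlinarith
    have hQs := ih _ hlt (G ⧸ N) rfl (Odd.of_dvd_nat hodd ⟨_, hcard⟩)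
      (Cfsg.Agent.S1473.result h N hNs)
    exact hns ((Group.isSolvable_iff_subgroup_quotient N).2 ⟨hNs, hQs⟩)
  · push Not at hnorm
    have hnt : Nontrivial G := by
      by_contra hnt
      rw [not_nontrivial_iff_subsingleton] at hnt
      exact hns inferInstance
    have hsimple : IsSimpleGroup G :=
      { exists_pair_ne := hnt.exists_pair_ne
        eq_bot_or_eq_top_of_normal := fun N hN => by
          by_cases h1 : N = ⊥
          · exact Or.inl h1
          · exact Or.inr (hnorm N hN h1) }
    exact Cfsg.Agent.Lib.Helper32CN3.not_cn ⟨hodd, hsimple, hns, IH⟩ h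

/-- The CN-Theorem for odd order: a finite group of odd order in which every non-identity element has a nilpotent centralizer (a CN-group) is solvable. -/
theorem result {G : Type*} [Group G] [Finite G] (hodd : Odd (Nat.card G)) (hCN : Cfsg.IsCNGroup G) : Group.IsSolvable G := by
  exact main _ G rfl hodd hCN

end Cfsg.Agent.S0183
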