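import Cfsg.Statements.S2503
import Cfsg.Agent.Lib.Helper47SL2Even
import Mathlib

set_option autoImplicit false
open Cfsg

namespace Cfsg.Agent.S2503
open Cfsg.Agent.Lib.Helper47SL2Even


section aux
variable {F : Type*} [Field F]

/-- matrix of multiplication by `x + y ω`, `ω² = ω + d`. -/
def Mat (d x y : F) : Matrix (Fin 2) (Fin 2) F := !![x, d * y; y, x + y]

theorem Mat_mul (d x y x' y' : F) : Mat d x y * Mat d x' y' = Mat d (x * x' + d * y * y') (y * x' + x * y' + y * y') := by
  simp only [Mat, Matrix.mul_fin_two]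
  congr 1 <;> (try ext i j) <;> (try fin_cases i) <;> (try fin_cases j) <;> simp <;> ring

theorem Mat_det [CharP F 2] (d x y : F) : (Mat d x y).det = 1 * x ^ 2 + 1 * x * y + d * y ^ 2 := by
  simp only [Mat, Matrix.det_fin_two_of]
  rw [CharTwo.sub_eq_add]
  ring

/-- the nonsplit torus. -/
def torus [CharP F 2] (d : F) : Subgroup (Matrix.SpecialLinearGroup (Fin 2) F) where
  carrier := {M | ∃ x y : F, (M : Matrix (Fin 2) (Fin 2) F) = Mat d x y}
  mul_mem' := by
    rintro M N ⟨x, y, h⟩ ⟨x', y', h'⟩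
    exact ⟨_, _, by rw [Matrix.SpecialLinearGroup.coe_mul, h, h', Mat_mul]⟩
  one_mem' := ⟨1, 0, by simp [Mat, Matrix.one_fin_two]⟩
  inv_mem' := by
    rintro M ⟨x, y, h⟩
    refine ⟨x + y, y, ?_⟩
    rw [Matrix.SpecialLinearGroup.coe_inv, h]
    simp only [Mat, Matrix.adjugate_fin_two_of, CharTwo.neg_eq]
    congr 1
    ext i j
    fin_cases i <;> fin_cases j <;> simp [add_assoc, CharTwo.add_self_eq_zero]

theorem mem_torus [CharP F 2] (d : F) (M : Matrix.SpecialLinearGroup (Fin 2) F) :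
    M ∈ torus d ↔ ∃ x y : F, (M : Matrix (Fin 2) (Fin 2) F) = Mat d x y := Iff.rfl

/-- the element of the torus with first column `(x, y)`. -/
def toTorus [CharP F 2] (d : F) (p : {p : F × F // 1 * p.1 ^ 2 + 1 * p.1 * p.2 + d * p.2 ^ 2 = 1}) :
    Matrix.SpecialLinearGroup (Fin 2) F := ⟨Mat d p.1.1 p.1.2, by rw [Mat_det]; exact p.2⟩

theorem toTorus_mem [CharP F 2] (d : F) (p) : toTorus d p ∈ torus d := ⟨_, _, rfl⟩

theorem card_torus [Fintype F] [CharP F 2] (d : F) (hd : ∀ x : F, x ^ 2 + x + d ≠ 0) :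
    Nat.card (torus d) = Fintype.card F + 1 := by
  have hani : ∀ x y : F, 1 * x ^ 2 + 1 * x * y + d * y ^ 2 = 0 → x = 0 ∧ y = 0 := by
    intro x y h
    by_cases hy : y = 0
    · subst hy
      simp at h
      exact ⟨h, rfl⟩
    · exfalso
      apply hd (x / y)
      have : (x / y) ^ 2 + x / y + d = (1 * x ^ 2 + 1 * x * y + d * y ^ 2) / y ^ 2 := by
        field_simp
      rw [this, h, zero_div]
  rw [← card_conic 1 1 d hani]
  symm
  apply Nat.card_eq_of_bijective (fun p => (⟨toTorus d p, toTorus_mem d p⟩ : torus d))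
  constructor
  · intro p p' h
    have h1 : (toTorus d p : Matrix (Fin 2) (Fin 2) F) = toTorus d p' := by
      have := congrArg (fun z : torus d => ((z : Matrix.SpecialLinearGroup (Fin 2) F) : Matrix (Fin 2) (Fin 2) F)) h
      exact this
    have h00 := congrFun (congrFun h1 0) 0
    have h10 := congrFun (congrFun h1 1) 0
    simp [toTorus, Mat] at h00 h10
    exact Subtype.ext (Prod.ext h00 h10)
  · rintro ⟨M, x, y, hM⟩
    have hdet : 1 * x ^ 2 + 1 * x * y + d * y ^ 2 = 1 := by
      rw [← Mat_det, ← hM]; exact M.2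
    refine ⟨⟨(x, y), hdet⟩, ?_⟩
    apply Subtype.ext
    apply Subtype.ext
    exact hM.symm

theorem isCyclic_torus [Fintype F] [CharP F 2] (d : F) (hd : ∀ x : F, x ^ 2 + x + d ≠ 0) :
    IsCyclic (torus d) := by
  classical
  obtain ⟨ω, hω⟩ := IsAlgClosed.exists_root (k := AlgebraicClosure F)
    (Polynomial.X ^ 2 + Polynomial.X + Polynomial.C (algebraMap F (AlgebraicClosure F) d))
    (by
      have : (Polynomial.X ^ 2 + Polynomial.X + Polynomial.C (algebraMap F (AlgebraicClosure F) d)).degree = 2 := by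
        compute_degree!
      rw [this]; norm_num)
  have hω' : ω ^ 2 + ω + algebraMap F (AlgebraicClosure F) d = 0 := by
    simpa [Polynomial.IsRoot] using hω
  have : CharP (AlgebraicClosure F) 2 := charP_of_injective_algebraMap (algebraMap F (AlgebraicClosure F)).injective 2
  have hω2 : ω ^ 2 = ω + algebraMap F (AlgebraicClosure F) d := by
    have h1 : ω ^ 2 + (ω + algebraMap F (AlgebraicClosure F) d) = 0 := by rw [← add_assoc]; exact hω'
    exact CharTwo.add_eq_zero.mp h1
  let f : torus d →* AlgebraicClosure F :=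
    { toFun := fun M => algebraMap F _ ((M : Matrix.SpecialLinearGroup (Fin 2) F) 0 0) + algebraMap F _ ((M : Matrix.SpecialLinearGroup (Fin 2) F) 1 0) * ω
      map_one' := by simp
      map_mul' := by
        rintro ⟨M, x, y, hM⟩ ⟨N, x', y', hN⟩
        simp only [Subgroup.coe_mul, Matrix.SpecialLinearGroup.coe_mul, hM, hN, Mat_mul]
        simp only [Mat, Matrix.of_apply, Matrix.cons_val', Matrix.cons_val_zero, Matrix.cons_val_one, Matrix.cons_val_fin_one, map_add, map_mul]
        have : (algebraMap F (AlgebraicClosure F) x + algebraMap F (AlgebraicClosure F) y * ω) * (algebraMap F (AlgebraicClosure F) x' + algebraMap F (AlgebraicClosure F) y' * ω)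
            = algebraMap F (AlgebraicClosure F) x * algebraMap F (AlgebraicClosure F) x' + (algebraMap F (AlgebraicClosure F) y * algebraMap F (AlgebraicClosure F) x' + algebraMap F (AlgebraicClosure F) x * algebraMap F (AlgebraicClosure F) y') * ω
              + algebraMap F (AlgebraicClosure F) y * algebraMap F (AlgebraicClosure F) y' * ω ^ 2 := by ring
        rw [this, hω2]
        ring }
  apply isCyclic_of_injective_ringHom f
  rintro ⟨M, x, y, hM⟩ ⟨N, x', y', hN⟩ h
  simp only [f, MonoidHom.coe_mk, OneHom.coe_mk, hM, hN] at h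
  simp only [Mat, Matrix.of_apply, Matrix.cons_val', Matrix.cons_val_zero, Matrix.cons_val_one, Matrix.cons_val_fin_one] at h
  have hyy : y = y' := by
    by_contra hne
    have hne' : y + y' ≠ 0 := fun h0 => hne (CharTwo.add_eq_zero.mp h0)
    have h1 : algebraMap F (AlgebraicClosure F) (y + y') * ω = algebraMap F (AlgebraicClosure F) (x + x') := by
      have h2 : (algebraMap F (AlgebraicClosure F) x + algebraMap F (AlgebraicClosure F) y * ω) + (algebraMap F (AlgebraicClosure F) x' + algebraMap F (AlgebraicClosure F) y' * ω) = 0 :=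
        CharTwo.add_eq_zero.mpr h
      apply CharTwo.add_eq_zero.mp
      rw [map_add, map_add]
      linear_combination h2
    have h3 : ω = algebraMap F (AlgebraicClosure F) ((x + x') / (y + y')) := by
      rw [map_div₀, ← h1, mul_div_cancel_left₀]
      intro h0
      exact hne' ((map_eq_zero _).mp h0)
    apply hd ((x + x') / (y + y'))
    apply (algebraMap F (AlgebraicClosure F)).injective
    rw [map_add, map_add, map_pow, ← h3, map_zero]
    exact hω'
  subst hyy
  have hxx : x = x' := by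
    apply (algebraMap F (AlgebraicClosure F)).injective
    exact add_right_cancel h
  subst hxx
  apply Subtype.ext
  apply Subtype.ext
  rw [hM, hN]

theorem exists_d [Fintype F] [CharP F 2] : ∃ d : F, ∀ x : F, x ^ 2 + x + d ≠ 0 := by
  have hninj : ¬ Function.Injective (fun x : F => x ^ 2 + x) := by
    intro h
    have h1 : (fun x : F => x ^ 2 + x) 0 = (fun x : F => x ^ 2 + x) 1 := by
      simp [CharTwo.add_self_eq_zero]
    exact zero_ne_one (h h1)
  have hnsurj : ¬ Function.Surjective (fun x : F => x ^ 2 + x) := fun h => hninj (Finite.injective_iff_surjective.mpr h)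
  simp only [Function.Surjective, not_forall, not_exists] at hnsurj
  obtain ⟨d, hd⟩ := hnsurj
  exact ⟨d, fun x h => hd x (CharTwo.add_eq_zero.mp h)⟩

/-- the unipotent hom. -/
def unip : Multiplicative F →* Matrix.SpecialLinearGroup (Fin 2) F where
  toFun s := Matrix.SpecialLinearGroup.transvection zero_ne_one (Multiplicative.toAdd s)
  map_one' := Matrix.SpecialLinearGroup.transvection_coeff_zero _
  map_mul' _ _ := Matrix.SpecialLinearGroup.transvection_add _ _ _

theorem unip_injective : Function.Injective (unip (F := F)) := by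
  intro s t h
  have h1 := congrArg (fun M : Matrix.SpecialLinearGroup (Fin 2) F => (M : Matrix (Fin 2) (Fin 2) F) 0 1) h
  simpa [unip, Matrix.SpecialLinearGroup.transvection_coe] using h1

theorem decomp [Fintype F] [CharP F 2] (d : F) (hd : ∀ x : F, x ^ 2 + x + d ≠ 0)
    (g : Matrix.SpecialLinearGroup (Fin 2) F) :
    ∃ a ∈ torus d, ∃ s : Multiplicative F, ∃ c ∈ torus d, g = a * unip s * c := by
  have hani : ∀ x y : F, 1 * x ^ 2 + 1 * x * y + d * y ^ 2 = 0 → x = 0 ∧ y = 0 := by
    intro x y h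
    by_cases hy : y = 0
    · subst hy
      simp at h
      exact ⟨h, rfl⟩
    · exfalso
      apply hd (x / y)
      have : (x / y) ^ 2 + x / y + d = (1 * x ^ 2 + 1 * x * y + d * y ^ 2) / y ^ 2 := by
        field_simp
      rw [this, h, zero_div]
  set g00 := (g : Matrix (Fin 2) (Fin 2) F) 0 0 with h00
  set g01 := (g : Matrix (Fin 2) (Fin 2) F) 0 1 with h01
  set g10 := (g : Matrix (Fin 2) (Fin 2) F) 1 0 with h10
  set g11 := (g : Matrix (Fin 2) (Fin 2) F) 1 1 with h11
  have hdet : g00 * g11 + g01 * g10 = 1 := by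
    have := g.2
    rw [Matrix.det_fin_two, CharTwo.sub_eq_add] at this
    exact this
  set P := (1 * g00 ^ 2 + 1 * g00 * g10 + d * g10 ^ 2) + 1 with hP
  set R := (1 * g01 ^ 2 + 1 * g01 * g11 + d * g11 ^ 2) + d with hR
  have key : ∀ x y : F, (1 * (g00 * x + g01 * y) ^ 2 + 1 * (g00 * x + g01 * y) * (g10 * x + g11 * y) + d * (g10 * x + g11 * y) ^ 2)
      = (1 * x ^ 2 + 1 * x * y + d * y ^ 2) + (P * x ^ 2 + R * y ^ 2) := by
    intro x y
    have h2 : (2 : F) = 0 := CharTwo.two_eq_zero
    rw [hP, hR]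
    linear_combination (x * y) * hdet + (g00 * g01 * x * y + d * g10 * g11 * x * y - x ^ 2 - d * y ^ 2) * h2
  -- a nonzero isotropic vector of the additive form
  obtain ⟨x0, y0, hne, hxy0⟩ : ∃ x0 y0 : F, ¬ (x0 = 0 ∧ y0 = 0) ∧ P * x0 ^ 2 + R * y0 ^ 2 = 0 := by
    by_cases hPR : P = 0 ∧ R = 0
    · exact ⟨1, 0, by simp, by simp [hPR.1]⟩
    · obtain ⟨a, ha⟩ := exists_sq R
      obtain ⟨b, hb⟩ := exists_sq P
      refine ⟨a, b, ?_, ?_⟩
      · rintro ⟨rfl, rfl⟩
        apply hPR
        constructor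
        · rw [← hb]; simp
        · rw [← ha]; simp
      · rw [ha, hb, mul_comm, CharTwo.add_self_eq_zero]
  have hc : 1 * x0 ^ 2 + 1 * x0 * y0 + d * y0 ^ 2 ≠ 0 := fun h => hne (hani _ _ h)
  obtain ⟨t, ht⟩ := exists_sq (1 * x0 ^ 2 + 1 * x0 * y0 + d * y0 ^ 2)⁻¹
  set x := t * x0 with hx
  set y := t * y0 with hy
  have hQ1 : 1 * x ^ 2 + 1 * x * y + d * y ^ 2 = 1 := by
    have : 1 * x ^ 2 + 1 * x * y + d * y ^ 2 = t ^ 2 * (1 * x0 ^ 2 + 1 * x0 * y0 + d * y0 ^ 2) := by
      rw [hx, hy]; ring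
    rw [this, ht, inv_mul_cancel₀ hc]
  have hPR0 : P * x ^ 2 + R * y ^ 2 = 0 := by
    have : P * x ^ 2 + R * y ^ 2 = t ^ 2 * (P * x0 ^ 2 + R * y0 ^ 2) := by rw [hx, hy]; ring
    rw [this, hxy0, mul_zero]
  have hQ2 : 1 * (g00 * x + g01 * y) ^ 2 + 1 * (g00 * x + g01 * y) * (g10 * x + g11 * y) + d * (g10 * x + g11 * y) ^ 2 = 1 := by
    rw [key, hQ1, hPR0, add_zero]
  set c' := toTorus d ⟨(x, y), hQ1⟩ with hc'
  set a := toTorus d ⟨(g00 * x + g01 * y, g10 * x + g11 * y), hQ2⟩ with ha
  set b := a⁻¹ * (g * c') with hb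
  have hcol : ∀ k : Fin 2, ((g * c' : Matrix.SpecialLinearGroup (Fin 2) F) : Matrix (Fin 2) (Fin 2) F) k 0 = (a : Matrix (Fin 2) (Fin 2) F) k 0 := by
    intro k
    rw [Matrix.SpecialLinearGroup.coe_mul, Matrix.mul_apply, Fin.sum_univ_two]
    fin_cases k <;> simp [hc', ha, toTorus, Mat, h00, h01, h10, h11]
  have hbcol : ∀ i : Fin 2, (b : Matrix (Fin 2) (Fin 2) F) i 0 = (1 : Matrix (Fin 2) (Fin 2) F) i 0 := by
    intro i
    have h1 : (1 : Matrix (Fin 2) (Fin 2) F) = ((a⁻¹ * a : Matrix.SpecialLinearGroup (Fin 2) F) : Matrix (Fin 2) (Fin 2) F) := by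
      rw [inv_mul_cancel]; rfl
    rw [h1, hb, Matrix.SpecialLinearGroup.coe_mul, Matrix.SpecialLinearGroup.coe_mul a⁻¹ a, Matrix.mul_apply, Matrix.mul_apply]
    simp only [hcol]
  have hb00 : (b : Matrix (Fin 2) (Fin 2) F) 0 0 = 1 := by simpa using hbcol 0
  have hb10 : (b : Matrix (Fin 2) (Fin 2) F) 1 0 = 0 := by simpa using hbcol 1
  have hb11 : (b : Matrix (Fin 2) (Fin 2) F) 1 1 = 1 := by
    have := b.2
    rw [Matrix.det_fin_two, hb00, hb10] at this
    simpa using this
  refine ⟨a, toTorus_mem d _, Multiplicative.ofAdd ((b : Matrix (Fin 2) (Fin 2) F) 0 1), c'⁻¹, (torus d).inv_mem (toTorus_mem d _), ?_⟩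
  have hbu : unip (Multiplicative.ofAdd ((b : Matrix (Fin 2) (Fin 2) F) 0 1)) = b := by
    apply Matrix.SpecialLinearGroup.ext
    intro i j
    fin_cases i <;> fin_cases j <;> simp [unip, Matrix.SpecialLinearGroup.transvection_coe, hb00, hb10, hb11]
  rw [hbu, hb]
  group

end aux

/-- Let F be a finite field with q = 2^t ≥ 4 elements and L = PSL(2,F). Then L has a cyclic subgroup A of order q + 1 and an elementary abelian 2-subgroup B of order q such that L = ABA: every element of L is a product a·b·a' with a, a' ∈ A and b ∈ B. -/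
theorem result {F : Type*} [Field F] [Fintype F]
    (h2 : 2 ∣ Fintype.card F) (h4 : 4 ≤ Fintype.card F) :
    ∃ A B : Subgroup (Matrix.ProjectiveSpecialLinearGroup (Fin 2) F),
      IsCyclic A ∧ Nat.card A = Fintype.card F + 1 ∧ IsMulCommutative B ∧ (∀ b ∈ B, b * b = 1) ∧
        Nat.card B = Fintype.card F ∧
        ∀ g : Matrix.ProjectiveSpecialLinearGroup (Fin 2) F, ∃ a ∈ A, ∃ b ∈ B, ∃ c ∈ A, g = a * b * c := by
  classical
  have : CharP F 2 := charTwo h2
  obtain ⟨d, hd⟩ := exists_d (F := F)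
  let π := QuotientGroup.mk' (Subgroup.center (Matrix.SpecialLinearGroup (Fin 2) F))
  have hπ : Function.Injective π := mk_injective
  refine ⟨(torus d).map π, (π.comp unip).range, ?_, ?_, ?_, ?_, ?_, ?_⟩
  · have := isCyclic_torus d hd
    exact isCyclic_of_surjective _ (π.subgroupMap_surjective (torus d))
  · rw [Subgroup.card_map_of_injective hπ, card_torus d hd]
  · infer_instance
  · rintro _ ⟨s, rfl⟩
    rw [← map_mul]
    have : s * s = 1 := by
      change Multiplicative.ofAdd (Multiplicative.toAdd s + Multiplicative.toAdd s) = 1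
      rw [CharTwo.add_self_eq_zero]; rfl
    rw [this, map_one]
  · rw [← Nat.card_congr (MonoidHom.ofInjective (f := π.comp unip) (hπ.comp unip_injective)).toEquiv]
    simp [Nat.card_eq_fintype_card]
  · intro g
    obtain ⟨g', rfl⟩ := QuotientGroup.mk'_surjective _ g
    obtain ⟨a, ha, s, c, hc, hg⟩ := decomp d hd g'
    refine ⟨π a, ⟨a, ha, rfl⟩, π (unip s), ⟨s, rfl⟩, π c, ⟨c, hc, rfl⟩, ?_⟩
    rw [hg, map_mul, map_mul]

end Cfsg.Agent.S2503
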