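import Cfsg.Statements.S2507
import Cfsg.Agent.Lib.Helper47SL2Even
import Cfsg.Agent.S0242
import Cfsg.Agent.S2503
import Mathlib

set_option autoImplicit false
open Cfsg

namespace Cfsg.Agent.S2507


open Cfsg.Agent.Lib.Helper47SL2Even

section aux
variable {F : Type*} [Field F]

/-- the centraliser of a non-scalar `2 × 2` matrix is `F[g]`. -/
theorem exists_of_commute (g h : Matrix (Fin 2) (Fin 2) F) (hg : ¬ ∃ c : F, g = c • (1 : Matrix (Fin 2) (Fin 2) F))
    (hc : h * g = g * h) : ∃ x y : F, h = x • (1 : Matrix (Fin 2) (Fin 2) F) + y • g := by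
  have e00 := congrFun (congrFun hc 0) 0
  have e01 := congrFun (congrFun hc 0) 1
  have e10 := congrFun (congrFun hc 1) 0
  have e11 := congrFun (congrFun hc 1) 1
  simp only [Matrix.mul_apply, Fin.sum_univ_two] at e00 e01 e10 e11
  by_cases hb : g 0 1 = 0
  · by_cases hc' : g 1 0 = 0
    · have hae : g 0 0 - g 1 1 ≠ 0 := by
        intro h0
        apply hg
        refine ⟨g 0 0, ?_⟩
        ext i j
        fin_cases i <;> fin_cases j <;> simp [hb, hc']
        exact (sub_eq_zero.mp h0).symm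
      refine ⟨h 0 0 - (h 0 0 - h 1 1) / (g 0 0 - g 1 1) * g 0 0, (h 0 0 - h 1 1) / (g 0 0 - g 1 1), ?_⟩
      have h01 : h 0 1 = 0 := by
        rw [hb] at e01
        have : h 0 1 * (g 0 0 - g 1 1) = 0 := by linear_combination -e01
        exact (mul_eq_zero.mp this).resolve_right hae
      have h10 : h 1 0 = 0 := by
        rw [hc'] at e10
        have : h 1 0 * (g 0 0 - g 1 1) = 0 := by linear_combination e10
        exact (mul_eq_zero.mp this).resolve_right hae
      ext i j
      fin_cases i <;> fin_cases j <;> simp [hb, hc', h01, h10]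
      field_simp
      ring
    · refine ⟨h 0 0 - h 1 0 / g 1 0 * g 0 0, h 1 0 / g 1 0, ?_⟩
      ext i j
      fin_cases i <;> fin_cases j <;> simp <;> field_simp
      · linear_combination e00
      · linear_combination e10
  · refine ⟨h 0 0 - h 0 1 / g 0 1 * g 0 0, h 0 1 / g 0 1, ?_⟩
    ext i j
    fin_cases i <;> fin_cases j <;> simp <;> field_simp
    · linear_combination -e00
    · linear_combination -e01

theorem det_formula (g : Matrix.SpecialLinearGroup (Fin 2) F) (x y : F) :
    (x • (1 : Matrix (Fin 2) (Fin 2) F) + y • (g : Matrix (Fin 2) (Fin 2) F)).det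
      = 1 * x ^ 2 + ((g : Matrix (Fin 2) (Fin 2) F) 0 0 + (g : Matrix (Fin 2) (Fin 2) F) 1 1) * x * y + 1 * y ^ 2 := by
  have hdet := g.2
  rw [Matrix.det_fin_two] at hdet
  rw [Matrix.det_fin_two]
  simp
  linear_combination y ^ 2 * hdet

/-- constructor with explicit type. -/
def mkSL (M : Matrix (Fin 2) (Fin 2) F) (h : M.det = 1) : Matrix.SpecialLinearGroup (Fin 2) F := ⟨M, h⟩

theorem mkSL_coe (M : Matrix (Fin 2) (Fin 2) F) (h : M.det = 1) : (mkSL M h : Matrix (Fin 2) (Fin 2) F) = M := rfl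

theorem card_centralizer [Finite F] (g : Matrix.SpecialLinearGroup (Fin 2) F)
    (hg : ¬ ∃ c : F, (g : Matrix (Fin 2) (Fin 2) F) = c • (1 : Matrix (Fin 2) (Fin 2) F)) :
    Nat.card (Subgroup.centralizer ({g} : Set (Matrix.SpecialLinearGroup (Fin 2) F))) =
      Nat.card {p : F × F // 1 * p.1 ^ 2 + ((g : Matrix (Fin 2) (Fin 2) F) 0 0 + (g : Matrix (Fin 2) (Fin 2) F) 1 1) * p.1 * p.2 + 1 * p.2 ^ 2 = 1} := by
  symm
  let φ : {p : F × F // 1 * p.1 ^ 2 + ((g : Matrix (Fin 2) (Fin 2) F) 0 0 + (g : Matrix (Fin 2) (Fin 2) F) 1 1) * p.1 * p.2 + 1 * p.2 ^ 2 = 1} →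
      Subgroup.centralizer ({g} : Set (Matrix.SpecialLinearGroup (Fin 2) F)) := fun p =>
    ⟨mkSL (p.1.1 • (1 : Matrix (Fin 2) (Fin 2) F) + p.1.2 • (g : Matrix (Fin 2) (Fin 2) F)) (by rw [det_formula]; exact p.2), by
      rw [Subgroup.mem_centralizer_singleton_iff]
      apply Subtype.ext
      simp [Matrix.SpecialLinearGroup.coe_mul, mkSL_coe, add_mul, mul_add]⟩
  apply Nat.card_eq_of_bijective φ
  constructor
  · rintro ⟨⟨x, y⟩, hp⟩ ⟨⟨x', y'⟩, hp'⟩ h
    have h1 : x • (1 : Matrix (Fin 2) (Fin 2) F) + y • (g : Matrix (Fin 2) (Fin 2) F) = x' • (1 : Matrix (Fin 2) (Fin 2) F) + y' • (g : Matrix (Fin 2) (Fin 2) F) := by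
      have := congrArg (fun z : Subgroup.centralizer ({g} : Set (Matrix.SpecialLinearGroup (Fin 2) F)) => ((z : Matrix.SpecialLinearGroup (Fin 2) F) : Matrix (Fin 2) (Fin 2) F)) h
      exact this
    have hy : y = y' := by
      by_contra hne
      apply hg
      have hne' : y - y' ≠ 0 := sub_ne_zero.mpr hne
      refine ⟨(x' - x) / (y - y'), ?_⟩
      have h2 : (y - y') • (g : Matrix (Fin 2) (Fin 2) F) = (x' - x) • (1 : Matrix (Fin 2) (Fin 2) F) := by
        rw [sub_smul, sub_smul, sub_eq_sub_iff_add_eq_add, add_comm]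
        exact h1
      calc (g : Matrix (Fin 2) (Fin 2) F) = (y - y')⁻¹ • ((y - y') • (g : Matrix (Fin 2) (Fin 2) F)) := by
            rw [smul_smul, inv_mul_cancel₀ hne', one_smul]
        _ = ((x' - x) / (y - y')) • (1 : Matrix (Fin 2) (Fin 2) F) := by
            rw [h2, smul_smul]; congr 1; field_simp
    subst hy
    have hx : x = x' := by
      have h3 : x • (1 : Matrix (Fin 2) (Fin 2) F) = x' • (1 : Matrix (Fin 2) (Fin 2) F) := add_right_cancel h1
      have h2 := congrFun (congrFun h3 0) 0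
      simpa using h2
    subst hx
    rfl
  · rintro ⟨h, hh⟩
    rw [Subgroup.mem_centralizer_singleton_iff] at hh
    have hh' : (h : Matrix (Fin 2) (Fin 2) F) * (g : Matrix (Fin 2) (Fin 2) F) = (g : Matrix (Fin 2) (Fin 2) F) * (h : Matrix (Fin 2) (Fin 2) F) := by
      rw [← Matrix.SpecialLinearGroup.coe_mul, ← Matrix.SpecialLinearGroup.coe_mul, hh]
    obtain ⟨x, y, hxy⟩ := exists_of_commute _ _ hg hh'
    have hdet : 1 * x ^ 2 + ((g : Matrix (Fin 2) (Fin 2) F) 0 0 + (g : Matrix (Fin 2) (Fin 2) F) 1 1) * x * y + 1 * y ^ 2 = 1 := by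
      rw [← det_formula, ← hxy]; exact h.2
    refine ⟨⟨(x, y), hdet⟩, ?_⟩
    apply Subtype.ext
    apply Subtype.ext
    exact hxy.symm

/-- trace zero: `q` solutions -/
theorem card_conic_zero [Fintype F] [CharP F 2] :
    Nat.card {p : F × F // 1 * p.1 ^ 2 + (0 : F) * p.1 * p.2 + 1 * p.2 ^ 2 = 1} = Fintype.card F := by
  rw [← Nat.card_eq_fintype_card]
  symm
  apply Nat.card_eq_of_bijective (fun x : F => (⟨(x, x + 1), by
    simp only [CharTwo.add_sq]
    have := CharTwo.add_self_eq_zero (x ^ 2)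
    linear_combination this⟩ : {p : F × F // 1 * p.1 ^ 2 + (0 : F) * p.1 * p.2 + 1 * p.2 ^ 2 = 1}))
  constructor
  · intro x x' h
    exact congrArg (fun p => p.1.1) h
  · rintro ⟨⟨x, y⟩, hp⟩
    refine ⟨x, ?_⟩
    apply Subtype.ext
    simp only at hp ⊢
    congr 1
    have h1 : (x + y) ^ 2 = 1 ^ 2 := by
      rw [CharTwo.add_sq]; linear_combination hp
    have h2 := sq_inj h1
    have h3 := CharTwo.add_self_eq_zero x
    linear_combination h3 - h2

/-- split case: `q - 1` solutions -/
theorem card_conic_split [Fintype F] [CharP F 2] (t l : F) (ht : t ≠ 0) (hl : l ^ 2 + t * l + 1 = 0) :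
    Nat.card {p : F × F // 1 * p.1 ^ 2 + t * p.1 * p.2 + 1 * p.2 ^ 2 = 1} = Fintype.card F - 1 := by
  classical
  rw [← Fintype.card_units, ← Nat.card_eq_fintype_card]
  have h2 : (2 : F) = 0 := CharTwo.two_eq_zero
  -- factorisation
  have hfac : ∀ x y : F, 1 * x ^ 2 + t * x * y + 1 * y ^ 2 = (x + l * y) * (x + (l + t) * y) := by
    intro x y
    linear_combination (-y ^ 2) * hl + (y ^ 2 - l * x * y) * h2
  have e1 : ∀ u : F, (u + l * ((u + u⁻¹) / t)) + l * ((u + u⁻¹) / t) = u := by
    intro u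
    linear_combination (l * ((u + u⁻¹) / t)) * h2
  have e2 : ∀ u : F, (u + l * ((u + u⁻¹) / t)) + (l + t) * ((u + u⁻¹) / t) = u⁻¹ := by
    intro u
    have : t * ((u + u⁻¹) / t) = u + u⁻¹ := by field_simp
    linear_combination (l * ((u + u⁻¹) / t) + u) * h2 + this
  symm
  apply Nat.card_eq_of_bijective (fun u : Fˣ => (⟨((u : F) + l * (((u : F) + (u : F)⁻¹) / t), ((u : F) + (u : F)⁻¹) / t), by
    rw [hfac]
    simp only
    rw [e1, e2, mul_inv_cancel₀ u.ne_zero]⟩ : {p : F × F // 1 * p.1 ^ 2 + t * p.1 * p.2 + 1 * p.2 ^ 2 = 1}))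
  constructor
  · intro u u' h
    have h1 := congrArg (fun p => p.1.1 + l * p.1.2) h
    simp only [e1] at h1
    exact Units.ext h1
  · rintro ⟨⟨x, y⟩, hp⟩
    simp only at hp
    rw [hfac] at hp
    have hu0 : x + l * y ≠ 0 := left_ne_zero_of_mul_eq_one hp
    have hinv : (x + l * y)⁻¹ = x + (l + t) * y := (eq_inv_of_mul_eq_one_right hp).symm
    refine ⟨Units.mk0 (x + l * y) hu0, ?_⟩
    apply Subtype.ext
    simp only [Units.val_mk0, hinv]
    have hy : (x + l * y + (x + (l + t) * y)) / t = y := by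
      field_simp
      linear_combination (x + l * y) * h2
    rw [hy]
    congr 1
    linear_combination (l * y) * h2

theorem card_SL2 [Fintype F] : Nat.card (Matrix.SpecialLinearGroup (Fin 2) F) =
    Fintype.card F * (Fintype.card F - 1) * (Fintype.card F + 1) := by
  have h := Cfsg.Agent.S0242.result (F := F) rfl 2 (by norm_num)
  have hq : 2 ≤ Fintype.card F := Fintype.one_lt_card
  obtain ⟨m, hm⟩ : ∃ m, Fintype.card F = m + 2 := ⟨Fintype.card F - 2, by omega⟩
  rw [hm] at h ⊢
  rw [Fin.prod_univ_two] at h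
  simp only [Fin.val_zero, Fin.val_one, pow_zero, pow_one] at h
  have e1 : (m + 2) ^ 2 - 1 = (m + 1) * (m + 3) := Nat.sub_eq_of_eq_add (by ring)
  have e2 : (m + 2) ^ 2 - (m + 2) = (m + 2) * (m + 1) := Nat.sub_eq_of_eq_add (by ring)
  have e3 : m + 2 - 1 = m + 1 := by omega
  rw [e1, e2, e3] at h
  rw [e3]
  have : (m + 1) * Nat.card (Matrix.SpecialLinearGroup (Fin 2) F) = (m + 1) * ((m + 2) * (m + 1) * (m + 2 + 1)) := by
    rw [h]; ring
  exact Nat.eq_of_mul_eq_mul_left (by omega) this

theorem arith (q c i S : ℕ) (hq : 2 ≤ q) (hS : S = q * (q - 1) * (q + 1)) (h : c * i = S) :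
    (c = q → i = q ^ 2 - 1) ∧ (c = q - 1 → i = q * (q + 1)) ∧ (c = q + 1 → i = q * (q - 1)) := by
  obtain ⟨m, rfl⟩ : ∃ m, q = m + 2 := ⟨q - 2, by omega⟩
  have e1 : (m + 2) ^ 2 - 1 = (m + 1) * (m + 3) := Nat.sub_eq_of_eq_add (by ring)
  have e3 : m + 2 - 1 = m + 1 := by omega
  rw [e1, e3]
  rw [e3] at hS
  subst hS
  refine ⟨?_, ?_, ?_⟩
  · rintro rfl
    exact Nat.eq_of_mul_eq_mul_left (by omega : 0 < m + 2) (by rw [h]; ring)
  · rintro rfl
    exact Nat.eq_of_mul_eq_mul_left (by omega : 0 < m + 1) (by rw [h]; ring)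
  · rintro rfl
    exact Nat.eq_of_mul_eq_mul_left (by omega : 0 < m + 2 + 1) (by rw [h]; ring)

theorem nonscalar [CharP F 2] (g : Matrix.SpecialLinearGroup (Fin 2) F) (hg : g ≠ 1) :
    ¬ ∃ c : F, (g : Matrix (Fin 2) (Fin 2) F) = c • (1 : Matrix (Fin 2) (Fin 2) F) := by
  rintro ⟨c, hc⟩
  apply hg
  have hdet := g.2
  rw [hc] at hdet
  simp at hdet
  have hc1 : c = 1 := sq_inj (by simpa using hdet)
  subst hc1
  apply Subtype.ext
  rw [hc]
  simp

theorem index_of [Fintype F] [CharP F 2] (g : Matrix.SpecialLinearGroup (Fin 2) F) (hg : g ≠ 1) (t : F)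
    (ht : (g : Matrix (Fin 2) (Fin 2) F) 0 0 + (g : Matrix (Fin 2) (Fin 2) F) 1 1 = t) :
    (t = 0 → (Subgroup.centralizer ({g} : Set (Matrix.SpecialLinearGroup (Fin 2) F))).index = Fintype.card F ^ 2 - 1) ∧
    (t ≠ 0 → (∃ l : F, l ^ 2 + t * l + 1 = 0) →
      (Subgroup.centralizer ({g} : Set (Matrix.SpecialLinearGroup (Fin 2) F))).index = Fintype.card F * (Fintype.card F + 1)) ∧
    ((¬ ∃ l : F, l ^ 2 + t * l + 1 = 0) →
      (Subgroup.centralizer ({g} : Set (Matrix.SpecialLinearGroup (Fin 2) F))).index = Fintype.card F * (Fintype.card F - 1)) := by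
  have hc := card_centralizer g (nonscalar g hg)
  rw [ht] at hc
  have hq : 2 ≤ Fintype.card F := Fintype.one_lt_card
  have har := arith (Fintype.card F) _ _ _ hq card_SL2
    (Subgroup.card_mul_index (Subgroup.centralizer ({g} : Set (Matrix.SpecialLinearGroup (Fin 2) F))))
  refine ⟨?_, ?_, ?_⟩
  · rintro rfl
    exact har.1 (hc.trans card_conic_zero)
  · rintro ht0 ⟨l, hl⟩
    exact har.2.1 (hc.trans (card_conic_split t l ht0 hl))
  · intro hno
    apply har.2.2
    rw [hc]
    apply card_conic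
    intro x y h
    by_cases hy : y = 0
    · subst hy
      simp at h
      exact ⟨h, rfl⟩
    · exfalso
      apply hno
      refine ⟨x / y, ?_⟩
      have : (x / y) ^ 2 + t * (x / y) + 1 = (1 * x ^ 2 + t * x * y + 1 * y ^ 2) / y ^ 2 := by
        field_simp
      rw [this, h, zero_div]

theorem index_transfer {G H : Type*} [Group G] [Group H] (π : G →* H) (hinj : Function.Injective π)
    (hsurj : Function.Surjective π) (g : G) :
    (Subgroup.centralizer ({π g} : Set H)).index = (Subgroup.centralizer ({g} : Set G)).index := by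
  rw [← Subgroup.index_comap_of_surjective (H := Subgroup.centralizer ({π g} : Set H)) hsurj]
  congr 1
  ext x
  rw [Subgroup.mem_comap, Subgroup.mem_centralizer_singleton_iff, Subgroup.mem_centralizer_singleton_iff,
    ← map_mul, ← map_mul, hinj.eq_iff]

end aux

/-- Let F be a finite field with q = 2^f ≥ 4 elements. The conjugacy class sizes of PSL(2,F) are exactly 1, q(q − 1), q² − 1 and q(q + 1). -/
theorem result {F : Type*} [Field F] [Fintype F]
    (h2 : 2 ∣ Fintype.card F) (h4 : 4 ≤ Fintype.card F) :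
    Set.range (fun g : (Matrix.ProjectiveSpecialLinearGroup (Fin 2) F) => (Subgroup.centralizer ({g} : Set (Matrix.ProjectiveSpecialLinearGroup (Fin 2) F))).index) =
      {1, Fintype.card F * (Fintype.card F - 1), Fintype.card F ^ 2 - 1, Fintype.card F * (Fintype.card F + 1)} := by
  classical
  have : CharP F 2 := charTwo h2
  have h20 : (2 : F) = 0 := CharTwo.two_eq_zero
  let π := QuotientGroup.mk' (Subgroup.center (Matrix.SpecialLinearGroup (Fin 2) F))
  have hπ : Function.Injective π := mk_injective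
  have hπs : Function.Surjective π := QuotientGroup.mk'_surjective _
  have htr := index_transfer π hπ hπs
  apply Set.Subset.antisymm
  · rintro _ ⟨g, rfl⟩
    obtain ⟨g, rfl⟩ := hπs g
    simp only [htr]
    by_cases hg : g = 1
    · left
      subst hg
      rw [Subgroup.index_eq_one, Subgroup.centralizer_eq_top_iff_subset]
      simp
    · have h := index_of g hg _ rfl
      by_cases ht : (g : Matrix (Fin 2) (Fin 2) F) 0 0 + (g : Matrix (Fin 2) (Fin 2) F) 1 1 = 0
      · right; right; left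
        exact h.1 ht
      · by_cases hl : ∃ l : F, l ^ 2 + ((g : Matrix (Fin 2) (Fin 2) F) 0 0 + (g : Matrix (Fin 2) (Fin 2) F) 1 1) * l + 1 = 0
        · right; right; right
          exact h.2.1 ht hl
        · right; left
          exact h.2.2 hl
  · rintro n (rfl | rfl | rfl | rfl)
    · refine ⟨1, ?_⟩
      simp only
      rw [Subgroup.index_eq_one, Subgroup.centralizer_eq_top_iff_subset]
      simp
    · -- nonsplit
      obtain ⟨d, hd⟩ := Cfsg.Agent.S2503.exists_d (F := F)
      have hd0 : d ≠ 0 := by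
        intro h0
        apply hd 0
        simp [h0]
      obtain ⟨t, ht⟩ := exists_sq d⁻¹
      have ht0 : t ≠ 0 := by
        rintro rfl
        simp at ht
        exact hd0 ht.symm
      let g := mkSL !![0, 1; 1, t] (by
        rw [Matrix.det_fin_two_of]
        linear_combination -h20)
      have hg : g ≠ 1 := by
        intro h
        have := congrArg (fun M : Matrix.SpecialLinearGroup (Fin 2) F => (M : Matrix (Fin 2) (Fin 2) F) 0 1) h
        simp [g, mkSL_coe] at this
      have h := index_of g hg t (by simp [g, mkSL_coe])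
      refine ⟨π g, ?_⟩
      simp only [htr]
      apply h.2.2
      rintro ⟨l, hl⟩
      apply hd (l / t)
      have : (l / t) ^ 2 + l / t + d = (l ^ 2 + t * l + d * t ^ 2) / t ^ 2 := by
        field_simp
      rw [this, ht, mul_inv_cancel₀ hd0, hl, zero_div]
    · -- unipotent
      let g := mkSL (!![1, 1; 0, 1] : Matrix (Fin 2) (Fin 2) F) (by simp [Matrix.det_fin_two_of])
      have hg : g ≠ 1 := by
        intro h
        have := congrArg (fun M : Matrix.SpecialLinearGroup (Fin 2) F => (M : Matrix (Fin 2) (Fin 2) F) 0 1) h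
        simp [g, mkSL_coe] at this
      have h := index_of g hg 0 (by simp [g, mkSL_coe]; linear_combination h20)
      refine ⟨π g, ?_⟩
      simp only [htr]
      exact h.1 rfl
    · -- split
      obtain ⟨a, ha⟩ : ∃ a : F, a ∉ ({0, 1} : Finset F) := by
        by_contra hcon
        push Not at hcon
        have h1 : (Finset.univ : Finset F) ⊆ {0, 1} := fun x _ => hcon x
        have h2' := Finset.card_le_card h1
        have h3' : ({0, 1} : Finset F).card ≤ 2 := Finset.card_le_two
        rw [Finset.card_univ] at h2'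
        omega
      simp only [Finset.mem_insert, Finset.mem_singleton, not_or] at ha
      obtain ⟨ha0, ha1⟩ := ha
      let g := mkSL !![a, 0; 0, a⁻¹] (by simp [Matrix.det_fin_two_of, ha0])
      have hg : g ≠ 1 := by
        intro h
        have := congrArg (fun M : Matrix.SpecialLinearGroup (Fin 2) F => (M : Matrix (Fin 2) (Fin 2) F) 0 0) h
        simp [g, mkSL_coe] at this
        exact ha1 this
      have h := index_of g hg (a + a⁻¹) (by simp [g, mkSL_coe])
      refine ⟨π g, ?_⟩
      simp only [htr]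
      apply h.2.1
      · intro h0
        apply ha1
        have h1 : a = a⁻¹ := CharTwo.add_eq_zero.mp h0
        apply sq_inj
        rw [one_pow, sq]
        nth_rewrite 2 [h1]
        exact mul_inv_cancel₀ ha0
      · refine ⟨a, ?_⟩
        have : a⁻¹ * a = 1 := inv_mul_cancel₀ ha0
        linear_combination (a ^ 2 + 1) * h20 + this

end Cfsg.Agent.S2507
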