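import Cfsg.Statements.S2508
import Cfsg.Agent.S2507
import Mathlib

set_option autoImplicit false
open Cfsg

namespace Cfsg.Agent.S2508


open Cfsg.Agent.S2507

section aux
variable {F : Type*} [Field F]

/-- anisotropic conic through `(1,0)`: `q + 1` points (characteristic not two). -/
theorem card_conic_aniso [Fintype F] (h2 : (2 : F) ≠ 0) (t : F) (hno : ¬ ∃ l : F, l ^ 2 + t * l + 1 = 0) :
    Nat.card {p : F × F // 1 * p.1 ^ 2 + t * p.1 * p.2 + 1 * p.2 ^ 2 = 1} = Fintype.card F + 1 := by
  classical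
  have hD : ∀ m : F, 1 + t * m + m ^ 2 ≠ 0 := by
    intro m h
    exact hno ⟨m, by linear_combination h⟩
  let φ : Option F → {p : F × F // 1 * p.1 ^ 2 + t * p.1 * p.2 + 1 * p.2 ^ 2 = 1} := fun o =>
    match o with
    | none => ⟨(1, -t), by ring⟩
    | some m => ⟨(1 + -(2 + t * m) / (1 + t * m + m ^ 2), -(2 + t * m) / (1 + t * m + m ^ 2) * m), by
        have := hD m
        simp only
        field_simp
        ring⟩
  have hbij : Function.Bijective φ := by
    constructor
    · intro o o' h
      rcases o with _ | m <;> rcases o' with _ | m'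
      · rfl
      · exfalso
        have h1 := congrArg (fun p => p.1.1) h
        have h3 := congrArg (fun p => p.1.2) h
        simp only [φ] at h1 h3
        have hl : -(2 + t * m') / (1 + t * m' + m' ^ 2) = 0 := by linear_combination -h1
        rw [hl] at h3
        have ht : t = 0 := by linear_combination -h3
        rw [div_eq_zero_iff] at hl
        rcases hl with hl | hl
        · rw [ht] at hl
          apply h2
          linear_combination -hl
        · exact hD m' hl
      · exfalso
        have h1 := congrArg (fun p => p.1.1) h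
        have h3 := congrArg (fun p => p.1.2) h
        simp only [φ] at h1 h3
        have hl : -(2 + t * m) / (1 + t * m + m ^ 2) = 0 := by linear_combination h1
        rw [hl] at h3
        have ht : t = 0 := by linear_combination h3
        rw [div_eq_zero_iff] at hl
        rcases hl with hl | hl
        · rw [ht] at hl
          apply h2
          linear_combination -hl
        · exact hD m hl
      · have h1 := congrArg (fun p => p.1.1) h
        have h3 := congrArg (fun p => p.1.2) h
        simp only [φ] at h1 h3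
        have hl : -(2 + t * m) / (1 + t * m + m ^ 2) = -(2 + t * m') / (1 + t * m' + m' ^ 2) := add_left_cancel h1
        by_cases h0 : -(2 + t * m') / (1 + t * m' + m' ^ 2) = 0
        · have h0' := hl.trans h0
          rw [div_eq_zero_iff] at h0 h0'
          have e1 : -(2 + t * m') = 0 := h0.resolve_right (hD m')
          have e2 : -(2 + t * m) = 0 := h0'.resolve_right (hD m)
          have ht : t ≠ 0 := by
            rintro rfl
            apply h2
            linear_combination -e1
          have : t * (m - m') = 0 := by linear_combination e1 - e2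
          have := (mul_eq_zero.mp this).resolve_left ht
          rw [sub_eq_zero.mp this]
        · rw [hl] at h3
          rw [mul_left_cancel₀ h0 h3]
    · rintro ⟨⟨x, y⟩, hxy⟩
      simp only at hxy
      by_cases hx : x = 1
      · subst hx
        have hy : y * (t + y) = 0 := by linear_combination hxy
        rcases mul_eq_zero.mp hy with hy | hy
        · subst hy
          by_cases ht : t = 0
          · refine ⟨none, ?_⟩
            apply Subtype.ext
            simp [φ, ht]
          · refine ⟨some (-2 / t), ?_⟩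
            apply Subtype.ext
            have : 2 + t * (-2 / t) = 0 := by field_simp; ring
            simp [φ, this]
        · refine ⟨none, ?_⟩
          apply Subtype.ext
          simp only [φ]
          congr 1
          linear_combination -hy
      · have hx' : x - 1 ≠ 0 := sub_ne_zero.mpr hx
        refine ⟨some (y / (x - 1)), ?_⟩
        apply Subtype.ext
        simp only [φ]
        have hDm := hD (y / (x - 1))
        have hnum : 1 + t * (y / (x - 1)) + (y / (x - 1)) ^ 2 = (2 - 2 * x - t * y) / (x - 1) ^ 2 := by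
          field_simp
          linear_combination hxy
        have hne : 2 - 2 * x - t * y ≠ 0 := by
          intro h0
          rw [hnum, h0, zero_div] at hDm
          exact hDm rfl
        have hl : -(2 + t * (y / (x - 1))) / (1 + t * (y / (x - 1)) + (y / (x - 1)) ^ 2) = x - 1 := by
          rw [hnum]
          have e : -(2 + t * (y / (x - 1))) = (2 - 2 * x - t * y) / (x - 1) := by
            field_simp
            ring
          rw [e]
          generalize 2 - 2 * x - t * y = N at hne
          field_simp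
        rw [hl]
        congr 1
        · ring
        · field_simp
  rw [← Nat.card_eq_of_bijective φ hbij]
  simp [Nat.card_eq_fintype_card]

/-- split case: `q - 1` solutions -/
theorem card_conic_split' [Fintype F] (t l : F) (hl : l ^ 2 + t * l + 1 = 0) (hl1 : l ^ 2 ≠ 1) :
    Nat.card {p : F × F // 1 * p.1 ^ 2 + t * p.1 * p.2 + 1 * p.2 ^ 2 = 1} = Fintype.card F - 1 := by
  classical
  rw [← Fintype.card_units, ← Nat.card_eq_fintype_card]
  have hl0 : l ≠ 0 := by
    rintro rfl
    simp at hl
  have hll : l⁻¹ - l ≠ 0 := by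
    intro h
    apply hl1
    have : l⁻¹ = l := sub_eq_zero.mp h
    rw [sq]
    nth_rewrite 1 [← this]
    exact inv_mul_cancel₀ hl0
  have hfac : ∀ x y : F, 1 * x ^ 2 + t * x * y + 1 * y ^ 2 = (x - l * y) * (x - l⁻¹ * y) := by
    intro x y
    field_simp
    linear_combination (x * y) * hl
  have e1 : ∀ u : F, (u + l * ((u - u⁻¹) / (l⁻¹ - l))) - l * ((u - u⁻¹) / (l⁻¹ - l)) = u := by
    intro u
    ring
  have e2 : ∀ u : F, (u + l * ((u - u⁻¹) / (l⁻¹ - l))) - l⁻¹ * ((u - u⁻¹) / (l⁻¹ - l)) = u⁻¹ := by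
    intro u
    have : (l⁻¹ - l) * ((u - u⁻¹) / (l⁻¹ - l)) = u - u⁻¹ := by field_simp
    linear_combination -this
  symm
  apply Nat.card_eq_of_bijective (fun u : Fˣ => (⟨((u : F) + l * (((u : F) - (u : F)⁻¹) / (l⁻¹ - l)), ((u : F) - (u : F)⁻¹) / (l⁻¹ - l)), by
    rw [hfac]
    simp only
    rw [e1, e2, mul_inv_cancel₀ u.ne_zero]⟩ : {p : F × F // 1 * p.1 ^ 2 + t * p.1 * p.2 + 1 * p.2 ^ 2 = 1}))
  constructor
  · intro u u' h
    have h1 := congrArg (fun p => p.1.1 - l * p.1.2) h
    simp only [e1] at h1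
    exact Units.ext h1
  · rintro ⟨⟨x, y⟩, hp⟩
    simp only at hp
    rw [hfac] at hp
    have hu0 : x - l * y ≠ 0 := left_ne_zero_of_mul_eq_one hp
    have hinv : (x - l * y)⁻¹ = x - l⁻¹ * y := (eq_inv_of_mul_eq_one_right hp).symm
    refine ⟨Units.mk0 (x - l * y) hu0, ?_⟩
    apply Subtype.ext
    simp only [Units.val_mk0, hinv]
    have hy : (x - l * y - (x - l⁻¹ * y)) / (l⁻¹ - l) = y := by
      rw [div_eq_iff hll]
      ring
    rw [hy]
    congr 1
    ring

/-- unipotent case: `2 q` solutions -/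
theorem card_conic_unip [Fintype F] (h2 : (2 : F) ≠ 0) (t l : F) (hl : l ^ 2 + t * l + 1 = 0) (hl1 : l ^ 2 = 1) :
    Nat.card {p : F × F // 1 * p.1 ^ 2 + t * p.1 * p.2 + 1 * p.2 ^ 2 = 1} = 2 * Fintype.card F := by
  classical
  have hfac : ∀ x y : F, 1 * x ^ 2 + t * x * y + 1 * y ^ 2 = (x - l * y) ^ 2 := by
    intro x y
    have ht : t = -2 * l := by
      have : t * l ^ 2 = -2 * l := by linear_combination l * hl - l * hl1
      rw [hl1] at this
      linear_combination this
    rw [ht]
    linear_combination (-y ^ 2) * hl1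
  have hcard : Nat.card (Bool × F) = 2 * Fintype.card F := by
    simp [Nat.card_eq_fintype_card]
  rw [← hcard]
  symm
  apply Nat.card_eq_of_bijective (fun b : Bool × F => (⟨((if b.1 then 1 else -1) + l * b.2, b.2), by
    rw [hfac]
    rcases b with ⟨b, y⟩
    cases b <;> simp⟩ : {p : F × F // 1 * p.1 ^ 2 + t * p.1 * p.2 + 1 * p.2 ^ 2 = 1}))
  constructor
  · rintro ⟨b, y⟩ ⟨b', y'⟩ h
    have h1 := congrArg (fun p => p.1.1) h
    have h3 := congrArg (fun p => p.1.2) h
    simp only at h1 h3
    subst h3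
    have h4 : (if b then (1 : F) else -1) = (if b' then (1 : F) else -1) := add_right_cancel h1
    have hne : (1 : F) ≠ -1 := by
      intro h
      apply h2
      linear_combination h
    cases b <;> cases b' <;> simp_all
  · rintro ⟨⟨x, y⟩, hp⟩
    simp only at hp
    rw [hfac] at hp
    have : (x - l * y - 1) * (x - l * y + 1) = 0 := by linear_combination hp
    rcases mul_eq_zero.mp this with h | h
    · refine ⟨(true, y), ?_⟩
      apply Subtype.ext
      simp only [if_true]
      congr 1
      linear_combination -h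
    · refine ⟨(false, y), ?_⟩
      apply Subtype.ext
      simp only
      congr 1
      simp
      linear_combination -h

local notation "S2" => Matrix.SpecialLinearGroup (Fin 2) F
local notation "M2" => Matrix (Fin 2) (Fin 2) F

theorem pi_eq_iff (a b : S2) :
    QuotientGroup.mk' (Subgroup.center S2) a = QuotientGroup.mk' (Subgroup.center S2) b ↔
      ((a : M2) = (b : M2) ∨ (a : M2) = -(b : M2)) := by
  rw [QuotientGroup.mk'_eq_mk']
  constructor
  · rintro ⟨z, hz, rfl⟩
    obtain ⟨r, hr, hrz⟩ := Matrix.SpecialLinearGroup.mem_center_iff.mp hz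
    rw [Matrix.SpecialLinearGroup.coe_mul, ← hrz]
    simp at hr
    rcases hr with rfl | rfl
    · left
      simp
    · right
      rw [map_neg, map_one]
      simp
  · rintro (h | h)
    · exact ⟨1, Subgroup.one_mem _, by rw [mul_one]; exact Subtype.ext h⟩
    · refine ⟨mkSL (-1) (by simp [Matrix.det_neg]), ?_, ?_⟩
      · rw [Matrix.SpecialLinearGroup.mem_center_iff]
        refine ⟨-1, by simp, ?_⟩
        rw [mkSL_coe, map_neg, map_one]
      · apply Subtype.ext
        rw [Matrix.SpecialLinearGroup.coe_mul, mkSL_coe, h]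
        simp

theorem mem_comap_iff (g h : S2) :
    h ∈ (Subgroup.centralizer ({QuotientGroup.mk' (Subgroup.center S2) g} : Set (Matrix.ProjectiveSpecialLinearGroup (Fin 2) F))).comap
        (QuotientGroup.mk' (Subgroup.center S2)) ↔
      ((h : M2) * (g : M2) = (g : M2) * (h : M2) ∨ (h : M2) * (g : M2) = -((g : M2) * (h : M2))) := by
  rw [Subgroup.mem_comap, Subgroup.mem_centralizer_singleton_iff, ← map_mul, ← map_mul, pi_eq_iff,
    Matrix.SpecialLinearGroup.coe_mul, Matrix.SpecialLinearGroup.coe_mul]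

theorem trace_zero_of_anticomm (h2 : (2 : F) ≠ 0) (g h : S2) (hh : (h : M2) * (g : M2) = -((g : M2) * (h : M2))) :
    (g : M2) 0 0 + (g : M2) 1 1 = 0 := by
  have h1 : (h : M2) * ((h⁻¹ : S2) : M2) = 1 := by
    rw [← Matrix.SpecialLinearGroup.coe_mul, mul_inv_cancel]; rfl
  have h3 : ((h⁻¹ : S2) : M2) * (h : M2) = 1 := by
    rw [← Matrix.SpecialLinearGroup.coe_mul, inv_mul_cancel]; rfl
  have e1 : (h : M2) * (g : M2) * ((h⁻¹ : S2) : M2) = -(g : M2) := by
    rw [hh, Matrix.neg_mul, mul_assoc, h1, mul_one]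
  have e2 : ((h : M2) * (g : M2) * ((h⁻¹ : S2) : M2)).trace = (g : M2).trace := by
    rw [Matrix.trace_mul_comm, ← mul_assoc, h3, one_mul]
  rw [e1, Matrix.trace_neg, Matrix.trace_fin_two] at e2
  have : (2 : F) * ((g : M2) 0 0 + (g : M2) 1 1) = 0 := by linear_combination -e2
  exact (mul_eq_zero.mp this).resolve_left h2

theorem index_bar_ne (h2 : (2 : F) ≠ 0) (g : S2) (ht : (g : M2) 0 0 + (g : M2) 1 1 ≠ 0) :
    (Subgroup.centralizer ({QuotientGroup.mk' (Subgroup.center S2) g} : Set (Matrix.ProjectiveSpecialLinearGroup (Fin 2) F))).index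
      = (Subgroup.centralizer ({g} : Set S2)).index := by
  rw [← Subgroup.index_comap_of_surjective (H := Subgroup.centralizer ({QuotientGroup.mk' (Subgroup.center S2) g} : Set (Matrix.ProjectiveSpecialLinearGroup (Fin 2) F))) (QuotientGroup.mk'_surjective _)]
  congr 1
  ext h
  rw [mem_comap_iff, Subgroup.mem_centralizer_singleton_iff]
  constructor
  · rintro (h' | h')
    · apply Subtype.ext
      rw [Matrix.SpecialLinearGroup.coe_mul, Matrix.SpecialLinearGroup.coe_mul, h']
    · exact absurd (trace_zero_of_anticomm h2 g h h') ht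
  · intro h'
    left
    rw [← Matrix.SpecialLinearGroup.coe_mul, ← Matrix.SpecialLinearGroup.coe_mul, h']

theorem exists_anticomm [Fintype F] (h2 : (2 : F) ≠ 0) (g : S2) (ht : (g : M2) 0 0 + (g : M2) 1 1 = 0) :
    ∃ h0 : S2, (h0 : M2) * (g : M2) = -((g : M2) * (h0 : M2)) := by
  classical
  have hodd : Fintype.card F % 2 = 1 := by
    apply FiniteField.odd_card_of_char_ne_two
    intro hc
    have : CharP F 2 := ringChar.of_eq hc
    exact h2 CharTwo.two_eq_zero
  obtain ⟨x, y, hxy⟩ := FiniteField.exists_root_sum_quadratic (R := F) (f := Polynomial.X ^ 2) (g := Polynomial.X ^ 2 + 1)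
    (Polynomial.degree_X_pow 2) (by compute_degree!) hodd
  simp at hxy
  -- from an anticommuting matrix of determinant `-1`
  have key : ∀ h1 : M2, h1 * (g : M2) = -((g : M2) * h1) → h1.det = -1 →
      ∃ h0 : S2, (h0 : M2) * (g : M2) = -((g : M2) * (h0 : M2)) := by
    intro h1 hac hdet
    refine ⟨mkSL ((x • (1 : M2) + y • (g : M2)) * h1) ?_, ?_⟩
    · rw [Matrix.det_mul, det_formula, ht, hdet]
      linear_combination -hxy
    · rw [mkSL_coe, mul_assoc, hac]
      simp only [add_mul, mul_add, Matrix.smul_mul, Matrix.mul_smul, one_mul, Matrix.mul_neg, neg_add]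
  have he : (g : M2) 1 1 = -(g : M2) 0 0 := by linear_combination ht
  by_cases hb : (g : M2) 0 1 = 0
  · by_cases hc : (g : M2) 1 0 = 0
    · refine ⟨mkSL !![0, 1; -1, 0] (by simp [Matrix.det_fin_two_of]), ?_⟩
      rw [mkSL_coe]
      ext i j
      fin_cases i <;> fin_cases j <;> simp [Matrix.mul_apply, Fin.sum_univ_two, hb, hc, he]
    · apply key !![1, -2 * (g : M2) 0 0 / (g : M2) 1 0; 0, -1]
      · ext i j
        fin_cases i <;> fin_cases j <;> simp [Matrix.mul_apply, Fin.sum_univ_two, he] <;> field_simp <;> ring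
      · simp [Matrix.det_fin_two_of]
  · apply key !![1, 0; -2 * (g : M2) 0 0 / (g : M2) 0 1, -1]
    · ext i j
      fin_cases i <;> fin_cases j <;> simp [Matrix.mul_apply, Fin.sum_univ_two, he] <;> field_simp <;> ring
    · simp [Matrix.det_fin_two_of]

theorem ne_neg_self (h2 : (2 : F) ≠ 0) (M : S2) : (M : M2) ≠ -(M : M2) := by
  intro h
  have h0 : (M : M2) = 0 := by
    ext i j
    have := congrFun (congrFun h i) j
    simp only [Matrix.neg_apply] at this
    have h3 : (2 : F) * (M : M2) i j = 0 := by linear_combination this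
    simpa using (mul_eq_zero.mp h3).resolve_left h2
  have := M.2
  rw [h0] at this
  simp at this

theorem index_bar_zero [Fintype F] (h2 : (2 : F) ≠ 0) (g : S2) (ht : (g : M2) 0 0 + (g : M2) 1 1 = 0) :
    2 * (Subgroup.centralizer ({QuotientGroup.mk' (Subgroup.center S2) g} : Set (Matrix.ProjectiveSpecialLinearGroup (Fin 2) F))).index
      = (Subgroup.centralizer ({g} : Set S2)).index := by
  rw [← Subgroup.index_comap_of_surjective (H := Subgroup.centralizer ({QuotientGroup.mk' (Subgroup.center S2) g} : Set (Matrix.ProjectiveSpecialLinearGroup (Fin 2) F))) (QuotientGroup.mk'_surjective _)]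
  set K := (Subgroup.centralizer ({QuotientGroup.mk' (Subgroup.center S2) g} : Set (Matrix.ProjectiveSpecialLinearGroup (Fin 2) F))).comap
        (QuotientGroup.mk' (Subgroup.center S2)) with hK
  set C := Subgroup.centralizer ({g} : Set S2) with hC
  have hmemC : ∀ h : S2, h ∈ C ↔ (h : M2) * (g : M2) = (g : M2) * (h : M2) := by
    intro h
    rw [hC, Subgroup.mem_centralizer_singleton_iff]
    constructor
    · intro h'
      rw [← Matrix.SpecialLinearGroup.coe_mul, ← Matrix.SpecialLinearGroup.coe_mul, h']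
    · intro h'
      apply Subtype.ext
      rw [Matrix.SpecialLinearGroup.coe_mul, Matrix.SpecialLinearGroup.coe_mul, h']
  have hle : C ≤ K := by
    intro h hh
    rw [hK, mem_comap_iff]
    exact Or.inl ((hmemC h).mp hh)
  rw [← Subgroup.relIndex_mul_index hle]
  congr 1
  symm
  obtain ⟨h0, hh0⟩ := exists_anticomm h2 g ht
  have hh0K : h0 ∈ K := by
    rw [hK, mem_comap_iff]
    exact Or.inr hh0
  change (C.subgroupOf K).index = 2
  rw [Subgroup.index_eq_two_iff]
  refine ⟨⟨h0, hh0K⟩, ?_⟩
  rintro ⟨b, hb⟩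
  simp only [Subgroup.mem_subgroupOf, Subgroup.coe_mul, hmemC, Matrix.SpecialLinearGroup.coe_mul]
  have hb' := hb
  rw [hK, mem_comap_iff] at hb'
  rcases hb' with hb' | hb'
  · right
    refine ⟨hb', ?_⟩
    intro hcon
    have e1 : (b : M2) * (h0 : M2) * (g : M2) = -((g : M2) * ((b : M2) * (h0 : M2))) := by
      rw [mul_assoc, hh0, Matrix.mul_neg, ← mul_assoc, hb', mul_assoc]
    rw [e1] at hcon
    apply ne_neg_self h2 (g * (b * h0))
    rw [Matrix.SpecialLinearGroup.coe_mul, Matrix.SpecialLinearGroup.coe_mul]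
    exact hcon.symm
  · left
    constructor
    · rw [mul_assoc, hh0, Matrix.mul_neg, ← mul_assoc, hb', Matrix.neg_mul, neg_neg, mul_assoc]
    · intro hcon
      rw [hcon] at hb'
      apply ne_neg_self h2 (g * b)
      rw [Matrix.SpecialLinearGroup.coe_mul]
      exact hb'

theorem arith2 (q c i S : ℕ) (hq : 2 ≤ q) (hS : S = q * (q - 1) * (q + 1)) (h : c * i = S) (hc : c = 2 * q) :
    i = (q ^ 2 - 1) / 2 := by
  obtain ⟨m, rfl⟩ : ∃ m, q = m + 2 := ⟨q - 2, by omega⟩
  have e1 : (m + 2) ^ 2 - 1 = (m + 1) * (m + 3) := Nat.sub_eq_of_eq_add (by ring)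
  have e3 : m + 2 - 1 = m + 1 := by omega
  rw [e1]
  rw [e3] at hS
  subst hS hc
  have : 2 * i = (m + 1) * (m + 3) :=
    Nat.eq_of_mul_eq_mul_left (by omega : 0 < m + 2) (by linear_combination h)
  omega

/-- the index of the centraliser of the image of `g` in `PSL₂`. -/
noncomputable abbrev ibar (g : S2) : ℕ :=
  (Subgroup.centralizer ({QuotientGroup.mk' (Subgroup.center S2) g} : Set (Matrix.ProjectiveSpecialLinearGroup (Fin 2) F))).index

theorem ibar_scalar (g : S2) (hg : ∃ c : F, (g : M2) = c • (1 : M2)) : ibar g = 1 := by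
  obtain ⟨c, hc⟩ := hg
  have hcen : g ∈ Subgroup.center S2 := by
    rw [Matrix.SpecialLinearGroup.mem_center_iff]
    refine ⟨c, ?_, ?_⟩
    · have := g.2
      rw [hc] at this
      simpa using this
    · rw [hc]
      ext i j
      simp [Matrix.scalar_apply, Matrix.diagonal_apply, Matrix.one_apply]
  have h1 : QuotientGroup.mk' (Subgroup.center S2) g = 1 := (QuotientGroup.eq_one_iff g).mpr hcen
  rw [ibar, h1, Subgroup.index_eq_one, Subgroup.centralizer_eq_top_iff_subset]
  simp

theorem ibar_cases [Fintype F] (h2 : (2 : F) ≠ 0) (g : S2) (hg : ¬ ∃ c : F, (g : M2) = c • (1 : M2)) (t : F)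
    (ht : (g : M2) 0 0 + (g : M2) 1 1 = t) :
    (t = 0 → IsSquare (-1 : F) → ibar g = Fintype.card F * (Fintype.card F + 1) / 2) ∧
    (t = 0 → ¬ IsSquare (-1 : F) → ibar g = Fintype.card F * (Fintype.card F - 1) / 2) ∧
    (t ≠ 0 → (∃ l : F, l ^ 2 + t * l + 1 = 0 ∧ l ^ 2 = 1) → ibar g = (Fintype.card F ^ 2 - 1) / 2) ∧
    (t ≠ 0 → (∃ l : F, l ^ 2 + t * l + 1 = 0 ∧ l ^ 2 ≠ 1) → ibar g = Fintype.card F * (Fintype.card F + 1)) ∧
    (t ≠ 0 → (¬ ∃ l : F, l ^ 2 + t * l + 1 = 0) → ibar g = Fintype.card F * (Fintype.card F - 1)) := by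
  have hc := card_centralizer g hg
  rw [ht] at hc
  have hq : 2 ≤ Fintype.card F := Fintype.one_lt_card
  have hmul := Subgroup.card_mul_index (Subgroup.centralizer ({g} : Set S2))
  have har := arith (Fintype.card F) _ _ _ hq card_SL2 hmul
  refine ⟨?_, ?_, ?_, ?_, ?_⟩
  · rintro rfl ⟨r, hr⟩
    have h3 := index_bar_zero h2 g ht
    have h4 := har.2.1 (hc.trans (card_conic_split' 0 r (by linear_combination -hr) (by
      intro h
      apply h2
      linear_combination -h - hr)))
    rw [h4] at h3
    change 2 * ibar g = _ at h3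
    omega
  · rintro rfl hns
    have h3 := index_bar_zero h2 g ht
    have h4 := har.2.2 (hc.trans (card_conic_aniso h2 0 (by
      rintro ⟨l, hl⟩
      exact hns ⟨l, by linear_combination -hl⟩)))
    rw [h4] at h3
    change 2 * ibar g = _ at h3
    omega
  · rintro ht0 ⟨l, hl, hl1⟩
    rw [ibar, index_bar_ne h2 g (ht ▸ ht0)]
    exact arith2 (Fintype.card F) _ _ _ hq card_SL2 hmul (hc.trans (card_conic_unip h2 t l hl hl1))
  · rintro ht0 ⟨l, hl, hl1⟩
    rw [ibar, index_bar_ne h2 g (ht ▸ ht0)]
    exact har.2.1 (hc.trans (card_conic_split' t l hl hl1))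
  · rintro ht0 hno
    rw [ibar, index_bar_ne h2 g (ht ▸ ht0)]
    exact har.2.2 (hc.trans (card_conic_aniso h2 t hno))

theorem exists_nonsplit_trace [Fintype F] (h2 : (2 : F) ≠ 0) (h7 : 7 ≤ Fintype.card F) :
    ∃ t : F, t ≠ 0 ∧ ¬ ∃ l : F, l ^ 2 + t * l + 1 = 0 := by
  classical
  have hchar : ringChar F ≠ 2 := by
    intro hc
    have : CharP F 2 := ringChar.of_eq hc
    exact h2 CharTwo.two_eq_zero
  obtain ⟨δ, hδ⟩ := FiniteField.exists_nonsquare hchar
  obtain ⟨r, hr0, hr1⟩ : ∃ r : F, r ≠ 0 ∧ r ^ 2 + δ ≠ 0 := by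
    by_cases hsq : IsSquare (-δ)
    · obtain ⟨e, he⟩ := hsq
      obtain ⟨r, hr⟩ : ∃ r : F, r ∉ ({0, e, -e} : Finset F) := by
        by_contra hcon
        push Not at hcon
        have h1 : (Finset.univ : Finset F) ⊆ {0, e, -e} := fun x _ => hcon x
        have h2' := Finset.card_le_card h1
        have h3' : ({0, e, -e} : Finset F).card ≤ 3 := Finset.card_le_three
        rw [Finset.card_univ] at h2'
        omega
      simp only [Finset.mem_insert, Finset.mem_singleton, not_or] at hr
      refine ⟨r, hr.1, ?_⟩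
      intro h
      have : (r - e) * (r + e) = 0 := by linear_combination h + he
      rcases mul_eq_zero.mp this with h' | h'
      · exact hr.2.1 (by linear_combination h')
      · exact hr.2.2 (by linear_combination h')
    · refine ⟨1, one_ne_zero, ?_⟩
      intro h
      exact hsq ⟨1, by linear_combination -h⟩
  have hrδ : r ^ 2 - δ ≠ 0 := by
    intro h
    exact hδ ⟨r, by linear_combination -h⟩
  refine ⟨2 * (r ^ 2 + δ) / (r ^ 2 - δ), ?_, ?_⟩
  · exact div_ne_zero (mul_ne_zero h2 hr1) hrδ
  · rintro ⟨l, hl⟩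
    apply hδ
    have h4 : (4 : F) ≠ 0 := by
      have : (4 : F) = 2 * 2 := by norm_num
      rw [this]; exact mul_ne_zero h2 h2
    refine ⟨(2 * l + 2 * (r ^ 2 + δ) / (r ^ 2 - δ)) * (r ^ 2 - δ) / (4 * r), ?_⟩
    have e1 : (2 * l + 2 * (r ^ 2 + δ) / (r ^ 2 - δ)) ^ 2 = (2 * (r ^ 2 + δ) / (r ^ 2 - δ)) ^ 2 - 4 := by
      linear_combination 4 * hl
    have e2 : (2 * (r ^ 2 + δ) / (r ^ 2 - δ)) ^ 2 - 4 = δ * (4 * r / (r ^ 2 - δ)) ^ 2 := by
      field_simp
      ring
    have e3 : (2 * l + 2 * (r ^ 2 + δ) / (r ^ 2 - δ)) * (r ^ 2 - δ) / (4 * r) * ((2 * l + 2 * (r ^ 2 + δ) / (r ^ 2 - δ)) * (r ^ 2 - δ) / (4 * r))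
        = (2 * l + 2 * (r ^ 2 + δ) / (r ^ 2 - δ)) ^ 2 * ((r ^ 2 - δ) / (4 * r)) ^ 2 := by ring
    rw [e3, e1, e2]
    field_simp

theorem mem_range_iff [Fintype F] (h2 : (2 : F) ≠ 0) (h7 : 7 ≤ Fintype.card F) (I : ℕ)
    (hI1 : IsSquare (-1 : F) → I = Fintype.card F * (Fintype.card F + 1) / 2)
    (hI2 : ¬ IsSquare (-1 : F) → I = Fintype.card F * (Fintype.card F - 1) / 2) (n : ℕ) :
    n ∈ Set.range (fun g : (Matrix.ProjectiveSpecialLinearGroup (Fin 2) F) => (Subgroup.centralizer ({g} : Set (Matrix.ProjectiveSpecialLinearGroup (Fin 2) F))).index) ↔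
      (n = 1 ∨ n = (Fintype.card F ^ 2 - 1) / 2 ∨ n = I ∨ n = Fintype.card F * (Fintype.card F - 1) ∨
        n = Fintype.card F * (Fintype.card F + 1)) := by
  classical
  constructor
  · rintro ⟨g, rfl⟩
    obtain ⟨g, rfl⟩ := QuotientGroup.mk'_surjective _ g
    change ibar g = 1 ∨ ibar g = _ ∨ ibar g = _ ∨ ibar g = _ ∨ ibar g = _
    by_cases hg : ∃ c : F, (g : M2) = c • (1 : M2)
    · exact Or.inl (ibar_scalar g hg)
    · have h := ibar_cases h2 g hg _ rfl
      by_cases ht : (g : M2) 0 0 + (g : M2) 1 1 = 0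
      · by_cases hs : IsSquare (-1 : F)
        · right; right; left
          rw [hI1 hs]; exact h.1 ht hs
        · right; right; left
          rw [hI2 hs]; exact h.2.1 ht hs
      · by_cases hl : ∃ l : F, l ^ 2 + ((g : M2) 0 0 + (g : M2) 1 1) * l + 1 = 0
        · obtain ⟨l, hl⟩ := hl
          by_cases hl1 : l ^ 2 = 1
          · right; left
            exact h.2.2.1 ht ⟨l, hl, hl1⟩
          · right; right; right; right
            exact h.2.2.2.1 ht ⟨l, hl, hl1⟩
        · right; right; right; left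
          exact h.2.2.2.2 ht hl
  · rintro (rfl | rfl | rfl | rfl | rfl)
    · exact ⟨QuotientGroup.mk' _ 1, ibar_scalar 1 ⟨1, by simp⟩⟩
    · let g := mkSL (!![1, 1; 0, 1] : M2) (by simp [Matrix.det_fin_two_of])
      have hg : ¬ ∃ c : F, (g : M2) = c • (1 : M2) := by
        rintro ⟨c, hc⟩
        have := congrFun (congrFun hc 0) 1
        simp [g, mkSL_coe] at this
      have h := ibar_cases h2 g hg 2 (by simp [g, mkSL_coe]; norm_num)
      exact ⟨QuotientGroup.mk' _ g, h.2.2.1 h2 ⟨-1, by ring, by ring⟩⟩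
    · let g := mkSL (!![0, 1; -1, 0] : M2) (by simp [Matrix.det_fin_two_of])
      have hg : ¬ ∃ c : F, (g : M2) = c • (1 : M2) := by
        rintro ⟨c, hc⟩
        have := congrFun (congrFun hc 0) 1
        simp [g, mkSL_coe] at this
      have h := ibar_cases h2 g hg 0 (by simp [g, mkSL_coe])
      refine ⟨QuotientGroup.mk' _ g, ?_⟩
      by_cases hs : IsSquare (-1 : F)
      · rw [hI1 hs]; exact h.1 rfl hs
      · rw [hI2 hs]; exact h.2.1 rfl hs
    · obtain ⟨t, ht0, hno⟩ := exists_nonsplit_trace h2 h7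
      let g := mkSL (!![0, -1; 1, t] : M2) (by simp [Matrix.det_fin_two_of])
      have hg : ¬ ∃ c : F, (g : M2) = c • (1 : M2) := by
        rintro ⟨c, hc⟩
        have := congrFun (congrFun hc 1) 0
        simp [g, mkSL_coe] at this
      have h := ibar_cases h2 g hg t (by simp [g, mkSL_coe])
      exact ⟨QuotientGroup.mk' _ g, h.2.2.2.2 ht0 hno⟩
    · obtain ⟨x, hx⟩ : IsCyclic Fˣ := by infer_instance
      have hord : orderOf x = Fintype.card F - 1 := by
        rw [orderOf_eq_card_of_forall_mem_zpowers hx, Nat.card_eq_fintype_card, Fintype.card_units]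
      have hx4 : (x : F) ^ 4 ≠ 1 := by
        intro h
        have h5 : x ^ 4 = 1 := Units.ext (by simpa using h)
        have h6 := orderOf_le_of_pow_eq_one (by norm_num) h5
        omega
      set a : F := (x : F) with ha
      have ha0 : a ≠ 0 := x.ne_zero
      have ha1 : a ^ 2 ≠ 1 := by
        intro h
        apply hx4
        have : a ^ 4 = (a ^ 2) ^ 2 := by ring
        rw [this, h]; ring
      have ha2 : a ^ 2 ≠ -1 := by
        intro h
        apply hx4
        have : a ^ 4 = (a ^ 2) ^ 2 := by ring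
        rw [this, h]; ring
      let g := mkSL (!![a, 0; 0, a⁻¹] : M2) (by simp [Matrix.det_fin_two_of, ha0])
      have hg : ¬ ∃ c : F, (g : M2) = c • (1 : M2) := by
        rintro ⟨c, hc⟩
        have h00 := congrFun (congrFun hc 0) 0
        have h11 := congrFun (congrFun hc 1) 1
        simp [g, mkSL_coe] at h00 h11
        apply ha1
        rw [sq]
        nth_rewrite 2 [h00]
        rw [← h11]
        exact mul_inv_cancel₀ ha0
      have h := ibar_cases h2 g hg (a + a⁻¹) (by simp [g, mkSL_coe])
      refine ⟨QuotientGroup.mk' _ g, h.2.2.2.1 ?_ ⟨-a, ?_, ?_⟩⟩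
      · intro h0
        apply ha2
        have : a * (a + a⁻¹) = 0 := by rw [h0, mul_zero]
        rw [mul_add, mul_inv_cancel₀ ha0] at this
        linear_combination this
      · have : a⁻¹ * a = 1 := inv_mul_cancel₀ ha0
        linear_combination -this
      · intro h
        apply ha1
        linear_combination h

end aux

/-- Let F be a finite field with q elements, q odd and q ≥ 7. If q ≡ 1 (mod 4) the conjugacy class sizes of PSL(2,F) are exactly 1, (q² − 1)/2, q(q + 1)/2, q(q − 1) and q(q + 1); if q ≡ 3 (mod 4) they are exactly 1, (q² − 1)/2, q(q − 1)/2, q(q + 1) and q(q − 1). -/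
theorem result {F : Type*} [Field F] [Fintype F]
    (hodd : ¬ 2 ∣ Fintype.card F) (h7 : 7 ≤ Fintype.card F) :
    (Fintype.card F % 4 = 1 →
      Set.range (fun g : (Matrix.ProjectiveSpecialLinearGroup (Fin 2) F) => (Subgroup.centralizer ({g} : Set (Matrix.ProjectiveSpecialLinearGroup (Fin 2) F))).index) =
        {1, (Fintype.card F ^ 2 - 1) / 2, Fintype.card F * (Fintype.card F + 1) / 2,
          Fintype.card F * (Fintype.card F - 1), Fintype.card F * (Fintype.card F + 1)}) ∧
    (Fintype.card F % 4 = 3 →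
      Set.range (fun g : (Matrix.ProjectiveSpecialLinearGroup (Fin 2) F) => (Subgroup.centralizer ({g} : Set (Matrix.ProjectiveSpecialLinearGroup (Fin 2) F))).index) =
        {1, (Fintype.card F ^ 2 - 1) / 2, Fintype.card F * (Fintype.card F - 1) / 2,
          Fintype.card F * (Fintype.card F + 1), Fintype.card F * (Fintype.card F - 1)}) := by
  have h2 : (2 : F) ≠ 0 := by
    intro h
    have : CharP F 2 := CharTwo.of_one_ne_zero_of_two_eq_zero one_ne_zero h
    apply hodd
    have := FiniteField.even_card_of_char_two (F := F) (ringChar.eq F 2)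
    omega
  constructor
  · intro h4
    have hs : IsSquare (-1 : F) := FiniteField.isSquare_neg_one_iff.mpr (by omega)
    ext n
    rw [mem_range_iff h2 h7 (Fintype.card F * (Fintype.card F + 1) / 2) (fun _ => rfl) (fun h => absurd hs h)]
    simp only [Set.mem_insert_iff, Set.mem_singleton_iff]
  · intro h4
    have hs : ¬ IsSquare (-1 : F) := fun h => FiniteField.isSquare_neg_one_iff.mp h h4
    ext n
    rw [mem_range_iff h2 h7 (Fintype.card F * (Fintype.card F - 1) / 2) (fun h => absurd h hs) (fun _ => rfl)]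
    simp only [Set.mem_insert_iff, Set.mem_singleton_iff]
    tauto

end Cfsg.Agent.S2508
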