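import Cfsg.Statements.S0112
import Cfsg.Agent.Lib.Helper3MaxClass

set_option autoImplicit false
open Cfsg

namespace Cfsg.Agent.S0112

open Cfsg.Agent.Lib.Helper3MaxClass

/-- A p-group with a self-centralizing subgroup of order p^2 is of maximal class. -/
theorem result {X : Type*} [Group X] [Finite X] {p : ℕ} [Fact p.Prime] (n : ℕ) (hX : Nat.card X = p ^ n) (A : Subgroup X) (hA : Nat.card A = p ^ 2) (hC : Subgroup.centralizer (A : Set X) = A) : Group.nilpotencyClass X = n - 1 := by
  have hpp : p.Prime := Fact.out
  have hn2 : 2 ≤ n := by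
    have h1 := Subgroup.card_subgroup_dvd_card A
    rw [hA, hX] at h1
    exact (Nat.pow_dvd_pow_iff_le_right hpp.one_lt).mp h1
  obtain ⟨m, rfl⟩ := Nat.exists_eq_add_of_le' hn2
  have hP : IsPGroup p X := IsPGroup.of_card hX
  have key : ∃ x : X, Subgroup.centralizer ({x} : Set X) ≤ A := by
    by_cases hAtop : A = ⊤
    · exact ⟨1, hAtop ▸ le_top⟩
    have hZA : Subgroup.center X ≤ A := by
      rw [← hC]; exact Subgroup.center_le_centralizer _
    have hZne : Subgroup.center X ≠ A := by
      intro h
      apply hAtop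
      rw [← hC, ← h, eq_top_iff]
      intro g _
      rw [Subgroup.mem_centralizer_iff]
      intro z hz
      exact (Subgroup.mem_center_iff.mp hz g).symm
    obtain ⟨x, hxA, hxZ⟩ := SetLike.exists_of_lt (lt_of_le_of_ne hZA hZne)
    refine ⟨x, ?_⟩
    set B := Subgroup.center X ⊔ Subgroup.zpowers x with hB
    have hBA : B ≤ A := sup_le hZA (by rw [Subgroup.zpowers_le]; exact hxA)
    have hZB : Subgroup.center X < B := by
      refine lt_of_le_of_ne le_sup_left ?_
      intro h
      apply hxZ
      rw [h]
      exact (le_sup_right : Subgroup.zpowers x ≤ B) (Subgroup.mem_zpowers x)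
    obtain ⟨k, hk0, hk⟩ := IsPGroup.card_center_eq_prime_pow hX (by omega)
    obtain ⟨j, hj⟩ := IsPGroup.iff_card.mp (hP.to_subgroup B)
    have hkj : k < j := by
      have h1 : Nat.card (Subgroup.center X) < Nat.card B := by
        rcases lt_or_eq_of_le (Subgroup.card_le_of_le hZB.le) with h | h
        · exact h
        · exact absurd (Subgroup.eq_of_le_of_card_ge hZB.le h.ge) hZB.ne
      rw [hk, hj] at h1
      exact (Nat.pow_lt_pow_iff_right hpp.one_lt).mp h1
    have hBeq : B = A := by
      apply Subgroup.eq_of_le_of_card_ge hBA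
      rw [hA, hj]
      exact Nat.pow_le_pow_right hpp.pos (by omega)
    intro g hg
    rw [← hC, Subgroup.mem_centralizer_iff]
    intro b hb
    have hb' : b ∈ B := by rw [hBeq]; exact hb
    have hle : B ≤ Subgroup.centralizer ({g} : Set X) := by
      apply sup_le (Subgroup.center_le_centralizer _)
      rw [Subgroup.zpowers_le, Subgroup.mem_centralizer_iff]
      intro y hy
      rw [Set.mem_singleton_iff] at hy
      rw [hy]
      exact (Subgroup.mem_centralizer_iff.mp hg x (Set.mem_singleton x)).symm
    exact (Subgroup.mem_centralizer_iff.mp (hle hb') g (Set.mem_singleton g)).symm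
  obtain ⟨x, hx⟩ := key
  have h1 := maxclass_of_small_centralizer (p := p) m X hX x (by
    rw [← hA]; exact Subgroup.card_le_of_le hx)
  rw [h1]; omega

end Cfsg.Agent.S0112
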