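import Cfsg.Statements.S3224
import Cfsg.Agent.S0112
import Cfsg.Agent.S0113
import Cfsg.Agent.S0206
import Mathlib

set_option autoImplicit false
open Cfsg

namespace Cfsg.Agent.S3224

/-- An element normalizing a cyclic subgroup centralizes each of its involutions. -/
lemma conj_involution_of_zpowers {S : Type*} [Group S] (a g u : S)
    (hg : g * a * g⁻¹ ∈ Subgroup.zpowers a) (hu : u ∈ Subgroup.zpowers a) (hu2 : u * u = 1)
    (hu1 : u ≠ 1) : g * u * g⁻¹ = u := by
  obtain ⟨r, hr⟩ := Subgroup.mem_zpowers_iff.mp hg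
  obtain ⟨k, rfl⟩ := Subgroup.mem_zpowers_iff.mp hu
  have h1 : g * a ^ k * g⁻¹ = (a ^ k) ^ r := by
    rw [← conj_zpow, ← hr, ← zpow_mul, ← zpow_mul, mul_comm]
  rw [h1]
  rcases Int.even_or_odd' r with ⟨m, rfl | rfl⟩
  · exfalso
    rw [zpow_mul, zpow_two, hu2, one_zpow] at h1
    apply hu1
    have : g * a ^ k = g := by
      have := mul_inv_eq_one.mp h1
      exact this
    exact mul_eq_left.mp this
  · rw [zpow_add, zpow_mul, zpow_two, hu2, one_zpow, one_mul, zpow_one]

/-- A finite 2-group containing an involution whose centralizer has order 4 is dihedral, quasi-dihedral (semidihedral), or of order 4. -/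
theorem result {S : Type*} [Group S] [Finite S] (hS : IsPGroup 2 S)
    (x : S) (hx : orderOf x = 2) (hC : Nat.card ↥(Subgroup.centralizer ({x} : Set S)) = 4) :
    (∃ n : ℕ, Nonempty (S ≃* DihedralGroup n)) ∨ Cfsg.IsQuasiDihedral S ∨ Nat.card S = 4 := by
  classical
  have : Fact (Nat.Prime 2) := ⟨Nat.prime_two⟩
  obtain ⟨n, hn⟩ := IsPGroup.iff_card.mp hS
  set C := Subgroup.centralizer ({x} : Set S) with hCdef
  have hx1 : x ≠ 1 := by
    intro h
    rw [h, orderOf_one] at hx
    omega
  have hx2 : x * x = 1 := by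
    rw [← pow_two, ← hx]
    exact pow_orderOf_eq_one x
  have hxinv : x⁻¹ = x := inv_eq_of_mul_eq_one_left hx2
  have hxC : x ∈ C := by
    rw [hCdef, Subgroup.mem_centralizer_singleton_iff]
  have hmemC : ∀ g : S, g ∈ C ↔ g * x = x * g := by
    intro g
    rw [hCdef, Subgroup.mem_centralizer_singleton_iff]
  by_cases hn3 : n < 3
  · right; right
    have h4 : (4 : ℕ) ∣ 2 ^ n := by
      rw [← hn, ← hC]
      exact Subgroup.card_subgroup_dvd_card C
    interval_cases n
    · norm_num at h4
    · norm_num at h4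
    · rw [hn]; norm_num
  push Not at hn3
  -- `C` is self-centralizing
  have hCcomm : ∀ u v : C, u * v = v * u :=
    (IsPGroup.isMulCommutative_of_card_eq_prime_sq (p := 2) (by rw [hC]; norm_num)).is_comm.comm
  have hCC : Subgroup.centralizer (C : Set S) = C := by
    apply le_antisymm
    · intro g hg
      rw [hmemC]
      exact (Subgroup.mem_centralizer_iff.mp hg x hxC).symm
    · intro g hg
      rw [Subgroup.mem_centralizer_iff]
      intro h hh
      exact congrArg Subtype.val (hCcomm ⟨h, hh⟩ ⟨g, hg⟩)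
  have hcl := Cfsg.Agent.S0112.result (p := 2) n hn C (by rw [hC]; norm_num) hCC
  obtain ⟨A, hAc, hAi⟩ := Cfsg.Agent.S0113.result n hn3 hn hcl
  have hAn : A.Normal := Subgroup.normal_of_index_eq_two hAi
  obtain ⟨⟨a, haA⟩, hgen⟩ := hAc.exists_generator
  have hAz : A = Subgroup.zpowers a := by
    apply le_antisymm
    · intro g hg
      obtain ⟨k, hk⟩ := Subgroup.mem_zpowers_iff.mp (hgen ⟨g, hg⟩)
      rw [Subgroup.mem_zpowers_iff]
      exact ⟨k, by simpa using congrArg Subtype.val hk⟩
    · rw [Subgroup.zpowers_le]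
      exact haA
  have hcardA : Nat.card A = 2 ^ (n - 1) := by
    have h := A.card_mul_index
    rw [hAi, hn] at h
    have : 2 ^ n = 2 ^ (n - 1) * 2 := by
      rw [← pow_succ]
      congr 1
      omega
    rw [this] at h
    exact Nat.eq_of_mul_eq_mul_right (by norm_num) h
  have hoa : orderOf a = 2 ^ (n - 1) := by
    rw [← hcardA, hAz, Nat.card_zpowers]
  have hnorm : ∀ g : S, g * a * g⁻¹ ∈ Subgroup.zpowers a := by
    intro g
    rw [← hAz]
    exact hAn.conj_mem a haA g
  -- `x ∉ A`
  have hxA : x ∉ A := by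
    intro h
    have hall : ∀ g : S, g ∈ C := by
      intro g
      rw [hmemC]
      have := conj_involution_of_zpowers a g x (hnorm g) (hAz ▸ h) hx2 hx1
      exact mul_inv_eq_iff_eq_mul.mp this
    have htop : C = ⊤ := by
      rw [eq_top_iff]
      intro g _
      exact hall g
    rw [htop, Subgroup.card_top, hn] at hC
    have : 2 ^ 3 ≤ 2 ^ n := Nat.pow_le_pow_right (by norm_num) hn3
    omega
  -- the involution of `A`
  set z := a ^ (2 ^ (n - 2)) with hz
  have hzA : z ∈ A := A.pow_mem haA _
  have hzz : z * z = 1 := by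
    rw [hz, ← pow_add]
    have : 2 ^ (n - 2) + 2 ^ (n - 2) = 2 ^ (n - 1) := by
      have : n - 1 = (n - 2) + 1 := by omega
      rw [this, pow_succ]
      ring
    rw [this, ← hoa]
    exact pow_orderOf_eq_one a
  have hz1 : z ≠ 1 := by
    apply pow_ne_one_of_lt_orderOf (by positivity)
    rw [hoa]
    exact Nat.pow_lt_pow_right (by norm_num) (by omega)
  have hzC : z ∈ C := by
    rw [hmemC]
    have := conj_involution_of_zpowers a x z (hnorm x) (hAz ▸ hzA) hzz hz1
    exact (mul_inv_eq_iff_eq_mul.mp this).symm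
  have hrel : A.relIndex C = 2 := by
    have h1 : A.relIndex C ∣ 2 := hAi ▸ Subgroup.relIndex_dvd_index_of_normal A C
    rcases (Nat.dvd_prime Nat.prime_two).mp h1 with h | h
    · exact absurd (Subgroup.relIndex_eq_one.mp h hxC) hxA
    · exact h
  have hcardAC : Nat.card (A ⊓ C : Subgroup S) = 2 := by
    have h1 := Subgroup.relIndex_mul_relIndex ⊥ (A ⊓ C) C bot_le inf_le_right
    rw [Subgroup.relIndex_bot_left, Subgroup.relIndex_bot_left, Subgroup.inf_relIndex_right, hrel,
      hC] at h1
    omega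
  have hAC : ∀ b : S, b ∈ A → b ∈ C → b = 1 ∨ b = z := by
    intro b hbA hbC
    by_contra hcon
    push Not at hcon
    obtain ⟨y, -, hy⟩ := (Nat.card_eq_two_iff' (1 : (A ⊓ C : Subgroup S))).mp hcardAC
    have e1 := hy ⟨b, hbA, hbC⟩ (by intro h; exact hcon.1 (congrArg Subtype.val h))
    have e2 := hy ⟨z, hzA, hzC⟩ (by intro h; exact hz1 (congrArg Subtype.val h))
    exact hcon.2 (congrArg Subtype.val (e1.trans e2.symm))
  have hAcomm : ∀ u ∈ A, ∀ v ∈ A, u * v = v * u := by
    intro u hu v hv
    rw [hAz] at hu hv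
    obtain ⟨i, rfl⟩ := Subgroup.mem_zpowers_iff.mp hu
    obtain ⟨k, rfl⟩ := Subgroup.mem_zpowers_iff.mp hv
    rw [← zpow_add, ← zpow_add, add_comm]
  have hxaA : x * a * x⁻¹ ∈ A := hAn.conj_mem a haA x
  have hbA : a * (x * a * x⁻¹) ∈ A := A.mul_mem haA hxaA
  have hbC : a * (x * a * x⁻¹) ∈ C := by
    rw [hmemC, hxinv]
    have h1 := hAcomm a haA _ hxaA
    rw [hxinv] at h1
    calc a * (x * a * x) * x = a * (x * a) * (x * x) := by simp only [mul_assoc]
      _ = a * (x * a) := by rw [hx2, mul_one]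
      _ = a * (x * a * x) * x := by
        simp only [mul_assoc]; rw [hx2, mul_one]
      _ = (x * a * x) * a * x := by rw [h1]
      _ = x * (a * (x * a * x)) := by simp only [mul_assoc]
  have ha1 : a ≠ 1 := by
    intro h
    rw [h, orderOf_one] at hoa
    have : 2 ^ 1 ≤ 2 ^ (n - 1) := Nat.pow_le_pow_right (by norm_num) (by omega)
    omega
  have htop : ∀ H : Subgroup S, a ∈ H → x ∈ H → H = ⊤ := by
    intro H haH hxH
    have hAH : A ≤ H := by
      rw [hAz, Subgroup.zpowers_le]
      exact haH
    have h1 : H.index ∣ 2 := hAi ▸ Subgroup.index_dvd_of_le hAH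
    rcases (Nat.dvd_prime Nat.prime_two).mp h1 with h | h
    · exact Subgroup.index_eq_one.mp h
    · exfalso
      have h2 := Subgroup.relIndex_mul_index hAH
      rw [h, hAi] at h2
      have h3 : A.relIndex H = 1 := by omega
      exact hxA (Subgroup.relIndex_eq_one.mp h3 hxH)
  rcases hAC _ hbA hbC with hb | hb
  · -- dihedral
    left
    have hxa : x * a = a⁻¹ * x := by
      have h1 : x * a * x⁻¹ = a⁻¹ := (eq_inv_of_mul_eq_one_right hb)
      exact mul_inv_eq_iff_eq_mul.mp h1
    have hyy : (x * a) * (x * a) = 1 := by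
      calc (x * a) * (x * a) = (a⁻¹ * x) * (x * a) := by rw [hxa]
        _ = a⁻¹ * (x * x) * a := by simp only [mul_assoc]
        _ = 1 := by rw [hx2, mul_one, inv_mul_cancel]
    have hy1 : x * a ≠ 1 := by
      intro h
      apply hxA
      rw [eq_inv_of_mul_eq_one_left h]
      exact A.inv_mem haA
    have hy : orderOf (x * a) = 2 := orderOf_eq_prime (by rw [pow_two]; exact hyy) hy1
    have hxy : x ≠ x * a := by
      intro h
      exact ha1 (left_eq_mul.mp h)
    obtain ⟨e⟩ := Cfsg.Agent.S0206.result x (x * a) hx hy hxy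
    have hcl : Subgroup.closure ({x, x * a} : Set S) = ⊤ := by
      apply htop
      · have h1 : x ∈ Subgroup.closure ({x, x * a} : Set S) := Subgroup.subset_closure (by simp)
        have h2 : x * a ∈ Subgroup.closure ({x, x * a} : Set S) := Subgroup.subset_closure (by simp)
        have h3 := mul_mem (inv_mem h1) h2
        rwa [inv_mul_cancel_left] at h3
      · exact Subgroup.subset_closure (by simp)
    exact ⟨_, ⟨(Subgroup.topEquiv.symm.trans (MulEquiv.subgroupCongr hcl.symm)).trans e⟩⟩
  · right; left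
    have hn4 : 4 ≤ n := by
      by_contra hlt
      have hn3' : n = 3 := by omega
      subst hn3'
      have hz' : z = a * a := by
        rw [hz]
        norm_num [pow_two]
      rw [hz'] at hb
      have h1 : x * a * x⁻¹ = a := mul_left_cancel hb
      have h2 : a ∈ C := by
        rw [hmemC]
        exact (mul_inv_eq_iff_eq_mul.mp h1).symm
      rcases hAC a haA h2 with h | h
      · exact ha1 h
      · rw [hz'] at h
        exact ha1 (left_eq_mul.mp h)
    refine ⟨n - 1, by omega, ?_, a, x, hoa, hx, ?_⟩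
    · rw [hn]
      congr 1
      omega
    · have h1 : n - 1 - 1 = n - 2 := by omega
      rw [h1]
      have h2 : a * a ^ (2 ^ (n - 2) - 1) = a ^ (2 ^ (n - 2)) :=
        mul_pow_sub_one (by positivity) a
      rw [← hz, ← hb] at h2
      exact (mul_left_cancel h2).symm

end Cfsg.Agent.S3224
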