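import Cfsg.Statements.S0225
import Cfsg.Agent.S0215
import Cfsg.Agent.Lib.Helper6Klein

set_option autoImplicit false
open Cfsg

namespace Cfsg.Agent.S0225

/-- a nontrivial `2`-subgroup without Klein four-subgroups has a unique involution -/
theorem unique_involution {G : Type*} [Group G] [Finite G]
    (hrank : ∀ E : Subgroup G, ¬ IsKleinFour E) (heven : Even (Nat.card G)) (P : Sylow 2 G) :
    ∃ z ∈ P, orderOf z = 2 ∧ ∀ v ∈ P, orderOf v = 2 → v = z := by
  have hP2 : 2 ∣ Nat.card P := by
    have := P.card_eq_multiplicity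
    rw [this]
    apply dvd_pow_self
    have h2 : 2 ∣ Nat.card G := heven.two_dvd
    exact (Nat.Prime.factorization_pos_of_dvd Nat.prime_two Nat.card_pos.ne' h2).ne'
  have hnt : Nontrivial P := by
    rw [← Finite.one_lt_card_iff_nontrivial]
    exact lt_of_lt_of_le one_lt_two (Nat.le_of_dvd Nat.card_pos hP2)
  have hZ : Nontrivial (Subgroup.center P) := P.2.center_nontrivial
  have hZ2 : 2 ∣ Nat.card (Subgroup.center P) := by
    obtain ⟨k, hk⟩ := (P.2.to_subgroup (Subgroup.center P)).exists_card_eq
    rw [hk]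
    apply dvd_pow_self
    rintro rfl
    rw [pow_zero] at hk
    have := Finite.one_lt_card_iff_nontrivial.2 hZ
    omega
  obtain ⟨z, hz⟩ := exists_prime_orderOf_dvd_card' 2 hZ2
  refine ⟨z.1.1, z.1.2, ?_, ?_⟩
  · rw [Subgroup.orderOf_coe, Subgroup.orderOf_coe, hz]
  · intro v hv hv2
    by_contra hne
    have hcomm : v * z.1.1 = z.1.1 * v := by
      have := Subgroup.mem_center_iff.1 z.2 ⟨v, hv⟩
      exact congrArg Subtype.val this
    obtain ⟨E, hE, -, -⟩ := Cfsg.Agent.Lib.Helper6Klein.exists_kleinFour hv2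
      (by rw [Subgroup.orderOf_coe, Subgroup.orderOf_coe, hz]) hcomm hne
    exact hrank E hE

/-- If a finite group G has even order but contains no Klein four-subgroup (2-rank 1), then some involution z of G is central modulo a normal subgroup of odd order: there is a normal subgroup N of odd order containing every commutator z g z⁻¹ g⁻¹. -/
theorem result {G : Type*} [Group G] [Finite G] (heven : Even (Nat.card G)) (hrank : ∀ E : Subgroup G, ¬ IsKleinFour E) : ∃ z : G, orderOf z = 2 ∧ ∃ N : Subgroup G, N.Normal ∧ Odd (Nat.card N) ∧ ∀ g : G, z * g * z⁻¹ * g⁻¹ ∈ N := by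
  obtain ⟨P⟩ : Nonempty (Sylow 2 G) := inferInstance
  obtain ⟨z, hzP, hz2, huniq⟩ := unique_involution hrank heven P
  refine ⟨z, hz2, Cfsg.Agent.S0215.result P z hz2 hzP ?_⟩
  intro g hg
  apply huniq _ hg
  rw [← hz2]
  have := (MulAut.conj g).orderOf_eq z
  simpa using this

end Cfsg.Agent.S0225
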