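import Cfsg.Statements.S0339
import Cfsg.Agent.Lib.Helper15Zass
import Mathlib

set_option autoImplicit false
open Cfsg

namespace Cfsg.Agent.S0339

open MulAction Cfsg.Agent.Lib.Helper15Zass Cfsg.Agent.Lib.Helper15TwoTrans

/-- A non-trivial normal subgroup of a Zassenhaus group is itself a Zassenhaus group on the same set. -/
theorem result {G Ω : Type*} [Group G] [MulAction G Ω] [Finite Ω]
    (hZ : Cfsg.IsZassenhausGroup G Ω) (N : Subgroup G) [N.Normal] (hN : N ≠ ⊥) :
    Cfsg.IsZassenhausGroup N Ω := by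
  classical
  have h2N := normal_two_pretrans hZ N hN
  obtain ⟨hNtr, hfix⟩ := normal_fix hZ N hN
  obtain ⟨hf, h2t, h3, ⟨g0, hg0, a0, b0, hab0, -, -⟩, h5⟩ := hZ
  have hfin : Finite G := finite_of_faithful G Ω
  have : Fintype Ω := Fintype.ofFinite Ω
  have hne : Nonempty Ω := ⟨a0⟩
  refine ⟨inferInstance, h2N, ?_, ?_, ?_⟩
  · rintro ⟨g, hg⟩ a b c hab hbc hac ha hb hc
    exact Subtype.ext (h3 g a b c hab hbc hac ha hb hc)
  · obtain ⟨ν, hν, hν1, ha, hb⟩ := hfix a0 b0 hab0
    exact ⟨⟨ν, hν⟩, fun e => hν1 (congrArg Subtype.val e), a0, b0, hab0, ha, hb⟩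
  · intro R hR hRtr
    by_contra hcon
    push Not at hcon
    have hRs : ∀ (r : R) (a : Ω), r • a = a → r = 1 := by
      intro r a ha
      have : r ∈ stabilizer R a := ha
      rw [hcon a] at this
      exact this
    have hRcard : Nat.card R = Nat.card Ω :=
      le_antisymm (card_le_of_semiregular hRs) card_ge_of_pretransitive
    have key : ∀ g : G, R.map (MulAut.conjNormal g : MulAut N).toMonoidHom ≤ R := by
      intro g
      set S : Subgroup N := R.map (MulAut.conjNormal g : MulAut N).toMonoidHom with hS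
      have hSn : S.Normal := hR.map _ (MulAut.conjNormal g : MulAut N).surjective
      have hScard : Nat.card S = Nat.card Ω := by
        rw [hS, Subgroup.card_map_of_injective
          (f := (MulAut.conjNormal g : MulAut N).toMonoidHom) (MulAut.conjNormal g : MulAut N).injective,
          hRcard]
      have hTn : (R ⊔ S).Normal := inferInstance
      have hTtr : IsPretransitive (R ⊔ S : Subgroup N) Ω := by
        refine ⟨fun x y => ?_⟩
        obtain ⟨r, hr⟩ := exists_smul_eq R x y
        exact ⟨⟨r.1, le_sup_left (a := R) r.2⟩, hr⟩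
      have hdvd : Nat.card (R ⊔ S : Subgroup N) ∣ Fintype.card Ω * Fintype.card Ω := by
        have := card_sup_dvd R S
        rwa [hRcard, hScard, Nat.card_eq_fintype_card (α := Ω)] at this
      have hreg := regular_of_card_dvd_sq h2N (R ⊔ S) hTtr hdvd
      have hTs : ∀ (r : (R ⊔ S : Subgroup N)) (a : Ω), r • a = a → r = 1 := by
        rintro ⟨r, hr⟩ a ha
        exact Subtype.ext (hreg r hr a ha)
      have hle : Nat.card (R ⊔ S : Subgroup N) ≤ Nat.card R := by
        rw [hRcard]; exact card_le_of_semiregular hTs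
      have := Subgroup.eq_of_le_of_card_ge (le_sup_left : R ≤ R ⊔ S) hle
      rw [this]
      exact le_sup_right
    have hn : (R.map N.subtype).Normal := by
      constructor
      rintro _ ⟨r, hr, rfl⟩ g
      refine ⟨MulAut.conjNormal g r, key g ⟨r, hr, rfl⟩, ?_⟩
      simp [MulAut.conjNormal_apply]
    have htr : IsPretransitive (R.map N.subtype) Ω := by
      refine ⟨fun x y => ?_⟩
      obtain ⟨r, hr⟩ := exists_smul_eq R x y
      exact ⟨⟨r.1.1, ⟨r.1, r.2, rfl⟩⟩, hr⟩
    obtain ⟨a, ha⟩ := h5 _ hn htr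
    apply ha
    rw [eq_bot_iff]
    rintro ⟨_, ⟨r, hr, rfl⟩⟩ hk
    have := hRs ⟨r, hr⟩ a hk
    have h1 : r = 1 := congrArg Subtype.val this
    subst h1
    rfl

end Cfsg.Agent.S0339
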