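import Cfsg.Statements.S0731
import Cfsg.Agent.Lib.Helper16FeitC
import Cfsg.Agent.Lib.Helper26Dat
import Cfsg.Agent.S0742
import Mathlib

set_option autoImplicit false
open Cfsg

namespace Cfsg.Agent.S0731

open Cfsg.Agent.Helper16Feit Cfsg.Agent.Lib.Helper61Feit Cfsg.Agent.Lib.Helper61Feit2
  Cfsg.Agent.Lib.Helper61Feit3

/-- sharp triple transitivity when the two point stabiliser is as large as possible -/
theorem sharp3 {G Ω : Type*} [Group G] [Finite G] [MulAction G Ω] [Finite Ω] {h : ℕ}
    (D : TData G Ω h) {a b : Ω} (hab : a ≠ b) (he : Nat.card (stab2 G a b) + 1 = h) :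
    MulAction.IsMultiplyPretransitive G Ω 3 ∧ ∀ t : Fin 3 ↪ Ω, MulAction.stabilizer G t = ⊥ := by
  classical
  letI : Fintype Ω := Fintype.ofFinite Ω
  have htr : ∀ c d : Ω, c ≠ a → c ≠ b → d ≠ a → d ≠ b → ∃ s ∈ stab2 G a b, s • c = d := by
    intro c d hca hcb hda hdb
    have hfix : ∀ s : stab2 G a b, (s : G) • c ≠ a ∧ (s : G) • c ≠ b := by
      intro s
      have hs := mem_stab2.1 s.2
      constructor
      · intro h1
        exact hca (smul_left_cancel (s : G) (h1.trans hs.1.symm))
      · intro h1
        exact hcb (smul_left_cancel (s : G) (h1.trans hs.2.symm))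
    let φ : stab2 G a b → {z : Ω // z ≠ a ∧ z ≠ b} := fun s => ⟨(s : G) • c, hfix s⟩
    have hinj : Function.Injective φ := by
      intro s t hst
      have h1 : (s : G) • c = (t : G) • c := congrArg Subtype.val hst
      have hs := mem_stab2.1 s.2
      have ht := mem_stab2.1 t.2
      have h2 : (t : G)⁻¹ * (s : G) = 1 := by
        apply D.three_point _ a b c hab (Ne.symm hcb) (Ne.symm hca)
        · rw [mul_smul, hs.1, inv_smul_eq_iff, ht.1]
        · rw [mul_smul, hs.2, inv_smul_eq_iff, ht.2]
        · rw [mul_smul, h1, inv_smul_smul]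
      apply Subtype.ext
      exact (inv_mul_eq_one.1 h2).symm
    have hcard : Nat.card {z : Ω // z ≠ a ∧ z ≠ b} ≤ Nat.card (stab2 G a b) := by
      rw [Nat.card_eq_fintype_card, Fintype.card_subtype]
      have h1 : Finset.univ.filter (fun z : Ω => z ≠ a ∧ z ≠ b)
          = (Finset.univ.erase a).erase b := by
        ext z
        simp only [Finset.mem_filter, Finset.mem_univ, true_and, Finset.mem_erase, and_true]
        tauto
      rw [h1, Finset.card_erase_of_mem (Finset.mem_erase.2 ⟨hab.symm, Finset.mem_univ _⟩),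
        Finset.card_erase_of_mem (Finset.mem_univ _), Finset.card_univ,
        ← Nat.card_eq_fintype_card, D.card_O]
      omega
    obtain ⟨s, hs⟩ := (Function.Injective.bijective_of_nat_card_le hinj hcard).2 ⟨d, hda, hdb⟩
    exact ⟨s, s.2, congrArg Subtype.val hs⟩
  constructor
  · refine ⟨fun s t => ?_⟩
    have hs01 : s 0 ≠ s 1 := fun h => by simpa using s.injective h
    have hs02 : s 0 ≠ s 2 := fun h => by simpa using s.injective h
    have hs12 : s 1 ≠ s 2 := fun h => by simpa using s.injective h
    have ht01 : t 0 ≠ t 1 := fun h => by simpa using t.injective h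
    have ht02 : t 0 ≠ t 2 := fun h => by simpa using t.injective h
    have ht12 : t 1 ≠ t 2 := fun h => by simpa using t.injective h
    obtain ⟨g1, h1a, h1b⟩ := exists_smul_pair D hs01 hab
    obtain ⟨g2, h2a, h2b⟩ := exists_smul_pair D ht01 hab
    obtain ⟨k, hk, hkc⟩ := htr (g1 • s 2) (g2 • t 2)
      (fun h => hs02 (smul_left_cancel g1 (h1a.trans h.symm)))
      (fun h => hs12 (smul_left_cancel g1 (h1b.trans h.symm)))
      (fun h => ht02 (smul_left_cancel g2 (h2a.trans h.symm)))
      (fun h => ht12 (smul_left_cancel g2 (h2b.trans h.symm)))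
    have hk' := mem_stab2.1 hk
    refine ⟨g2⁻¹ * k * g1, ?_⟩
    ext i
    rw [Function.Embedding.smul_apply]
    fin_cases i
    · show (g2⁻¹ * k * g1) • s 0 = t 0
      rw [mul_smul, mul_smul, h1a, hk'.1, inv_smul_eq_iff, h2a]
    · show (g2⁻¹ * k * g1) • s 1 = t 1
      rw [mul_smul, mul_smul, h1b, hk'.2, inv_smul_eq_iff, h2b]
    · show (g2⁻¹ * k * g1) • s 2 = t 2
      rw [mul_smul, mul_smul, hkc, inv_smul_smul]
  · intro t
    rw [eq_bot_iff]
    intro g hg
    rw [MulAction.mem_stabilizer_iff] at hg
    have hgi : ∀ i, g • t i = t i := fun i => by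
      have := DFunLike.congr_fun hg i
      rwa [Function.Embedding.smul_apply] at this
    rw [Subgroup.mem_bot]
    exact D.three_point g (t 0) (t 1) (t 2) (fun h => by simpa using t.injective h)
      (fun h => by simpa using t.injective h) (fun h => by simpa using t.injective h)
      (hgi 0) (hgi 1) (hgi 2)

/-- A finite Zassenhaus group whose point stabiliser has an abelian regular normal subgroup on the remaining points is sharply triply transitive or isomorphic to `PSL(2, F)` for a finite field `F` of odd characteristic. -/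
theorem result {G Ω : Type*} [Group G] [Finite G] [MulAction G Ω] [Finite Ω] (hZ : Cfsg.IsZassenhausGroup G Ω) (x : Ω) (F : Subgroup G) (hFle : F ≤ MulAction.stabilizer G x) (hFn : (F.subgroupOf (MulAction.stabilizer G x)).Normal) (hFab : IsMulCommutative F) (hreg : ∀ y z : Ω, y ≠ x → z ≠ x → ∃! u : F, (u : G) • y = z) : (MulAction.IsMultiplyPretransitive G Ω 3 ∧ ∀ t : Fin 3 ↪ Ω, MulAction.stabilizer G t = ⊥) ∨ ∃ (K : Type) (_ : Field K) (_ : Fintype K), ringChar K ≠ 2 ∧ Nonempty (G ≃* Matrix.ProjectiveSpecialLinearGroup (Fin 2) K) := by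
  classical
  letI : Fintype Ω := Fintype.ofFinite Ω
  obtain ⟨y, hyx⟩ : ∃ y : Ω, y ≠ x := by
    obtain ⟨-, -, c, d, hcd, -, -⟩ := hZ.2.2.2.1
    by_cases hc : c = x
    · exact ⟨d, fun h => hcd (hc.trans h.symm)⟩
    · exact ⟨c, hc⟩
  obtain ⟨h, hh⟩ : ∃ h, Nat.card Ω = h + 1 := ⟨Nat.card Ω - 1, by
    have : 0 < Nat.card Ω := Nat.card_pos_iff.2 ⟨⟨x⟩, inferInstance⟩
    omega⟩
  have D := tdata_of_zass hZ hh
  have hxy : x ≠ y := hyx.symm
  have hHab : ∀ u ∈ F, ∀ v ∈ F, u * v = v * u := fun u hu v hv =>
    congrArg Subtype.val (hFab.is_comm.comm (⟨u, hu⟩ : F) ⟨v, hv⟩)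
  have K : KData G Ω x h F := by
    refine ⟨hFle, ?_, ?_⟩
    · have hfix : ∀ u : F, (u : G) • y ≠ x := by
        intro u hu
        exact hyx (smul_left_cancel (u : G) (hu.trans (hFle u.2).symm))
      have hbij : Function.Bijective (fun u : F => (⟨(u : G) • y, hfix u⟩ : {z : Ω // z ≠ x})) := by
        constructor
        · intro u v huv
          have h1 : (u : G) • y = (v : G) • y := congrArg Subtype.val huv
          exact (hreg y ((v : G) • y) hyx (hfix v)).unique h1 rfl
        · rintro ⟨z, hz⟩
          obtain ⟨u, hu, -⟩ := hreg y z hyx hz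
          exact ⟨u, Subtype.ext hu⟩
      rw [Nat.card_congr (Equiv.ofBijective _ hbij), Nat.card_eq_fintype_card,
        Fintype.card_subtype_compl, Fintype.card_subtype_eq, ← Nat.card_eq_fintype_card, hh]
      rfl
    · intro u hu hu1 c hc
      by_contra hcx
      apply hu1
      have h1 := (hreg c c hcx hcx).unique (y₁ := (⟨u, hu⟩ : F)) (y₂ := 1) hc (one_smul _ _)
      exact congrArg Subtype.val h1
  have he2 := two_le_card_stab2 hZ hh hxy
  have hh2 := two_le_h hZ hh
  have hdvd := dvd_sub_one D hxy he2 hh2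
  obtain ⟨q, hq⟩ := hdvd
  have hcardΩ : Fintype.card Ω = h + 1 := by rw [← Nat.card_eq_fintype_card, hh]
  by_cases hq1 : q = 1
  · left
    apply sharp3 D hxy
    rw [hq1, mul_one] at hq
    omega
  have hq2 : 2 ≤ q := by
    rcases Nat.eq_zero_or_pos q with h0 | h0
    · rw [h0, mul_zero] at hq; omega
    · omega
  have hle : 2 * Nat.card (stab2 G x y) ≤ h - 1 := by
    rw [hq, mul_comm]
    exact Nat.mul_le_mul_left _ hq2
  right
  rcases Nat.even_or_odd (Nat.card (stab2 G x y)) with heven | hodd
  · obtain ⟨p, f, K', iF, iFt, hp, hp2, hcard, -, hiso⟩ := Cfsg.Agent.S0742.result hZ hxy heven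
      (by rw [hcardΩ]; exact hle.trans (by omega))
    refine ⟨K', iF, iFt, ?_, hiso⟩
    intro hchar
    haveI : CharP K' 2 := by rw [← hchar]; exact ringChar.charP K'
    obtain ⟨n, -, hn⟩ := FiniteField.card K' 2
    rw [hcard] at hn
    have h1 : 2 ∣ p ^ f := by
      rw [hn]
      exact dvd_pow_self 2 n.pos.ne'
    have h2 := Nat.Prime.dvd_of_dvd_pow Nat.prime_two h1
    exact hp2 ((Nat.prime_dvd_prime_iff_eq Nat.prime_two hp).1 h2).symm
  · have hfeit := feit_ab hh hxy (Nat.card G) G hZ hodd F K hHab rfl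
    have heq : 2 * Nat.card (stab2 G x y) = h - 1 := le_antisymm hle hfeit
    haveI := simple_of_eq hZ hh hxy hodd K hHab heq
    have hodd' : Odd (Nat.card (stab2 G y x)) := by
      rw [card_stab2_eq D hyx hxy]; exact hodd
    obtain ⟨v, hv1, hv2⟩ := exists_smul_pair D hyx hxy
    have hdat : Cfsg.Agent.Lib.Helper26Dat.Datum y x F (stab2 G y x) v :=
      { faithful := by
          intro g hg
          have := hZ.1
          apply FaithfulSMul.eq_of_smul_eq_smul (α := Ω)
          intro z
          rw [hg, one_smul]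
        ne := hyx
        U_fix := fun u hu => hFle hu
        U_trans := by
          intro z hz
          obtain ⟨u, hu, -⟩ := hreg y z hyx hz
          exact ⟨u, u.2, hu⟩
        U_free := by
          intro u hu huy
          by_contra hu1
          exact hyx (K.fix u hu hu1 y huy)
        U_comm := hHab
        U_ne := by
          intro hbot
          have := K.card
          rw [hbot, Subgroup.card_bot] at this
          omega
        D_iff := fun g => mem_stab2
        D_norm := fun d hd u hu => K.conj_mem D hxy he2 hh2 (mem_stab2.1 hd).2 hu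
        D_comm := comm hZ hh hyx hodd'
        D_free := by
          intro d hd z hzy hzx hdz
          have hd' := mem_stab2.1 hd
          exact D.three_point d y x z hyx (Ne.symm hzx) (Ne.symm hzy) hd'.1 hd'.2 hdz
        v_o := hv1
        v_i := hv2
        v_inv := inverts hZ hh hyx hodd' hv1 hv2
        card := by
          rw [K.card, card_stab2_eq D hyx hxy]
          omega }
    obtain ⟨K', iF, iFt, -, h1 | ⟨-, hchar, hiso⟩⟩ := hdat.main
    · exfalso
      rw [K.card, card_stab2_eq D hyx hxy] at h1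
      omega
    · exact ⟨K', iF, iFt, hchar, hiso⟩

end Cfsg.Agent.S0731
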