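import Cfsg.Statements.S3282
import Cfsg.Agent.Lib.H74BSWChar
import Cfsg.Agent.Lib.H74BSWPlusF
import Cfsg.Agent.Lib.H74BSWMinusQ

set_option autoImplicit false
open Cfsg

namespace Cfsg.Agent.S3282

open Cfsg.Agent.Lib Cfsg.Agent.Lib.Helper74BSWDefs

theorem result {G : Type*} [Group G] [Finite G] (t : G) (ht : orderOf t = 2)
    (K : Subgroup G) (hKab : IsMulCommutative ↥K) (hKH : K ≤ Subgroup.centralizer ({t} : Set G)) (htK : t ∈ K)
    (s : G) (hs : orderOf s = 2) (hsH : s ∈ Subgroup.centralizer ({t} : Set G)) (hsK : s ∉ K)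
    (hH : K ⊔ Subgroup.zpowers s = Subgroup.centralizer ({t} : Set G)) (hCK : K ⊓ Subgroup.centralizer ({s} : Set G) = Subgroup.zpowers t)
    (hinv : ∀ x ∈ K, s * x * s⁻¹ = x⁻¹)
    (hTI : ∀ g : G, g ∉ Subgroup.centralizer ({t} : Set G) → K ⊓ K.map (MulAut.conj g).toMonoidHom = ⊥)
    (hconj : ∀ x y : G, orderOf x = 2 → orderOf y = 2 → IsConj x y) :
    ∃ Q D : Subgroup G, 2 * Nat.card G = Nat.card ↥Q * (Nat.card ↥Q + 1) * (Nat.card ↥Q - 1) ∧
      (∀ x ∈ Q, x ≠ 1 → Subgroup.centralizer ({x} : Set G) = Q) ∧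
      IsMulCommutative ↥D ∧ 2 * Nat.card ↥D + 1 = Nat.card ↥Q ∧ Q ⊓ D = ⊥ ∧
      Subgroup.normalizer (Q : Set G) = Q ⊔ D ∧
      ∀ X : Subgroup G, X ≤ D → X ≠ ⊥ →
        Subgroup.normalizer (X : Set G) = Subgroup.normalizer (D : Set G) ∧
        ∃ u : G, orderOf u = 2 ∧ u ∉ D ∧ (∀ d ∈ D, u * d * u⁻¹ = d⁻¹) ∧
          Subgroup.normalizer (D : Set G) = D ⊔ Subgroup.zpowers u := by
  have h : BSW t s K :=
    { ht := ht
      hab := fun a ha b hb => by
        have := hKab.is_comm.comm ⟨a, ha⟩ ⟨b, hb⟩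
        exact congrArg Subtype.val this
      hKH := hKH
      htK := htK
      hs := hs
      hsH := hsH
      hsK := hsK
      hH := hH
      hCK := hCK
      hinv := hinv
      hTI := hTI
      hconj := hconj }
  rcases H74BSWChar.char_main h with hP | hM
  · exact H74BSWPlusF.plus_concl h hP
  · exact H74BSWMinusQ.minus_concl h hM

end Cfsg.Agent.S3282
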