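import Cfsg.Statements.S0508
import Cfsg.Agent.S3282
import Cfsg.Agent.Lib.H74BSWDihB
import Cfsg.Agent.Lib.H74BSWZassC

set_option autoImplicit false
open Cfsg

namespace Cfsg.Agent.S0508

/-- Let G be a finite simple group with a dihedral Sylow 2-subgroup S (of order at least 4), t an involution in the
centre of S, C the centralizer of t and O the core of C (its largest normal subgroup of odd order). Suppose that: if O
is nontrivial then the centralizer of O in S is cyclic of index 2 in S; every element of S not centralizing O inverts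
every element of O; and the normalizer of every nontrivial subgroup of O lies in C. Then G is isomorphic to a projective
special linear group of dimension 2 over a field of odd order. -/
theorem result {G : Type*} [Group G] [Finite G] [IsSimpleGroup G] (S : Sylow 2 G) (n : ℕ)
    (hn : 2 ≤ n) (hS : Nonempty ((S : Subgroup G) ≃* DihedralGroup n)) (t : G) (ht : orderOf t = 2)
    (htS : t ∈ (S : Subgroup G))
    (htZ : ∀ s ∈ (S : Subgroup G), s * t = t * s) (O : Subgroup G)
    (hO : O = (Cfsg.oddCore (Subgroup.centralizer ({t} : Set G))).map (Subgroup.centralizer ({t} : Set G)).subtype)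
    (ha : O ≠ ⊥ → IsCyclic ((S : Subgroup G) ⊓ Subgroup.centralizer (O : Set G) : Subgroup G) ∧
      ((S : Subgroup G) ⊓ Subgroup.centralizer (O : Set G)).relIndex (S : Subgroup G) = 2)
    (hb : ∀ s ∈ (S : Subgroup G), s ∉ Subgroup.centralizer (O : Set G) → ∀ y ∈ O, s * y * s⁻¹ = y⁻¹)
    (hc : ∀ Y : Subgroup G, Y ≤ O → Y ≠ ⊥ → Subgroup.normalizer (Y : Set G) ≤ Subgroup.centralizer ({t} : Set G)) :
    ∃ (F : Type) (_ : Field F) (_ : Fintype F), Odd (Fintype.card F) ∧ Nonempty (G ≃* Matrix.ProjectiveSpecialLinearGroup (Fin 2) F) := by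
  obtain ⟨s, K, h⟩ := Cfsg.Agent.Lib.H74BSWDihB.exists_bsw S n hn hS t ht htS htZ O hO ha hb hc
  have hcl : Cfsg.Agent.Lib.Helper74BSWDefs.Concl G :=
    Cfsg.Agent.S3282.result t h.ht K ⟨⟨fun a b => Subtype.ext (h.hab a a.2 b b.2)⟩⟩ h.hKH h.htK s h.hs h.hsH h.hsK
      h.hH h.hCK h.hinv h.hTI h.hconj
  refine Cfsg.Agent.Lib.H74BSWZassC.psl_of_concl ?_ hcl
  by_contra hcon
  push Not at hcon
  -- `G` abelian: then `s` would be inverted/centralised ... use `hTI`-free argument: `s ∈ K`?
  have h1 : s * t = t * s := hcon s t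
  obtain ⟨g, hg⟩ := isConj_iff.mp (h.hconj t s h.ht h.hs)
  have h2 : s = t := by
    rw [← hg, hcon g t]; simp
  exact h.hsK (h2 ▸ h.htK)

end Cfsg.Agent.S0508
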