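import Cfsg.Statements.S0081
import Cfsg.Agent.Lib.Helper2Tate

set_option autoImplicit false
open Cfsg

namespace Cfsg.Agent.S0081

open Subgroup Cfsg.Agent.Lib.Helper2Tate

/-- If a normal subgroup meets a Sylow p-subgroup P inside the Frattini subgroup of P, then it has a normal p-complement. -/
theorem result {G : Type*} [Group G] [Finite G] {p : ℕ} [Fact p.Prime] (P : Sylow p G) (N : Subgroup G) [N.Normal] (h : N ⊓ (P : Subgroup G) ≤ (frattini P).map (P : Subgroup G).subtype) : Cfsg.HasNormalPComplement p N := by
  apply hasNormalPComplement_of_coprime_pResidual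
  have hn := normal_closure_coprime p N
  have h1 := tate_frattini P _ (closure_coprime_gen p N)
    ((inf_le_inf_left _ (closure_coprime_le p N)).trans (by rw [inf_comm]; exact h))
  have h2 := coprime_card_of_sylow_inf_eq_bot P _ h1
  rw [← map_pResidual] at h2
  rwa [Nat.card_congr ((Cfsg.pResidual p N).equivMapOfInjective N.subtype
    N.subtype_injective).symm.toEquiv] at h2

end Cfsg.Agent.S0081
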