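import Cfsg.Statements.S1317
-- import your own Cfsg.Agent.* helpers here
import Cfsg.Agent.Lib.Helper28Layer

set_option autoImplicit false
open Cfsg

namespace Cfsg.Agent.S1317

open Subgroup Cfsg.Agent.Lib.Helper28Comp Cfsg.Agent.Lib.Helper28Fitting Cfsg.Agent.Lib.Helper28Layer

/-- For a finite group X, the centre of the layer E(X) is F(X) ∩ E(X). -/
theorem result {X : Type*} [Group X] [Finite X] : (Subgroup.center ↥(Cfsg.layer X)).map (Cfsg.layer X).subtype = Cfsg.fittingSubgroup X ⊓ Cfsg.layer X := by
  have hE : NormIn (Cfsg.layer X) ⊤ := by rw [layer_eq]; exact layerIn_normIn _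
  have hEn : (Cfsg.layer X).Normal := normIn_top_iff.mp hE
  have hmap : (Subgroup.center ↥(Cfsg.layer X)).map (Cfsg.layer X).subtype =
      Cfsg.layer X ⊓ centralizer (Cfsg.layer X : Set X) := by
    apply le_antisymm
    · exact le_inf (map_subtype_le _) (map_subtype_le_centralizer_iff.mpr le_rfl)
    · intro x hx
      refine ⟨⟨x, hx.1⟩, ?_, rfl⟩
      have : ((Cfsg.layer X ⊓ centralizer (Cfsg.layer X : Set X)).subgroupOf (Cfsg.layer X)) ≤
          Subgroup.center ↥(Cfsg.layer X) := by
        rw [← map_subtype_le_centralizer_iff, map_subgroupOf_eq_of_le inf_le_left]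
        exact inf_le_right
      exact this (by rw [mem_subgroupOf]; exact hx)
  rw [hmap]
  apply le_antisymm
  · refine le_inf ?_ inf_le_left
    have hn : (Cfsg.layer X ⊓ centralizer (Cfsg.layer X : Set X)).Normal := inferInstance
    apply le_fitting hn
    have hc : IsMulCommutative ↥(Cfsg.layer X ⊓ centralizer (Cfsg.layer X : Set X)) := by
      rw [← commutator_self_eq_bot_iff, commutator_eq_bot_iff_le_centralizer]
      exact inf_le_right.trans (centralizer_le inf_le_left)
    exact (Subgroup.isNilpotent_of_lowerCentralSeries_eq_bot (n := 1)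
      (by
        change ⁅_, _⁆ = ⊥
        exact commutator_self_eq_bot_iff.mpr hc))
  · refine le_inf inf_le_right ?_
    refine inf_le_left.trans ?_
    rw [← commutator_eq_bot_iff_le_centralizer, commutator_comm, layer_eq, fitting_eq]
    exact commutator_layerIn_fittingIn _

end Cfsg.Agent.S1317
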