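import Cfsg.Statements.S1307

import Cfsg.Agent.S0215
import Cfsg.Agent.Lib.Helper1UniqInv
import Cfsg.Agent.Lib.Helper28Comp
set_option autoImplicit false
open Cfsg

namespace Cfsg.Agent.S1307

theorem inv_eq {L : Type*} [Group L] [Finite L] (hrk : Cfsg.PRankLE 2 1 L) {a b : L}
    (hab : a * b = b * a) (ha : a ^ 2 = 1) (hb : b ^ 2 = 1) (ha1 : a ≠ 1) (hb1 : b ≠ 1) : a = b := by
  by_contra hne
  have hcomm : ∀ x ∈ ({a, b} : Set L), ∀ y ∈ ({a, b} : Set L), x * y = y * x := by
    intro x hx y hy
    rcases hx with rfl | rfl <;> rcases hy with rfl | rfl <;> first | rfl | exact hab | exact hab.symm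
  have hA : IsMulCommutative (Subgroup.closure ({a, b} : Set L)) :=
    Subgroup.isMulCommutative_closure hcomm
  have hexp : ∀ x ∈ Subgroup.closure ({a, b} : Set L), x ^ 2 = 1 := by
    intro x hx
    induction hx using Subgroup.closure_induction with
    | mem x hx => rcases hx with rfl | rfl <;> assumption
    | one => simp
    | mul x y hx hy ihx ihy =>
      have hxy : Commute x y := by
        have := hA.is_comm.comm ⟨x, hx⟩ ⟨y, hy⟩
        exact congrArg Subtype.val this
      rw [hxy.mul_pow, ihx, ihy, one_mul]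
    | inv x hx ih => rw [inv_pow, ih, inv_one]
  have hcard := hrk _ hA hexp
  have haA : a ∈ Subgroup.closure ({a, b} : Set L) := Subgroup.subset_closure (by simp)
  have hbA : b ∈ Subgroup.closure ({a, b} : Set L) := Subgroup.subset_closure (by simp)
  let f : Fin 3 → Subgroup.closure ({a, b} : Set L) := ![1, ⟨a, haA⟩, ⟨b, hbA⟩]
  have hf : Function.Injective f := by
    intro i j h
    fin_cases i <;> fin_cases j <;> simp [f, Subtype.ext_iff] at h ⊢ <;> first | exact absurd h ha1 | exact absurd h.symm ha1 | exact absurd h hb1 | exact absurd h.symm hb1 | exact absurd h hne | exact absurd h.symm hne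
  have := Nat.card_le_card_of_injective f hf
  simp at this
  omega

theorem ker_top {L A : Type*} [Group L] [Group A] (hp : Group.IsPerfect L) (f : L →* A)
    (hc : ∀ a b : A, a * b = b * a) : ∀ g, f g = 1 := by
  have h : commutator L ≤ f.ker := by
    rw [commutator_def, Subgroup.commutator_le]
    intro g1 _ g2 _
    rw [MonoidHom.mem_ker, commutatorElement_def, map_mul, map_mul, map_mul, map_inv, map_inv,
      hc (f g1) (f g2)]
    group
  rw [hp.commutator_eq_top] at h
  intro g
  exact h (Subgroup.mem_top g)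

theorem key {L : Type*} [Group L] [Finite L] (hq : Cfsg.IsQuasisimple L)
    (heven : Even (Nat.card L)) (hrk : Cfsg.PRankLE 2 1 L) :
    ∃ t : L, orderOf t = 2 ∧ t ∈ Subgroup.center L ∧ ∃ S : Sylow 2 L, ∃ n : ℕ,
      Nonempty (↥(S : Subgroup L) ≃* QuaternionGroup (2 ^ (n + 1))) := by
  have : Fact (Nat.Prime 2) := ⟨Nat.prime_two⟩
  obtain ⟨hperf, hnt, hnorm⟩ := Cfsg.Agent.Lib.Helper28Comp.isQuasisimple_iff.mp hq
  obtain ⟨S⟩ : Nonempty (Sylow 2 L) := inferInstance
  have hSp : IsPGroup 2 (S : Subgroup L) := S.2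
  have h2S : 2 ∣ Nat.card (S : Subgroup L) := S.dvd_card_of_dvd_card heven.two_dvd
  have hSnt : Nontrivial (S : Subgroup L) := by
    rw [← Finite.one_lt_card_iff_nontrivial]
    exact lt_of_lt_of_le (by norm_num) (Nat.le_of_dvd Nat.card_pos h2S)
  have hZnt : Nontrivial (Subgroup.center (S : Subgroup L)) := hSp.center_nontrivial
  have h2Z : 2 ∣ Nat.card (Subgroup.center (S : Subgroup L)) := by
    obtain ⟨k, hk⟩ := (hSp.to_subgroup (Subgroup.center _)).exists_card_eq
    rcases k with _ | k
    · have := Finite.one_lt_card_iff_nontrivial.mpr hZnt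
      rw [pow_zero] at hk
      omega
    · rw [hk, pow_succ]; exact Dvd.intro_left _ rfl
  obtain ⟨z, hz⟩ := exists_prime_orderOf_dvd_card' 2 h2Z
  -- u : the involution
  set u : L := ((z : (S : Subgroup L)) : L) with hu
  have huo : orderOf u = 2 := by rw [hu, Subgroup.orderOf_coe, Subgroup.orderOf_coe, hz]
  have huS : u ∈ S := (z : (S : Subgroup L)).2
  have hu2 : u ^ 2 = 1 := by rw [← huo]; exact pow_orderOf_eq_one u
  have hu1 : u ≠ 1 := by
    intro h; rw [h, orderOf_one] at huo; omega
  have huniq : ∀ a ∈ S, a ^ 2 = 1 → a ≠ 1 → a = u := by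
    intro a ha ha2 ha1
    apply inv_eq hrk _ ha2 hu2 ha1 hu1
    have := Subgroup.mem_center_iff.mp z.2 ⟨a, ha⟩
    exact congrArg Subtype.val this
  have hsub : ∀ H : Subgroup (S : Subgroup L), Nat.card H = 2 →
      H = Subgroup.zpowers (z : (S : Subgroup L)) := by
    intro H hH
    symm
    apply Subgroup.eq_of_le_of_card_ge
    · rw [Subgroup.zpowers_le]
      have : Nontrivial H := by
        rw [← Finite.one_lt_card_iff_nontrivial, hH]; norm_num
      obtain ⟨h, hh⟩ := exists_ne (1 : H)
      have h2 : h ^ 2 = 1 := by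
        have := pow_card_eq_one' (G := H) (x := h)
        rwa [hH] at this
      have : ((h : (S : Subgroup L)) : L) = u := by
        apply huniq _ (h : (S : Subgroup L)).2
        · have := congrArg (fun x : H => ((x : (S : Subgroup L)) : L)) h2
          simpa using this
        · intro h1
          apply hh
          apply Subtype.ext; apply Subtype.ext; simpa using h1
      have h3 : (h : (S : Subgroup L)) = (z : (S : Subgroup L)) := Subtype.ext this
      rw [← h3]; exact h.2
    · rw [hH, Nat.card_zpowers, Subgroup.orderOf_coe, hz]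
  have hncyc : ¬ IsCyclic (S : Subgroup L) := by
    intro hcyc
    have hmin : (Nat.card L).minFac = 2 := (Nat.minFac_eq_two_iff _).mpr heven.two_dvd
    have hcomp := IsCyclic.isComplement' hmin hcyc
    have hker : (MonoidHom.transferSylow S (hcyc.normalizer_le_centralizer hmin)).ker = ⊤ := by
      rw [eq_top_iff]
      intro g _
      rw [MonoidHom.mem_ker]
      apply ker_top hperf
      intro a b
      obtain ⟨c, hc⟩ := hcyc
      obtain ⟨i, rfl⟩ := Subgroup.mem_zpowers_iff.mp (hc a)
      obtain ⟨j, rfl⟩ := Subgroup.mem_zpowers_iff.mp (hc b)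
      rw [← zpow_add, ← zpow_add, add_comm]
    rw [hker, Subgroup.isComplement'_top_left] at hcomp
    have : Nat.card (S : Subgroup L) = 1 := by rw [hcomp]; simp
    rw [this] at h2S
    omega
  have hmain := Cfsg.Agent.Lib.Helper1UniqInv.main 2 hSp
    (fun H K hH hK => (hsub H hH).trans (hsub K hK).symm)
  obtain ⟨n, ⟨e⟩⟩ : ∃ n : ℕ, Nonempty ((S : Subgroup L) ≃* QuaternionGroup (2 ^ n)) := by
    rcases hmain with h | h
    · exact absurd h hncyc
    · exact h.2
  have hn : n ≠ 0 := by
    rintro rfl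
    apply hncyc
    have : IsCyclic (QuaternionGroup (2 ^ 0)) := by
      rw [pow_zero]; exact QuaternionGroup.quaternionGroup_one_isCyclic
    exact isCyclic_of_surjective e.symm e.symm.surjective
  obtain ⟨m, rfl⟩ := Nat.exists_eq_succ_of_ne_zero hn
  -- Z*
  obtain ⟨N, hNn, hNodd, hN⟩ := Cfsg.Agent.S0215.result S u huo huS (by
    intro g hg
    apply huniq _ hg
    · rw [conj_pow, hu2]; group
    · intro h
      apply hu1
      have : u = g⁻¹ * (g * u * g⁻¹) * g := by group
      rw [this, h]; group)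
  have hNZ : N ≤ Subgroup.center L := by
    rcases hnorm N hNn with h | h
    · exfalso
      rw [h, Subgroup.card_top] at hNodd
      exact (Nat.not_even_iff_odd.mpr hNodd) heven
    · exact h
  have hcen : ∀ g : L, u * g * u⁻¹ * g⁻¹ ∈ Subgroup.center L := fun g => hNZ (hN g)
  let φ : L →* Subgroup.center L := MonoidHom.mk' (fun g => ⟨u * g * u⁻¹ * g⁻¹, hcen g⟩) (by
    intro g h
    apply Subtype.ext
    show u * (g * h) * u⁻¹ * (g * h)⁻¹ = (u * g * u⁻¹ * g⁻¹) * (u * h * u⁻¹ * h⁻¹)
    have h1 := Subgroup.mem_center_iff.mp (hcen h) g⁻¹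
    calc u * (g * h) * u⁻¹ * (g * h)⁻¹ = u * g * u⁻¹ * ((u * h * u⁻¹ * h⁻¹) * g⁻¹) := by group
      _ = u * g * u⁻¹ * (g⁻¹ * (u * h * u⁻¹ * h⁻¹)) := by rw [h1]
      _ = _ := by group)
  have hφ := ker_top hperf φ (fun a b => Subtype.ext (Subgroup.mem_center_iff.mp b.2 a.1))
  refine ⟨u, huo, ?_, S, m, ⟨e⟩⟩
  rw [Subgroup.mem_center_iff]
  intro g
  have := congrArg Subtype.val (hφ g)
  have h2 : u * g * u⁻¹ * g⁻¹ = 1 := this
  have h3 : u * g = g * u := by
    calc u * g = (u * g * u⁻¹ * g⁻¹) * (g * u) := by group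
      _ = g * u := by rw [h2, one_mul]
  exact h3.symm

/-- Let G be finite, x an involution and L ≤ C_G(x) a component of C_G(x) of even order and 2-rank 1, such that L is a component of C_G(y) for every involution y ∈ C_G(L). Then some involution of L is a classical involution of G. -/
theorem result {G : Type*} [Group G] [Finite G] (x : G) (hx : orderOf x = 2) (L : Subgroup G) (hLx : L ≤ Subgroup.centralizer ({x} : Set G)) (hL : Cfsg.IsComponent (L.subgroupOf (Subgroup.centralizer ({x} : Set G)))) (heven : Even (Nat.card ↥L)) (hrk : Cfsg.PRankLE 2 1 ↥L) (hne : ∀ y : G, orderOf y = 2 → y ∈ Subgroup.centralizer (L : Set G) → L ≤ Subgroup.centralizer ({y} : Set G) ∧ Cfsg.IsComponent (L.subgroupOf (Subgroup.centralizer ({y} : Set G)))) : ∃ t ∈ L, Cfsg.IsClassicalInvolution t := by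
  have hq : Cfsg.IsQuasisimple L :=
    Cfsg.Agent.Lib.Helper28Comp.isQuasisimple_of_mulEquiv (Subgroup.subgroupOfEquivOfLe hLx) hL.2
  obtain ⟨t, hto, htc, S, n, he⟩ := key hq heven hrk
  have hto' : orderOf (t : G) = 2 := by rw [Subgroup.orderOf_coe, hto]
  have htC : (t : G) ∈ Subgroup.centralizer (L : Set G) := by
    rw [Subgroup.mem_centralizer_iff]
    intro g hg
    have := Subgroup.mem_center_iff.mp htc ⟨g, hg⟩
    exact congrArg Subtype.val this
  obtain ⟨h1, h2⟩ := hne t hto' htC
  exact ⟨t, t.2, hto', L, h1, t.2, h2.1, S, n, he⟩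

end Cfsg.Agent.S1307
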