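import Cfsg.Statements.S0106
import Mathlib
import Cfsg.Agent.Lib.Helper13SL2c
import Cfsg.Agent.Lib.Helper13Section
import Cfsg.Agent.Lib.Helper41Dic
import Cfsg.Agent.Lib.Helper26Quat
import Cfsg.Agent.Lib.Helper11OddAut
import Cfsg.Agent.Lib.Helper11Frobenius

set_option autoImplicit false
open Cfsg

namespace Cfsg.Agent.S0106

section partA
open QuaternionGroup

section model
variable {N : ℕ}

/-- the cyclic subgroup of index two -/
def C0 (N : ℕ) : Subgroup (QuaternionGroup N) where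
  carrier := {x | ∃ t, x = a t}
  mul_mem' := by
    rintro _ _ ⟨s, rfl⟩ ⟨t, rfl⟩
    exact ⟨s + t, a_mul_a s t⟩
  one_mem' := ⟨0, rfl⟩
  inv_mem' := by
    rintro _ ⟨s, rfl⟩
    exact ⟨-s, rfl⟩

lemma a_mem_C0 (t : ZMod (2 * N)) : (a t : QuaternionGroup N) ∈ C0 N := ⟨t, rfl⟩

lemma xa_not_mem_C0 (t : ZMod (2 * N)) : (xa t : QuaternionGroup N) ∉ C0 N := by
  rintro ⟨s, hs⟩
  cases hs

lemma model1 (s t : ZMod (2 * N)) : (xa s * a t * (xa s)⁻¹ : QuaternionGroup N) = (a t)⁻¹ := by
  have h1 : (xa s : QuaternionGroup N)⁻¹ = xa ((N : ZMod (2 * N)) + s) := rfl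
  have h2 : (a t : QuaternionGroup N)⁻¹ = a (-t) := rfl
  rw [h1, h2, xa_mul_a, xa_mul_xa]
  congr 1
  have : ((N : ZMod (2 * N)) + N) = 0 := by
    have := ZMod.natCast_self (2 * N)
    rw [← this]; push_cast; ring
  linear_combination this

lemma model3 [NeZero N] (t : ZMod (2 * N)) (h4 : (a t : QuaternionGroup N) ^ 4 = 1)
    (h2 : (a t : QuaternionGroup N) ^ 2 ≠ 1) : (a t : QuaternionGroup N) ^ 2 = a N := by
  have e2 : (a t : QuaternionGroup N) ^ 2 = a (t + t) := by rw [sq, a_mul_a]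
  have e4 : (a t : QuaternionGroup N) ^ 4 = a (2 * (t + t)) := by
    have : (a t : QuaternionGroup N) ^ 4 = ((a t) ^ 2) ^ 2 := by rw [← pow_mul]
    rw [this, e2, sq, a_mul_a]; congr 1; ring
  rw [e4, one_def] at h4
  rw [e2, one_def] at h2
  rw [e2]
  have h4' : 2 * (t + t) = 0 := by
    injection h4
  rcases (Cfsg.Agent.Lib.Helper41Dic.two_mul_eq_zero_iff N (t + t)).mp h4' with h | h
  · exact absurd (by rw [h]) h2
  · rw [h]

lemma model5 (s t : ZMod (2 * N)) : (xa t * (xa s)⁻¹ : QuaternionGroup N) ∈ C0 N := by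
  have h1 : (xa s : QuaternionGroup N)⁻¹ = xa ((N : ZMod (2 * N)) + s) := rfl
  rw [h1, xa_mul_xa]
  exact a_mem_C0 _

lemma C0_index : (C0 N).index = 2 := by
  rw [Subgroup.index_eq_two_iff]
  refine ⟨xa 0, ?_⟩
  rintro (t | t)
  · right
    rw [a_mul_xa]
    exact ⟨a_mem_C0 _, xa_not_mem_C0 _⟩
  · left
    rw [xa_mul_xa]
    exact ⟨a_mem_C0 _, xa_not_mem_C0 _⟩

lemma C0_eq : C0 N = Subgroup.zpowers (a 1) := by
  apply le_antisymm
  · rintro _ ⟨t, rfl⟩
    obtain ⟨k, rfl⟩ := ZMod.intCast_surjective t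
    refine ⟨k, ?_⟩
    show (a 1 : QuaternionGroup N) ^ k = a (k : ZMod (2 * N))
    induction k using Int.induction_on with
    | zero => simp
    | succ k ih =>
      rw [zpow_add_one, ih, a_mul_a]; push_cast; rfl
    | pred k ih =>
      have h2 : (a 1 : QuaternionGroup N)⁻¹ = a (-1) := rfl
      rw [zpow_sub_one, ih, h2, a_mul_a]; push_cast; congr 1; ring
  · rw [Subgroup.zpowers_le]
    exact a_mem_C0 1

end model

theorem exists_good {R : Type*} [Group R] {N : ℕ} [NeZero N] (ι : R →* QuaternionGroup N)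
    (hι : Function.Injective ι) (γ : R →* R) (hγ : Function.Injective γ) (m : ℕ) (hm : Odd m)
    (hγm : ∀ x, γ^[m] x = x) (i : R) (hi : (C0 N).comap ι = Subgroup.zpowers i)
    (hb : ι (γ i) ∉ C0 N) :
    ∃ i : R, i ^ 4 = 1 ∧ i ^ 2 ≠ 1 ∧ (γ i) ^ 2 = i ^ 2 ∧ γ i * i * (γ i)⁻¹ = i⁻¹ ∧
      γ i ∉ Subgroup.zpowers i ∧ γ (γ i) = γ i * i ^ 3 := by
  obtain ⟨t₀, ht₀⟩ : ι i ∈ C0 N := by
    have : i ∈ (C0 N).comap ι := by rw [hi]; exact Subgroup.mem_zpowers i
    exact this
  obtain ⟨s, hs⟩ : ∃ s, ι (γ i) = xa s := by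
    rcases h : ι (γ i) with t | t
    · exact absurd (h ▸ a_mem_C0 t) hb
    · exact ⟨t, rfl⟩
  set j := γ i with hj
  have hj4 : j ^ 4 = 1 := hι (by rw [map_pow, hs, xa_pow_four, map_one])
  have hj2ne : j ^ 2 ≠ 1 := by
    intro h
    have h1 := congrArg ι h
    rw [map_pow, hs, xa_sq, map_one, one_def] at h1
    injection h1 with h2
    exact Cfsg.Agent.Lib.Helper41Dic.natCast_ne_zero' N h2
  have hi4 : i ^ 4 = 1 := hγ (by rw [map_pow, ← hj, hj4, map_one])
  have hi2ne : i ^ 2 ≠ 1 := by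
    intro h
    apply hj2ne
    rw [hj, ← map_pow, h, map_one]
  have hi2 : j ^ 2 = i ^ 2 := by
    apply hι
    rw [map_pow, map_pow, hs, ht₀, xa_sq]
    symm
    apply model3
    · rw [← ht₀, ← map_pow, hi4, map_one]
    · rw [← ht₀, ← map_pow]
      intro h
      exact hi2ne (hι (by rw [h, map_one]))
  have hji : j * i * j⁻¹ = i⁻¹ := by
    apply hι
    rw [map_mul, map_mul, map_inv, map_inv, hs, ht₀, model1]
  have hjn : j ∉ Subgroup.zpowers i := by
    rw [← hi]
    exact hb
  have hinv3 : (i ^ 3)⁻¹ = i := by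
    rw [inv_eq_iff_mul_eq_one, ← pow_succ]
    exact hi4
  have hjinv : j ^ 3 = j⁻¹ := by
    rw [eq_inv_iff_mul_eq_one, ← pow_succ]
    exact hj4
  rcases hk : ι (γ j) with t | t
  · -- `γ (γ i) ∈ ⟨i⟩`
    exfalso
    have hk' : γ j ∈ Subgroup.zpowers i := by
      rw [← hi]
      show ι (γ j) ∈ C0 N
      rw [hk]; exact a_mem_C0 t
    have hstep : ∀ x ∈ Subgroup.zpowers i, γ (γ x) ∈ Subgroup.zpowers i := by
      rintro _ ⟨r, rfl⟩
      show γ (γ (i ^ r)) ∈ _
      rw [map_zpow, map_zpow]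
      exact Subgroup.zpow_mem _ hk' r
    have hall : ∀ l : ℕ, γ^[2 * l] i ∈ Subgroup.zpowers i := by
      intro l
      induction l with
      | zero => exact Subgroup.mem_zpowers i
      | succ l ih =>
        have : 2 * (l + 1) = (2 * l + 1) + 1 := by ring
        rw [this, Function.iterate_succ_apply', Function.iterate_succ_apply']
        exact hstep _ ih
    obtain ⟨l, hl⟩ := hm
    have h1 := hall (l + 1)
    have : 2 * (l + 1) = m + 1 := by omega
    rw [this, Function.iterate_succ_apply', hγm] at h1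
    exact hjn h1
  · have hu : γ j * j⁻¹ ∈ Subgroup.zpowers i := by
      rw [← hi]
      show ι (γ j * j⁻¹) ∈ C0 N
      rw [map_mul, map_inv, hk, hs]
      exact model5 s t
    obtain ⟨r, hr⟩ := hu
    have hr' : γ j = i ^ (r % 4) * j := by
      have h4 : i ^ (4 : ℤ) = 1 := by exact_mod_cast hi4
      rw [← zpow_eq_zpow_emod r h4]
      have : i ^ r = γ j * j⁻¹ := hr
      rw [this]; group
    have hcases : r % 4 = 0 ∨ r % 4 = 1 ∨ r % 4 = 2 ∨ r % 4 = 3 := by omega
    rcases hcases with h | h | h | h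
    · exfalso
      rw [h, zpow_zero, one_mul] at hr'
      have : j = i := hγ hr'
      exact hjn (this ▸ Subgroup.mem_zpowers i)
    · refine ⟨i, hi4, hi2ne, hi2, hji, hjn, ?_⟩
      rw [← hj, hr', h, zpow_one]
      have h1 : j * i ^ 3 * j⁻¹ = i := by
        rw [← conj_pow, hji, inv_pow, hinv3]
      calc i * j = (j * i ^ 3 * j⁻¹) * j := by rw [h1]
        _ = j * i ^ 3 := by group
    · exfalso
      have h2 : i ^ (2 : ℤ) = i ^ 2 := by exact_mod_cast rfl
      rw [h, h2, ← hi2, ← pow_succ, hjinv, hj, ← map_inv] at hr'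
      have : γ i = i⁻¹ := hγ hr'
      apply hjn
      rw [hj, this]
      exact Subgroup.inv_mem _ (Subgroup.mem_zpowers i)
    · have h3 : i ^ (3 : ℤ) = i ^ 3 := by exact_mod_cast rfl
      rw [h, h3] at hr'
      refine ⟨i⁻¹, by rw [inv_pow, hi4, inv_one], ?_, ?_, ?_, ?_, ?_⟩
      · rw [inv_pow]
        intro h'
        exact hi2ne (inv_eq_one.mp h')
      · rw [map_inv, ← hj, inv_pow, inv_pow, hi2]
      · rw [map_inv, ← hj, inv_inv, inv_inv]
        rw [← hji]; group
      · rw [map_inv, ← hj, Subgroup.zpowers_inv, Subgroup.inv_mem_iff]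
        exact hjn
      · rw [map_inv, map_inv, ← hj, hr', mul_inv_rev, inv_pow]


end partA

open Cfsg.Agent.Lib.Helper41Dic

abbrev SL23 := Matrix.SpecialLinearGroup (Fin 2) (ZMod 3)
abbrev Q8 := QuaternionGroup 2

def mI : SL23 := ⟨!![0, 2; 1, 0], by decide⟩
def mJ : SL23 := ⟨!![1, 1; 1, 2], by decide⟩
def mA : SL23 := ⟨!![1, 1; 0, 1], by decide⟩

lemma mI_pow : mI ^ (2 * 2) = 1 := by decide
lemma mJ_sq : mJ ^ 2 = mI ^ 2 := by decide
lemma mJ_conj : mJ * mI * mJ⁻¹ = mI⁻¹ := by decide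
lemma mA_I : mA * mI * mA⁻¹ = mJ := by decide
lemma mA_J : mA * mJ * mA⁻¹ = mJ * mI ^ 3 := by decide
lemma mA_pow : mA ^ 3 = 1 := by decide

/-- the automorphism `i ↦ j ↦ k ↦ i` of the quaternion group -/
def alphaFun : Q8 → Q8
  | .a t => if t = 0 then .a 0 else if t = 1 then .xa 0 else if t = 2 then .a 2 else .xa 2
  | .xa t => if t = 0 then .xa 3 else if t = 1 then .a 3 else if t = 2 then .xa 1 else .a 1

def alpha : MulAut Q8 where
  toFun := alphaFun
  invFun := fun x => alphaFun (alphaFun x)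
  left_inv := by decide
  right_inv := by decide
  map_mul' := by decide

lemma alpha_a : alpha (.a 1) = .xa 0 := by decide
lemma alpha_xa : alpha (.xa 0) = .xa 3 := by decide
lemma alpha_pow : alpha ^ 3 = 1 := by
  ext x
  revert x
  decide


lemma alpha_ne_one : alpha ≠ 1 := by
  intro h
  have := congrArg (fun f : MulAut Q8 => f (.a 1)) h
  revert this
  decide

lemma q8_hom_ext {H : Type*} [Group H] (F₁ F₂ : Q8 →* H) (ha : F₁ (.a 1) = F₂ (.a 1))
    (hx : F₁ (.xa 0) = F₂ (.xa 0)) : F₁ = F₂ := by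
  ext q
  obtain ⟨k, l, rfl⟩ := Cfsg.Agent.Lib.Helper26Quat.q8_gen q
  rw [map_mul, map_mul, map_pow, map_pow, map_pow, map_pow, ha, hx]

lemma compat_zpow {N H : Type*} [Group N] [Group H] (α : MulAut N) (f : N →* H) (t : H)
    (h : ∀ x, f (α x) = t * f x * t⁻¹) (m : ℤ) : ∀ x, f ((α ^ m) x) = t ^ m * f x * (t ^ m)⁻¹ := by
  induction m using Int.induction_on with
  | zero => intro x; simp
  | succ m ih =>
    intro x
    rw [zpow_add_one, MulAut.mul_apply, ih, h, zpow_add_one]
    group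
  | pred m ih =>
    intro x
    have h' : f (α⁻¹ x) = t⁻¹ * f x * t := by
      have := h (α⁻¹ x)
      rw [MulAut.apply_inv_self] at this
      rw [this]; group
    rw [zpow_sub_one, MulAut.mul_apply, ih, h', zpow_sub_one]
    group

lemma lift_compat {N H : Type*} [Group N] [Group H] (α : MulAut N) (f : N →* H) (t : H)
    (h : ∀ x, f (α x) = t * f x * t⁻¹) (n : Multiplicative ℤ) :
    f.comp ((zpowersHom (MulAut N) α) n).toMonoidHom =
      (MulAut.conj ((zpowersHom H t) n)).toMonoidHom.comp f := by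
  ext x
  simp only [MonoidHom.comp_apply, zpowersHom_apply, MulEquiv.coe_toMonoidHom, MulAut.conj_apply]
  exact compat_zpow α f t h _ x

/-- the quaternion homomorphism attached to `i`, `j` intertwines `alpha` and conjugation -/
lemma quat_compat {H : Type*} [Group H] (i j g : H) (hc : i ^ (2 * 2) = 1) (hy : j ^ 2 = i ^ 2)
    (hyc : j * i * j⁻¹ = i⁻¹) (h1 : g * i * g⁻¹ = j) (h2 : g * j * g⁻¹ = j * i ^ 3) (x : Q8) :
    quatHom 2 i j hc hy hyc (alpha x) = g * quatHom 2 i j hc hy hyc x * g⁻¹ := by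
  have key : (quatHom 2 i j hc hy hyc).comp alpha.toMonoidHom =
      (MulAut.conj g).toMonoidHom.comp (quatHom 2 i j hc hy hyc) := by
    have e0 : (pw (2 * 2) i hc 0).toMul = 1 := by
      have := pw_natCast (2 * 2) i hc 0
      simpa using this
    have e1 : (pw (2 * 2) i hc 1).toMul = i := by
      have := pw_natCast (2 * 2) i hc 1
      simpa using this
    have e3 : (pw (2 * 2) i hc 3).toMul = i ^ 3 := by
      have := pw_natCast (2 * 2) i hc 3
      simpa using this
    apply q8_hom_ext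
    · simp only [MonoidHom.comp_apply, MulEquiv.coe_toMonoidHom, MulAut.conj_apply, alpha_a,
        quatHom_a, quatHom_xa, e0, e1, h1, mul_one]
    · simp only [MonoidHom.comp_apply, MulEquiv.coe_toMonoidHom, MulAut.conj_apply, alpha_xa,
        quatHom_xa, e0, e3, h2, mul_one]
  exact DFunLike.congr_fun key x


abbrev XX := Q8 ⋊[zpowersHom (MulAut Q8) alpha] Multiplicative ℤ

noncomputable def fSL : Q8 →* SL23 := quatHom 2 mI mJ mI_pow mJ_sq mJ_conj

noncomputable def theta : XX →* SL23 :=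
  SemidirectProduct.lift fSL (zpowersHom SL23 mA)
    (lift_compat alpha fSL mA (quat_compat mI mJ mA mI_pow mJ_sq mJ_conj mA_I mA_J))

lemma theta_surjective : Function.Surjective theta := by
  rw [← MonoidHom.range_eq_top, eq_top_iff, ← Cfsg.Agent.Lib.Helper13SL2c.closure_UL 3,
    Subgroup.closure_le]
  have hA : mA ∈ theta.range := by
    refine ⟨SemidirectProduct.inr (Multiplicative.ofAdd 1), ?_⟩
    rw [theta, SemidirectProduct.lift_inr, zpowersHom_apply]
    simp
  have hJ : mJ ∈ theta.range := by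
    refine ⟨SemidirectProduct.inl (.xa 0), ?_⟩
    rw [theta, SemidirectProduct.lift_inl, fSL, quatHom_xa]
    have := pw_natCast (2 * 2) mI mI_pow 0
    simp only [Nat.cast_zero, pow_zero] at this
    rw [this, mul_one]
  rintro x (rfl | rfl)
  · have : Cfsg.Agent.Lib.Helper13SL2c.U (1 : ZMod 3) = mA := by decide
    rw [this]; exact hA
  · have : Cfsg.Agent.Lib.Helper13SL2c.L (1 : ZMod 3) = mJ * mA ^ 2 := by decide
    rw [this]
    exact mul_mem hJ (pow_mem hA 2)

theorem section_of_rel {G : Type*} [Group G] (i g : G) (hi4 : i ^ 4 = 1) (hi2 : i ^ 2 ≠ 1)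
    (hj2 : (g * i * g⁻¹) ^ 2 = i ^ 2) (hji : (g * i * g⁻¹) * i * (g * i * g⁻¹)⁻¹ = i⁻¹)
    (hjn : g * i * g⁻¹ ∉ Subgroup.zpowers i)
    (hk : g * (g * i * g⁻¹) * g⁻¹ = (g * i * g⁻¹) * i ^ 3) (hodd : Odd (orderOf g)) :
    ∃ (H K : Subgroup G) (_ : (K.subgroupOf H).Normal),
      Nonempty ((H ⧸ K.subgroupOf H) ≃* SL23) := by
  have hc : i ^ (2 * 2) = 1 := hi4
  have hcompat := quat_compat i (g * i * g⁻¹) g hc hj2 hji rfl hk
  set f₁ : Q8 →* G := quatHom 2 i (g * i * g⁻¹) hc hj2 hji with hf₁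
  have hord : orderOf i = 2 * 2 := by
    have := orderOf_eq_prime_pow (p := 2) (n := 1) (x := i) (by simpa using hi2) (by simpa using hi4)
    simpa using this
  have hinj : Function.Injective f₁ := quatHom_injective 2 i (g * i * g⁻¹) hord hj2 hji hjn
  let psi : XX →* G := SemidirectProduct.lift f₁ (zpowersHom G g) (lift_compat alpha f₁ g hcompat)
  have hker : psi.ker ≤ theta.ker := by
    intro x hx
    rw [MonoidHom.mem_ker] at hx ⊢
    have hx' : f₁ x.left * g ^ (Multiplicative.toAdd x.right) = 1 := hx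
    have hy : f₁ x.left = (g ^ (Multiplicative.toAdd x.right))⁻¹ := eq_inv_of_mul_eq_one_left hx'
    have h4 : (f₁ x.left) ^ 4 = 1 := by
      rw [← map_pow, Cfsg.Agent.Lib.Helper26Quat.q8_pow_four, map_one]
    have hm : (f₁ x.left) ^ (orderOf g) = 1 := by
      rw [hy, inv_pow, ← zpow_natCast, ← zpow_mul, mul_comm, zpow_mul, zpow_natCast,
        pow_orderOf_eq_one, one_zpow, inv_one]
    have h1 : f₁ x.left = 1 := by
      have hd1 := orderOf_dvd_of_pow_eq_one h4
      have hd2 := orderOf_dvd_of_pow_eq_one hm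
      have hcop : Nat.Coprime 4 (orderOf g) := by
        have : Nat.Coprime 2 (orderOf g) := Nat.coprime_two_left.mpr hodd
        exact Nat.Coprime.pow_left 2 this
      exact orderOf_eq_one_iff.mp (Nat.eq_one_of_dvd_coprimes hcop hd1 hd2)
    have hq : x.left = 1 := hinj (by rw [h1, map_one])
    have hg : g ^ (Multiplicative.toAdd x.right) = 1 := by
      rw [h1, one_mul] at hx'
      exact hx'
    have ha : alpha ^ (Multiplicative.toAdd x.right) = 1 := by
      ext q
      apply hinj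
      rw [compat_zpow alpha f₁ g hcompat, hg]
      simp
    have h3 : (3 : ℤ) ∣ Multiplicative.toAdd x.right := by
      have ho : orderOf alpha = 3 := by
        have : Fact (Nat.Prime 3) := ⟨Nat.prime_three⟩
        exact orderOf_eq_prime alpha_pow alpha_ne_one
      have := orderOf_dvd_iff_zpow_eq_one.mpr ha
      rwa [ho] at this
    obtain ⟨t, ht⟩ := h3
    show fSL x.left * mA ^ (Multiplicative.toAdd x.right) = 1
    rw [hq, map_one, one_mul, ht, zpow_mul]
    have : mA ^ (3 : ℤ) = 1 := by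
      have := mA_pow
      exact_mod_cast this
    rw [this, one_zpow]
  let phi : psi.range →* SL23 :=
    (QuotientGroup.lift psi.ker theta hker).comp
      (QuotientGroup.quotientKerEquivRange psi).symm.toMonoidHom
  have hphi : Function.Surjective phi := by
    intro y
    obtain ⟨x, rfl⟩ := theta_surjective y
    refine ⟨QuotientGroup.quotientKerEquivRange psi (QuotientGroup.mk x), ?_⟩
    simp [phi]
  have htop : (⊤ : Subgroup psi.range).map phi = ⊤ := by
    rw [← MonoidHom.range_eq_map, MonoidHom.range_eq_top]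
    exact hphi
  obtain ⟨K, L, hn, -, he⟩ := Cfsg.Agent.Lib.Helper13Section.exists_section psi.range phi ⊤
    ((MulEquiv.subgroupCongr htop).trans Subgroup.topEquiv)
  exact ⟨K, L, hn, he⟩


lemma mem_normalizer_of_conj_mem' {G : Type*} [Group G] [Finite G] (B : Subgroup G) (x : G)
    (h : ∀ b ∈ B, x * b * x⁻¹ ∈ B) : x ∈ Subgroup.normalizer (B : Set G) := by
  rw [Subgroup.mem_normalizer_iff]
  intro b
  refine ⟨h b, fun hb => ?_⟩
  let f : B → B := fun c => ⟨x * c * x⁻¹, h c c.2⟩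
  have hinj : Function.Injective f := by
    intro c d hcd
    have h1 : x * c * x⁻¹ = x * d * x⁻¹ := congrArg Subtype.val hcd
    exact Subtype.ext (by simpa using h1)
  obtain ⟨c, hc⟩ := (Finite.injective_iff_surjective.mp hinj) ⟨x * b * x⁻¹, hb⟩
  have h1 : x * c * x⁻¹ = x * b * x⁻¹ := congrArg Subtype.val hc
  have h2 : (c : G) = b := by simpa using h1
  rw [← h2]
  exact c.2

theorem core {G : Type*} [Group G] [Finite G] {N : ℕ} [NeZero N] (T Q : Subgroup G) (hQT : Q ≤ T)
    (hQ2 : IsPGroup 2 Q) (e : T ≃* QuaternionGroup N) (g : G)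
    (hgQ : g ∈ Subgroup.normalizer (Q : Set G)) (hodd : Odd (orderOf g))
    (hgC : g ∉ Subgroup.centralizer (Q : Set G)) :
    ∃ (H K : Subgroup G) (_ : (K.subgroupOf H).Normal),
      Nonempty ((H ⧸ K.subgroupOf H) ≃* SL23) := by
  let ι : Q →* QuaternionGroup N := e.toMonoidHom.comp (Subgroup.inclusion hQT)
  have hι : Function.Injective ι := e.injective.comp (Subgroup.inclusion_injective hQT)
  have hconj : ∀ x ∈ Q, g * x * g⁻¹ ∈ Q := fun x hx => (Subgroup.mem_normalizer_iff.mp hgQ x).mp hx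
  let γ : Q →* Q := MonoidHom.mk' (fun x => ⟨g * x * g⁻¹, hconj x x.2⟩) (by
    intro x y
    apply Subtype.ext
    show g * (x * y) * g⁻¹ = (g * x * g⁻¹) * (g * y * g⁻¹)
    group)
  have hγval : ∀ x : Q, ((γ x : Q) : G) = g * x * g⁻¹ := fun x => rfl
  have hγ : Function.Injective γ := by
    intro x y hxy
    have h1 : g * x * g⁻¹ = g * y * g⁻¹ := congrArg Subtype.val hxy
    exact Subtype.ext (by simpa using h1)
  have hiter : ∀ (l : ℕ) (x : Q), ((γ^[l] x : Q) : G) = g ^ l * x * (g ^ l)⁻¹ := by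
    intro l x
    induction l with
    | zero => simp
    | succ l ih =>
      rw [Function.iterate_succ_apply', hγval, ih, pow_succ']
      group
  have hγm : ∀ x, γ^[orderOf g] x = x := by
    intro x
    apply Subtype.ext
    rw [hiter, pow_orderOf_eq_one]
    simp
  set AR : Subgroup Q := (C0 N).comap ι with hAR
  have hcyc : IsCyclic AR := by
    have h0 : IsCyclic (C0 N) := by
      rw [C0_eq]; infer_instance
    let f : AR →* C0 N := (ι.comp AR.subtype).codRestrict (C0 N) (fun x => x.2)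
    apply isCyclic_of_injective f
    intro x y hxy
    have h1 : ι x = ι y := congrArg Subtype.val hxy
    exact Subtype.ext (hι h1)
  obtain ⟨i, hi⟩ := (Subgroup.isCyclic_iff_exists_zpowers_eq_top AR).mp hcyc
  have hb : ι (γ i) ∉ C0 N := by
    intro hmem
    apply hgC
    set A : Subgroup G := AR.map Q.subtype with hA
    have hAQ : A ≤ Q := Subgroup.map_subtype_le AR
    have hgA : g ∈ Subgroup.normalizer (A : Set G) := by
      apply mem_normalizer_of_conj_mem'
      rintro _ ⟨x, hx, rfl⟩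
      refine ⟨γ x, ?_, rfl⟩
      have hx' : x ∈ Subgroup.zpowers i := by rw [hi]; exact hx
      obtain ⟨r, rfl⟩ := hx'
      show γ (i ^ r) ∈ AR
      rw [map_zpow]
      exact AR.zpow_mem hmem r
    have hAc : IsCyclic A :=
      (AR.equivMapOfInjective Q.subtype Q.subtype_injective).isCyclic.mp hcyc
    have h1 := Cfsg.Agent.Lib.Helper11OddAut.mem_centralizer_of_isCyclic A (hQ2.to_le hAQ) hAc g
      hodd hgA
    have hidx : (A.subgroupOf Q).index ∣ 2 := by
      have e1 : A.subgroupOf Q = AR := Subgroup.comap_map_eq_self_of_injective Q.subtype_injective AR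
      rw [e1, hAR, Subgroup.index_comap]
      have hn : (C0 N).Normal := Subgroup.normal_of_index_eq_two C0_index
      have := Subgroup.relIndex_dvd_index_of_normal (C0 N) ι.range
      rwa [C0_index] at this
    exact Cfsg.Agent.Lib.Helper11OddAut.mem_centralizer_of_index_two A Q hQ2 hAQ hidx g hodd h1 hgQ
  obtain ⟨i', h4, h2, hj2, hji, hjn, hk⟩ := exists_good ι hι γ hγ (orderOf g) hodd hγm i hi.symm hb
  apply section_of_rel (i' : G) g
  · exact congrArg Subtype.val h4
  · intro h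
    exact h2 (Subtype.ext h)
  · exact congrArg Subtype.val hj2
  · exact congrArg Subtype.val hji
  · rintro ⟨r, hr⟩
    apply hjn
    refine ⟨r, Subtype.ext ?_⟩
    show ((i' ^ r : Q) : G) = _
    rw [Subgroup.coe_zpow]
    exact hr
  · exact congrArg Subtype.val hk
  · exact hodd

/-- A finite group with generalized quaternion Sylow 2-subgroups either has a normal 2-complement or has a section isomorphic to SL(2,3). -/
theorem result {G : Type*} [Group G] [Finite G] (T : Sylow 2 G) (n : ℕ) (hn : 1 ≤ n) (hT : Nonempty ((T : Subgroup G) ≃* QuaternionGroup (2 ^ n))) : Cfsg.HasNormalPComplement 2 G ∨ ∃ (H K : Subgroup G) (hK : (K.subgroupOf H).Normal), Nonempty ((H ⧸ K.subgroupOf H) ≃* Matrix.SpecialLinearGroup (Fin 2) (ZMod 3)) := by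
  have h2 : Fact (Nat.Prime 2) := ⟨Nat.prime_two⟩
  by_cases hF : Cfsg.Agent.Lib.Helper11Frobenius.FrobCond 2 G
  · left
    exact Cfsg.Agent.Lib.Helper11Frobenius.hasNPC_iff.mp (Cfsg.Agent.Lib.Helper11Frobenius.frobenius hF)
  · right
    unfold Cfsg.Agent.Lib.Helper11Frobenius.FrobCond at hF
    push Not at hF
    obtain ⟨Q, hQ, g, hgQ, hgo, hgC⟩ := hF
    obtain ⟨T', hQT'⟩ := hQ.exists_le_sylow
    obtain ⟨e⟩ := hT
    exact core (T' : Subgroup G) Q hQT' hQ ((Sylow.equiv T' T).trans e) g hgQ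
      (Nat.coprime_two_right.mp hgo) hgC

end Cfsg.Agent.S0106
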