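import Cfsg.Statements.S3335
import Cfsg.Agent.Lib.Helper47AltHom

set_option autoImplicit false
open Cfsg

namespace Cfsg.Agent.S3335



section aux
open Cfsg.Agent.Lib.Helper47AltHom

variable {G : Type*} [Group G]

theorem flip_pow (u v : G) (k : ℕ) (hv : v ^ 2 = 1) (h : (u * v) ^ k = 1) : (u⁻¹ * v) ^ k = 1 := by
  have h1 : u⁻¹ * v = v⁻¹ * (u * v)⁻¹ * (v⁻¹)⁻¹ := by
    have : v⁻¹ * v⁻¹ = 1 := by rw [← mul_inv_rev, ← pow_two, hv, inv_one]
    rw [mul_inv_rev, inv_inv, ← mul_assoc, this, one_mul]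
  rw [h1, conj_pow, inv_pow, h]
  simp

theorem swap_pow (u v : G) (k : ℕ) (h : (u * v) ^ k = 1) : (v * u) ^ k = 1 := by
  have h1 : v * u = v * (u * v) * v⁻¹ := by group
  rw [h1, conj_pow, h]
  simp

theorem coxA (n : ℕ) (i j : Fin n) : CoxeterMatrix.A n i j =
    if i = j then 1 else (if (j : ℕ) + 1 = i ∨ (i : ℕ) + 1 = j then 3 else 2) := rfl

def Car (m : ℕ) (x : Fin (m + 1) → G) : Prop :=
  x 0 ^ 3 = 1 ∧ (∀ i : Fin (m + 1), 1 ≤ i.val → x i ^ 2 = 1) ∧
    (∀ i j : Fin (m + 1), j.val = i.val + 1 → (x i * x j) ^ 3 = 1) ∧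
    (∀ i j : Fin (m + 1), i.val + 1 < j.val → (x i * x j) ^ 2 = 1)

def Rel (m : ℕ) (a : Fin (m + 2) → G) : Prop :=
  ∀ i j, ((a i)⁻¹ * a j) ^ (CoxeterMatrix.A (m + 2) i j) = 1

theorem car_of_rel (m : ℕ) (a : Fin (m + 2) → G) (h0 : a 0 = 1) (h : Rel m a) :
    Car m (fun i => a i.succ) := by
  have hsq : ∀ i : Fin (m + 1), 1 ≤ i.val → a i.succ ^ 2 = 1 := by
    intro i hi
    have := h 0 i.succ
    rw [coxA, h0, if_neg (Fin.succ_ne_zero i).symm, if_neg (by simp only [Fin.val_zero, Fin.val_succ]; omega)] at this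
    simpa using this
  refine ⟨?_, hsq, ?_, ?_⟩
  · have := h 0 (Fin.succ 0)
    rw [coxA, h0, if_neg (Fin.succ_ne_zero 0).symm, if_pos (by simp)] at this
    simpa using this
  · intro i j hij
    have := h i.succ j.succ
    rw [coxA, if_neg (by intro e; have := congrArg Fin.val e; simp at this; omega),
      if_pos (by simp only [Fin.val_zero, Fin.val_succ]; omega)] at this
    have h2 := flip_pow _ _ _ (hsq j (by omega)) this
    simpa using h2
  · intro i j hij
    have := h i.succ j.succ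
    rw [coxA, if_neg (by intro e; have := congrArg Fin.val e; simp at this; omega),
      if_neg (by simp only [Fin.val_zero, Fin.val_succ]; omega)] at this
    have h2 := flip_pow _ _ _ (hsq j (by omega)) this
    simpa using h2

theorem rel_of_car (m : ℕ) (x : Fin (m + 1) → G) (h : Car m x) :
    Rel m (Fin.cons 1 x : Fin (m + 2) → G) := by
  obtain ⟨h3, hsq, hadj, hfar⟩ := h
  -- the relation for i' < j'
  have key : ∀ i j : Fin (m + 1), i.val < j.val →
      ((x i)⁻¹ * x j) ^ (CoxeterMatrix.A (m + 2) i.succ j.succ) = 1 := by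
    intro i j hij
    rw [coxA, if_neg (by intro e; have := congrArg Fin.val e; simp at this; omega)]
    by_cases h1 : j.val = i.val + 1
    · rw [if_pos (by simp only [Fin.val_zero, Fin.val_succ]; omega)]
      exact flip_pow _ _ _ (hsq j (by omega)) (hadj i j h1)
    · rw [if_neg (by simp only [Fin.val_zero, Fin.val_succ]; omega)]
      exact flip_pow _ _ _ (hsq j (by omega)) (hfar i j (by omega))
  intro i j
  refine Fin.cases ?_ (fun i' => ?_) i <;> refine Fin.cases ?_ (fun j' => ?_) j
  · simp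
  · rw [Fin.cons_zero, Fin.cons_succ, coxA, if_neg (Fin.succ_ne_zero j').symm, inv_one, one_mul]
    by_cases hj : j'.val = 0
    · rw [if_pos (by simp only [Fin.val_zero, Fin.val_succ]; omega)]
      have : j' = 0 := Fin.ext hj
      rw [this]; exact h3
    · rw [if_neg (by simp only [Fin.val_zero, Fin.val_succ]; omega)]
      exact hsq j' (by omega)
  · rw [Fin.cons_zero, Fin.cons_succ, coxA, if_neg (Fin.succ_ne_zero i'), mul_one, inv_pow,
      inv_eq_one]
    by_cases hj : i'.val = 0
    · rw [if_pos (by simp only [Fin.val_zero, Fin.val_succ]; omega)]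
      have : i' = 0 := Fin.ext hj
      rw [this]; exact h3
    · rw [if_neg (by simp only [Fin.val_zero, Fin.val_succ]; omega)]
      exact hsq i' (by omega)
  · rw [Fin.cons_succ, Fin.cons_succ]
    rcases lt_trichotomy i'.val j'.val with hlt | heq | hgt
    · exact key i' j' hlt
    · have : i' = j' := Fin.ext heq
      rw [this]; simp
    · have := key j' i' hgt
      rw [(CoxeterMatrix.A (m + 2)).symmetric]
      have h2 : (x i')⁻¹ * x j' = ((x j')⁻¹ * x i')⁻¹ := by group
      rw [h2, inv_pow, this, inv_one]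

theorem bb_mem (m : ℕ) (i : Fin (m + 2)) :
    Equiv.swap (0 : Fin (m + 3)) 1 * Equiv.swap i.castSucc i.succ ∈ alternatingGroup (Fin (m + 3)) := by
  rw [Equiv.Perm.mem_alternatingGroup, map_mul, Equiv.Perm.sign_swap (by
    intro h; have := congrArg Fin.val h; simp at this), Equiv.Perm.sign_swap (by
    intro h; have := congrArg Fin.val h; simp at this)]
  rfl

def bb (m : ℕ) (i : Fin (m + 2)) : alternatingGroup (Fin (m + 3)) :=
  ⟨Equiv.swap (0 : Fin (m + 3)) 1 * Equiv.swap i.castSucc i.succ, bb_mem m i⟩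

theorem bb_zero (m : ℕ) : bb m 0 = 1 := by
  apply Subtype.ext
  show Equiv.swap (0 : Fin (m + 3)) 1 * Equiv.swap (0 : Fin (m + 3)) 1 = 1
  simp

theorem bb_inv_mul (m : ℕ) (i j : Fin (m + 2)) :
    (((bb m i)⁻¹ * bb m j : alternatingGroup (Fin (m + 3))) : Equiv.Perm (Fin (m + 3))) =
      Equiv.swap i.castSucc i.succ * Equiv.swap j.castSucc j.succ := by
  show (Equiv.swap (0 : Fin (m + 3)) 1 * Equiv.swap i.castSucc i.succ)⁻¹ *
    (Equiv.swap (0 : Fin (m + 3)) 1 * Equiv.swap j.castSucc j.succ) = _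
  rw [mul_inv_rev, Equiv.swap_inv, Equiv.swap_inv, mul_assoc, ← mul_assoc (Equiv.swap 0 1),
    Equiv.swap_mul_self, one_mul]

theorem bb_rel (m : ℕ) : Rel m (bb m) := by
  obtain ⟨cs, hcs⟩ := Cfsg.Agent.S2530.result (m + 2)
  intro i j
  apply Subtype.ext
  rw [Subgroup.coe_pow, bb_inv_mul, ← hcs, ← hcs]
  exact cs.simple_mul_simple_pow i j

theorem bb_gen (m : ℕ) : Subgroup.closure (Set.range (bb m)) = ⊤ := by
  obtain ⟨cs, hcs⟩ := Cfsg.Agent.S2530.result (m + 2)
  set K : Subgroup (Equiv.Perm (Fin (m + 3))) :=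
    (Subgroup.closure (Set.range (bb m))).map (alternatingGroup (Fin (m + 3))).subtype with hK
  have hsign : ∀ ω : List (Fin (m + 2)), Equiv.Perm.sign (cs.wordProd ω) = (-1) ^ ω.length := by
    intro ω
    induction ω with
    | nil => simp
    | cons i ω ih =>
      rw [cs.wordProd_cons, map_mul, ih, hcs, Equiv.Perm.sign_swap (by
        intro h; have := congrArg Fin.val h; simp at this), List.length_cons, pow_succ, mul_comm]
  have hpair : ∀ i j : Fin (m + 2), cs.simple i * cs.simple j ∈ K := by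
    intro i j
    refine ⟨(bb m i)⁻¹ * bb m j, ?_, ?_⟩
    · exact mul_mem (inv_mem (Subgroup.subset_closure ⟨i, rfl⟩)) (Subgroup.subset_closure ⟨j, rfl⟩)
    · rw [hcs, hcs]
      exact bb_inv_mul m i j
  have hword : ∀ (k : ℕ) (ω : List (Fin (m + 2))), ω.length = 2 * k → cs.wordProd ω ∈ K := by
    intro k
    induction k with
    | zero =>
      intro ω hω
      have : ω = [] := List.length_eq_zero_iff.1 (by simpa using hω)
      rw [this, cs.wordProd_nil]
      exact one_mem _
    | succ k ih =>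
      intro ω hω
      match ω, hω with
      | i :: j :: ω', hω =>
        rw [cs.wordProd_cons, cs.wordProd_cons, ← mul_assoc]
        refine mul_mem (hpair i j) (ih ω' ?_)
        simp only [List.length_cons] at hω
        omega
      | [_], hω => simp at hω; omega
      | [], hω => simp at hω
  rw [eq_top_iff]
  rintro ⟨w, hw⟩ -
  obtain ⟨ω, rfl⟩ := cs.wordProd_surjective w
  have hev : Even ω.length := by
    rw [Equiv.Perm.mem_alternatingGroup, hsign] at hw
    by_contra hodd
    rw [Nat.not_even_iff_odd] at hodd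
    rw [hodd.neg_one_pow] at hw
    exact absurd hw (by decide)
  obtain ⟨k, hk⟩ := hev
  obtain ⟨y, hy, hyw⟩ := hword k ω (by omega)
  have : y = ⟨cs.wordProd ω, hw⟩ := Subtype.ext hyw
  rw [← this]
  exact hy

def rels (k : ℕ) : Set (FreeGroup (Fin k)) :=
  ({g : FreeGroup (Fin k) | ∃ i : Fin k, i.val = 0 ∧ g = FreeGroup.of i ^ 3} ∪
       {g | ∃ i : Fin k, 1 ≤ i.val ∧ g = FreeGroup.of i ^ 2} ∪
       {g | ∃ i j : Fin k, j.val = i.val + 1 ∧ g = (FreeGroup.of i * FreeGroup.of j) ^ 3} ∪
       {g | ∃ i j : Fin k, i.val + 1 < j.val ∧ g = (FreeGroup.of i * FreeGroup.of j) ^ 2})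

theorem main (m : ℕ) :
    Nonempty (PresentedGroup (rels (m + 1)) ≃* alternatingGroup (Fin (m + 3))) := by
  -- forward map
  have hcar := car_of_rel m (bb m) (bb_zero m) (bb_rel m)
  obtain ⟨c3, csq, cadj, cfar⟩ := hcar
  have hf : ∀ r ∈ rels (m + 1), FreeGroup.lift (fun i : Fin (m + 1) => bb m i.succ) r = 1 := by
    intro r hr
    rcases hr with ((⟨i, hi, rfl⟩ | ⟨i, hi, rfl⟩) | ⟨i, j, hij, rfl⟩) | ⟨i, j, hij, rfl⟩
    · have : i = 0 := Fin.ext hi
      subst this
      simpa using c3
    · simpa using csq i hi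
    · simpa using cadj i j hij
    · simpa using cfar i j hij
  let f : PresentedGroup (rels (m + 1)) →* alternatingGroup (Fin (m + 3)) :=
    PresentedGroup.toGroup hf
  have hfof : ∀ i, f (PresentedGroup.of i) = bb m i.succ := fun i => PresentedGroup.toGroup.of hf
  -- backward map
  have hP : Car m (fun i : Fin (m + 1) => (PresentedGroup.of i : PresentedGroup (rels (m + 1)))) := by
    refine ⟨?_, ?_, ?_, ?_⟩
    · exact (PresentedGroup.one_of_mem (rels := rels (m + 1))
        (x := FreeGroup.of 0 ^ 3) (Or.inl (Or.inl (Or.inl ⟨0, rfl, rfl⟩))))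
    · intro i hi
      exact (PresentedGroup.one_of_mem (rels := rels (m + 1))
        (x := FreeGroup.of i ^ 2) (Or.inl (Or.inl (Or.inr ⟨i, hi, rfl⟩))))
    · intro i j hij
      exact (PresentedGroup.one_of_mem (rels := rels (m + 1))
        (x := (FreeGroup.of i * FreeGroup.of j) ^ 3) (Or.inl (Or.inr ⟨i, j, hij, rfl⟩)))
    · intro i j hij
      exact (PresentedGroup.one_of_mem (rels := rels (m + 1))
        (x := (FreeGroup.of i * FreeGroup.of j) ^ 2) (Or.inr ⟨i, j, hij, rfl⟩))
  obtain ⟨g, hg⟩ := exists_altHom (m + 1) _ (Fin.cons_zero _ _) (rel_of_car m _ hP)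
  have hgb : ∀ i : Fin (m + 2), g (bb m i) = (Fin.cons 1 (fun i : Fin (m + 1) =>
      (PresentedGroup.of i : PresentedGroup (rels (m + 1)))) : Fin (m + 2) → _) i :=
    fun i => hg i (bb_mem m i)
  have hgf : g.comp f = MonoidHom.id _ := by
    apply PresentedGroup.ext
    intro i
    rw [MonoidHom.comp_apply, hfof, hgb, Fin.cons_succ]
    rfl
  have hfg : f.comp g = MonoidHom.id _ := by
    apply MonoidHom.eq_of_eqOn_dense (bb_gen m)
    rintro _ ⟨i, rfl⟩
    rw [MonoidHom.comp_apply, hgb]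
    refine Fin.cases ?_ (fun i' => ?_) i
    · rw [Fin.cons_zero, map_one, bb_zero]; rfl
    · rw [Fin.cons_succ, hfof]; rfl
  exact ⟨{ toFun := f, invFun := g
           left_inv := fun x => DFunLike.congr_fun hgf x
           right_inv := fun x => DFunLike.congr_fun hfg x
           map_mul' := f.map_mul }⟩

end aux

/-- A presentation of the alternating group of degree n ≥ 3 on generators x_1, …, x_{n−2} (indexed here by 0, …, n−3): the first generator cubes to 1, every other generator squares to 1, the product of two consecutive generators has order dividing 3, and the product of two generators at distance at least 2 has order dividing 2. The group so presented is isomorphic to the alternating group of degree n. -/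
theorem result (n : ℕ) (hn : 3 ≤ n) :
    Nonempty (PresentedGroup
      ({g : FreeGroup (Fin (n - 2)) | ∃ i : Fin (n - 2), i.val = 0 ∧ g = FreeGroup.of i ^ 3} ∪
       {g | ∃ i : Fin (n - 2), 1 ≤ i.val ∧ g = FreeGroup.of i ^ 2} ∪
       {g | ∃ i j : Fin (n - 2), j.val = i.val + 1 ∧ g = (FreeGroup.of i * FreeGroup.of j) ^ 3} ∪
       {g | ∃ i j : Fin (n - 2), i.val + 1 < j.val ∧ g = (FreeGroup.of i * FreeGroup.of j) ^ 2})
      ≃* alternatingGroup (Fin n)) := by
  obtain ⟨m, rfl⟩ : ∃ m, n = m + 3 := ⟨n - 3, by omega⟩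
  exact main m

end Cfsg.Agent.S3335
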