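import Cfsg.Statements.S0646

set_option autoImplicit false
open Cfsg

namespace Cfsg.Agent.S0646

theorem nt_sq (k : ℕ) (r : ℤ) (h1 : (2:ℤ) ^ (k + 2) ∣ r ^ 2 - 1) :
    (2:ℤ) ^ (k + 2) ∣ r - 1 ∨ (2:ℤ) ^ (k + 2) ∣ r + 1 ∨
      (1 ≤ k ∧ (2:ℤ) ^ (k + 2) ∣ r - 1 - 2 ^ (k + 1)) ∨
      (1 ≤ k ∧ (2:ℤ) ^ (k + 2) ∣ r + 1 - 2 ^ (k + 1)) := by
  have hodd : Odd r := by
    by_contra h
    rw [Int.not_odd_iff_even] at h
    obtain ⟨j, rfl⟩ := h
    have h2 : (2:ℤ) ∣ (j + j) ^ 2 - 1 := (dvd_pow_self 2 (by omega)).trans h1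
    have e : (j + j) ^ 2 - 1 = 2 * (2 * (j * j)) - 1 := by ring
    rw [e] at h2
    omega
  obtain ⟨j, rfl⟩ := hodd
  have e : (2 * j + 1) ^ 2 - 1 = 2 ^ 2 * (j * (j + 1)) := by ring
  rw [e, pow_add, mul_comm ((2:ℤ) ^ k)] at h1
  have h2 : (2:ℤ) ^ k ∣ j * (j + 1) := (mul_dvd_mul_iff_left (by norm_num)).mp h1
  have hp : Prime (2:ℤ) := Int.prime_two
  have h3 : (2:ℤ) ^ k ∣ j ∨ (2:ℤ) ^ k ∣ j + 1 := by
    rcases Int.even_or_odd j with hj | hj
    · left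
      apply hp.pow_dvd_of_dvd_mul_right k _ h2
      intro h
      obtain ⟨c, hc⟩ := hj
      omega
    · right
      apply hp.pow_dvd_of_dvd_mul_left k _ h2
      intro h
      obtain ⟨c, hc⟩ := hj
      omega
  rcases h3 with ⟨c, hc⟩ | ⟨c, hc⟩
  · rcases Int.even_or_odd c with ⟨d, hd⟩ | ⟨d, hd⟩
    · left
      refine ⟨d, ?_⟩
      rw [hc, hd]; ring
    · rcases Nat.eq_zero_or_pos k with rfl | hk
      · right; left
        refine ⟨d + 1, ?_⟩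
        rw [hc, hd]; ring
      · right; right; left
        refine ⟨hk, d, ?_⟩
        rw [hc, hd]; ring
  · have hj : j = 2 ^ k * c - 1 := by linarith
    rcases Int.even_or_odd c with ⟨d, hd⟩ | ⟨d, hd⟩
    · right; left
      refine ⟨d, ?_⟩
      rw [hj, hd]; ring
    · rcases Nat.eq_zero_or_pos k with rfl | hk
      · left
        refine ⟨d, ?_⟩
        rw [hj, hd]; ring
      · right; right; right
        refine ⟨hk, d, ?_⟩
        rw [hj, hd]; ring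

theorem core {G : Type*} [Group G] (k : ℕ) (a b₀ : G) (ha : orderOf a = 2 ^ (k + 2))
    (hb : b₀ ∉ Subgroup.zpowers a) (r s : ℤ) (hr : b₀ * a * b₀⁻¹ = a ^ r) (hs : b₀ ^ 2 = a ^ s)
    (hne : b₀ * a * b₀⁻¹ ≠ a) :
    ∃ b : G, b ∉ Subgroup.zpowers a ∧ ((b ^ 2 = 1 ∧ b * a * b⁻¹ = a⁻¹) ∨
      (b ^ 2 = a ^ (2 ^ (k + 1)) ∧ b * a * b⁻¹ = a⁻¹) ∨
      (1 ≤ k ∧ b ^ 2 = 1 ∧ b * a * b⁻¹ = a ^ (1 + 2 ^ (k + 1))) ∨
      (1 ≤ k ∧ b ^ 2 = 1 ∧ b * a * b⁻¹ = a ^ (2 ^ (k + 1) - 1))) := by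
  have hz : ∀ u v : ℤ, a ^ u = a ^ v ↔ (2:ℤ) ^ (k + 2) ∣ u - v := by
    intro u v
    rw [zpow_eq_zpow_iff_modEq, ha, Int.modEq_iff_dvd, ← dvd_neg, neg_sub]
    push_cast
    rfl
  have hconj : ∀ t : ℤ, b₀ * a ^ t * b₀⁻¹ = a ^ (r * t) := by
    intro t
    rw [← conj_zpow, hr, ← zpow_mul]
  have h1 : (2:ℤ) ^ (k + 2) ∣ r ^ 2 - 1 := by
    have e1 : b₀ ^ 2 * a * (b₀ ^ 2)⁻¹ = a ^ (r * r) := by
      rw [← hconj r, ← hr, pow_two]; group
    have e2 : b₀ ^ 2 * a * (b₀ ^ 2)⁻¹ = a ^ (1 : ℤ) := by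
      rw [hs, zpow_one, ← zpow_add_one, ← zpow_neg, ← zpow_add]
      simp
    rw [e1, hz] at e2
    rwa [pow_two]
  have h2 : (2:ℤ) ^ (k + 2) ∣ s * (r - 1) := by
    have e1 : b₀ * b₀ ^ 2 * b₀⁻¹ = b₀ ^ 2 := by group
    rw [hs, hconj, hz] at e1
    have : s * (r - 1) = r * s - s := by ring
    rwa [this]
  have h3 : ¬ (2:ℤ) ^ (k + 2) ∣ r - 1 := by
    intro h
    apply hne
    rw [hr]
    have := (hz r 1).mpr h
    rwa [zpow_one] at this
  have hsq : ∀ t : ℤ, (b₀ * a ^ t) ^ 2 = a ^ (r * t + s + t) := by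
    intro t
    rw [zpow_add, zpow_add, ← hconj, ← hs, pow_two, pow_two]; group
  have hcj : ∀ t : ℤ, (b₀ * a ^ t) * a * (b₀ * a ^ t)⁻¹ = a ^ r := by
    intro t
    rw [← hr]; group
  have hnm : ∀ t : ℤ, b₀ * a ^ t ∉ Subgroup.zpowers a := by
    intro t h
    apply hb
    have := (Subgroup.zpowers a).mul_mem h
      ((Subgroup.zpowers a).inv_mem (Subgroup.zpow_mem_zpowers a t))
    simpa using this
  have hone : ∀ u : ℤ, a ^ u = 1 ↔ (2:ℤ) ^ (k + 2) ∣ u := by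
    intro u
    have := hz u 0
    simpa using this
  rcases nt_sq k r h1 with h | h | ⟨hk, h⟩ | ⟨hk, h⟩
  · exact absurd h h3
  · -- r = -1
    have hinv : a ^ r = a⁻¹ := by
      rw [← zpow_neg_one, hz]
      simpa using h
    have h4 : (2:ℤ) ^ (k + 2) ∣ 2 * s := by
      have e : 2 * s = s * (r + 1) - s * (r - 1) := by ring
      rw [e]
      exact dvd_sub (Dvd.dvd.mul_left h s) h2
    have h5 : (2:ℤ) ^ (k + 1) ∣ s := by
      rw [pow_succ, mul_comm] at h4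
      exact (mul_dvd_mul_iff_left (by norm_num)).mp h4
    obtain ⟨c, hc⟩ := h5
    refine ⟨b₀ * a ^ (0:ℤ), hnm 0, ?_⟩
    rw [hsq, hcj, hinv]
    rcases Int.even_or_odd c with ⟨d, hd⟩ | ⟨d, hd⟩
    · left
      refine ⟨?_, rfl⟩
      rw [hone]
      refine ⟨d, ?_⟩
      rw [hc, hd]; ring
    · right; left
      refine ⟨?_, rfl⟩
      rw [← zpow_natCast a (2 ^ (k + 1)), hz]
      refine ⟨d, ?_⟩
      rw [hc, hd]; push_cast; ring
  · -- r = 1 + 2^(k+1)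
    obtain ⟨l, rfl⟩ : ∃ l, k = l + 1 := ⟨k - 1, by omega⟩
    have hrr : a ^ r = a ^ (1 + 2 ^ (l + 1 + 1)) := by
      rw [← zpow_natCast a (1 + 2 ^ (l + 1 + 1)), hz]
      push_cast
      have e : r - (1 + 2 ^ (l + 1 + 1)) = r - 1 - 2 ^ (l + 1 + 1) := by ring
      rwa [e]
    have h4 : (2:ℤ) ^ (l + 1 + 2) ∣ s * 2 ^ (l + 1 + 1) := by
      have e : s * 2 ^ (l + 1 + 1) = s * (r - 1) - s * (r - 1 - 2 ^ (l + 1 + 1)) := by ring
      rw [e]
      exact dvd_sub h2 (Dvd.dvd.mul_left h s)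
    have h5 : (2:ℤ) ∣ s := by
      have e : (2:ℤ) ^ (l + 1 + 2) = 2 * 2 ^ (l + 1 + 1) := by ring
      rw [e] at h4
      exact (mul_dvd_mul_iff_right (by positivity)).mp h4
    obtain ⟨c, hc⟩ := h5
    obtain ⟨w, hw⟩ := h
    refine ⟨b₀ * a ^ (-c * (1 - 2 ^ (l + 1))), hnm _, ?_⟩
    rw [hsq, hcj, hrr]
    right; right; left
    refine ⟨hk, ?_, rfl⟩
    rw [hone]
    have hr' : r = 2 ^ (l + 1 + 2) * w + 1 + 2 ^ (l + 1 + 1) := by linarith
    refine ⟨w * (-c * (1 - 2 ^ (l + 1))) + c * 2 ^ l, ?_⟩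
    rw [hr', hc]; ring
  · -- r = -1 + 2^(k+1)
    obtain ⟨l, rfl⟩ : ∃ l, k = l + 1 := ⟨k - 1, by omega⟩
    have hrr : a ^ r = a ^ (2 ^ (l + 1 + 1) - 1) := by
      rw [← zpow_natCast a (2 ^ (l + 1 + 1) - 1), hz]
      rw [Nat.cast_sub Nat.one_le_two_pow]
      push_cast
      have e : r - (2 ^ (l + 1 + 1) - 1) = r + 1 - 2 ^ (l + 1 + 1) := by ring
      rwa [e]
    have h4 : (2:ℤ) ^ (l + 1 + 2) ∣ 2 * (s * (2 ^ (l + 1) - 1)) := by
      have e : 2 * (s * (2 ^ (l + 1) - 1)) = s * (r - 1) - s * (r + 1 - 2 ^ (l + 1 + 1)) := by ring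
      rw [e]
      exact dvd_sub h2 (Dvd.dvd.mul_left h s)
    have h5 : (2:ℤ) ^ (l + 1 + 1) ∣ s * (2 ^ (l + 1) - 1) := by
      have e : (2:ℤ) ^ (l + 1 + 2) = 2 * 2 ^ (l + 1 + 1) := by ring
      rw [e] at h4
      exact (mul_dvd_mul_iff_left (by norm_num)).mp h4
    have h6 : (2:ℤ) ^ (l + 1 + 1) ∣ s := by
      apply Int.prime_two.pow_dvd_of_dvd_mul_right _ _ h5
      intro h7
      have e : (2:ℤ) ^ (l + 1) - 1 = 2 * 2 ^ l - 1 := by ring
      rw [e] at h7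
      omega
    obtain ⟨c, hc⟩ := h6
    obtain ⟨w, hw⟩ := h
    refine ⟨b₀ * a ^ c, hnm _, ?_⟩
    rw [hsq, hcj, hrr]
    right; right; right
    refine ⟨hk, ?_, rfl⟩
    rw [hone]
    have hr' : r = 2 ^ (l + 1 + 2) * w - 1 + 2 ^ (l + 1 + 1) := by linarith
    refine ⟨w * c + c, ?_⟩
    rw [hr', hc]; ring

/-- Classification of non-abelian 2-groups with a cyclic maximal subgroup: dihedral, generalized quaternion, and for order at least 16 the modular group and the semidihedral group, each given by generators a (of index 2) and b with the stated relations. -/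
theorem result {G : Type*} [Group G] [Finite G] (n : ℕ) (hn : 3 ≤ n) (hG : Nat.card G = 2 ^ n) (C : Subgroup G) (hC : IsCyclic C) (hCi : C.index = 2) (hna : ∃ x y : G, x * y ≠ y * x) : ∃ a b : G, orderOf a = 2 ^ (n - 1) ∧ b ∉ Subgroup.zpowers a ∧ ((b ^ 2 = 1 ∧ b * a * b⁻¹ = a⁻¹) ∨ (b ^ 2 = a ^ (2 ^ (n - 2)) ∧ b * a * b⁻¹ = a⁻¹) ∨ (4 ≤ n ∧ b ^ 2 = 1 ∧ b * a * b⁻¹ = a ^ (1 + 2 ^ (n - 2))) ∨ (4 ≤ n ∧ b ^ 2 = 1 ∧ b * a * b⁻¹ = a ^ (2 ^ (n - 2) - 1))) := by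
  obtain ⟨k, rfl⟩ : ∃ k, n = k + 3 := ⟨n - 3, by omega⟩
  obtain ⟨⟨a, haC⟩, hgen⟩ := hC.exists_generator
  have hCa : C = Subgroup.zpowers a := by
    apply le_antisymm
    · intro x hx
      obtain ⟨j, hj⟩ := Subgroup.mem_zpowers_iff.mp (hgen ⟨x, hx⟩)
      refine Subgroup.mem_zpowers_iff.mpr ⟨j, ?_⟩
      have := congrArg Subtype.val hj
      simpa using this
    · rw [Subgroup.zpowers_le]; exact haC
  have hcard : Nat.card C = 2 ^ (k + 2) := by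
    have h1 := C.card_mul_index
    rw [hCi, hG, pow_succ] at h1
    exact Nat.eq_of_mul_eq_mul_right (by norm_num) h1
  have ha : orderOf a = 2 ^ (k + 2) := by
    rw [← hcard, hCa, Nat.card_zpowers]
  obtain ⟨b₀, hb₀⟩ : ∃ x, x ∉ C := by
    by_contra h
    push Not at h
    have : C = ⊤ := (Subgroup.eq_top_iff' C).mpr h
    rw [this] at hCi
    simp at hCi
  have hCn : C.Normal := Subgroup.normal_of_index_eq_two hCi
  have htop : ∀ K : Subgroup G, C ≤ K → b₀ ∈ K → K = ⊤ := by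
    intro K hCK hbK
    rw [Subgroup.eq_top_iff']
    intro x
    by_cases hx : x ∈ C
    · exact hCK hx
    · have h1 : x * b₀ ∈ C := by
        rw [Subgroup.mul_mem_iff_of_index_two hCi]
        exact iff_of_false hx hb₀
      have := K.mul_mem (hCK h1) (K.inv_mem hbK)
      simpa using this
  have h1 : b₀ * a * b₀⁻¹ ∈ Subgroup.zpowers a := hCa ▸ hCn.conj_mem a haC b₀
  have h2 : b₀ ^ 2 ∈ Subgroup.zpowers a := hCa ▸ Subgroup.sq_mem_of_index_two hCi b₀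
  obtain ⟨r, hr⟩ := Subgroup.mem_zpowers_iff.mp h1
  obtain ⟨s, hs⟩ := Subgroup.mem_zpowers_iff.mp h2
  have hne : b₀ * a * b₀⁻¹ ≠ a := by
    intro h
    have hab : b₀ * a = a * b₀ := by rwa [mul_inv_eq_iff_eq_mul] at h
    have t1 : Subgroup.centralizer {a} = ⊤ := by
      apply htop
      · rw [hCa, Subgroup.zpowers_le]
        exact Subgroup.mem_centralizer_singleton_iff.mpr rfl
      · exact Subgroup.mem_centralizer_singleton_iff.mpr hab
    have ac : a ∈ Subgroup.center G := by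
      rw [Subgroup.mem_center_iff]
      intro g
      have : g ∈ Subgroup.centralizer {a} := t1 ▸ Subgroup.mem_top g
      exact Subgroup.mem_centralizer_singleton_iff.mp this
    have t2 : Subgroup.centralizer {b₀} = ⊤ := by
      apply htop
      · rw [hCa, Subgroup.zpowers_le]
        exact Subgroup.center_le_centralizer _ ac
      · exact Subgroup.mem_centralizer_singleton_iff.mpr rfl
    have bc : b₀ ∈ Subgroup.center G := by
      rw [Subgroup.mem_center_iff]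
      intro g
      have : g ∈ Subgroup.centralizer {b₀} := t2 ▸ Subgroup.mem_top g
      exact Subgroup.mem_centralizer_singleton_iff.mp this
    have t3 : Subgroup.center G = ⊤ := by
      apply htop _ _ bc
      rw [hCa, Subgroup.zpowers_le]
      exact ac
    obtain ⟨x, y, hxy⟩ := hna
    apply hxy
    have : y ∈ Subgroup.center G := t3 ▸ Subgroup.mem_top y
    exact Subgroup.mem_center_iff.mp this x
  obtain ⟨b, hb, hcases⟩ := core k a b₀ ha (hCa ▸ hb₀) r s hr.symm hs.symm hne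
  refine ⟨a, b, ha, hb, ?_⟩
  have e1 : k + 3 - 2 = k + 1 := by omega
  rw [e1]
  rcases hcases with h | h | ⟨hk, h⟩ | ⟨hk, h⟩
  · exact Or.inl h
  · exact Or.inr (Or.inl h)
  · exact Or.inr (Or.inr (Or.inl ⟨by omega, h⟩))
  · exact Or.inr (Or.inr (Or.inr ⟨by omega, h⟩))

end Cfsg.Agent.S0646
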