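import Cfsg.Statements.S4399
import Cfsg.Agent.Lib.Helper79PGroup
import Cfsg.Agent.Lib.Helper25Quat
import Cfsg.Agent.S0206
import Cfsg.Agent.S0646

set_option autoImplicit false
open Cfsg

namespace Cfsg.Agent.S4399

open Cfsg.Agent.Lib

universe u

theorem exists_central_involution {G : Type*} [Group G] [Finite G] (h2 : IsPGroup 2 G)
    (N : Subgroup G) [N.Normal] (hN : N ≠ ⊥) :
    ∃ z ∈ N, z ∈ Subgroup.center G ∧ orderOf z = 2 := by
  have hp : Fact (Nat.Prime 2) := ⟨Nat.prime_two⟩
  obtain ⟨z₀, hz₀N, hz₀1, hz₀c⟩ := Helper79PGroup.exists_ne_one_mem_center_of_normal h2 N hN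
  obtain ⟨j, hj⟩ := IsPGroup.iff_orderOf.mp h2 z₀
  have hj0 : j ≠ 0 := by
    rintro rfl
    rw [pow_zero, orderOf_eq_one_iff] at hj
    exact hz₀1 hj
  obtain ⟨i, rfl⟩ : ∃ i, j = i + 1 := ⟨j - 1, by omega⟩
  refine ⟨z₀ ^ (2 ^ i), N.pow_mem hz₀N _, Subgroup.pow_mem _ hz₀c _, ?_⟩
  rw [orderOf_pow_of_dvd (by positivity) (by rw [hj]; exact pow_dvd_pow 2 (by omega)), hj, pow_succ]
  exact Nat.mul_div_cancel_left 2 (by positivity)

theorem base_case (G : Type u) [Group G] [Finite G] (hG : Nat.card G = 2 ^ 3)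
    (hidx : (commutator G).index = 4) : ∃ C : Subgroup G, IsCyclic C ∧ C.index = 2 := by
  have hex : ∃ x : G, x ^ 2 ≠ 1 := by
    by_contra h
    push Not at h
    have hcomm : ∀ a b : G, a * b = b * a := by
      intro a b
      have ha : a⁻¹ = a := by rw [inv_eq_iff_mul_eq_one, ← pow_two]; exact h a
      have hb : b⁻¹ = b := by rw [inv_eq_iff_mul_eq_one, ← pow_two]; exact h b
      have hab : (a * b)⁻¹ = a * b := by rw [inv_eq_iff_mul_eq_one, ← pow_two]; exact h _
      rw [← hab, mul_inv_rev, ha, hb]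
    have : commutator G = ⊥ := by
      rw [commutator_eq_bot_iff_center_eq_top, Subgroup.eq_top_iff']
      intro x
      rw [Subgroup.mem_center_iff]
      intro g
      exact hcomm g x
    rw [this, Subgroup.index_bot, hG] at hidx
    norm_num at hidx
  obtain ⟨x, hx⟩ := hex
  have hdvd : orderOf x ∣ 2 ^ 3 := hG ▸ orderOf_dvd_natCard x
  obtain ⟨j, hj3, hj⟩ := (Nat.dvd_prime_pow Nat.prime_two).mp hdvd
  have key : ∀ y : G, orderOf y = 4 → ∃ C : Subgroup G, IsCyclic C ∧ C.index = 2 := by
    intro y hy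
    refine ⟨Subgroup.zpowers y, inferInstance, ?_⟩
    have h1 := (Subgroup.zpowers y).card_mul_index
    rw [Nat.card_zpowers, hy, hG] at h1
    omega
  interval_cases j
  · rw [pow_zero, orderOf_eq_one_iff] at hj
    rw [hj] at hx
    simp at hx
  · exfalso
    apply hx
    rw [← orderOf_dvd_iff_pow_eq_one, hj]
    norm_num
  · exact key x hj
  · apply key (x ^ 2)
    rw [orderOf_pow_of_dvd (by norm_num) (by rw [hj]; norm_num), hj]
    norm_num

theorem card_inf_center {G : Type*} [Group G] [Finite G] (H : Subgroup G) (hH : H.index = 2)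
    (hc : IsMulCommutative H) (hidx : (commutator G).index = 4) :
    Nat.card (H ⊓ Subgroup.center G : Subgroup G) = 2 := by
  have hn : H.Normal := Subgroup.normal_of_index_eq_two hH
  obtain ⟨x, hx⟩ : ∃ x, x ∉ H := by
    by_contra h
    push Not at h
    have : H = ⊤ := (Subgroup.eq_top_iff' H).mpr h
    rw [this] at hH
    simp at hH
  have h1 := Helper79PGroup.card_eq_card_commutator_mul H hc x
    (Helper79PGroup.sup_zpowers_eq_top_of_index_prime Nat.prime_two hH hx)
  have h2 := H.card_mul_index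
  have h3 := (commutator G).card_mul_index
  rw [hH] at h2
  rw [hidx] at h3
  have h4 : 0 < Nat.card (commutator G) := Nat.card_pos
  have h5 : Nat.card (commutator G) * (Nat.card (H ⊓ Subgroup.center G : Subgroup G) * 2)
      = Nat.card (commutator G) * 4 := by
    rw [← mul_assoc, ← h1, h2, h3]
  have h6 := Nat.eq_of_mul_eq_mul_left h4 h5
  omega

theorem exists_cyclic_index_two : ∀ (n : ℕ) (G : Type u) [Group G] [Finite G],
    Nat.card G = 2 ^ (n + 3) → (commutator G).index = 4 →
    ∃ C : Subgroup G, IsCyclic C ∧ C.index = 2 := by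
  intro n
  induction n with
  | zero => intro G _ _ hG hidx; exact base_case G hG hidx
  | succ n ih =>
    intro G _ _ hG hidx
    have hp : Fact (Nat.Prime 2) := ⟨Nat.prime_two⟩
    have h2 : IsPGroup 2 G := IsPGroup.of_card hG
    have hne : commutator G ≠ ⊥ := by
      intro h
      rw [h, Subgroup.index_bot, hG] at hidx
      have : 2 ^ 3 ≤ 2 ^ (n + 1 + 3) := Nat.pow_le_pow_right (by norm_num) (by omega)
      omega
    obtain ⟨z, hzc, hzz, hz2⟩ := exists_central_involution h2 (commutator G) hne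
    have hZn : (Subgroup.zpowers z).Normal := by
      constructor
      intro x hx g
      have : x ∈ Subgroup.center G := (Subgroup.zpowers_le.mpr hzz) hx
      rw [Subgroup.mem_center_iff.mp this g]
      simpa using hx
    have hZcard : Nat.card (Subgroup.zpowers z) = 2 := by rw [Nat.card_zpowers, hz2]
    have hQcard : Nat.card (G ⧸ Subgroup.zpowers z) = 2 ^ (n + 3) := by
      have h1 := (Subgroup.zpowers z).card_mul_index
      rw [hZcard, hG, pow_succ, mul_comm] at h1
      exact Nat.eq_of_mul_eq_mul_right (by norm_num) h1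
    have hQidx : (commutator (G ⧸ Subgroup.zpowers z)).index = 4 := by
      have e : commutator (G ⧸ Subgroup.zpowers z)
          = (commutator G).map (QuotientGroup.mk' (Subgroup.zpowers z)) := by
        rw [commutator_def, commutator_def, Subgroup.map_commutator,
          Subgroup.map_top_of_surjective _ (QuotientGroup.mk'_surjective _)]
      rw [e, Subgroup.index_map_eq _ (QuotientGroup.mk'_surjective _), hidx]
      rw [QuotientGroup.ker_mk', Subgroup.zpowers_le]
      exact hzc
    obtain ⟨Cb, hCb, hCbi⟩ := ih (G ⧸ Subgroup.zpowers z) hQcard hQidx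
    obtain ⟨⟨gb, hgb⟩, hgen⟩ := hCb.exists_generator
    obtain ⟨h, rfl⟩ := QuotientGroup.mk_surjective gb
    have hHi : (Cb.comap (QuotientGroup.mk' (Subgroup.zpowers z))).index = 2 := by
      rw [Subgroup.index_comap_of_surjective _ (QuotientGroup.mk'_surjective _), hCbi]
    have hHn := Subgroup.normal_of_index_eq_two hHi
    have hdec : ∀ x ∈ Cb.comap (QuotientGroup.mk' (Subgroup.zpowers z)),
        ∃ (i : ℤ) (c : G), c ∈ Subgroup.zpowers z ∧ x = h ^ i * c := by
      intro x hx
      obtain ⟨i, hi⟩ := Subgroup.mem_zpowers_iff.mp (hgen ⟨_, hx⟩)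
      have hi' := congrArg Subtype.val hi
      simp only [Subgroup.coe_zpow, QuotientGroup.mk'_apply] at hi'
      rw [← QuotientGroup.mk_zpow, QuotientGroup.eq] at hi'
      exact ⟨i, _, hi', by group⟩
    have hZc : ∀ c ∈ Subgroup.zpowers z, c ∈ Subgroup.center G :=
      fun c hc => (Subgroup.zpowers_le.mpr hzz) hc
    have hHc : IsMulCommutative ↥(Cb.comap (QuotientGroup.mk' (Subgroup.zpowers z))) := by
      rw [isMulCommutative_iff]
      rintro ⟨x, hx⟩ ⟨y, hy⟩
      obtain ⟨i, c, hc, rfl⟩ := hdec x hx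
      obtain ⟨j, d, hd, rfl⟩ := hdec y hy
      apply Subtype.ext
      have c1 := Subgroup.mem_center_iff.mp (hZc c hc)
      have d1 := Subgroup.mem_center_iff.mp (hZc d hd)
      change h ^ i * c * (h ^ j * d) = h ^ j * d * (h ^ i * c)
      calc h ^ i * c * (h ^ j * d) = h ^ i * (c * h ^ j) * d := by group
        _ = h ^ i * (h ^ j * c) * d := by rw [c1]
        _ = (h ^ i * h ^ j) * (c * d) := by group
        _ = (h ^ j * h ^ i) * (d * c) := by rw [← zpow_add, add_comm, zpow_add, c1 d]
        _ = h ^ j * (h ^ i * d) * c := by group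
        _ = h ^ j * (d * h ^ i) * c := by rw [d1]
        _ = h ^ j * d * (h ^ i * c) := by group
    have hcen := card_inf_center _ hHi hHc hidx
    have hhH : h ∈ Cb.comap (QuotientGroup.mk' (Subgroup.zpowers z)) := hgb
    have hzH : z ∈ Cb.comap (QuotientGroup.mk' (Subgroup.zpowers z)) := by
      rw [Subgroup.mem_comap]
      have : QuotientGroup.mk' (Subgroup.zpowers z) z = 1 := by
        rw [QuotientGroup.mk'_apply, QuotientGroup.eq_one_iff]
        exact Subgroup.mem_zpowers z
      rw [this]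
      exact one_mem _
    by_cases hzh : z ∈ Subgroup.zpowers h
    · refine ⟨Subgroup.zpowers h, inferInstance, ?_⟩
      have : Subgroup.zpowers h = Cb.comap (QuotientGroup.mk' (Subgroup.zpowers z)) := by
        apply le_antisymm (Subgroup.zpowers_le.mpr hhH)
        intro x hx
        obtain ⟨i, c, hc, rfl⟩ := hdec x hx
        exact mul_mem (Subgroup.zpow_mem_zpowers h i) (Subgroup.zpowers_le.mpr hzh hc)
      rw [this]
      exact hHi
    · exfalso
      have hKn : (Subgroup.zpowers (h ^ 2)).Normal := by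
        constructor
        intro x hx g
        obtain ⟨j, rfl⟩ := Subgroup.mem_zpowers_iff.mp hx
        obtain ⟨i, c, hc, hi⟩ := hdec (g * h * g⁻¹) (hHn.conj_mem h hhH g)
        have hc2 : c ^ 2 = 1 := by
          obtain ⟨k, rfl⟩ := Subgroup.mem_zpowers_iff.mp hc
          rw [← zpow_natCast, ← zpow_mul, mul_comm, zpow_mul, zpow_natCast, ← hz2, pow_orderOf_eq_one,
            one_zpow]
        have hcm : Commute (h ^ i) c := (Subgroup.mem_center_iff.mp (hZc c hc) (h ^ i))
        have e : g * (h ^ 2) ^ j * g⁻¹ = ((h ^ 2) ^ i) ^ j := by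
          rw [← conj_zpow, ← conj_pow, hi, hcm.mul_pow, hc2, mul_one]
          congr 1
          rw [← zpow_natCast, ← zpow_natCast, ← zpow_mul, ← zpow_mul, mul_comm]
        rw [e]
        exact Subgroup.zpow_mem _ (Subgroup.zpow_mem_zpowers _ i) j
      have hKne : Subgroup.zpowers (h ^ 2) ≠ ⊥ := by
        rw [Ne, Subgroup.zpowers_eq_bot]
        intro h1
        have hc1 : Nat.card Cb * 2 = 2 ^ (n + 3) := by
          have := Cb.card_mul_index
          rwa [hCbi, hQcard] at this
        have hc2 := orderOf_eq_card_of_forall_mem_zpowers hgen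
        have hc3 : orderOf (⟨(h : G ⧸ Subgroup.zpowers z), hgb⟩ : ↥Cb) ∣ 2 := by
          rw [orderOf_dvd_iff_pow_eq_one]
          apply Subtype.ext
          change (h : G ⧸ Subgroup.zpowers z) ^ 2 = 1
          rw [← QuotientGroup.mk_pow, h1]
          rfl
        rw [hc2] at hc3
        have hc4 := Nat.le_of_dvd (by norm_num) hc3
        have hc5 : 2 ^ 3 ≤ 2 ^ (n + 3) := Nat.pow_le_pow_right (by norm_num) (by omega)
        omega
      obtain ⟨w, hwK, hw1, hwc⟩ := Helper79PGroup.exists_ne_one_mem_center_of_normal h2 _ hKne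
      have hwh : w ∈ Subgroup.zpowers h :=
        (Subgroup.zpowers_le.mpr (Subgroup.pow_mem _ (Subgroup.mem_zpowers h) 2)) hwK
      have hwH : w ∈ Cb.comap (QuotientGroup.mk' (Subgroup.zpowers z)) :=
        (Subgroup.zpowers_le.mpr hhH) hwh
      obtain ⟨b, _, hu⟩ := (Nat.card_eq_two_iff' (1 : ↥(Cb.comap (QuotientGroup.mk'
        (Subgroup.zpowers z)) ⊓ Subgroup.center G : Subgroup G))).mp hcen
      have u1 := hu ⟨w, hwH, hwc⟩ (by
        intro hh
        exact hw1 (congrArg Subtype.val hh))
      have u2 := hu ⟨z, hzH, hzz⟩ (by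
        intro hh
        have : z = 1 := congrArg Subtype.val hh
        rw [this, orderOf_one] at hz2
        norm_num at hz2)
      have : w = z := congrArg Subtype.val (u1.trans u2.symm)
      exact hzh (this ▸ hwh)

/-- Let S be a finite 2-group whose commutator quotient S/[S,S] is a Klein four-group (order 4 and exponent 2). Then S itself has order 4, or S is dihedral of order at least 8, semidihedral of order at least 16 (order 2^(k+4) with an element a of order 2^(k+3) and an involution b with b a b⁻¹ = a^(2^(k+2)−1)), or generalized quaternion of order at least 8. -/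
theorem result {S : Type*} [Group S] [Finite S] (h2 : IsPGroup 2 S) (hab : Nat.card (Abelianization S) = 4)
    (hexp : ∀ x : Abelianization S, x ^ 2 = 1) :
    Nat.card S = 4 ∨
    ((∃ k : ℕ, Nonempty (S ≃* DihedralGroup (2 ^ (k + 2)))) ∨
      (∃ k : ℕ, Nat.card S = 2 ^ (k + 4) ∧ ∃ a b : S, orderOf a = 2 ^ (k + 3) ∧ orderOf b = 2 ∧ b * a * b⁻¹ = a ^ (2 ^ (k + 2) - 1)) ∨
      (∃ k : ℕ, Nonempty (S ≃* QuaternionGroup (2 ^ (k + 1))))) := by
  have hidx : (commutator S).index = 4 := hab
  obtain ⟨m, hm⟩ := IsPGroup.iff_card.mp h2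
  have h4 : 4 ∣ Nat.card S := hidx ▸ (commutator S).index_dvd_card
  have hm2 : 2 ≤ m := by
    rw [hm] at h4
    exact (Nat.pow_dvd_pow_iff_le_right (by norm_num : 1 < 2)).mp (by simpa using h4)
  rcases Nat.eq_or_lt_of_le hm2 with rfl | hm3
  · left; rw [hm]; norm_num
  right
  obtain ⟨n, rfl⟩ : ∃ n, m = n + 3 := ⟨m - 3, by omega⟩
  obtain ⟨C, hC, hCi⟩ := exists_cyclic_index_two n S hm hidx
  have h8 : 2 ^ 3 ≤ 2 ^ (n + 3) := Nat.pow_le_pow_right (by norm_num) (by omega)
  have hna : ∃ x y : S, x * y ≠ y * x := by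
    by_contra h
    push Not at h
    have : commutator S = ⊥ := by
      rw [commutator_eq_bot_iff_center_eq_top, Subgroup.eq_top_iff']
      intro x
      rw [Subgroup.mem_center_iff]
      intro g
      exact h g x
    rw [this, Subgroup.index_bot, hm] at hidx
    omega
  obtain ⟨a, b, ha, hb, hcases⟩ := Cfsg.Agent.S0646.result (n + 3) (by omega) hm C hC hCi hna
  have e1 : n + 3 - 1 = n + 2 := by omega
  have e2 : n + 3 - 2 = n + 1 := by omega
  rw [e1] at ha
  rw [e2] at hcases
  have hAi : (Subgroup.zpowers a).index = 2 := by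
    have h1 := (Subgroup.zpowers a).card_mul_index
    rw [Nat.card_zpowers, ha, hm, pow_succ 2 (n + 2)] at h1
    exact Nat.eq_of_mul_eq_mul_left (by positivity) h1
  have htop : ∀ K : Subgroup S, a ∈ K → b ∈ K → K = ⊤ := by
    intro K haK hbK
    rw [Subgroup.eq_top_iff']
    intro x
    by_cases hx : x ∈ Subgroup.zpowers a
    · exact (Subgroup.zpowers_le.mpr haK) hx
    · have h1 : x * b ∈ Subgroup.zpowers a := by
        rw [Subgroup.mul_mem_iff_of_index_two hAi]
        exact iff_of_false hx hb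
      have := K.mul_mem ((Subgroup.zpowers_le.mpr haK) h1) (K.inv_mem hbK)
      simpa using this
  have hb1 : b ≠ 1 := by
    rintro rfl
    exact hb (one_mem _)
  rcases hcases with ⟨hb2, hc⟩ | ⟨hb2, hc⟩ | ⟨hn4, hb2, hc⟩ | ⟨hn4, hb2, hc⟩
  · left
    refine ⟨n, ?_⟩
    have ob : orderOf b = 2 := orderOf_eq_prime hb2 hb1
    have hy2 : (b * a) ^ 2 = 1 := by
      have : (b * a) ^ 2 = (b * a * b⁻¹) * b ^ 2 * a := by rw [pow_two, pow_two]; group
      rw [this, hc, hb2]; group
    have hy1 : b * a ≠ 1 := by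
      intro h
      apply hb
      rw [mul_eq_one_iff_eq_inv] at h
      rw [h]
      exact (Subgroup.zpowers a).inv_mem (Subgroup.mem_zpowers a)
    have oy : orderOf (b * a) = 2 := orderOf_eq_prime hy2 hy1
    have hxy : b ≠ b * a := by
      intro h
      have : a = 1 := by simpa using h.symm
      rw [this, orderOf_one] at ha
      have : 2 ^ 2 ≤ 2 ^ (n + 2) := Nat.pow_le_pow_right (by norm_num) (by omega)
      omega
    have hiso := Cfsg.Agent.S0206.result b (b * a) ob oy hxy
    have e3 : b * (b * a) = a := by rw [← mul_assoc, ← pow_two, hb2, one_mul]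
    rw [e3, ha] at hiso
    obtain ⟨f⟩ := hiso
    have hcl : Subgroup.closure ({b, b * a} : Set S) = ⊤ := by
      apply htop
      · have h1 : b ∈ Subgroup.closure ({b, b * a} : Set S) := Subgroup.subset_closure (by simp)
        have h2 : b * a ∈ Subgroup.closure ({b, b * a} : Set S) := Subgroup.subset_closure (by simp)
        have := mul_mem (inv_mem h1) h2
        simpa using this
      · exact Subgroup.subset_closure (by simp)
    exact ⟨(Subgroup.topEquiv.symm.trans (MulEquiv.subgroupCongr hcl.symm)).trans f⟩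
  · right; right
    refine ⟨n, ?_⟩
    have hq := Helper25Quat.nonempty_equiv (n := 2 ^ (n + 1)) (A := a) (B := b)
      (by rw [ha]; ring) (by rw [← pow_two]; exact hb2) hc hb ⊤
      (by rw [Nat.card_congr Subgroup.topEquiv.toEquiv, hm]; ring) (Subgroup.mem_top _)
      (Subgroup.mem_top _)
    obtain ⟨f⟩ := hq
    exact ⟨Subgroup.topEquiv.symm.trans f⟩
  · exfalso
    have hAc : IsMulCommutative ↥(Subgroup.zpowers a) := inferInstance
    have hcen := card_inf_center _ hAi hAc hidx
    have ha2 : a ^ 2 ∈ Subgroup.center S := by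
      have t1 : Subgroup.centralizer {a ^ 2} = ⊤ := by
        apply htop
        · rw [Subgroup.mem_centralizer_singleton_iff, ← pow_succ, ← pow_succ']
        · rw [Subgroup.mem_centralizer_singleton_iff, ← mul_inv_eq_iff_eq_mul, ← conj_pow, hc,
            ← pow_mul]
          have : (1 + 2 ^ (n + 1)) * 2 = 2 + 2 ^ (n + 2) := by ring
          rw [this, pow_add, ← ha, pow_orderOf_eq_one, mul_one]
      rw [Subgroup.mem_center_iff]
      intro g
      have : g ∈ Subgroup.centralizer {a ^ 2} := t1 ▸ Subgroup.mem_top g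
      exact Subgroup.mem_centralizer_singleton_iff.mp this
    have hle : Subgroup.zpowers (a ^ 2) ≤ Subgroup.zpowers a ⊓ Subgroup.center S := by
      rw [Subgroup.zpowers_le]
      exact ⟨Subgroup.pow_mem _ (Subgroup.mem_zpowers a) 2, ha2⟩
    have h5 := Subgroup.card_le_of_le hle
    rw [hcen, Nat.card_zpowers, orderOf_pow_of_dvd (by norm_num)
      (by rw [ha]; exact dvd_pow_self 2 (by omega)), ha, pow_succ,
      Nat.mul_div_cancel _ (by norm_num)] at h5
    have : 2 ^ 2 ≤ 2 ^ (n + 1) := Nat.pow_le_pow_right (by norm_num) (by omega)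
    omega
  · right; left
    obtain ⟨k, rfl⟩ : ∃ k, n = k + 1 := ⟨n - 1, by omega⟩
    exact ⟨k, hm, a, b, ha, orderOf_eq_prime hb2 hb1, hc⟩

end Cfsg.Agent.S4399
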