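import Cfsg.Statements.S4519
import Cfsg.Agent.Lib.Helper79OddExt
-- import your own Cfsg.Agent.* helpers here

set_option autoImplicit false
open Cfsg

namespace Cfsg.Agent.S4519

open Cfsg.Agent.Lib.Helper79OddExt Cfsg.Agent.Lib.Helper19Cliff Cfsg.Agent.Lib.Helper4Char

/-- Let N be a normal subgroup of odd index in the finite group G, and let k be coprime to the order of G with k ^ (2 ^ e) ≡ 1 modulo the order of G for some e and g ^ k = g⁻¹ for every element g of odd order (so g ↦ g ^ k induces a field automorphism of 2-power order inverting the roots of unity of odd order). If an irreducible character θ of N satisfies θ (n ^ k) = θ n for all n, then there is exactly one irreducible character χ of G with θ a constituent of its restriction to N and χ (g ^ k) = χ g for all g; moreover, if θ is invariant under conjugation by G, that χ restricts to θ. -/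
theorem result {G : Type*} [Group G] [Fintype G] (N : Subgroup G) [hN : N.Normal] [Fintype N] (hidx : Odd N.index) (k e : ℕ) (hk : Nat.Coprime k (Nat.card G)) (hke : k ^ (2 ^ e) ≡ 1 [MOD Nat.card G]) (hk₂ : ∀ g : G, Odd (orderOf g) → g ^ k = g⁻¹) (θ : Cfsg.IrrCharacter N) (hθ : ∀ n : N, (θ : N → ℂ) (n ^ k) = (θ : N → ℂ) n) : ∃ χ : Cfsg.IrrCharacter G, (Cfsg.classInner (fun n : N => (χ : G → ℂ) n) (θ : N → ℂ) ≠ 0 ∧ (∀ g : G, (χ : G → ℂ) (g ^ k) = (χ : G → ℂ) g) ∧ ((∀ g : G, ∀ n : N, (θ : N → ℂ) ⟨g * n * g⁻¹, hN.conj_mem n n.2 g⟩ = (θ : N → ℂ) n) → ∀ n : N, (χ : G → ℂ) n = (θ : N → ℂ) n)) ∧ ∀ χ' : Cfsg.IrrCharacter G, Cfsg.classInner (fun n : N => (χ' : G → ℂ) n) (θ : N → ℂ) ≠ 0 → (∀ g : G, (χ' : G → ℂ) (g ^ k) = (χ' : G → ℂ) g) → χ' = χ := by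
  classical
  have hkd : KD G k := ⟨hk, hk₂⟩
  let c : G →* MulAut N := MulAut.conjNormal
  have hcapp : ∀ (g : G) (n : N), ((c g n : N) : G) = g * n * g⁻¹ :=
    fun g n => MulAut.conjNormal_apply g n
  let T : Subgroup G :=
    { carrier := {g | ∀ n : N, (θ : N → ℂ) (c g n) = (θ : N → ℂ) n}
      mul_mem' := by
        intro a b ha hb n
        rw [map_mul, MulAut.mul_apply, ha, hb]
      one_mem' := by
        intro n
        rw [map_one, MulAut.one_apply]
      inv_mem' := by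
        intro a ha n
        have := ha (c a⁻¹ n)
        rw [← MulAut.mul_apply, ← map_mul, mul_inv_cancel, map_one, MulAut.one_apply] at this
        exact this.symm }
  have hTmem : ∀ g, g ∈ T ↔ ∀ n : N, (θ : N → ℂ) (c g n) = (θ : N → ℂ) n := fun g => Iff.rfl
  have hNT : N ≤ T := by
    intro x hx n
    have e1 : c x n = (⟨x, hx⟩ : N) * n * (⟨x, hx⟩ : N)⁻¹ := Subtype.ext (hcapp x n)
    rw [e1]
    exact IsIrrCharacter.isClassFunction θ.2 _ _
  have : Fintype T := Fintype.ofFinite T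
  let ι₂ : T →* G := T.subtype
  have hι₂ : Function.Injective ι₂ := T.subtype_injective
  let ι₁ : N →* T := Subgroup.inclusion hNT
  have hι₁ : Function.Injective ι₁ := Subgroup.inclusion_injective hNT
  have hc : ∀ (g : G) (n : N), ι₂ (ι₁ (c g n)) = g * ι₂ (ι₁ n) * g⁻¹ := hcapp
  have hT : ∀ g : G, g ∈ ι₂.range ↔ ∀ n : N, (θ : N → ℂ) (c g n) = (θ : N → ℂ) n := by
    intro g
    rw [Subgroup.range_subtype]
    exact hTmem g
  have hkT : KD T k := hkd.of_injective ι₂ hι₂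
  have hkN : k.Coprime (Nat.card N) := (hkd.of_injective N.subtype N.subtype_injective).cop
  have hTcard : Nat.card T = N.relIndex T * Nat.card N := by
    have h1 := (N.subgroupOf T).index_mul_card
    rw [Nat.card_congr (Subgroup.subgroupOfEquivOfLe hNT).toEquiv] at h1
    exact h1.symm
  have hTodd : Odd (N.relIndex T) := by
    have h1 := Subgroup.relIndex_mul_index hNT
    rw [← h1] at hidx
    exact Nat.Odd.of_mul_left hidx
  obtain ⟨ψ, hψ, hψext, hψfix, hψuniq⟩ := invariant_case ι₁ hι₁ (c.comp T.subtype)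
    (fun t n => Subtype.ext (hcapp t n)) hkT hTodd hTcard θ.2 (fun t n => t.2 n) hθ
  have hψover : Cfsg.classInner (fun n => ψ (ι₁ n)) (θ : N → ℂ) ≠ 0 := over_of_ext ι₁ θ.2 hψext
  have hχirr := ind_inertia_isIrr ι₂ hι₂ ι₁ hι₁ c hc θ.2 hT hψ hψover
  have hχover : Cfsg.classInner (fun n : N => ind ι₂ ψ n) (θ : N → ℂ) ≠ 0 := by
    have h1 := classInner_res_ind_inertia ι₂ hι₂ ι₁ hι₁ c hc θ.2 hT hψ hψover
    have h2 : (fun n : N => ind ι₂ ψ n) = fun n => ind ι₂ ψ (ι₂ (ι₁ n)) := rfl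
    rw [h2, h1]
    exact hψover
  have hχfix : ∀ g : G, ind ι₂ ψ (g ^ k) = ind ι₂ ψ g := by
    intro g
    rw [ind_pow ι₂ hι₂ hk]
    have : (fun t => ψ (t ^ k)) = ψ := funext hψfix
    rw [this]
  have huniq : ∀ χ' : G → ℂ, Cfsg.IsIrrCharacter G χ' →
      Cfsg.classInner (fun n : N => χ' n) (θ : N → ℂ) ≠ 0 → (∀ g : G, χ' (g ^ k) = χ' g) →
      χ' = ind ι₂ ψ := by
    intro χ' hχ' hover hfix
    obtain ⟨ψ', hψ', hind, hin⟩ := clifford_corr ι₂ hι₂ ι₁ hι₁ c hc θ.2 hT hχ' hover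
    have hover' : Cfsg.classInner (fun n => ψ' (ι₁ n)) (θ : N → ℂ) ≠ 0 := by
      rw [hin]
      exact hover
    have htw : Cfsg.IsIrrCharacter T (fun t => ψ' (t ^ k)) :=
      Cfsg.Agent.Lib.Helper79GalConj.isIrrCharacter_pow hψ' k hkT.cop
    have htwover : Cfsg.classInner (fun n => (fun t => ψ' (t ^ k)) (ι₁ n)) (θ : N → ℂ) ≠ 0 := by
      have e1 : (fun n => (fun t => ψ' (t ^ k)) (ι₁ n)) = fun n => (fun n => ψ' (ι₁ n)) (n ^ k) := by
        funext n
        show ψ' (ι₁ n ^ k) = ψ' (ι₁ (n ^ k))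
        rw [map_pow]
      have e2 : (θ : N → ℂ) = fun n => (θ : N → ℂ) (n ^ k) := (funext hθ).symm
      rw [e1, e2]
      have e3 := classInner_pow hkN (fun n => ψ' (ι₁ n)) (θ : N → ℂ)
      rw [e3]
      exact hover'
    have hindtw : ind ι₂ (fun t => ψ' (t ^ k)) = ind ι₂ ψ' := by
      funext g
      rw [← ind_pow ι₂ hι₂ hk, hind, hfix]
    have h1 := Cfsg.Agent.Lib.Helper83MinNormal.ind_inj ι₂ hι₂ ι₁ hι₁ c hc θ.2 hT htw hψ' htwover
      hover' hindtw
    have h2 := hψuniq ψ' hψ' hover' (fun t => congrFun h1 t)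
    rw [← hind, h2]
  refine ⟨⟨ind ι₂ ψ, hχirr⟩, ⟨hχover, hχfix, ?_⟩, ?_⟩
  · intro hinv n
    obtain ⟨χI, hχI, hIext, hIfix, -⟩ := invariant_case N.subtype N.subtype_injective c hcapp hkd
      hidx (N.index_mul_card).symm θ.2
      (fun g n => by
        rw [← hinv g n]
        congr 1) hθ
    have h1 := huniq χI hχI (over_of_ext N.subtype θ.2 hIext) hIfix
    show ind ι₂ ψ n = _
    rw [← h1]
    exact hIext n
  · intro χ' hover hfix
    exact Subtype.ext (huniq χ' χ'.2 hover hfix)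

end Cfsg.Agent.S4519
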