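import Cfsg.Statements.S5255
import Cfsg.Agent.Lib.Helper89Fusion
import Cfsg.Agent.Lib.Helper88Quot

set_option autoImplicit false
open Cfsg

namespace Cfsg.Agent.S5255

open Cfsg.FusionSystem Cfsg.Agent.Lib.Helper87Fusion Cfsg.Agent.Lib.Helper89Fusion

/-- Let F be a saturated fusion system over a finite p-group S and T a subgroup of S strongly closed in F. Then T·C_S(T) is strongly closed in F. -/
theorem result {Ω : Type*} [Group Ω] {S : Subgroup Ω} [Finite S] (p : ℕ) [Fact p.Prime] (hS : IsPGroup p S) (F : Cfsg.FusionSystem S) (hF : F.IsSaturated p) (T : Subgroup Ω) (hT : F.StronglyClosed T) : F.StronglyClosed (T ⊔ Cfsg.FusionSystem.centralizerIn S T) := by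
  rw [stronglyClosed_iff_elt]
  have hcomm : ∀ a ∈ T, ∀ b ∈ centralizerIn S T, a * b = b * a :=
    fun a ha b hb => (mem_centralizerIn.1 hb).2 a ha
  refine ⟨sup_le hT.1 (centralizerIn_le _ _), fun x hx f hf => ?_⟩
  obtain ⟨t, ht, c, hc, rfl⟩ := (mem_sup_of_commute hcomm).1 hx
  obtain ⟨g, hg, H⟩ := Cfsg.Agent.Lib.Helper88Quot.good hS hF hT hf
  have htM : t ∈ Subgroup.zpowers (t * c) ⊔ T := Subgroup.mem_sup_right ht
  have hxM : t * c ∈ Subgroup.zpowers (t * c) ⊔ T :=
    Subgroup.mem_sup_left (Subgroup.mem_zpowers _)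
  have hcM : c ∈ Subgroup.zpowers (t * c) ⊔ T := by
    have h : t⁻¹ * (t * c) = c := by group
    have h' := Subgroup.mul_mem _ (Subgroup.inv_mem _ htM) hxM
    rwa [h] at h'
  have hgT : g '' (T : Set Ω) = (T : Set Ω) := StronglyClosed.image_eq hT hg le_sup_right
  have hgc : g c ∈ centralizerIn S T := by
    rw [mem_centralizerIn]
    refine ⟨hg.mem hcM, fun y hy => ?_⟩
    obtain ⟨u, hu, rfl⟩ := IsMap.exists_of_mem_image hgT hy
    rw [← hg.map_mul (Subgroup.mem_sup_right hu) hcM, ← hg.map_mul hcM (Subgroup.mem_sup_right hu),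
      hcomm u hu c hc]
  have h1 := H (t * c) (Subgroup.mem_zpowers _)
  have h2 : f (t * c) = g t * g c * ((f (t * c))⁻¹ * g (t * c))⁻¹ := by
    rw [hg.map_mul htM hcM]; group
  rw [h2]
  exact Subgroup.mul_mem _ (Subgroup.mul_mem _ (Subgroup.mem_sup_left (IsMap.mem_image hgT ht))
    (Subgroup.mem_sup_right hgc)) (Subgroup.mem_sup_left (T.inv_mem h1))

end Cfsg.Agent.S5255
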