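import Cfsg.Statements.S4218
import Cfsg.Agent.S0029
import Cfsg.Agent.S0012
import Cfsg.Agent.Lib.Helper38HH
import Cfsg.Agent.Lib.Helper38PSolv
import Cfsg.Agent.Lib.Helper60Core

set_option autoImplicit false
open Cfsg

namespace Cfsg.Agent.S4218

open Cfsg.Agent.Lib
open scoped commutatorElement

theorem core {H : Type*} [Group H] [Finite H] {p : ℕ} [Fact p.Prime] (hs : IsPSolvable p H)
    (h0 : pPrimeCore p H = ⊥) (g : H)
    (hg : ∀ x ∈ pCore p H, g * x * g⁻¹ * x⁻¹ ∈ (frattini (pCore p H)).map (pCore p H).subtype) :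
    g ∈ pCore p H := by
  set P := pCore p H with hP
  have hPn : P.Normal := inferInstance
  have hPp : IsPGroup p P := Helper60Core.pCore_isPGroup p
  set Φ := (frattini P).map P.subtype with hΦ
  have hΦn : Φ.Normal := ConjAct.normal_of_characteristic_of_normal
  let C : Subgroup H :=
    { carrier := {k | ∀ x ∈ P, k * x * k⁻¹ * x⁻¹ ∈ Φ}
      one_mem' := by
        intro x _
        simp [Φ.one_mem]
      mul_mem' := by
        intro a b ha hb x hx
        have h1 := hΦn.conj_mem _ (hb x hx) a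
        have h2 := Φ.mul_mem h1 (ha x hx)
        have : a * b * x * (a * b)⁻¹ * x⁻¹ = a * (b * x * b⁻¹ * x⁻¹) * a⁻¹ * (a * x * a⁻¹ * x⁻¹) := by
          group
        rw [this]; exact h2
      inv_mem' := by
        intro a ha x hx
        have h1 := Φ.inv_mem (ha x hx)
        have h2 := hΦn.conj_mem _ h1 a⁻¹
        have : a⁻¹ * x * a⁻¹⁻¹ * x⁻¹ = a⁻¹ * (a * x * a⁻¹ * x⁻¹)⁻¹ * a⁻¹⁻¹ := by group
        rw [this]; exact h2 }
  have hCmem : ∀ k, k ∈ C ↔ ∀ x ∈ P, k * x * k⁻¹ * x⁻¹ ∈ Φ := fun k => Iff.rfl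
  have hCn : C.Normal := by
    constructor
    intro k hk a x hx
    have hx' : a⁻¹ * x * a⁻¹⁻¹ ∈ P := hPn.conj_mem _ hx _
    have h1 := hΦn.conj_mem _ (hk _ hx') a
    have : a * k * a⁻¹ * x * (a * k * a⁻¹)⁻¹ * x⁻¹
        = a * (k * (a⁻¹ * x * a⁻¹⁻¹) * k⁻¹ * (a⁻¹ * x * a⁻¹⁻¹)⁻¹) * a⁻¹ := by group
    rw [this]; exact h1
  have hCp : IsPGroup p C := by
    intro k
    have hk : (k : H) ∈ C := k.2
    obtain ⟨m, s, hs1, hs2⟩ := Nat.exists_eq_pow_mul_and_not_dvd (orderOf_pos (k : H)).ne' p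
      (Fact.out : p.Prime).ne_one
    refine ⟨m, ?_⟩
    set y : H := (k : H) ^ (p ^ m) with hy
    have hys : y ^ s = 1 := by
      rw [hy, ← pow_mul, ← hs2]; exact pow_orderOf_eq_one _
    have hyC : y ∈ C := C.pow_mem hk _
    have hscop : s.Coprime p := ((Nat.Prime.coprime_iff_not_dvd Fact.out).2 hs1).symm
    have hA : Subgroup.zpowers y ≤ Subgroup.centralizer (P : Set H) := by
      apply Cfsg.Agent.S0029.result (Subgroup.zpowers y) P
      · rw [Subgroup.normalizer_eq_top_iff.2 hPn]; exact le_top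
      · have h1 : Nat.card (Subgroup.zpowers y) ∣ s := by
          rw [Nat.card_zpowers]; exact orderOf_dvd_of_pow_eq_one hys
        obtain ⟨j, hj⟩ := (hPp.to_subgroup (frattini P)).exists_card_eq
        rw [hj]
        exact Nat.Coprime.pow_right _ (Nat.Coprime.coprime_dvd_left h1 hscop)
      · intro a ha x hx
        have : a ∈ C := (Subgroup.zpowers_le.2 hyC) ha
        exact this x hx
    have hyP : y ∈ P :=
      Helper38HH.centralizer_pCore_le hs h0 (hA (Subgroup.mem_zpowers y))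
    obtain ⟨j, hj⟩ := hPp ⟨y, hyP⟩
    have hj' : y ^ (p ^ j) = 1 := by
      simpa using congrArg Subtype.val hj
    have hy1 : y = 1 := Helper38HH.eq_one_of_pow_coprime hys hj' (Nat.Coprime.pow_right _ hscop)
    apply Subtype.ext
    simpa [hy] using hy1
  exact Helper60Core.le_pCore hCn hCp hg


theorem frattini_comap_equiv {A B : Type*} [Group A] [Group B] (e : A ≃* B) (a : A) :
    a ∈ frattini A ↔ e a ∈ frattini B := by
  have h : e.comapSubgroup (frattini B) = frattini A := e.comapSubgroup.map_radical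
  rw [← h]
  rfl

/-- Let `G` be a finite `p`-solvable group, `N₀ = O_{p'}(G)`, `P₁ = O_{p',p}(G)`, and let `F ≤ P₁` be the preimage of the Frattini subgroup of `P₁/N₀`. Then an element `g` of `G` induces the identity on `P₁/F` by conjugation (that is, `g x g⁻¹ x⁻¹ ∈ F` for all `x ∈ P₁`) if and only if `g ∈ P₁`: the group `G/P₁` acts faithfully on `P₁/F`. -/
theorem result {G : Type*} [Group G] [Finite G] {p : ℕ} [Fact p.Prime] (hG : Cfsg.IsPSolvable p G) (g : G) : (∀ x ∈ Cfsg.pPrimePCore p G, g * x * g⁻¹ * x⁻¹ ∈ ((frattini (↥(Cfsg.pPrimePCore p G) ⧸ (Cfsg.pPrimeCore p G).subgroupOf (Cfsg.pPrimePCore p G))).comap (QuotientGroup.mk' ((Cfsg.pPrimeCore p G).subgroupOf (Cfsg.pPrimePCore p G)))).map (Cfsg.pPrimePCore p G).subtype) ↔ g ∈ Cfsg.pPrimePCore p G := by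
  set N₀ := pPrimeCore p G with hN₀
  set P₁ := pPrimePCore p G with hP₁
  set π := QuotientGroup.mk' N₀ with hπ
  set Pb := pCore p (G ⧸ N₀) with hPb
  have hmemP₁ : ∀ x, x ∈ P₁ ↔ π x ∈ Pb := fun x => Iff.rfl
  have hPbp : IsPGroup p Pb := Helper60Core.pCore_isPGroup p
  -- the natural map P₁ → Pb
  let φ : ↥P₁ →* ↥Pb :=
    { toFun := fun x => ⟨π x, (hmemP₁ x).1 x.2⟩
      map_one' := by apply Subtype.ext; simp
      map_mul' := by intro a b; apply Subtype.ext; simp }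
  have hφval : ∀ x : ↥P₁, ((φ x : ↥Pb) : G ⧸ N₀) = π x := fun x => rfl
  have hφs : Function.Surjective φ := by
    rintro ⟨z, hz⟩
    obtain ⟨x, rfl⟩ := QuotientGroup.mk'_surjective N₀ z
    exact ⟨⟨x, hz⟩, rfl⟩
  have hker : N₀.subgroupOf P₁ = φ.ker := by
    ext x
    rw [Subgroup.mem_subgroupOf, MonoidHom.mem_ker]
    constructor
    · intro hx
      apply Subtype.ext
      rw [hφval]
      exact (QuotientGroup.eq_one_iff _).2 hx
    · intro hx
      have := congrArg Subtype.val hx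
      rw [hφval] at this
      exact (QuotientGroup.eq_one_iff _).1 this
  let e : (↥P₁ ⧸ N₀.subgroupOf P₁) ≃* ↥Pb :=
    (QuotientGroup.quotientMulEquivOfEq hker).trans (QuotientGroup.quotientKerEquivOfSurjective φ hφs)
  have he : ∀ x : ↥P₁, e (QuotientGroup.mk' (N₀.subgroupOf P₁) x) = φ x := fun x => rfl
  have hF : ∀ x : ↥P₁, QuotientGroup.mk' (N₀.subgroupOf P₁) x ∈ frattini (↥P₁ ⧸ N₀.subgroupOf P₁)
      ↔ φ x ∈ frattini ↥Pb := by
    intro x
    rw [frattini_comap_equiv e, he]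
  constructor
  · intro h
    rw [hmemP₁]
    apply core (Helper38PSolv.isPSolvable_quotient N₀ hG) (Helper60Core.pPrimeCore_quotient_eq_bot p)
    intro z hz
    obtain ⟨x, rfl⟩ := QuotientGroup.mk'_surjective N₀ z
    have hx : x ∈ P₁ := hz
    obtain ⟨w, hw, hwe⟩ := Subgroup.mem_map.1 (h x hx)
    rw [Subgroup.mem_comap, hF] at hw
    refine Subgroup.mem_map.2 ⟨φ w, hw, ?_⟩
    change π (w : G) = _
    have hwe' : (w : G) = g * x * g⁻¹ * x⁻¹ := hwe
    rw [hwe']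
    simp only [map_mul, map_inv]
    rfl
  · intro hg x hx
    have hQp : IsPGroup p (↥P₁ ⧸ N₀.subgroupOf P₁) := hPbp.of_equiv e.symm
    have hcomm := (Cfsg.Agent.S0012.result p hQp).1
    refine Subgroup.mem_map.2 ⟨(⟨g, hg⟩ : ↥P₁) * ⟨x, hx⟩ * (⟨g, hg⟩ : ↥P₁)⁻¹ * (⟨x, hx⟩ : ↥P₁)⁻¹, ?_, rfl⟩
    rw [Subgroup.mem_comap]
    apply hcomm
    have : QuotientGroup.mk' (N₀.subgroupOf P₁)
        ((⟨g, hg⟩ : ↥P₁) * ⟨x, hx⟩ * (⟨g, hg⟩ : ↥P₁)⁻¹ * (⟨x, hx⟩ : ↥P₁)⁻¹)
        = ⁅QuotientGroup.mk' (N₀.subgroupOf P₁) ⟨g, hg⟩, QuotientGroup.mk' (N₀.subgroupOf P₁) ⟨x, hx⟩⁆ := by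
      rw [commutatorElement_def]; simp only [map_mul, map_inv]
    rw [this]
    exact Subgroup.commutator_mem_commutator (Subgroup.mem_top _) (Subgroup.mem_top _)

end Cfsg.Agent.S4218
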