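import Cfsg.Statements.S0536
import Cfsg.Agent.Lib.Helper11Schmidt

set_option autoImplicit false
open Cfsg

namespace Cfsg.Agent.S0536

open Cfsg.Agent.Lib.Helper11Schmidt

/-- Structure of minimal non-nilpotent groups: if a finite group is not nilpotent but all its proper subgroups are, then there are distinct primes p and q, a cyclic Sylow p-subgroup P and a normal Sylow q-subgroup Q with G generated by P and Q. -/
theorem result {G : Type*} [Group G] [Finite G] (hG : Cfsg.IsMinimalNonNilpotent G) : ∃ p q : ℕ, p.Prime ∧ q.Prime ∧ p ≠ q ∧ ∃ (P : Sylow p G) (Q : Sylow q G), IsCyclic P ∧ (Q : Subgroup G).Normal ∧ (P : Subgroup G) ⊔ Q = ⊤ := by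
  obtain ⟨hnil, hmin⟩ := hG
  obtain ⟨p, q, hp, hq, hpq, H, R, hH, hR, hRc, hRN, hRC⟩ := exists_schmidt_pair hnil
  have : Fact p.Prime := ⟨hp⟩
  have : Fact q.Prime := ⟨hq⟩
  have htop : H ⊔ R = ⊤ := by
    by_contra hne
    exact hRC (le_centralizer_of_isNilpotent hp hq hpq H R _ hH hR le_sup_left le_sup_right
      (hmin _ hne))
  obtain ⟨hn, ⟨Q, hQ⟩, ⟨P, hP⟩⟩ := sylow_of_pair p q hpq H R hH hR hRN htop
  refine ⟨p, q, hp, hq, hpq, P, Q, ?_, ?_, ?_⟩
  · have : IsCyclic (P : Subgroup G) := by rw [hP]; exact hRc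
    exact this
  · rw [hQ]; exact hn
  · rw [hP, hQ, sup_comm]; exact htop

end Cfsg.Agent.S0536
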