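import Cfsg.Statements.S5299
import Cfsg.Agent.Lib.Helper40Sylow
import Cfsg.Statements.S5299
import Cfsg.Agent.Lib.Helper40Sylow
-- import your own Cfsg.Agent.* helpers here

set_option autoImplicit false
universe u
open Cfsg

namespace Cfsg.Agent.S5299

theorem involves_iff {H : Type*} [Group H] {G : Type*} [Group G] :
    Cfsg.Involves H G ↔ ∃ (K : Subgroup G) (f : K →* H), Function.Surjective f := by
  constructor
  · rintro ⟨K, R, hn, ⟨e⟩⟩
    exact ⟨K, e.toMonoidHom.comp (QuotientGroup.mk' (R.subgroupOf K)),
      e.surjective.comp (QuotientGroup.mk'_surjective _)⟩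
  · rintro ⟨K, f, hf⟩
    have e : (f.ker.map K.subtype).subgroupOf K = f.ker :=
      Subgroup.comap_map_eq_self_of_injective K.subtype_injective _
    have hn : ((f.ker.map K.subtype).subgroupOf K).Normal := by rw [e]; infer_instance
    exact ⟨K, f.ker.map K.subtype, hn,
      ⟨(QuotientGroup.quotientMulEquivOfEq e).trans (QuotientGroup.quotientKerEquivOfSurjective f hf)⟩⟩

theorem involves_of_injective {Q : Type*} [Group Q] {A B : Type*} [Group A] [Group B] (j : A →* B)
    (hj : Function.Injective j) (h : Cfsg.Involves Q A) : Cfsg.Involves Q B := by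
  rw [involves_iff] at h ⊢
  obtain ⟨K, f, hf⟩ := h
  exact ⟨K.map j, f.comp (K.equivMapOfInjective j hj).symm.toMonoidHom,
    hf.comp (K.equivMapOfInjective j hj).symm.surjective⟩

theorem involves_of_surjective {Q : Type*} [Group Q] {A : Type*} [Group A] (f : A →* Q)
    (hf : Function.Surjective f) : Cfsg.Involves Q A := by
  rw [involves_iff]
  exact ⟨⊤, f.comp (⊤ : Subgroup A).subtype, fun q => by
    obtain ⟨a, rfl⟩ := hf q
    exact ⟨⟨a, trivial⟩, rfl⟩⟩

/-- a surjection from a finite group onto a `p`-group is already surjective on a Sylow subgroup. -/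
theorem surjective_on_sylow {A B : Type*} [Group A] [Group B] [Finite A] {p : ℕ} [Fact p.Prime]
    (f : A →* B) (hf : Function.Surjective f) (hB : IsPGroup p B) (P : Sylow p A) :
    Function.Surjective (f.comp (P : Subgroup A).subtype) := by
  have h1 : ((P.mapSurjective hf : Sylow p B) : Subgroup B) = ⊤ := by
    symm
    apply (P.mapSurjective hf).3 _ le_top
    exact hB.to_subgroup ⊤
  intro b
  have h2 : b ∈ ((P.mapSurjective hf : Sylow p B) : Subgroup B) := by rw [h1]; trivial
  rw [Sylow.coe_mapSurjective] at h2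
  obtain ⟨a, ha, rfl⟩ := h2
  exact ⟨⟨a, ha⟩, rfl⟩

/-- A `p`-subgroup of a section of a finite group is a section of any Sylow `p`-subgroup. -/
theorem involves_sylow {H : Type*} [Group H] {L : Type*} [Group L] [Finite L] {p : ℕ}
    [Fact p.Prime] (Q : Subgroup H) (hQ : IsPGroup p Q) (h : Cfsg.Involves H L) (T : Sylow p L) :
    Cfsg.Involves Q (T : Subgroup L) := by
  obtain ⟨K, f, hf⟩ := involves_iff.1 h
  have hs : Function.Surjective (f.subgroupComap Q) :=
    MonoidHom.subgroupComap_surjective_of_surjective f Q hf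
  obtain ⟨P₁⟩ : Nonempty (Sylow p (Q.comap f)) := inferInstance
  have h1 := involves_of_surjective _ (surjective_on_sylow _ hs hQ P₁)
  let j₀ : (P₁ : Subgroup (Q.comap f)) →* L :=
    K.subtype.comp ((Q.comap f).subtype.comp (P₁ : Subgroup (Q.comap f)).subtype)
  have hj₀ : Function.Injective j₀ :=
    K.subtype_injective.comp ((Q.comap f).subtype_injective.comp
      (P₁ : Subgroup (Q.comap f)).subtype_injective)
  have hp : IsPGroup p j₀.range := P₁.2.of_surjective j₀.rangeRestrict j₀.rangeRestrict_surjective
  obtain ⟨T', hT'⟩ := hp.exists_le_sylow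
  obtain ⟨g, hg⟩ := MulAction.exists_smul_eq L T' T
  have hmem : ∀ x, (MulAut.conj g).toMonoidHom.comp j₀ x ∈ (T : Subgroup L) := by
    intro x
    rw [← hg, Cfsg.Agent.Lib.Helper40Sylow.sylow_smul_eq_cj]
    exact Cfsg.Agent.Lib.Helper40Sylow.conj_mem_cj (hT' ⟨x, rfl⟩)
  refine involves_of_injective (((MulAut.conj g).toMonoidHom.comp j₀).codRestrict _ hmem) ?_ h1
  intro x y hxy
  apply hj₀
  apply (MulAut.conj g).injective
  exact congrArg Subtype.val hxy

/-- Let F be a saturated fusion system over a finite p-group S, H a finite group and Q a p-subgroup of H. If Q is not involved in S (no section of S is isomorphic to Q), then F is H-free: H is involved in no model of the normalizer system of a fully normalized centric subgroup. -/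
theorem result {Ω : Type u} [Group Ω] {S : Subgroup Ω} [Finite S] (p : ℕ) [Fact p.Prime] (hS : IsPGroup p S)
    (F : Cfsg.FusionSystem S) (hF : F.IsSaturated p) (H : Type*) [Group H] [Finite H] (Q : Subgroup H) (hQ : IsPGroup p Q)
    (hfree : ¬ Cfsg.Involves (↥Q) (↥S)) : F.IsSectionFree p H := by
  intro Q₀ _ _ N _ L _ ι hmodel hinv
  obtain ⟨hfin, hι, ⟨T, hT⟩, -⟩ := hmodel
  apply hfree
  have h1 := involves_sylow Q hQ hinv T
  rw [hT] at h1
  have h2 : Cfsg.Involves Q (FusionSystem.normalizerIn S Q₀) :=
    involves_of_injective (MonoidHom.ofInjective hι.1).symm.toMonoidHom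
      (MonoidHom.ofInjective hι.1).symm.injective h1
  exact involves_of_injective (Subgroup.inclusion (inf_le_left : FusionSystem.normalizerIn S Q₀ ≤ S))
    (Subgroup.inclusion_injective _) h2

end Cfsg.Agent.S5299
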