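import Cfsg.Statements.S3975
import Mathlib

set_option autoImplicit false
open Cfsg

namespace Cfsg.Agent.S3975

open Pointwise MulAction

section general

theorem dvd_card_of_forall_dvd_index {G X : Type*} [Group G] [MulAction G X] [Finite X] (d : ℕ)
    (h : ∀ x : X, d ∣ (stabilizer G x).index) : d ∣ Nat.card X := by
  classical
  have := Fintype.ofFinite (orbitRel.Quotient G X)
  rw [Nat.card_congr (selfEquivSigmaOrbits' G X), Nat.card_sigma]
  apply Finset.dvd_sum
  intro ω _
  induction ω using Quotient.inductionOn' with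
  | h x =>
    rw [orbitRel.Quotient.orbit_mk]
    have := h x
    rwa [index_stabilizer, ← Nat.card_coe_set_eq] at this

theorem dvd_ncard_of_invariant {G X : Type*} [Group G] [MulAction G X] [Finite X] (Y : Set X)
    (hY : ∀ g : G, ∀ y ∈ Y, g • y ∈ Y) (d : ℕ) (h : ∀ y ∈ Y, d ∣ (stabilizer G y).index) :
    d ∣ Y.ncard := by
  let Y' : SubMulAction G X := ⟨Y, fun g y hy => hY g y hy⟩
  have h1 : d ∣ Nat.card Y' := by
    apply dvd_card_of_forall_dvd_index (G := G)
    intro y
    rw [SubMulAction.stabilizer_of_subMul]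
    exact h y y.2
  exact h1

end general

section arith

theorem choose_pred_modEq_one (p : ℕ) [Fact p.Prime] (β : ℕ) : ∀ m : ℕ, 0 < m →
    (p ^ β * m - 1).choose (p ^ β - 1) ≡ 1 [MOD p] := by
  have hp : p.Prime := Fact.out
  induction β with
  | zero => intro m _; simp [Nat.ModEq]
  | succ β ih =>
    intro m hm
    have key : ∀ A : ℕ, 0 < A → (p * A - 1) % p = p - 1 ∧ (p * A - 1) / p = A - 1 := by
      intro A hA
      obtain ⟨B, rfl⟩ : ∃ B, A = B + 1 := ⟨A - 1, by omega⟩
      have h1 : p * (B + 1) - 1 = (p - 1) + p * B := by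
        have := hp.one_lt
        rw [mul_add, mul_one]; omega
      rw [h1]
      constructor
      · rw [Nat.add_mul_mod_self_left]
        exact Nat.mod_eq_of_lt (by have := hp.one_lt; omega)
      · rw [Nat.add_mul_div_left _ _ hp.pos, Nat.div_eq_of_lt (by have := hp.one_lt; omega)]
        simp
    have h1 := Choose.choose_modEq_choose_mod_mul_choose_div_nat (p := p)
      (n := p ^ (β + 1) * m - 1) (k := p ^ (β + 1) - 1)
    have e1 : p ^ (β + 1) * m = p * (p ^ β * m) := by rw [pow_succ']; ring
    have e2 : p ^ (β + 1) = p * p ^ β := pow_succ' p β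
    have hA : 0 < p ^ β * m := Nat.mul_pos (pow_pos hp.pos _) hm
    have hB : 0 < p ^ β := pow_pos hp.pos _
    rw [e1, (key _ hA).1, (key _ hA).2, e2, (key _ hB).1, (key _ hB).2, Nat.choose_self,
      one_mul] at h1
    rw [e1, e2]
    exact h1.trans (ih m hm)

theorem choose_eq (p : ℕ) [Fact p.Prime] (β m : ℕ) (hm : 0 < m) :
    (p ^ β * m).choose (p ^ β) = m * (p ^ β * m - 1).choose (p ^ β - 1) := by
  have hp : p.Prime := Fact.out
  have hB : 0 < p ^ β := pow_pos hp.pos _
  have hA : 0 < p ^ β * m := Nat.mul_pos hB hm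
  have h := Nat.add_one_mul_choose_eq (p ^ β * m - 1) (p ^ β - 1)
  rw [Nat.sub_add_cancel hA, Nat.sub_add_cancel hB] at h
  apply Nat.eq_of_mul_eq_mul_right hB
  rw [← h]; ring

end arith

section main
variable {G : Type*} [Group G] [Finite G]

theorem card_sets (k : ℕ) : Nat.card {S : Set G // S.ncard = k} = (Nat.card G).choose k := by
  classical
  have := Fintype.ofFinite G
  rw [← Set.powersetCard.card]
  apply Nat.card_congr
  exact (Equiv.subtypeEquiv Fintype.finsetEquivSet (fun s => by
    simp [Set.powersetCard.mem_iff, Set.ncard_coe_finset])).symm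

/-- the left cosets of the subgroups of order `k`. -/
def cosets (G : Type*) [Group G] (k : ℕ) : Set (Set G) :=
  {S | ∃ H : Subgroup G, Nat.card H = k ∧ ∃ g : G, S = g • (H : Set G)}

theorem cosets_ncard {k : ℕ} {S : Set G} (hS : S ∈ cosets G k) : S.ncard = k := by
  obtain ⟨H, hH, g, rfl⟩ := hS
  rw [Set.ncard_smul_set]
  exact hH

theorem mem_class_iff (H : Subgroup G) (g x : G) :
    x ∈ g • (H : Set G) ↔ (x : G ⧸ H) = (g : G ⧸ H) := by
  rw [Set.mem_smul_set_iff_inv_smul_mem, smul_eq_mul, eq_comm, QuotientGroup.eq]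
  rfl

theorem card_cosets (k : ℕ) :
    (cosets G k).ncard = Nat.card {H : Subgroup G // Nat.card H = k} * (Nat.card G / k) := by
  classical
  have := Fintype.ofFinite {H : Subgroup G // Nat.card H = k}
  let Φ : (Σ H : {H : Subgroup G // Nat.card H = k}, G ⧸ H.1) → cosets G k := fun x =>
    ⟨{y | (y : G ⧸ x.1.1) = x.2}, x.1.1, x.1.2, x.2.out, by
      ext y
      rw [mem_class_iff, QuotientGroup.out_eq']
      rfl⟩
  have hΦ : Function.Bijective Φ := by
    constructor
    · rintro ⟨⟨H, hH⟩, q⟩ ⟨⟨H', hH'⟩, q'⟩ h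
      have h1 : {y : G | (y : G ⧸ H) = q} = {y : G | (y : G ⧸ H') = q'} :=
        congrArg Subtype.val h
      obtain ⟨g, rfl⟩ := QuotientGroup.mk_surjective q
      have hg : (g : G ⧸ H') = q' := by
        have : g ∈ {y : G | (y : G ⧸ H) = (g : G ⧸ H)} := rfl
        rw [h1] at this
        exact this
      subst hg
      have hHH : H = H' := by
        ext x
        have e1 : x ∈ H ↔ g * x ∈ {y : G | (y : G ⧸ H) = (g : G ⧸ H)} := by
          rw [Set.mem_ofPred_eq, eq_comm, QuotientGroup.eq]; simp
        have e2 : x ∈ H' ↔ g * x ∈ {y : G | (y : G ⧸ H') = (g : G ⧸ H')} := by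
          rw [Set.mem_ofPred_eq, eq_comm, QuotientGroup.eq]; simp
        rw [e1, e2, h1]
      subst hHH
      rfl
    · rintro ⟨S, H, hH, g, rfl⟩
      refine ⟨⟨⟨H, hH⟩, (g : G ⧸ H)⟩, ?_⟩
      apply Subtype.ext
      ext y
      rw [mem_class_iff]
      rfl
  rw [← Nat.card_coe_set_eq, ← Nat.card_eq_of_bijective Φ hΦ, Nat.card_sigma]
  have : ∀ H : {H : Subgroup G // Nat.card H = k}, Nat.card (G ⧸ H.1) = Nat.card G / k := by
    intro H
    have h1 := H.1.card_mul_index
    rw [H.2] at h1
    have hk : 0 < k := by rw [← H.2]; exact Nat.card_pos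
    rw [← h1, Nat.mul_div_cancel_left _ hk]
    rfl
  rw [Finset.sum_congr rfl (fun H _ => this H), Finset.sum_const, Finset.card_univ,
    ← Nat.card_eq_fintype_card, smul_eq_mul]

theorem card_stabilizer_dvd (S : Set G) : Nat.card (stabilizer G S) ∣ S.ncard := by
  apply dvd_ncard_of_invariant (G := stabilizer G S) S
  · intro g y hy
    have h1 : (g : G) • S = S := g.2
    have h2 : (g : G) • y ∈ (g : G) • S := Set.smul_mem_smul_set hy
    rw [h1] at h2
    exact h2
  · intro y _
    have : stabilizer (stabilizer G S) y = ⊥ := by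
      rw [eq_bot_iff]
      intro g hg
      have h1 : (g : G) * y = y := hg
      rw [Subgroup.mem_bot]
      apply Subtype.ext
      simpa using h1
    rw [this, Subgroup.index_bot]

theorem mem_cosets_of_card_stabilizer (k : ℕ) (hk : 0 < k) (S : Set G) (hS : S.ncard = k)
    (hK : Nat.card (stabilizer G S) = k) : S ∈ cosets G k := by
  have hne : S.Nonempty := by
    rw [← Set.ncard_pos]; omega
  obtain ⟨s, hs⟩ := hne
  set K := stabilizer G S with hKdef
  let T : Set G := (fun x => x * s) '' (K : Set G)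
  have hTS : T ⊆ S := by
    rintro _ ⟨x, hx, rfl⟩
    have h1 : x • S = S := hx
    rw [← h1]
    exact Set.smul_mem_smul_set hs
  have hTcard : T.ncard = k := by
    rw [Set.ncard_image_of_injective _ (mul_left_injective s)]
    exact hK
  have hTeq : T = S := Set.eq_of_subset_of_ncard_le hTS (by rw [hS, hTcard])
  refine ⟨K.map (MulAut.conj s⁻¹).toMonoidHom, ?_, s, ?_⟩
  · rw [Subgroup.card_map_of_injective (MulAut.conj s⁻¹).injective]
    exact hK
  · rw [← hTeq]
    ext x
    rw [Set.mem_smul_set_iff_inv_smul_mem, smul_eq_mul]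
    constructor
    · rintro ⟨y, hy, rfl⟩
      exact ⟨y, hy, by simp [mul_assoc]⟩
    · rintro ⟨y, hy, h⟩
      refine ⟨y, hy, ?_⟩
      simp only [MulEquiv.coe_toMonoidHom, MulAut.conj_apply, inv_inv] at h
      have : y * s = s * (s⁻¹ * y * s) := by group
      show y * s = x
      rw [this, h]; group

end main


/-- Let `p` be a prime and `G` a finite group whose order is divisible by `p ^ β`. Then the number of subgroups of `G` of order `p ^ β` is congruent to `1` modulo `p`. (When `p ^ β` is the full power of `p` dividing the order, these are the Sylow `p`-subgroups and this is the usual Sylow count.) -/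
theorem result {G : Type*} [Group G] [Finite G] (p β : ℕ) (hp : p.Prime) (hdiv : p ^ β ∣ Nat.card G) : Nat.card {H : Subgroup G // Nat.card H = p ^ β} ≡ 1 [MOD p] := by
  have : Fact p.Prime := ⟨hp⟩
  obtain ⟨m, hm⟩ := hdiv
  have hmpos : 0 < m := by
    rcases Nat.eq_zero_or_pos m with h | h
    · rw [h, mul_zero] at hm; exact absurd hm Nat.card_pos.ne'
    · exact h
  have hkpos : 0 < p ^ β := pow_pos hp.pos _
  let Y : Set (Set G) := {S | S.ncard = p ^ β}
  let Y₁ : Set (Set G) := Y \ cosets G (p ^ β)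
  have hsub : cosets G (p ^ β) ⊆ Y := fun S hS => cosets_ncard hS
  have h1 : Y.ncard = (cosets G (p ^ β)).ncard + Y₁.ncard := by
    rw [add_comm]; exact (Set.ncard_sdiff_add_ncard_of_subset hsub).symm
  have h2 : Y.ncard = (Nat.card G).choose (p ^ β) := card_sets (p ^ β)
  have h3 : p * m ∣ Y₁.ncard := by
    apply dvd_ncard_of_invariant (G := G)
    · rintro g S ⟨hS, hSc⟩
      refine ⟨by show (g • S).ncard = p ^ β; rw [Set.ncard_smul_set]; exact hS, ?_⟩
      rintro ⟨H, hH, g', h⟩
      apply hSc
      refine ⟨H, hH, g⁻¹ * g', ?_⟩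
      rw [mul_smul, ← h, inv_smul_smul]
    · rintro S ⟨hS, hSc⟩
      have hS' : S.ncard = p ^ β := hS
      have hd := card_stabilizer_dvd S
      rw [hS'] at hd
      obtain ⟨j, hj, hcard⟩ := (Nat.dvd_prime_pow hp).mp hd
      have hjlt : j < β := by
        rcases hj.lt_or_eq with h | h
        · exact h
        · exfalso
          apply hSc
          apply mem_cosets_of_card_stabilizer (p ^ β) hkpos S hS'
          rw [hcard, h]
      have hidx := (stabilizer G S).card_mul_index
      rw [hcard, hm] at hidx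
      obtain ⟨t, ht⟩ : ∃ t, β = j + 1 + t := ⟨β - j - 1, by omega⟩
      have : (stabilizer G S).index = p * m * p ^ t := by
        apply Nat.eq_of_mul_eq_mul_left (pow_pos hp.pos j)
        rw [hidx, ht]; ring
      rw [this]; exact Dvd.intro _ rfl
  obtain ⟨t, ht⟩ := h3
  rw [h2, card_cosets, ht, hm, choose_eq p β m hmpos, Nat.mul_div_cancel_left _ hkpos] at h1
  have h4 : (p ^ β * m - 1).choose (p ^ β - 1) =
      Nat.card {H : Subgroup G // Nat.card H = p ^ β} + p * t := by
    apply Nat.eq_of_mul_eq_mul_left hmpos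
    rw [h1]; ring
  have h5 := choose_pred_modEq_one p β m hmpos
  rw [h4] at h5
  exact (Nat.ModEq.symm (by simp [Nat.ModEq])).trans h5

end Cfsg.Agent.S3975
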