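import Cfsg.Statements.S0115
import Cfsg.Agent.Lib.Helper3TwoMax

set_option autoImplicit false
open Cfsg

namespace Cfsg.Agent.S0115

/-- A 2-group of order 2^n, n ≥ 3, is of maximal class exactly when its commutator quotient is a Klein four-group. -/
theorem result {X : Type*} [Group X] [Finite X] (n : ℕ) (hn : 3 ≤ n) (hX : Nat.card X = 2 ^ n) : Group.nilpotencyClass X = n - 1 ↔ IsKleinFour (X ⧸ commutator X) := by
  constructor
  · intro hc
    obtain ⟨hidx, hnc⟩ := Lib.Helper3TwoMax.maxclass_abelianization n hn hX hc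
    exact Lib.Helper3TwoMax.isKleinFour_of_card_four hidx hnc
  · intro hK
    have hidx : (commutator X).index = 4 := hK.card_four
    obtain ⟨m, rfl⟩ : ∃ m, n = m + 3 := ⟨n - 3, by omega⟩
    obtain ⟨C, hCc, hCi⟩ := Lib.Helper3TwoMax.exists_cyclic_index_two m X hX hidx
    have hC : ∀ a ∈ C, ∀ b ∈ C, a * b = b * a := by
      intro a ha b hb
      exact congrArg Subtype.val ((IsCyclic.commGroup (α := C)).mul_comm ⟨a, ha⟩ ⟨b, hb⟩)
    exact Lib.Helper3TwoMax.maxclass_of_abelian_index_two (m + 1) hX hidx C hC hCi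

end Cfsg.Agent.S0115
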