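import Cfsg.Statements.S0379
import Cfsg.Agent.S0378
import Cfsg.Agent.S0366
import Cfsg.Agent.S0364
import Cfsg.Agent.Lib.Helper10M22
import Cfsg.Agent.Lib.Helper10Sharp

set_option autoImplicit false
open Cfsg

namespace Cfsg.Agent.S0379

open MulAction

theorem card_GolayPt : Nat.card GolayPt = 24 := by
  rw [Nat.card_eq_fintype_card, Fintype.card_option, ZMod.card]

theorem fixing_pair (p q : GolayPt) :
    fixingSubgroup M24 ({p, q} : Set GolayPt) = stabilizer M24 p ⊓ stabilizer M24 q := by
  ext g
  simp [mem_fixingSubgroup_iff, Subgroup.mem_inf]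

theorem pow_eq_one_of_fix {H α : Type*} [Group H] [MulAction H α] [Fintype α] (k c : ℕ)
    [IsMultiplyPretransitive H α k] (hc : Nat.card H = c * (Fintype.card α).descFactorial k)
    (hpos : 0 < (Fintype.card α).descFactorial k)
    (l : List α) (hl : l.Nodup) (hk : l.length = k) (g : H) (hg : ∀ w ∈ l, g • w = w) :
    g ^ c = 1 := by
  have h1 := index_stabilizer_of_transitive H (Lib.Helper10Sharp.embOfList l hl hk)
  have h2 := (stabilizer H (Lib.Helper10Sharp.embOfList l hl hk)).card_mul_index
  have hE : Nat.card (Fin k ↪ α) = (Fintype.card α).descFactorial k := by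
    rw [Nat.card_eq_fintype_card, Fintype.card_embedding_eq, Fintype.card_fin]
  rw [h1, hc, hE] at h2
  have h3 := Nat.eq_of_mul_eq_mul_right hpos h2
  have hmem : g ∈ stabilizer H (Lib.Helper10Sharp.embOfList l hl hk) := by
    rw [mem_stabilizer_iff]
    refine Function.Embedding.ext fun i => ?_
    rw [Function.Embedding.smul_apply, Lib.Helper10Sharp.embOfList_apply]
    exact hg _ (List.get_mem _ _)
  have h48 := pow_card_eq_one' (x := (⟨g, hmem⟩ : stabilizer H (Lib.Helper10Sharp.embOfList l hl hk)))
  rw [h3] at h48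
  have := congrArg Subtype.val h48
  simpa using this

/-- The two-point stabiliser in the code's group is simple. -/
theorem result (p q : Cfsg.GolayPt) (hpq : p ≠ q) : IsSimpleGroup ↥(MulAction.stabilizer Cfsg.M24 p ⊓ MulAction.stabilizer Cfsg.M24 q) := by
  rw [← fixing_pair]
  have h5 := S0366.result
  have h4 : IsMultiplyPretransitive M24 GolayPt 4 :=
    isMultiplyPretransitive_of_le (n := 5) (by norm_num) (by rw [card_GolayPt]; norm_num)
  have hs : ({p, q} : Set GolayPt).ncard = 2 := Set.ncard_pair hpq
  have h2 : IsMultiplyPretransitive (fixingSubgroup M24 ({p, q} : Set GolayPt))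
      (SubMulAction.ofFixingSubgroup M24 ({p, q} : Set GolayPt)) 2 :=
    SubMulAction.ofFixingSubgroup.isMultiplyPretransitive M24 ({p, q} : Set GolayPt)
      (by rw [hs])
  have hprim := isPreprimitive_of_is_two_pretransitive h2
  have hΩ : Nat.card (SubMulAction.ofFixingSubgroup M24 ({p, q} : Set GolayPt)) = 22 := by
    have h1 : Nat.card (SubMulAction.ofFixingSubgroup M24 ({p, q} : Set GolayPt)) =
        (({p, q} : Set GolayPt)ᶜ).ncard := by
      rw [← Nat.card_coe_set_eq]
      rfl
    rw [h1, Set.ncard_compl, hs, card_GolayPt]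
  refine Lib.Helper10M22.simple_of_degree_22 hΩ ?_ ?_ ?_
  · intro g hg
    apply Subtype.ext
    apply Subtype.ext
    refine Equiv.ext fun y => ?_
    by_cases hy : y ∈ ({p, q} : Set GolayPt)
    · exact (mem_fixingSubgroup_iff M24).mp g.2 y hy
    · have := hg ⟨y, hy⟩
      exact congrArg Subtype.val this
  · rw [fixing_pair, S0378.result p q hpq]
  · intro g x y z hxy hxz hyz hx hy hz
    have hgp : (g : M24) • p = p := (mem_fixingSubgroup_iff M24).mp g.2 p (by simp)
    have hgq : (g : M24) • q = q := (mem_fixingSubgroup_iff M24).mp g.2 q (by simp)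
    have hx' : (g : M24) • (x : GolayPt) = x := congrArg Subtype.val hx
    have hy' : (g : M24) • (y : GolayPt) = y := congrArg Subtype.val hy
    have hz' : (g : M24) • (z : GolayPt) = z := congrArg Subtype.val hz
    have hxm : (x : GolayPt) ∉ ({p, q} : Set GolayPt) := x.2
    have hym : (y : GolayPt) ∉ ({p, q} : Set GolayPt) := y.2
    have hzm : (z : GolayPt) ∉ ({p, q} : Set GolayPt) := z.2
    simp only [Set.mem_insert_iff, Set.mem_singleton_iff, not_or] at hxm hym hzm
    have hnd : [p, q, (x : GolayPt), (y : GolayPt), (z : GolayPt)].Nodup := by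
      simp only [List.nodup_cons, List.mem_cons, List.not_mem_nil, or_false, not_or,
        List.nodup_nil, and_true, not_false_eq_true]
      refine ⟨⟨hpq, fun h => hxm.1 h.symm, fun h => hym.1 h.symm, fun h => hzm.1 h.symm⟩,
        ⟨fun h => hxm.2 h.symm, fun h => hym.2 h.symm, fun h => hzm.2 h.symm⟩,
        ⟨fun h => hxy (Subtype.ext h), fun h => hxz (Subtype.ext h)⟩, fun h => hyz (Subtype.ext h)⟩
    have h49 : (g : M24) ^ 48 = 1 := by
      refine pow_eq_one_of_fix (α := GolayPt) 5 48 ?_ ?_ _ hnd rfl (g : M24) ?_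
      · rw [S0364.result, ← Nat.card_eq_fintype_card, card_GolayPt]
        decide
      · rw [← Nat.card_eq_fintype_card, card_GolayPt]
        decide
      · simp [hgp, hgq, hx', hy', hz']
    apply Subtype.ext
    simpa using h49

end Cfsg.Agent.S0379
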