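import Cfsg.Statements.S1588

set_option autoImplicit false
open Matrix
open Cfsg

namespace Cfsg.Agent.S1588

abbrev Vc := Fin 24 → ℤ

section
variable (B : Matrix (Fin 24) (Fin 24) ℤ)

/-- the bilinear form -/
def b (x y : Vc) : ℤ := x ⬝ᵥ (B *ᵥ y)

theorem b_add_left (x y z : Vc) : b B (x + y) z = b B x z + b B y z := by
  simp [b, add_dotProduct]

theorem b_add_right (x y z : Vc) : b B x (y + z) = b B x y + b B x z := by
  simp [b, Matrix.mulVec_add, dotProduct_add]

theorem b_smul_right (c : ℤ) (x y : Vc) : b B x (c • y) = c * b B x y := by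
  unfold b
  rw [Matrix.mulVec_smul, dotProduct_smul, smul_eq_mul]

theorem b_smul_left (c : ℤ) (x y : Vc) : b B (c • x) y = c * b B x y := by
  unfold b
  rw [smul_dotProduct, smul_eq_mul]

theorem b_neg_left (x y : Vc) : b B (-x) y = - b B x y := by
  simp [b, neg_dotProduct]

theorem b_neg_right (x y : Vc) : b B x (-y) = - b B x y := by
  simp [b, Matrix.mulVec_neg, dotProduct_neg]

theorem b_zero_right (x : Vc) : b B x 0 = 0 := by simp [b]

theorem b_sum_right {ι : Type*} (s : Finset ι) (x : Vc) (f : ι → Vc) :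
    b B x (∑ i ∈ s, f i) = ∑ i ∈ s, b B x (f i) := by
  classical
  induction s using Finset.induction_on with
  | empty => simp [b_zero_right]
  | insert a s ha ih => rw [Finset.sum_insert ha, Finset.sum_insert ha, b_add_right, ih]

variable {B}

theorem b_symm (hsymm : B.IsSymm) (x y : Vc) : b B x y = b B y x := by
  unfold b
  rw [Matrix.dotProduct_mulVec, ← Matrix.mulVec_transpose, hsymm.eq, dotProduct_comm]

/-- orthogonal families are small -/
theorem card_le_of_ortho {ι : Type*} [Fintype ι] (v : ι → Vc)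
    (h1 : ∀ i j, i ≠ j → b B (v i) (v j) = 0) (h2 : ∀ i, b B (v i) (v i) ≠ 0) :
    Fintype.card ι ≤ 24 := by
  classical
  have hli : LinearIndependent ℤ v := by
    rw [Fintype.linearIndependent_iff]
    intro g hg j
    have h3 := congrArg (b B (v j)) hg
    rw [b_sum_right, b_zero_right] at h3
    rw [Finset.sum_eq_single j] at h3
    · rw [b_smul_right] at h3
      rcases mul_eq_zero.1 h3 with h | h
      · exact h
      · exact absurd h (h2 j)
    · intro i _ hij
      rw [b_smul_right, h1 j i (Ne.symm hij), mul_zero]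
    · intro h; exact absurd (Finset.mem_univ j) h
  have := hli.fintype_card_le_finrank
  simpa using this

/-- a set of vectors, pairwise equal, opposite or orthogonal, has at most 48 elements -/
theorem card_le_48 (F : Finset Vc) (h0 : ∀ x ∈ F, b B x x ≠ 0)
    (h : ∀ x ∈ F, ∀ y ∈ F, x = y ∨ x = -y ∨ b B x y = 0) : F.card ≤ 48 := by
  classical
  let f : Vc → Finset Vc := fun x => {x, -x}
  have hf : ∀ x y : Vc, f x = f y → x = y ∨ x = -y := by
    intro x y hxy
    have : x ∈ f y := by rw [← hxy]; simp [f]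
    simpa [f] using this
  have h1 : F.card ≤ 2 * (F.image f).card := by
    apply Finset.card_le_mul_card_image
    intro p hp
    obtain ⟨x, hx, rfl⟩ := Finset.mem_image.1 hp
    calc (F.filter (fun a => f a = f x)).card ≤ (f x).card := by
          apply Finset.card_le_card
          intro a ha
          have := hf a x (Finset.mem_filter.1 ha).2
          simpa [f] using this
      _ ≤ 2 := Finset.card_le_two
  have hsec : ∀ p : {p // p ∈ F.image f}, ∃ x ∈ F, f x = p.1 := fun p => by
    obtain ⟨x, hx, hxp⟩ := Finset.mem_image.1 p.2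
    exact ⟨x, hx, hxp⟩
  choose v hvF hvp using hsec
  have h2 : Fintype.card {p // p ∈ F.image f} ≤ 24 := by
    apply card_le_of_ortho (B := B) v
    · intro i j hij
      rcases h _ (hvF i) _ (hvF j) with e | e | e
      · exact absurd (Subtype.ext (by rw [← hvp i, ← hvp j, e])) hij
      · refine absurd (Subtype.ext ?_) hij
        rw [← hvp i, ← hvp j, e]
        simp only [f, neg_neg]
        exact Finset.pair_comm _ _
      · exact e
    · intro i; exact h0 _ (hvF i)
  rw [Fintype.card_coe] at h2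
  omega

end

section main
variable {B : Matrix (Fin 24) (Fin 24) ℤ} (hsymm : B.IsSymm)
  (hpos : ∀ x : Fin 24 → ℤ, x ≠ 0 → 0 < x ⬝ᵥ (B *ᵥ x))
  (heven : ∀ x : Fin 24 → ℤ, (2 : ℤ) ∣ x ⬝ᵥ (B *ᵥ x))
  (h2 : ∀ x : Fin 24 → ℤ, x ⬝ᵥ (B *ᵥ x) ≠ 2)

include hpos heven h2 in
theorem four_le {z : Vc} (hz : z ≠ 0) : 4 ≤ b B z z := by
  have a1 := hpos z hz
  have a2 := heven z
  have a3 := h2 z
  unfold b
  omega

/-- reduction mod 2 -/
def red (x : Vc) : Fin 24 → ZMod 2 := fun i => ((x i : ℤ) : ZMod 2)

theorem red_eq_iff (x y : Vc) : red x = red y ↔ ∀ i, (2 : ℤ) ∣ (x - y) i := by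
  constructor
  · intro h i
    have := congrFun h i
    simp only [red] at this
    rw [eq_comm, ZMod.intCast_eq_intCast_iff_dvd_sub] at this
    exact_mod_cast this
  · intro h
    funext i
    simp only [red]
    rw [eq_comm, ZMod.intCast_eq_intCast_iff_dvd_sub]
    exact_mod_cast h i

include hsymm hpos heven h2 in
/-- the key lemma on congruent short vectors -/
theorem key {x y : Vc} (hx : b B x x ≤ 8) (hy : b B y y ≤ 8) (hxy : red x = red y)
    (hne : x ≠ y) (hne' : x ≠ -y) : b B x x = 8 ∧ b B y y = 8 ∧ b B x y = 0 := by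
  have hd := (red_eq_iff x y).1 hxy
  choose z hz using hd
  have e1 : x - y = (2 : ℤ) • z := by
    funext i; rw [hz i]; simp
  have e2 : x + y = (2 : ℤ) • (z + y) := by
    have : x = (2 : ℤ) • z + y := by rw [← e1]; abel
    rw [this, smul_add, two_smul ℤ y]; abel
  have z0 : z ≠ 0 := by
    rintro rfl
    rw [smul_zero, sub_eq_zero] at e1
    exact hne e1
  have z1 : z + y ≠ 0 := by
    intro h
    rw [h, smul_zero] at e2
    exact hne' (eq_neg_of_add_eq_zero_left e2)
  have f1 := four_le hpos heven h2 z0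
  have f2 := four_le hpos heven h2 z1
  have g1 : b B (x - y) (x - y) = b B x x - 2 * b B x y + b B y y := by
    rw [sub_eq_add_neg, b_add_left, b_add_right, b_add_right, b_neg_left, b_neg_left, b_neg_right,
      b_neg_right, b_symm hsymm y x]
    ring
  have g2 : b B (x + y) (x + y) = b B x x + 2 * b B x y + b B y y := by
    rw [b_add_left, b_add_right, b_add_right, b_symm hsymm y x]
    ring
  rw [e1, b_smul_left, b_smul_right] at g1
  rw [e2, b_smul_left, b_smul_right] at g2
  refine ⟨?_, ?_, ?_⟩ <;> omega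

end main

/-- weights -/
def wt (B : Matrix (Fin 24) (Fin 24) ℤ) (x : Vc) : ℕ :=
  if b B x x = 0 then 48 else if b B x x = 8 then 1 else 24

/-- Second step of the characterisation: under the vector counts of the rank-24 lattice, the norm-8 vectors fall into congruence classes of exactly 48 modulo twice the lattice. -/
theorem result (B : Matrix (Fin 24) (Fin 24) ℤ) (hsymm : B.IsSymm) (hpos : ∀ x : Fin 24 → ℤ, x ≠ 0 → 0 < x ⬝ᵥ (B *ᵥ x)) (heven : ∀ x : Fin 24 → ℤ, (2 : ℤ) ∣ x ⬝ᵥ (B *ᵥ x)) (h2 : ∀ x : Fin 24 → ℤ, x ⬝ᵥ (B *ᵥ x) ≠ 2) (h4 : {x : Fin 24 → ℤ | x ⬝ᵥ (B *ᵥ x) = 4}.ncard = 196560) (h6 : {x : Fin 24 → ℤ | x ⬝ᵥ (B *ᵥ x) = 6}.ncard = 16773120) (h8 : {x : Fin 24 → ℤ | x ⬝ᵥ (B *ᵥ x) = 8}.ncard = 398034000) (x : Fin 24 → ℤ) (hx : x ⬝ᵥ (B *ᵥ x) = 8) : {y : Fin 24 → ℤ | y ⬝ᵥ (B *ᵥ y) = 8 ∧ ∀ i, (2 : ℤ) ∣ (x - y) i}.ncard = 48 := by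
  classical
  have fin4 : {x : Fin 24 → ℤ | x ⬝ᵥ (B *ᵥ x) = 4}.Finite :=
    Set.finite_of_ncard_ne_zero (by rw [h4]; norm_num)
  have fin6 : {x : Fin 24 → ℤ | x ⬝ᵥ (B *ᵥ x) = 6}.Finite :=
    Set.finite_of_ncard_ne_zero (by rw [h6]; norm_num)
  have fin8 : {x : Fin 24 → ℤ | x ⬝ᵥ (B *ᵥ x) = 8}.Finite :=
    Set.finite_of_ncard_ne_zero (by rw [h8]; norm_num)
  set F4 := fin4.toFinset with hF4
  set F6 := fin6.toFinset with hF6
  set F8 := fin8.toFinset with hF8
  have m4 : ∀ y, y ∈ F4 ↔ b B y y = 4 := fun y => by simp [hF4, b]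
  have m6 : ∀ y, y ∈ F6 ↔ b B y y = 6 := fun y => by simp [hF6, b]
  have m8 : ∀ y, y ∈ F8 ↔ b B y y = 8 := fun y => by simp [hF8, b]
  have c4 : F4.card = 196560 := by rw [← h4, Set.ncard_eq_toFinset_card _ fin4]
  have c6 : F6.card = 16773120 := by rw [← h6, Set.ncard_eq_toFinset_card _ fin6]
  have c8 : F8.card = 398034000 := by rw [← h8, Set.ncard_eq_toFinset_card _ fin8]
  have b00 : b B 0 0 = 0 := b_zero_right B 0
  have bpos : ∀ y : Vc, b B y y = 0 → y = 0 := by
    intro y hy
    by_contra hne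
    have := hpos y hne
    unfold b at hy
    omega
  set S : Finset Vc := (({0} ∪ F4) ∪ F6) ∪ F8 with hS
  have mS : ∀ y, y ∈ S ↔ y = 0 ∨ b B y y = 4 ∨ b B y y = 6 ∨ b B y y = 8 := by
    intro y
    simp only [hS, Finset.mem_union, Finset.mem_singleton, m4, m6, m8]
    tauto
  have hS8 : ∀ y ∈ S, b B y y ≤ 8 := by
    intro y hy
    rcases (mS y).1 hy with rfl | h | h | h
    · rw [b00]; norm_num
    all_goals omega
  -- total weight
  have htot : ∑ y ∈ S, wt B y = 48 * 2 ^ 24 := by
    rw [hS, Finset.sum_union, Finset.sum_union, Finset.sum_union, Finset.sum_singleton]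
    · have w0 : wt B 0 = 48 := by simp [wt, b00]
      have w4 : ∑ y ∈ F4, wt B y = 24 * F4.card := by
        rw [Finset.sum_congr rfl (fun y hy => (by
          have := (m4 y).1 hy
          simp [wt, this] : wt B y = 24)), Finset.sum_const, smul_eq_mul, mul_comm]
      have w6 : ∑ y ∈ F6, wt B y = 24 * F6.card := by
        rw [Finset.sum_congr rfl (fun y hy => (by
          have := (m6 y).1 hy
          simp [wt, this] : wt B y = 24)), Finset.sum_const, smul_eq_mul, mul_comm]
      have w8 : ∑ y ∈ F8, wt B y = F8.card := by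
        rw [Finset.sum_congr rfl (fun y hy => (by
          have := (m8 y).1 hy
          simp [wt, this] : wt B y = 1)), Finset.sum_const, smul_eq_mul, mul_one]
      rw [w0, w4, w6, w8, c4, c6, c8]
      norm_num
    · rw [Finset.disjoint_left]
      intro y hy hy'
      rw [Finset.mem_singleton] at hy
      rw [m4, hy, b00] at hy'
      omega
    · rw [Finset.disjoint_left]
      intro y hy hy'
      rw [m6] at hy'
      rcases Finset.mem_union.1 hy with hy | hy
      · rw [Finset.mem_singleton] at hy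
        rw [hy, b00] at hy'
        omega
      · rw [m4] at hy; omega
    · rw [Finset.disjoint_left]
      intro y hy hy'
      rw [m8] at hy'
      rcases Finset.mem_union.1 hy with hy | hy
      · rcases Finset.mem_union.1 hy with hy | hy
        · rw [Finset.mem_singleton] at hy
          rw [hy, b00] at hy'
          omega
        · rw [m4] at hy; omega
      · rw [m6] at hy; omega
  have hkey := fun {u v : Vc} => key (x := u) (y := v) hsymm hpos heven h2
  -- bound on each fibre
  have hfib : ∀ c ∈ (Finset.univ : Finset (Fin 24 → ZMod 2)),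
      ∑ y ∈ S with red y = c, wt B y ≤ 48 := by
    intro c _
    by_cases hall : ∀ y ∈ S.filter (fun y => red y = c), b B y y = 8
    · -- all of norm 8
      rw [Finset.sum_congr rfl (fun y hy => (by
          have := hall y hy
          simp [wt, this] : wt B y = 1)), Finset.sum_const, smul_eq_mul, mul_one]
      apply card_le_48 (B := B)
      · intro y hy; rw [hall y hy]; norm_num
      · intro u hu v hv
        by_cases e1 : u = v
        · left; exact e1
        by_cases e2 : u = -v
        · right; left; exact e2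
        right; right
        have hu' := Finset.mem_filter.1 hu
        have hv' := Finset.mem_filter.1 hv
        exact (hkey (hS8 u hu'.1) (hS8 v hv'.1) (hu'.2.trans hv'.2.symm) e1 e2).2.2
    · push Not at hall
      obtain ⟨u, hu, hu8⟩ := hall
      have hu' := Finset.mem_filter.1 hu
      have hsub : S.filter (fun y => red y = c) ⊆ {u, -u} := by
        intro v hv
        have hv' := Finset.mem_filter.1 hv
        by_contra hc
        simp only [Finset.mem_insert, Finset.mem_singleton, not_or] at hc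
        have e2 : u ≠ -v := fun h => hc.2 (by rw [h, neg_neg])
        exact hu8 (hkey (hS8 u hu'.1) (hS8 v hv'.1) (hu'.2.trans hv'.2.symm) (Ne.symm hc.1) e2).1
      by_cases hu0 : u = 0
      · subst hu0
        calc ∑ y ∈ S with red y = c, wt B y ≤ ∑ y ∈ ({0, -0} : Finset Vc), wt B y :=
              Finset.sum_le_sum_of_subset hsub
          _ = 48 := by simp [wt, b00]
      · have hw : wt B u = 24 := by
          have : b B u u ≠ 0 := fun h => hu0 (bpos u h)
          simp [wt, this, hu8]
        have hw' : wt B (-u) = 24 := by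
          have : b B (-u) (-u) = b B u u := by rw [b_neg_left, b_neg_right, neg_neg]
          simp only [wt, this] at hw ⊢
          exact hw
        calc ∑ y ∈ S with red y = c, wt B y ≤ ∑ y ∈ ({u, -u} : Finset Vc), wt B y :=
              Finset.sum_le_sum_of_subset hsub
          _ ≤ wt B u + wt B (-u) := by
              by_cases e : u = -u
              · rw [← e]; simp
              · rw [Finset.sum_pair e]
          _ = 48 := by rw [hw, hw']
  have hsum : ∑ c : Fin 24 → ZMod 2, ∑ y ∈ S with red y = c, wt B y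
      = ∑ _c : Fin 24 → ZMod 2, 48 := by
    rw [Finset.sum_fiberwise, htot, Finset.sum_const, Finset.card_univ]
    simp
  have heq := (Finset.sum_eq_sum_iff_of_le hfib).1 hsum (red x) (Finset.mem_univ _)
  have hx8 : b B x x = 8 := hx
  have hxS : x ∈ S := (mS x).2 (Or.inr (Or.inr (Or.inr hx8)))
  have hall : ∀ y ∈ S.filter (fun y => red y = red x), b B y y = 8 := by
    intro y hy
    have hy' := Finset.mem_filter.1 hy
    by_cases e1 : y = x
    · rw [e1]; exact hx8
    by_cases e2 : y = -x
    · rw [e2, b_neg_left, b_neg_right, neg_neg]; exact hx8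
    exact (hkey (hS8 y hy'.1) (hS8 x hxS) hy'.2 e1 e2).1
  rw [Finset.sum_congr rfl (fun y hy => (by
      have := hall y hy
      simp [wt, this] : wt B y = 1)), Finset.sum_const, smul_eq_mul, mul_one] at heq
  suffices hfin : {y : Fin 24 → ℤ | y ⬝ᵥ (B *ᵥ y) = 8 ∧ ∀ i, (2 : ℤ) ∣ (x - y) i}
      = ((S.filter (fun y => red y = red x) : Finset Vc) : Set Vc) by
    rw [hfin, Set.ncard_coe_finset]; exact heq
  ext y
  simp only [Set.mem_ofPred_eq, Finset.coe_filter, mS]
  constructor
  · rintro ⟨e1, e2⟩
    exact ⟨Or.inr (Or.inr (Or.inr e1)), ((red_eq_iff x y).2 e2).symm⟩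
  · rintro ⟨e1, e2⟩
    refine ⟨hall y (Finset.mem_filter.2 ⟨(mS y).2 e1, e2⟩), (red_eq_iff x y).1 e2.symm⟩

end Cfsg.Agent.S1588
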