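import Cfsg.Statements.S5592
import Cfsg.Agent.Lib.Helper94Leech

set_option autoImplicit false
open Cfsg

namespace Cfsg.Agent.S5592

/-- In the Leech lattice (integer coordinates, sum of squares equal to 8 times the customary norm, so the shortest non-zero vectors have sum of squares 32): if two distinct vectors of sum of squares at most 64 are congruent modulo twice the lattice, then either they are negatives of each other, or both have sum of squares 64 and they are orthogonal. -/
theorem result (x y : Cfsg.GolayPt → ℤ) (hx : x ∈ Cfsg.leechLattice) (hy : y ∈ Cfsg.leechLattice) (hxy : x ≠ y) (hxn : Cfsg.sqNorm x ≤ 64) (hyn : Cfsg.sqNorm y ≤ 64) (hc : (∃ z ∈ Cfsg.leechLattice, x - y = 2 • z)) :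
    x = -y ∨ (Cfsg.sqNorm x = 64 ∧ Cfsg.sqNorm y = 64 ∧ Cfsg.dotInt x y = 0) := by
  obtain ⟨z, hz, hxyz⟩ := hc
  by_cases hneg : x = -y
  · exact Or.inl hneg
  right
  have hmin : ∀ v ∈ Cfsg.leechLattice, v ≠ 0 → 32 ≤ Cfsg.sqNorm v := fun v hv h0 =>
    Cfsg.Agent.Lib.Helper94Leech.min_norm
      ((Cfsg.Agent.Lib.Helper94Leech.mem_leechLattice_iff v).mp hv) h0
  have hz0 : z ≠ 0 := by
    rintro rfl
    apply hxy
    have : x - y = 0 := by rw [hxyz]; simp
    exact sub_eq_zero.mp this
  have hzy : z + y ≠ 0 := by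
    intro h
    apply hneg
    have h1 : x = 2 • z + y := by rw [← hxyz]; abel
    have h2 : z = -y := eq_neg_of_add_eq_zero_left h
    rw [h1, h2]; abel
  have h1 := hmin z hz hz0
  have h2 := hmin (z + y) (Cfsg.leechLattice.add_mem hz hy) hzy
  have hx' : x = 2 • z + y := by rw [← hxyz]; abel
  have e1 : Cfsg.sqNorm x = 4 * Cfsg.sqNorm z + 4 * Cfsg.dotInt z y + Cfsg.sqNorm y := by
    rw [hx']
    simp only [Cfsg.sqNorm, Cfsg.dotInt, Finset.mul_sum, ← Finset.sum_add_distrib]
    apply Finset.sum_congr rfl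
    intro i _
    simp only [Pi.add_apply, Pi.smul_apply, smul_eq_mul]
    ring
  have e2 : Cfsg.sqNorm (z + y) = Cfsg.sqNorm z + 2 * Cfsg.dotInt z y + Cfsg.sqNorm y := by
    simp only [Cfsg.sqNorm, Cfsg.dotInt, Finset.mul_sum, ← Finset.sum_add_distrib]
    apply Finset.sum_congr rfl
    intro i _
    simp only [Pi.add_apply]
    ring
  have e3 : Cfsg.dotInt x y = 2 * Cfsg.dotInt z y + Cfsg.sqNorm y := by
    rw [hx']
    simp only [Cfsg.sqNorm, Cfsg.dotInt, Finset.mul_sum, ← Finset.sum_add_distrib]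
    apply Finset.sum_congr rfl
    intro i _
    simp only [Pi.add_apply, Pi.smul_apply, smul_eq_mul]
    ring
  refine ⟨by omega, by omega, by omega⟩

end Cfsg.Agent.S5592
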