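import Cfsg.Statements.S0360
import Cfsg.Agent.Lib.Helper9Golay

set_option autoImplicit false
open Cfsg

namespace Cfsg.Agent.S0360

open Cfsg.Agent.Lib.Helper9Golay


/-- There are exactly 759 octads (supports of weight-8 words) in the length-24 code. -/
theorem result : Cfsg.octads.ncard = 759 := by
  have h := ncard_supports_filter (fun s => s.card = 8) (fun k => popc 24 (code k) = 8)
    (fun k _ => by rw [card_fs])
  have h2 : ((Finset.range 4096).filter (fun k => popc 24 (code k) = 8)).card = 759 := by
    decide +kernel
  rw [← h2, ← h]
  rfl

end Cfsg.Agent.S0360
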