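import Cfsg.Statements.S0363
import Cfsg.Agent.Lib.Helper9Golay2
import Cfsg.Agent.S0360

set_option autoImplicit false
open Cfsg

namespace Cfsg.Agent.S0363

open Cfsg.Agent.Lib.Helper9Golay Cfsg.Agent.Lib.Helper9Golay2


/-- The octads of the length-24 code form a Steiner system S(5, 8, 24) on the 24 points. -/
theorem result : Cfsg.IsSteinerSystem 5 8 Cfsg.octads := by
  classical
  refine ⟨fun b hb => hb.2, fun s hs => ?_⟩
  set O : Finset (Finset GolayPt) := (Set.toFinite octads).toFinset with hOdef
  have hmem : ∀ o, o ∈ O ↔ o ∈ octads := fun o => by simp [hOdef]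
  have hO : O.card = 759 := by
    rw [← Cfsg.Agent.S0360.result, Set.ncard_eq_toFinset_card octads (Set.toFinite octads)]
  set U : Finset (Finset GolayPt) := O.biUnion (fun o => o.powersetCard 5) with hU
  have hcard : U.card = 759 * 56 := by
    rw [hU, Finset.card_biUnion]
    · rw [← hO, Finset.sum_const_nat]
      intro o ho
      rw [Finset.card_powersetCard, ((hmem o).1 ho).2]
      rfl
    · intro x hx y hy hxy
      change Disjoint (Finset.powersetCard 5 x) (Finset.powersetCard 5 y)
      rw [Finset.disjoint_left]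
      intro t htx hty
      apply hxy
      rw [Finset.mem_powersetCard] at htx hty
      apply octad_unique ((hmem x).1 (Finset.mem_coe.1 hx)) ((hmem y).1 (Finset.mem_coe.1 hy))
      rw [← htx.2]
      exact Finset.card_le_card (Finset.subset_inter htx.1 hty.1)
  have hsub : U ⊆ (Finset.univ : Finset GolayPt).powersetCard 5 := by
    intro t ht
    rw [hU, Finset.mem_biUnion] at ht
    obtain ⟨o, _, ht⟩ := ht
    rw [Finset.mem_powersetCard] at ht ⊢
    exact ⟨Finset.subset_univ _, ht.2⟩
  have hcard2 : ((Finset.univ : Finset GolayPt).powersetCard 5).card = 42504 := by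
    rw [Finset.card_powersetCard]
    have : (Finset.univ : Finset GolayPt).card = 24 := by
      rw [Finset.card_univ, Fintype.card_option, ZMod.card]
    rw [this]
    rfl
  have heq : U = (Finset.univ : Finset GolayPt).powersetCard 5 :=
    Finset.eq_of_subset_of_card_le hsub (by rw [hcard, hcard2])
  have hsU : s ∈ U := by
    rw [heq, Finset.mem_powersetCard]
    exact ⟨Finset.subset_univ _, hs⟩
  rw [hU, Finset.mem_biUnion] at hsU
  obtain ⟨o, ho, hso⟩ := hsU
  rw [Finset.mem_powersetCard] at hso
  refine ⟨o, ⟨(hmem o).1 ho, hso.1⟩, ?_⟩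
  rintro o' ⟨ho', hso'⟩
  apply octad_unique ho' ((hmem o).1 ho)
  rw [← hs]
  exact Finset.card_le_card (Finset.subset_inter hso' hso.1)

end Cfsg.Agent.S0363
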