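import Cfsg.Statements.S0414
import Cfsg.Agent.Lib.Helper10AutW2

set_option autoImplicit false
open Cfsg

namespace Cfsg.Agent.S0414

/-- Aut of an S(3, 6, 22) has order 887040, is 3-transitive, and contains a simple subgroup of index 2. -/
theorem result {α : Type*} [Fintype α] [DecidableEq α] (hα : Fintype.card α = 22) {B : Set (Finset α)} (hB : Cfsg.IsSteinerSystem 3 6 B) : Nat.card (Cfsg.setSystemAut B) = 887040 ∧ MulAction.IsMultiplyPretransitive (Cfsg.setSystemAut B) α 3 ∧ ∃ H : Subgroup (Cfsg.setSystemAut B), H.index = 2 ∧ Cfsg.IsM22 H := by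
  obtain ⟨e, he⟩ := Lib.Helper10Chain.U2 hα hB
  obtain ⟨Φ, hΦ⟩ := Lib.Helper10Aut.aut_equiv e he
  refine ⟨?_, ?_, ?_⟩
  · rw [Nat.card_congr Φ.toEquiv, Lib.Helper10AutW2.card_autW2]
  · apply Lib.Helper10Aut.mpt_transport 3 e.symm e.symm.surjective (fun g => Φ.symm g) ?_
      Lib.Helper10AutW2.trans3
    intro g a
    have h := hΦ (Φ.symm g) (e.symm a)
    rw [MulEquiv.apply_symm_apply, Equiv.apply_symm_apply] at h
    show ((Φ.symm g : Cfsg.setSystemAut B) : Equiv.Perm α) (e.symm a) =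
      e.symm ((g : Equiv.Perm _) a)
    rw [h, Equiv.symm_apply_apply]
  · refine ⟨Lib.Helper10AutW2.H0.map (Φ.symm : _ →* _), ?_, ?_, ?_⟩
    · rw [Subgroup.index_map_equiv, Lib.Helper10AutW2.index_H0]
    · have := Lib.Helper10AutW2.isM22_H0.1
      exact (Φ.symm.subgroupMap Lib.Helper10AutW2.H0).symm.isSimpleGroup
    · rw [← Nat.card_congr (Φ.symm.subgroupMap Lib.Helper10AutW2.H0).toEquiv,
        Lib.Helper10AutW2.isM22_H0.2]

end Cfsg.Agent.S0414
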