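import Cfsg.Statements.S0034
import Cfsg.Agent.Lib.Helper1Frob

set_option autoImplicit false
open Cfsg

namespace Cfsg.Agent.S0034

open Cfsg.Agent.Lib.Helper1Frob

/-- For a Frobenius complement H, the set of elements lying in no conjugate of H, together with 1, has exactly as many elements as the index of H, and that index is congruent to 1 modulo the order of H. -/
theorem result {G : Type*} [Group G] [Finite G] (H : Subgroup G) (hH : Cfsg.IsFrobeniusComplement H) :
    Nat.card (Cfsg.frobeniusKernel H) = H.index ∧ H.index % Nat.card H = 1 % Nat.card H := by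
  refine ⟨card_kernel hH, ?_⟩
  have h1 := card_dvd_index_sub_one hH
  have hpos : 0 < H.index := Nat.pos_of_ne_zero Subgroup.index_ne_zero_of_finite
  have : 1 ≡ H.index [MOD Nat.card H] := (Nat.modEq_iff_dvd' hpos).mpr h1
  exact this.symm

end Cfsg.Agent.S0034
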