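import Cfsg.Statements.S0182
import Cfsg.Agent.S1526

set_option autoImplicit false
open Cfsg

namespace Cfsg.Agent.S0182

universe u

/-- The CA hypothesis. -/
def CA (G : Type u) [Group G] : Prop :=
  ∀ x : G, x ≠ 1 → ∀ a ∈ Subgroup.centralizer ({x} : Set G),
    ∀ b ∈ Subgroup.centralizer ({x} : Set G), a * b = b * a

section
variable {G : Type u} [Group G]

theorem mem_C {x a : G} : a ∈ Subgroup.centralizer ({x} : Set G) ↔ a * x = x * a := by
  rw [Subgroup.mem_centralizer_singleton_iff]

theorem self_mem (x : G) : x ∈ Subgroup.centralizer ({x} : Set G) := mem_C.2 rfl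

theorem cent_le (h : CA G) {x y : G} (hx : x ≠ 1)
    (hyx : y ∈ Subgroup.centralizer ({x} : Set G)) :
    Subgroup.centralizer ({x} : Set G) ≤ Subgroup.centralizer ({y} : Set G) := by
  intro z hz
  exact mem_C.2 (h x hx z hz y hyx)

theorem cent_eq (h : CA G) {x y : G} (hx : x ≠ 1) (hy : y ≠ 1)
    (hyx : y ∈ Subgroup.centralizer ({x} : Set G)) :
    Subgroup.centralizer ({y} : Set G) = Subgroup.centralizer ({x} : Set G) := by
  apply le_antisymm
  · exact cent_le h hy (mem_C.2 (mem_C.1 hyx).symm)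
  · exact cent_le h hx hyx

theorem mem_conj {x g a : G} :
    a ∈ Subgroup.centralizer ({g * x * g⁻¹} : Set G) ↔
      g⁻¹ * a * g ∈ Subgroup.centralizer ({x} : Set G) := by
  rw [mem_C, mem_C]
  constructor
  · intro h
    have : g⁻¹ * (a * (g * x * g⁻¹)) * g = g⁻¹ * (g * x * g⁻¹ * a) * g := by rw [h]
    simpa [mul_assoc] using this
  · intro h
    have : g * (g⁻¹ * a * g * x) * g⁻¹ = g * (x * (g⁻¹ * a * g)) * g⁻¹ := by rw [h]
    simpa [mul_assoc] using this

theorem conj_ne {x g : G} (hx : x ≠ 1) : g * x * g⁻¹ ≠ 1 := by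
  intro h
  apply hx
  have : g⁻¹ * (g * x * g⁻¹) * g = g⁻¹ * 1 * g := by rw [h]
  simpa [mul_assoc] using this

variable [Finite G]

/-- Centralisers are Hall subgroups. -/
theorem sylow_le (h : CA G) {x : G} (hx : x ≠ 1) {p : ℕ} [hp : Fact p.Prime]
    (hpd : p ∣ Nat.card (Subgroup.centralizer ({x} : Set G))) :
    ∃ P : Sylow p G, (P : Subgroup G) ≤ Subgroup.centralizer ({x} : Set G) := by
  obtain ⟨y, hy⟩ := exists_prime_orderOf_dvd_card' p hpd
  have hy1 : (y : G) ≠ 1 := by
    intro h1
    have : y = 1 := Subtype.ext h1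
    rw [this, orderOf_one] at hy
    exact hp.out.one_lt.ne hy
  have hyG : orderOf (y : G) = p := by rw [Subgroup.orderOf_coe, hy]
  have hpg : IsPGroup p (Subgroup.zpowers (y : G)) := by
    apply IsPGroup.of_card (n := 1)
    rw [Nat.card_zpowers, hyG, pow_one]
  obtain ⟨P, hP⟩ := hpg.exists_le_sylow
  have hyP : (y : G) ∈ (P : Subgroup G) := hP (Subgroup.mem_zpowers _)
  haveI : Nontrivial (P : Subgroup G) := ⟨⟨⟨y, hyP⟩, 1, fun h1 => hy1 (congrArg Subtype.val h1)⟩⟩
  haveI := P.2.center_nontrivial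
  obtain ⟨z, hz⟩ := exists_ne (1 : Subgroup.center (P : Subgroup G))
  have hz1 : ((z : (P : Subgroup G)) : G) ≠ 1 := by
    intro h1
    apply hz
    apply Subtype.ext
    apply Subtype.ext
    exact h1
  have hzc : ∀ w ∈ (P : Subgroup G), w * ((z : (P : Subgroup G)) : G) = ((z : (P : Subgroup G)) : G) * w := by
    intro w hw
    have := (Subgroup.mem_center_iff.1 z.2) ⟨w, hw⟩
    exact congrArg Subtype.val this
  have e1 := cent_eq h hx hy1 y.2
  have e2 : Subgroup.centralizer ({((z : (P : Subgroup G)) : G)} : Set G)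
      = Subgroup.centralizer ({(y : G)} : Set G) :=
    cent_eq h hy1 hz1 (mem_C.2 (hzc _ hyP).symm)
  refine ⟨P, ?_⟩
  rw [← e1, ← e2]
  intro w hw
  exact mem_C.2 (hzc w hw)

/-- A Sylow subgroup for a prime dividing the order contains a non-identity element. -/
theorem sylow_ne {p : ℕ} [hp : Fact p.Prime] (hpd : p ∣ Nat.card G) (P : Sylow p G) :
    ∃ z ∈ (P : Subgroup G), z ≠ 1 := by
  by_contra hcon
  push Not at hcon
  have hb : (P : Subgroup G) = ⊥ := (Subgroup.eq_bot_iff_forall _).2 hcon
  exact (P.ne_bot_of_dvd_card hpd) hb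

/-- Centralisers whose orders share a prime are conjugate. -/
theorem conj_of_dvd (h : CA G) {x y : G} (hx : x ≠ 1) (hy : y ≠ 1) {p : ℕ} (hp : p.Prime)
    (hpx : p ∣ Nat.card (Subgroup.centralizer ({x} : Set G)))
    (hpy : p ∣ Nat.card (Subgroup.centralizer ({y} : Set G))) :
    ∃ g : G, ∀ a, a ∈ Subgroup.centralizer ({y} : Set G) ↔
      g⁻¹ * a * g ∈ Subgroup.centralizer ({x} : Set G) := by
  haveI : Fact p.Prime := ⟨hp⟩
  obtain ⟨P, hP⟩ := sylow_le h hx hpx
  obtain ⟨Q, hQ⟩ := sylow_le h hy hpy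
  obtain ⟨g, hg⟩ := MulAction.exists_smul_eq G P Q
  obtain ⟨z, hzP, hz1⟩ := sylow_ne (hpx.trans (Subgroup.card_subgroup_dvd_card _)) P
  have hzQ : g * z * g⁻¹ ∈ (Q : Subgroup G) := by
    rw [← hg, Sylow.coe_subgroup_smul, Subgroup.mem_pointwise_smul_iff_inv_smul_mem]
    simpa [MulAut.smul_def, mul_assoc] using hzP
  have e1 := cent_eq h hx hz1 (hP hzP)
  have e2 := cent_eq h hy (conj_ne hz1) (hQ hzQ)
  refine ⟨g, fun a => ?_⟩
  rw [← e2, ← e1]
  exact mem_conj

theorem card_C_ne_one {x : G} (hx : x ≠ 1) :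
    Nat.card (Subgroup.centralizer ({x} : Set G)) ≠ 1 := by
  intro h1
  rw [Subgroup.card_eq_one] at h1
  have := self_mem x
  rw [h1, Subgroup.mem_bot] at this
  exact hx this

/-- If an element normalises a Sylow subgroup inside `C(x)`, it normalises `C(x)`. -/
theorem mem_normalizer_of (h : CA G) {x z n : G} (hx : x ≠ 1) (hz1 : z ≠ 1)
    (hz : z ∈ Subgroup.centralizer ({x} : Set G))
    (hnz : n * z * n⁻¹ ∈ Subgroup.centralizer ({x} : Set G)) :
    n ∈ Subgroup.normalizer ((Subgroup.centralizer ({x} : Set G) : Subgroup G) : Set G) := by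
  have e1 := cent_eq h hx hz1 hz
  have e2 := cent_eq h hx (conj_ne hz1) hnz
  rw [Subgroup.mem_normalizer_iff'']
  intro a
  rw [← e1, ← mem_conj, e2, e1]

/-- Burnside transfer step. -/
theorem solvable_of_self_normalizing (h : CA G)
    (IH : ∀ K : Subgroup G, K ≠ ⊤ → Group.IsSolvable K) {x : G} (hx : x ≠ 1)
    (hN : Subgroup.normalizer ((Subgroup.centralizer ({x} : Set G) : Subgroup G) : Set G)
      = Subgroup.centralizer ({x} : Set G)) : Group.IsSolvable G := by
  obtain ⟨p, hp, hpd⟩ := Nat.exists_prime_and_dvd (card_C_ne_one hx)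
  haveI : Fact p.Prime := ⟨hp⟩
  obtain ⟨P, hP⟩ := sylow_le h hx hpd
  have hpG : p ∣ Nat.card G := hpd.trans (Subgroup.card_subgroup_dvd_card _)
  obtain ⟨z, hzP, hz1⟩ := sylow_ne hpG P
  have hNC : Subgroup.normalizer ((P : Subgroup G) : Set G)
      ≤ Subgroup.centralizer ((P : Subgroup G) : Set G) := by
    intro n hn
    have hnz : n * z * n⁻¹ ∈ (P : Subgroup G) := (Subgroup.mem_normalizer_iff.1 hn z).1 hzP
    have hn2 := mem_normalizer_of h hx hz1 (hP hzP) (hP hnz)
    rw [hN] at hn2
    rw [Subgroup.mem_centralizer_iff]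
    intro w hw
    exact h x hx w (hP hw) n hn2
  have hK : (MonoidHom.transferSylow P hNC).ker ≠ ⊤ := by
    intro htop
    have := MonoidHom.not_dvd_card_ker_transferSylow P hNC
    rw [htop, Subgroup.card_top] at this
    exact this hpG
  haveI := IH _ hK
  haveI : Group.IsNilpotent (P : Subgroup G) := P.2.isNilpotent
  exact solvable_of_ker_le_range (MonoidHom.transferSylow P hNC).ker.subtype
    (MonoidHom.transferSylow P hNC) (by rw [Subgroup.range_subtype])

/-- If all centralisers of non-identity elements have the same order, they are everything. -/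
theorem eq_top_of_const (h : CA G) {x : G} (hx : x ≠ 1)
    (hc : ∀ y : G, y ≠ 1 → Nat.card (Subgroup.centralizer ({y} : Set G))
      = Nat.card (Subgroup.centralizer ({x} : Set G))) :
    Subgroup.centralizer ({x} : Set G) = ⊤ := by
  apply Subgroup.eq_top_of_card_eq
  apply Nat.dvd_antisymm (Subgroup.card_subgroup_dvd_card _)
  rw [← Nat.factorization_prime_le_iff_dvd Nat.card_pos.ne' Nat.card_pos.ne']
  intro p hp
  haveI : Fact p.Prime := ⟨hp⟩
  by_cases hpG : p ∣ Nat.card G
  · obtain ⟨y, hy⟩ := exists_prime_orderOf_dvd_card' p hpG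
    have hy1 : y ≠ 1 := by
      intro h1
      rw [h1, orderOf_one] at hy
      exact hp.one_lt.ne hy
    have hpy : p ∣ Nat.card (Subgroup.centralizer ({y} : Set G)) := by
      have := orderOf_dvd_natCard (⟨y, self_mem y⟩ : Subgroup.centralizer ({y} : Set G))
      rwa [← Subgroup.orderOf_coe, hy] at this
    rw [hc y hy1] at hpy
    obtain ⟨P, hP⟩ := sylow_le h hx hpy
    have := Subgroup.card_dvd_of_le hP
    rw [P.card_eq_multiplicity] at this
    exact (hp.pow_dvd_iff_le_factorization Nat.card_pos.ne').1 this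
  · rw [Nat.factorization_eq_zero_of_not_dvd hpG]
    exact Nat.zero_le _

end

theorem CA_subgroup {G : Type u} [Group G] (h : CA G) (K : Subgroup G) : CA K := by
  intro x hx a ha b hb
  apply Subtype.ext
  have hx' : (x : G) ≠ 1 := fun h1 => hx (Subtype.ext h1)
  exact h x hx' a (mem_C.2 (congrArg Subtype.val (mem_C.1 ha))) b
    (mem_C.2 (congrArg Subtype.val (mem_C.1 hb)))

theorem main : ∀ (n : ℕ) (G : Type u) [Group G] [Finite G], Nat.card G = n →
    Odd (Nat.card G) → CA G → Group.IsSolvable G := by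
  intro n
  induction n using Nat.strong_induction_on with
  | _ n ih =>
  intro G _ _ hn hodd h
  have IH : ∀ K : Subgroup G, K ≠ ⊤ → Group.IsSolvable K := by
    intro K hK
    have hlt : Nat.card K < n := by
      rw [← hn]
      refine lt_of_le_of_ne (Subgroup.card_le_card_group K) ?_
      intro he
      exact hK (Subgroup.eq_top_of_card_eq K he)
    exact ih _ hlt K rfl (Odd.of_dvd_nat hodd (Subgroup.card_subgroup_dvd_card K))
      (CA_subgroup h K)
  by_cases hself : ∃ x : G, x ≠ 1 ∧
      Subgroup.normalizer ((Subgroup.centralizer ({x} : Set G) : Subgroup G) : Set G)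
        = Subgroup.centralizer ({x} : Set G)
  · obtain ⟨x, hx, hN⟩ := hself
    exact solvable_of_self_normalizing h IH hx hN
  push Not at hself
  classical
  letI := Fintype.ofFinite G
  let S : Finset ℕ := (Finset.univ.filter (fun x : G => x ≠ 1)).image
    (fun x => Nat.card (Subgroup.centralizer ({x} : Set G)))
  have key : ∀ i : S, ∃ x : G, x ≠ 1 ∧ Nat.card (Subgroup.centralizer ({x} : Set G)) = i := by
    intro i
    obtain ⟨x, hx, hxi⟩ := Finset.mem_image.1 i.2
    exact ⟨x, (Finset.mem_filter.1 hx).2, hxi⟩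
  have memS : ∀ x : G, x ≠ 1 → Nat.card (Subgroup.centralizer ({x} : Set G)) ∈ S := by
    intro x hx
    exact Finset.mem_image.2 ⟨x, Finset.mem_filter.2 ⟨Finset.mem_univ _, hx⟩, rfl⟩
  choose X hX1 hXc using key
  by_cases hcard : 2 ≤ Fintype.card S
  · exfalso
    refine Cfsg.Agent.S1526.result hodd hcard
      (fun i => Subgroup.normalizer ((Subgroup.centralizer ({X i} : Set G) : Subgroup G) : Set G))
      (fun i => Subgroup.centralizer ({X i} : Set G)) ?_ ?_ ?_ ?_ ?_ ?_ ?_
    · intro i
      exact lt_of_le_of_ne Subgroup.le_normalizer (fun he => hself (X i) (hX1 i) he.symm)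
    · intro i hb
      have := self_mem (X i)
      rw [hb, Subgroup.mem_bot] at this
      exact hX1 i this
    · intro i x hx a ha
      exact (Subgroup.mem_normalizer_iff.1 hx a).1 ha
    · intro i a ha ha1
      rw [cent_eq h (hX1 i) ha1 ha]
      exact inf_le_right
    · intro i j hij
      by_contra hnc
      obtain ⟨p, hp, hpi, hpj⟩ := Nat.Prime.not_coprime_iff_dvd.1 hnc
      obtain ⟨g, hg⟩ := conj_of_dvd h (hX1 i) (hX1 j) hp hpi hpj
      apply hij
      apply Subtype.ext
      rw [← hXc i, ← hXc j]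
      refine Nat.card_congr ⟨fun a => ⟨g * a * g⁻¹, (hg _).2 (by simpa [mul_assoc] using a.2)⟩,
        fun a => ⟨g⁻¹ * a * g, (hg _).1 a.2⟩, ?_, ?_⟩
      · intro a
        apply Subtype.ext
        simp [mul_assoc]
      · intro a
        apply Subtype.ext
        simp [mul_assoc]
    · intro i
      refine ⟨?_, rfl⟩
      intro g hg a ha hga
      by_contra ha1
      exact hg (mem_normalizer_of h (hX1 i) ha1 ha hga)
    · intro g hg
      let i : S := ⟨_, memS g hg⟩
      have hi : Nat.card (Subgroup.centralizer ({X i} : Set G))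
          = Nat.card (Subgroup.centralizer ({g} : Set G)) := hXc i
      obtain ⟨p, hp, hpd⟩ := Nat.exists_prime_and_dvd (card_C_ne_one hg)
      obtain ⟨y, hy⟩ := conj_of_dvd h (hX1 i) hg hp (hi ▸ hpd) hpd
      refine ⟨i, y⁻¹, ?_⟩
      have := (hy g).1 (self_mem g)
      simpa using this
  · by_cases htriv : ∀ x : G, x = 1
    · haveI : Subsingleton G := ⟨fun a b => by rw [htriv a, htriv b]⟩
      infer_instance
    · exfalso
      push Not at htriv hcard
      obtain ⟨x, hx⟩ := htriv
      have hle : Fintype.card S ≤ 1 := by omega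
      rw [Fintype.card_le_one_iff] at hle
      have hc : ∀ y : G, y ≠ 1 → Nat.card (Subgroup.centralizer ({y} : Set G))
          = Nat.card (Subgroup.centralizer ({x} : Set G)) := by
        intro y hy
        exact congrArg Subtype.val (hle ⟨_, memS y hy⟩ ⟨_, memS x hx⟩)
      have htop := eq_top_of_const h hx hc
      apply hself x hx
      rw [htop]
      exact top_le_iff.1 Subgroup.le_normalizer

/-- The CA-Theorem for odd order: a finite group of odd order in which every non-identity element has an abelian centralizer is solvable. -/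
theorem result {G : Type*} [Group G] [Finite G] (hodd : Odd (Nat.card G)) (hCA : ∀ x : G, x ≠ 1 → ∀ a ∈ Subgroup.centralizer ({x} : Set G), ∀ b ∈ Subgroup.centralizer ({x} : Set G), a * b = b * a) : Group.IsSolvable G := by
  exact main _ G rfl hodd hCA

end Cfsg.Agent.S0182
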