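import Cfsg.Statements.S0157
import Cfsg.Agent.Lib.Helper4Burnside

set_option autoImplicit false
open Cfsg

namespace Cfsg.Agent.S0157

open scoped ComplexConjugate
open Cfsg.Agent.Lib.Helper4Char Cfsg.Agent.Lib.Helper4Char2 Cfsg.Agent.Lib.Helper4Char4
  Cfsg.Agent.Lib.Helper4Burnside

theorem card_fixedBy_prod {G : Type*} [Group G] (X : Type*) [MulAction G X] (g : G) :
    Nat.card (MulAction.fixedBy (X × X) g)
      = Nat.card (MulAction.fixedBy X g) * Nat.card (MulAction.fixedBy X g) := by
  rw [← Nat.card_prod]
  apply Nat.card_congr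
  exact {
    toFun := fun p => (⟨p.1.1, congrArg Prod.fst p.2⟩, ⟨p.1.2, congrArg Prod.snd p.2⟩)
    invFun := fun q => ⟨(q.1.1, q.2.1), Prod.ext q.1.2 q.2.2⟩
    left_inv := fun p => rfl
    right_inv := fun q => rfl }

theorem card_orbits_prod_eq_two_iff {G : Type*} [Group G] (X : Type*) [MulAction G X]
    [MulAction.IsPretransitive G X] (hX : 2 ≤ Nat.card X) :
    Nat.card (Quotient (MulAction.orbitRel G (X × X))) = 2
      ↔ MulAction.IsMultiplyPretransitive G X 2 := by
  have hfin : Finite X := Nat.finite_of_card_ne_zero (by omega)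
  have hnt : Nontrivial X := Finite.one_lt_card_iff_nontrivial.mp (by omega)
  obtain ⟨x0, x1, hx⟩ := exists_pair_ne X
  let s := MulAction.orbitRel G (X × X)
  have hdiag : ∀ a b : X, (Quotient.mk s (a, b) = Quotient.mk s (x0, x0)) ↔ a = b := by
    intro a b
    rw [Quotient.eq]
    constructor
    · intro h
      obtain ⟨g, hg⟩ := h
      have h1 : g • x0 = a := congrArg Prod.fst hg
      have h2 : g • x0 = b := congrArg Prod.snd hg
      rw [← h1, ← h2]
    · rintro rfl
      obtain ⟨g, hg⟩ := MulAction.exists_smul_eq G x0 a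
      exact ⟨g, Prod.ext hg hg⟩
  rw [Nat.card_eq_two_iff' (Quotient.mk s (x0, x0)), MulAction.is_two_pretransitive_iff]
  constructor
  · rintro ⟨y, -, hy⟩ a b c d hab hcd
    have h1 := hy (Quotient.mk s (a, b)) (fun h => hab ((hdiag a b).mp h))
    have h2 := hy (Quotient.mk s (c, d)) (fun h => hcd ((hdiag c d).mp h))
    have h3 : Quotient.mk s (c, d) = Quotient.mk s (a, b) := h2.trans h1.symm
    rw [Quotient.eq] at h3
    obtain ⟨g, hg⟩ := h3
    exact ⟨g, congrArg Prod.fst hg, congrArg Prod.snd hg⟩
  · intro h
    refine ⟨Quotient.mk s (x0, x1), fun h1 => hx ((hdiag x0 x1).mp h1), ?_⟩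
    intro y hy
    induction y using Quotient.inductionOn with
    | _ p =>
      obtain ⟨a, b⟩ := p
      have hab : a ≠ b := fun h1 => hy ((hdiag a b).mpr h1)
      obtain ⟨g, h1, h2⟩ := h hx hab
      rw [Quotient.eq]
      exact ⟨g, Prod.ext h1 h2⟩


/-- For a transitive action of a finite group on a finite set with at least two points: the action is 2-transitive if and only if the function sending g to (number of fixed points of g) − 1 is an irreducible character. -/
theorem result {G : Type*} [Group G] [Finite G] (X : Type*) [MulAction G X] [Finite X] [MulAction.IsPretransitive G X] (hX : 2 ≤ Nat.card X) : Cfsg.IsIrrCharacter G (fun g => (Nat.card (MulAction.fixedBy X g) : ℂ) - 1) ↔ MulAction.IsMultiplyPretransitive G X 2 := by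
  classical
  cases nonempty_fintype G
  cases nonempty_fintype X
  set π : G → ℂ := fun g => (Nat.card (MulAction.fixedBy X g) : ℂ) with hπdef
  have hπ : π = (Representation.ofMulAction ℂ G X).character :=
    funext (fun g => (ofMulAction_character X g).symm)
  have hπchar : Cfsg.IsCharacter G π := hπ ▸ isCharacter_of_rep _
  have hne : Nonempty X := by
    by_contra h
    rw [not_nonempty_iff] at h
    simp at hX
  have hB1 : ∑ g, π g = (Nat.card G : ℂ) := by
    have h1 := MulAction.sum_card_fixedBy_eq_card_orbits_mul_card_group G X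
    have h2 : Fintype.card (Quotient (MulAction.orbitRel G X)) = 1 := by
      have : Subsingleton (Quotient (MulAction.orbitRel G X)) :=
        (MulAction.pretransitive_iff_subsingleton_quotient G X).mp inferInstance
      have hn : Nonempty (Quotient (MulAction.orbitRel G X)) := hne.map (Quotient.mk _)
      exact le_antisymm (Fintype.card_le_one_iff_subsingleton.mpr this) Fintype.card_pos
    rw [h2, one_mul] at h1
    simp only [hπdef, Nat.card_eq_fintype_card]
    exact_mod_cast h1
  have hB2 : ∑ g, π g * π g
      = (Nat.card (Quotient (MulAction.orbitRel G (X × X))) : ℂ) * (Nat.card G : ℂ) := by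
    have h1 := MulAction.sum_card_fixedBy_eq_card_orbits_mul_card_group G (X × X)
    simp only [← Nat.card_eq_fintype_card, card_fixedBy_prod] at h1
    simp only [hπdef]
    exact_mod_cast h1
  set θ : G → ℂ := fun g => (Nat.card (MulAction.fixedBy X g) : ℂ) - 1 with hθdef
  have hθ : θ = π - (fun _ => (1 : ℂ)) := rfl
  have hG := card_ne_zero (G := G)
  have hπ1 : Cfsg.classInner π (fun _ => (1 : ℂ)) = 1 := by
    simp only [Cfsg.classInner, map_one, mul_one]
    rw [hB1, inv_mul_cancel₀ hG]
  have hθchar : Cfsg.IsCharacter G θ := by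
    apply isCharacter_of_classInner_nat
    · rw [hθ]
      exact IsClassFunction.sub (IsCharacter.isClassFunction hπchar)
        (IsIrrCharacter.isClassFunction isIrrCharacter_one)
    · intro χ
      rw [hθ, classInner_sub_left]
      by_cases hχ : (χ : G → ℂ) = fun _ => 1
      · rw [hχ, hπ1, classInner_irr_self isIrrCharacter_one]
        exact ⟨0, by simp⟩
      · rw [classInner_irr_ne isIrrCharacter_one χ.2 (fun h => hχ h.symm), sub_zero]
        exact IsCharacter.classInner_nat hπchar (IsIrrCharacter.isCharacter χ.2)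
  have hnorm : Cfsg.classInner θ θ
      = (Nat.card (Quotient (MulAction.orbitRel G (X × X))) : ℂ) - 1 := by
    have h1 : ∀ g, θ g * conj (θ g) = π g * π g - 2 * π g + 1 := by
      intro g
      simp only [hθdef, hπdef, map_sub, Complex.conj_natCast, map_one]
      ring
    simp only [Cfsg.classInner, h1]
    rw [Finset.sum_add_distrib, Finset.sum_sub_distrib, ← Finset.mul_sum, hB1, hB2]
    simp only [Finset.sum_const, Finset.card_univ, nsmul_eq_mul, mul_one,
      ← Nat.card_eq_fintype_card]
    field_simp
    ring
  rw [isIrrCharacter_iff, ← card_orbits_prod_eq_two_iff X hX, hnorm]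
  constructor
  · rintro ⟨-, h⟩
    have h2 : (Nat.card (Quotient (MulAction.orbitRel G (X × X))) : ℂ) = 2 := by
      linear_combination h
    exact_mod_cast h2
  · intro h
    refine ⟨hθchar, ?_⟩
    rw [h]
    norm_num

end Cfsg.Agent.S0157
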