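import Cfsg.Statements.S0198
import Mathlib
import Cfsg.Agent.Lib.Helper4Char4
import Cfsg.Agent.Lib.Helper82Linear

set_option autoImplicit false
open Cfsg

namespace Cfsg.Agent.S0198

open Lib.Helper4Char Lib.Helper4Char2 Lib.Helper4Char4

theorem sq_eq_one_of_le_two {z : ℤ} (h0 : z ≠ 0) (h : z ^ 2 ≤ 2) : z = 1 ∨ z = -1 := by
  have h1 : -2 < z := by nlinarith
  have h2 : z < 2 := by nlinarith
  interval_cases z <;> simp_all

theorem two_squares {ι : Type*} [Fintype ι] [DecidableEq ι] (c : ι → ℤ)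
    (h : ∑ i, c i ^ 2 = 2) : ∃ p q, p ≠ q ∧ (c p = 1 ∨ c p = -1) ∧ (c q = 1 ∨ c q = -1) ∧
      ∀ r, r ≠ p → r ≠ q → c r = 0 := by
  have hex : ∃ p, c p ≠ 0 := by
    by_contra hcon
    push Not at hcon
    simp [hcon] at h
  obtain ⟨p, hp⟩ := hex
  have h1 : c p ^ 2 + ∑ i ∈ Finset.univ.erase p, c i ^ 2 = 2 := by
    rw [Finset.add_sum_erase _ (fun i => c i ^ 2) (Finset.mem_univ p)]; exact h
  have hnn : 0 ≤ ∑ i ∈ Finset.univ.erase p, c i ^ 2 := Finset.sum_nonneg (fun i _ => sq_nonneg _)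
  have hp1 : c p = 1 ∨ c p = -1 := sq_eq_one_of_le_two hp (by linarith)
  have hp2 : c p ^ 2 = 1 := by rcases hp1 with h | h <;> rw [h] <;> norm_num
  have h2 : ∑ i ∈ Finset.univ.erase p, c i ^ 2 = 1 := by linarith
  have hex2 : ∃ q ∈ Finset.univ.erase p, c q ≠ 0 := by
    by_contra hcon
    push Not at hcon
    rw [Finset.sum_eq_zero (fun i hi => by rw [hcon i hi]; norm_num)] at h2
    norm_num at h2
  obtain ⟨q, hq, hq0⟩ := hex2
  have h3 : c q ^ 2 + ∑ i ∈ (Finset.univ.erase p).erase q, c i ^ 2 = 1 := by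
    rw [Finset.add_sum_erase _ (fun i => c i ^ 2) hq]; exact h2
  have hnn2 : 0 ≤ ∑ i ∈ (Finset.univ.erase p).erase q, c i ^ 2 :=
    Finset.sum_nonneg (fun i _ => sq_nonneg _)
  have hq1 : c q = 1 ∨ c q = -1 := sq_eq_one_of_le_two hq0 (by linarith)
  have hq2 : c q ^ 2 = 1 := by rcases hq1 with h | h <;> rw [h] <;> norm_num
  have h4 : ∑ i ∈ (Finset.univ.erase p).erase q, c i ^ 2 = 0 := by linarith
  refine ⟨p, q, (Finset.ne_of_mem_erase hq).symm, hp1, hq1, ?_⟩
  intro r hrp hrq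
  have h5 := (Finset.sum_eq_zero_iff_of_nonneg (fun i _ => sq_nonneg (c i))).mp h4 r
    (Finset.mem_erase.mpr ⟨hrq, Finset.mem_erase.mpr ⟨hrp, Finset.mem_univ _⟩⟩)
  exact pow_eq_zero_iff (two_ne_zero) |>.mp h5

variable {G : Type*} [Group G] [Fintype G]

theorem exists_int_coeffs {θ : G → ℂ} (hθ : Cfsg.IsGeneralizedCharacter G θ) :
    ∃ c : Cfsg.IrrCharacter G → ℤ, θ = ∑ φ : Cfsg.IrrCharacter G, (c φ : ℂ) • (φ : G → ℂ) := by
  obtain ⟨χ, ψ, hχ, hψ, rfl⟩ := hθ
  obtain ⟨m, hm, -⟩ := IsCharacter.eq_sum_nat hχ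
  obtain ⟨m', hm', -⟩ := IsCharacter.eq_sum_nat hψ
  refine ⟨fun φ => (m φ : ℤ) - m' φ, ?_⟩
  conv_lhs => rw [hm, hm']
  rw [← Finset.sum_sub_distrib]
  apply Finset.sum_congr rfl
  intro φ _
  push_cast
  rw [sub_smul]

open scoped Classical in
theorem classInner_coeffs (c c' : Cfsg.IrrCharacter G → ℤ) :
    Cfsg.classInner (∑ φ : Cfsg.IrrCharacter G, (c φ : ℂ) • (φ : G → ℂ))
      (∑ φ : Cfsg.IrrCharacter G, (c' φ : ℂ) • (φ : G → ℂ)) = ((∑ φ, c φ * c' φ : ℤ) : ℂ) := by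
  rw [classInner_sum_left]
  push_cast
  apply Finset.sum_congr rfl
  intro φ _
  rw [classInner_smul_left, classInner_sum_right, Finset.sum_eq_single φ]
  · rw [classInner_smul_right, classInner_irr_self φ.2]
    simp
  · intro ψ _ hne
    rw [classInner_smul_right, classInner_irr_ne φ.2 ψ.2 (fun h => hne (Subtype.ext h.symm))]
    simp
  · intro h; exact absurd (Finset.mem_univ _) h

theorem exists_diff {θ : G → ℂ} (hθ : Cfsg.IsGeneralizedCharacter G θ)
    (h2 : Cfsg.classInner θ θ = 2) (h1 : θ 1 = 0) :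
    ∃ P Q : Cfsg.IrrCharacter G, P ≠ Q ∧ θ = (P : G → ℂ) - (Q : G → ℂ) := by
  classical
  obtain ⟨c, hc⟩ := exists_int_coeffs hθ
  rw [hc, classInner_coeffs] at h2
  have h3 : ∑ φ, c φ ^ 2 = 2 := by
    have : (∑ φ, c φ * c φ : ℤ) = 2 := by exact_mod_cast h2
    rw [← this]
    exact Finset.sum_congr rfl (fun φ _ => by ring)
  obtain ⟨p, q, hpq, hp, hq, hr⟩ := two_squares c h3
  have hθ2 : θ = (c p : ℂ) • (p : G → ℂ) + (c q : ℂ) • (q : G → ℂ) := by
    rw [hc, ← Finset.sum_pair (f := fun φ : Cfsg.IrrCharacter G => (c φ : ℂ) • (φ : G → ℂ)) hpq]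
    symm
    apply Finset.sum_subset (Finset.subset_univ _)
    intro r _ hr'
    simp only [Finset.mem_insert, Finset.mem_singleton, not_or] at hr'
    rw [hr r hr'.1 hr'.2]
    simp
  obtain ⟨dp, hdp0, hdp⟩ := IsIrrCharacter.exists_degree p.2
  obtain ⟨dq, hdq0, hdq⟩ := IsIrrCharacter.exists_degree q.2
  have h4 : (c p : ℂ) * dp + (c q : ℂ) * dq = 0 := by
    have := congrFun hθ2 1
    rw [h1] at this
    simp only [Pi.add_apply, Pi.smul_apply, smul_eq_mul, hdp, hdq] at this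
    exact this.symm
  have h5 : c p * dp + c q * dq = 0 := by exact_mod_cast h4
  have hdp' : (0 : ℤ) < dp := by exact_mod_cast hdp0
  have hdq' : (0 : ℤ) < dq := by exact_mod_cast hdq0
  rcases hp with hp | hp <;> rcases hq with hq | hq
  · rw [hp, hq] at h5; linarith
  · refine ⟨p, q, hpq, ?_⟩
    rw [hθ2, hp, hq]
    simp [sub_eq_add_neg]
  · refine ⟨q, p, hpq.symm, ?_⟩
    rw [hθ2, hp, hq]
    simp [sub_eq_add_neg, add_comm]
  · rw [hp, hq] at h5; linarith

open scoped Classical in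
theorem classInner_diff (P Q P' Q' : Cfsg.IrrCharacter G) :
    Cfsg.classInner ((P : G → ℂ) - (Q : G → ℂ)) ((P' : G → ℂ) - (Q' : G → ℂ)) =
      (if P = P' then 1 else 0) - (if P = Q' then 1 else 0) - (if Q = P' then 1 else 0)
        + (if Q = Q' then 1 else 0) := by
  have key : ∀ A B : Cfsg.IrrCharacter G,
      Cfsg.classInner (A : G → ℂ) (B : G → ℂ) = if A = B then 1 else 0 := by
    intro A B
    rw [classInner_irr A.2 B.2]
    exact if_congr (Subtype.ext_iff).symm rfl rfl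
  rw [classInner_sub_left, classInner_sub_right, classInner_sub_right, key, key, key, key]
  ring

theorem rel (P Q P' Q' : Cfsg.IrrCharacter G) (h : P ≠ Q) (h' : P' ≠ Q')
    (h1 : Cfsg.classInner ((P : G → ℂ) - (Q : G → ℂ)) ((P' : G → ℂ) - (Q' : G → ℂ)) = 1) :
    (P = P' ∧ Q ≠ Q') ∨ (Q = Q' ∧ P ≠ P') := by
  classical
  rw [classInner_diff] at h1
  by_cases a : P = P'
  · by_cases b : Q = Q'
    · exfalso
      subst a b
      rw [if_pos rfl, if_pos rfl, if_neg h, if_neg h.symm] at h1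
      norm_num at h1
    · exact Or.inl ⟨a, b⟩
  · by_cases b : Q = Q'
    · exact Or.inr ⟨b, a⟩
    · exfalso
      rw [if_neg a, if_neg b] at h1
      split_ifs at h1 <;> norm_num at h1

theorem final (n : ℕ) (i₀ : Fin n) (τ : Fin n → (G → ℂ)) (h0 : τ i₀ = 0)
    (a : Cfsg.IrrCharacter G) (R : Fin n → Cfsg.IrrCharacter G) (ε : ℂ) (hε : ε = 1 ∨ ε = -1)
    (hinj : ∀ i j, i ≠ i₀ → j ≠ i₀ → i ≠ j → R i ≠ R j) (hne : ∀ i, i ≠ i₀ → R i ≠ a)
    (hτ : ∀ i, i ≠ i₀ → τ i = ε • ((R i : G → ℂ) - (a : G → ℂ))) :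
    ∃ ε : ℂ, (ε = 1 ∨ ε = -1) ∧ ∃ μ : Fin n → (G → ℂ), (∀ i, Cfsg.IsIrrCharacter G (μ i)) ∧
      Function.Injective μ ∧ ∀ i, τ i = ε • (μ i - μ i₀) := by
  classical
  refine ⟨ε, hε, fun k => ((if k = i₀ then a else R k : Cfsg.IrrCharacter G) : G → ℂ),
    fun i => Subtype.property _, ?_, ?_⟩
  · intro i j hij
    have hij' : (if i = i₀ then a else R i) = (if j = i₀ then a else R j) := Subtype.ext hij
    by_cases hi : i = i₀ <;> by_cases hj : j = i₀
    · rw [hi, hj]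
    · rw [if_pos hi, if_neg hj] at hij'
      exact absurd hij'.symm (hne j hj)
    · rw [if_neg hi, if_pos hj] at hij'
      exact absurd hij' (hne i hi)
    · rw [if_neg hi, if_neg hj] at hij'
      by_contra hne'
      exact hinj i j hi hj hne' hij'
  · intro i
    by_cases hi : i = i₀
    · subst hi
      simp [h0]
    · simp only [if_neg hi, if_true]
      exact hτ i hi

/-- The isometry lemma behind exceptional characters. Let τ be a family of generalized characters of a finite group G indexed by Fin n, with τ i₀ = 0, every τ i vanishing at the identity, and inner products ⟨τ i, τ j⟩ = 2 if i = j and 1 otherwise for i, j ≠ i₀. Then there are a sign ε and pairwise distinct irreducible characters μ i with τ i = ε (μ i − μ i₀) for all i. -/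
theorem result {G : Type*} [Group G] [Fintype G] (n : ℕ) (i₀ : Fin n) (τ : Fin n → (G → ℂ)) (h0 : τ i₀ = 0) (hgen : ∀ i, Cfsg.IsGeneralizedCharacter G (τ i)) (hone : ∀ i, τ i 1 = 0) (hgram : ∀ i j, i ≠ i₀ → j ≠ i₀ → Cfsg.classInner (τ i) (τ j) = if i = j then 2 else 1) : ∃ ε : ℂ, (ε = 1 ∨ ε = -1) ∧ ∃ μ : Fin n → (G → ℂ), (∀ i, Cfsg.IsIrrCharacter G (μ i)) ∧ Function.Injective μ ∧ ∀ i, τ i = ε • (μ i - μ i₀) := by
  classical
  haveI : Nonempty (Cfsg.IrrCharacter G) := ⟨Lib.Helper82Linear.irrOne G⟩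
  have hex : ∀ i, i ≠ i₀ → ∃ P Q : Cfsg.IrrCharacter G, P ≠ Q ∧ τ i = (P : G → ℂ) - (Q : G → ℂ) := by
    intro i hi
    refine exists_diff (hgen i) ?_ (hone i)
    rw [hgram i i hi hi, if_pos rfl]
  choose! P Q hPQ hτ using hex
  have hrel : ∀ i j, i ≠ i₀ → j ≠ i₀ → i ≠ j →
      (P i = P j ∧ Q i ≠ Q j) ∨ (Q i = Q j ∧ P i ≠ P j) := by
    intro i j hi hj hij
    apply rel _ _ _ _ (hPQ i hi) (hPQ j hj)
    rw [← hτ i hi, ← hτ j hj, hgram i j hi hj, if_neg hij]
  by_cases hne : ∃ i₁, i₁ ≠ i₀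
  · obtain ⟨i₁, hi₁⟩ := hne
    by_cases hP : ∀ i j, i ≠ i₀ → j ≠ i₀ → P i = P j
    · refine final n i₀ τ h0 (P i₁) Q (-1) (Or.inr rfl) ?_ ?_ ?_
      · intro i j hi hj hij
        rcases hrel i j hi hj hij with h | h
        · exact h.2
        · exact absurd (hP i j hi hj) h.2
      · intro i hi
        rw [← hP i i₁ hi hi₁]
        exact (hPQ i hi).symm
      · intro i hi
        rw [hτ i hi, ← hP i i₁ hi hi₁]
        simp
    · push Not at hP
      obtain ⟨i, j, hi, hj, hPij⟩ := hP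
      have hij : i ≠ j := fun h => hPij (by rw [h])
      have hQij : Q i = Q j := by
        rcases hrel i j hi hj hij with h | h
        · exact absurd h.1 hPij
        · exact h.1
      have hQ : ∀ k, k ≠ i₀ → Q k = Q i := by
        intro k hk
        by_cases hki : k = i
        · rw [hki]
        by_cases hkj : k = j
        · rw [hkj, hQij]
        rcases hrel i k hi hk (Ne.symm hki) with h | h
        · rcases hrel j k hj hk (Ne.symm hkj) with h' | h'
          · exact absurd (h.1.trans h'.1.symm) hPij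
          · rw [← h'.1, hQij]
        · exact h.1.symm
      refine final n i₀ τ h0 (Q i) P 1 (Or.inl rfl) ?_ ?_ ?_
      · intro k l hk hl hkl
        rcases hrel k l hk hl hkl with h | h
        · exact absurd ((hQ k hk).trans (hQ l hl).symm) h.2
        · exact h.2
      · intro k hk
        rw [← hQ k hk]
        exact hPQ k hk
      · intro k hk
        rw [hτ k hk, hQ k hk]
        simp
  · push Not at hne
    exact final n i₀ τ h0 (Lib.Helper82Linear.irrOne G) P 1 (Or.inl rfl)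
      (fun i _ hi => absurd (hne i) hi) (fun i hi => absurd (hne i) hi)
      (fun i hi => absurd (hne i) hi)

end Cfsg.Agent.S0198
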