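import Cfsg.Statements.S0170
import Cfsg.Agent.Lib.Helper4Char
import Cfsg.Agent.Lib.Helper19Ind
import Cfsg.Agent.S0148
import Cfsg.Agent.S0150
import Cfsg.Agent.S0198

set_option autoImplicit false
open Cfsg

namespace Cfsg.Agent.S0170

open Cfsg.Agent.Lib.Helper19Ind Cfsg.Agent.Lib.Helper4Char

theorem extendByZero_sub {G : Type*} [Group G] (H : Subgroup G) (a b : H → ℂ) (g : G) :
    Cfsg.extendByZero H (a - b) g = Cfsg.extendByZero H a g - Cfsg.extendByZero H b g := by
  by_cases hg : g ∈ H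
  · simp [extendByZero_of_mem H _ hg]
  · simp [extendByZero_of_not_mem H _ hg]

theorem indFun_sub {G : Type*} [Group G] [Fintype G] (H : Subgroup G) (a b : H → ℂ) :
    Cfsg.indFun H (a - b) = Cfsg.indFun H a - Cfsg.indFun H b := by
  ext g
  simp only [indFun_apply, Pi.sub_apply, extendByZero_sub, Finset.sum_sub_distrib, mul_sub]

theorem indFun_one {G : Type*} [Group G] [Fintype G] (H : Subgroup G) (a : H → ℂ) (h : a 1 = 0) :
    Cfsg.indFun H a 1 = 0 := by
  rw [indFun_apply]
  apply mul_eq_zero_of_right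
  apply Finset.sum_eq_zero
  intro x _
  have : x⁻¹ * 1 * x = ((1 : H) : G) := by simp
  rw [this, extendByZero_coe, h]


/-- Exceptional characters. Let S be a subset of a finite group contained in its normalizer N and meeting its conjugates by elements outside N only in the identity. Given n ≥ 2 distinct irreducible characters of N of equal degree that vanish on N away from S, there exist a sign ε and n distinct irreducible characters θ_i of G such that inducing χ_i − χ_j to G gives ε (θ_i − θ_j) for all i, j. -/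
theorem result {G : Type*} [Group G] [Fintype G] (S : Set G) (hSN : S ⊆ Subgroup.normalizer S) (hTI : ∀ g : G, g ∉ Subgroup.normalizer S → ∀ s ∈ S, g * s * g⁻¹ ∈ S → s = 1) (n : ℕ) (hn : 2 ≤ n) (χ : Fin n → (Subgroup.normalizer S → ℂ)) (hirr : ∀ i, Cfsg.IsIrrCharacter (Subgroup.normalizer S) (χ i)) (hinj : Function.Injective χ) (hvan : ∀ i, ∀ x : Subgroup.normalizer S, (x : G) ∉ S → χ i x = 0) (hdeg : ∀ i j, χ i 1 = χ j 1) : ∃ ε : ℂ, (ε = 1 ∨ ε = -1) ∧ ∃ θ : Fin n → (G → ℂ), (∀ i, Cfsg.IsIrrCharacter G (θ i)) ∧ Function.Injective θ ∧ ∀ i j, Cfsg.indFun (Subgroup.normalizer S) (χ i) - Cfsg.indFun (Subgroup.normalizer S) (χ j) = ε • (θ i - θ j) := by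
  classical
  have hn0 : 0 < n := by omega
  let i₀ : Fin n := ⟨0, hn0⟩
  let τ : Fin n → (G → ℂ) := fun i =>
    Cfsg.indFun (Subgroup.normalizer S) (χ i) - Cfsg.indFun (Subgroup.normalizer S) (χ i₀)
  have hτ : ∀ i, τ i = Cfsg.indFun (Subgroup.normalizer S) (χ i - χ i₀) :=
    fun i => (indFun_sub _ _ _).symm
  have hcl : ∀ i, Cfsg.IsClassFunction (Subgroup.normalizer S) (χ i - χ i₀) := fun i =>
    IsClassFunction.sub (IsIrrCharacter.isClassFunction (hirr i))
      (IsIrrCharacter.isClassFunction (hirr i₀))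
  have hv : ∀ i, ∀ x : Subgroup.normalizer S, (x : G) ∉ S → (χ i - χ i₀) x = 0 := by
    intro i x hx
    simp [hvan i x hx, hvan i₀ x hx]
  have h1 : ∀ i, (χ i - χ i₀) 1 = 0 := by
    intro i
    simp [hdeg i i₀]
  obtain ⟨ε, hε, μ, hμirr, hμinj, hμ⟩ := Cfsg.Agent.S0198.result n i₀ τ (by simp [τ])
    (fun i => ⟨_, _, Cfsg.Agent.S0148.result _ _ (IsIrrCharacter.isCharacter (hirr i)),
      Cfsg.Agent.S0148.result _ _ (IsIrrCharacter.isCharacter (hirr i₀)), rfl⟩)
    (fun i => by rw [hτ]; exact indFun_one _ _ (h1 i))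
    (by
      intro i j hi hj
      rw [hτ, hτ, Cfsg.Agent.S0150.result S hTI hSN _ _ (hcl i) (hcl j) (hv i) (hv j) (h1 i)]
      rw [classInner_sub_left, classInner_sub_right, classInner_sub_right,
        classInner_irr (hirr i) (hirr j), classInner_irr_ne (hirr i) (hirr i₀) (fun h => hi (hinj h)),
        classInner_irr_ne (hirr i₀) (hirr j) (fun h => hj (hinj h).symm),
        classInner_irr_self (hirr i₀)]
      by_cases hij : i = j
      · subst hij; simp; norm_num
      · rw [if_neg hij, if_neg (fun h => hij (hinj h))]; norm_num)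
  refine ⟨ε, hε, μ, hμirr, hμinj, ?_⟩
  intro i j
  have h2 : Cfsg.indFun (Subgroup.normalizer S) (χ i) - Cfsg.indFun (Subgroup.normalizer S) (χ j)
      = τ i - τ j := by simp [τ]
  rw [h2, hμ i, hμ j, ← smul_sub]
  congr 1
  abel

end Cfsg.Agent.S0170
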