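import Cfsg.Statements.S0851
import Cfsg.Agent.Lib.Helper19TIFN2
import Cfsg.Agent.Lib.Helper19Rel
import Cfsg.Agent.Lib.Helper19Util
import Cfsg.Agent.Lib.Helper82Linear
import Cfsg.Agent.S0170
import Cfsg.Agent.S0187

set_option autoImplicit false
open Cfsg

namespace Cfsg.Agent.S0851

open Cfsg.Agent.Lib.Helper4Char Cfsg.Agent.Lib.Helper4Char2 Cfsg.Agent.Lib.Helper4Char3
  Cfsg.Agent.Lib.Helper4Char4 Cfsg.Agent.Lib.Helper82Quot
  Cfsg.Agent.Lib.Helper19TIFN Cfsg.Agent.Lib.Helper19TIFN2 Cfsg.Agent.Lib.Helper19Cliff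
  Cfsg.Agent.Lib.Helper19Chief Cfsg.Agent.Lib.Helper19Ratio Cfsg.Agent.Lib.Helper19Lin
  Cfsg.Agent.Lib.Helper19Util Cfsg.Agent.Lib.Helper19Rel Cfsg.Agent.Lib.Helper82Linear
open scoped ComplexConjugate

theorem degree_eq_index {N L : Type*} [Group N] [Group L] [Fintype N] [Fintype L]
    (ι : L →* N) (hι : Function.Injective ι) (c : N →* MulAut L)
    (hc : ∀ (g : N) (l : L), ι (c g l) = g * ι l * g⁻¹) (hab : ∀ a b : L, a * b = b * a)
    (hfrob : ∀ g : N, g ∉ ι.range → ∀ l : L, c g l = l → l = 1)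
    {χ : N → ℂ} (hχ : IsIrrCharacter N χ) (hrel : ∃ l : L, χ (ι l) ≠ χ 1) :
    χ 1 = (ι.range.index : ℂ) := by
  classical
  have hres : IsCharacter L (fun l => χ (ι l)) := IsCharacter.comp ι (IsIrrCharacter.isCharacter hχ)
  obtain ⟨φ, hφ, hφ1, hcon⟩ : ∃ φ : L → ℂ, IsIrrCharacter L φ ∧ φ ≠ (fun _ => 1) ∧
      classInner (fun l => χ (ι l)) φ ≠ 0 := by
    by_contra hno
    push Not at hno
    obtain ⟨l, hl⟩ := hrel
    apply hl
    have h1 := classFunction_eq_sum _ (IsCharacter.isClassFunction hres)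
    rw [Finset.sum_eq_single (⟨fun _ => 1, isIrrCharacter_one⟩ : IrrCharacter L)] at h1
    · have h2 := congrFun h1 l
      have h3 := congrFun h1 1
      simp only [Pi.smul_apply, smul_eq_mul, mul_one, map_one] at h2 h3
      rw [h2, ← h3]
    · intro φ _ hne
      rw [hno φ φ.2 (fun h => hne (Subtype.ext h)), zero_smul]
    · intro h; exact absurd (Finset.mem_univ _) h
  have hlin : φ 1 = 1 := (Cfsg.Agent.S0187.result.1 hab) ⟨φ, hφ⟩
  obtain ⟨lam, hlam⟩ := exists_hom_of_linear (IsIrrCharacter.isCharacter hφ) hlin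
  have hI : inertia c φ = ι.range := by
    apply le_antisymm _ (range_le_inertia ι hι c hc (IsIrrCharacter.isClassFunction hφ))
    intro g hg
    by_contra hgr
    apply hφ1
    have hinj : Function.Injective (fun l : L => l⁻¹ * c g l) := by
      intro l m hlm
      have h1 : l⁻¹ * c g l = m⁻¹ * c g m := hlm
      have h2 : c g (l * m⁻¹) = l * m⁻¹ := by
        rw [map_mul, map_inv]
        have h3 : c g l = l * (m⁻¹ * c g m) := by rw [← h1, mul_inv_cancel_left]
        rw [h3, mul_assoc, mul_assoc, mul_inv_cancel, mul_one]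
      have h4 := hfrob g hgr _ h2
      exact mul_inv_eq_one.1 h4
    have hsurj := Finite.surjective_of_injective hinj
    funext l
    obtain ⟨m, rfl⟩ := hsurj l
    have h1 : φ (c g m) = φ m := hg m
    rw [← hlam, homFun_apply, homFun_apply] at h1
    rw [← hlam, homFun_apply, map_mul, map_inv, Units.ext h1, inv_mul_cancel, Units.val_one]
  obtain ⟨hind, -⟩ := res_of_inertia_eq_range ι hι c hc hχ hφ hcon hI
  rw [← hind, ind_one_apply ι hι, hlin, mul_one]

/-- Let K be a subgroup of the finite group G that meets each conjugate by an element outside its normalizer N trivially, is properly contained in N, and contains the centralizer of each of its non-identity elements (a T.I. subgroup with Frobenius normalizer). Suppose K is abelian, let e be the index of K in N, and call an irreducible character of N relevant when it takes at some element of K a value different from its degree. Then either there is exactly one relevant character and K is an elementary abelian p-group of order e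 + 1 for some prime p, or there are a sign ε and an injective map f from the relevant characters to the irreducible characters of G such that inducing χ - ξ to G gives ε (f χ - f ξ) for all relevant χ and ξ. -/
theorem result {G : Type*} [Group G] [Fintype G] (K : Subgroup G) (hTI : ∀ g : G, g ∉ Subgroup.normalizer (K : Set G) → ∀ k ∈ K, g * k * g⁻¹ ∈ K → k = 1) (hlt : K < Subgroup.normalizer (K : Set G)) (hC : ∀ k ∈ K, k ≠ 1 → Subgroup.centralizer ({k} : Set G) ≤ K) (hab : ∀ a ∈ K, ∀ b ∈ K, a * b = b * a) : (Nat.card {χ : Cfsg.IrrCharacter (Subgroup.normalizer (K : Set G)) // ∃ k : Subgroup.normalizer (K : Set G), (k : G) ∈ K ∧ (χ : ↥(Subgroup.normalizer (K : Set G)) → ℂ) k ≠ (χ : ↥(Subgroup.normalizer (K : Set G)) → ℂ) 1} = 1 ∧ ∃ p : ℕ, p.Prime ∧ Cfsg.IsElementaryAbelian p K ∧ Nat.card K = (K.subgroupOf (Subgroup.normalizer (K : Set G))).index + 1) ∨ ∃ (ε : ℂ) (f : {χ : Cfsg.IrrCharacter (Subgroup.normalizer (K : Set G)) // ∃ k : Subgroup.normalizer (K : Set G), (k : G) ∈ K ∧ (χ : ↥(Subgroup.normalizer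 (K : Set G)) → ℂ) k ≠ (χ : ↥(Subgroup.normalizer (K : Set G)) → ℂ) 1} → Cfsg.IrrCharacter G), (ε = 1 ∨ ε = -1) ∧ Function.Injective f ∧ ∀ χ ξ, Cfsg.indFun (Subgroup.normalizer (K : Set G)) ((χ.1 : ↥(Subgroup.normalizer (K : Set G)) → ℂ) - (ξ.1 : ↥(Subgroup.normalizer (K : Set G)) → ℂ)) = ε • ((f χ : G → ℂ) - (f ξ : G → ℂ)) := by
  classical
  right
  letI : Fintype (Subgroup.normalizer (K : Set G)) := Fintype.ofFinite _
  letI : Fintype K := Fintype.ofFinite _
  have hKN : K ≤ Subgroup.normalizer (K : Set G) := hlt.le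
  by_cases hsub : Subsingleton {χ : Cfsg.IrrCharacter (Subgroup.normalizer (K : Set G)) //
      ∃ k : Subgroup.normalizer (K : Set G), (k : G) ∈ K ∧
      (χ : ↥(Subgroup.normalizer (K : Set G)) → ℂ) k ≠ (χ : ↥(Subgroup.normalizer (K : Set G)) → ℂ) 1}
  · refine ⟨1, fun _ => ⟨fun _ => 1, isIrrCharacter_one⟩, Or.inl rfl, ?_, ?_⟩
    · intro a b _
      exact Subsingleton.elim a b
    · intro χ ξ
      rw [Subsingleton.elim χ ξ, sub_self, sub_self, smul_zero]
      funext g
      rw [Cfsg.Agent.Lib.Helper19Ind.indFun_apply]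
      have : ∀ y : G, extendByZero (Subgroup.normalizer (K : Set G)) 0 y = 0 := by
        intro y
        by_cases hy : y ∈ Subgroup.normalizer (K : Set G)
        · rw [Cfsg.Agent.Lib.Helper19Ind.extendByZero_of_mem _ _ hy]; rfl
        · exact Cfsg.Agent.Lib.Helper19Ind.extendByZero_of_not_mem _ _ hy
      simp [this]
  · have hn : 2 ≤ Nat.card {χ : Cfsg.IrrCharacter (Subgroup.normalizer (K : Set G)) //
      ∃ k : Subgroup.normalizer (K : Set G), (k : G) ∈ K ∧
      (χ : ↥(Subgroup.normalizer (K : Set G)) → ℂ) k ≠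
        (χ : ↥(Subgroup.normalizer (K : Set G)) → ℂ) 1} := by
      rw [not_subsingleton_iff_nontrivial] at hsub
      exact Finite.one_lt_card
    let e := Finite.equivFin {χ : Cfsg.IrrCharacter (Subgroup.normalizer (K : Set G)) //
      ∃ k : Subgroup.normalizer (K : Set G), (k : G) ∈ K ∧
      (χ : ↥(Subgroup.normalizer (K : Set G)) → ℂ) k ≠
        (χ : ↥(Subgroup.normalizer (K : Set G)) → ℂ) 1}
    have hnorm : ∀ t ∈ Subgroup.normalizer (K : Set G), ∀ k ∈ K, t * k * t⁻¹ ∈ K := by
      intro t ht k hk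
      exact (Subgroup.mem_normalizer_iff.1 ht k).1 hk
    have hdeg : ∀ χ : {χ : Cfsg.IrrCharacter (Subgroup.normalizer (K : Set G)) //
      ∃ k : Subgroup.normalizer (K : Set G), (k : G) ∈ K ∧
      (χ : ↥(Subgroup.normalizer (K : Set G)) → ℂ) k ≠
        (χ : ↥(Subgroup.normalizer (K : Set G)) → ℂ) 1},
        (χ.1 : ↥(Subgroup.normalizer (K : Set G)) → ℂ) 1
          = ((Subgroup.inclusion hKN).range.index : ℂ) := by
      rintro ⟨χ, k, hk, hne⟩
      apply degree_eq_index (Subgroup.inclusion hKN) (Subgroup.inclusion_injective hKN)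
        (conjOn _ K hnorm) _ _ _ χ.2 ⟨⟨k, hk⟩, hne⟩
      · intro g l
        rfl
      · intro a b
        exact Subtype.ext (hab a a.2 b b.2)
      · intro g hg l hl
        by_contra hl1
        apply hg
        have h1 : (g : G) ∈ K := by
          apply hC l l.2 (fun h => hl1 (Subtype.ext h))
          rw [Subgroup.mem_centralizer_singleton_iff]
          have h2 : (g : G) * l * (g : G)⁻¹ = l := congrArg Subtype.val hl
          calc (g : G) * l = (g : G) * l * (g : G)⁻¹ * g := by group
            _ = l * g := by rw [h2]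
        exact ⟨⟨g, h1⟩, rfl⟩
    obtain ⟨ε, hε, θ, hθirr, hθinj, hθ⟩ := Cfsg.Agent.S0170.result (K : Set G) hKN hTI _ hn
      (fun i => ((e.symm i).1 : ↥(Subgroup.normalizer (K : Set G)) → ℂ))
      (fun i => (e.symm i).1.2)
      (fun i j hij => e.symm.injective (Subtype.ext (Subtype.ext hij)))
      (fun i x hx => vanish_off K _ hC _ rfl ⟨(e.symm i).1.2, (e.symm i).2⟩ x hx)
      (fun i j => by rw [hdeg, hdeg])
    refine ⟨ε, fun χ => ⟨θ (e χ), hθirr _⟩, hε, ?_, ?_⟩
    · intro a b hab'
      exact e.injective (hθinj (congrArg Subtype.val hab'))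
    · intro χ ξ
      have h1 := hθ (e χ) (e ξ)
      simp only [Equiv.symm_apply_apply] at h1
      rw [Cfsg.Agent.S0170.indFun_sub, h1]

end Cfsg.Agent.S0851
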