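import Cfsg.Statements.S0878
import Mathlib

set_option autoImplicit false
open Cfsg

namespace Cfsg.Agent.S0878

/-- Let G be a Zassenhaus group on the finite set Ω, a a point, and let H be the subgroup of the stabilizer of a consisting of the identity and the elements fixing no point other than a (given here as a subgroup of the stabilizer of order one less than the number of points whose non-identity elements fix only a; it is the Frobenius kernel of the stabilizer). Then an element outside the stabilizer of a conjugates no non-identity element of H into H, and the normalizer of H is exactly the stabilizer of a. -/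
theorem result {G Ω : Type*} [Group G] [Finite G] [MulAction G Ω] [Fintype Ω] (hZ : Cfsg.IsZassenhausGroup G Ω) (a : Ω) (H : Subgroup G) (hHa : H ≤ MulAction.stabilizer G a) (hHcard : Nat.card H + 1 = Fintype.card Ω) (hHfix : ∀ u ∈ H, u ≠ 1 → ∀ c : Ω, u • c = c → c = a) : (∀ g : G, g ∉ MulAction.stabilizer G a → ∀ u ∈ H, g * u * g⁻¹ ∈ H → u = 1) ∧ Subgroup.normalizer (H : Set G) = MulAction.stabilizer G a := by
  classical
  obtain ⟨hfaith, h2t, h3, ⟨g₀, hg₀, a₀, b₀, hab₀, hga₀, hgb₀⟩, hreg⟩ := hZ
  haveI : Fintype H := Fintype.ofFinite H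
  have part1 : ∀ g : G, g ∉ MulAction.stabilizer G a → ∀ u ∈ H, g * u * g⁻¹ ∈ H → u = 1 := by
    intro g hg u hu hgu
    by_contra hu1
    apply hg
    have hne : g * u * g⁻¹ ≠ 1 := by
      intro h
      apply hu1
      have : u = g⁻¹ * (g * u * g⁻¹) * g := by group
      rw [this, h]; group
    have hua : u • a = a := hHa hu
    have : (g * u * g⁻¹) • (g • a) = g • a := by
      rw [← mul_smul, inv_mul_cancel_right, mul_smul, hua]
    exact hHfix _ hgu hne _ this
  refine ⟨part1, ?_⟩
  -- at least three points
  have hcard3 : 3 ≤ Fintype.card Ω := by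
    obtain ⟨c, hc⟩ : ∃ c : Ω, g₀ • c ≠ c := by
      by_contra h
      push Not at h
      apply hg₀
      apply hfaith.eq_of_smul_eq_smul
      intro c
      rw [h c, one_smul]
    have hca : c ≠ a₀ := fun h => hc (h ▸ hga₀)
    have hcb : c ≠ b₀ := fun h => hc (h ▸ hgb₀)
    have : ({a₀, b₀, c} : Finset Ω).card = 3 := by
      rw [Finset.card_eq_three]
      exact ⟨a₀, b₀, c, hab₀, hca.symm, hcb.symm, rfl⟩
    rw [← this]
    exact Finset.card_le_univ _
  have hHcard' : Fintype.card H + 1 = Fintype.card Ω := by
    rw [← Nat.card_eq_fintype_card]; exact hHcard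
  apply le_antisymm
  · intro g hg
    by_contra hga
    have h2 : 1 < Fintype.card H := by omega
    obtain ⟨u, hu⟩ := Fintype.exists_ne_of_one_lt_card h2 1
    apply hu
    apply Subtype.ext
    exact part1 g hga u u.2 ((Subgroup.mem_normalizer_iff.mp hg u).mp u.2)
  · -- the claim
    have hcardΩ : Fintype.card {c : Ω // c ≠ a} = Fintype.card H := by
      have := Set.card_ne_eq a
      have h' : Fintype.card {c : Ω // c ≠ a} = Fintype.card Ω - 1 := by
        convert this
      omega
    have htrans : ∀ c d : Ω, c ≠ a → d ≠ a → ∃ h ∈ H, h • c = d := by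
      intro c d hc hd
      let φ : H → {c : Ω // c ≠ a} := fun h => ⟨(h : G) • c, by
        intro hh
        apply hc
        have h1 : (h : G) • a = a := hHa h.2
        have : (h : G) • c = (h : G) • a := by rw [hh, h1]
        exact smul_left_cancel _ this⟩
      have hinj : Function.Injective φ := by
        intro h h' hhh
        have h1 : (h : G) • c = (h' : G) • c := congrArg Subtype.val hhh
        have h2 : ((h' : G)⁻¹ * h) • c = c := by
          rw [mul_smul, h1, inv_smul_smul]
        by_contra hne
        apply hc
        apply hHfix _ (H.mul_mem (H.inv_mem h'.2) h.2) _ c h2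
        intro h3
        apply hne
        apply Subtype.ext
        have := inv_mul_eq_one.mp h3
        exact this.symm
      have hbij := (Fintype.bijective_iff_injective_and_card φ).mpr ⟨hinj, hcardΩ.symm⟩
      obtain ⟨h, hh⟩ := hbij.2 ⟨d, hd⟩
      exact ⟨h, h.2, congrArg Subtype.val hh⟩
    have claim : ∀ x : G, x • a = a → (∀ c : Ω, x • c = c → c = a) → x ∈ H := by
      intro x hxa hx
      have hex : ∀ c : {c : Ω // c ≠ a}, ∃ h : {h : H // h ≠ 1}, (h.1 : G) • c.1 = x • c.1 := by
        intro c
        have hxc : x • c.1 ≠ a := by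
          intro h
          apply c.2
          have : x • c.1 = x • a := by rw [h, hxa]
          exact smul_left_cancel _ this
        obtain ⟨h, hh, hhc⟩ := htrans c.1 (x • c.1) c.2 hxc
        refine ⟨⟨⟨h, hh⟩, ?_⟩, hhc⟩
        intro h1
        have h1' : h = 1 := congrArg Subtype.val h1
        rw [h1', one_smul] at hhc
        exact c.2 (hx _ hhc.symm)
      choose ψ hψ using hex
      have hlt : Fintype.card {h : H // h ≠ 1} < Fintype.card {c : Ω // c ≠ a} := by
        have := Set.card_ne_eq (1 : H)
        have h' : Fintype.card {h : H // h ≠ 1} = Fintype.card H - 1 := by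
          convert this
        omega
      obtain ⟨c, d, hcd, hψcd⟩ := Fintype.exists_ne_map_eq_of_card_lt ψ hlt
      set h : G := ((ψ c).1 : G) with hh
      have hhH : h ∈ H := (ψ c).1.2
      have e1 : (h⁻¹ * x) • c.1 = c.1 := by
        rw [mul_smul, ← hψ c, inv_smul_smul]
      have e2 : (h⁻¹ * x) • d.1 = d.1 := by
        rw [mul_smul, ← hψ d, ← hψcd, inv_smul_smul]
      have e3 : (h⁻¹ * x) • a = a := by
        rw [mul_smul, hxa]
        have : h • a = a := hHa hhH
        rw [inv_smul_eq_iff, this]
      have hcd' : c.1 ≠ d.1 := fun h => hcd (Subtype.ext h)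
      have := h3 (h⁻¹ * x) a c.1 d.1 c.2.symm hcd' d.2.symm e3 e1 e2
      have hx' : x = h := (inv_mul_eq_one.mp this).symm
      rw [hx']; exact hhH
    intro g hg
    apply Subgroup.mem_normalizer_fintype
    intro n hn
    have hga : g • a = a := hg
    by_cases hn1 : n = 1
    · rw [hn1]; simp [H.one_mem]
    · apply claim
      · have hna : n • a = a := hHa hn
        rw [mul_smul, mul_smul, inv_smul_eq_iff.mpr hga.symm, hna, hga]
      · intro c hc
        have h1 : n • (g⁻¹ • c) = g⁻¹ • c := by
          rw [mul_smul, mul_smul] at hc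
          rw [eq_inv_smul_iff]; exact hc
        have h2 := hHfix n hn hn1 _ h1
        rw [inv_smul_eq_iff, hga] at h2
        exact h2

end Cfsg.Agent.S0878
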