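import Cfsg.Statements.S0884
import Cfsg.Agent.Lib.Helper61Feit5

set_option autoImplicit false
open Cfsg

namespace Cfsg.Agent.S0884

/-- Let G be a finite simple Zassenhaus group on Ω with h + 1 points whose two-point stabilizer E has odd order e with 2e < h - 1, and let H be the subgroup of the stabilizer of a consisting of the identity and the elements fixing no point other than a (given here as a subgroup of the stabilizer of order one less than the number of points whose non-identity elements fix only a; it is the Frobenius kernel of the stabilizer). Then at least e conjugacy classes of G contain no element of H. -/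
theorem result {G Ω : Type*} [Group G] [Finite G] [MulAction G Ω] [Fintype Ω] (hZ : Cfsg.IsZassenhausGroup G Ω) {a b : Ω} (hab : a ≠ b) [IsSimpleGroup G] (h e : ℕ) (hh : Fintype.card Ω = h + 1) (he : Nat.card ↥(MulAction.stabilizer G a ⊓ MulAction.stabilizer G b : Subgroup G) = e) (hodd : Odd e) (hlt : 2 * e < h - 1) (H : Subgroup G) (hHa : H ≤ MulAction.stabilizer G a) (hHcard : Nat.card H + 1 = Fintype.card Ω) (hHfix : ∀ u ∈ H, u ≠ 1 → ∀ c : Ω, u • c = c → c = a) : e ≤ Nat.card {C : ConjClasses G // ∀ g : G, ConjClasses.mk g = C → g ∉ H} := by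
  classical
  have : Fintype G := Fintype.ofFinite G
  have hh' : Nat.card Ω = h + 1 := by rw [Nat.card_eq_fintype_card, hh]
  have hodd' : Odd (Nat.card (Cfsg.Agent.Lib.Helper61Feit.stab2 G a b)) := by rw [he]; exact hodd
  have K : Cfsg.Agent.Lib.Helper61Feit2.KData G Ω a h H := ⟨hHa, by omega, hHfix⟩
  have D := Cfsg.Agent.Lib.Helper61Feit.tdata_of_zass hZ hh'
  have hG : Nat.card G = (h + 1) * h * e := by
    rw [Cfsg.Agent.Lib.Helper61Feit.card_G D hab, he]
  set P : ConjClasses G → Prop := fun C => ∀ g : G, ConjClasses.mk g = C → g ∉ H with hP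
  set N := Nat.card {C : ConjClasses G // ∀ g : G, ConjClasses.mk g = C → g ∉ H} with hN
  set I := Nat.card {s : G // orderOf s = 2} with hI
  have hsum := Cfsg.Agent.Lib.Helper61Feit5.sum_card_centralizer (G := G) P
  -- good pairs
  have hgood : ∑ p : G × G, (if orderOf p.1 = 2 ∧ orderOf p.2 = 2 ∧ P (ConjClasses.mk (p.1 * p.2))
      then 1 else 0) ≤ N * Nat.card G := by
    rw [← hsum]
    have h1 : ∀ p : G × G, (if orderOf p.1 = 2 ∧ orderOf p.2 = 2 ∧ P (ConjClasses.mk (p.1 * p.2))
        then 1 else 0) = ∑ g : G, (if P (ConjClasses.mk g) ∧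
          (orderOf p.1 = 2 ∧ orderOf p.2 = 2 ∧ p.1 * p.2 = g) then 1 else 0) := by
      intro p
      rw [Finset.sum_eq_single (p.1 * p.2)]
      · apply if_congr _ rfl rfl
        constructor
        · rintro ⟨h1, h2, h3⟩
          exact ⟨h3, h1, h2, rfl⟩
        · rintro ⟨h3, h1, h2, -⟩
          exact ⟨h1, h2, h3⟩
      · intro g _ hg
        rw [if_neg]
        rintro ⟨-, -, -, h4⟩
        exact hg h4.symm
      · intro h4
        exact absurd (Finset.mem_univ _) h4
    rw [Finset.sum_congr rfl (fun p _ => h1 p), Finset.sum_comm]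
    apply Finset.sum_le_sum
    intro g _
    by_cases hg : P (ConjClasses.mk g)
    · rw [if_pos hg]
      refine le_trans (le_of_eq ?_) (Cfsg.Agent.Lib.Helper61Feit5.card_invol_pairs_le g)
      rw [Nat.card_eq_fintype_card, Fintype.card_subtype, Finset.card_filter]
      apply Finset.sum_congr rfl
      intro p _
      simp [hg]
    · rw [if_neg hg]
      apply le_of_eq
      apply Finset.sum_eq_zero
      intro p _
      simp [hg]
  -- all pairs
  have hall : ∑ p : G × G, (if orderOf p.1 = 2 ∧ orderOf p.2 = 2 then 1 else 0) = I * I := by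
    rw [← Finset.univ_product_univ, Finset.sum_product]
    have h1 : ∀ x : G, ∑ y : G, (if orderOf x = 2 ∧ orderOf y = 2 then 1 else 0)
        = if orderOf x = 2 then I else 0 := by
      intro x
      by_cases hx : orderOf x = 2
      · rw [if_pos hx, hI, Nat.card_eq_fintype_card, Fintype.card_subtype, Finset.card_filter]
        apply Finset.sum_congr rfl
        intro y _
        simp [hx]
      · rw [if_neg hx]
        apply Finset.sum_eq_zero
        intro y _
        simp [hx]
    rw [Finset.sum_congr rfl (fun x _ => h1 x), Finset.sum_ite, Finset.sum_const_zero, add_zero,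
      Finset.sum_const, smul_eq_mul]
    congr 1
    rw [hI, Nat.card_eq_fintype_card, Fintype.card_subtype]
  have hsplit : ∀ p : G × G, (if orderOf p.1 = 2 ∧ orderOf p.2 = 2 then 1 else 0)
      = (if orderOf p.1 = 2 ∧ orderOf p.2 = 2 ∧ P (ConjClasses.mk (p.1 * p.2)) then 1 else 0)
        + (if orderOf p.1 = 2 ∧ orderOf p.2 = 2 ∧ ¬ P (ConjClasses.mk (p.1 * p.2)) then 1 else 0) := by
    intro p
    by_cases h1 : orderOf p.1 = 2 <;> by_cases h2 : orderOf p.2 = 2 <;>
      by_cases h3 : P (ConjClasses.mk (p.1 * p.2)) <;> simp [h1, h2, h3]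
  rw [Finset.sum_congr rfl (fun p _ => hsplit p), Finset.sum_add_distrib] at hall
  -- description of bad pairs
  have hbad : ∀ x y : G, orderOf x = 2 → orderOf y = 2 → ¬ P (ConjClasses.mk (x * y)) →
      x = y ∨ ∃ c : Ω, x • c = c ∧ y • c = c := by
    intro x y hx hy hxy
    rw [hP] at hxy
    push Not at hxy
    obtain ⟨g, hg, hgH⟩ := hxy
    rw [ConjClasses.mk_eq_mk_iff_isConj, isConj_iff] at hg
    obtain ⟨k, hk⟩ := hg
    by_cases hg1 : g = 1
    · left
      rw [hg1] at hk
      have h1 : x * y = 1 := by rw [← hk]; group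
      have h2 := eq_inv_of_mul_eq_one_left h1
      rw [Cfsg.Agent.Lib.Helper61Feit4.inv_of_order_two hy] at h2
      exact h2
    · right
      refine ⟨k • a, Cfsg.Agent.Lib.Helper61Feit5.invol_fix_of_prod hZ hh' hab hodd' hx hy rfl ?_ ?_⟩
      · rw [← hk, mul_smul, mul_smul, inv_smul_smul, show g • a = a from hHa hgH]
      · intro d hd
        rw [← hk, mul_smul, mul_smul] at hd
        have h1 : g • (k⁻¹ • d) = k⁻¹ • d := by
          rw [eq_inv_smul_iff]; exact hd
        have h2 := hHfix g hgH hg1 _ h1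
        rw [inv_smul_eq_iff] at h2
        exact h2
  have h4 := Cfsg.Agent.Lib.Helper61Feit3.four_le_h hZ hh' hab hodd'
  have hIc := Cfsg.Agent.Lib.Helper61Feit4.card_invol hZ hh' hab hodd'
  rw [he, ← hI] at hIc
  by_cases hhe : Even h
  · rw [if_pos hhe] at hIc
    -- bad pairs share a fixed point
    have hb : ∑ p : G × G, (if orderOf p.1 = 2 ∧ orderOf p.2 = 2 ∧ ¬ P (ConjClasses.mk (p.1 * p.2))
        then 1 else 0) ≤ (h + 1) * (e * e) := by
      have h1 : ∀ p : G × G, (if orderOf p.1 = 2 ∧ orderOf p.2 = 2 ∧ ¬ P (ConjClasses.mk (p.1 * p.2))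
          then 1 else 0) ≤ ∑ c : Ω, (if (orderOf p.1 = 2 ∧ p.1 • c = c) ∧ (orderOf p.2 = 2 ∧ p.2 • c = c)
            then 1 else 0) := by
        intro p
        by_cases hp : orderOf p.1 = 2 ∧ orderOf p.2 = 2 ∧ ¬ P (ConjClasses.mk (p.1 * p.2))
        · rw [if_pos hp]
          have h2 : ∃ c : Ω, p.1 • c = c ∧ p.2 • c = c := by
            rcases hbad p.1 p.2 hp.1 hp.2.1 hp.2.2 with h3 | h3
            · obtain ⟨c, hc⟩ := Cfsg.Agent.Lib.Helper61Feit4.invol_fix_of_even hZ hh' hhe hp.1
              exact ⟨c, hc, by rw [← h3]; exact hc⟩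
            · exact h3
          obtain ⟨c, hc1, hc2⟩ := h2
          calc 1 = (if (orderOf p.1 = 2 ∧ p.1 • c = c) ∧ (orderOf p.2 = 2 ∧ p.2 • c = c)
              then 1 else 0) := by rw [if_pos ⟨⟨hp.1, hc1⟩, hp.2.1, hc2⟩]
            _ ≤ _ := Finset.single_le_sum (f := fun c : Ω => (if (orderOf p.1 = 2 ∧ p.1 • c = c) ∧
                (orderOf p.2 = 2 ∧ p.2 • c = c) then 1 else 0)) (fun _ _ => Nat.zero_le _)
                (Finset.mem_univ c)
        · rw [if_neg hp]
          exact Nat.zero_le _
      refine (Finset.sum_le_sum (fun p _ => h1 p)).trans (le_of_eq ?_)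
      rw [Finset.sum_comm]
      have h2 : ∀ c : Ω, ∑ p : G × G, (if (orderOf p.1 = 2 ∧ p.1 • c = c) ∧
          (orderOf p.2 = 2 ∧ p.2 • c = c) then 1 else 0) = e * e := by
        intro c
        have h3 := Cfsg.Agent.Lib.Helper61Feit5.card_invol_fix hZ hh' hab hodd' hhe c
        rw [he, Nat.card_eq_fintype_card, Fintype.card_subtype] at h3
        rw [← Finset.card_filter, ← Finset.univ_product_univ,
          Finset.filter_product (fun x : G => orderOf x = 2 ∧ x • c = c)
            (fun x : G => orderOf x = 2 ∧ x • c = c), Finset.card_product, h3]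
      rw [Finset.sum_congr rfl (fun c _ => h2 c), Finset.sum_const, smul_eq_mul, Finset.card_univ, hh]
    rw [hG] at hgood
    have h5 : e * (h + 1) * (e * (h + 1)) ≤ N * ((h + 1) * h * e) + (h + 1) * (e * e) := by
      rw [← hIc, ← hall]
      exact Nat.add_le_add hgood hb
    by_contra hcon
    rw [not_le] at hcon
    obtain ⟨r, hr⟩ : ∃ r, e = N + 1 + r := ⟨e - N - 1, by omega⟩
    have h6 : e * (h + 1) * (e * (h + 1)) = e * ((h + 1) * h * e) + (h + 1) * (e * e) := by ring
    rw [h6] at h5
    have h7 : e * ((h + 1) * h * e) ≤ N * ((h + 1) * h * e) := by omega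
    have h8 : 0 < (h + 1) * h * e := by
      have : 0 < e := by omega
      positivity
    have := Nat.le_of_mul_le_mul_right h7 h8
    omega
  · rw [if_neg hhe] at hIc
    rw [Nat.not_even_iff_odd] at hhe
    have hb : ∑ p : G × G, (if orderOf p.1 = 2 ∧ orderOf p.2 = 2 ∧ ¬ P (ConjClasses.mk (p.1 * p.2))
        then 1 else 0) ≤ I := by
      have h1 : ∀ p : G × G, (if orderOf p.1 = 2 ∧ orderOf p.2 = 2 ∧ ¬ P (ConjClasses.mk (p.1 * p.2))
          then 1 else 0) ≤ (if orderOf p.1 = 2 ∧ p.2 = p.1 then 1 else 0) := by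
        intro p
        by_cases hp : orderOf p.1 = 2 ∧ orderOf p.2 = 2 ∧ ¬ P (ConjClasses.mk (p.1 * p.2))
        · rw [if_pos hp]
          rcases hbad p.1 p.2 hp.1 hp.2.1 hp.2.2 with h3 | ⟨c, hc, -⟩
          · rw [if_pos ⟨hp.1, h3.symm⟩]
          · exact absurd hc (Cfsg.Agent.Lib.Helper61Feit4.invol_fpf_of_odd hZ hh' hab hodd' hhe hp.1 c)
        · rw [if_neg hp]
          exact Nat.zero_le _
      refine (Finset.sum_le_sum (fun p _ => h1 p)).trans (le_of_eq ?_)
      rw [← Finset.univ_product_univ, Finset.sum_product]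
      have h2 : ∀ x : G, ∑ y : G, (if orderOf x = 2 ∧ y = x then 1 else 0)
          = if orderOf x = 2 then 1 else 0 := by
        intro x
        rw [Finset.sum_eq_single x]
        · simp
        · intro y _ hy
          rw [if_neg]
          rintro ⟨-, h3⟩
          exact hy h3
        · intro h3
          exact absurd (Finset.mem_univ _) h3
      rw [Finset.sum_congr rfl (fun x _ => h2 x), hI, Nat.card_eq_fintype_card, Fintype.card_subtype,
        Finset.card_filter]
    rw [hG] at hgood
    have h5 : e * h * (e * h) ≤ N * ((h + 1) * h * e) + e * h := by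
      calc e * h * (e * h) = I * I := by rw [hIc]
        _ ≤ N * ((h + 1) * h * e) + I := by rw [← hall]; exact Nat.add_le_add hgood hb
        _ = N * ((h + 1) * h * e) + e * h := by rw [hIc]
    by_contra hcon
    rw [not_le] at hcon
    obtain ⟨r, hr⟩ : ∃ r, e = N + 1 + r := ⟨e - N - 1, by omega⟩
    have h6 : (e * h) * (e * h) ≤ (e * h) * (N * (h + 1) + 1) := by
      calc (e * h) * (e * h) ≤ N * ((h + 1) * h * e) + e * h := h5
        _ = (e * h) * (N * (h + 1) + 1) := by ring
    have h8 : 0 < e * h := by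
      have : 0 < e := by omega
      positivity
    have h9 := Nat.le_of_mul_le_mul_left h6 h8
    -- e h ≤ N (h+1) + 1 ≤ (e-1)(h+1) + 1
    have h10 : N * (h + 1) + (1 + r) * (h + 1) = e * h + e := by rw [hr]; ring
    have h11 : (h + 1) ≤ (1 + r) * (h + 1) := Nat.le_mul_of_pos_left _ (by omega)
    omega

end Cfsg.Agent.S0884
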