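import Cfsg.Statements.S4341
import Cfsg.Agent.Lib.Helper76SylowCount

set_option autoImplicit false
open Cfsg

namespace Cfsg.Agent.S4341

open Lib.Helper76SylowCount

theorem normalizer_inf_le {G : Type*} [Group G] (A B : Subgroup G) :
    Subgroup.normalizer (A : Set G) ⊓ Subgroup.normalizer (B : Set G) ≤
      Subgroup.normalizer ((A ⊓ B : Subgroup G) : Set G) := by
  rintro g ⟨hA, hB⟩ x
  exact and_congr (hA x) (hB x)

/-- Let K be a normal subgroup of a finite group G, p a prime and P a Sylow p-subgroup of G; let N be the normalizer of P ∩ K inside the subgroup PK. Then the number of Sylow p-subgroups of G equals the product of the numbers of Sylow p-subgroups of G/K, of K, and of N/(P ∩ K). (The normality of P ∩ K in N, which always holds, is assumed as a hypothesis so that the quotient can be formed.) -/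
theorem result {G : Type*} [Group G] [Finite G]
    (p : ℕ) [Fact p.Prime] (K : Subgroup G) [K.Normal] (P : Sylow p G) (N : Subgroup G)
    (hN : N = ((P : Subgroup G) ⊔ K) ⊓ Subgroup.normalizer (((P : Subgroup G) ⊓ K : Subgroup G) : Set G))
    [hn : (((P : Subgroup G) ⊓ K).subgroupOf N).Normal] :
    Nat.card (Sylow p G) =
      Nat.card (Sylow p (G ⧸ K)) * Nat.card (Sylow p K) * Nat.card (Sylow p (N ⧸ ((P : Subgroup G) ⊓ K).subgroupOf N)) := by
  classical
  set D : Subgroup G := (P : Subgroup G) ⊓ K with hD
  set NP := Subgroup.normalizer ((P : Subgroup G) : Set G) with hNP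
  set ND := Subgroup.normalizer (D : Set G) with hND
  have hKtop : Subgroup.normalizer (K : Set G) = ⊤ := Subgroup.normalizer_eq_top K
  have hNPND : NP ≤ ND := by
    have := normalizer_inf_le (P : Subgroup G) K
    rw [hKtop, inf_top_eq] at this
    exact this
  have hPNP : (P : Subgroup G) ≤ NP := Subgroup.le_normalizer
  have hPN : (P : Subgroup G) ≤ N := by
    rw [hN]; exact le_inf le_sup_left (hPNP.trans hNPND)
  -- (a)
  have ha := card_sylow_eq_mul K P
  -- (b)
  have hb : NP.relIndex K = NP.relIndex (K ⊓ ND) * ND.relIndex K := by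
    have h1 := Subgroup.relIndex_mul_relIndex (NP ⊓ K) (K ⊓ ND) K
      (le_inf inf_le_right (inf_le_left.trans hNPND)) inf_le_left
    rw [Subgroup.inf_relIndex_right, Subgroup.inf_relIndex_left,
      relIndex_inf_of_le NP K (K ⊓ ND) inf_le_left] at h1
    exact h1.symm
  -- (c)
  have hc : Nat.card (Sylow p K) = ND.relIndex K := by
    have hpg : IsPGroup p ((P : Subgroup G).subgroupOf K) :=
      P.2.comap_of_injective K.subtype K.subtype_injective
    have hidx : ¬ p ∣ ((P : Subgroup G).subgroupOf K).index := by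
      intro hdvd
      apply P.not_dvd_index
      have h1 : (P : Subgroup G).relIndex K = (P : Subgroup G).relIndex ((P : Subgroup G) ⊔ K) :=
        (relIndex_sup_self _ K Subgroup.le_normalizer_of_normal).symm
      have h2 : p ∣ (P : Subgroup G).relIndex K := hdvd
      rw [h1] at h2
      exact h2.trans (Subgroup.relIndex_dvd_index_of_le le_sup_left)
    have h3 := card_sylow_subgroup' K (hpg.toSylow hidx)
    rw [h3]
    have h4 : (((hpg.toSylow hidx : Sylow p K) : Subgroup K).map K.subtype : Subgroup G) = D := by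
      rw [IsPGroup.toSylow_coe, Subgroup.subgroupOf_map_subtype]
    rw [h4]
  -- (d)
  have hd : Nat.card (Sylow p (N ⧸ D.subgroupOf N)) = Nat.card (Sylow p N) := by
    apply card_sylow_quotient_eq (D.subgroupOf N) (P.subtype hPN)
    refine le_trans ?_ Subgroup.le_normalizer
    intro x hx
    exact Subgroup.mem_subgroupOf.mpr (Subgroup.mem_subgroupOf.mp hx).1
  -- (e)
  have he := card_sylow_subgroup N P hPN
  -- (f)
  have hK1N : K ⊓ ND ≤ N := by
    rw [hN]; exact le_inf (inf_le_left.trans le_sup_right) inf_le_right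
  have hf : NP.relIndex N = NP.relIndex (K ⊓ ND) := by
    have hnorm : NP ⊓ N ≤ Subgroup.normalizer ((K ⊓ ND : Subgroup G) : Set G) := by
      refine le_trans ?_ (normalizer_inf_le K ND)
      rw [hKtop, top_inf_eq]
      refine le_trans ?_ Subgroup.le_normalizer
      rw [hN]
      exact inf_le_right.trans inf_le_right
    have h1 := relIndex_sup_self (NP ⊓ N) (K ⊓ ND) hnorm
    have h2 : (NP ⊓ N) ⊔ (K ⊓ ND) = N := by
      apply le_antisymm (sup_le inf_le_right hK1N)
      intro n hn'
      have hn2 : n ∈ ((P : Subgroup G) ⊔ K) ⊓ ND := hN ▸ hn'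
      have hn3 : n ∈ (((P : Subgroup G) ⊔ K : Subgroup G) : Set G) := hn2.1
      have hn4 : n ∈ ND := hn2.2
      rw [Subgroup.mul_normal] at hn3
      obtain ⟨a, ha', k, hk, rfl⟩ := hn3
      have ha2 : a ∈ ND := hNPND (hPNP ha')
      have hk2 : k ∈ ND := by
        have := ND.mul_mem (ND.inv_mem ha2) hn4
        simpa using this
      exact Subgroup.mul_mem_sup ⟨hPNP ha', hPN ha'⟩ ⟨hk, hk2⟩
    rw [h2, Subgroup.inf_relIndex_right, relIndex_inf_of_le NP N (K ⊓ ND) hK1N] at h1
    exact h1
  rw [ha, hb, hc, hd, he, hf]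
  ring

end Cfsg.Agent.S4341
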