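import Cfsg.Statements.S4303
import Cfsg.Agent.S4341
import Cfsg.Agent.Lib.Helper63SylowNum

set_option autoImplicit false
universe u
open Cfsg

namespace Cfsg.Agent.S4303

open Subgroup Cfsg.Agent.Lib.Helper63SylowNum

/-- products of admissible factors -/
def Good (p : ℕ) (n : ℕ) : Prop :=
  ∃ l : List ℕ, l.prod = n ∧ ∀ m ∈ l, (IsPrimePow m ∧ m % p = 1) ∨
    ∃ (S : Type u) (_ : Group S) (_ : Finite S), IsSimpleGroup S ∧ m = Nat.card (Sylow p S)

theorem good_one (p : ℕ) : Good.{u} p 1 := ⟨[], rfl, by simp⟩

theorem good_mul {p a b : ℕ} (ha : Good.{u} p a) (hb : Good.{u} p b) : Good.{u} p (a * b) := by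
  obtain ⟨l1, h1, h1'⟩ := ha
  obtain ⟨l2, h2, h2'⟩ := hb
  refine ⟨l1 ++ l2, by rw [List.prod_append, h1, h2], ?_⟩
  intro m hm
  rcases List.mem_append.mp hm with h | h
  · exact h1' m h
  · exact h2' m h

theorem good_of_parts (p n : ℕ) (hn : n ≠ 0)
    (h : ∀ l, l.Prime → l ^ n.factorization l % p = 1) : Good.{u} p n := by
  refine ⟨n.primeFactors.toList.map (fun q => q ^ n.factorization q), ?_, ?_⟩
  · rw [Finset.prod_map_toList]
    exact Nat.factorization_prod_pow_eq_self hn
  · intro m hm
    obtain ⟨q, hq, rfl⟩ := List.mem_map.mp hm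
    rw [Finset.mem_toList] at hq
    have hqp : q.Prime := Nat.prime_of_mem_primeFactors hq
    refine Or.inl ⟨?_, h q hqp⟩
    refine ⟨q, n.factorization q, hqp.prime, ?_, rfl⟩
    exact hqp.factorization_pos_of_dvd hn (Nat.dvd_of_mem_primeFactors hq)

theorem main (p : ℕ) [Fact p.Prime] : ∀ (n : ℕ) (G : Type u) [Group G] [Finite G],
    Nat.card G = n → Good.{u} p (Nat.card (Sylow p G)) := by
  intro n
  induction n using Nat.strong_induction_on with
  | _ n ih =>
  intro G _ _ hG
  obtain ⟨P⟩ : Nonempty (Sylow p G) := inferInstance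
  by_cases hsub : Subsingleton G
  · have h1 : Nat.card (Sylow p G) ∣ 1 := by
      have := (P.card_dvd_index).trans ((P : Subgroup G).index_dvd_card)
      rwa [Nat.card_of_subsingleton (1 : G)] at this
    rw [Nat.dvd_one.mp h1]
    exact good_one p
  haveI hnt : Nontrivial G := not_subsingleton_iff_nontrivial.mp hsub
  by_cases hsimple : IsSimpleGroup G
  · exact ⟨[Nat.card (Sylow p G)], by simp, fun m hm => Or.inr ⟨G, inferInstance, inferInstance,
      hsimple, by simpa using hm⟩⟩
  obtain ⟨K, hKn, hKbot, hKtop⟩ : ∃ K : Subgroup G, K.Normal ∧ K ≠ ⊥ ∧ K ≠ ⊤ := by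
    by_contra hcon
    push Not at hcon
    exact hsimple ⟨fun K hK => by
      by_cases h : K = ⊥
      · exact Or.inl h
      · exact Or.inr (hcon K hK h)⟩
  haveI := hKn
  by_cases hc : (P : Subgroup G) ⊔ K = ⊤ ∧ (P : Subgroup G) ⊓ K = ⊥
  · exact good_of_parts p _ Nat.card_pos.ne' (fun l hl => pow_factorization_mod P K hc.1 hc.2 l hl)
  set X : Subgroup G := (P : Subgroup G) ⊓ K with hX
  set N : Subgroup G := ((P : Subgroup G) ⊔ K) ⊓ normalizer (X : Set G) with hN
  haveI hnorm : (X.subgroupOf N).Normal :=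
    Subgroup.normal_subgroupOf_of_le_normalizer inf_le_right
  have hformula := Cfsg.Agent.S4341.result p K P N hN
  rw [hformula]
  have hKcard : 1 < Nat.card K := by
    rw [Finite.one_lt_card_iff_nontrivial]
    exact (Subgroup.nontrivial_iff_ne_bot K).mpr hKbot
  have hGpos : 0 < Nat.card G := Nat.card_pos
  have h1 : Nat.card (G ⧸ K) < n := by
    have := K.card_mul_index
    rw [hG] at this
    have h2 : Nat.card (G ⧸ K) = K.index := rfl
    rw [h2]
    have h3 : 0 < K.index := Nat.pos_of_ne_zero Subgroup.index_ne_zero_of_finite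
    nlinarith
  have h2 : Nat.card K < n := by
    rw [← hG]
    by_contra hcon
    push Not at hcon
    exact hKtop (Subgroup.eq_top_of_le_card K hcon)
  have h3 : Nat.card (N ⧸ X.subgroupOf N) < n := by
    have h4 : Nat.card (N ⧸ X.subgroupOf N) = X.relIndex N := rfl
    rw [h4]
    have hXN : X ≤ N := le_inf (inf_le_left.trans le_sup_left) Subgroup.le_normalizer
    have h5 := card_mul_relIndex' X N hXN
    have h6 : Nat.card N ≤ n := by rw [← hG]; exact Subgroup.card_le_card_group N
    have h7 : 0 < X.relIndex N := by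
      rcases Nat.eq_zero_or_pos (X.relIndex N) with h | h
      · rw [h, mul_zero] at h5
        exact absurd h5 (Nat.card_pos (α := N)).ne
      · exact h
    by_cases hXbot : X = ⊥
    · have hsup : (P : Subgroup G) ⊔ K ≠ ⊤ := fun h => hc ⟨h, hXbot⟩
      have h8 : Nat.card N < n := by
        rw [← hG]
        by_contra hcon
        push Not at hcon
        have := Subgroup.eq_top_of_le_card N hcon
        apply hsup
        apply top_le_iff.mp
        rw [← this]
        exact inf_le_left
      have h9 : 0 < Nat.card X := Nat.card_pos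
      nlinarith
    · have h8 : 1 < Nat.card X := by
        rw [Finite.one_lt_card_iff_nontrivial]
        exact (Subgroup.nontrivial_iff_ne_bot X).mpr hXbot
      nlinarith
  exact good_mul (good_mul (ih _ h1 (G ⧸ K) rfl) (ih _ h2 K rfl)) (ih _ h3 _ rfl)

/-- For a finite group `G` and a prime `p`, the number of Sylow `p`-subgroups of `G` is a product of natural numbers each of which is either a prime power congruent to 1 modulo `p` or the number of Sylow `p`-subgroups of some finite simple group. -/
theorem result {G : Type u} [Group G] [Finite G]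
    (p : ℕ) [Fact p.Prime] :
    ∃ l : List ℕ, l.prod = Nat.card (Sylow p G) ∧
      ∀ m ∈ l, (IsPrimePow m ∧ m % p = 1) ∨
        ∃ (S : Type u) (_ : Group S) (_ : Finite S), IsSimpleGroup S ∧ m = Nat.card (Sylow p S) := by
  exact main p _ G rfl

end Cfsg.Agent.S4303
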