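import Cfsg.Statements.S0781
import Cfsg.Agent.Lib.Helper17Heis

set_option autoImplicit false
open Cfsg

namespace Cfsg.Agent.S0781

open Matrix Cfsg.Agent.Lib.Helper7Herm Cfsg.Agent.Lib.Helper7GU Cfsg.Agent.Lib.Helper17HermC
  Cfsg.Agent.Lib.Helper95Herm Cfsg.Agent.Lib.Helper17Heis

variable {F : Type*} [Field F] [Fintype F] {q : ℕ}

/-- A Heisenberg-type element of `SU`. -/
def ESU (hF : Fintype.card F = q ^ 2) (n : ℕ) (v u : Fin n → F) (a : F)
    (hv : Cfsg.hermForm n F q v v = 0) (hu : Cfsg.hermForm n F q u v = 0)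
    (ha : a + sig hF a + Cfsg.hermForm n F q u u = 0) : ↥(Cfsg.SU n F q) :=
  ⟨⟨Emat n q v u a, Emat_det n v u a hv hu (h_eq_zero_symm hF _ _ hu)⟩, by
    intro x y
    change Cfsg.hermForm n F q (Emat n q v u a *ᵥ x) (Emat n q v u a *ᵥ y) = _
    rw [Emat_mulVec, Emat_mulVec]
    exact E_isom (herm_concrete hF n) v u a hv hu ha x y⟩

theorem coe_ESU (hF : Fintype.card F = q ^ 2) (n : ℕ) (v u : Fin n → F) (a : F)
    (hv : Cfsg.hermForm n F q v v = 0) (hu : Cfsg.hermForm n F q u v = 0)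
    (ha : a + sig hF a + Cfsg.hermForm n F q u u = 0) :
    ((ESU hF n v u a hv hu ha : Matrix.SpecialLinearGroup (Fin n) F) : Matrix (Fin n) (Fin n) F)
      = Emat n q v u a := rfl

/-- In SU_n(q) with n ≥ 4, or n = 3 and q > 2, every element whose matrix is a unitary transvection x ↦ x + c h(x, v) v (v isotropic) is a commutator ⁅B, C⁆ of two elements of SU_n(q). -/
theorem result {F : Type*} [Field F] [Fintype F] {q : ℕ} (hF : Fintype.card F = q ^ 2) (n : ℕ) (hn : 4 ≤ n ∨ (n = 3 ∧ 3 ≤ q)) (A : ↥(Cfsg.SU n F q)) (v : Fin n → F) (c : F) (hv0 : Cfsg.hermForm n F q v v = 0) (hA : ((A : Matrix.SpecialLinearGroup (Fin n) F) : Matrix (Fin n) (Fin n) F) = Cfsg.unitaryTransvection n q v c) : A ∈ commutatorSet ↥(Cfsg.SU n F q) := by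
  have hn3 : 3 ≤ n := by omega
  have hH := herm_concrete hF n
  by_cases hv : v = 0
  · refine ⟨1, 1, ?_⟩
    rw [commutatorElement_self]
    apply Subtype.ext
    apply Subtype.ext
    rw [hA, hv]
    simp [Cfsg.unitaryTransvection]
  -- the trace condition
  have hc : c + sig hF c = 0 := by
    obtain ⟨x, hx⟩ := hH.nondeg v hv
    have h1 := A.2 x x
    change Cfsg.hermForm n F q
      (((A : Matrix.SpecialLinearGroup (Fin n) F) : Matrix (Fin n) (Fin n) F) *ᵥ x)
      (((A : Matrix.SpecialLinearGroup (Fin n) F) : Matrix (Fin n) (Fin n) F) *ᵥ x) = _ at h1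
    rw [hA, unitaryTransvection_mulVec, hH.add_left, hH.add_right, hH.add_right, hH.smul_left,
      hH.smul_left, hH.smul_right, hH.smul_right, hv0, map_mul, ← hH.herm v x] at h1
    have h2 : (c + sig hF c) * (Cfsg.hermForm n F q x v * Cfsg.hermForm n F q v x) = 0 := by
      linear_combination h1
    rcases mul_eq_zero.1 h2 with h3 | h3
    · exact h3
    · exfalso
      rcases mul_eq_zero.1 h3 with h4 | h4
      · exact hx h4
      · exact hx (hH.swap_zero h4)
  obtain ⟨u, hu1, hu2⟩ := hH.exists_perp {v} (by simp; omega) 1 (map_one _)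
  have huv : Cfsg.hermForm n F q u v = 0 := hu1 v (by simp)
  obtain ⟨β, hβ⟩ := exists_beta hH c hc
  obtain ⟨a₁, ha₁⟩ := hH.trace_surj (-1) (by simp)
  obtain ⟨a₂, ha₂⟩ := hH.trace_surj (-(β * sig hF β)) (by
    rw [map_neg, map_mul, sig_sig, mul_comm])
  have hβuv : Cfsg.hermForm n F q (β • u) v = 0 := by rw [hH.smul_left, huv, mul_zero]
  set B := ESU hF n v u a₁ hv0 huv (by rw [ha₁, hu2]; ring) with hB
  set C := ESU hF n v (β • u) a₂ hv0 hβuv (by
    rw [ha₂, hH.smul_left, hH.smul_right, hu2]; ring) with hC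
  have key : B * C = A * C * B := by
    apply Subtype.ext
    apply Subtype.ext
    apply Matrix.mulVec_injective
    funext x
    change (Emat n q v u a₁ * Emat n q v (β • u) a₂) *ᵥ x
      = (((A : Matrix.SpecialLinearGroup (Fin n) F) : Matrix (Fin n) (Fin n) F) *
        Emat n q v (β • u) a₂ * Emat n q v u a₁) *ᵥ x
    rw [hA, ← mulVec_mulVec, ← mulVec_mulVec, ← mulVec_mulVec, Emat_mulVec, Emat_mulVec, Emat_mulVec,
      Emat_mulVec, unitaryTransvection_mulVec, E_comp hH v u (β • u) a₁ a₂ hv0 huv hβuv,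
      E_comp hH v (β • u) u a₂ a₁ hv0 hβuv huv, T_E hH _ _ _ _ hv0 (by
        rw [hH.add_left, huv, hβuv, add_zero]), hH.smul_left, hH.smul_right, hu2, add_comm u]
    congr 1
    linear_combination hβ
  refine ⟨B, C, ?_⟩
  rw [commutatorElement_def, key]
  group

end Cfsg.Agent.S0781
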