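import Cfsg.Statements.S0749
import Mathlib

set_option autoImplicit false
open Cfsg

namespace Cfsg.Agent.S0749

variable {F V : Type*} [Field F] [AddCommGroup V] [Module F V] [FiniteDimensional F V]
  {B : LinearMap.BilinForm F V}

theorem exists_repr (hB : B.Nondegenerate) (μ : V →ₗ[F] F) : ∃ t : V, ∀ v, B t v = μ v :=
  ⟨(B.toDual hB).symm μ, fun v => LinearMap.BilinForm.apply_toDual_symm_apply μ v⟩

theorem exists_perp (hB : B.Nondegenerate) (X : Submodule F V) (hX : X ≠ ⊤) :
    ∃ s : V, s ≠ 0 ∧ ∀ x ∈ X, B s x = 0 := by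
  obtain ⟨μ, hμ, hle⟩ := Submodule.exists_le_ker_of_lt_top X (lt_top_iff_ne_top.2 hX)
  obtain ⟨s, hs⟩ := exists_repr hB μ
  refine ⟨s, ?_, fun x hx => ?_⟩
  · rintro rfl
    apply hμ
    ext v
    rw [← hs v]; simp
  · rw [hs]; exact hle hx

theorem witt_top (X : Submodule F V) (hX : X = ⊤) (f : V →ₗ[F] V)
    (hf : ∀ x ∈ X, ∀ x' ∈ X, B (f x) (f x') = B x x') (hinj : ∀ x ∈ X, f x = 0 → x = 0) :
    ∃ g : V ≃ₗ[F] V, (∀ u v, B (g u) (g v) = B u v) ∧ ∀ x ∈ X, g x = f x := by
  subst hX
  have hker : Function.Injective f := by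
    rw [← LinearMap.ker_eq_bot, LinearMap.ker_eq_bot']
    intro x hx
    exact hinj x trivial hx
  refine ⟨LinearEquiv.ofInjectiveEndo f hker, fun u v => ?_, fun x _ => ?_⟩
  · simpa using hf u trivial v trivial
  · simp

theorem witt_aux (hB : B.Nondegenerate) (hA : B.IsAlt) :
    ∀ (d : ℕ) (X : Submodule F V) (f : V →ₗ[F] V), Module.finrank F V ≤ Module.finrank F X + d →
      (∀ x ∈ X, ∀ x' ∈ X, B (f x) (f x') = B x x') → (∀ x ∈ X, f x = 0 → x = 0) →
      ∃ g : V ≃ₗ[F] V, (∀ u v, B (g u) (g v) = B u v) ∧ ∀ x ∈ X, g x = f x := by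
  intro d
  induction d with
  | zero =>
    intro X f hd hf hinj
    have hXtop : X = ⊤ := Submodule.eq_top_of_finrank_eq
      (le_antisymm (Submodule.finrank_le X) (by omega))
    exact witt_top X hXtop f hf hinj
  | succ d ih =>
    intro X f hd hf hinj
    by_cases hXtop : X = ⊤
    · exact witt_top X hXtop f hf hinj
    have skew : ∀ x y, B x y = - B y x := fun x y => by rw [hA.neg_eq]
    have step : ∀ s t : V, s ∉ X → (∀ x ∈ X, B t (f x) = B s x) →
        (∀ x ∈ X, ∀ a : F, f x + a • t = 0 → a = 0) →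
        ∃ g : V ≃ₗ[F] V, (∀ u v, B (g u) (g v) = B u v) ∧ ∀ x ∈ X, g x = f x := by
      intro s t hsX htf hta
      have hft : ∀ x ∈ X, B (f x) t = B x s := by
        intro x hx
        rw [skew, htf x hx, ← skew]
      obtain ⟨l₀, hl₀s, hl₀X⟩ := Submodule.exists_le_ker_of_notMem hsX
      set l : V →ₗ[F] F := (l₀ s)⁻¹ • l₀ with hl
      have hls : l s = 1 := by simp [hl, hl₀s]
      have hlX : ∀ x ∈ X, l x = 0 := by
        intro x hx
        have : l₀ x = 0 := hl₀X hx
        simp [hl, this]
      set f' : V →ₗ[F] V := f + l.smulRight (t - f s) with hf'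
      have hf'X : ∀ x ∈ X, f' x = f x := by
        intro x hx
        simp [hf', hlX x hx]
      have hf's : f' s = t := by
        simp [hf', hls]
      have hlt : X < X ⊔ Submodule.span F {s} := by
        apply lt_of_le_of_ne le_sup_left
        intro heq
        apply hsX
        rw [heq]
        exact Submodule.mem_sup_right (Submodule.mem_span_singleton_self s)
      have hfin := Submodule.finrank_lt_finrank_of_lt hlt
      have hdecomp : ∀ y ∈ X ⊔ Submodule.span F {s}, ∃ x ∈ X, ∃ a : F, y = x + a • s := by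
        intro y hy
        obtain ⟨x, hx, z, hz, rfl⟩ := Submodule.mem_sup.mp hy
        obtain ⟨a, rfl⟩ := Submodule.mem_span_singleton.mp hz
        exact ⟨x, hx, a, rfl⟩
      have key1 : ∀ y ∈ X ⊔ Submodule.span F {s}, ∀ y' ∈ X ⊔ Submodule.span F {s},
          B (f' y) (f' y') = B y y' := by
        intro y hy y' hy'
        obtain ⟨x, hx, a, rfl⟩ := hdecomp y hy
        obtain ⟨x', hx', a', rfl⟩ := hdecomp y' hy'
        simp only [map_add, map_smul, hf'X x hx, hf'X x' hx', hf's, LinearMap.add_apply,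
          LinearMap.smul_apply, hf x hx x' hx', htf x' hx', hft x hx, hA t, hA s]
      have key2 : ∀ y ∈ X ⊔ Submodule.span F {s}, f' y = 0 → y = 0 := by
        intro y hy hy0
        obtain ⟨x, hx, a, rfl⟩ := hdecomp y hy
        rw [map_add, map_smul, hf'X x hx, hf's] at hy0
        have ha := hta x hx a hy0
        rw [ha, zero_smul, add_zero] at hy0 ⊢
        exact hinj x hx hy0
      obtain ⟨g, hg, hgX⟩ := ih (X ⊔ Submodule.span F {s}) f' (by omega) key1 key2
      refine ⟨g, hg, fun x hx => ?_⟩
      rw [hgX x (Submodule.mem_sup_left hx), hf'X x hx]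
    by_cases hX : ∀ r ∈ X, (∀ x ∈ X, B r x = 0) → r = 0
    · obtain ⟨s, hs0, hs⟩ := exists_perp hB X hXtop
      have hYtop : X.map f ≠ ⊤ := by
        intro h
        have h1 := Submodule.finrank_map_le f X
        rw [h, finrank_top] at h1
        exact hXtop (Submodule.eq_top_of_finrank_eq (le_antisymm (Submodule.finrank_le X) h1))
      obtain ⟨t, ht0, ht⟩ := exists_perp hB (X.map f) hYtop
      have ht' : ∀ x ∈ X, B t (f x) = 0 := fun x hx => ht _ (Submodule.mem_map_of_mem hx)
      apply step s t
      · intro hsX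
        exact hs0 (hX s hsX hs)
      · intro x hx
        rw [ht' x hx, hs x hx]
      · intro x hx a h0
        have hx0 : x = 0 := by
          apply hX x hx
          intro x' hx'
          rw [← hf x hx x' hx', eq_neg_of_add_eq_zero_left h0]
          simp [ht' x' hx']
        rw [hx0, map_zero, zero_add] at h0
        exact (smul_eq_zero.1 h0).resolve_right ht0
    · push Not at hX
      obtain ⟨r, hrX, hr, hr0⟩ := hX
      obtain ⟨s, hs⟩ : ∃ s, B s r ≠ 0 := by
        by_contra hcon
        push Not at hcon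
        exact hr0 (hB.2 r hcon)
      have hsX : s ∉ X := by
        intro hsX
        apply hs
        rw [skew, hr s hsX, neg_zero]
      have hker : LinearMap.ker (f.domRestrict X) = ⊥ := by
        rw [LinearMap.ker_eq_bot']
        intro x hx
        apply Subtype.ext
        exact hinj x x.2 hx
      obtain ⟨h, hh⟩ := LinearMap.exists_leftInverse_of_injective (f.domRestrict X) hker
      have hh' : ∀ x (hx : x ∈ X), (h (f x) : V) = x := by
        intro x hx
        have := LinearMap.congr_fun hh ⟨x, hx⟩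
        simpa using congrArg Subtype.val this
      obtain ⟨t, ht⟩ := exists_repr hB ((B s).comp (X.subtype.comp h))
      have ht' : ∀ x ∈ X, B t (f x) = B s x := by
        intro x hx
        rw [ht]
        simp [hh' x hx]
      apply step s t hsX ht'
      intro x hx a h0
      have e1 : B (f x + a • t) (f r) = 0 := by rw [h0]; simp
      rw [map_add, LinearMap.add_apply, map_smul, LinearMap.smul_apply, hf x hx r hrX,
        ht' r hrX, skew x r, hr x hx, neg_zero, zero_add, smul_eq_mul] at e1
      exact (mul_eq_zero.1 e1).resolve_right hs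

/-- Witt's Lemma for alternating forms. If B is a non-degenerate alternating bilinear form on a finite-dimensional vector space V (over any field) and φ is a linear equivalence between subspaces X and Y of V preserving B, then φ extends to a B-preserving linear automorphism of V. -/
theorem result {F V : Type*} [Field F] [AddCommGroup V] [Module F V] [FiniteDimensional F V] (B : LinearMap.BilinForm F V) (hB : B.Nondegenerate) (hA : B.IsAlt) (X Y : Submodule F V) (φ : X ≃ₗ[F] Y) (hφ : ∀ x x' : X, B (φ x : V) (φ x' : V) = B (x : V) (x' : V)) : ∃ g : V ≃ₗ[F] V, (∀ u v : V, B (g u) (g v) = B u v) ∧ ∀ x : X, g (x : V) = (φ x : V) := by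
  obtain ⟨f, hf⟩ := LinearMap.exists_extend (Y.subtype.comp φ.toLinearMap)
  have hf' : ∀ x : X, f x = φ x := by
    intro x
    have := LinearMap.congr_fun hf x
    simpa using this
  have key1 : ∀ x ∈ X, ∀ x' ∈ X, B (f x) (f x') = B x x' := by
    intro x hx x' hx'
    have h1 := hf' ⟨x, hx⟩
    have h2 := hf' ⟨x', hx'⟩
    simp only at h1 h2
    rw [h1, h2]
    exact hφ ⟨x, hx⟩ ⟨x', hx'⟩
  have key2 : ∀ x ∈ X, f x = 0 → x = 0 := by
    intro x hx h0
    have h1 := hf' ⟨x, hx⟩
    simp only at h1
    rw [h0] at h1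
    have h2 : φ ⟨x, hx⟩ = 0 := Subtype.ext h1.symm
    have h3 := φ.map_eq_zero_iff.mp h2
    exact congrArg Subtype.val h3
  obtain ⟨g, hg, hgX⟩ := witt_aux hB hA (Module.finrank F V) X f (by omega) key1 key2
  exact ⟨g, hg, fun x => by rw [hgX x x.2, hf']⟩

end Cfsg.Agent.S0749
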