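import Cfsg.Statements.S0751
import Cfsg.Agent.Lib.Helper17Herm

set_option autoImplicit false
open Cfsg Cfsg.Agent.Lib.Helper17Herm

namespace Cfsg.Agent.S0751

section aux

variable {F V : Type*} [Field F] [Finite F] [AddCommGroup V] [Module F V] [FiniteDimensional F V]
  {σ : F →+* F} {B : V →ₛₗ[σ] V →ₗ[F] F}

theorem isometry_of_basis {k : ℕ} (b : Module.Basis (Fin k) F V) (g : V ≃ₗ[F] V)
    (h : ∀ i j, B (g (b i)) (g (b j)) = B (b i) (b j)) : ∀ u v, B (g u) (g v) = B u v := by
  have h1 : ∀ i v, B (g (b i)) (g v) = B (b i) v := by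
    intro i v
    have : (B (g (b i))).comp g.toLinearMap = B (b i) := by
      apply b.ext
      intro j
      simpa using h i j
    exact LinearMap.congr_fun this v
  intro u v
  have : (B.flip (g v)).comp g.toLinearMap = B.flip v := by
    apply b.ext
    intro i
    simpa using h1 i v
  exact LinearMap.congr_fun this u

theorem exists_isometry_of_ON (hσ : σ ≠ RingHom.id F) (hσ2 : ∀ a : F, σ (σ a) = a)
    (hS : B.IsSymm) (hB : B.Nondegenerate) :
    ∀ (d k : ℕ) (e e₂ : Fin k → V), ON B e → ON B e₂ → k + d = Module.finrank F V →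
      ∃ g : V ≃ₗ[F] V, (∀ u v, B (g u) (g v) = B u v) ∧ ∀ i, g (e i) = e₂ i := by
  intro d
  induction d with
  | zero =>
    intro k e e₂ h h₂ hk
    have hk' : k = Module.finrank F V := by omega
    let g : V ≃ₗ[F] V := (h.basis hk').equiv (h₂.basis hk') (Equiv.refl _)
    have hg : ∀ i, g (e i) = e₂ i := by
      intro i
      have := (h.basis hk').equiv_apply i (h₂.basis hk') (Equiv.refl _)
      rw [h.basis_apply, Equiv.refl_apply, h₂.basis_apply] at this
      exact this
    refine ⟨g, isometry_of_basis (h.basis hk') g ?_, hg⟩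
    intro i j
    rw [h.basis_apply, h.basis_apply, hg, hg, h i j, h₂ i j]
  | succ d ih =>
    intro k e e₂ h h₂ hk
    obtain ⟨v, hv⟩ := h.extend hσ hσ2 hS hB (by omega)
    obtain ⟨v₂, hv₂⟩ := h₂.extend hσ hσ2 hS hB (by omega)
    obtain ⟨g, hg, hge⟩ := ih (k + 1) _ _ hv hv₂ (by omega)
    refine ⟨g, hg, fun i => ?_⟩
    have := hge i.succ
    simpa using this

theorem exists_repr (hσ : σ ≠ RingHom.id F) (hσ2 : ∀ a : F, σ (σ a) = a)
    (hS : B.IsSymm) (hB : B.Nondegenerate) (μ : V →ₗ[F] F) : ∃ t : V, ∀ v, B t v = μ v := by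
  obtain ⟨e, he⟩ := exists_ON hσ hσ2 hS hB (Module.finrank F V) le_rfl
  refine ⟨∑ i, σ (μ (e i)) • e i, ?_⟩
  have : B (∑ i, σ (μ (e i)) • e i) = μ := by
    apply (he.basis rfl).ext
    intro j
    rw [he.basis_apply]
    simp [map_sum, LinearMap.sum_apply, hσ2, he _ j]
  intro v
  rw [this]

theorem witt_nondeg (hσ : σ ≠ RingHom.id F) (hσ2 : ∀ a : F, σ (σ a) = a)
    (hS : B.IsSymm) (hB : B.Nondegenerate) (X : Submodule F V) (f : V →ₗ[F] V)
    (hf : ∀ x ∈ X, ∀ x' ∈ X, B (f x) (f x') = B x x')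
    (hX : ∀ r ∈ X, (∀ x ∈ X, B r x = 0) → r = 0) :
    ∃ g : V ≃ₗ[F] V, (∀ u v, B (g u) (g v) = B u v) ∧ ∀ x ∈ X, g x = f x := by
  let BX : X →ₛₗ[σ] X →ₗ[F] F := B.domRestrict₁₂ X X
  have hBX : ∀ x y : X, BX x y = B x y := fun x y => rfl
  have hSX : BX.IsSymm := ⟨fun x y => hS.eq x y⟩
  have hsl : BX.SeparatingLeft := by
    intro x hx
    apply Subtype.ext
    exact hX x x.2 (fun y hy => hx ⟨y, hy⟩)
  have hsr : BX.SeparatingRight := by
    intro y hy
    apply hsl
    intro x
    rw [← hSX.eq, hy, map_zero]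
  obtain ⟨a, ha⟩ := exists_ON hσ hσ2 hSX ⟨hsl, hsr⟩ (Module.finrank F X) le_rfl
  have he : ON B (fun i => (a i : V)) := fun i j => ha i j
  have he₂ : ON B (fun i => f (a i : V)) := fun i j => by
    rw [hf _ (a i).2 _ (a j).2]; exact ha i j
  have hle := Submodule.finrank_le X
  obtain ⟨g, hg, hge⟩ := exists_isometry_of_ON hσ hσ2 hS hB
    (Module.finrank F V - Module.finrank F X) _ _ _ he he₂ (by omega)
  refine ⟨g, hg, ?_⟩
  intro x hx
  have h1 := congrArg Subtype.val ((ha.basis rfl).sum_repr ⟨x, hx⟩)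
  simp only [Submodule.coe_sum, Submodule.coe_smul, ha.basis_apply] at h1
  rw [← h1, map_sum, map_sum]
  apply Finset.sum_congr rfl
  intro i _
  rw [map_smul, map_smul, hge]

theorem witt_aux (hσ : σ ≠ RingHom.id F) (hσ2 : ∀ a : F, σ (σ a) = a)
    (hS : B.IsSymm) (hB : B.Nondegenerate) :
    ∀ (d : ℕ) (X : Submodule F V) (f : V →ₗ[F] V), Module.finrank F V ≤ Module.finrank F X + d →
      (∀ x ∈ X, ∀ x' ∈ X, B (f x) (f x') = B x x') → (∀ x ∈ X, f x = 0 → x = 0) →
      ∃ g : V ≃ₗ[F] V, (∀ u v, B (g u) (g v) = B u v) ∧ ∀ x ∈ X, g x = f x := by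
  intro d
  induction d with
  | zero =>
    intro X f hd hf _
    have hXtop : X = ⊤ := Submodule.eq_top_of_finrank_eq
      (le_antisymm (Submodule.finrank_le X) (by omega))
    apply witt_nondeg hσ hσ2 hS hB X f hf
    intro r _ hr
    apply hB.1 r
    intro x
    exact hr x (by rw [hXtop]; trivial)
  | succ d ih =>
    intro X f hd hf hinj
    by_cases hX : ∀ r ∈ X, (∀ x ∈ X, B r x = 0) → r = 0
    · exact witt_nondeg hσ hσ2 hS hB X f hf hX
    push Not at hX
    obtain ⟨r, hrX, hr, hr0⟩ := hX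
    obtain ⟨s, hs⟩ : ∃ s, B s r ≠ 0 := by
      by_contra hcon
      push Not at hcon
      exact hr0 (hB.2 r hcon)
    have hsX : s ∉ X := by
      intro hsX
      apply hs
      rw [← hS.eq, hr s hsX, map_zero]
    -- the functional
    have hker : LinearMap.ker (f.domRestrict X) = ⊥ := by
      rw [LinearMap.ker_eq_bot']
      intro x hx
      apply Subtype.ext
      exact hinj x x.2 hx
    obtain ⟨h, hh⟩ := LinearMap.exists_leftInverse_of_injective (f.domRestrict X) hker
    have hh' : ∀ x (hx : x ∈ X), (h (f x) : V) = x := by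
      intro x hx
      have := LinearMap.congr_fun hh ⟨x, hx⟩
      simpa using congrArg Subtype.val this
    obtain ⟨t₀, ht₀⟩ := exists_repr hσ hσ2 hS hB ((B s).comp (X.subtype.comp h))
    have ht₀' : ∀ x ∈ X, B t₀ (f x) = B s x := by
      intro x hx
      rw [ht₀]
      simp [hh' x hx]
    have hfix : σ (B s s - B t₀ t₀) = B s s - B t₀ t₀ := by
      rw [map_sub, hS.eq, hS.eq]
    obtain ⟨c', hc'⟩ := trace_surj σ hσ hσ2 _ hfix
    set β := B s r with hβ
    set c := c' / β with hc
    have hcβ : c * β = c' := by rw [hc]; field_simp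
    set t := t₀ + c • f r with ht
    have hfr : ∀ x ∈ X, B (f r) (f x) = 0 := fun x hx => by rw [hf r hrX x hx, hr x hx]
    have htf : ∀ x ∈ X, B t (f x) = B s x := by
      intro x hx
      rw [ht, map_add, LinearMap.add_apply, ht₀' x hx, map_smulₛₗ, LinearMap.smul_apply, hfr x hx]
      simp
    have hft : ∀ x ∈ X, B (f x) t = B x s := by
      intro x hx
      rw [← hS.eq, htf x hx, hS.eq]
    have htt : B t t = B s s := by
      have e1 : B t₀ (f r) = β := ht₀' r hrX
      have e2 : B (f r) t₀ = σ β := by rw [← hS.eq, e1]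
      have e3 : B (f r) (f r) = 0 := hfr r hrX
      rw [ht]
      simp only [map_add, LinearMap.add_apply, map_smulₛₗ, LinearMap.smul_apply, map_smul,
        smul_eq_mul, e1, e2, e3, RingHom.id_apply]
      have e4 : σ c * σ β = σ c' := by rw [← map_mul, hcβ]
      linear_combination hc' + hcβ + e4
    obtain ⟨l₀, hl₀s, hl₀X⟩ := Submodule.exists_le_ker_of_notMem hsX
    set l : V →ₗ[F] F := (l₀ s)⁻¹ • l₀ with hl
    have hls : l s = 1 := by simp [hl, hl₀s]
    have hlX : ∀ x ∈ X, l x = 0 := by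
      intro x hx
      have : l₀ x = 0 := hl₀X hx
      simp [hl, this]
    set f' : V →ₗ[F] V := f + l.smulRight (t - f s) with hf'
    have hf'X : ∀ x ∈ X, f' x = f x := by
      intro x hx
      simp [hf', hlX x hx]
    have hf's : f' s = t := by
      simp [hf', hls]
    have hlt : X < X ⊔ Submodule.span F {s} := by
      apply lt_of_le_of_ne le_sup_left
      intro heq
      apply hsX
      rw [heq]
      exact Submodule.mem_sup_right (Submodule.mem_span_singleton_self s)
    have hfin := Submodule.finrank_lt_finrank_of_lt hlt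
    have hdecomp : ∀ y ∈ X ⊔ Submodule.span F {s}, ∃ x ∈ X, ∃ a : F, y = x + a • s := by
      intro y hy
      obtain ⟨x, hx, z, hz, rfl⟩ := Submodule.mem_sup.mp hy
      obtain ⟨a, rfl⟩ := Submodule.mem_span_singleton.mp hz
      exact ⟨x, hx, a, rfl⟩
    have key1 : ∀ y ∈ X ⊔ Submodule.span F {s}, ∀ y' ∈ X ⊔ Submodule.span F {s},
        B (f' y) (f' y') = B y y' := by
      intro y hy y' hy'
      obtain ⟨x, hx, a, rfl⟩ := hdecomp y hy
      obtain ⟨x', hx', a', rfl⟩ := hdecomp y' hy'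
      simp only [map_add, map_smul, hf'X x hx, hf'X x' hx', hf's, LinearMap.add_apply, map_smulₛₗ,
        LinearMap.smul_apply, hf x hx x' hx', htf x' hx', hft x hx, htt]
    have key2 : ∀ y ∈ X ⊔ Submodule.span F {s}, f' y = 0 → y = 0 := by
      intro y hy hy0
      obtain ⟨x, hx, a, rfl⟩ := hdecomp y hy
      rw [map_add, map_smul, hf'X x hx, hf's] at hy0
      have e1 : B (f x + a • t) (f r) = 0 := by rw [hy0]; simp
      rw [map_add, LinearMap.add_apply, map_smulₛₗ, LinearMap.smul_apply, hf x hx r hrX,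
        htf r hrX, ← hS.eq r x, hr x hx, map_zero, zero_add, smul_eq_mul] at e1
      have ha : a = 0 := by
        rcases mul_eq_zero.mp e1 with h1 | h1
        · rw [← hσ2 a, h1, map_zero]
        · exact absurd h1 hs
      rw [ha, zero_smul, add_zero] at hy0 ⊢
      exact hinj x hx hy0
    obtain ⟨g, hg, hgX⟩ := ih (X ⊔ Submodule.span F {s}) f' (by omega) key1 key2
    refine ⟨g, hg, fun x hx => ?_⟩
    rw [hgX x (Submodule.mem_sup_left hx), hf'X x hx]

end aux

/-- Witt's Lemma for Hermitian forms. Let σ be a non-identity involutive automorphism of a finite field F and B a non-degenerate σ-sesquilinear form on a finite-dimensional F-space V which is conjugate-symmetric (σ (B x y) = B y x). Then every linear equivalence between subspaces X, Y of V preserving B extends to a B-preserving linear automorphism of V. -/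
theorem result {F V : Type*} [Field F] [Finite F] [AddCommGroup V] [Module F V] [FiniteDimensional F V] (σ : F →+* F) (hσ : σ ≠ RingHom.id F) (hσ2 : ∀ a : F, σ (σ a) = a) (B : V →ₛₗ[σ] V →ₗ[F] F) (hS : B.IsSymm) (hB : B.Nondegenerate) (X Y : Submodule F V) (φ : X ≃ₗ[F] Y) (hφ : ∀ x x' : X, B (φ x : V) (φ x' : V) = B (x : V) (x' : V)) : ∃ g : V ≃ₗ[F] V, (∀ u v : V, B (g u) (g v) = B u v) ∧ ∀ x : X, g (x : V) = (φ x : V) := by
  obtain ⟨f, hf⟩ := LinearMap.exists_extend (Y.subtype.comp φ.toLinearMap)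
  have hf' : ∀ x : X, f x = φ x := by
    intro x
    have := LinearMap.congr_fun hf x
    simpa using this
  have key1 : ∀ x ∈ X, ∀ x' ∈ X, B (f x) (f x') = B x x' := by
    intro x hx x' hx'
    have h1 := hf' ⟨x, hx⟩
    have h2 := hf' ⟨x', hx'⟩
    simp only at h1 h2
    rw [h1, h2]
    exact hφ ⟨x, hx⟩ ⟨x', hx'⟩
  have key2 : ∀ x ∈ X, f x = 0 → x = 0 := by
    intro x hx h0
    have h1 := hf' ⟨x, hx⟩
    simp only at h1
    rw [h0] at h1
    have h2 : φ ⟨x, hx⟩ = 0 := Subtype.ext h1.symm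
    have h3 := φ.map_eq_zero_iff.mp h2
    exact congrArg Subtype.val h3
  obtain ⟨g, hg, hgX⟩ := witt_aux hσ hσ2 hS hB (Module.finrank F V) X f (by omega) key1 key2
  exact ⟨g, hg, fun x => by rw [hgX x x.2, hf']⟩

end Cfsg.Agent.S0751
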