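import Cfsg.Statements.S0886
import Cfsg.Agent.Lib.Helper19Ext2

set_option autoImplicit false
open Cfsg

namespace Cfsg.Agent.S0886

/-- Let N be a normal subgroup of the finite group G with G / N cyclic, and ϑ an irreducible character of N invariant under conjugation by G. Then ϑ is the restriction of some irreducible character of G. -/
theorem result {G : Type*} [Group G] [Finite G] (N : Subgroup G) [hN : N.Normal] (hcyc : IsCyclic (G ⧸ N)) (ϑ : N → ℂ) (hϑ : Cfsg.IsIrrCharacter N ϑ) (hinv : ∀ (g : G) (n : N), ϑ ⟨g * n * g⁻¹, hN.conj_mem (n : G) n.2 g⟩ = ϑ n) : ∃ χ : G → ℂ, Cfsg.IsIrrCharacter G χ ∧ ∀ n : N, χ n = ϑ n := by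
  classical
  obtain ⟨d, ρ, hρ, rfl⟩ := hϑ
  have hc : ∀ (g : G) (n : N), N.subtype (MulAut.conjNormal g n) = g * N.subtype n * g⁻¹ :=
    fun g n => MulAut.conjNormal_apply g n
  have hinv' : ∀ (g : G) (n : N), ρ.character (MulAut.conjNormal g n) = ρ.character n := by
    intro g n
    rw [← hinv g n]
    congr 1
  have := Lib.Helper4Char.nontrivial_of_irreducible ρ
  obtain ⟨q, hq⟩ := hcyc.exists_generator
  obtain ⟨g₀, rfl⟩ := QuotientGroup.mk_surjective q
  have hm : 0 < orderOf (g₀ : G ⧸ N) := orderOf_pos _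
  have hmem : g₀ ^ orderOf (g₀ : G ⧸ N) ∈ N := by
    rw [← QuotientGroup.eq_one_iff, QuotientGroup.mk_pow, pow_orderOf_eq_one]
  obtain ⟨σ, hσ⟩ := Lib.Helper19Ext.exists_ext_of_cyclic N.subtype MulAut.conjNormal
    (Lib.Helper19Ext2.urep ρ) (Lib.Helper19Ext2.scal (Fin d → ℂ)) N.subtype_injective hc
    Lib.Helper19Ext2.scal_central
    (Lib.Helper19Ext2.schur_units ρ) (Lib.Helper19Ext2.surj_of_invariant ρ _ hinv')
    Lib.Helper19Ext2.units_div g₀ (orderOf (g₀ : G ⧸ N)) hm ⟨_, hmem⟩ rfl (by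
      rintro k ⟨n, hn⟩
      rw [orderOf_dvd_iff_zpow_eq_one, ← QuotientGroup.mk_zpow, QuotientGroup.eq_one_iff, hn]
      exact n.2) (by
      intro g
      obtain ⟨k, hk⟩ := Subgroup.mem_zpowers_iff.1 (hq (g : G ⧸ N))
      have h1 : g * (g₀ ^ k)⁻¹ ∈ N := by
        rw [← QuotientGroup.eq_one_iff, QuotientGroup.mk_mul, QuotientGroup.mk_inv,
          QuotientGroup.mk_zpow, hk, mul_inv_cancel]
      exact ⟨⟨_, h1⟩, k, by simp⟩)
  obtain ⟨h1, h2⟩ := Lib.Helper19Ext2.isIrr_of_ext N.subtype ρ σ hσ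
  exact ⟨_, h1, h2⟩

end Cfsg.Agent.S0886
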