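import Cfsg.Statements.S0262
import Mathlib

set_option autoImplicit false
open Cfsg

namespace Cfsg.Agent.S0262

open Matrix

variable {K : Type*} [Field K]

theorem unip (G : Matrix (Fin 2) (Fin 2) K) (hdet : G.det = 1) (v : Fin 2 → K) (hv : v ≠ 0)
    (hGv : G *ᵥ v = v) (m : ℕ) (hm : (m : K) ≠ 0) (hGm : G ^ m = 1) : G = 1 := by
  have h1 : (G - 1).det = 0 :=
    Matrix.exists_mulVec_eq_zero_iff.mp ⟨v, hv, by simp [Matrix.sub_mulVec, hGv]⟩
  rw [Matrix.det_fin_two] at h1 hdet
  simp at h1
  have hN : (G - 1) * (G - 1) = 0 := by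
    ext i j
    fin_cases i <;> fin_cases j <;>
      simp [Matrix.mul_apply, Fin.sum_univ_two]
    · linear_combination (- G 0 0) * h1 + (G 0 0 - 1) * hdet
    · linear_combination (- G 0 1) * h1 + (G 0 1) * hdet
    · linear_combination (- G 1 0) * h1 + (G 1 0) * hdet
    · linear_combination (- G 1 1) * h1 + (G 1 1 - 1) * hdet
  have hpow : ∀ k : ℕ, G ^ k = 1 + (k : K) • (G - 1) := by
    intro k
    induction k with
    | zero => simp
    | succ k ih =>
      have hG : (1 + (k : K) • (G - 1)) * G = (1 + (k : K) • (G - 1)) * (1 + (G - 1)) := by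
        congr 1; abel
      rw [pow_succ, ih, hG, add_mul, mul_add, mul_add, smul_mul_assoc, smul_mul_assoc, hN]
      simp
      module
  have h2 := hpow m
  rw [hGm] at h2
  have h3 : (m : K) • (G - 1) = 0 := by
    have : (1 : Matrix (Fin 2) (Fin 2) K) + (m : K) • (G - 1) = 1 + 0 := by rw [← h2]; simp
    exact add_left_cancel this
  rcases smul_eq_zero.mp h3 with h | h
  · exact absurd h hm
  · exact sub_eq_zero.mp h

theorem eig (Z G : Matrix (Fin 2) (Fin 2) K) (hdet : Z.det = 1) (hcomm : G * Z = Z * G) (l : K)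
    (hl : l ^ 2 ≠ 1) (v : Fin 2 → K) (hv : v ≠ 0) (hZv : Z *ᵥ v = l • v) :
    ∃ μ : K, G *ᵥ v = μ • v := by
  set u := G *ᵥ v with hu
  have hZu : Z *ᵥ u = l • u := by
    rw [hu, Matrix.mulVec_mulVec, ← hcomm, ← Matrix.mulVec_mulVec, hZv, Matrix.mulVec_smul]
  rw [Matrix.det_fin_two] at hdet
  have e1 := congrFun hZu 0
  have e2 := congrFun hZu 1
  have e3 := congrFun hZv 0
  have e4 := congrFun hZv 1
  simp [Matrix.mulVec, dotProduct, Fin.sum_univ_two] at e1 e2 e3 e4
  have hD : (l ^ 2 - 1) * (u 0 * v 1 - u 1 * v 0) = 0 := by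
    linear_combination (-(l * v 1)) * e1 - (Z 0 0 * u 0 + Z 0 1 * u 1) * e4 + (l * u 1) * e3
      + (Z 0 0 * v 0 + Z 0 1 * v 1) * e2 + (u 0 * v 1 - u 1 * v 0) * hdet
  have hD' : u 0 * v 1 - u 1 * v 0 = 0 := by
    rcases mul_eq_zero.mp hD with h | h
    · exact absurd (sub_eq_zero.mp h) hl
    · exact h
  by_cases hv0 : v 0 = 0
  · have hv1 : v 1 ≠ 0 := by
      intro hv1
      apply hv
      ext i
      fin_cases i
      · exact hv0
      · exact hv1
    refine ⟨u 1 / v 1, ?_⟩
    ext i
    fin_cases i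
    · simp [hv0]
      rw [hv0] at hD'
      simpa [hv1] using hD'
    · simp [hv1]
  · refine ⟨u 0 / v 0, ?_⟩
    ext i
    fin_cases i
    · simp [hv0]
    · simp
      field_simp
      linear_combination (-1 : K) * hD'

/-- For an odd prime r different from the characteristic, the Sylow r-subgroups of SL_2(q) are cyclic. -/
theorem result {F : Type*} [Field F] [Fintype F] (p : ℕ) [Fact p.Prime] [CharP F p] (r : ℕ) [Fact r.Prime] (hr : r ≠ 2) (hrp : r ≠ p) (R : Sylow r (Matrix.SpecialLinearGroup (Fin 2) F)) : IsCyclic (R : Subgroup (Matrix.SpecialLinearGroup (Fin 2) F)) := by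
  classical
  by_cases htriv : Subsingleton (R : Subgroup (Matrix.SpecialLinearGroup (Fin 2) F))
  · exact isCyclic_of_subsingleton
  have hnt : Nontrivial (R : Subgroup (Matrix.SpecialLinearGroup (Fin 2) F)) :=
    not_subsingleton_iff_nontrivial.mp htriv
  have hpg : IsPGroup r (R : Subgroup (Matrix.SpecialLinearGroup (Fin 2) F)) := R.isPGroup'
  have hcn : Nontrivial (Subgroup.center (R : Subgroup (Matrix.SpecialLinearGroup (Fin 2) F))) :=
    hpg.center_nontrivial
  obtain ⟨⟨z, hz⟩, hz1⟩ := exists_ne (1 : Subgroup.center (R : Subgroup (Matrix.SpecialLinearGroup (Fin 2) F)))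
  have hz1' : z ≠ 1 := fun h => hz1 (Subtype.ext h)
  let K := AlgebraicClosure F
  have hcharK : CharP K p := charP_of_injective_algebraMap (algebraMap F K).injective p
  have hrK : ∀ k : ℕ, ((r ^ k : ℕ) : K) ≠ 0 := by
    intro k
    rw [Nat.cast_pow]
    apply pow_ne_zero
    intro h
    rw [CharP.cast_eq_zero_iff K p r] at h
    exact hrp ((Nat.prime_dvd_prime_iff_eq (Fact.out : p.Prime) (Fact.out : r.Prime)).mp h).symm
  let ι : Matrix.SpecialLinearGroup (Fin 2) F →* Matrix.SpecialLinearGroup (Fin 2) K :=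
    Matrix.SpecialLinearGroup.map (algebraMap F K)
  have hι : Function.Injective ι := by
    intro a b hab
    ext i j
    have := congrArg (fun x : Matrix.SpecialLinearGroup (Fin 2) K => x i j) hab
    exact (algebraMap F K).injective (by simpa [ι] using this)
  let G : ↥(R : Subgroup (Matrix.SpecialLinearGroup (Fin 2) F)) → Matrix (Fin 2) (Fin 2) K :=
    fun g => (ι (g : Matrix.SpecialLinearGroup (Fin 2) F) : Matrix (Fin 2) (Fin 2) K)
  have hG1 : G 1 = 1 := by simp [G]
  have hGmul : ∀ a b, G (a * b) = G a * G b := by intro a b; simp [G]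
  have hGpow : ∀ a (k : ℕ), G (a ^ k) = G a ^ k := by intro a k; simp [G]
  have hGdet : ∀ a, (G a).det = 1 := fun a => (ι (a : Matrix.SpecialLinearGroup (Fin 2) F)).det_coe
  have hGinj : ∀ a, G a = 1 → a = 1 := by
    intro a ha
    apply Subtype.ext
    apply hι
    apply Subtype.ext
    simpa [G] using ha
  obtain ⟨l, hl⟩ := Module.End.exists_eigenvalue (Matrix.toLin' (G z))
  obtain ⟨v, hv⟩ := hl.exists_hasEigenvector
  have hv0 : v ≠ 0 := hv.2
  have hZv : G z *ᵥ v = l • v := by
    have := hv.apply_eq_smul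
    rwa [Matrix.toLin'_apply] at this
  have hpowv : ∀ k : ℕ, (G z) ^ k *ᵥ v = l ^ k • v := by
    intro k
    induction k with
    | zero => simp
    | succ k ih =>
      rw [pow_succ, ← Matrix.mulVec_mulVec, hZv, Matrix.mulVec_smul, ih, smul_smul, pow_succ, mul_comm]
  have hl2 : l ^ 2 ≠ 1 := by
    intro hl2
    obtain ⟨k, hk⟩ := hpg z
    have h1 : l ^ (r ^ k) = 1 := by
      have h := hpowv (r ^ k)
      rw [← hGpow, hk, hG1, Matrix.one_mulVec] at h
      have : (1 : K) • v = l ^ (r ^ k) • v := by rw [one_smul]; exact h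
      exact (smul_left_injective K hv0 this).symm
    have hodd : Odd (r ^ k) := by
      apply Odd.pow
      exact (Fact.out : r.Prime).odd_of_ne_two hr
    obtain ⟨j, hj⟩ := hodd
    have hl1 : l = 1 := by
      rw [hj, pow_succ, pow_mul, hl2, one_pow, one_mul] at h1
      exact h1
    apply hz1'
    apply hGinj
    apply unip (G z) (hGdet z) v hv0 (by rw [hZv, hl1, one_smul]) (r ^ k) (hrK k)
    rw [← hGpow, hk, hG1]
  have hC : ∀ g, ∃ μ : K, G g *ᵥ v = μ • v := by
    intro g
    apply eig (G z) (G g) (hGdet z) _ l hl2 v hv0 hZv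
    rw [← hGmul, ← hGmul]
    congr 1
    exact (Subgroup.mem_center_iff.mp hz g)
  choose μ hμ using hC
  let f : ↥(R : Subgroup (Matrix.SpecialLinearGroup (Fin 2) F)) →* K :=
    { toFun := μ
      map_one' := by
        apply smul_left_injective K hv0
        show μ 1 • v = (1 : K) • v
        rw [← hμ, hG1, Matrix.one_mulVec, one_smul]
      map_mul' := by
        intro a b
        apply smul_left_injective K hv0
        show μ (a * b) • v = (μ a * μ b) • v
        rw [← hμ, hGmul, ← Matrix.mulVec_mulVec, hμ b, Matrix.mulVec_smul, hμ a, smul_smul, mul_comm] }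
  apply isCyclic_of_injective_ringHom f
  rw [injective_iff_map_eq_one]
  intro g hg
  obtain ⟨k, hk⟩ := hpg g
  apply hGinj
  apply unip (G g) (hGdet g) v hv0 _ (r ^ k) (hrK k)
  · rw [← hGpow, hk, hG1]
  · have : μ g = 1 := hg
    rw [hμ, this, one_smul]

end Cfsg.Agent.S0262
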