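import Cfsg.Statements.S4343

set_option autoImplicit false
open Cfsg

namespace Cfsg.Agent.S4343

theorem mem_smul_sylow {G : Type*} [Group G] {p : ℕ} (g x : G) (P : Sylow p G) :
    x ∈ g • P ↔ g⁻¹ * x * g ∈ P := by
  have h : x ∈ ((g • P : Sylow p G) : Subgroup G) ↔ g⁻¹ * x * g ∈ (P : Subgroup G) := by
    rw [Sylow.coe_subgroup_smul, Subgroup.mem_pointwise_smul_iff_inv_smul_mem]
    simp [MulAut.smul_def]
  exact h

/-- the index of `R ∩ R'` in `R` is the size of an orbit of `R` on the Sylow subgroups -/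
theorem relIndex_le_card {G : Type*} [Group G] [Finite G] {p : ℕ} [Fact p.Prime]
    (R R' : Sylow p G) : (R' : Subgroup G).relIndex R ≤ Nat.card (Sylow p G) := by
  have h1 : MulAction.stabilizer (R : Subgroup G) R' = (R' : Subgroup G).subgroupOf R := by
    ext r
    rw [MulAction.mem_stabilizer_iff, Subgroup.mem_subgroupOf]
    change (r : G) • R' = R' ↔ _
    rw [Sylow.smul_eq_iff_mem_normalizer]
    have h2 := R.2.inf_normalizer_sylow R'
    constructor
    · intro h
      have : (r : G) ∈ (R : Subgroup G) ⊓ Subgroup.normalizer (R' : Set G) := ⟨r.2, h⟩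
      rw [h2] at this
      exact this.2
    · intro h
      exact Subgroup.le_normalizer h
  have h3 := MulAction.index_stabilizer (R : Subgroup G) R'
  rw [h1] at h3
  rw [Subgroup.relIndex, h3]
  exact Set.ncard_le_card _

theorem relIndex_eq_p {G : Type*} [Group G] [Finite G] {p : ℕ} [Fact p.Prime]
    (hn : Nat.card (Sylow p G) < p ^ 2) (R R' : Sylow p G) (hne : R ≠ R') :
    (R' : Subgroup G).relIndex R = p := by
  obtain ⟨n, hn'⟩ := R.2.index ((R' : Subgroup G).subgroupOf R)
  have h1 : (R' : Subgroup G).relIndex R = p ^ n := hn'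
  have h2 := relIndex_le_card R R'
  have hp : 1 < p := (Fact.out : p.Prime).one_lt
  have h3 : n < 2 := by
    rw [h1] at h2
    exact (Nat.pow_lt_pow_iff_right hp).mp (lt_of_le_of_lt h2 hn)
  have h4 : n ≠ 0 := by
    rintro rfl
    rw [pow_zero, Subgroup.relIndex_eq_one] at h1
    exact hne (Sylow.ext (R.3 R'.2 h1)).symm
  have h5 : n = 1 := by omega
  rw [h1, h5, pow_one]

theorem eq_of_le_of_relIndex_eq {G : Type*} [Group G] [Finite G] {H K L : Subgroup G}
    (hHK : H ≤ K) (hKL : K ≤ L) (h : H.relIndex L = K.relIndex L) : H = K := by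
  apply le_antisymm hHK
  rw [← Subgroup.relIndex_eq_one]
  have h1 := Subgroup.relIndex_mul_relIndex H K L hHK hKL
  rw [h] at h1
  have h2 : K.relIndex L ≠ 0 := Subgroup.index_ne_zero_of_finite
  exact Nat.eq_of_mul_eq_mul_right (Nat.pos_of_ne_zero h2) (by rw [h1, one_mul])

/-- Let S be a finite non-abelian simple group and p a prime dividing its order. If S has fewer than p² Sylow p-subgroups, then its Sylow p-subgroups have order p. -/
theorem result {S : Type*} [Group S] [Finite S]
    [IsSimpleGroup S] (hS : ¬ IsMulCommutative S) (p : ℕ) [Fact p.Prime] (hp : p ∣ Nat.card S)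
    (hn : Nat.card (Sylow p S) < p ^ 2) (P : Sylow p S) : Nat.card P = p := by
  classical
  have hp1 : p.Prime := Fact.out
  have hPtop : (P : Subgroup S) ≠ ⊤ := by
    intro htop
    have hS' : IsPGroup p S := by
      have := P.2
      rw [htop] at this
      exact this.of_surjective (Subgroup.topEquiv : (⊤ : Subgroup S) ≃* S).toMonoidHom
        (Subgroup.topEquiv : (⊤ : Subgroup S) ≃* S).surjective
    have hc := hS'.center_nontrivial
    rcases (inferInstance : (Subgroup.center S).Normal).eq_bot_or_eq_top with h0 | h1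
    · exact (Subgroup.nontrivial_iff_ne_bot _).mp hc h0
    · apply hS
      rw [isMulCommutative_iff]
      intro a b
      have : b ∈ Subgroup.center S := h1 ▸ Subgroup.mem_top b
      exact (Subgroup.mem_center_iff.mp this a)
  obtain ⟨Q, hQ⟩ : ∃ Q : Sylow p S, Q ≠ P := by
    by_contra hcon
    push Not at hcon
    have : Subsingleton (Sylow p S) := ⟨fun a b => (hcon a).trans (hcon b).symm⟩
    have hPn : (P : Subgroup S).Normal := P.normal_of_subsingleton
    rcases hPn.eq_bot_or_eq_top with h0 | h1
    · exact P.ne_bot_of_dvd_card hp h0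
    · exact hPtop h1
  set D : Subgroup S := (P : Subgroup S) ⊓ Q with hD
  have hDP : D.relIndex P = p := by
    rw [hD, Subgroup.inf_relIndex_left]; exact relIndex_eq_p hn P Q hQ.symm
  have hDQ : D.relIndex Q = p := by
    rw [hD, Subgroup.inf_relIndex_right]; exact relIndex_eq_p hn Q P hQ
  have normal_aux : ∀ R : Sylow p S, D ≤ R → D.relIndex R = p →
      (R : Subgroup S) ≤ Subgroup.normalizer (D : Set S) := by
    intro R hle hidx
    rw [← Subgroup.normal_subgroupOf_iff_le_normalizer hle]
    apply Subgroup.normal_of_index_eq_minFac_card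
    obtain ⟨n, hn'⟩ := IsPGroup.iff_card.mp R.2
    have hn0 : n ≠ 0 := by
      rintro rfl
      have h1 : D.relIndex R ∣ Nat.card R := Subgroup.relIndex_dvd_card D R
      rw [hidx, hn', pow_zero] at h1
      exact hp1.one_lt.ne' (Nat.dvd_one.mp h1)
    rw [hn', hp1.pow_minFac hn0]
    exact hidx
  have hPN := normal_aux P inf_le_left hDP
  have hQN := normal_aux Q inf_le_right hDQ
  set N : Subgroup S := Subgroup.normalizer (D : Set S) with hN
  -- D lies in every Sylow subgroup
  have hall : ∀ R : Sylow p S, D ≤ R := by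
    intro R
    have hpg : IsPGroup p ((R : Subgroup S).subgroupOf N) :=
      R.2.comap_of_injective N.subtype N.subtype_injective
    obtain ⟨T, hT⟩ := hpg.exists_le_sylow
    obtain ⟨n, hn'⟩ := MulAction.exists_smul_eq N T (P.subtype hPN)
    have hRQ : (((n : S) • R : Sylow p S) : Subgroup S) ⊓ Q ≤ D := by
      rintro y ⟨hy1, hy2⟩
      refine ⟨?_, hy2⟩
      have hy1' : (n : S)⁻¹ * y * n ∈ R := (mem_smul_sylow _ _ _).mp hy1
      have hyN : y ∈ N := hQN hy2
      have h1 : (n⁻¹ * ⟨y, hyN⟩ * n : N) ∈ T := hT (Subgroup.mem_subgroupOf.mpr hy1')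
      have h2 : (⟨y, hyN⟩ : N) ∈ n • T := (mem_smul_sylow _ _ _).mpr h1
      rw [hn'] at h2
      exact Subgroup.mem_subgroupOf.mp h2
    have hne : ((n : S) • R : Sylow p S) ≠ Q := by
      intro heq
      rw [heq, inf_idem] at hRQ
      have : (Q : Subgroup S) ≤ P := hRQ.trans inf_le_left
      exact hQ (Sylow.ext (Q.3 P.2 this)).symm
    have heq : (((n : S) • R : Sylow p S) : Subgroup S) ⊓ Q = D := by
      apply eq_of_le_of_relIndex_eq hRQ inf_le_right
      rw [Subgroup.inf_relIndex_right, hDQ]
      exact relIndex_eq_p hn Q _ hne.symm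
    intro d hd
    have h1 : (n : S) * d * (n : S)⁻¹ ∈ D := (n.2 d).mp hd
    rw [← heq] at h1
    have h2 := (mem_smul_sylow _ _ _).mp h1.1
    have h3 : d ∈ R := by simpa [mul_assoc] using h2
    exact h3
  have hcore : D ≤ (P : Subgroup S).normalCore := by
    intro d hd b
    have h1 : d ∈ (b⁻¹ • P : Sylow p S) := hall _ hd
    have h2 := (mem_smul_sylow _ _ _).mp h1
    have h3 : b * d * b⁻¹ ∈ P := by simpa using h2
    exact h3
  have hDbot : D = ⊥ := by
    rcases (P : Subgroup S).normalCore_normal.eq_bot_or_eq_top with h0 | h1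
    · rw [h0] at hcore; exact le_bot_iff.mp hcore
    · exfalso
      apply hPtop
      rw [eq_top_iff, ← h1]
      exact Subgroup.normalCore_le _
  rw [hDbot, Subgroup.relIndex_bot_left] at hDP
  exact hDP

end Cfsg.Agent.S4343
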