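import Cfsg.Statements.S4304
import Cfsg.Agent.S4343
import Cfsg.Agent.Lib.Helper63SylowNum2

set_option autoImplicit false
open Cfsg

namespace Cfsg.Agent.S4304

open Subgroup Cfsg.Agent.Lib.Helper63SylowNum2 Cfsg.Agent.Lib.Helper63SylowNum

theorem simple_case {G : Type*} [Group G] [Finite G] [IsSimpleGroup G]
    (h : Nat.card (Sylow 7 G) = 15) : False := by
  classical
  haveI : Fact (Nat.Prime 7) := ⟨by norm_num⟩
  have h1 : Nat.card (Sylow 7 G) ≠ 1 := by rw [h]; norm_num
  have hnc := not_comm_of_card_sylow h1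
  have h7 := dvd_card_of_card_sylow h1
  obtain ⟨P⟩ : Nonempty (Sylow 7 G) := inferInstance
  have hP : Nat.card P = 7 := Cfsg.Agent.S4343.result hnc 7 h7 (by rw [h]; norm_num) P
  haveI : Fintype (Sylow 7 G) := Fintype.ofFinite _
  set C : Subgroup G := centralizer ((P : Subgroup G) : Set G) with hC
  -- primes dividing |C|
  have hprime : ∀ r : ℕ, r.Prime → r ∣ Nat.card C → r = 7 := by
    intro r hr hrC
    by_contra hr7
    haveI : Fact r.Prime := ⟨hr⟩
    obtain ⟨c, hc⟩ := exists_prime_orderOf_dvd_card' r hrC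
    have hc' : orderOf (c : G) = r := by rw [Subgroup.orderOf_coe, hc]
    have hf1 := card_fixedBy_modEq_one P (c : G) c.2
    have hf2 := card_modEq_card_fixedBy (α := Sylow 7 G) (c : G) hc'
    rw [h] at hf2
    set f := Nat.card (MulAction.fixedBy (Sylow 7 G) (c : G)) with hf
    have hle : f ≤ 15 := by
      rw [← h]
      exact Nat.card_le_card_of_injective _ Subtype.val_injective
    have hne : f ≠ 15 := by
      intro h15
      have hall : MulAction.fixedBy (Sylow 7 G) (c : G) = Set.univ := by
        apply Set.eq_of_subset_of_ncard_le (Set.subset_univ _)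
        rw [Set.ncard_univ, h, ← Nat.card_coe_set_eq, ← hf, h15]
      have : (c : G) = 1 := faithful h1 _ (fun Q => by
        have : Q ∈ MulAction.fixedBy (Sylow 7 G) (c : G) := by rw [hall]; trivial
        exact this)
      rw [this, orderOf_one] at hc'
      exact hr.one_lt.ne hc'
    have hf1' : f % 7 = 1 := hf1
    have hcases : f = 1 ∨ f = 8 := by omega
    rcases hcases with hf1'' | hf8
    · rw [hf1''] at hf2
      have hd : r ∣ 14 := (Nat.modEq_iff_dvd' (by norm_num)).mp hf2.symm
      have hr2 : r = 2 := by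
        have h14 : (14 : ℕ) = 2 * 7 := by norm_num
        rw [h14] at hd
        rcases (Nat.Prime.dvd_mul hr).mp hd with h2 | h2
        · exact (Nat.prime_dvd_prime_iff_eq hr (by norm_num)).mp h2
        · exact absurd ((Nat.prime_dvd_prime_iff_eq hr (by norm_num)).mp h2) hr7
      set σ : Equiv.Perm (Sylow 7 G) := MulAction.toPerm (c : G) with hσ
      have hinj : Function.Injective (MulAction.toPermHom G (Sylow 7 G)) := by
        rw [injective_iff_map_eq_one]
        intro g hg
        apply faithful h1
        intro Q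
        have := congrArg (fun τ : Equiv.Perm (Sylow 7 G) => τ Q) hg
        simpa using this
      have hord : orderOf σ = 2 := by
        have := orderOf_injective (MulAction.toPermHom G (Sylow 7 G)) hinj (c : G)
        rw [hc', hr2] at this
        exact this
      have hs := sign_involution σ hord
      rw [sign_eq_one hnc] at hs
      have hfix : Fintype.card (Function.fixedPoints σ) = 1 := by
        rw [← Nat.card_eq_fintype_card, ← hf1'', hf]
        rfl
      rw [hfix, ← Nat.card_eq_fintype_card, h] at hs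
      revert hs
      decide
    · rw [hf8] at hf2
      have hd : r ∣ 7 := (Nat.modEq_iff_dvd' (by norm_num)).mp hf2.symm
      exact hr7 ((Nat.prime_dvd_prime_iff_eq hr (by norm_num)).mp hd)
  have hPC : (P : Subgroup G) ≤ C := by
    haveI : IsCyclic (P : Subgroup G) := isCyclic_of_prime_card hP
    haveI : IsMulCommutative (P : Subgroup G) := ⟨⟨fun a b => IsCyclic.commGroup.mul_comm a b⟩⟩
    exact Subgroup.le_centralizer _
  have hCcard : Nat.card C = 7 := by
    obtain ⟨k, hk⟩ : ∃ k, Nat.card C = 7 ^ k :=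
      ⟨_, Nat.eq_prime_pow_of_unique_prime_dvd Nat.card_pos.ne' (fun {r} hr hd => hprime r hr hd)⟩
    have hCp : IsPGroup 7 C := IsPGroup.of_card hk
    have := P.3 hCp hPC
    rw [this]; exact hP
  have hrel := relIndex_centralizer_normalizer_dvd (p := 7) (P : Subgroup G) hP
  rw [← hC] at hrel
  set N : Subgroup G := normalizer ((P : Subgroup G) : Set G) with hN
  have hNcard : Nat.card C * C.relIndex N = Nat.card N :=
    card_mul_relIndex' C N (Subgroup.centralizer_le_normalizer _)
  have hG : Nat.card N * 15 = Nat.card G := by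
    rw [← h, P.card_eq_index_normalizer]
    exact N.card_mul_index
  set k := C.relIndex N with hk
  have hk6 : k ∣ 6 := hrel
  have hkle : k ≤ 6 := Nat.le_of_dvd (by norm_num) hk6
  rw [hCcard] at hNcard
  have hGk : Nat.card G = 105 * k := by rw [← hG, ← hNcard]; ring
  have hodd : ∀ m, Nat.card G = 5 * m → ¬ 5 ∣ m → (Nat.card G).Coprime 4 → Nat.card G ≠ 5 → False := by
    intro m hm h5 hcop hne
    haveI : Fact (Nat.Prime 5) := ⟨by norm_num⟩
    obtain ⟨Q⟩ : Nonempty (Sylow 5 G) := inferInstance
    exact hne (card_eq_of_simple_of_coprime 5 Q (card_sylow_eq_prime Q hm h5) hcop)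
  have heven : ∀ m, Nat.card G = 2 * m → ¬ 2 ∣ m → Nat.card G ≠ 2 → False := by
    intro m hm h5 hne
    haveI : Fact (Nat.Prime 2) := ⟨by norm_num⟩
    obtain ⟨Q⟩ : Nonempty (Sylow 2 G) := inferInstance
    exact hne (card_eq_of_simple_of_coprime 2 Q (card_sylow_eq_prime Q hm h5) (by simp))
  interval_cases k
  · simp at hk6
  · exact hodd 21 (by rw [hGk]) (by norm_num) (by rw [hGk]; norm_num) (by rw [hGk]; norm_num)
  · exact heven 105 (by rw [hGk]) (by norm_num) (by rw [hGk]; norm_num)
  · exact hodd 63 (by rw [hGk]) (by norm_num) (by rw [hGk]; norm_num) (by rw [hGk]; norm_num)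
  · norm_num at hk6
  · norm_num at hk6
  · exact heven 315 (by rw [hGk]) (by norm_num) (by rw [hGk]; norm_num)

/-- No finite group has exactly 15 Sylow 7-subgroups. -/
theorem result {G : Type*} [Group G] [Finite G] : Nat.card (Sylow 7 G) ≠ 15 := by
  intro h
  haveI : Fact (Nat.Prime 7) := ⟨by norm_num⟩
  obtain ⟨S, i1, i2, hS, hS'⟩ := exists_simple 7 15 (by
    intro d hd hd7
    have : d ≤ 15 := Nat.le_of_dvd (by norm_num) hd
    interval_cases d <;> simp_all) (by
    intro hpp
    have := (isPrimePow_nat_iff 15).mp hpp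
    obtain ⟨q, k, hq, hk, hqk⟩ := this
    have h3 : 3 ∣ q ^ k := by rw [hqk]; norm_num
    have h5 : 5 ∣ q ^ k := by rw [hqk]; norm_num
    have h3' := (Nat.prime_dvd_prime_iff_eq (by norm_num) hq).mp ((Nat.Prime.dvd_of_dvd_pow (by norm_num) h3))
    have h5' := (Nat.prime_dvd_prime_iff_eq (by norm_num) hq).mp ((Nat.Prime.dvd_of_dvd_pow (by norm_num) h5))
    omega) (by norm_num) h
  exact simple_case hS'

end Cfsg.Agent.S4304
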