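import Cfsg.Statements.S1532
import Cfsg.Agent.Lib.Helper32Feit

set_option autoImplicit false
open Cfsg

namespace Cfsg.Agent.S1532

open Cfsg.Agent.Lib.Helper4Char Cfsg.Agent.Lib.Helper4Char2 Cfsg.Agent.Lib.Helper4Char4
open Cfsg.Agent.Lib.Helper32Virt Cfsg.Agent.Lib.Helper32Coh Cfsg.Agent.Lib.Helper32Sub
open Cfsg.Agent.Lib.Helper32Extend Cfsg.Agent.Lib.Helper32FrobGrp Cfsg.Agent.Lib.Helper32Feit
open Cfsg.Agent.Lib.Helper32PartA

/-- the whole set of characters non-trivial on a TI Sylow subgroup is coherent when the normaliser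
has odd order. -/
theorem coherent_odd {G : Type*} [Group G] [Fintype G] (K : Subgroup G) (hK1 : K ≠ ⊥)
    (hnil : Group.IsNilpotent K) (hTI : Cfsg.IsTISubset (K : Set G))
    (hlt : K < Subgroup.normalizer (K : Set G))
    (hC : ∀ k ∈ K, k ≠ 1 → Subgroup.centralizer ({k} : Set G) ≤ K)
    [Fintype ↥(Subgroup.normalizer (K : Set G))]
    (hodd : Odd (Nat.card (Subgroup.normalizer (K : Set G)))) :
    IsCoherent (inducedIrrAbove (K.subgroupOf (Subgroup.normalizer (K : Set G))) ⊥) {1}ᶜ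
      (fun α => indFun (Subgroup.normalizer (K : Set G)) α) := by
  have := normal_in K
  exact Cfsg.Agent.Lib.Helper32Sibley.core K _ hodd hlt.le hK1 (lt_top' K hlt)
    ((Group.isNilpotent_congr (Subgroup.subgroupOfEquivOfLe hlt.le)).2 hnil) (cent_cond K hC) hTI rfl

theorem aux {G : Type*} [Group G] [Fintype G] (K : Subgroup G) (hK1 : K ≠ ⊥)
    (hnil : Group.IsNilpotent K) (hTI : Cfsg.IsTISubset (K : Set G))
    (hlt : K < Subgroup.normalizer (K : Set G))
    (hC : ∀ k ∈ K, k ≠ 1 → Subgroup.centralizer ({k} : Set G) ≤ K)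
    [Fintype ↥(Subgroup.normalizer (K : Set G))]
    (hodd : Odd (Nat.card (Subgroup.normalizer (K : Set G)))) (Z : Subgroup G) (hZ1 : Z ≠ ⊥)
    (hZK : Z ≤ K) :
    IsCoherent {χ : ↥(Subgroup.normalizer (K : Set G)) → ℂ |
      IsIrrCharacter ↥(Subgroup.normalizer (K : Set G)) χ ∧
        ∃ z : ↥(Subgroup.normalizer (K : Set G)), (z : G) ∈ Z ∧ χ z ≠ χ 1} {1}ᶜ
      (fun α => indFun (Subgroup.normalizer (K : Set G)) α) := by
  classical
  have hcoh := coherent_odd K hK1 hnil hTI hlt hC hodd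
  have hKn := normal_in K
  have hirr := all_irr _ (cent_cond K hC)
  have hreal := not_real _ (cent_cond K hC) hodd (lt_top' _ hlt)
  apply coherent_mono _ hcoh
  · -- a non-zero element
    obtain ⟨z, hz, hz1⟩ : ∃ z ∈ Z, z ≠ 1 := by
      by_contra hc
      push Not at hc
      exact hZ1 ((Subgroup.eq_bot_iff_forall Z).2 hc)
    have hzN : z ∈ Subgroup.normalizer (K : Set G) := hlt.le (hZK hz)
    obtain ⟨χ, hχ⟩ : ∃ χ : IrrCharacter (Subgroup.normalizer (K : Set G)),
        (χ : Subgroup.normalizer (K : Set G) → ℂ) ⟨z, hzN⟩ ≠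
          (χ : Subgroup.normalizer (K : Set G) → ℂ) 1 := by
      by_contra hc
      push Not at hc
      have h1 := (isConj_iff_irr (⟨z, hzN⟩ : Subgroup.normalizer (K : Set G)) 1).2 hc
      rw [isConj_one_left] at h1
      exact hz1 (congrArg Subtype.val h1)
    have hmem : (χ : Subgroup.normalizer (K : Set G) → ℂ) ∈
        inducedIrrAbove (K.subgroupOf (Subgroup.normalizer (K : Set G))) ⊥ :=
      mem_of_ne _ hirr χ.2 (Subgroup.mem_subgroupOf.2 (hZK hz)) hχ
    refine ⟨(χ : Subgroup.normalizer (K : Set G) → ℂ) - conjFun χ, ?_,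
      sub_ne_zero.2 (hreal _ hmem).symm⟩
    rw [mem_zspanOn_one]
    refine ⟨zspan_sub (zspan_of_mem ⟨χ.2, ⟨z, hzN⟩, hz, hχ⟩)
      (zspan_of_mem ⟨IsIrrCharacter.conj χ.2, ⟨z, hzN⟩, hz, ?_⟩), ?_⟩
    · intro h
      apply hχ
      have := congrArg (starRingEnd ℂ) h
      simpa [conjFun] using this
    · simp only [Pi.sub_apply, conjFun]
      rw [IsCharacter.conj_degree (IsIrrCharacter.isCharacter χ.2), sub_self]
  · rintro χ ⟨h1, z, hz, hne⟩
    exact mem_of_ne _ hirr h1 (Subgroup.mem_subgroupOf.2 (hZK hz)) hne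

/-- Let G be a finite group, p an odd prime and P a Sylow p-subgroup that is non-abelian, whose underlying set is a TI-subset of G, with P properly contained in its set normaliser N and C_G(x) ≤ P for every non-identity x ∈ P. Let Z be a nontrivial subgroup of the centre of P normalised by N. Then the set of irreducible characters χ of N with χ z ≠ χ 1 for some z ∈ Z is coherent for the map induced by induction from N to G. -/
theorem result {G : Type*} [Group G] [Fintype G] (p : ℕ) [Fact p.Prime] (hp : p ≠ 2) (P : Sylow p G) (hna : ¬ IsMulCommutative (P : Subgroup G)) (hTI : Cfsg.IsTISubset ((P : Subgroup G) : Set G)) (hlt : (P : Subgroup G) < Subgroup.normalizer ((P : Subgroup G) : Set G)) (hC : ∀ k ∈ (P : Subgroup G), k ≠ 1 → Subgroup.centralizer ({k} : Set G) ≤ (P : Subgroup G)) [Fintype ↥(Subgroup.normalizer ((P : Subgroup G) : Set G))] (Z : Subgroup G) (hZ1 : Z ≠ ⊥) (hZP : ∀ z ∈ Z, z ∈ (P : Subgroup G) ∧ ∀ y ∈ (P : Subgroup G), z * y = y * z)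 (hZn : ∀ x ∈ Subgroup.normalizer ((P : Subgroup G) : Set G), ∀ z ∈ Z, x * z * x⁻¹ ∈ Z) : Cfsg.IsCoherent {χ : ↥(Subgroup.normalizer ((P : Subgroup G) : Set G)) → ℂ | Cfsg.IsIrrCharacter ↥(Subgroup.normalizer ((P : Subgroup G) : Set G)) χ ∧ ∃ z : ↥(Subgroup.normalizer ((P : Subgroup G) : Set G)), (z : G) ∈ Z ∧ χ z ≠ χ 1} {1}ᶜ (fun α => Cfsg.indFun (Subgroup.normalizer ((P : Subgroup G) : Set G)) α) := by
  classical
  have hPodd : Odd (Nat.card (P : Subgroup G)) := by
    obtain ⟨n, hn⟩ := IsPGroup.iff_card.1 P.isPGroup'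
    rw [hn]
    exact ((Fact.out : p.Prime).odd_of_ne_two hp).pow
  have hodd : Odd (Nat.card (Subgroup.normalizer ((P : Subgroup G) : Set G))) := by
    by_contra hcon
    rw [Nat.not_odd_iff_even] at hcon
    apply hna
    have := comm_of_even (P : Subgroup G) hC hPodd hcon
    exact ⟨⟨fun a b => Subtype.ext (this a a.2 b b.2)⟩⟩
  have hP1 : (P : Subgroup G) ≠ ⊥ := by
    intro h
    apply hna
    refine ⟨⟨fun a b => ?_⟩⟩
    have ha : a = 1 := Subtype.ext ((Subgroup.eq_bot_iff_forall _).1 h a a.2)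
    rw [ha]; simp
  exact aux (P : Subgroup G) hP1 P.isPGroup'.isNilpotent hTI hlt hC hodd Z hZ1
    (fun z hz => (hZP z hz).1)

end Cfsg.Agent.S1532
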