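import Cfsg.Statements.S1534
import Cfsg.Agent.Lib.Helper32Feit6
import Cfsg.Agent.S1532

set_option autoImplicit false
open Cfsg

namespace Cfsg.Agent.S1534

open Cfsg.Agent.Lib.Helper32FrobGrp Cfsg.Agent.Lib.Helper32PartB Cfsg.Agent.Lib.Helper32TI
open Cfsg.Agent.Lib.Helper32Feit Cfsg.Agent.Lib.Helper32Feit2 Cfsg.Agent.Lib.Helper32Feit4
open Cfsg.Agent.Lib.Helper32Feit3 Cfsg.Agent.Lib.Helper32Feit6

theorem arith (e i : ℕ) (he : Odd e) (he1 : 1 < e) (h : 2 ^ i ≤ 4 * e ^ 2 + 1) :
    2 ^ i < 4 * e ^ 2 := by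
  rcases Nat.lt_or_ge i 2 with hi | hi
  · have h1 : 2 ^ i ≤ 2 ^ 1 := Nat.pow_le_pow_right (by norm_num) (by omega)
    nlinarith
  obtain ⟨j, rfl⟩ : ∃ j, i = j + 2 := ⟨i - 2, by omega⟩
  have h2 : 2 ^ (j + 2) = 4 * 2 ^ j := by ring
  rw [h2] at h ⊢
  have h3 : 2 ^ j ≤ e ^ 2 := by omega
  have h4 : 2 ^ j ≠ e ^ 2 := by
    intro h5
    have h6 : Odd (e ^ 2) := he.pow
    rw [← h5] at h6
    rcases Nat.eq_zero_or_pos j with rfl | hj
    · simp at h5
      nlinarith
    · exact (Nat.not_even_iff_odd.2 h6) ((Nat.even_pow.2 ⟨even_two, by omega⟩))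
  omega

/-- Let G be a finite group and K a nontrivial nilpotent subgroup whose underlying set is a TI-subset of G, properly contained in its set normaliser N, with C_G(k) ≤ K for every non-identity k ∈ K; let e be the index of K in N and S the set of irreducible characters χ of N with χ k ≠ χ 1 for some k ∈ K. Then one of: S has exactly one member, Nat.card K = e + 1 and K is an elementary abelian p-group for some prime p; or K is a Sylow 2-subgroup of G (Nat.card K is the largest power of 2 dividing Nat.card G) and [K : [K,K]] < 4e²; or (S, N minus 1, induction to G) is coherent. -/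
theorem result {G : Type*} [Group G] [Fintype G] (K : Subgroup G) (hK1 : K ≠ ⊥) (hnil : Group.IsNilpotent K) (hTI : Cfsg.IsTISubset (K : Set G)) (hlt : K < Subgroup.normalizer (K : Set G)) (hC : ∀ k ∈ K, k ≠ 1 → Subgroup.centralizer ({k} : Set G) ≤ K) [Fintype ↥(Subgroup.normalizer (K : Set G))] : (Nat.card {χ : ↥(Subgroup.normalizer (K : Set G)) → ℂ // Cfsg.IsIrrCharacter ↥(Subgroup.normalizer (K : Set G)) χ ∧ ∃ k : ↥(Subgroup.normalizer (K : Set G)), (k : G) ∈ K ∧ χ k ≠ χ 1} = 1 ∧ Nat.card K = (K.subgroupOf (Subgroup.normalizer (K : Set G))).index + 1 ∧ ∃ p : ℕ, p.Prime ∧ Cfsg.IsElementaryAbelian p K) ∨ (Nat.card K = 2 ^ (Nat.card G).factorization 2 ∧ (⁅K, K⁆.subgroupOf K).index < 4 * (K.subgroupOf (Subgroup.normalizer (K : Set G))).index ^ 2) ∨ Cfsg.IsCoherent {χ : ↥(Subgroup.normalizer (K : Set G)) → ℂ | Cfsg.IsIrrCharacter ↥(Subgroup.normalizer (K : Set G)) χ ∧ ∃ k : ↥(Subgroup.normalizer (K : Set G)), (k : G) ∈ K ∧ χ k ≠ χ 1} {1}ᶜ (fun α => Cfsg.indFun (Subgroup.normalizer (K : Set G)) α) := by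
  classical
  by_cases hab : ∀ x ∈ K, ∀ y ∈ K, x * y = y * x
  · rcases tifn_abelian K hK1 hTI hlt hC hab with h | h
    · left
      have hc1 : Nat.card K ≠ 1 := fun h1 => hK1 ((Subgroup.card_eq_one).1 h1)
      obtain ⟨p, hp, hpd⟩ := Nat.exists_prime_and_dvd hc1
      exact ⟨h.1, h.2.1, p, hp, h.2.2 p hp hpd⟩
    · exact Or.inr (Or.inr h)
  have hKn := normal_in K
  have hC' := cent_cond K hC
  have hirr := all_irr _ hC'
  have hcardK : Nat.card (K.subgroupOf (Subgroup.normalizer (K : Set G))) = Nat.card K :=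
    Nat.card_congr (Subgroup.subgroupOfEquivOfLe hlt.le).toEquiv
  have hK1' : K.subgroupOf (Subgroup.normalizer (K : Set G)) ≠ ⊥ := by
    intro h
    apply hK1
    rw [← Subgroup.card_eq_one, ← hcardK, h]
    simp
  have hnil' : Group.IsNilpotent (K.subgroupOf (Subgroup.normalizer (K : Set G))) :=
    (Group.isNilpotent_congr (Subgroup.subgroupOfEquivOfLe hlt.le)).2 hnil
  have hS : FSys (K.subgroupOf (Subgroup.normalizer (K : Set G)))
      (fun α => indFun (Subgroup.normalizer (K : Set G)) α) :=
    ⟨hirr, tifn_iso K hTI hC, fun α hα => map_one _ _ α hα⟩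
  rcases feit_nonab _ hnil' hS hK1' with h | ⟨p, hp, ⟨m, hm⟩, ⟨i, hi⟩, hle⟩
  · right; right
    rw [set_eq K hC]
    exact h
  rw [hcardK] at hm
  by_cases hp2 : p = 2
  · subst hp2
    right; left
    set e := (K.subgroupOf (Subgroup.normalizer (K : Set G))).index with he
    have hm0 : m ≠ 0 := by
      rintro rfl
      rw [pow_zero] at hm
      exact hK1 ((Subgroup.card_eq_one).1 hm)
    have hodd : Odd e := by
      obtain ⟨n, hn⟩ := cong_top _ hirr ⊥ bot_le
      rw [Subgroup.relIndex_bot_left, hcardK, hm] at hn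
      have heven : Even (2 ^ m) := (Nat.even_pow.2 ⟨even_two, hm0⟩)
      by_contra hcon
      rw [Nat.not_odd_iff_even] at hcon
      have h1 : Even (e * n) := hcon.mul_right n
      rw [← hn] at heven
      exact (Nat.not_even_iff_odd.2 (h1.add_one)) heven
    have he1 : 1 < e := by
      rcases Nat.lt_or_ge 1 e with h | h
      · exact h
      · exfalso
        have he0 : e ≠ 0 := Subgroup.index_ne_zero_of_finite
        have : e = 1 := by omega
        exact (lt_top' K hlt).ne (Subgroup.index_eq_one.1 this)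
    constructor
    · have := Fact.mk Nat.prime_two
      have h1 := Cfsg.Agent.Lib.Helper32Sibley.not_dvd_index 2 m K _ rfl hm
        (fun h => (Nat.not_even_iff_odd.2 hodd) (even_iff_two_dvd.2 h))
      have h2 := K.card_mul_index
      rw [← h2, hm, Nat.factorization_mul (by positivity) Subgroup.index_ne_zero_of_finite,
        Nat.Prime.factorization_pow Nat.prime_two]
      simp [Nat.factorization_eq_zero_of_not_dvd h1]
    · have h1 : (⁅K, K⁆.subgroupOf K).index =
          (⁅K.subgroupOf (Subgroup.normalizer (K : Set G)),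
            K.subgroupOf (Subgroup.normalizer (K : Set G))⁆ :
              Subgroup (Subgroup.normalizer (K : Set G))).relIndex
            (K.subgroupOf (Subgroup.normalizer (K : Set G))) := by
        have h2 := Subgroup.relIndex_map_map_of_injective
          (⁅K.subgroupOf (Subgroup.normalizer (K : Set G)),
            K.subgroupOf (Subgroup.normalizer (K : Set G))⁆ :
              Subgroup (Subgroup.normalizer (K : Set G)))
          (K.subgroupOf (Subgroup.normalizer (K : Set G)))
          (Subgroup.normalizer (K : Set G)).subtype_injective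
        rw [Subgroup.map_commutator, Subgroup.map_subgroupOf_eq_of_le hlt.le] at h2
        exact h2
      rw [h1, hi]
      rw [hi] at hle
      exact arith e i hodd he1 hle
  · right; right
    have hKodd : Odd (Nat.card K) := by
      rw [hm]
      exact (hp.odd_of_ne_two hp2).pow
    have hodd : Odd (Nat.card (Subgroup.normalizer (K : Set G))) := by
      by_contra hcon
      rw [Nat.not_odd_iff_even] at hcon
      exact hab (comm_of_even K hC hKodd hcon)
    rw [set_eq K hC]
    exact Cfsg.Agent.S1532.coherent_odd K hK1 hnil hTI hlt hC hodd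

end Cfsg.Agent.S1534
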