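import Cfsg.Statements.S0253
import Cfsg.Agent.S0243
import Cfsg.Agent.Lib.Helper6Perm
import Cfsg.Agent.Lib.Helper6SL2Hom

set_option autoImplicit false
open Cfsg

namespace Cfsg.Agent.S0253

open Cfsg.Agent.Lib.Helper6SL2Hom Cfsg.Agent.Lib.Helper6Transport

def X : Equiv.Perm (Fin 5) := ⟨![1, 2, 3, 4, 0], ![4, 0, 1, 2, 3], by decide, by decide⟩
def W : Equiv.Perm (Fin 5) := ⟨![1, 0, 2, 4, 3], ![1, 0, 2, 4, 3], by decide, by decide⟩
def D : Equiv.Perm (Fin 5) := ⟨![4, 3, 2, 1, 0], ![4, 3, 2, 1, 0], by decide, by decide⟩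

def Hh (c : ZMod 5) : Equiv.Perm (Fin 5) := (![1, 1, D, D, 1] : Fin 5 → Equiv.Perm (Fin 5)) c
def inv5 (c : ZMod 5) : ZMod 5 := (![0, 1, 3, 2, 4] : Fin 5 → ZMod 5) c

def f0 (a b c d : ZMod 5) : Equiv.Perm (Fin 5) :=
  if c = 0 then Hh a * X ^ (b * inv5 a).val
  else X ^ (a * inv5 c).val * W * Hh c * X ^ (d * inv5 c).val

theorem f0_one : f0 1 0 0 1 = 1 := by decide +kernel

theorem f0_X : ∀ t a b c d : ZMod 5, a * d - b * c = 1 →
    f0 a (a * t + b) c (c * t + d) = f0 a b c d * f0 1 t 0 1 := by decide +kernel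

theorem f0_Y : ∀ t a b c d : ZMod 5, a * d - b * c = 1 →
    f0 (a + b * t) b (c + d * t) d = f0 a b c d * f0 1 0 t 1 := by decide +kernel

theorem f0_neg : f0 (-1) 0 0 (-1) = 1 := by decide +kernel

theorem f0_ne : f0 1 1 0 1 ≠ 1 := by decide +kernel

/-- PSL_2(5) is isomorphic to A_5. -/
theorem result {F : Type*} [Field F] [Fintype F] (hF : Fintype.card F = 5) : Nonempty (Matrix.ProjectiveSpecialLinearGroup (Fin 2) F ≃* alternatingGroup (Fin 5)) := by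
  have : Fact (Nat.Prime 5) := ⟨by norm_num⟩
  obtain ⟨e⟩ := nonempty_pslEquiv (n := Fin 2) (F := F) (K := ZMod 5) (by rw [hF, ZMod.card])
  obtain ⟨φ, hφ⟩ := exists_hom_of_entries f0 f0_one f0_X f0_Y
  obtain ⟨ψ, hψ⟩ := exists_injective_hom_PSL (F := ZMod 5) (by simp) φ
    (by
      intro g h1 h2 h3 h4
      rw [hφ, h1, h2, h3, h4]
      exact f0_neg)
    ⟨Matrix.SpecialLinearGroup.transvection (zero_ne_one : (0 : Fin 2) ≠ 1) 1, by
      rw [hφ, T01_entries]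
      exact f0_ne⟩
  have hcard := Cfsg.Agent.S0243.result (F := ZMod 5) (ZMod.card 5) 2 le_rfl
  simp only [Fin.prod_univ_two] at hcard
  set N := Nat.card (Matrix.ProjectiveSpecialLinearGroup (Fin 2) (ZMod 5)) with hN
  norm_num at hcard
  obtain ⟨e2⟩ := Cfsg.Agent.Lib.Helper6Perm.mulEquiv_alternating_of_injective (X := Fin 5) (n := 5)
    (by simp) ψ hψ (by
      have : Nat.factorial 5 = 120 := rfl
      omega)
  exact ⟨e.trans e2⟩

end Cfsg.Agent.S0253
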