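import Cfsg.Statements.S0254
import Cfsg.Agent.S0243
import Cfsg.Agent.Lib.Helper6Perm
import Cfsg.Agent.Lib.Helper6SL2Hom

set_option autoImplicit false
open Cfsg

namespace Cfsg.Agent.S0254

open Cfsg.Agent.Lib.Helper6SL2Hom Cfsg.Agent.Lib.Helper6Transport

instance fact3 : Fact (Nat.Prime 3) := ⟨by norm_num⟩

instance factIrr : Fact (∀ r : ZMod 3, r ^ 2 ≠ -1 + 0 * r) := ⟨by decide⟩

/-- the field with nine elements -/
abbrev F9 := QuadraticAlgebra (ZMod 3) (-1) 0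

instance fintypeF9 : Fintype F9 := Fintype.ofEquiv (ZMod 3 × ZMod 3) (QuadraticAlgebra.equivProd _ _).symm

theorem card_F9 : Fintype.card F9 = 9 := by
  rw [Fintype.card_congr (QuadraticAlgebra.equivProd (-1 : ZMod 3) 0), Fintype.card_prod, ZMod.card]

def W : Equiv.Perm (Fin 6) := ⟨![1, 0, 3, 2, 4, 5], ![1, 0, 3, 2, 4, 5], by decide, by decide⟩
def U00 : Equiv.Perm (Fin 6) := ⟨![0, 1, 2, 3, 4, 5], ![0, 1, 2, 3, 4, 5], by decide, by decide⟩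
def U01 : Equiv.Perm (Fin 6) := ⟨![0, 1, 2, 4, 5, 3], ![0, 1, 2, 5, 3, 4], by decide, by decide⟩
def U02 : Equiv.Perm (Fin 6) := ⟨![0, 1, 2, 5, 3, 4], ![0, 1, 2, 4, 5, 3], by decide, by decide⟩
def U10 : Equiv.Perm (Fin 6) := ⟨![1, 2, 0, 3, 4, 5], ![2, 0, 1, 3, 4, 5], by decide, by decide⟩
def U11 : Equiv.Perm (Fin 6) := ⟨![1, 2, 0, 4, 5, 3], ![2, 0, 1, 5, 3, 4], by decide, by decide⟩
def U12 : Equiv.Perm (Fin 6) := ⟨![1, 2, 0, 5, 3, 4], ![2, 0, 1, 4, 5, 3], by decide, by decide⟩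
def U20 : Equiv.Perm (Fin 6) := ⟨![2, 0, 1, 3, 4, 5], ![1, 2, 0, 3, 4, 5], by decide, by decide⟩
def U21 : Equiv.Perm (Fin 6) := ⟨![2, 0, 1, 4, 5, 3], ![1, 2, 0, 5, 3, 4], by decide, by decide⟩
def U22 : Equiv.Perm (Fin 6) := ⟨![2, 0, 1, 5, 3, 4], ![1, 2, 0, 4, 5, 3], by decide, by decide⟩
def H01 : Equiv.Perm (Fin 6) := ⟨![1, 0, 2, 3, 5, 4], ![1, 0, 2, 3, 5, 4], by decide, by decide⟩
def H02 : Equiv.Perm (Fin 6) := ⟨![1, 0, 2, 3, 5, 4], ![1, 0, 2, 3, 5, 4], by decide, by decide⟩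
def H10 : Equiv.Perm (Fin 6) := ⟨![0, 1, 2, 3, 4, 5], ![0, 1, 2, 3, 4, 5], by decide, by decide⟩
def H11 : Equiv.Perm (Fin 6) := ⟨![5, 4, 3, 2, 0, 1], ![4, 5, 3, 2, 1, 0], by decide, by decide⟩
def H12 : Equiv.Perm (Fin 6) := ⟨![4, 5, 3, 2, 1, 0], ![5, 4, 3, 2, 0, 1], by decide, by decide⟩
def H20 : Equiv.Perm (Fin 6) := ⟨![0, 1, 2, 3, 4, 5], ![0, 1, 2, 3, 4, 5], by decide, by decide⟩
def H21 : Equiv.Perm (Fin 6) := ⟨![4, 5, 3, 2, 1, 0], ![5, 4, 3, 2, 0, 1], by decide, by decide⟩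
def H22 : Equiv.Perm (Fin 6) := ⟨![5, 4, 3, 2, 0, 1], ![4, 5, 3, 2, 1, 0], by decide, by decide⟩

def Uu (t : F9) : Equiv.Perm (Fin 6) :=
  (![![U00, U01, U02], ![U10, U11, U12], ![U20, U21, U22]] :
    Fin 3 → Fin 3 → Equiv.Perm (Fin 6)) t.re t.im
def Hh (t : F9) : Equiv.Perm (Fin 6) :=
  (![![U00, H01, H02], ![H10, H11, H12], ![H20, H21, H22]] :
    Fin 3 → Fin 3 → Equiv.Perm (Fin 6)) t.re t.im
def inv9 (t : F9) : F9 :=
  ⟨(t.re * t.re + t.im * t.im) * t.re, -((t.re * t.re + t.im * t.im) * t.im)⟩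

def f0 (a b c d : F9) : Equiv.Perm (Fin 6) :=
  if c = 0 then Hh a * Uu (b * inv9 a)
  else Uu (a * inv9 c) * W * Hh c * Uu (d * inv9 c)

theorem f0_one : f0 1 0 0 1 = 1 := by decide +kernel

theorem f0_X : ∀ t a b c d : F9, a * d - b * c = 1 →
    f0 a (a * t + b) c (c * t + d) = f0 a b c d * f0 1 t 0 1 := by decide +kernel

theorem f0_Y : ∀ t a b c d : F9, a * d - b * c = 1 →
    f0 (a + b * t) b (c + d * t) d = f0 a b c d * f0 1 0 t 1 := by decide +kernel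

theorem f0_neg : f0 (-1) 0 0 (-1) = 1 := by decide +kernel

theorem f0_ne : f0 1 1 0 1 ≠ 1 := by decide +kernel

/-- PSL_2(9) is isomorphic to A_6. -/
theorem result {F : Type*} [Field F] [Fintype F] (hF : Fintype.card F = 9) : Nonempty (Matrix.ProjectiveSpecialLinearGroup (Fin 2) F ≃* alternatingGroup (Fin 6)) := by
  obtain ⟨e⟩ := nonempty_pslEquiv (n := Fin 2) (F := F) (K := F9) (by rw [hF, card_F9])
  obtain ⟨φ, hφ⟩ := exists_hom_of_entries f0 f0_one f0_X f0_Y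
  obtain ⟨ψ, hψ⟩ := exists_injective_hom_PSL (F := F9)
    (by rw [Nat.card_eq_fintype_card, card_F9]; norm_num) φ
    (by
      intro g h1 h2 h3 h4
      rw [hφ, h1, h2, h3, h4]
      exact f0_neg)
    ⟨Matrix.SpecialLinearGroup.transvection (zero_ne_one : (0 : Fin 2) ≠ 1) 1, by
      rw [hφ, T01_entries]
      exact f0_ne⟩
  have hcard := Cfsg.Agent.S0243.result (F := F9) card_F9 2 le_rfl
  simp only [Fin.prod_univ_two] at hcard
  set N := Nat.card (Matrix.ProjectiveSpecialLinearGroup (Fin 2) F9) with hN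
  norm_num at hcard
  obtain ⟨e2⟩ := Cfsg.Agent.Lib.Helper6Perm.mulEquiv_alternating_of_injective (X := Fin 6) (n := 6)
    (by simp) ψ hψ (by
      have : Nat.factorial 6 = 720 := rfl
      omega)
  exact ⟨e.trans e2⟩

end Cfsg.Agent.S0254
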