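import Cfsg.Statements.S0514
import Cfsg.Agent.Lib.Helper11OddAut

set_option autoImplicit false
open Cfsg

namespace Cfsg.Agent.S0514

/-- In a finite group whose Sylow 2-subgroups are dihedral of order at least 4, the centralizer of any involution has a
normal subgroup of odd order whose index in the centralizer is a power of 2. -/
theorem result {X : Type*} [Group X] [Finite X]
    (S : Sylow 2 X) (n : ℕ) (hn : 2 ≤ n) (hS : Nonempty ((S : Subgroup X) ≃* DihedralGroup n)) (t : X)
    (ht : orderOf t = 2) :
    ∃ N : Subgroup (Subgroup.centralizer ({t} : Set X)), N.Normal ∧ Odd (Nat.card N) ∧ ∃ k : ℕ, N.index = 2 ^ k := by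
  have : NeZero n := ⟨by omega⟩
  obtain ⟨e⟩ := hS
  set C := Subgroup.centralizer ({t} : Set X) with hC
  have htC : t ∈ C := by
    rw [hC, Subgroup.mem_centralizer_singleton_iff]
  let t' : C := ⟨t, htC⟩
  have hcomm : ∀ c : C, c * t' = t' * c := by
    intro c
    apply Subtype.ext
    have := Subgroup.mem_centralizer_singleton_iff.mp c.2
    exact this
  have ht'1 : t' ≠ 1 := by
    intro h
    have : t = 1 := congrArg Subtype.val h
    rw [this, orderOf_one] at ht
    norm_num at ht
  have hF : Lib.Helper11Frobenius.FrobCond 2 C := by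
    intro Q hQ g hg hgp
    have hodd : Odd (orderOf g) := Nat.coprime_two_left.mp hgp.symm
    have hZn : (Subgroup.zpowers t').Normal := by
      refine ⟨?_⟩
      rintro x ⟨k, rfl⟩ c
      have h1 : c * t' ^ k * c⁻¹ = t' ^ k := by
        have : Commute c (t' ^ k) := Commute.zpow_right (hcomm c) k
        rw [this.eq]; group
      simp only
      rw [h1]
      exact Subgroup.zpow_mem _ (Subgroup.mem_zpowers _) _
    have hZp : IsPGroup 2 (Subgroup.zpowers t') := by
      apply IsPGroup.of_card (n := 1)
      rw [Nat.card_zpowers, Subgroup.orderOf_mk, ht]; norm_num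
    have hQ1 : IsPGroup 2 (Q ⊔ Subgroup.zpowers t' : Subgroup C) := hQ.to_sup_of_normal_right hZp
    have hg1 : g ∈ Subgroup.normalizer ((Q ⊔ Subgroup.zpowers t' : Subgroup C) : Set C) := by
      apply Lib.Helper11OddAut.mem_normalizer_sup _ _ _ hg
      rw [Subgroup.normalizer_eq_top]
      trivial
    have hfinal : g ∈ Subgroup.centralizer ((Q ⊔ Subgroup.zpowers t' : Subgroup C) : Set C) := by
      rcases Lib.Helper11OddAut.dihedral_sylow_aut S n e C.subtype C.subtype_injective _ hQ1 g hodd hg1
        with h | h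
      · exact h
      · exact Lib.Helper11OddAut.four_aut _ h.card_four g hodd hg1 t'
          (Subgroup.mem_sup_right (Subgroup.mem_zpowers _)) ht'1 (hcomm g)
    exact Subgroup.centralizer_le (show (Q : Set C) ⊆ _ from (le_sup_left : Q ≤ Q ⊔ _)) hfinal
  obtain ⟨N, hN, h1, k, hk⟩ := Lib.Helper11Frobenius.frobenius hF
  exact ⟨N, hN, Nat.coprime_two_left.mp h1.symm, k, hk⟩

end Cfsg.Agent.S0514
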