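import Cfsg.Statements.S0107
import Mathlib
import Cfsg.Agent.S0111
import Cfsg.Agent.Lib.Helper3Basic

set_option autoImplicit false
open Cfsg

namespace Cfsg.Agent.S0107

open Cfsg.Agent.Lib.Helper3Basic

theorem two_torsion (k : ℕ) (i : ZMod (2 ^ (k + 1))) (h2 : i * 2 = 0) (h0 : i ≠ 0) :
    i = ((2 ^ k : ℕ) : ZMod (2 ^ (k + 1))) := by
  haveI : NeZero (2 ^ (k + 1)) := ⟨by positivity⟩
  have h1 : ((i.val * 2 : ℕ) : ZMod (2 ^ (k + 1))) = 0 := by
    rw [Nat.cast_mul, ZMod.natCast_zmod_val]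
    exact_mod_cast h2
  rw [ZMod.natCast_eq_zero_iff] at h1
  have h1' : 2 ^ k * 2 ∣ i.val * 2 := by rw [← pow_succ]; exact h1
  have h3 : 2 ^ k ∣ i.val := Nat.dvd_of_mul_dvd_mul_right (by norm_num) h1'
  obtain ⟨c, hc⟩ := h3
  have hlt : i.val < 2 ^ (k + 1) := ZMod.val_lt i
  have hc2 : c < 2 := by
    have hlt' : 2 ^ k * c < 2 ^ k * 2 := by rw [← hc, ← pow_succ]; exact hlt
    exact Nat.lt_of_mul_lt_mul_left hlt'
  have hi : i = ((i.val : ℕ) : ZMod (2 ^ (k + 1))) := (ZMod.natCast_zmod_val i).symm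
  interval_cases c
  · exfalso
    apply h0
    rw [hi, hc]; simp
  · rw [hi, hc, mul_one]

theorem no_index_two {G : Type*} [Group G] [Finite G] (hO : Cfsg.pResidual 2 G = ⊤)
    (M : Subgroup G) (hM : M.Normal) (hi : M.index = 2) : False := by
  have hle : Cfsg.pResidual 2 G ≤ M := by
    unfold Cfsg.pResidual
    rw [Subgroup.closure_le]
    intro g hg
    have hg' : Nat.Coprime (orderOf g) 2 := hg
    have h1 : g ^ 2 ∈ M := by
      have := M.pow_index_mem g
      rwa [hi] at this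
    have h2 : g ^ orderOf g ∈ M := by rw [pow_orderOf_eq_one]; exact M.one_mem
    have h3 : g ^ (Nat.gcd (orderOf g) 2) ∈ M := by
      rw [← zpow_natCast, Nat.gcd_eq_gcd_ab, zpow_add, zpow_mul, zpow_mul, zpow_natCast,
        zpow_natCast]
      exact M.mul_mem (M.zpow_mem h2 _) (M.zpow_mem h1 _)
    rw [hg', pow_one] at h3
    exact h3
  rw [hO, top_le_iff] at hle
  rw [hle, Subgroup.index_top] at hi
  omega

/-- A finite group with no nontrivial 2-group quotient and dihedral Sylow 2-subgroups of order at least 8 has a single class of involutions. -/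
theorem result {G : Type*} [Group G] [Finite G] (T : Sylow 2 G) (n : ℕ) (hn : 2 ≤ n) (hT : Nonempty ((T : Subgroup G) ≃* DihedralGroup (2 ^ n))) (hO : Cfsg.pResidual 2 G = ⊤) (x y : G) (hx : orderOf x = 2) (hy : orderOf y = 2) : ∃ g : G, g * x * g⁻¹ = y := by
  obtain ⟨e⟩ := hT
  obtain ⟨k, rfl⟩ : ∃ k, n = k + 1 := ⟨n - 1, by omega⟩
  haveI : NeZero (2 ^ (k + 1)) := ⟨by positivity⟩
  set T₀ : Subgroup G := (T : Subgroup G) with hT₀
  set R₀ : Subgroup (DihedralGroup (2 ^ (k + 1))) := Subgroup.zpowers (DihedralGroup.r 1) with hR₀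
  have hR₀i : R₀.index = 2 := by
    have h1 := R₀.card_mul_index
    rw [hR₀, Nat.card_zpowers, DihedralGroup.orderOf_r_one, DihedralGroup.nat_card, mul_comm] at h1
    exact Nat.eq_of_mul_eq_mul_right (by positivity) h1
  set Q' : Subgroup T₀ := R₀.comap e.toMonoidHom with hQ'
  set Q : Subgroup G := Q'.map T₀.subtype with hQ
  have hQT : Q ≤ T₀ := Subgroup.map_subtype_le _
  have hQi : Q.relIndex T₀ = 2 := by
    have h1 : Q.subgroupOf T₀ = Q' := by
      rw [← Subgroup.comap_subtype]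
      exact Subgroup.comap_map_eq_self_of_injective T₀.subtype_injective Q'
    rw [Subgroup.relIndex, h1, hQ', Subgroup.index_comap_of_surjective _ e.surjective, hR₀i]
  set z₀ : DihedralGroup (2 ^ (k + 1)) := DihedralGroup.r ((2 ^ k : ℕ) : ZMod (2 ^ (k + 1))) with hz₀
  set z : G := ((e.symm z₀ : T₀) : G) with hz
  have hA : ∀ u ∈ Q, orderOf u = 2 → u = z := by
    rintro _ ⟨u, hu, rfl⟩ hu2
    have hu' : e u ∈ R₀ := hu
    obtain ⟨i, hi⟩ := Subgroup.mem_zpowers_iff.mp hu'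
    rw [DihedralGroup.r_one_zpow] at hi
    have ho : orderOf (e u) = 2 := by
      rw [MulEquiv.orderOf_eq]
      rw [← hu2]
      exact (Subgroup.orderOf_coe u).symm
    rw [← hi] at ho
    have h1 : (DihedralGroup.r (i : ZMod (2 ^ (k + 1)))) ^ 2 = 1 := by
      have := pow_orderOf_eq_one (DihedralGroup.r (i : ZMod (2 ^ (k + 1))))
      rwa [ho] at this
    rw [DihedralGroup.r_pow, DihedralGroup.one_def] at h1
    have h2 : (i : ZMod (2 ^ (k + 1))) * ((2 : ℕ) : ZMod (2 ^ (k + 1))) = 0 := by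
      injection h1
    have h3 : (i : ZMod (2 ^ (k + 1))) ≠ 0 := by
      intro h0
      rw [h0, DihedralGroup.r_zero, orderOf_one] at ho
      omega
    have h4 := two_torsion k _ (by exact_mod_cast h2) h3
    have h5 : e u = z₀ := by rw [← hi, h4]
    have h6 : u = e.symm z₀ := by rw [← h5, MulEquiv.symm_apply_apply]
    rw [h6]
    rfl
  have hC : ∀ u ∈ T₀, orderOf u = 2 → ∃ g : G, g * u * g⁻¹ = z := by
    intro u huT hu2
    by_cases huQ : u ∈ Q
    · exact ⟨1, by rw [hA u huQ hu2]; group⟩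
    rcases Cfsg.Agent.S0111.result T Q hQT hQi u hu2 huT huQ with ⟨M, hMn, hMi, -⟩ | ⟨g, hg⟩
    · exact absurd (no_index_two hO M hMn hMi) id
    · refine ⟨g, hA _ hg ?_⟩
      have : g * u * g⁻¹ = MulAut.conj g u := by simp
      rw [this, MulEquiv.orderOf_eq, hu2]
  have hD : ∀ u : G, orderOf u = 2 → ∃ g : G, g * u * g⁻¹ = z := by
    intro u hu2
    have hpg : IsPGroup 2 (Subgroup.zpowers u) := by
      apply IsPGroup.of_card (n := 1)
      rw [Nat.card_zpowers, hu2, pow_one]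
    obtain ⟨T', hT'⟩ := hpg.exists_le_sylow
    obtain ⟨h, hh⟩ := MulAction.exists_smul_eq G T T'
    have h1 : u ∈ T' := hT' (Subgroup.mem_zpowers u)
    rw [← hh, mem_smul_sylow] at h1
    have h2 : orderOf (h⁻¹ * u * h) = 2 := by
      have : h⁻¹ * u * h = MulAut.conj h⁻¹ u := by simp
      rw [this, MulEquiv.orderOf_eq, hu2]
    obtain ⟨g, hg⟩ := hC _ h1 h2
    exact ⟨g * h⁻¹, by rw [← hg]; group⟩
  obtain ⟨g₁, hg₁⟩ := hD x hx
  obtain ⟨g₂, hg₂⟩ := hD y hy
  refine ⟨g₂⁻¹ * g₁, ?_⟩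
  calc g₂⁻¹ * g₁ * x * (g₂⁻¹ * g₁)⁻¹ = g₂⁻¹ * (g₁ * x * g₁⁻¹) * g₂ := by group
    _ = g₂⁻¹ * (g₂ * y * g₂⁻¹) * g₂ := by rw [hg₁, hg₂]
    _ = y := by group

end Cfsg.Agent.S0107
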