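import Cfsg.Statements.S0850
import Cfsg.Agent.Lib.Helper19Ind

set_option autoImplicit false
open Cfsg

namespace Cfsg.Agent.S0850

theorem claimA {G : Type*} [Group G] [Finite G] (K : Subgroup G)
    (hC : ∀ k ∈ K, k ≠ 1 → Subgroup.centralizer ({k} : Set G) ≤ K)
    (p a : ℕ) (hp : p.Prime) (hpK : p ∣ Nat.card K) (y : G)
    (hy : y ∈ Subgroup.normalizer (K : Set G)) (hya : y ^ (p ^ a) = 1) : y ∈ K := by
  classical
  haveI : Fact p.Prime := ⟨hp⟩
  haveI : Fintype K := Fintype.ofFinite K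
  let f : Function.End K := fun k => ⟨y * k * y⁻¹, (Subgroup.mem_normalizer_iff.mp hy k).mp k.2⟩
  have hf : ∀ (j : ℕ) (k : K), (((f ^ j) k : K) : G) = y ^ j * k * (y ^ j)⁻¹ := by
    intro j
    induction j with
    | zero => intro k; simp only [pow_zero, one_mul, inv_one, mul_one]; rfl
    | succ j ih =>
      intro k
      rw [pow_succ']
      show y * ((f ^ j) k : K) * y⁻¹ = _
      rw [ih, pow_succ']
      group
  have hf1 : f ^ p ^ a = 1 := by
    funext k
    apply Subtype.ext
    rw [hf, hya]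
    simp only [one_mul, inv_one, mul_one]
    rfl
  have hmod := Equiv.Perm.card_fixedPoints_modEq hf1
  rw [Nat.card_eq_fintype_card] at hpK
  have hdvd : p ∣ Fintype.card (Function.fixedPoints f) :=
    (Nat.modEq_zero_iff_dvd.mp (hmod.symm.trans (Nat.modEq_zero_iff_dvd.mpr hpK)))
  have h1 : (1 : K) ∈ Function.fixedPoints f := by
    show f 1 = 1
    apply Subtype.ext
    show y * ((1 : K) : G) * y⁻¹ = 1
    simp
  have hpos : 0 < Fintype.card (Function.fixedPoints f) := Fintype.card_pos_iff.mpr ⟨⟨1, h1⟩⟩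
  have hlt : 1 < Fintype.card (Function.fixedPoints f) :=
    lt_of_lt_of_le hp.one_lt (Nat.le_of_dvd hpos hdvd)
  obtain ⟨⟨k, hk⟩, hne⟩ := Fintype.exists_ne_of_one_lt_card hlt ⟨1, h1⟩
  have hk1 : (k : G) ≠ 1 := by
    intro h
    apply hne
    apply Subtype.ext
    exact Subtype.ext h
  apply hC k k.2 hk1
  rw [Subgroup.mem_centralizer_singleton_iff]
  have h2 : y * (k : G) * y⁻¹ = k := congrArg Subtype.val hk
  calc y * (k : G) = y * k * y⁻¹ * y := by group
    _ = k * y := by rw [h2]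

theorem claimB {G : Type*} [Group G] [Finite G] (K : Subgroup G)
    (hC : ∀ k ∈ K, k ≠ 1 → Subgroup.centralizer ({k} : Set G) ≤ K) (n : ℕ) :
    ∀ x ∈ Subgroup.normalizer (K : Set G), x ^ n = 1 → n ∣ Nat.card K → x ∈ K := by
  induction n using Nat.recOnPosPrimePosCoprime with
  | prime_pow p a hp ha =>
    intro x hx hxn hdvd
    exact claimA K hC p a hp ((dvd_pow_self p ha.ne').trans hdvd) x hx hxn
  | zero =>
    intro x _ _ hdvd
    exact absurd (Nat.eq_zero_of_zero_dvd hdvd) Nat.card_pos.ne'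
  | one =>
    intro x _ hx _
    rw [pow_one] at hx
    rw [hx]; exact K.one_mem
  | coprime a b _ _ hab iha ihb =>
    intro x hx hxn hdvd
    obtain ⟨u, v, huv⟩ : IsCoprime (a:ℤ) (b:ℤ) := Nat.isCoprime_iff_coprime.mpr hab
    have h1 : x ^ a ∈ K := ihb (x ^ a) (Subgroup.pow_mem _ hx _) (by rw [← pow_mul]; exact hxn)
      ((Dvd.intro_left a rfl).trans hdvd)
    have h2 : x ^ b ∈ K := iha (x ^ b) (Subgroup.pow_mem _ hx _) (by rw [← pow_mul, mul_comm]; exact hxn)
      ((Dvd.intro b rfl).trans hdvd)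
    have h3 : x = (x ^ a) ^ u * (x ^ b) ^ v := by
      rw [← zpow_natCast x a, ← zpow_natCast x b, ← zpow_mul, ← zpow_mul, ← zpow_add]
      have : (a:ℤ) * u + (b:ℤ) * v = 1 := by linarith
      rw [this, zpow_one]
    rw [h3]
    exact K.mul_mem (K.zpow_mem h1 _) (K.zpow_mem h2 _)

theorem part2 {G : Type*} [Group G] [Fintype G] (K N : Subgroup G)
    (hTI : ∀ g : G, g ∉ N → ∀ k ∈ K, g * k * g⁻¹ ∈ K → k = 1)
    (part1 : ∀ x ∈ N, x ∉ K → ∀ g : G, g * x * g⁻¹ ∉ K)
    (ϑ : N → ℂ) (hϑ : Cfsg.IsClassFunction N ϑ) (hϑK : ∀ x : N, (x : G) ∉ K → ϑ x = 0)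
    (hϑ1 : ϑ 1 = 0) (x : N) : Cfsg.indFun N ϑ x = ϑ x := by
  classical
  rw [Lib.Helper19Ind.indFun_apply]
  by_cases hxK : (x : G) ∈ K
  · by_cases hx1 : x = 1
    · rw [hx1, hϑ1]
      have : ∀ g : G, extendByZero N ϑ (g⁻¹ * ((1 : N) : G) * g) = 0 := by
        intro g
        have h1 : g⁻¹ * ((1 : N) : G) * g = ((1 : N) : G) := by simp
        rw [h1, Lib.Helper19Ind.extendByZero_coe, hϑ1]
      simp only [this, Finset.sum_const_zero, mul_zero]
    · have hterm : ∀ g : G, extendByZero N ϑ (g⁻¹ * (x : G) * g) = if g ∈ N then ϑ x else 0 := by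
        intro g
        split_ifs with hg
        · have h1 : g⁻¹ * (x : G) * g = (((⟨g, hg⟩ : N)⁻¹ * x * (⟨g, hg⟩ : N)⁻¹⁻¹ : N) : G) := by
            simp
          rw [h1, Lib.Helper19Ind.extendByZero_coe, hϑ]
        · have hnK : g⁻¹ * (x : G) * g ∉ K := by
            intro h
            apply hx1
            apply Subtype.ext
            have hg' : g⁻¹ ∉ N := fun h' => hg (by simpa using N.inv_mem h')
            exact hTI g⁻¹ hg' x hxK (by rwa [inv_inv])
          by_cases hmem : g⁻¹ * (x : G) * g ∈ N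
          · rw [Lib.Helper19Ind.extendByZero_of_mem N ϑ hmem]
            exact hϑK _ hnK
          · exact Lib.Helper19Ind.extendByZero_of_not_mem N ϑ hmem
      simp only [hterm]
      rw [← Finset.sum_filter, Finset.sum_const, nsmul_eq_mul, ← mul_assoc]
      have hcard : ((Finset.univ.filter (fun g : G => g ∈ N)).card : ℂ) = (Nat.card N : ℂ) := by
        rw [Nat.card_eq_fintype_card, Fintype.card_subtype]
      rw [hcard, inv_mul_cancel₀ (Lib.Helper19Ind.card_ne_zero N), one_mul]
  · rw [hϑK x hxK]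
    have : ∀ g : G, extendByZero N ϑ (g⁻¹ * (x : G) * g) = 0 := by
      intro g
      have hnK : g⁻¹ * (x : G) * g ∉ K := by
        have := part1 x x.2 hxK g⁻¹
        rwa [inv_inv] at this
      by_cases hmem : g⁻¹ * (x : G) * g ∈ N
      · rw [Lib.Helper19Ind.extendByZero_of_mem N ϑ hmem]
        exact hϑK _ hnK
      · exact Lib.Helper19Ind.extendByZero_of_not_mem N ϑ hmem
    simp only [this, Finset.sum_const_zero, mul_zero]

/-- Let K be a subgroup of the finite group G that meets each conjugate by an element outside its normalizer N trivially, is properly contained in N, and contains the centralizer of each of its non-identity elements (a T.I. subgroup with Frobenius normalizer). Then no element of N outside K is conjugate in G to an element of K, and for every class function ϑ of N that vanishes on N away from K and at the identity, the function induced from ϑ to G agrees with ϑ on all of N. -/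
theorem result {G : Type*} [Group G] [Fintype G] (K : Subgroup G) (hTI : ∀ g : G, g ∉ Subgroup.normalizer (K : Set G) → ∀ k ∈ K, g * k * g⁻¹ ∈ K → k = 1) (hlt : K < Subgroup.normalizer (K : Set G)) (hC : ∀ k ∈ K, k ≠ 1 → Subgroup.centralizer ({k} : Set G) ≤ K) : (∀ x ∈ Subgroup.normalizer (K : Set G), x ∉ K → ∀ g : G, g * x * g⁻¹ ∉ K) ∧ ∀ (ϑ : Subgroup.normalizer (K : Set G) → ℂ), Cfsg.IsClassFunction (Subgroup.normalizer (K : Set G)) ϑ → (∀ x : Subgroup.normalizer (K : Set G), (x : G) ∉ K → ϑ x = 0) → ϑ 1 = 0 → ∀ x : Subgroup.normalizer (K : Set G), Cfsg.indFun (Subgroup.normalizer (K : Set G)) ϑ x = ϑ x := by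
  classical
  have part1 : ∀ x ∈ Subgroup.normalizer (K : Set G), x ∉ K → ∀ g : G, g * x * g⁻¹ ∉ K := by
    intro x hx hxK g hg
    apply hxK
    apply claimB K hC (Nat.card K) x hx _ dvd_rfl
    have h1 : (g * x * g⁻¹) ^ Nat.card K = 1 := by
      have := pow_card_eq_one' (x := (⟨g * x * g⁻¹, hg⟩ : K))
      exact congrArg Subtype.val this
    rw [conj_pow] at h1
    have : x ^ Nat.card K = g⁻¹ * (g * x ^ Nat.card K * g⁻¹) * g := by group
    rw [this, h1]; group
  exact ⟨part1, fun ϑ hϑ hϑK hϑ1 x => part2 K _ hTI part1 ϑ hϑ hϑK hϑ1 x⟩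

end Cfsg.Agent.S0850
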