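import Cfsg.Statements.S0667
import Cfsg.Agent.Lib.Helper15PStable2
import Cfsg.Agent.Lib.Helper14PConstr
import Cfsg.Agent.S0653
import Mathlib

set_option autoImplicit false
open Cfsg

namespace Cfsg.Agent.S0667

open Cfsg.Agent.Lib.Helper15PStable Cfsg.Agent.Lib.Helper15PStable2 Cfsg.Agent.Lib.Helper14CoreB

/-- Glauberman's Theorem in the p-constrained, p-stable vocabulary: for odd p such a group is the product of its largest normal subgroup of order prime to p with the normalizer of Z(J(P)), and Z(J(P)) is normal when that p'-subgroup is trivial. -/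
theorem result {G : Type*} [Group G] [Finite G] {p : ℕ} [Fact p.Prime] (hp : p ≠ 2) (hc : Cfsg.IsPConstrained p G) (hs : Cfsg.IsPStable p G) (P : Sylow p G) : Cfsg.pPrimeCore p G ⊔ Subgroup.normalizer (Cfsg.centerThompsonAOf ((P : Subgroup G)) : Set G) = ⊤ ∧ (Cfsg.pPrimeCore p G = ⊥ → (Cfsg.centerThompsonAOf ((P : Subgroup G))).Normal) := by
  have main : Cfsg.pPrimeCore p G ⊔
      Subgroup.normalizer (Cfsg.centerThompsonAOf ((P : Subgroup G)) : Set G) = ⊤ := by
    set π := QuotientGroup.mk' (pPrimeCore p G) with hπ
    have hsurj : Function.Surjective π := QuotientGroup.mk'_surjective _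
    have hker : π.ker = pPrimeCore p G := QuotientGroup.ker_mk' _
    have hcop : (Nat.card π.ker).Coprime p := ker_mk_coprime
    have hs' := isPStable_quotient hs
    have hc' := Cfsg.Agent.Lib.Helper14PConstr.isPConstrained_iff.1 hc
    have hchar := Cfsg.Agent.S0653.result hp hc'
      (fun V _ hV => isPStableOn_of_isPStable hs' V hV) (P.mapSurjective hsurj)
    rw [Sylow.coe_mapSurjective,
      centerThompsonAOf_map π (inf_eq_bot_of_coprime' P.2 hcop)] at hchar
    have hnorm : ((centerThompsonAOf (P : Subgroup G)).map π).Normal := inferInstance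
    have hZ : IsPGroup p (centerThompsonAOf (P : Subgroup G)) :=
      P.2.to_le (centerThompsonAOf_le _)
    have h1 : (centerThompsonAOf (P : Subgroup G) ⊔ pPrimeCore p G).Normal := by
      rw [← hker, ← Subgroup.comap_map_eq]
      exact hnorm.comap _
    have h2 := Cfsg.Agent.Lib.Helper27Loc.normalizer_le_sup (p := p)
      (inferInstance : (pPrimeCore p G).Normal) (card_pPrimeCore_coprime p) hZ
    rw [Subgroup.normalizer_eq_top_iff.2 h1, top_le_iff, sup_comm] at h2
    exact h2
  refine ⟨main, fun h0 => ?_⟩
  rw [h0, bot_sup_eq] at main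
  exact Subgroup.normalizer_eq_top_iff.1 main

end Cfsg.Agent.S0667
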