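import Cfsg.Statements.S0658
import Cfsg.Agent.Lib.Helper14WBasic
import Cfsg.Agent.Lib.Helper40Alperin
import Cfsg.Agent.S0667

set_option autoImplicit false
open Cfsg

namespace Cfsg.Agent.S0658

open Cfsg.Agent.Lib.Helper14WBasic Cfsg.Agent.Lib.Helper40Sylow Cfsg.Agent.Lib.Helper40Alperin

/-- In a group of characteristic p type all of whose p-locals are p-stable (p odd), the normalizer of Z(J(P)) contains the normalizer of every nontrivial subgroup of the Sylow p-subgroup P. -/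
theorem result {G : Type*} [Group G] [Finite G] {p : ℕ} [Fact p.Prime] (hp : p ≠ 2) (hloc : ∀ Q : Subgroup G, IsPGroup p Q → Q ≠ ⊥ → Cfsg.pPrimeCore p ↥(Subgroup.normalizer (Q : Set G)) = ⊥ ∧ Cfsg.IsPConstrained p ↥(Subgroup.normalizer (Q : Set G)) ∧ Cfsg.IsPStable p ↥(Subgroup.normalizer (Q : Set G))) (P : Sylow p G) (Q : Subgroup G) (hQP : Q ≤ (P : Subgroup G)) (hQ1 : Q ≠ ⊥) : Subgroup.normalizer (Q : Set G) ≤ Subgroup.normalizer (Cfsg.centerThompsonAOf ((P : Subgroup G)) : Set G) := by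
  classical
  set M := Subgroup.normalizer (Cfsg.centerThompsonAOf ((P : Subgroup G)) : Set G) with hM
  have hPM : (P : Subgroup G) ≤ M :=
    Subgroup.le_normalizer.trans (normalizer_le_normalizer_centerThompsonAOf _)
  by_contra hcon
  have hne : Nonempty {Q : Subgroup G // Q ≤ P ∧ Q ≠ ⊥ ∧ ¬ Subgroup.normalizer (Q : Set G) ≤ M} :=
    ⟨⟨Q, hQP, hQ1, hcon⟩⟩
  obtain ⟨⟨Q₀, hQ₀P, hQ₀1, hQ₀M⟩, hmax⟩ := Finite.exists_max
    (fun Q : {Q : Subgroup G // Q ≤ P ∧ Q ≠ ⊥ ∧ ¬ Subgroup.normalizer (Q : Set G) ≤ M} =>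
      Nat.card ((P : Subgroup G) ⊓ Subgroup.normalizer ((Q : Subgroup G) : Set G) : Subgroup G))
  set R := (P : Subgroup G) ⊓ Subgroup.normalizer (Q₀ : Set G) with hR
  have key : ∀ Q' : Subgroup G, Q' ≤ P → Q' ≠ ⊥ →
      Nat.card R < Nat.card ((P : Subgroup G) ⊓ Subgroup.normalizer (Q' : Set G) : Subgroup G) →
      Subgroup.normalizer (Q' : Set G) ≤ M := by
    intro Q' h1 h2 h3
    by_contra h4
    exact absurd (hmax ⟨Q', h1, h2, h4⟩) (not_le.mpr h3)
  have hQ₀R : Q₀ ≤ R := le_inf hQ₀P Subgroup.le_normalizer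
  have hRP : R ≤ P := inf_le_left
  have hRp : IsPGroup p R := P.2.to_le hRP
  have hR1 : R ≠ ⊥ := fun h => hQ₀1 (eq_bot_iff.mpr (h ▸ hQ₀R))
  -- consequences of `R < P`
  have hlt_key : R < P → Subgroup.normalizer (R : Set G) ≤ M := fun hlt =>
    key R hRP hR1 (card_lt_card_inf_normalizer P.2 hlt)
  -- `R` is Sylow in the normalizer
  have hSyl : IsSylowIn p R (Subgroup.normalizer (Q₀ : Set G)) := by
    obtain ⟨Rs, hRs, hRRs⟩ := exists_isSylowIn_ge hRp (inf_le_right : R ≤ _)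
    by_cases hEq : R = Rs
    · rw [hEq]; exact hRs
    · exfalso
      have hlt : R < Rs := lt_of_le_of_ne hRRs hEq
      have hRP' : R < P := by
        refine lt_of_le_of_ne hRP ?_
        intro h
        have h1 : (P : Subgroup G) ≤ Rs := h ▸ hRRs
        have h2 : Rs = P := P.is_maximal' hRs.2.1 h1
        exact hEq (h.trans h2.symm)
      have hNR := hlt_key hRP'
      set R₁ := Rs ⊓ Subgroup.normalizer (R : Set G) with hR₁
      have hcard : Nat.card R < Nat.card R₁ := card_lt_card_inf_normalizer hRs.2.1 hlt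
      have hR₁M : R₁ ≤ M := inf_le_right.trans hNR
      obtain ⟨m, hm, hmP⟩ := (isSylowIn_of_le P hPM).exists_conj_le
        (hRs.2.1.to_le inf_le_left : IsPGroup p R₁) hR₁M
      have hQR₁ : Q₀ ≤ R₁ := hQ₀R.trans (le_inf hRRs Subgroup.le_normalizer)
      have h1 : cj m Q₀ ≤ P := (cj_mono hQR₁).trans hmP
      have h2 : cj m Q₀ ≠ ⊥ := by
        intro h
        apply hQ₀1
        have h3 : Nat.card Q₀ = 1 := by rw [← card_cj m Q₀, h]; exact Subgroup.card_bot
        exact Subgroup.card_eq_one.mp h3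
      have h3 : cj m R₁ ≤ (P : Subgroup G) ⊓ Subgroup.normalizer ((cj m Q₀ : Subgroup G) : Set G) := by
        refine le_inf hmP ?_
        rw [normalizer_cj]
        exact cj_mono (inf_le_left.trans hRs.1)
      have h4 := key (cj m Q₀) h1 h2 (by
        have := Subgroup.card_le_of_le h3
        rw [card_cj] at this
        omega)
      rw [normalizer_cj] at h4
      apply hQ₀M
      have h5 := cj_mono (g := m⁻¹) h4
      rw [cj_inv_cj, cj_eq_self_of_mem (inv_mem hm)] at h5
      exact h5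
  -- the ZJ theorem in the normalizer
  obtain ⟨hl1, hl2, hl3⟩ := hloc Q₀ (P.2.to_le hQ₀P) hQ₀1
  have hZJ := (Cfsg.Agent.S0667.result hp hl2 hl3 hSyl.toSylow).2 hl1
  have hmapR : ((hSyl.toSylow : Sylow p ↥(Subgroup.normalizer (Q₀ : Set G))) :
      Subgroup ↥(Subgroup.normalizer (Q₀ : Set G))).map
        (Subgroup.normalizer (Q₀ : Set G)).subtype = R := by
    rw [hSyl.coe_toSylow]
    exact Cfsg.Agent.Lib.Helper14Family.map_subgroupOf hSyl.1
  have hNW : Subgroup.normalizer (Q₀ : Set G) ≤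
      Subgroup.normalizer (Cfsg.centerThompsonAOf R : Set G) := by
    have := le_normalizer_map_subtype (hZ := hZJ)
    rwa [← centerThompsonAOf_subtype, hmapR] at this
  by_cases hRP' : R = P
  · apply hQ₀M
    rw [hRP'] at hNW
    exact hNW
  · have hlt : R < P := lt_of_le_of_ne hRP hRP'
    apply hQ₀M
    refine hNW.trans (key _ ((centerThompsonAOf_le R).trans hRP) (centerThompsonAOf_ne_bot hRp hR1) ?_)
    refine (card_lt_card_inf_normalizer P.2 hlt).trans_le (Subgroup.card_le_of_le ?_)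
    exact inf_le_inf_left _ (normalizer_le_normalizer_centerThompsonAOf R)

end Cfsg.Agent.S0658
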