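import Cfsg.Statements.S1464
import Cfsg.Agent.Lib.Helper31PStable

set_option autoImplicit false
open Cfsg

namespace Cfsg.Agent.S1464

open scoped commutatorElement

/-- Let p be an odd prime and G a solvable group of odd order, P a p-subgroup with O_{p'}(G)P normal in G, and A a p-subgroup of N_G(P) with [[P, A], A] = 1. Then the image of A in the quotient N_G(P)/C_G(P) is contained in the p-core of that quotient. -/
theorem result {G : Type*} [Group G] [Finite G] [Group.IsSolvable G] (hodd : Odd (Nat.card G)) (p : ℕ) [Fact p.Prime] (hp : p ≠ 2) (P A : Subgroup G) (hP : IsPGroup p P) (hPn : (Cfsg.pPrimeCore p G ⊔ P).Normal)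
    (hA : IsPGroup p A) (hAN : A ≤ Subgroup.normalizer (P : Set G)) (hquad : ⁅⁅P, A⁆, A⁆ = ⊥) :
    (A.subgroupOf (Subgroup.normalizer (P : Set G))).map
        (QuotientGroup.mk' ((Subgroup.centralizer (P : Set G)).subgroupOf (Subgroup.normalizer (P : Set G))))
      ≤ Cfsg.pCore p _ := by
  have key := Cfsg.Agent.Lib.Helper31PStable.map_le_pCore hodd p hp P hP
    (Subgroup.normalizer (P : Set G)).subtype (fun n => n.2)
    (QuotientGroup.mk' ((Subgroup.centralizer (P : Set G)).subgroupOf (Subgroup.normalizer (P : Set G))))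
    (QuotientGroup.mk'_surjective _) ?_
    ((A.subgroupOf (Subgroup.normalizer (P : Set G)) : Subgroup _) : Set _) ?_
  · rwa [Subgroup.closure_eq] at key
  · intro n hn
    rw [QuotientGroup.mk'_apply, QuotientGroup.eq_one_iff, Subgroup.mem_subgroupOf,
      Subgroup.mem_centralizer_iff]
    intro u hu
    exact (hn u hu).symm
  · intro x hx u hu
    have hx' : (x : G) ∈ A := Subgroup.mem_subgroupOf.1 hx
    have h1 : ⁅⁅u, (x : G)⁆, (x : G)⁆ ∈ ⁅⁅P, A⁆, A⁆ :=
      Subgroup.commutator_mem_commutator (Subgroup.commutator_mem_commutator hu hx') hx'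
    rw [hquad, Subgroup.mem_bot] at h1
    exact h1

end Cfsg.Agent.S1464
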