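import Cfsg.Statements.S1516
import Cfsg.Agent.Lib.Helper32Sub2

set_option autoImplicit false
set_option linter.unusedSectionVars false
open Cfsg

namespace Cfsg.Agent.S1516

open Cfsg.Agent.Lib.Helper4Char Cfsg.Agent.Lib.Helper4Char2 Cfsg.Agent.Lib.Helper4Char4
open Cfsg.Agent.Lib.Helper32Virt Cfsg.Agent.Lib.Helper32Coh Cfsg.Agent.Lib.Helper32Sub
open Cfsg.Agent.Lib.Helper32Sub2

theorem bessel_real {G : Type*} [Group G] [Fintype G] {ι : Type*} [DecidableEq ι] (s : Finset ι)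
    (e : ι → G → ℂ) (N : ι → ℝ) (hN : ∀ i ∈ s, 0 < N i) (hself : ∀ i ∈ s, ip (e i) (e i) = N i)
    (horth : ∀ i ∈ s, ∀ j ∈ s, i ≠ j → ip (e i) (e j) = 0) (Y : G → ℂ) :
    ∑ i ∈ s, (ip Y (e i)) ^ 2 / N i ≤ ip Y Y := by
  set P : G → ℂ := ∑ i ∈ s, (((ip Y (e i)) / N i : ℝ) : ℂ) • e i with hP
  have h1 : ∀ j ∈ s, ip P (e j) = ip Y (e j) := by
    intro j hj
    rw [hP, ip_sum_left, Finset.sum_eq_single j]
    · rw [ip_smul_left, hself j hj, div_mul_cancel₀ _ (hN j hj).ne']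
    · intro i hi hne
      rw [ip_smul_left, horth i hi j hj hne, mul_zero]
    · intro h; exact absurd hj h
  have h2 : ip Y P = ∑ i ∈ s, (ip Y (e i)) ^ 2 / N i := by
    rw [hP, ip_sum_right]
    apply Finset.sum_congr rfl
    intro i _
    rw [ip_smul_right]; ring
  have h3 : ip P P = ∑ i ∈ s, (ip Y (e i)) ^ 2 / N i := by
    have : ip P P = ip P (∑ i ∈ s, (((ip Y (e i)) / N i : ℝ) : ℂ) • e i) := by rw [← hP]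
    rw [this, ip_sum_right]
    apply Finset.sum_congr rfl
    intro i hi
    rw [ip_smul_right, h1 i hi]; ring
  have h4 := ip_self_nonneg (Y - P)
  rw [ip_sub_left, ip_sub_right, ip_sub_right, ip_comm P Y, h2, h3] at h4
  linarith

theorem arith (a d₁ Sg b : ℝ) (bz : ℤ) (hb : b = bz) (ha : 0 ≤ a) (hd₁ : 0 < d₁)
    (hS : 2 * (d₁ * a) * d₁ < Sg) (h : b ^ 2 / d₁ ^ 2 * Sg ≤ 2 * a * b) : b = 0 := by
  by_contra hne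
  have hb2 : 0 < b ^ 2 := by positivity
  have hq : 0 < b ^ 2 / d₁ ^ 2 := by positivity
  have h1 : b ^ 2 / d₁ ^ 2 * (2 * (d₁ * a) * d₁) < b ^ 2 / d₁ ^ 2 * Sg :=
    mul_lt_mul_of_pos_left hS hq
  have h2 : b ^ 2 / d₁ ^ 2 * (2 * (d₁ * a) * d₁) = 2 * a * b ^ 2 := by
    field_simp
  have h3 : b ≤ b ^ 2 := by
    rw [hb]
    have : bz ≤ bz ^ 2 := Int.le_self_sq bz
    exact_mod_cast this
  have h4 : 2 * a * b ≤ 2 * a * b ^ 2 := by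
    apply mul_le_mul_of_nonneg_left h3; positivity
  linarith

section

variable {L : Type*} [Group L] [Fintype L] {G : Type*} [Group G] [Fintype G]
variable {S : Set (L → ℂ)} {τ : (L → ℂ) → (G → ℂ)} {R : (L → ℂ) → Finset (G → ℂ)}
variable (hS : IsCoherenceSystem S τ R)
variable (S₁ : Finset (L → ℂ)) (hS₁ : ↑S₁ ⊆ S) (hS₁c : ∀ φ ∈ S₁, conjFun φ ∈ S₁)
variable (τ₁ : (L → ℂ) → (G → ℂ)) (hτ₁ : IsLinearIsometryOn (zspan (↑S₁ : Set (L → ℂ))) τ₁)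
variable (hag₁ : ∀ α ∈ zspanOn (↑S₁ : Set (L → ℂ)) {1}ᶜ, τ₁ α = τ α)
include hS hS₁ hS₁c hτ₁ hag₁

theorem ip₁ {a b : L → ℂ} (ha : a ∈ zspan (↑S₁ : Set (L → ℂ)))
    (hb : b ∈ zspan (↑S₁ : Set (L → ℂ))) : ip (τ₁ a) (τ₁ b) = ip a b := by
  unfold ip; rw [iso_inner hτ₁ ha hb]

/-- Peterfalvi (5.5) -/
theorem in_span {ξ : L → ℂ} (hξ : ξ ∈ S₁) : τ₁ ξ = proj (R ξ) (τ₁ ξ) := by
  have m1 : ξ ∈ zspan (↑S₁ : Set (L → ℂ)) := zspan_of_mem hξ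
  have m2 : conjFun ξ ∈ zspan (↑S₁ : Set (L → ℂ)) := zspan_of_mem (hS₁c ξ hξ)
  have m3 : ξ - conjFun ξ ∈ zspanOn (↑S₁ : Set (L → ℂ)) {1}ᶜ := by
    rw [mem_zspanOn_one]
    exact ⟨zspan_sub m1 m2, by rw [Pi.sub_apply, conj_one hS (hS₁ hξ), sub_self]⟩
  apply proj_eq_self hS (hS₁ hξ) (iso_gen hτ₁ m1)
  · rw [← hag₁ _ m3, ip₁ hS S₁ hS₁ hS₁c τ₁ hτ₁ hag₁ m1 m3.1, ip_sub_right, ip_conj hS (hS₁ hξ),
      sub_zero]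
  · rw [ip₁ hS S₁ hS₁ hS₁c τ₁ hτ₁ hag₁ m1 m1]

theorem perp {χ ξ : L → ℂ} (hχ : χ ∈ S) (hξ : ξ ∈ S₁) (hfar : Far χ ξ) {α : G → ℂ}
    (hα : α ∈ R χ) : classInner α (τ₁ ξ) = 0 := by
  rw [in_span hS S₁ hS₁ hS₁c τ₁ hτ₁ hag₁ hξ, ← classInner_conj_symm,
    inner_proj_of_orth _ (fun β hβ => R_orth hS hχ (hS₁ hξ) hfar β hβ α hα), map_zero]

theorem step2 (d n : (L → ℂ) → ℕ) (hd : ∀ φ ∈ S, φ 1 = (d φ : ℂ))
    (hn : ∀ φ ∈ S, classInner φ φ = (n φ : ℂ))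
    {χ : L → ℂ} (hχ : χ ∈ S) (hχ₁ : χ ∉ S₁) (hχ₂ : conjFun χ ∉ S₁) {ξ₁ : L → ℂ} (hξ₁ : ξ₁ ∈ S₁)
    (a : ℕ) (hda : d χ = d ξ₁ * a)
    (hineq : (2 * d χ * d ξ₁ : ℝ) < ∑ φ ∈ S₁, ((d φ : ℝ) ^ 2 / (n φ : ℝ))) :
    τ (χ - (a : ℤ) • ξ₁) = proj (R χ) (τ (χ - (a : ℤ) • ξ₁)) - (a : ℤ) • τ₁ ξ₁ ∧
      ip (proj (R χ) (τ (χ - (a : ℤ) • ξ₁))) (proj (R χ) (τ (χ - (a : ℤ) • ξ₁))) = ip χ χ ∧
      ip (proj (R χ) (τ (χ - (a : ℤ) • ξ₁))) (τ (χ - conjFun χ)) = ip χ χ := by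
  classical
  have hfar : ∀ ξ ∈ S₁, Far χ ξ := fun ξ hξ => ⟨fun e => hχ₁ (e ▸ hξ), fun e => hχ₂ (e ▸ hξ)⟩
  have hN : ∀ φ ∈ S, ip φ φ = n φ := by
    intro φ hφ; unfold ip; rw [hn φ hφ]; simp
  have hξ₁S := hS₁ hξ₁
  have f1 := hfar ξ₁ hξ₁
  set β := χ - (a : ℤ) • ξ₁ with hβ
  have mβ : β ∈ zspanOn S {1}ᶜ := by
    rw [mem_zspanOn_one]
    refine ⟨zspan_sub (zspan_of_mem hχ) (zspan_zsmul _ (zspan_of_mem hξ₁S)), ?_⟩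
    rw [hβ, Pi.sub_apply, zsmul_apply', hd χ hχ, hd ξ₁ hξ₁S, hda]; push_cast; ring
  set v := τ β with hv
  have hvg : IsGeneralizedCharacter G v := iso_gen hS.isometry mβ
  have o1 : ip χ ξ₁ = 0 := ip_far hS hχ hξ₁S f1
  have o2 : ip ξ₁ χ = 0 := by rw [ip_comm, o1]
  have o3 : ip ξ₁ (conjFun χ) = 0 := ip_far hS hξ₁S (hS.conj_mem χ hχ) f1.conj_left.symm
  have hvD : ip v (τ (χ - conjFun χ)) = ip χ χ := by
    rw [hv, iso_ip hS mβ (sub_conj_mem hS hχ), hβ]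
    simp only [ip_sub_left, ip_sub_right, ip_zsmul_left]
    rw [ip_conj hS hχ, o2, o3]; ring
  have hvv : ip v v = ip χ χ + (a : ℝ) ^ 2 * ip ξ₁ ξ₁ := by
    rw [hv, iso_ip hS mβ mβ, hβ]
    simp only [ip_sub_left, ip_sub_right, ip_zsmul_left, ip_zsmul_right]
    rw [o1, o2]; push_cast; ring
  set X := proj (R χ) v with hX
  have hXg : IsGeneralizedCharacter G X := (on hS hχ).proj_gen hvg
  have k : ip χ χ ≤ ip X X := key hS hχ hvg hvD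
  have py := (on hS hχ).pythag v
  rw [← hX] at py
  set Y := X - v with hY
  have hYg : IsGeneralizedCharacter G Y := gen_sub hXg hvg
  have hYY : ip Y Y = ip (v - X) (v - X) := by
    have : Y = -(v - X) := by rw [hY]; abel
    rw [this, ip_neg_left, ip_neg_right, neg_neg]
  have hXperp : ∀ ξ ∈ S₁, ip X (τ₁ ξ) = 0 := fun ξ hξ =>
    ip_of_inner_eq_zero (inner_proj_of_orth v
      (fun α hα => perp hS S₁ hS₁ hS₁c τ₁ hτ₁ hag₁ hχ hξ (hfar ξ hξ) hα))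
  have hy : ∀ ξ ∈ S₁, ip Y (τ₁ ξ) = - ip v (τ₁ ξ) := by
    intro ξ hξ
    rw [hY, ip_sub_left, hXperp ξ hξ]; ring
  have hd₁pos : (0 : ℝ) < d ξ₁ := by
    have : d ξ₁ ≠ 0 := by
      intro h0
      apply degree_ne_zero hS hξ₁S
      rw [hd ξ₁ hξ₁S, h0]; simp
    exact_mod_cast Nat.pos_of_ne_zero this
  have hrel : ∀ ξ ∈ S₁, (d ξ : ℝ) * ip v (τ₁ ξ₁) - (d ξ₁ : ℝ) * ip v (τ₁ ξ) =
      - (a : ℝ) * ((d ξ : ℝ) * ip ξ₁ ξ₁ - (d ξ₁ : ℝ) * ip ξ₁ ξ) := by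
    intro ξ hξ
    have hξS := hS₁ hξ
    have mγ₁ : (d ξ : ℤ) • ξ₁ - (d ξ₁ : ℤ) • ξ ∈ zspanOn (↑S₁ : Set (L → ℂ)) {1}ᶜ := by
      rw [mem_zspanOn_one]
      refine ⟨zspan_sub (zspan_zsmul _ (zspan_of_mem hξ₁)) (zspan_zsmul _ (zspan_of_mem hξ)), ?_⟩
      rw [Pi.sub_apply, zsmul_apply', zsmul_apply', hd ξ hξS, hd ξ₁ hξ₁S]; push_cast; ring
    have mγ := zspanOn_mono hS₁ mγ₁
    have r1 : ip v (τ₁ ((d ξ : ℤ) • ξ₁ - (d ξ₁ : ℤ) • ξ)) = ip β ((d ξ : ℤ) • ξ₁ - (d ξ₁ : ℤ) • ξ) := by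
      rw [hag₁ _ mγ₁, hv, iso_ip hS mβ mγ]
    rw [iso_sub closed_zspan hτ₁ (zspan_zsmul _ (zspan_of_mem hξ₁)) (zspan_zsmul _ (zspan_of_mem hξ)),
      iso_zsmul hτ₁ _ (zspan_of_mem hξ₁), iso_zsmul hτ₁ _ (zspan_of_mem hξ), hβ] at r1
    simp only [ip_sub_left, ip_sub_right, ip_zsmul_left, ip_zsmul_right] at r1
    rw [o1, ip_far hS hχ hξS (hfar ξ hξ)] at r1
    push_cast at r1
    linarith
  set b : ℝ := (a : ℝ) * ip ξ₁ ξ₁ - ip Y (τ₁ ξ₁) with hb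
  have hform : ∀ ξ ∈ S₁, ip Y (τ₁ ξ) = (a : ℝ) * ip ξ₁ ξ - b * (d ξ : ℝ) / (d ξ₁ : ℝ) := by
    intro ξ hξ
    have h1 := hrel ξ hξ
    rw [hy ξ hξ, hb, hy ξ₁ hξ₁]
    field_simp
    linarith
  have hnpos : ∀ ξ ∈ S₁, (0 : ℝ) < n ξ := by
    intro ξ hξ
    rw [← hN ξ (hS₁ hξ)]
    exact norm_pos hS (hS₁ hξ)
  have hbes := bessel_real S₁ τ₁ (fun ξ => (n ξ : ℝ)) hnpos
    (fun ξ hξ => by
      rw [ip₁ hS S₁ hS₁ hS₁c τ₁ hτ₁ hag₁ (zspan_of_mem hξ) (zspan_of_mem hξ), hN ξ (hS₁ hξ)])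
    (fun ξ hξ ξ' hξ' hne => by
      rw [ip₁ hS S₁ hS₁ hS₁c τ₁ hτ₁ hag₁ (zspan_of_mem hξ) (zspan_of_mem hξ')]
      exact ip_of_inner_eq_zero (hS.orthogonal ξ (hS₁ hξ) ξ' (hS₁ hξ') hne)) Y
  have hoff : ∀ ξ ∈ S₁, ξ ≠ ξ₁ → ip ξ₁ ξ = 0 := fun ξ hξ hne =>
    ip_of_inner_eq_zero (hS.orthogonal ξ₁ hξ₁S ξ (hS₁ hξ) (Ne.symm hne))
  have s1 : ∑ ξ ∈ S₁, (ip ξ₁ ξ) ^ 2 / (n ξ : ℝ) = ip ξ₁ ξ₁ := by
    rw [Finset.sum_eq_single ξ₁]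
    · rw [hN ξ₁ hξ₁S]
      have := (hnpos ξ₁ hξ₁).ne'
      field_simp
    · intro ξ hξ hne
      rw [hoff ξ hξ hne]; simp
    · intro h; exact absurd hξ₁ h
  have s2 : ∑ ξ ∈ S₁, (d ξ : ℝ) * ip ξ₁ ξ / (n ξ : ℝ) = d ξ₁ := by
    rw [Finset.sum_eq_single ξ₁]
    · rw [hN ξ₁ hξ₁S]
      have := (hnpos ξ₁ hξ₁).ne'
      field_simp
    · intro ξ hξ hne
      rw [hoff ξ hξ hne]; simp
    · intro h; exact absurd hξ₁ h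
  have hsum : ∑ ξ ∈ S₁, (ip Y (τ₁ ξ)) ^ 2 / (n ξ : ℝ) = (a : ℝ) ^ 2 * ip ξ₁ ξ₁ - 2 * a * b +
      b ^ 2 / (d ξ₁ : ℝ) ^ 2 * ∑ φ ∈ S₁, ((d φ : ℝ) ^ 2 / (n φ : ℝ)) := by
    have e : ∀ ξ ∈ S₁, (ip Y (τ₁ ξ)) ^ 2 / (n ξ : ℝ) =
        (a : ℝ) ^ 2 * ((ip ξ₁ ξ) ^ 2 / (n ξ : ℝ)) -
          (2 * a * b / (d ξ₁ : ℝ)) * ((d ξ : ℝ) * ip ξ₁ ξ / (n ξ : ℝ)) +
          b ^ 2 / (d ξ₁ : ℝ) ^ 2 * ((d ξ : ℝ) ^ 2 / (n ξ : ℝ)) := by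
      intro ξ hξ
      rw [hform ξ hξ]
      have := (hnpos ξ hξ).ne'
      have := hd₁pos.ne'
      field_simp
      ring
    rw [Finset.sum_congr rfl e, Finset.sum_add_distrib, Finset.sum_sub_distrib, ← Finset.mul_sum,
      ← Finset.mul_sum, ← Finset.mul_sum, s1, s2]
    have := hd₁pos.ne'
    field_simp
  have hYle : ip Y Y ≤ (a : ℝ) ^ 2 * ip ξ₁ ξ₁ := by
    rw [hYY]; linarith
  obtain ⟨m, hm⟩ := gen_ip_int hYg (iso_gen hτ₁ (zspan_of_mem hξ₁))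
  have hb0 : b = 0 := by
    apply arith (a : ℝ) (d ξ₁ : ℝ) (∑ φ ∈ S₁, ((d φ : ℝ) ^ 2 / (n φ : ℝ))) b ((a : ℤ) * (n ξ₁ : ℤ) - m)
    · rw [hb, hm, hN ξ₁ hξ₁S]; push_cast; ring
    · positivity
    · exact hd₁pos
    · have : (d χ : ℝ) = (d ξ₁ : ℝ) * (a : ℝ) := by exact_mod_cast hda
      rw [← this]; exact hineq
    · rw [hsum] at hbes
      linarith
  have hY1 : ip Y (τ₁ ξ₁) = (a : ℝ) * ip ξ₁ ξ₁ := by
    rw [hb] at hb0; linarith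
  have hτ₁n : ip (τ₁ ξ₁) (τ₁ ξ₁) = ip ξ₁ ξ₁ :=
    ip₁ hS S₁ hS₁ hS₁c τ₁ hτ₁ hag₁ (zspan_of_mem hξ₁) (zspan_of_mem hξ₁)
  have hYeq : Y = (a : ℤ) • τ₁ ξ₁ := by
    apply eq_of_ip_sub
    simp only [ip_sub_left, ip_sub_right, ip_zsmul_left, ip_zsmul_right]
    rw [ip_comm (τ₁ ξ₁) Y, hY1, hτ₁n]
    push_cast
    linarith
  have hYY2 : ip Y Y = (a : ℝ) ^ 2 * ip ξ₁ ξ₁ := by
    rw [hYeq]
    simp only [ip_zsmul_left, ip_zsmul_right]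
    rw [hτ₁n]; push_cast; ring
  refine ⟨?_, ?_, ?_⟩
  · rw [← hYeq, hY]; abel
  · rw [hYY] at hYY2; linarith
  · rw [hS.sum_eq χ hχ, hX, (on hS hχ).ip_proj_sum, ← hS.sum_eq χ hχ, hvD]

theorem step3 (d : (L → ℂ) → ℕ) (hd : ∀ φ ∈ S, φ 1 = (d φ : ℂ))
    {χ : L → ℂ} (hχ : χ ∈ S) (hχ₁ : χ ∉ S₁) (hχ₂ : conjFun χ ∉ S₁) {ξ₁ : L → ℂ} (hξ₁ : ξ₁ ∈ S₁)
    (a : ℕ) (hda : d χ = d ξ₁ * a) (X : G → ℂ) (hXg : IsGeneralizedCharacter G X)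
    (h1 : τ (χ - (a : ℤ) • ξ₁) = X - (a : ℤ) • τ₁ ξ₁) (h2 : ip X X = ip χ χ)
    (h3 : ip X (τ (χ - conjFun χ)) = ip χ χ) (hXperp : ∀ ξ ∈ S₁, ip X (τ₁ ξ) = 0) :
    IsCoherent (↑(insert χ (insert (conjFun χ) S₁)) : Set (L → ℂ)) {1}ᶜ τ := by
  classical
  have hfar : ∀ ξ ∈ S₁, Far χ ξ := fun ξ hξ => ⟨fun e => hχ₁ (e ▸ hξ), fun e => hχ₂ (e ▸ hξ)⟩
  have hξ₁S := hS₁ hξ₁
  have hχc := hS.conj_mem χ hχ
  set D := τ (χ - conjFun χ) with hD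
  have hDg : IsGeneralizedCharacter G D := iso_gen hS.isometry (sub_conj_mem hS hχ)
  set s := insert χ (insert (conjFun χ) S₁) with hs
  set t : (L → ℂ) → (G → ℂ) :=
    fun ξ => if ξ = χ then X else if ξ = conjFun χ then X - D else τ₁ ξ with ht
  have tχ : t χ = X := if_pos rfl
  have tχc : t (conjFun χ) = X - D := by
    show (if conjFun χ = χ then X else if conjFun χ = conjFun χ then X - D else τ₁ (conjFun χ)) = _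
    rw [if_neg (hS.conj_ne χ hχ), if_pos rfl]
  have tξ : ∀ ξ ∈ S₁, t ξ = τ₁ ξ := by
    intro ξ hξ
    show (if ξ = χ then X else if ξ = conjFun χ then X - D else τ₁ ξ) = _
    rw [if_neg (hfar ξ hξ).1, if_neg (hfar ξ hξ).2]
  have hsS : (↑s : Set (L → ℂ)) ⊆ S := by
    intro ξ hξ
    rcases Finset.mem_insert.1 (Finset.mem_coe.1 hξ) with e | hξ2
    · rw [e]; exact hχ
    rcases Finset.mem_insert.1 hξ2 with e | hξ3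
    · rw [e]; exact hχc
    · exact hS₁ hξ3
  have mχ : χ ∈ s := Finset.mem_insert_self _ _
  have mχc : conjFun χ ∈ s := Finset.mem_insert_of_mem (Finset.mem_insert_self _ _)
  have mξ : ∀ ξ ∈ S₁, ξ ∈ s := fun ξ hξ => Finset.mem_insert_of_mem (Finset.mem_insert_of_mem hξ)
  have hDperp : ∀ ξ ∈ S₁, ip D (τ₁ ξ) = 0 := by
    intro ξ hξ
    rw [hD, hS.sum_eq χ hχ, ip_sum_left]
    apply Finset.sum_eq_zero
    intro α hα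
    exact ip_of_inner_eq_zero (perp hS S₁ hS₁ hS₁c τ₁ hτ₁ hag₁ hχ hξ (hfar ξ hξ) hα)
  obtain ⟨q1, q2⟩ := pair hS hχ h2 h3
  rw [← hD] at q1 q2
  have hO : Orth s := orth_finset hS hsS
  apply coherent_of_values hS s hsS ⟨χ, mχ, mχc⟩ t
  · intro ξ hξ
    rcases Finset.mem_insert.1 hξ with e | hξ2
    · rw [e, tχ]; exact hXg
    rcases Finset.mem_insert.1 hξ2 with e | hξ3
    · rw [e, tχc]; exact gen_sub hXg hDg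
    · rw [tξ ξ hξ3]; exact iso_gen hτ₁ (zspan_of_mem hξ3)
  · have c1 : ∀ ξ ∈ S₁, ip X (τ₁ ξ) = ip χ ξ := fun ξ hξ => by
      rw [hXperp ξ hξ, ip_far hS hχ (hS₁ hξ) (hfar ξ hξ)]
    have c2 : ∀ ξ ∈ S₁, ip (X - D) (τ₁ ξ) = ip (conjFun χ) ξ := fun ξ hξ => by
      rw [ip_sub_left, hXperp ξ hξ, hDperp ξ hξ, ip_far hS hχc (hS₁ hξ) (hfar ξ hξ).conj_left,
        sub_zero]
    intro ξ hξ ξ' hξ'
    rcases Finset.mem_insert.1 hξ with e | hξ2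
    · rw [e, tχ]
      rcases Finset.mem_insert.1 hξ' with e' | hξ2'
      · rw [e', tχ, h2]
      rcases Finset.mem_insert.1 hξ2' with e' | hξ3'
      · rw [e', tχc, q2, ip_conj hS hχ]
      · rw [tξ ξ' hξ3', c1 ξ' hξ3']
    rcases Finset.mem_insert.1 hξ2 with e | hξ3
    · rw [e, tχc]
      rcases Finset.mem_insert.1 hξ' with e' | hξ2'
      · rw [e', tχ, ip_comm, q2, ip_comm, ip_conj hS hχ]
      rcases Finset.mem_insert.1 hξ2' with e' | hξ3'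
      · rw [e', tχc, q1, ip_conj_conj]
      · rw [tξ ξ' hξ3', c2 ξ' hξ3']
    · rw [tξ ξ hξ3]
      rcases Finset.mem_insert.1 hξ' with e' | hξ2'
      · rw [e', tχ, ip_comm, c1 ξ hξ3, ip_comm]
      rcases Finset.mem_insert.1 hξ2' with e' | hξ3'
      · rw [e', tχc, ip_comm, c2 ξ hξ3, ip_comm]
      · rw [tξ ξ' hξ3', ip₁ hS S₁ hS₁ hS₁c τ₁ hτ₁ hag₁ (zspan_of_mem hξ3) (zspan_of_mem hξ3')]
  · intro θ hθ
    obtain ⟨hθs, hθ1⟩ := mem_zspanOn_one.1 hθ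
    have hθs' : θ ∈ Submodule.span ℤ (insert χ (insert (conjFun χ) (↑S₁ : Set (L → ℂ)))) := by
      have : (↑s : Set (L → ℂ)) = insert χ (insert (conjFun χ) (↑S₁ : Set (L → ℂ))) := by
        rw [hs]; simp
      rw [← this]; exact hθs
    obtain ⟨p, z, hz, rfl⟩ := Submodule.mem_span_insert.1 hθs'
    obtain ⟨q, θ₁, hθ₁, rfl⟩ := Submodule.mem_span_insert.1 hz
    have hθ₁' : θ₁ ∈ zspan (↑S₁ : Set (L → ℂ)) := hθ₁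
    have hT₁ : ∀ w ∈ zspan (↑S₁ : Set (L → ℂ)), ext s t w = τ₁ w := by
      intro w hw
      exact agree_on_zspan (ext s t) τ₁ (fun a _ b _ => ext_add s t a b)
        (fun a _ n => ext_zsmul s t n a) (fun a ha b hb => iso_add hτ₁ ha hb)
        (fun a ha n => iso_zsmul hτ₁ n ha)
        (fun ξ hξ => by rw [ext_mem hO t (mξ ξ hξ), tξ ξ hξ]) hw
    have eT : ext s t (p • χ + (q • conjFun χ + θ₁)) = p • X + (q • (X - D) + τ₁ θ₁) := by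
      rw [ext_add, ext_add, ext_zsmul, ext_zsmul, ext_mem hO t mχ, ext_mem hO t mχc, tχ, tχc,
        hT₁ θ₁ hθ₁']
    have mβ : χ - (a : ℤ) • ξ₁ ∈ zspanOn S {1}ᶜ := by
      rw [mem_zspanOn_one]
      refine ⟨zspan_sub (zspan_of_mem hχ) (zspan_zsmul _ (zspan_of_mem hξ₁S)), ?_⟩
      rw [Pi.sub_apply, zsmul_apply', hd χ hχ, hd ξ₁ hξ₁S, hda]; push_cast; ring
    have mθ₂ : θ₁ + ((p + q) * (a : ℤ)) • ξ₁ ∈ zspanOn (↑S₁ : Set (L → ℂ)) {1}ᶜ := by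
      rw [mem_zspanOn_one]
      refine ⟨zspan_add hθ₁' (zspan_zsmul _ (zspan_of_mem hξ₁)), ?_⟩
      rw [Pi.add_apply, Pi.add_apply, zsmul_apply', zsmul_apply', conj_one hS hχ, hd χ hχ,
        hda] at hθ1
      rw [Pi.add_apply, zsmul_apply', hd ξ₁ hξ₁S]
      push_cast at hθ1 ⊢
      linear_combination hθ1
    have edec : p • χ + (q • conjFun χ + θ₁) = (p + q) • (χ - (a : ℤ) • ξ₁) +
        ((-q) • (χ - conjFun χ) + (θ₁ + ((p + q) * (a : ℤ)) • ξ₁)) := by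
      funext g
      simp only [Pi.add_apply, Pi.sub_apply, zsmul_apply']
      push_cast
      ring
    have hE : Closed (zspanOn S ({1}ᶜ : Set L)) := closed_zspanOn
    have mθ₂S := zspanOn_mono hS₁ mθ₂
    have mD := sub_conj_mem hS hχ
    rw [eT, edec, iso_add hS.isometry (hE.zsmul _ _ mβ) (hE.add _ (hE.zsmul _ _ mD) _ mθ₂S),
      iso_add hS.isometry (hE.zsmul _ _ mD) mθ₂S, iso_zsmul hS.isometry _ mβ,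
      iso_zsmul hS.isometry _ mD, ← hag₁ _ mθ₂, iso_add hτ₁ hθ₁' (zspan_zsmul _ (zspan_of_mem hξ₁)),
      iso_zsmul hτ₁ _ (zspan_of_mem hξ₁), h1, ← hD]
    funext g
    simp only [Pi.add_apply, Pi.sub_apply, zsmul_apply']
    push_cast
    ring

end

/-- Let (S, τ, R) be a coherence system from L to G with degrees φ 1 = d φ and squared norms ⟨φ, φ⟩ = n φ for φ ∈ S. Let S₁ ⊆ S be a finite subset closed under complex conjugation such that (S₁, L minus 1, τ) is coherent, let χ ∈ S with χ ∉ S₁ and conj χ ∉ S₁, and let χ₁ ∈ S₁ with d χ₁ dividing d χ and 2 d χ d χ₁ < Σ_{φ ∈ S₁} (d φ)² / n φ. Then S₁ together with χ and conj χ is coherent. -/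
theorem result {L : Type*} [Group L] [Fintype L] {G : Type*} [Group G] [Fintype G] (S : Set (L → ℂ)) (τ : (L → ℂ) → (G → ℂ)) (R : (L → ℂ) → Finset (G → ℂ)) (hS : Cfsg.IsCoherenceSystem S τ R) (d n : (L → ℂ) → ℕ) (hd : ∀ φ ∈ S, φ 1 = (d φ : ℂ)) (hn : ∀ φ ∈ S, Cfsg.classInner φ φ = (n φ : ℂ)) (S₁ : Finset (L → ℂ)) (hS₁ : ↑S₁ ⊆ S) (hS₁c : ∀ φ ∈ S₁, Cfsg.conjFun φ ∈ S₁) (hcoh : Cfsg.IsCoherent (↑S₁ : Set (L → ℂ)) {1}ᶜ τ) (χ : L → ℂ) (hχ : χ ∈ S) (hχ₁ : χ ∉ S₁) (hχ₂ : Cfsg.conjFun χ ∉ S₁) (χ₁ : L → ℂ) (hχ₁S : χ₁ ∈ S₁) (hdvd : d χ₁ ∣ d χ) (hineq : (2 * d χ * d χ₁ : ℝ) < ∑ φ ∈ S₁, ((d φ : ℝ) ^ 2 / (n φ : ℝ))) : Cfsg.IsCoherent (↑S₁ ∪ {χ, Cfsg.conjFun χ} : Set (L → ℂ)) {1}ᶜ τ := by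
  classical
  obtain ⟨-, τ₁, hτ₁, hag₁⟩ := hcoh
  obtain ⟨a, hda⟩ := hdvd
  obtain ⟨e1, e2, e3⟩ := step2 hS S₁ hS₁ hS₁c τ₁ hτ₁ hag₁ d n hd hn hχ hχ₁ hχ₂ hχ₁S a hda hineq
  have hfar : ∀ ξ ∈ S₁, Far χ ξ := fun ξ hξ => ⟨fun e => hχ₁ (e ▸ hξ), fun e => hχ₂ (e ▸ hξ)⟩
  have mβ : χ - (a : ℤ) • χ₁ ∈ zspanOn S {1}ᶜ := by
    rw [mem_zspanOn_one]
    refine ⟨zspan_sub (zspan_of_mem hχ) (zspan_zsmul _ (zspan_of_mem (hS₁ hχ₁S))), ?_⟩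
    rw [Pi.sub_apply, zsmul_apply', hd χ hχ, hd χ₁ (hS₁ hχ₁S), hda]; push_cast; ring
  have h := step3 hS S₁ hS₁ hS₁c τ₁ hτ₁ hag₁ d hd hχ hχ₁ hχ₂ hχ₁S a hda _
    ((on hS hχ).proj_gen (iso_gen hS.isometry mβ)) e1 e2 e3
    (fun ξ hξ => ip_of_inner_eq_zero (inner_proj_of_orth _
      (fun α hα => perp hS S₁ hS₁ hS₁c τ₁ hτ₁ hag₁ hχ hξ (hfar ξ hξ) hα)))
  have hset : (↑S₁ ∪ {χ, Cfsg.conjFun χ} : Set (L → ℂ)) =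
      (↑(insert χ (insert (conjFun χ) S₁)) : Set (L → ℂ)) := by
    ext x
    simp only [Set.mem_union, Finset.mem_coe, Set.mem_insert_iff, Set.mem_singleton_iff,
      Finset.coe_insert]
    tauto
  rw [hset]
  exact h

end Cfsg.Agent.S1516
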