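import Cfsg.Statements.S1517
import Cfsg.Agent.Lib.Helper32Sub2

set_option autoImplicit false
set_option linter.unusedSectionVars false
open Cfsg

namespace Cfsg.Agent.S1517

open Cfsg.Agent.Lib.Helper4Char Cfsg.Agent.Lib.Helper4Char2 Cfsg.Agent.Lib.Helper4Char4
open Cfsg.Agent.Lib.Helper32Virt Cfsg.Agent.Lib.Helper32Coh Cfsg.Agent.Lib.Helper32Sub
open Cfsg.Agent.Lib.Helper32Sub2

section

variable {L : Type*} [Group L] [Fintype L] {G : Type*} [Group G] [Fintype G]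
variable {S : Set (L → ℂ)} {τ : (L → ℂ) → (G → ℂ)} {R : (L → ℂ) → Finset (G → ℂ)}
variable (hS : IsCoherenceSystem S τ R) (hdeg : ∀ φ ∈ S, ∀ ψ ∈ S, φ 1 = ψ 1)
include hS hdeg

theorem ipD {χ φ : L → ℂ} (hχ : χ ∈ S) (hφ : φ ∈ S) (h : Far χ φ) :
    ip (τ (χ - φ)) (τ (χ - conjFun χ)) = ip χ χ := by
  rw [iso_ip hS (sub_mem hS hχ hφ (hdeg χ hχ φ hφ)) (sub_conj_mem hS hχ), ip_sub_left, ip_sub_right,
    ip_sub_right, ip_conj hS hχ, ip_far hS hφ hχ h.symm,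
    ip_far hS hφ (hS.conj_mem χ hχ) h.conj_left.symm]
  ring

theorem claimA {χ φ : L → ℂ} (hχ : χ ∈ S) (hφ : φ ∈ S) (h : Far χ φ) :
    τ (χ - φ) = proj (R χ) (τ (χ - φ)) + proj (R φ) (τ (χ - φ)) ∧
    ip (proj (R χ) (τ (χ - φ))) (proj (R χ) (τ (χ - φ))) = ip χ χ := by
  have m : χ - φ ∈ zspanOn S {1}ᶜ := sub_mem hS hχ hφ (hdeg χ hχ φ hφ)
  have hneg : τ (φ - χ) = - τ (χ - φ) := by rw [← neg_sub χ φ, iso_neg hS.isometry m]
  have h1 := ipD hS hdeg hχ hφ h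
  have h2 := ipD hS hdeg hφ hχ h.symm
  rw [hneg] at h2
  have h3 : ip (τ (χ - φ)) (τ (χ - φ)) = ip χ χ + ip φ φ := by
    rw [iso_ip hS m m, ip_sub_left, ip_sub_right, ip_sub_right, ip_far hS hφ hχ h.symm,
      ip_far hS hχ hφ h]
    ring
  set v := τ (χ - φ) with hv
  have hvg : IsGeneralizedCharacter G v := iso_gen hS.isometry m
  have k1 := key hS hχ hvg h1
  have k2 := key hS hφ (gen_neg hvg) h2
  rw [proj_neg, ip_neg_left, ip_neg_right, neg_neg] at k2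
  have p1 := (on hS hχ).pythag v
  have p2 := (on hS hφ).pythag (v - proj (R χ) v)
  have e : proj (R φ) (v - proj (R χ) v) = proj (R φ) v := by
    rw [proj_sub, proj_proj_of_orth v (R_orth hS hφ hχ h.symm), sub_zero]
  rw [e] at p2
  have hz : v - proj (R χ) v = proj (R φ) v := by
    apply eq_of_ip_sub
    linarith
  refine ⟨?_, ?_⟩
  · rw [← hz]; abel
  · have := ip_self_nonneg (v - proj (R χ) v - proj (R φ) v)
    linarith

theorem claimB {χ φ φ' : L → ℂ} (hχ : χ ∈ S) (hφ : φ ∈ S) (hφ' : φ' ∈ S) (h : Far χ φ)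
    (h' : Far χ φ') : proj (R χ) (τ (χ - φ)) = proj (R χ) (τ (χ - φ')) := by
  have m : χ - φ ∈ zspanOn S {1}ᶜ := sub_mem hS hχ hφ (hdeg χ hχ φ hφ)
  have m' : χ - φ' ∈ zspanOn S {1}ᶜ := sub_mem hS hχ hφ' (hdeg χ hχ φ' hφ')
  have e : τ (χ - φ) - τ (χ - φ') = τ (φ' - φ) := by
    rw [← iso_sub closed_zspanOn hS.isometry m m']
    congr 1
    abel
  have z : proj (R χ) (τ (φ' - φ)) = 0 := by
    by_cases c1 : φ' = φ
    · rw [c1, sub_self, iso_zero closed_zspanOn hS.isometry, proj_zero]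
    by_cases c2 : φ' = conjFun φ
    · rw [c2, ← neg_sub φ (conjFun φ), iso_neg hS.isometry (sub_conj_mem hS hφ), proj_neg,
        hS.sum_eq φ hφ, proj_sum_of_orth (R_orth hS hχ hφ h), neg_zero]
    · have hf : Far φ' φ := ⟨Ne.symm c1, fun e => c2 (by rw [e, conjFun_conjFun])⟩
      obtain ⟨eA, -⟩ := claimA hS hdeg hφ' hφ hf
      rw [eA, proj_add, proj_proj_of_orth _ (R_orth hS hχ hφ' h'),
        proj_proj_of_orth _ (R_orth hS hχ hφ h), add_zero]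
  rw [← sub_eq_zero, ← proj_sub, e, z]

/-- the values of the coherent isometry. -/
def Vals (S : Set (L → ℂ)) (τ : (L → ℂ) → (G → ℂ)) (t : (L → ℂ) → (G → ℂ)) : Prop :=
  (∀ χ ∈ S, IsGeneralizedCharacter G (t χ)) ∧ (∀ χ ∈ S, ∀ φ ∈ S, ip (t χ) (t φ) = ip χ φ) ∧
    (∀ χ ∈ S, ∀ φ ∈ S, τ (χ - φ) = t χ - t φ)

theorem values_far (hfar : ∃ χ₀ ∈ S, ∃ φ₀ ∈ S, Far χ₀ φ₀) : ∃ t, Vals S τ t := by
  obtain ⟨χ₀, hχ₀, φ₀, hφ₀, hfar⟩ := hfar
  have hex : ∀ χ ∈ S, ∃ φ ∈ S, Far χ φ := by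
    intro χ hχ
    by_cases c : Far χ φ₀
    · exact ⟨φ₀, hφ₀, c⟩
    · refine ⟨χ₀, hχ₀, ?_⟩
      by_cases c1 : φ₀ = χ
      · rw [← c1]; exact hfar.symm
      · by_cases c2 : φ₀ = conjFun χ
        · have : χ = conjFun φ₀ := by rw [c2, conjFun_conjFun]
          rw [this]; exact hfar.symm.conj_left
        · exact absurd ⟨c1, c2⟩ c
  choose! f hfS hfF using hex
  set t : (L → ℂ) → (G → ℂ) := fun χ => proj (R χ) (τ (χ - f χ)) with htdef
  have ht : ∀ χ ∈ S, ∀ φ ∈ S, Far χ φ → t χ = proj (R χ) (τ (χ - φ)) := by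
    intro χ hχ φ hφ h
    exact claimB hS hdeg hχ (hfS χ hχ) hφ (hfF χ hχ) h
  have hmem : ∀ χ ∈ S, ∀ φ ∈ S, χ - φ ∈ zspanOn S {1}ᶜ :=
    fun χ hχ φ hφ => sub_mem hS hχ hφ (hdeg χ hχ φ hφ)
  have hC : ∀ χ ∈ S, ∀ φ ∈ S, Far χ φ → τ (χ - φ) = t χ - t φ := by
    intro χ hχ φ hφ h
    obtain ⟨eA, -⟩ := claimA hS hdeg hχ hφ h
    rw [ht χ hχ φ hφ h, ht φ hφ χ hχ h.symm, ← neg_sub χ φ, iso_neg hS.isometry (hmem χ hχ φ hφ),
      proj_neg, sub_neg_eq_add]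
    exact eA
  have hall : ∀ χ ∈ S, ∀ φ ∈ S, τ (χ - φ) = t χ - t φ := by
    intro χ hχ φ hφ
    by_cases c1 : φ = χ
    · rw [c1, sub_self, sub_self, iso_zero closed_zspanOn hS.isometry]
    by_cases c2 : φ = conjFun χ
    · have e : χ - φ = (χ - f χ) + (f χ - φ) := by abel
      have hF : Far (f χ) φ := by rw [c2]; exact (hfF χ hχ).conj_left.symm
      rw [e, iso_add hS.isometry (hmem χ hχ _ (hfS χ hχ)) (hmem _ (hfS χ hχ) φ hφ),
        hC χ hχ _ (hfS χ hχ) (hfF χ hχ), hC _ (hfS χ hχ) φ hφ hF]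
      abel
    · exact hC χ hχ φ hφ ⟨c1, c2⟩
  have hnorm : ∀ χ ∈ S, ip (t χ) (t χ) = ip χ χ :=
    fun χ hχ => (claimA hS hdeg hχ (hfS χ hχ) (hfF χ hχ)).2
  refine ⟨t, fun χ hχ => (on hS hχ).proj_gen (iso_gen hS.isometry (hmem χ hχ _ (hfS χ hχ))), ?_,
    hall⟩
  intro χ hχ φ hφ
  by_cases c1 : φ = χ
  · rw [c1]; exact hnorm χ hχ
  by_cases c2 : φ = conjFun χ
  · have h1 := ip_D hS hχ
    rw [← c2, hall χ hχ φ hφ, ip_sub_left, ip_sub_right, ip_sub_right, hnorm χ hχ, hnorm φ hφ,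
      ip_comm (t φ) (t χ)] at h1
    have h2 : ip φ φ = ip χ χ := by rw [c2, ip_conj_conj]
    have h3 : ip χ φ = 0 := by rw [c2]; exact ip_conj hS hχ
    rw [h3]
    linarith
  · rw [ip_far hS hχ hφ ⟨c1, c2⟩]
    exact ip_of_inner_eq_zero (inner_proj_proj_of_orth _ _ (R_orth hS hφ hχ (Far.symm ⟨c1, c2⟩)))

omit hdeg in
theorem values_pair (hno : ¬ ∃ χ₀ ∈ S, ∃ φ₀ ∈ S, Far χ₀ φ₀) : ∃ t, Vals S τ t := by
  classical
  obtain ⟨χ₀, hχ₀⟩ := hS.nonempty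
  have hcases : ∀ φ ∈ S, φ = χ₀ ∨ φ = conjFun χ₀ := by
    intro φ hφ
    by_contra hcon
    push Not at hcon
    exact hno ⟨χ₀, hχ₀, φ, hφ, hcon⟩
  obtain ⟨n, hn⟩ := gen_ip_int (gen_of_mem hS hχ₀) (gen_of_mem hS hχ₀)
  have hcard := card_R hS hχ₀
  have hpos := norm_pos hS hχ₀
  rw [hn] at hcard hpos
  have hn0 : 0 < n := by exact_mod_cast hpos
  have hcard' : ((R χ₀).card : ℤ) = 2 * n := by exact_mod_cast hcard
  obtain ⟨E, hE, hEc⟩ := Finset.exists_subset_card_eq (s := R χ₀) (n := n.toNat) (by omega)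
  have hON := on hS hχ₀
  have hONE : ON E := ⟨fun α hα β hβ => hON.orth α (hE hα) β (hE hβ), fun α hα => hON.gen α (hE hα)⟩
  set X : G → ℂ := ∑ α ∈ E, α with hX
  have hEn : (E.card : ℝ) = ip χ₀ χ₀ := by
    rw [hn, hEc]
    have : ((n.toNat : ℤ) : ℝ) = (n : ℝ) := by rw [Int.toNat_of_nonneg hn0.le]
    exact_mod_cast this
  have hXX : ip X X = ip χ₀ χ₀ := by rw [hX, hONE.ip_sum_self, hEn]
  have hXD : ip X (τ (χ₀ - conjFun χ₀)) = ip χ₀ χ₀ := by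
    rw [hS.sum_eq χ₀ hχ₀, hX, ip_sum_left, ← hEn]
    have : ∀ α ∈ E, ip α (∑ β ∈ R χ₀, β) = 1 := by
      intro α hα
      rw [ip_sum_right, Finset.sum_eq_single α]
      · unfold ip; rw [hON.orth α (hE hα) α (hE hα), if_pos rfl, Complex.one_re]
      · intro β hβ hne
        unfold ip; rw [hON.orth α (hE hα) β hβ, if_neg (Ne.symm hne), Complex.zero_re]
      · intro h; exact absurd (hE hα) h
    rw [Finset.sum_congr rfl this]
    simp
  obtain ⟨q1, q2⟩ := pair hS hχ₀ hXX hXD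
  set D := τ (χ₀ - conjFun χ₀) with hD
  have hXg : IsGeneralizedCharacter G X := gen_sum _ (fun α hα => hONE.gen α hα)
  have hDg : IsGeneralizedCharacter G D := iso_gen hS.isometry (sub_conj_mem hS hχ₀)
  have hne : conjFun χ₀ ≠ χ₀ := hS.conj_ne χ₀ hχ₀
  refine ⟨fun ξ => if ξ = χ₀ then X else X - D, ?_, ?_, ?_⟩
  · intro χ _
    simp only
    split_ifs
    · exact hXg
    · exact gen_sub hXg hDg
  · intro χ hχ φ hφ
    rcases hcases χ hχ with e1 | e1 <;> rcases hcases φ hφ with e2 | e2 <;> rw [e1, e2]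
    · simp only [if_true]; exact hXX
    · simp only [if_true, if_neg hne]; rw [q2, ip_conj hS hχ₀]
    · simp only [if_true, if_neg hne]; rw [ip_comm, q2, ip_comm, ip_conj hS hχ₀]
    · simp only [if_neg hne]; rw [q1, ip_conj_conj]
  · intro χ hχ φ hφ
    rcases hcases χ hχ with e1 | e1 <;> rcases hcases φ hφ with e2 | e2 <;> rw [e1, e2]
    · simp only [if_true]; rw [sub_self, sub_self, iso_zero closed_zspanOn hS.isometry]
    · simp only [if_true, if_neg hne]; rw [← hD]; abel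
    · simp only [if_true, if_neg hne]
      rw [← neg_sub χ₀ (conjFun χ₀), iso_neg hS.isometry (sub_conj_mem hS hχ₀), ← hD]; abel
    · simp only [if_neg hne]; rw [sub_self, sub_self, iso_zero closed_zspanOn hS.isometry]

theorem coherent_of_vals (t : (L → ℂ) → (G → ℂ)) (ht : Vals S τ t) : IsCoherent S {1}ᶜ τ := by
  classical
  obtain ⟨htg, hti, hdiff⟩ := ht
  set s : Finset (L → ℂ) := (finite hS).toFinset with hs
  have hsS : (↑s : Set (L → ℂ)) = S := by rw [hs]; simp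
  have hmem : ∀ {χ : L → ℂ}, χ ∈ s ↔ χ ∈ S := by intro χ; rw [hs]; simp
  obtain ⟨χ₀, hχ₀⟩ := hS.nonempty
  have hcoh := coherent_of_values hS s hsS.le
    ⟨χ₀, hmem.2 hχ₀, hmem.2 (hS.conj_mem χ₀ hχ₀)⟩ t (fun χ hχ => htg χ (hmem.1 hχ))
    (fun χ hχ φ hφ => hti χ (hmem.1 hχ) φ (hmem.1 hφ)) (by
      intro θ hθ
      have hO : Orth s := orth_finset hS hsS.le
      have hθ' := (mem_zspanOn_one.1 hθ)
      have hex : ∀ χ : L → ℂ, ∃ n : ℤ, χ ∈ s → coef θ χ = n := by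
        intro χ
        by_cases hχ : χ ∈ s
        · obtain ⟨n, hn⟩ := coef_int hO hθ'.1 hχ
          exact ⟨n, fun _ => hn⟩
        · exact ⟨0, fun h => absurd h hχ⟩
      choose c hc using hex
      have hexp : θ = ∑ χ ∈ s, c χ • χ := by
        conv_lhs => rw [expand hO hθ'.1]
        apply Finset.sum_congr rfl
        intro χ hχ
        rw [hc χ hχ, intCast_smul_eq]
      have hsum : ∑ χ ∈ s, c χ = 0 := by
        have h1 := hθ'.2
        rw [hexp, Finset.sum_apply] at h1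
        have h2 : ∑ χ ∈ s, (c χ • χ) 1 = ((∑ χ ∈ s, c χ : ℤ) : ℂ) * χ₀ 1 := by
          push_cast
          rw [Finset.sum_mul]
          apply Finset.sum_congr rfl
          intro χ hχ
          rw [zsmul_apply', hdeg χ (hmem.1 hχ) χ₀ hχ₀]
        rw [h2] at h1
        rcases mul_eq_zero.1 h1 with h | h
        · exact_mod_cast h
        · exact absurd h (degree_ne_zero hS hχ₀)
      have hexp2 : θ = ∑ χ ∈ s, c χ • (χ - χ₀) := by
        simp only [smul_sub, Finset.sum_sub_distrib]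
        rw [← Finset.sum_smul, hsum, zero_smul, sub_zero]
        exact hexp
      have e1 : τ θ = ∑ χ ∈ s, c χ • (t χ - t χ₀) := by
        conv_lhs => rw [hexp2]
        rw [iso_sum closed_zspanOn hS.isometry s c (fun χ => χ - χ₀)
          (fun χ hχ => sub_mem hS (hmem.1 hχ) hχ₀ (hdeg χ (hmem.1 hχ) χ₀ hχ₀))]
        apply Finset.sum_congr rfl
        intro χ hχ
        rw [hdiff χ (hmem.1 hχ) χ₀ hχ₀]
      rw [e1]
      simp only [smul_sub, Finset.sum_sub_distrib]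
      rw [← Finset.sum_smul, hsum, zero_smul, sub_zero]
      unfold ext
      apply Finset.sum_congr rfl
      intro χ hχ
      rw [hc χ hχ, intCast_smul_eq])
  rw [hsS] at hcoh
  exact hcoh

end

/-- Let (S, τ, R) be a coherence system from L to G such that φ 1 = ψ 1 for all φ, ψ ∈ S. Then (S, L minus 1, τ) is coherent. -/
theorem result {L : Type*} [Group L] [Fintype L] {G : Type*} [Group G] [Fintype G] (S : Set (L → ℂ)) (τ : (L → ℂ) → (G → ℂ)) (R : (L → ℂ) → Finset (G → ℂ)) (hS : Cfsg.IsCoherenceSystem S τ R) (hdeg : ∀ φ ∈ S, ∀ ψ ∈ S, φ 1 = ψ 1) : Cfsg.IsCoherent S {1}ᶜ τ := by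
  by_cases h : ∃ χ₀ ∈ S, ∃ φ₀ ∈ S, Far χ₀ φ₀
  · obtain ⟨t, ht⟩ := values_far hS hdeg h
    exact coherent_of_vals hS hdeg t ht
  · obtain ⟨t, ht⟩ := values_pair hS h
    exact coherent_of_vals hS hdeg t ht

end Cfsg.Agent.S1517
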