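import Cfsg.Statements.S1519
import Cfsg.Agent.Lib.Helper32Extend
import Cfsg.Agent.S1492

set_option autoImplicit false
open Cfsg

namespace Cfsg.Agent.S1519

open Cfsg.Agent.Lib.Helper32Extend

/-- the degree bound of Peterfalvi (6.3). -/
theorem bound {L : Type*} [Group L] [Finite L] (K : Subgroup L) (B C D : Subgroup L) [hB : B.Normal]
    (hBD : B ≤ D) (hDC : D ≤ C) (hCK : C ≤ K)
    (hcent : ∀ x ∈ D, ∀ y ∈ C, x * y * x⁻¹ * y⁻¹ ∈ B) (θ : K → ℂ) (hθ : IsIrrCharacter K θ)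
    (hker : ∀ a : K, (a : L) ∈ B → θ a = θ 1) :
    (2 * (K.index : ℝ) * ‖θ 1‖) ^ 2 ≤ ((4 * C.index ^ 2 * D.relIndex C : ℕ) : ℝ) := by
  have h := Cfsg.Agent.S1492.result (G := K) θ hθ (B.subgroupOf K) (C.subgroupOf K) (D.subgroupOf K)
    (fun x hx => hBD hx) (fun x hx => hDC hx)
    (fun c _ b hb => hB.conj_mem _ hb _) (fun d hd c hc => hcent d hd c hc) (fun b hb => hker b hb)
  have hcC : Nat.card (C.subgroupOf K) = Nat.card C :=
    Nat.card_congr (Subgroup.subgroupOfEquivOfLe hCK).toEquiv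
  have hcD : Nat.card (D.subgroupOf K) = Nat.card D :=
    Nat.card_congr (Subgroup.subgroupOfEquivOfLe (hDC.trans hCK)).toEquiv
  have hcD' : Nat.card (D.subgroupOf C) = Nat.card D :=
    Nat.card_congr (Subgroup.subgroupOfEquivOfLe hDC).toEquiv
  rw [hcC, hcD] at h
  have e1 : (Nat.card K : ℝ) * (K.index : ℝ) = Nat.card L := by exact_mod_cast K.card_mul_index
  have e2 : (Nat.card C : ℝ) * (C.index : ℝ) = Nat.card L := by exact_mod_cast C.card_mul_index
  have e3 : (Nat.card D : ℝ) * (D.relIndex C : ℝ) = Nat.card C := by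
    have := (D.subgroupOf C).card_mul_index
    rw [hcD'] at this
    exact_mod_cast this
  have hCpos : (0 : ℝ) < Nat.card C := by exact_mod_cast Nat.card_pos
  have hDpos : (0 : ℝ) < Nat.card D := by exact_mod_cast Nat.card_pos
  have hpos : (0 : ℝ) < (Nat.card C : ℝ) * (Nat.card D : ℝ) := mul_pos hCpos hDpos
  apply le_of_mul_le_mul_right _ hpos
  push_cast
  calc (2 * (K.index : ℝ) * ‖θ 1‖) ^ 2 * ((Nat.card C : ℝ) * (Nat.card D : ℝ))
      = 4 * (K.index : ℝ) ^ 2 * (‖θ 1‖ ^ 2 * (Nat.card C : ℝ) * (Nat.card D : ℝ)) := by ring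
    _ ≤ 4 * (K.index : ℝ) ^ 2 * (Nat.card K : ℝ) ^ 2 := by
        apply mul_le_mul_of_nonneg_left h; positivity
    _ = 4 * ((Nat.card K : ℝ) * (K.index : ℝ)) ^ 2 := by ring
    _ = 4 * ((Nat.card C : ℝ) * (C.index : ℝ)) ^ 2 := by rw [e1, e2]
    _ = 4 * (C.index : ℝ) ^ 2 * (Nat.card C : ℝ) * (Nat.card C : ℝ) := by ring
    _ = 4 * (C.index : ℝ) ^ 2 * (Nat.card C : ℝ) * ((Nat.card D : ℝ) * (D.relIndex C : ℝ)) := by
        rw [e3]
    _ = 4 * (C.index : ℝ) ^ 2 * (D.relIndex C : ℝ) * ((Nat.card C : ℝ) * (Nat.card D : ℝ)) := by ring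

/-- Let K be a solvable normal subgroup of the finite group L and (S, τ, R) a coherence system from L to G where S is the set of functions induced from non-principal irreducible characters of K; write S(A) for those induced from characters whose kernel contains A. Let A, B, C, D be normal subgroups of L with A < K, B < K, B ≤ D ≤ C ≤ K and every commutator of D with C in B. If S(A) is coherent and 4 * [L:C]^2 * [C:D] < ([K:A] − 1)^2, then S(B) is coherent. -/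
theorem result {L : Type*} [Group L] [Fintype L] {G : Type*} [Group G] [Fintype G] (K : Subgroup L) [hK : K.Normal] (hsolv : Group.IsSolvable K) (τ : (L → ℂ) → (G → ℂ)) (R : (L → ℂ) → Finset (G → ℂ)) (hS : Cfsg.IsCoherenceSystem (Cfsg.inducedIrrAbove K ⊥) τ R) (A B C D : Subgroup L) [A.Normal] [B.Normal] [C.Normal] [D.Normal] (hAK : A < K) (hBK : B < K) (hBD : B ≤ D) (hDC : D ≤ C) (hCK : C ≤ K) (hcent : ∀ x ∈ D, ∀ y ∈ C, x * y * x⁻¹ * y⁻¹ ∈ B) (hA : Cfsg.IsCoherent (Cfsg.inducedIrrAbove K A) {1}ᶜ τ) (hlt : 4 * C.index ^ 2 * D.relIndex C < (A.relIndex K - 1) ^ 2) : Cfsg.IsCoherent (Cfsg.inducedIrrAbove K B) {1}ᶜ τ := by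
  apply core K hsolv hS A B hAK hBK hA
  intro θ hθ hker
  have h1 := bound K B C D hBD hDC hCK hcent θ hθ hker
  have ha : 1 ≤ A.relIndex K := Nat.one_le_iff_ne_zero.2 Subgroup.index_ne_zero_of_finite
  have h2 : ((4 * C.index ^ 2 * D.relIndex C : ℕ) : ℝ) < (((A.relIndex K - 1) ^ 2 : ℕ) : ℝ) := by
    exact_mod_cast hlt
  have h3 : (((A.relIndex K - 1) ^ 2 : ℕ) : ℝ) = ((A.relIndex K : ℝ) - 1) ^ 2 := by
    push_cast [Nat.cast_sub ha]
    ring
  rw [h3] at h2
  have h4 : (0 : ℝ) ≤ (A.relIndex K : ℝ) - 1 := by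
    have : (1 : ℝ) ≤ A.relIndex K := by exact_mod_cast ha
    linarith
  exact lt_of_pow_lt_pow_left₀ 2 h4 (lt_of_le_of_lt h1 h2)

end Cfsg.Agent.S1519
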