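import Cfsg.Statements.S1520
import Cfsg.Agent.S1519

set_option autoImplicit false
open Cfsg

namespace Cfsg.Agent.S1520

open scoped commutatorElement

/-- in a group `H` nilpotent modulo `M`, a normal subgroup `B > M` has `[B, H] M < B`. -/
theorem comm_lt {L : Type*} [Group L] (M B H : Subgroup L) [M.Normal] [hB : B.Normal] (hMB : M < B)
    (hBH : B ≤ H) [(M.subgroupOf H).Normal] (hnil : Group.IsNilpotent (↥H ⧸ M.subgroupOf H)) :
    ⁅B, H⁆ ⊔ M < B := by
  have hle : ⁅B, H⁆ ⊔ M ≤ B := sup_le (Subgroup.commutator_le_left B H) hMB.le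
  refine lt_of_le_of_ne hle ?_
  intro heq
  obtain ⟨c, hc⟩ := Subgroup.nilpotent_iff_lowerCentralSeries.1 hnil
  have key : ∀ i : ℕ, ∀ b : H, (b : L) ∈ B → QuotientGroup.mk' (M.subgroupOf H) b ∈
      Subgroup.lowerCentralSeries (⊤ : Subgroup (↥H ⧸ M.subgroupOf H)) i := by
    intro i
    induction i with
    | zero => intro b _; exact Subgroup.mem_top _
    | succ i ih =>
      set T : Subgroup L := ((Subgroup.lowerCentralSeries (⊤ : Subgroup (↥H ⧸ M.subgroupOf H))
        (i + 1)).comap (QuotientGroup.mk' (M.subgroupOf H))).map H.subtype with hT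
      have hBT : B ≤ T := by
        rw [← heq]
        apply sup_le
        · rw [Subgroup.commutator_le]
          intro b hb h hh
          rw [hT, Subgroup.mem_map]
          refine ⟨⁅(⟨b, hBH hb⟩ : H), (⟨h, hh⟩ : H)⁆, ?_, rfl⟩
          rw [Subgroup.mem_comap, map_commutatorElement, Subgroup.lowerCentralSeries_succ]
          exact Subgroup.commutator_mem_commutator (ih ⟨b, hBH hb⟩ hb) (Subgroup.mem_top _)
        · intro m hm
          rw [hT, Subgroup.mem_map]
          refine ⟨⟨m, hBH (hMB.le hm)⟩, ?_, rfl⟩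
          rw [Subgroup.mem_comap]
          have : QuotientGroup.mk' (M.subgroupOf H) ⟨m, hBH (hMB.le hm)⟩ = 1 :=
            (QuotientGroup.eq_one_iff _).2 (Subgroup.mem_subgroupOf.2 hm)
          rw [this]
          exact Subgroup.one_mem _
      intro b hb
      obtain ⟨b', hb', e⟩ := Subgroup.mem_map.1 (hBT hb)
      have : b' = b := Subtype.ext e
      rw [← this]
      exact hb'
  apply not_le_of_gt hMB
  intro b hb
  have h1 := key c ⟨b, hBH hb⟩ hb
  rw [hc, Subgroup.mem_bot] at h1
  exact Subgroup.mem_subgroupOf.1 ((QuotientGroup.eq_one_iff _).1 h1)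

theorem arith (e k h : ℕ) (hk : 1 ≤ k) (hh : 4 * e ^ 2 + 1 < h) :
    4 * (k * e) ^ 2 * h < (h * k - 1) ^ 2 := by
  have h1 : k * (h - 1) ≤ h * k - 1 := by
    have : k * (h - 1) = h * k - k := by
      rw [Nat.mul_sub, mul_one, mul_comm]
    rw [this]
    omega
  have h2 : (k * (h - 1)) ^ 2 ≤ (h * k - 1) ^ 2 := Nat.pow_le_pow_left h1 2
  refine lt_of_lt_of_le ?_ h2
  obtain ⟨j, rfl⟩ : ∃ j, h = j + 1 := ⟨h - 1, by omega⟩
  simp only [Nat.add_sub_cancel]
  have hj : 4 * e ^ 2 + 1 ≤ j := by omega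
  have h3 : 4 * e ^ 2 * (j + 1) < j ^ 2 := by nlinarith
  have hk2 : 0 < k ^ 2 := by positivity
  calc 4 * (k * e) ^ 2 * (j + 1) = k ^ 2 * (4 * e ^ 2 * (j + 1)) := by ring
    _ < k ^ 2 * j ^ 2 := Nat.mul_lt_mul_of_pos_left h3 hk2
    _ = (k * j) ^ 2 := by ring

/-- Let K be a solvable normal subgroup of the finite group L and (S, τ, R) a coherence system from L to G with S the functions induced from non-principal irreducible characters of K; S(A) the members of S induced from characters whose kernel contains A. Let M ≤ H₁ ≤ H ≤ K be normal subgroups of L such that every term of the lower central series of H eventually lies in M (H/M nilpotent), S(H₁) is coherent and [H:H₁] > 4 * [L:K]^2 + 1. Then S(M) is coherent. -/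
theorem result {L : Type*} [Group L] [Fintype L] {G : Type*} [Group G] [Fintype G] (K : Subgroup L) [hK : K.Normal] (hsolv : Group.IsSolvable K) (τ : (L → ℂ) → (G → ℂ)) (R : (L → ℂ) → Finset (G → ℂ)) (hS : Cfsg.IsCoherenceSystem (Cfsg.inducedIrrAbove K ⊥) τ R) (M H₁ H : Subgroup L) [M.Normal] [H₁.Normal] [H.Normal] (hMH₁ : M ≤ H₁) (hH₁H : H₁ ≤ H) (hHK : H ≤ K) [(M.subgroupOf H).Normal] (hnil : Group.IsNilpotent (↥H ⧸ M.subgroupOf H)) (hcoh : Cfsg.IsCoherent (Cfsg.inducedIrrAbove K H₁) {1}ᶜ τ) (hbig : 4 * K.index ^ 2 + 1 < H₁.relIndex H) : Cfsg.IsCoherent (Cfsg.inducedIrrAbove K M) {1}ᶜ τ := by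
  have hH₁lt : H₁ < H := by
    refine lt_of_le_of_ne hH₁H ?_
    intro e
    rw [e, Subgroup.relIndex_self] at hbig
    omega
  have key : ∀ n : ℕ, ∀ B : Subgroup L, B.Normal → M ≤ B → B ≤ H₁ →
      Cfsg.IsCoherent (Cfsg.inducedIrrAbove K B) {1}ᶜ τ → Nat.card B = n →
      Cfsg.IsCoherent (Cfsg.inducedIrrAbove K M) {1}ᶜ τ := by
    intro n
    induction n using Nat.strong_induction_on with
    | _ n ih =>
      intro B hBn hMB hBH₁ hB hcard
      haveI := hBn
      by_cases heq : M = B
      · rw [heq]; exact hB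
      have hlt : M < B := lt_of_le_of_ne hMB heq
      have hBH : B ≤ H := hBH₁.trans hH₁H
      have hB₁ := comm_lt M B H hlt hBH hnil
      have hBK : B < K := lt_of_lt_of_le (lt_of_le_of_lt hBH₁ hH₁lt) hHK
      have hnew := Cfsg.Agent.S1519.result K hsolv τ R hS B (⁅B, H⁆ ⊔ M) H B hBK
        (lt_trans hB₁ hBK) hB₁.le hBH hHK
        (by
          intro x hx y hy
          exact Subgroup.mem_sup_left (Subgroup.commutator_mem_commutator hx hy)) hB
        (by
          have e1 : H.index = H.relIndex K * K.index := (Subgroup.relIndex_mul_index hHK).symm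
          have e2 : B.relIndex K = B.relIndex H * H.relIndex K :=
            (Subgroup.relIndex_mul_relIndex B H K hBH hHK).symm
          have e3 : B.relIndex H = B.relIndex H₁ * H₁.relIndex H :=
            (Subgroup.relIndex_mul_relIndex B H₁ H hBH₁ hH₁H).symm
          have p1 : 1 ≤ H.relIndex K := Nat.one_le_iff_ne_zero.2 Subgroup.index_ne_zero_of_finite
          have p2 : 1 ≤ B.relIndex H₁ := Nat.one_le_iff_ne_zero.2 Subgroup.index_ne_zero_of_finite
          have p3 : H₁.relIndex H ≤ B.relIndex H := by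
            rw [e3]; exact Nat.le_mul_of_pos_left _ p2
          rw [e1, e2]
          exact arith K.index (H.relIndex K) (B.relIndex H) p1 (lt_of_lt_of_le hbig p3))
      refine ih (Nat.card ↥(⁅B, H⁆ ⊔ M)) ?_ (⁅B, H⁆ ⊔ M) inferInstance le_sup_right
        (hB₁.le.trans hBH₁) hnew rfl
      rw [← hcard]
      exact Set.ncard_lt_ncard (s := (↑(⁅B, H⁆ ⊔ M) : Set L)) (t := (↑B : Set L))
        (SetLike.coe_ssubset_coe.2 hB₁) (Set.toFinite _)
  exact key _ H₁ inferInstance hMH₁ le_rfl hcoh rfl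

end Cfsg.Agent.S1520
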