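import Cfsg.Statements.S1531
import Cfsg.Agent.Lib.Helper32Coh
-- import your own Cfsg.Agent.* helpers here

set_option autoImplicit false
open Cfsg

namespace Cfsg.Agent.S1531

open Cfsg.Agent.Lib.Helper4Char Cfsg.Agent.Lib.Helper4Char2 Cfsg.Agent.Lib.Helper4Char4
open Cfsg.Agent.Lib.Helper32Virt Cfsg.Agent.Lib.Helper32Coh

section

variable {L : Type*} [Group L] [Fintype L] {G : Type*} [Group G] [Fintype G]

/-- `m χ - n χ'` for degrees `n = χ 1`, `m = χ' 1`. -/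
theorem diff_mem {X : Set (L → ℂ)} {χ χ' : L → ℂ} (hχ : χ ∈ X) (hχ' : χ' ∈ X) (n m : ℕ)
    (hn : χ 1 = n) (hm : χ' 1 = m) : (m : ℤ) • χ - (n : ℤ) • χ' ∈ Cfsg.zspanOn X {1}ᶜ := by
  rw [mem_zspanOn_one]
  refine ⟨zspan_sub (zspan_zsmul _ (zspan_of_mem hχ)) (zspan_zsmul _ (zspan_of_mem hχ')), ?_⟩
  rw [Pi.sub_apply, zsmul_apply', zsmul_apply', hn, hm]
  push_cast; ring

theorem part1 (S X Y : Set (L → ℂ)) (hirr : ∀ ξ ∈ S, Cfsg.IsIrrCharacter L ξ) (hXS : X ⊆ S)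
    (hYS : Y ⊆ S) (hXY : Disjoint X Y) (hX2 : ∃ a ∈ X, ∃ b ∈ X, a ≠ b)
    (hY2 : ∃ a ∈ Y, ∃ b ∈ Y, a ≠ b) (α : (L → ℂ) → (G → ℂ))
    (hα : Cfsg.IsLinearIsometryOn (Cfsg.zspanOn S {1}ᶜ) α)
    (hα1 : ∀ θ ∈ Cfsg.zspanOn S {1}ᶜ, α θ 1 = 0) (σ τ : (L → ℂ) → (G → ℂ))
    (hσ : Cfsg.IsLinearIsometryOn (Cfsg.zspan X) σ) (hσα : ∀ θ ∈ Cfsg.zspanOn X {1}ᶜ, σ θ = α θ)
    (hτ : Cfsg.IsLinearIsometryOn (Cfsg.zspan Y) τ) (hτα : ∀ θ ∈ Cfsg.zspanOn Y {1}ᶜ, τ θ = α θ)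
    (χ : L → ℂ) (hχ : χ ∈ X) (η : L → ℂ) (hη : η ∈ Y) : Cfsg.classInner (σ χ) (τ η) = 0 := by
  have hirrX : ∀ ξ ∈ X, Cfsg.IsIrrCharacter L ξ := fun ξ h => hirr ξ (hXS h)
  have hirrY : ∀ ξ ∈ Y, Cfsg.IsIrrCharacter L ξ := fun ξ h => hirr ξ (hYS h)
  have hne : ∀ ξ ∈ X, ∀ ζ ∈ Y, ξ ≠ ζ := fun ξ h1 ζ h2 e => Set.disjoint_left.1 hXY h1 (e ▸ h2)
  obtain ⟨χ', hχ', hχne⟩ : ∃ χ' ∈ X, χ ≠ χ' := by
    obtain ⟨a, ha, b, hb, hab⟩ := hX2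
    by_cases e : χ = a
    · exact ⟨b, hb, e ▸ hab⟩
    · exact ⟨a, ha, e⟩
  obtain ⟨η', hη', hηne⟩ : ∃ η' ∈ Y, η ≠ η' := by
    obtain ⟨a, ha, b, hb, hab⟩ := hY2
    by_cases e : η = a
    · exact ⟨b, hb, e ▸ hab⟩
    · exact ⟨a, ha, e⟩
  obtain ⟨n, hn0, hn⟩ := IsIrrCharacter.exists_degree (hirrX χ hχ)
  obtain ⟨n', hn'0, hn'⟩ := IsIrrCharacter.exists_degree (hirrX χ' hχ')
  obtain ⟨m, hm0, hm⟩ := IsIrrCharacter.exists_degree (hirrY η hη)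
  obtain ⟨m', hm'0, hm'⟩ := IsIrrCharacter.exists_degree (hirrY η' hη')
  have h0σ : ∀ θ ∈ Cfsg.zspan X, θ 1 = 0 → σ θ 1 = 0 := by
    intro θ hθ h1
    have hm : θ ∈ Cfsg.zspanOn X {1}ᶜ := mem_zspanOn_one.2 ⟨hθ, h1⟩
    rw [hσα θ hm]; exact hα1 θ (zspanOn_mono hXS hm)
  have h0τ : ∀ θ ∈ Cfsg.zspan Y, θ 1 = 0 → τ θ 1 = 0 := by
    intro θ hθ h1
    have hm : θ ∈ Cfsg.zspanOn Y {1}ᶜ := mem_zspanOn_one.2 ⟨hθ, h1⟩
    rw [hτα θ hm]; exact hα1 θ (zspanOn_mono hYS hm)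
  have hA := diff_mem hχ hχ' n n' hn hn'
  have hB := diff_mem hη hη' m m' hm hm'
  have hmix0 := iso_inner hα (zspanOn_mono hXS hA) (zspanOn_mono hYS hB)
  rw [← hσα _ hA, ← hτα _ hB,
    iso_sub closed_zspan hσ (zspan_zsmul _ (zspan_of_mem hχ)) (zspan_zsmul _ (zspan_of_mem hχ')),
    iso_sub closed_zspan hτ (zspan_zsmul _ (zspan_of_mem hη)) (zspan_zsmul _ (zspan_of_mem hη')),
    iso_zsmul hσ _ (zspan_of_mem hχ), iso_zsmul hσ _ (zspan_of_mem hχ'),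
    iso_zsmul hτ _ (zspan_of_mem hη), iso_zsmul hτ _ (zspan_of_mem hη')] at hmix0
  have hzero : Cfsg.classInner ((n' : ℤ) • χ - (n : ℤ) • χ') ((m' : ℤ) • η - (m : ℤ) • η') = 0 := by
    rw [classInner_sub_left, classInner_sub_right, classInner_sub_right, classInner_zsmul_left,
      classInner_zsmul_left, classInner_zsmul_left, classInner_zsmul_left, classInner_zsmul_right,
      classInner_zsmul_right, classInner_zsmul_right, classInner_zsmul_right,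
      classInner_irr_ne (hirrX χ hχ) (hirrY η hη) (hne χ hχ η hη),
      classInner_irr_ne (hirrX χ hχ) (hirrY η' hη') (hne χ hχ η' hη'),
      classInner_irr_ne (hirrX χ' hχ') (hirrY η hη) (hne χ' hχ' η hη),
      classInner_irr_ne (hirrX χ' hχ') (hirrY η' hη') (hne χ' hχ' η' hη')]
    ring
  rw [hzero] at hmix0
  have cast1 : ∀ (k : ℕ) (f : G → ℂ), (((k : ℝ) : ℂ)) • f = (k : ℤ) • f := by
    intro k f; funext g; simp
  refine (four_signed (iso_sirr hirrX hσ hχ) (iso_sirr hirrX hσ hχ') (iso_sirr hirrY hτ hη)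
    (iso_sirr hirrY hτ hη') (n' : ℝ) (n : ℝ) (m' : ℝ) (m : ℝ) (by exact_mod_cast hn'0.ne')
    (by exact_mod_cast hn0.ne') (by exact_mod_cast hm'0.ne') (by exact_mod_cast hm0.ne')
    ?_ ?_ ?_ ?_ ?_).1
  · rw [iso_inner hσ (zspan_of_mem hχ) (zspan_of_mem hχ'),
      classInner_irr_ne (hirrX χ hχ) (hirrX χ' hχ') hχne]
  · rw [iso_inner hτ (zspan_of_mem hη) (zspan_of_mem hη'),
      classInner_irr_ne (hirrY η hη) (hirrY η' hη') hηne]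
  · rw [cast1, cast1, cast1, cast1]; exact hmix0
  · have := iso_degree hσ h0σ hχ hχ' n n' hn hn'
    simpa using this
  · have := iso_degree hτ h0τ hη hη' m m' hm hm'
    simpa using this

theorem finite_of_irr (S : Set (L → ℂ)) (hirr : ∀ ξ ∈ S, Cfsg.IsIrrCharacter L ξ) : S.Finite := by
  have h1 : {ξ : L → ℂ | Cfsg.IsIrrCharacter L ξ}.Finite := by
    have : Finite (Cfsg.IrrCharacter L) := inferInstance
    exact Set.finite_coe_iff.1 this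
  exact h1.subset hirr

theorem zspan_irr_one_int (S : Set (L → ℂ)) (hirr : ∀ ξ ∈ S, Cfsg.IsIrrCharacter L ξ)
    {θ : L → ℂ} (hθ : θ ∈ Cfsg.zspan S) : ∃ m : ℤ, θ 1 = m := by
  induction hθ using Submodule.span_induction with
  | mem x hx =>
    obtain ⟨n, -, hn⟩ := IsIrrCharacter.exists_degree (hirr x hx)
    exact ⟨n, by simp [hn]⟩
  | zero => exact ⟨0, by simp⟩
  | add x y _ _ hx hy =>
    obtain ⟨n, hn⟩ := hx
    obtain ⟨m, hm⟩ := hy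
    exact ⟨n + m, by simp [hn, hm]⟩
  | smul a x _ hx =>
    obtain ⟨n, hn⟩ := hx
    exact ⟨a * n, by rw [zsmul_apply', hn]; simp⟩

theorem part2 (S X Y : Set (L → ℂ)) (hirr : ∀ ξ ∈ S, Cfsg.IsIrrCharacter L ξ) (hXS : X ⊆ S)
    (hYS : Y ⊆ S) (hXY : Disjoint X Y) (hX2 : ∃ a ∈ X, ∃ b ∈ X, a ≠ b)
    (α : (L → ℂ) → (G → ℂ))
    (hα : Cfsg.IsLinearIsometryOn (Cfsg.zspanOn S {1}ᶜ) α)
    (σ τ : (L → ℂ) → (G → ℂ))
    (hσ : Cfsg.IsLinearIsometryOn (Cfsg.zspan X) σ) (hσα : ∀ θ ∈ Cfsg.zspanOn X {1}ᶜ, σ θ = α θ)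
    (hτ : Cfsg.IsLinearIsometryOn (Cfsg.zspan Y) τ) (hτα : ∀ θ ∈ Cfsg.zspanOn Y {1}ᶜ, τ θ = α θ)
    (h1 : ∀ χ ∈ X, ∀ η ∈ Y, Cfsg.classInner (σ χ) (τ η) = 0)
    (χ₀ : L → ℂ) (hχ₀ : χ₀ ∈ X) (η₀ : L → ℂ) (hη₀ : η₀ ∈ Y)
    (hlink : α (χ₀ 1 • η₀ - η₀ 1 • χ₀) = χ₀ 1 • τ η₀ - η₀ 1 • σ χ₀) :
    Cfsg.IsCoherent (X ∪ Y) {1}ᶜ α := by
  classical
  have hirrX : ∀ ξ ∈ X, Cfsg.IsIrrCharacter L ξ := fun ξ h => hirr ξ (hXS h)
  have hirrY : ∀ ξ ∈ Y, Cfsg.IsIrrCharacter L ξ := fun ξ h => hirr ξ (hYS h)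
  have hne : ∀ ξ ∈ X, ∀ ζ ∈ Y, ξ ≠ ζ := fun ξ h1 ζ h2 e => Set.disjoint_left.1 hXY h1 (e ▸ h2)
  have hXYS : X ∪ Y ⊆ S := Set.union_subset hXS hYS
  have hES : Closed (Cfsg.zspanOn S {1}ᶜ) := closed_zspanOn
  set sX := (finite_of_irr X hirrX).toFinset with hsX
  set sY := (finite_of_irr Y hirrY).toFinset with hsY
  have memX : ∀ ξ, ξ ∈ sX ↔ ξ ∈ X := fun ξ => Set.Finite.mem_toFinset _
  have memY : ∀ ξ, ξ ∈ sY ↔ ξ ∈ Y := fun ξ => Set.Finite.mem_toFinset _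
  have hdisj : Disjoint sX sY := by
    rw [Finset.disjoint_left]
    intro ξ h1 h2
    exact hne ξ ((memX ξ).1 h1) ξ ((memY ξ).1 h2) rfl
  have hcoe : (↑(sX ∪ sY) : Set (L → ℂ)) = X ∪ Y := by
    ext ξ; simp [memX, memY]
  have hs : Orth (sX ∪ sY) := by
    apply orth_of_irr
    intro ξ hξ
    rcases Finset.mem_union.1 hξ with h | h
    · exact hirrX ξ ((memX ξ).1 h)
    · exact hirrY ξ ((memY ξ).1 h)
  set v' : (L → ℂ) → (G → ℂ) := fun ξ => if ξ ∈ X then σ ξ else τ ξ with hv'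
  have hv'X : ∀ ξ ∈ X, v' ξ = σ ξ := fun ξ h => by simp only [hv']; rw [if_pos h]
  have hv'Y : ∀ ξ ∈ Y, v' ξ = τ ξ := fun ξ h => by
    simp only [hv']; rw [if_neg (fun hx => hne ξ hx ξ h rfl)]
  have hgram : ∀ ξ ∈ sX ∪ sY, ∀ ξ' ∈ sX ∪ sY,
      Cfsg.classInner (v' ξ) (v' ξ') = Cfsg.classInner ξ ξ' := by
    intro ξ hξ ξ' hξ'
    rcases Finset.mem_union.1 hξ with h | h <;> rcases Finset.mem_union.1 hξ' with h' | h'
    · rw [memX] at h h'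
      rw [hv'X ξ h, hv'X ξ' h', iso_inner hσ (zspan_of_mem h) (zspan_of_mem h')]
    · rw [memX] at h; rw [memY] at h'
      rw [hv'X ξ h, hv'Y ξ' h', h1 ξ h ξ' h', classInner_irr_ne (hirrX ξ h) (hirrY ξ' h')
        (hne ξ h ξ' h')]
    · rw [memY] at h; rw [memX] at h'
      rw [hv'Y ξ h, hv'X ξ' h', gen_inner_comm (iso_gen hτ (zspan_of_mem h))
        (iso_gen hσ (zspan_of_mem h')), h1 ξ' h' ξ h, classInner_irr_ne (hirrY ξ h) (hirrX ξ' h')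
        (hne ξ' h' ξ h).symm]
    · rw [memY] at h h'
      rw [hv'Y ξ h, hv'Y ξ' h', iso_inner hτ (zspan_of_mem h) (zspan_of_mem h')]
  have hvirt : ∀ ξ ∈ sX ∪ sY, Cfsg.IsGeneralizedCharacter G (v' ξ) := by
    intro ξ hξ
    rcases Finset.mem_union.1 hξ with h | h
    · rw [memX] at h; rw [hv'X ξ h]; exact iso_gen hσ (zspan_of_mem h)
    · rw [memY] at h; rw [hv'Y ξ h]; exact iso_gen hτ (zspan_of_mem h)
  have hiso := ext_iso hs v' hgram hvirt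
  rw [hcoe] at hiso
  have hextX : ∀ θ ∈ Cfsg.zspan X, ext (sX ∪ sY) v' θ = σ θ := by
    intro θ hθ
    apply agree_on_zspan (S := X) (ext (sX ∪ sY) v') σ
      (fun a _ b _ => ext_add _ _ a b) (fun a _ n => ext_zsmul _ _ n a)
      (fun a ha b hb => iso_add hσ ha hb) (fun a ha n => iso_zsmul hσ n ha) _ hθ
    intro ξ hξ
    rw [ext_mem hs v' (Finset.mem_union_left _ ((memX ξ).2 hξ)), hv'X ξ hξ]
  have hextY : ∀ θ ∈ Cfsg.zspan Y, ext (sX ∪ sY) v' θ = τ θ := by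
    intro θ hθ
    apply agree_on_zspan (S := Y) (ext (sX ∪ sY) v') τ
      (fun a _ b _ => ext_add _ _ a b) (fun a _ n => ext_zsmul _ _ n a)
      (fun a ha b hb => iso_add hτ ha hb) (fun a ha n => iso_zsmul hτ n ha) _ hθ
    intro ξ hξ
    rw [ext_mem hs v' (Finset.mem_union_right _ ((memY ξ).2 hξ)), hv'Y ξ hξ]
  obtain ⟨c, hc0, hc⟩ := IsIrrCharacter.exists_degree (hirrX χ₀ hχ₀)
  obtain ⟨e, he0, he⟩ := IsIrrCharacter.exists_degree (hirrY η₀ hη₀)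
  constructor
  · obtain ⟨a, ha, b, hb, hab⟩ := hX2
    obtain ⟨n, hn0, hn⟩ := IsIrrCharacter.exists_degree (hirrX a ha)
    obtain ⟨m, hm0, hm⟩ := IsIrrCharacter.exists_degree (hirrX b hb)
    refine ⟨_, zspanOn_mono Set.subset_union_left (diff_mem ha hb n m hn hm), ?_⟩
    intro h0
    have h2 : Cfsg.classInner ((m : ℤ) • a - (n : ℤ) • b) a = 0 := by
      rw [h0, classInner_zero_left]
    rw [classInner_sub_left, classInner_zsmul_left, classInner_zsmul_left,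
      classInner_irr_self (hirrX a ha), classInner_irr_ne (hirrX b hb) (hirrX a ha) hab.symm] at h2
    have : (m : ℂ) = 0 := by simpa using h2
    exact hm0.ne' (by exact_mod_cast this)
  · refine ⟨ext (sX ∪ sY) v', hiso, ?_⟩
    intro θ hθ
    have hθs : θ ∈ Cfsg.zspan (↑(sX ∪ sY) : Set (L → ℂ)) := by rw [hcoe]; exact hθ.1
    have hexp := expand hs hθs
    rw [Finset.sum_union hdisj] at hexp
    set x := ∑ ξ ∈ sX, coef θ ξ • ξ with hx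
    set y := ∑ ξ ∈ sY, coef θ ξ • ξ with hy
    have hxX : x ∈ Cfsg.zspan X := by
      apply zspan_sum
      intro ξ hξ
      obtain ⟨k, hk⟩ := coef_int hs hθs (Finset.mem_union_left _ hξ)
      rw [hk, intCast_smul_eq]
      exact zspan_zsmul _ (zspan_of_mem ((memX ξ).1 hξ))
    have hyY : y ∈ Cfsg.zspan Y := by
      apply zspan_sum
      intro ξ hξ
      obtain ⟨k, hk⟩ := coef_int hs hθs (Finset.mem_union_right _ hξ)
      rw [hk, intCast_smul_eq]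
      exact zspan_zsmul _ (zspan_of_mem ((memY ξ).1 hξ))
    obtain ⟨m, hm⟩ := zspan_irr_one_int X hirrX hxX
    have hy1 : y 1 = -(m : ℂ) := by
      have h2 := (mem_zspanOn_one.1 hθ).2
      rw [hexp, Pi.add_apply, hm] at h2
      linear_combination h2
    have hx' : (c : ℤ) • x - m • χ₀ ∈ Cfsg.zspanOn X {1}ᶜ := by
      rw [mem_zspanOn_one]
      refine ⟨zspan_sub (zspan_zsmul _ hxX) (zspan_zsmul _ (zspan_of_mem hχ₀)), ?_⟩
      rw [Pi.sub_apply, zsmul_apply', zsmul_apply', hm, hc]; push_cast; ring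
    have hy' : (e : ℤ) • y + m • η₀ ∈ Cfsg.zspanOn Y {1}ᶜ := by
      rw [mem_zspanOn_one]
      refine ⟨zspan_add (zspan_zsmul _ hyY) (zspan_zsmul _ (zspan_of_mem hη₀)), ?_⟩
      rw [Pi.add_apply, zsmul_apply', zsmul_apply', hy1, he]; push_cast; ring
    have hw : (c : ℤ) • η₀ - (e : ℤ) • χ₀ ∈ Cfsg.zspanOn S {1}ᶜ := by
      rw [mem_zspanOn_one]
      refine ⟨zspan_sub (zspan_zsmul _ (zspan_of_mem (hYS hη₀)))
        (zspan_zsmul _ (zspan_of_mem (hXS hχ₀))), ?_⟩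
      rw [Pi.sub_apply, zsmul_apply', zsmul_apply', hc, he]; push_cast; ring
    have hlink' : α ((c : ℤ) • η₀ - (e : ℤ) • χ₀) = (c : ℤ) • τ η₀ - (e : ℤ) • σ χ₀ := by
      rw [hc, he, natCast_smul_eq, natCast_smul_eq, natCast_smul_eq, natCast_smul_eq] at hlink
      exact hlink
    have hθS : θ ∈ Cfsg.zspanOn S {1}ᶜ := zspanOn_mono hXYS hθ
    have hid : ((c : ℤ) * (e : ℤ)) • θ = (e : ℤ) • ((c : ℤ) • x - m • χ₀) +
        (c : ℤ) • ((e : ℤ) • y + m • η₀) - m • ((c : ℤ) • η₀ - (e : ℤ) • χ₀) := by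
      conv_lhs => rw [hexp]
      funext g
      simp only [Pi.add_apply, Pi.sub_apply, zsmul_apply']
      push_cast
      ring
    have hα1' := iso_zsmul hα ((c : ℤ) * (e : ℤ)) hθS
    have hXm := zspanOn_mono hXS hx'
    have hYm := zspanOn_mono hYS hy'
    rw [hid, iso_sub hES hα (hES.add _ (hES.zsmul _ _ hXm) _ (hES.zsmul _ _ hYm))
      (hES.zsmul _ _ hw), iso_add hα (hES.zsmul _ _ hXm) (hES.zsmul _ _ hYm),
      iso_zsmul hα _ hXm, iso_zsmul hα _ hYm, iso_zsmul hα _ hw, hlink', ← hσα _ hx', ← hτα _ hy',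
      iso_sub closed_zspan hσ (zspan_zsmul _ hxX) (zspan_zsmul _ (zspan_of_mem hχ₀)),
      iso_add hτ (zspan_zsmul _ hyY) (zspan_zsmul _ (zspan_of_mem hη₀)),
      iso_zsmul hσ _ hxX, iso_zsmul hσ _ (zspan_of_mem hχ₀), iso_zsmul hτ _ hyY,
      iso_zsmul hτ _ (zspan_of_mem hη₀)] at hα1'
    have hfin : ((c : ℤ) * (e : ℤ)) • (σ x + τ y) = ((c : ℤ) * (e : ℤ)) • α θ := by
      rw [← hα1']
      funext g
      simp only [Pi.add_apply, Pi.sub_apply, zsmul_apply']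
      push_cast
      ring
    have hce : ((c : ℤ) * (e : ℤ)) ≠ 0 := by
      have : 0 < (c : ℤ) * (e : ℤ) := by positivity
      exact this.ne'
    have hfin' : σ x + τ y = α θ := by
      funext g
      have := congrFun hfin g
      rw [zsmul_apply', zsmul_apply'] at this
      exact mul_left_cancel₀ (by exact_mod_cast hce) this
    conv_lhs => rw [hexp]
    rw [ext_add, hextX x hxX, hextY y hyY, hfin']

end

/-- Let N be a subgroup of the finite group G, S a set of irreducible characters of N, and α a linear isometry on the integer combinations of S vanishing at 1 with values virtual characters of G vanishing at 1. Let X, Y ⊆ S be disjoint, each with at least two members, and σ, τ linear isometries on ℤ[X], ℤ[Y] into virtual characters agreeing with α on the members vanishing at 1. Then ⟨σ χ, τ η⟩ = 0 for χ ∈ X, η ∈ Y; and if for some χ₀ ∈ X, η₀ ∈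 Y with degrees c = χ₀ 1, e = η₀ 1 one has α (c • η₀ − e • χ₀) = c • τ η₀ − e • σ χ₀, then (X ∪ Y, N minus 1, α) is coherent. -/
theorem result {G : Type*} [Group G] [Fintype G] (N : Subgroup G) [Fintype N] (S X Y : Set (N → ℂ)) (hirr : ∀ ξ ∈ S, Cfsg.IsIrrCharacter N ξ) (hXS : X ⊆ S) (hYS : Y ⊆ S) (hXY : Disjoint X Y) (hX2 : ∃ a ∈ X, ∃ b ∈ X, a ≠ b) (hY2 : ∃ a ∈ Y, ∃ b ∈ Y, a ≠ b) (α : (N → ℂ) → (G → ℂ)) (hα : Cfsg.IsLinearIsometryOn (Cfsg.zspanOn S {1}ᶜ) α) (hα1 : ∀ θ ∈ Cfsg.zspanOn S {1}ᶜ, α θ 1 = 0) (σ τ : (N → ℂ) → (G → ℂ)) (hσ : Cfsg.IsLinearIsometryOn (Cfsg.zspan X) σ) (hσα : ∀ θ ∈ Cfsg.zspanOn X {1}ᶜ, σ θ = α θ) (hτ : Cfsg.IsLinearIsometryOn (Cfsg.zspan Y) τ) (hτα : ∀ θ ∈ Cfsg.zspanOn Y {1}ᶜ, τ θ = α θ) : (∀ χ ∈ X, ∀ η ∈ Y, Cfsg.classInner (σ χ) (τ η) = 0) ∧ ((∃ χ₀ ∈ X, ∃ η₀ ∈ Y, α (χ₀ 1 • η₀ - η₀ 1 • χ₀) = χ₀ 1 • τ η₀ - η₀ 1 • σ χ₀) → Cfsg.IsCoherent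 (X ∪ Y) {1}ᶜ α) := by
  have h1 := part1 S X Y hirr hXS hYS hXY hX2 hY2 α hα hα1 σ τ hσ hσα hτ hτα
  refine ⟨h1, ?_⟩
  rintro ⟨χ₀, hχ₀, η₀, hη₀, hlink⟩
  exact part2 S X Y hirr hXS hYS hXY hX2 α hα σ τ hσ hσα hτ hτα h1 χ₀ hχ₀ η₀ hη₀ hlink

end Cfsg.Agent.S1531
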