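import Cfsg.Statements.S1514
import Cfsg.Agent.Lib.Helper32Coh
-- import your own Cfsg.Agent.* helpers here

set_option autoImplicit false
open Cfsg

namespace Cfsg.Agent.S1514

open Cfsg.Agent.Lib.Helper4Char Cfsg.Agent.Lib.Helper4Char2 Cfsg.Agent.Lib.Helper4Char4
open Cfsg.Agent.Lib.Helper32Virt Cfsg.Agent.Lib.Helper32Coh

theorem classInner_conjFun {L : Type*} [Group L] [Fintype L] (a b : L → ℂ) :
    Cfsg.classInner (Cfsg.conjFun a) (Cfsg.conjFun b) = (starRingEnd ℂ) (Cfsg.classInner a b) := by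
  simp [Cfsg.classInner, Cfsg.conjFun, map_sum]

theorem conjFun_conjFun {L : Type*} (a : L → ℂ) : Cfsg.conjFun (Cfsg.conjFun a) = a := by
  funext x; simp [Cfsg.conjFun]

theorem sub_conj_mem {L : Type*} [Group L] (S : Set (L → ℂ))
    (hirr : ∀ χ ∈ S, Cfsg.IsIrrCharacter L χ)
    (hconj : ∀ χ ∈ S, Cfsg.conjFun χ ∈ S ∧ Cfsg.conjFun χ ≠ χ) {χ : L → ℂ} (hχ : χ ∈ S) :
    χ - Cfsg.conjFun χ ∈ Cfsg.zspanOn S {1}ᶜ := by
  rw [mem_zspanOn_one]
  refine ⟨zspan_sub (zspan_of_mem hχ) (zspan_of_mem (hconj χ hχ).1), ?_⟩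
  obtain ⟨n, hn⟩ := IsCharacter.exists_degree (IsIrrCharacter.isCharacter (hirr χ hχ))
  simp [Cfsg.conjFun, hn]

theorem exists_pair {L : Type*} [Group L] [Fintype L] {G : Type*} [Group G] [Fintype G]
    (S : Set (L → ℂ)) (hirr : ∀ χ ∈ S, Cfsg.IsIrrCharacter L χ)
    (hconj : ∀ χ ∈ S, Cfsg.conjFun χ ∈ S ∧ Cfsg.conjFun χ ≠ χ) (τ : (L → ℂ) → (G → ℂ))
    (hτ : Cfsg.IsLinearIsometryOn (Cfsg.zspanOn S {1}ᶜ) τ) (χ : L → ℂ) (hχ : χ ∈ S) :
    ∃ a b : G → ℂ, SIrr G a ∧ SIrr G b ∧ Cfsg.classInner a b = 0 ∧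
      τ (χ - Cfsg.conjFun χ) = a + b := by
  have hm := sub_conj_mem S hirr hconj hχ
  apply gen_norm_two (iso_gen hτ hm)
  rw [iso_inner hτ hm hm, classInner_sub_left, classInner_sub_right, classInner_sub_right,
    classInner_irr_self (hirr χ hχ), classInner_irr_self (hirr _ (hconj χ hχ).1),
    classInner_irr_ne (hirr χ hχ) (hirr _ (hconj χ hχ).1) (hconj χ hχ).2.symm,
    classInner_irr_ne (hirr _ (hconj χ hχ).1) (hirr χ hχ) (hconj χ hχ).2]
  norm_num

/-- Let S be a nonempty set of irreducible characters of the finite group L, closed under complex conjugation and containing no real-valued member, and τ a linear isometry on the integer combinations of S vanishing at 1, with values virtual characters of G vanishing at 1. Then there is a choice R making (S, τ, R) a coherence system. -/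
theorem result {L : Type*} [Group L] [Fintype L] {G : Type*} [Group G] [Fintype G] (S : Set (L → ℂ)) (hS : S.Nonempty) (hirr : ∀ χ ∈ S, Cfsg.IsIrrCharacter L χ) (hconj : ∀ χ ∈ S, Cfsg.conjFun χ ∈ S ∧ Cfsg.conjFun χ ≠ χ) (τ : (L → ℂ) → (G → ℂ)) (hτ : Cfsg.IsLinearIsometryOn (Cfsg.zspanOn S {1}ᶜ) τ) (hτ1 : ∀ α ∈ Cfsg.zspanOn S {1}ᶜ, τ α 1 = 0) : ∃ R : (L → ℂ) → Finset (G → ℂ), Cfsg.IsCoherenceSystem S τ R := by
  classical
  choose! a b ha hb hab hsum using exists_pair S hirr hconj τ hτ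
  have hne : ∀ χ ∈ S, a χ ≠ b χ := by
    intro χ hχ e
    have h1 := (ha χ hχ).inner_self
    rw [e] at h1
    have h2 := hab χ hχ
    rw [e, h1] at h2
    exact one_ne_zero h2
  have hba : ∀ χ ∈ S, Cfsg.classInner (b χ) (a χ) = 0 := by
    intro χ hχ
    rw [gen_inner_comm (hb χ hχ).gen (ha χ hχ).gen, hab χ hχ]
  refine ⟨fun χ => {a χ, b χ}, ?_⟩
  refine ⟨hS, fun χ hχ => IsIrrCharacter.isCharacter (hirr χ hχ), fun χ hχ => (hconj χ hχ).1,
    fun χ hχ => (hconj χ hχ).2, hτ, hτ1, fun χ hχ φ hφ hne => classInner_irr_ne (hirr χ hχ)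
      (hirr φ hφ) hne, ?_, ?_, ?_, ?_⟩
  · intro χ hχ α hα β hβ
    simp only [Finset.mem_insert, Finset.mem_singleton] at hα hβ
    rcases hα with rfl | rfl <;> rcases hβ with rfl | rfl
    · rw [if_pos rfl, (ha χ hχ).inner_self]
    · rw [if_neg (hne χ hχ), hab χ hχ]
    · rw [if_neg (hne χ hχ).symm, hba χ hχ]
    · rw [if_pos rfl, (hb χ hχ).inner_self]
  · intro χ hχ α hα
    simp only [Finset.mem_insert, Finset.mem_singleton] at hα
    rcases hα with rfl | rfl
    · exact (ha χ hχ).gen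
    · exact (hb χ hχ).gen
  · intro χ hχ
    rw [hsum χ hχ, Finset.sum_pair (hne χ hχ)]
  · intro χ hχ φ hφ h1 h2 α hα β hβ
    have hmχ := sub_conj_mem S hirr hconj hχ
    have hmφ := sub_conj_mem S hirr hconj hφ
    have h3 : Cfsg.classInner (a φ + b φ) (a χ + b χ) = 0 := by
      rw [← hsum φ hφ, ← hsum χ hχ, iso_inner hτ hmφ hmχ, classInner_sub_left,
        classInner_sub_right, classInner_sub_right, h1, h2, classInner_conjFun, h1]
      have h4 : Cfsg.classInner (Cfsg.conjFun φ) χ = 0 := by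
        have := classInner_conjFun φ (Cfsg.conjFun χ)
        rw [conjFun_conjFun, h2] at this
        simpa using this
      rw [h4]; simp
    have d1 : a φ 1 + b φ 1 = 0 := by
      have := hτ1 _ hmφ
      rw [hsum φ hφ] at this
      exact this
    have d2 : a χ 1 + b χ 1 = 0 := by
      have := hτ1 _ hmχ
      rw [hsum χ hχ] at this
      exact this
    obtain ⟨r1, r2, r3, r4⟩ := four_signed (ha φ hφ) (hb φ hφ).neg (ha χ hχ) (hb χ hχ).neg 1 1 1 1
      one_ne_zero one_ne_zero one_ne_zero one_ne_zero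
      (by rw [classInner_neg_right, hab φ hφ, neg_zero])
      (by rw [classInner_neg_right, hab χ hχ, neg_zero])
      (by simpa using h3)
      (by simp only [Complex.ofReal_one, one_mul, Pi.neg_apply]; linear_combination d1)
      (by simp only [Complex.ofReal_one, one_mul, Pi.neg_apply]; linear_combination d2)
    rw [classInner_neg_right, neg_eq_zero] at r2
    rw [classInner_neg_left, neg_eq_zero] at r3
    rw [classInner_neg_left, classInner_neg_right, neg_neg] at r4
    simp only [Finset.mem_insert, Finset.mem_singleton] at hα hβ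
    rcases hα with rfl | rfl <;> rcases hβ with rfl | rfl
    · exact r1
    · exact r2
    · exact r3
    · exact r4

end Cfsg.Agent.S1514
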