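import Cfsg.Statements.S0283
import Cfsg.Agent.Lib.Helper17SUPrim

set_option autoImplicit false
open Cfsg

namespace Cfsg.Agent.S0283

open Matrix Cfsg.Agent.Lib.Helper17HermC Cfsg.Agent.Lib.Helper17Heis
  Cfsg.Agent.Lib.Helper95Herm Cfsg.Agent.Lib.Helper7Herm Cfsg.Agent.S0780
  Cfsg.Agent.Lib.Helper17SUPrim

theorem perfect {F : Type*} [Field F] [Fintype F] {q : ℕ} (hF : Fintype.card F = q ^ 2) (n : ℕ)
    (hn : 3 ≤ n) (h : ¬ (n = 3 ∧ q = 2)) : commutator ↥(Cfsg.SU n F q) = ⊤ := by
  have hq := two_le_q hF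
  rw [eq_top_iff, ← Cfsg.Agent.S0780.result hF n hn h, Subgroup.closure_le]
  rintro A ⟨v, c, hv, hA⟩
  rw [commutator_eq_closure]
  apply Subgroup.subset_closure
  refine Cfsg.Agent.S0781.result hF n ?_ A v c hv hA
  by_cases h4 : 4 ≤ n
  · exact Or.inl h4
  · right
    have h3 : n = 3 := by omega
    refine ⟨h3, ?_⟩
    by_contra hcon
    exact h ⟨h3, by omega⟩

theorem exists_ne_one {F : Type*} [Field F] [Fintype F] {q : ℕ} (hF : Fintype.card F = q ^ 2)
    (n : ℕ) (hn : 3 ≤ n) : ∃ A : ↥(Cfsg.SU n F q), A ≠ 1 := by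
  have hH := herm_concrete hF n
  have hfr : Module.finrank F (Fin n → F) = n := Module.finrank_fin_fun F
  obtain ⟨e1, -, he1⟩ := hH.exists_perp ∅ (by rw [hfr]; simp; omega) 1 (map_one _)
  obtain ⟨e2, he2, he2'⟩ := hH.exists_perp {e1} (by rw [hfr]; simp; omega) (-1)
    (by rw [map_neg, map_one])
  have h21 : Cfsg.hermForm n F q e2 e1 = 0 := he2 e1 (by simp)
  have h12 := hH.swap_zero h21
  have hv : Cfsg.hermForm n F q (e1 + e2) (e1 + e2) = 0 := by
    rw [hH.add_left, hH.add_right, hH.add_right, he1, he2', h21, h12]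
    ring
  have hve : Cfsg.hermForm n F q e1 (e1 + e2) = 1 := by
    rw [hH.add_right, he1, h12, add_zero]
  obtain ⟨z, hz0, hz⟩ := hH.exists_z
  refine ⟨TSU hF (e1 + e2) z hv hz, ?_⟩
  intro h1
  have h2 := Th_TSU hF (e1 + e2) z hv hz e1
  rw [h1, Th_one, hve, mul_one] at h2
  have h3 : z • (e1 + e2) = 0 := by
    have := h2.symm
    rwa [add_eq_left] at this
  have h4 := congrArg (fun x => Cfsg.hermForm n F q e1 x) h3
  simp only [hH.smul_right, hve, mul_one, hH.zero_right] at h4
  exact sig_ne_zero hH hz0 h4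

/-- PSU_n(q) is simple for n at least 3 and (n, q) other than (3, 2). -/
theorem result {F : Type*} [Field F] [Fintype F] {q : ℕ} (hF : Fintype.card F = q ^ 2) (n : ℕ) (hn : 3 ≤ n) (h : ¬ (n = 3 ∧ q = 2)) : IsSimpleGroup (Cfsg.PSU n F q) := by
  classical
  have hperf := perfect hF n hn h
  have hprim := prim hF (n := n)
  have hnt : Nontrivial (Cfsg.PSU n F q) := by
    by_contra hcon
    rw [not_nontrivial_iff_subsingleton] at hcon
    have hZ : Subgroup.center ↥(Cfsg.SU n F q) = ⊤ :=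
      QuotientGroup.subsingleton_iff.1 hcon
    have hb := (commutator_eq_bot_iff_center_eq_top _).2 hZ
    rw [hperf] at hb
    have hsub : Subsingleton ↥(Cfsg.SU n F q) :=
      Subgroup.subsingleton_iff.1 (subsingleton_of_top_le_bot hb.le)
    obtain ⟨A, hA⟩ := exists_ne_one hF n hn
    exact hA (hsub.elim A 1)
  refine ⟨fun K hK => ?_⟩
  let N := K.comap (QuotientGroup.mk' (Subgroup.center ↥(Cfsg.SU n F q)))
  have hN : N.Normal := hK.comap _
  have hmap : N.map (QuotientGroup.mk' (Subgroup.center ↥(Cfsg.SU n F q))) = K :=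
    Subgroup.map_comap_eq_self_of_surjective (QuotientGroup.mk'_surjective _) K
  by_cases hfix : MulAction.fixedPoints N (Om n F q) = Set.univ
  · left
    have hle : N ≤ Subgroup.center ↥(Cfsg.SU n F q) := by
      intro A hA
      apply mem_center_of_fix hF hn h
      intro p
      have hp : p ∈ MulAction.fixedPoints N (Om n F q) := by
        rw [hfix]; trivial
      exact hp ⟨A, hA⟩
    rw [← hmap, Subgroup.map_eq_bot_iff, QuotientGroup.ker_mk']
    exact hle
  · right
    have := (iwa hF hn h).commutator_le N hfix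
    rw [hperf, top_le_iff] at this
    rw [← hmap, this, ← MonoidHom.range_eq_map, MonoidHom.range_eq_top]
    exact QuotientGroup.mk'_surjective _

end Cfsg.Agent.S0283
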