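import Cfsg.Statements.S0780
import Cfsg.Agent.Lib.Helper17SUGen
import Cfsg.Agent.Lib.Helper17Heis
import Cfsg.Agent.Lib.Helper17UWitt

set_option autoImplicit false
open Cfsg

namespace Cfsg.Agent.S0780

open Matrix Cfsg.Agent.Lib.Helper17HermC Cfsg.Agent.Lib.Helper17Heis Cfsg.Agent.Lib.Helper17UWitt
  Cfsg.Agent.Lib.Helper95Herm Cfsg.Agent.Lib.Helper95SU Cfsg.Agent.Lib.Helper95Basic
  Cfsg.Agent.Lib.Helper17SUGen Cfsg.Agent.Lib.Helper7Herm

variable {F : Type*} [Field F] [Fintype F] {q : ℕ}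

/-- `SU` as a group of linear automorphisms. -/
noncomputable def Th (n : ℕ) (F : Type*) [Field F] (q : ℕ) :
    ↥(Cfsg.SU n F q) →* ((Fin n → F) ≃ₗ[F] (Fin n → F)) :=
  (glEquiv (Fin n) F).toMonoidHom.comp
    (Matrix.SpecialLinearGroup.toGL.comp (Cfsg.SU n F q).subtype)

omit [Fintype F] in
theorem Th_apply (n : ℕ) (A : ↥(Cfsg.SU n F q)) (x : Fin n → F) :
    Th n F q A x = ((A : Matrix.SpecialLinearGroup (Fin n) F) : Matrix (Fin n) (Fin n) F) *ᵥ x :=
  rfl

omit [Fintype F] in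
theorem Th_injective (n : ℕ) : Function.Injective (Th n F q) := by
  intro A B h
  apply Subtype.ext
  apply Subtype.ext
  apply Matrix.mulVec_injective
  funext x
  rw [← Th_apply, ← Th_apply, h]

omit [Fintype F] in
theorem Th_det (n : ℕ) (A : ↥(Cfsg.SU n F q)) :
    LinearMap.det ((Th n F q A : (Fin n → F) ≃ₗ[F] (Fin n → F)) : (Fin n → F) →ₗ[F] (Fin n → F))
      = 1 := by
  have h1 : ((Th n F q A : (Fin n → F) ≃ₗ[F] (Fin n → F)) : (Fin n → F) →ₗ[F] (Fin n → F))
      = Matrix.toLin' ((A : Matrix.SpecialLinearGroup (Fin n) F) : Matrix (Fin n) (Fin n) F) := by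
    apply LinearMap.ext
    intro x
    rw [Matrix.toLin'_apply]
    rfl
  rw [h1, LinearMap.det_toLin']
  exact (A : Matrix.SpecialLinearGroup (Fin n) F).2

/-- A fixed element different from `0` and `1`. -/
theorem exists_fixed (hF : Fintype.card F = q ^ 2) (hq : 3 ≤ q) :
    ∃ d : F, sig hF d = d ∧ d ≠ 0 ∧ d ≠ 1 := by
  classical
  obtain ⟨g, hg⟩ := IsCyclic.exists_generator (α := Fˣ)
  have hord : orderOf g = q ^ 2 - 1 := by
    rw [orderOf_eq_card_of_forall_mem_zpowers hg, Nat.card_eq_fintype_card, Fintype.card_units, hF]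
  refine ⟨((g ^ (q + 1) : Fˣ) : F), ?_, Units.ne_zero _, ?_⟩
  · rw [sig_apply, ← Units.val_pow_eq_pow_val, ← pow_mul]
    have h1 : (q + 1) * q = (q ^ 2 - 1) + (q + 1) := by
      have : 1 ≤ q ^ 2 := Nat.one_le_pow _ _ (by omega)
      zify [this]
      ring
    rw [h1, pow_add, ← hord, pow_orderOf_eq_one, one_mul]
  · intro h
    have h1 : g ^ (q + 1) = 1 := Units.ext h
    have h2 := Nat.le_of_dvd (by omega) (orderOf_dvd_of_pow_eq_one h1)
    rw [hord] at h2
    have h3 : q * 3 ≤ q ^ 2 := by nlinarith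
    omega

/-- Generation of SU_n(q), n ≥ 3, (n, q) ≠ (3, 2), by unitary transvections: the subgroup generated by the elements whose matrix is x ↦ x + c h(x, v) v with v isotropic is all of SU_n(q). -/
theorem result {F : Type*} [Field F] [Fintype F] {q : ℕ} (hF : Fintype.card F = q ^ 2) (n : ℕ) (hn : 3 ≤ n) (h32 : ¬ (n = 3 ∧ q = 2)) : Subgroup.closure {A : ↥(Cfsg.SU n F q) | ∃ (v : Fin n → F) (c : F), Cfsg.hermForm n F q v v = 0 ∧ ((A : Matrix.SpecialLinearGroup (Fin n) F) : Matrix (Fin n) (Fin n) F) = Cfsg.unitaryTransvection n q v c} = ⊤ := by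
  have hH := herm_concrete hF n
  have hq := two_le_q hF
  have hfr : Module.finrank F (Fin n → F) = n := Module.finrank_fin_fun F
  have hex : 4 ≤ Module.finrank F (Fin n → F) ∨ ∃ d, sig hF d = d ∧ d ≠ 0 ∧ d ≠ 1 := by
    by_cases h4 : 4 ≤ n
    · left; rw [hfr]; exact h4
    · right
      exact exists_fixed hF (by
        have : n = 3 := by omega
        by_contra hcon
        exact h32 ⟨this, by omega⟩)
  set S := {A : ↥(Cfsg.SU n F q) | ∃ (v : Fin n → F) (c : F), Cfsg.hermForm n F q v v = 0 ∧ ((A : Matrix.SpecialLinearGroup (Fin n) F) : Matrix (Fin n) (Fin n) F) = Cfsg.unitaryTransvection n q v c} with hS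
  have hle : TT hH ≤ (Subgroup.closure S).map (Th n F q) := by
    rw [TT, Subgroup.closure_le]
    rintro e ⟨v, z, hv, hz, rfl⟩
    let B : ↥(Cfsg.SU n F q) := ⟨⟨Cfsg.unitaryTransvection n q v z, by
      rw [unitaryTransvection_det, hv, mul_zero, add_zero]⟩, by
      intro x y
      change Cfsg.hermForm n F q (Cfsg.unitaryTransvection n q v z *ᵥ x)
        (Cfsg.unitaryTransvection n q v z *ᵥ y) = _
      rw [unitaryTransvection_mulVec, unitaryTransvection_mulVec, ← hH.utv_apply v z hv,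
        ← hH.utv_apply v z hv]
      exact hH.utv_isometry v z hv hz x y⟩
    refine ⟨B, Subgroup.subset_closure ⟨v, z, hv, rfl⟩, ?_⟩
    ext1 x
    rw [Th_apply, hH.utv_apply]
    exact unitaryTransvection_mulVec n v z x
  rw [eq_top_iff]
  intro A _
  have h1 : Th n F q A ∈ TT hH := by
    apply mem_TT_of_det_one_small hH (by rw [hfr]; exact hn) hex
    · intro a b
      exact A.2 a b
    · exact Th_det n A
  obtain ⟨B, hB, hBA⟩ := hle h1
  rw [← Th_injective n hBA]
  exact hB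

end Cfsg.Agent.S0780
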