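import Cfsg.Statements.S2238
import Cfsg.Agent.Lib.Helper61SzTori2
import Cfsg.Agent.Lib.Helper61Part

set_option autoImplicit false
open Cfsg

namespace Cfsg.Agent.S2238

open Cfsg.Agent.Lib.Helper8Sz Cfsg.Agent.Lib.Helper8Sz2 Cfsg.Agent.Lib.Helper8Sz3
  Cfsg.Agent.Lib.Helper8Sz4 Cfsg.Agent.Lib.Helper8Sz5 Cfsg.Agent.Lib.Helper8Irr
  Cfsg.Agent.Lib.Helper8Sz6 Cfsg.Agent.Lib.Helper8Sz7 Cfsg.Agent.Lib.Helper61Zass
  Cfsg.Agent.Lib.Helper61Fix2 Cfsg.Agent.Lib.Helper61SzTori Cfsg.Agent.Lib.Helper61Zass2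
  Cfsg.Agent.Lib.Helper61SzTori2 Cfsg.Agent.Lib.Helper61Part

/-- arithmetic of the three torus orders -/
theorem arith3 (m : ℕ) (hm : 1 ≤ m) :
    (¬ 2 ∣ 2 ^ (2 * m + 1) - 1) ∧ (¬ 2 ∣ 2 ^ (2 * m + 1) + 2 ^ (m + 1) + 1) ∧
    (¬ 2 ∣ 2 ^ (2 * m + 1) - 2 ^ (m + 1) + 1) ∧
    Nat.Coprime (2 ^ (2 * m + 1) - 1) (2 ^ (2 * m + 1) + 2 ^ (m + 1) + 1) ∧
    Nat.Coprime (2 ^ (2 * m + 1) - 1) (2 ^ (2 * m + 1) - 2 ^ (m + 1) + 1) ∧
    Nat.Coprime (2 ^ (2 * m + 1) + 2 ^ (m + 1) + 1) (2 ^ (2 * m + 1) - 2 ^ (m + 1) + 1) := by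
  obtain ⟨Q, hQ⟩ : ∃ Q, 2 ^ (2 * m + 1) = 2 * Q := ⟨2 ^ (2 * m), by rw [pow_succ]; ring⟩
  obtain ⟨R, hR⟩ : ∃ R, 2 ^ (m + 1) = 2 * R := ⟨2 ^ m, by rw [pow_succ]; ring⟩
  have hle : 2 ^ (m + 1) ≤ 2 ^ (2 * m + 1) := Nat.pow_le_pow_right (by norm_num) (by omega)
  have hpos : 0 < 2 ^ (2 * m + 1) := by positivity
  have hsq : (2 ^ (m + 1)) ^ 2 = 2 * 2 ^ (2 * m + 1) := by
    rw [← pow_mul, ← pow_succ']
    congr 1
    ring
  set q := 2 ^ (2 * m + 1) with hq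
  set r := 2 ^ (m + 1) with hr
  have o1 : ¬ 2 ∣ q - 1 := by omega
  have o2 : ¬ 2 ∣ q + r + 1 := by omega
  have o3 : ¬ 2 ∣ q - r + 1 := by omega
  have hprod : (q + r + 1) * (q - r + 1) = q ^ 2 + 1 := by
    obtain ⟨d, hd⟩ : ∃ d, q = r + d := ⟨q - r, by omega⟩
    have e1 : q - r = d := by omega
    rw [e1]
    zify at hsq hd ⊢
    rw [hd] at hsq ⊢
    linear_combination (-1 : ℤ) * hsq
  have c0 : Nat.Coprime (q - 1) (q ^ 2 + 1) := by
    apply Nat.coprime_of_dvd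
    intro k hk h1 h2
    have h3 : k ∣ (q - 1) * (q + 1) := Dvd.dvd.mul_right h1 _
    have h4 : (q - 1) * (q + 1) + 2 = q ^ 2 + 1 := by
      obtain ⟨s, hs⟩ : ∃ s, q = s + 1 := ⟨q - 1, by omega⟩
      rw [hs]
      simp only [Nat.add_sub_cancel]
      ring
    rw [← h4] at h2
    have h5 : k ∣ 2 := (Nat.dvd_add_right h3).1 h2
    have h6 : k = 2 := (Nat.prime_dvd_prime_iff_eq hk Nat.prime_two).1 h5
    rw [h6] at h1
    exact o1 h1
  refine ⟨o1, o2, o3, ?_, ?_, ?_⟩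
  · exact Nat.Coprime.coprime_dvd_right ⟨_, hprod.symm⟩ c0
  · exact Nat.Coprime.coprime_dvd_right ⟨q + r + 1, by rw [← hprod]; ring⟩ c0
  · apply Nat.coprime_of_dvd
    intro k hk h1 h2
    have h3 : k ∣ 2 * r := by
      have e : q + r + 1 = (q - r + 1) + 2 * r := by omega
      rw [e] at h1
      exact (Nat.dvd_add_right h2).1 h1
    have h4 : k ∣ 2 := by
      rcases (Nat.Prime.dvd_mul hk).1 h3 with h | h
      · exact h
      · exact hk.dvd_of_dvd_pow h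
    have h6 : k = 2 := (Nat.prime_dvd_prime_iff_eq hk Nat.prime_two).1 h4
    rw [h6] at h1
    exact o2 h1

theorem eq_of_dvd3 (m : ℕ) (hm : 1 ≤ m) {n n' : ℕ}
    (hn : n ∈ ({2 ^ (2 * m + 1) - 1, 2 ^ (2 * m + 1) + 2 ^ (m + 1) + 1,
      2 ^ (2 * m + 1) - 2 ^ (m + 1) + 1} : Set ℕ))
    (hn' : n' ∈ ({2 ^ (2 * m + 1) - 1, 2 ^ (2 * m + 1) + 2 ^ (m + 1) + 1,
      2 ^ (2 * m + 1) - 2 ^ (m + 1) + 1} : Set ℕ)) (h1 : n ≠ 1) (hd : n ∣ n') : n = n' := by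
  obtain ⟨_, _, _, c1, c2, c3⟩ := arith3 m hm
  simp only [Set.mem_insert_iff, Set.mem_singleton_iff] at hn hn'
  rcases hn with rfl | rfl | rfl <;> rcases hn' with rfl | rfl | rfl
  · rfl
  · exact absurd (Nat.Coprime.eq_one_of_dvd c1 hd) h1
  · exact absurd (Nat.Coprime.eq_one_of_dvd c2 hd) h1
  · exact absurd (Nat.Coprime.eq_one_of_dvd c1.symm hd) h1
  · rfl
  · exact absurd (Nat.Coprime.eq_one_of_dvd c3 hd) h1
  · exact absurd (Nat.Coprime.eq_one_of_dvd c2.symm hd) h1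
  · exact absurd (Nat.Coprime.eq_one_of_dvd c3.symm hd) h1
  · rfl

theorem odd3 (m : ℕ) (hm : 1 ≤ m) {n : ℕ}
    (hn : n ∈ ({2 ^ (2 * m + 1) - 1, 2 ^ (2 * m + 1) + 2 ^ (m + 1) + 1,
      2 ^ (2 * m + 1) - 2 ^ (m + 1) + 1} : Set ℕ)) : ¬ 2 ∣ n := by
  obtain ⟨o1, o2, o3, _, _, _⟩ := arith3 m hm
  simp only [Set.mem_insert_iff, Set.mem_singleton_iff] at hn
  rcases hn with rfl | rfl | rfl
  · exact o1
  · exact o2
  · exact o3

/-- centralisers of elements of odd order -/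
theorem cent_odd {F : Type*} [Field F] [Fintype F] {m : ℕ} (hm : 1 ≤ m)
    (hF : Fintype.card F = 2 ^ (2 * m + 1)) (g : ↥(Cfsg.Sz F m)) (hg : g ≠ 1)
    (hodd : ¬ 2 ∣ orderOf g) :
    IsCyclic ↥(Subgroup.centralizer ({g} : Set ↥(Cfsg.Sz F m))) ∧
      Nat.card ↥(Subgroup.centralizer ({g} : Set ↥(Cfsg.Sz F m))) ∈
        ({2 ^ (2 * m + 1) - 1, 2 ^ (2 * m + 1) + 2 ^ (m + 1) + 1,
          2 ^ (2 * m + 1) - 2 ^ (m + 1) + 1} : Set ℕ) := by
  have D := szData hF hm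
  have E := szQData hF hm
  by_cases hf : Fpf (suzukiOvoid F m) g
  · obtain ⟨x₁, x₂, h1, h2, h3, h4, h5⟩ := sz_two_tori hF hm
    have key : ∀ x : ↥(Cfsg.Sz F m), Good (2 ^ (2 * m + 1)) x → g ∈ conjSet (tor x) →
        IsCyclic ↥(Subgroup.centralizer ({g} : Set ↥(Cfsg.Sz F m))) ∧
        Nat.card ↥(Subgroup.centralizer ({g} : Set ↥(Cfsg.Sz F m))) = Nat.card (tor x) := by
      rintro x hx ⟨k, y, hy, hy1, e⟩
      have hx' : Good (2 ^ (2 * m + 1)) (k * x * k⁻¹) := good_conj hx k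
      have hmem : g ∈ tor (k * x * k⁻¹) := by
        rw [e, mem_cent, conj_commute]
        exact mem_cent.1 hy
      rw [tor_cent hF hm hx' g hmem hg]
      exact ⟨tor_cyclic hF hm hx', card_tor_conj x k⟩
    rcases h5 g hf with h6 | h6
    · obtain ⟨c1, c2⟩ := key x₁ h1 h6
      refine ⟨c1, ?_⟩
      rw [c2, h3]; simp
    · obtain ⟨c1, c2⟩ := key x₂ h2 h6
      refine ⟨c1, ?_⟩
      rw [c2, h4]; simp
  · unfold Fpf at hf
    push Not at hf
    obtain ⟨a, ha⟩ := hf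
    obtain ⟨b, hba, hb⟩ := odd_two_fix D hg hodd ha
    have hEq : Subgroup.centralizer ({g} : Set ↥(Cfsg.Sz F m))
        = MulAction.stabilizer ↥(Cfsg.Sz F m) a ⊓ MulAction.stabilizer ↥(Cfsg.Sz F m) b := by
      ext h
      rw [mem_cent]
      constructor
      · intro hc
        exact cent_two_fix D hg (Ne.symm hba) ha hb hc
      · intro hh
        exact E.stab_comm a b (Ne.symm hba) h g hh.1 hh.2 ha hb
    rw [hEq]
    constructor
    · apply cyclic_of_fix hF hm (MulAction.stabilizer ↥(Cfsg.Sz F m) a ⊓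
        MulAction.stabilizer ↥(Cfsg.Sz F m) b) _ a (fun h hh => hh.1)
      intro h hh h4
      have h5 : h ^ (2 ^ (2 * m + 1) - 1) = 1 := by
        have := pow_card_eq_one' (G := (MulAction.stabilizer ↥(Cfsg.Sz F m) a ⊓
          MulAction.stabilizer ↥(Cfsg.Sz F m) b : Subgroup ↥(Cfsg.Sz F m))) (x := ⟨h, hh⟩)
        rw [card_stab_two D (Ne.symm hba)] at this
        exact congrArg Subtype.val this
      have h6 : orderOf h ∣ 4 := orderOf_dvd_of_pow_eq_one h4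
      have h7 : orderOf h ∣ 2 ^ (2 * m + 1) - 1 := orderOf_dvd_of_pow_eq_one h5
      have hcop : Nat.Coprime 4 (2 ^ (2 * m + 1) - 1) := by
        have : Nat.Coprime (2 ^ 2) (2 ^ (2 * m + 1) - 1) := by
          apply Nat.Coprime.pow_left
          rw [Nat.Prime.coprime_iff_not_dvd Nat.prime_two]
          exact (arith3 m hm).1
        exact this
      exact orderOf_eq_one_iff.1 (Nat.eq_one_of_dvd_coprimes hcop h6 h7)
    · rw [card_stab_two D (Ne.symm hba)]; simp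

/-- The partition of the Suzuki group: with q = 2^(2m+1), m ≥ 1, r = 2^m and the Suzuki group realised as the stabiliser in SL₄ of the Suzuki–Tits ovoid, every non-identity element lies in exactly one subgroup that is either a Sylow 2-subgroup or a cyclic subgroup of order q − 1, q + 2r + 1 or q − 2r + 1. -/
theorem result {F : Type*} [Field F] [Fintype F] {m : ℕ} (hm : 1 ≤ m) (hF : Fintype.card F = 2 ^ (2 * m + 1)) (g : ↥(Cfsg.Sz F m)) (hg : g ≠ 1) :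
    ∃! U : Subgroup ↥(Cfsg.Sz F m), ((∃ P : Sylow 2 ↥(Cfsg.Sz F m), U = (P : Subgroup ↥(Cfsg.Sz F m))) ∨
      (IsCyclic ↥U ∧ Nat.card ↥U ∈ ({2 ^ (2 * m + 1) - 1, 2 ^ (2 * m + 1) + 2 ^ (m + 1) + 1, 2 ^ (2 * m + 1) - 2 ^ (m + 1) + 1} : Set ℕ))) ∧ g ∈ U := by
  have D := szData hF hm
  have E := szQData hF hm
  have : Fact (Nat.Prime 2) := ⟨Nat.prime_two⟩
  by_cases hev : 2 ∣ orderOf g
  · obtain ⟨k, hk⟩ := even_mem_conj_Q D E hev
    have hg4 : g ^ 4 = 1 := by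
      obtain ⟨a, b, e⟩ := hk
      have e2 : g = k * T hF a b * k⁻¹ := by rw [← e]; group
      rw [e2, conj_pow, T_pow_four hF hm]
      group
    have hp : IsPGroup 2 (Subgroup.zpowers g) := by
      rintro ⟨h, hh⟩
      obtain ⟨n, rfl⟩ := Subgroup.mem_zpowers_iff.1 hh
      refine ⟨2, Subtype.ext ?_⟩
      show (g ^ n) ^ (2 ^ 2) = 1
      rw [← zpow_natCast, ← zpow_mul, mul_comm, zpow_mul, zpow_natCast]
      have : (2 ^ 2 : ℕ) = 4 := by norm_num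
      rw [this, hg4, one_zpow]
    obtain ⟨P, hP⟩ := hp.exists_le_sylow
    have hgP : g ∈ (P : Subgroup ↥(Cfsg.Sz F m)) := hP (Subgroup.mem_zpowers g)
    refine ⟨P, ⟨Or.inl ⟨P, rfl⟩, hgP⟩, ?_⟩
    rintro U' ⟨hU', hgU'⟩
    rcases hU' with ⟨P', rfl⟩ | ⟨_, hc⟩
    · obtain ⟨k₁, h1⟩ := sylow_conj hF hm P
      obtain ⟨k₂, h2⟩ := sylow_conj hF hm P'
      have hfixk : ∀ k' : ↥(Cfsg.Sz F m), k'⁻¹ * g * k' ∈ Q hF hm →
          ∀ c : suzukiOvoid F m, g • c = c → c = k' • oInf F m := by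
        intro k' hk' c hc
        have hne : k'⁻¹ * g * k' ≠ 1 := by
          intro h
          apply hg
          have : g = k' * (k'⁻¹ * g * k') * k'⁻¹ := by group
          rw [this, h]; group
        have := E.Q_semireg _ hk' hne (k'⁻¹ • c) (by
          rw [mul_smul, mul_smul, smul_inv_smul, hc])
        rw [← this, smul_inv_smul]
      have hfix1 : g • (k₁ • oInf F m) = k₁ • oInf F m := by
        have := E.Q_fix _ ((h1 g).1 hgP)
        rw [mul_smul, mul_smul, inv_smul_eq_iff] at this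
        exact this
      have hkk : k₁ • oInf F m = k₂ • oInf F m := hfixk k₂ ((h2 g).1 hgU') _ hfix1
      have hb : (k₂⁻¹ * k₁) • oInf F m = oInf F m := by
        rw [mul_smul, hkk, inv_smul_smul]
      have hb' : (k₁⁻¹ * k₂) • oInf F m = oInf F m := by
        rw [mul_smul, ← hkk, inv_smul_smul]
      ext x
      show x ∈ (P' : Subgroup ↥(Cfsg.Sz F m)) ↔ x ∈ (P : Subgroup ↥(Cfsg.Sz F m))
      have h1' : x ∈ (P : Subgroup ↥(Cfsg.Sz F m)) ↔ k₁⁻¹ * x * k₁ ∈ Q hF hm := h1 x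
      have h2' : x ∈ (P' : Subgroup ↥(Cfsg.Sz F m)) ↔ k₂⁻¹ * x * k₂ ∈ Q hF hm := h2 x
      rw [h1', h2']
      constructor
      · intro hx
        have := E.Q_normal _ hb' _ hx
        have e : k₁⁻¹ * k₂ * (k₂⁻¹ * x * k₂) * (k₁⁻¹ * k₂)⁻¹ = k₁⁻¹ * x * k₁ := by group
        rwa [e] at this
      · intro hx
        have := E.Q_normal _ hb _ hx
        have e : k₂⁻¹ * k₁ * (k₁⁻¹ * x * k₁) * (k₂⁻¹ * k₁)⁻¹ = k₂⁻¹ * x * k₂ := by group
        rwa [e] at this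
    · exfalso
      apply odd3 m hm hc
      apply hev.trans
      have := orderOf_dvd_natCard (⟨g, hgU'⟩ : U')
      rwa [← Subgroup.orderOf_coe] at this
  · obtain ⟨hcyc, hcard⟩ := cent_odd hm hF g hg hev
    refine ⟨Subgroup.centralizer ({g} : Set ↥(Cfsg.Sz F m)),
      ⟨Or.inr ⟨hcyc, hcard⟩, mem_cent.2 (Commute.refl g)⟩, ?_⟩
    rintro U' ⟨hU', hgU'⟩
    rcases hU' with ⟨P', rfl⟩ | ⟨hcyc', hc⟩
    · exfalso
      obtain ⟨j, hj⟩ := P'.isPGroup' ⟨g, hgU'⟩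
      have hj' : g ^ 2 ^ j = 1 := congrArg Subtype.val hj
      have h1 : orderOf g ∣ 2 ^ j := orderOf_dvd_of_pow_eq_one hj'
      have hcop : Nat.Coprime (orderOf g) (2 ^ j) := by
        apply Nat.Coprime.pow_right
        rw [Nat.coprime_comm, Nat.Prime.coprime_iff_not_dvd Nat.prime_two]
        exact hev
      exact hg (orderOf_eq_one_iff.1 (Nat.Coprime.eq_one_of_dvd hcop h1))
    · have hle : U' ≤ Subgroup.centralizer ({g} : Set ↥(Cfsg.Sz F m)) := by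
        intro u hu
        rw [mem_cent]
        have := isMulCommutative_iff.1 (IsCyclic.isMulCommutative (α := U')) ⟨u, hu⟩ ⟨g, hgU'⟩
        exact congrArg Subtype.val this
      have hne1 : Nat.card U' ≠ 1 := by
        intro h
        rw [Subgroup.card_eq_one] at h
        rw [h, Subgroup.mem_bot] at hgU'
        exact hg hgU'
      have heq := eq_of_dvd3 m hm hc hcard hne1 (Subgroup.card_dvd_of_le hle)
      exact Subgroup.eq_of_le_of_card_ge hle heq.ge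

end Cfsg.Agent.S2238
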