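import Cfsg.Statements.S2622
-- import your own Cfsg.Agent.* helpers here

set_option autoImplicit false
open Cfsg

namespace Cfsg.Agent.S2622

theorem two_zero {F : Type*} [Field F] [CharP F 2] : (1 : F) + 1 = 0 := by
  have h : ((2 : ℕ) : F) = 0 := CharP.cast_eq_zero F 2
  have h2 : ((2 : ℕ) : F) = 1 + 1 := by norm_num
  rw [← h2]; exact h

theorem exists_good {F V : Type*} [Field F] [Finite F] [CharP F 2] [AddCommGroup V] [Module F V]
    [FiniteDimensional F V] (B : LinearMap.BilinForm F V) (hS : B.IsSymm) (hB : B.Nondegenerate)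
    (hna : ∃ v : V, B v v ≠ 0) :
    ∃ v : V, B v v = 1 ∧ (Module.finrank F V = 1 ∨ ∃ w, B v w = 0 ∧ B w w ≠ 0) := by
  classical
  have h11 : (1 : F) + 1 = 0 := two_zero
  have hsym : ∀ x y, B x y = B y x := fun x y => by
    have := hS.eq x y
    simpa using this
  obtain ⟨v0, hv0⟩ := hna
  haveI : Fintype F := Fintype.ofFinite F
  obtain ⟨c, hc⟩ := FiniteField.isSquare_of_char_two (F := F) (ringChar.eq F 2) (B v0 v0)⁻¹
  have hv1 : B (c • v0) (c • v0) = 1 := by
    simp only [map_smul, LinearMap.smul_apply, smul_eq_mul]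
    rw [← mul_assoc, ← hc]
    exact inv_mul_cancel₀ hv0
  obtain ⟨v, hv⟩ : ∃ v, B v v = 1 := ⟨_, hv1⟩
  by_cases h : ∃ w, B v w = 0 ∧ B w w ≠ 0
  · exact ⟨v, hv, Or.inr h⟩
  by_cases h1 : Module.finrank F V = 1
  · exact ⟨v, hv, Or.inl h1⟩
  push Not at h
  have hv0' : v ≠ 0 := by
    rintro rfl
    simp at hv
  -- some x outside the span of v
  have hx : ∃ x : V, ∀ c : F, c • v ≠ x := by
    by_contra hcon
    push Not at hcon
    exact h1 (finrank_eq_one v hv0' hcon)
  obtain ⟨x, hx⟩ := hx
  obtain ⟨e, he0, hve⟩ : ∃ e : V, e ≠ 0 ∧ B v e = 0 := by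
    refine ⟨x - B v x • v, ?_, ?_⟩
    · intro h0
      exact hx (B v x) (sub_eq_zero.mp h0).symm
    · simp [hv]
  obtain ⟨y, hy⟩ : ∃ y, B e y ≠ 0 := by
    by_contra hcon
    push Not at hcon
    exact he0 (hB.1 e hcon)
  obtain ⟨f', hvf', hef'⟩ : ∃ f : V, B v f = 0 ∧ B e f ≠ 0 := by
    refine ⟨y - B v y • v, ?_, ?_⟩
    · simp [hv]
    · have : B e v = 0 := by rw [hsym]; exact hve
      simp [this, hy]
  obtain ⟨f, hvf, hef⟩ : ∃ f : V, B v f = 0 ∧ B e f = 1 := by
    refine ⟨(B e f')⁻¹ • f', ?_, ?_⟩
    · simp [hvf']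
    · simp [hef']
  have hee : B e e = 0 := h e hve
  have hff : B f f = 0 := h f hvf
  have hev : B e v = 0 := by rw [hsym]; exact hve
  have hfv : B f v = 0 := by rw [hsym]; exact hvf
  refine ⟨v + e, ?_, Or.inr ⟨v + f, ?_, ?_⟩⟩
  · simp [hv, hve, hev, hee]
  · simp [hv, hvf, hev, hef, h11]
  · simp [hv, hvf, hfv, hff]

theorem exists_family {F : Type*} [Field F] [Finite F] [CharP F 2] (n : ℕ) :
    ∀ {V : Type*} [AddCommGroup V] [Module F V] [FiniteDimensional F V]
    (_ : Module.finrank F V = n) (B : LinearMap.BilinForm F V) (_ : B.IsSymm)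
    (_ : B.Nondegenerate) (_ : ∃ v : V, B v v ≠ 0),
    ∃ b : Fin n → V, ∀ i j, B (b i) (b j) = if i = j then 1 else 0 := by
  induction n with
  | zero =>
    intro V _ _ _ hV B hS hB hna
    exact ⟨fun i => i.elim0, fun i => i.elim0⟩
  | succ k ih =>
    intro V _ _ _ hV B hS hB hna
    have hsym : ∀ x y, B x y = B y x := fun x y => by
      have := hS.eq x y
      simpa using this
    obtain ⟨v, hv, hor⟩ := exists_good B hS hB hna
    rcases hor with h1 | ⟨w, hvw, hww⟩
    · have hk : k = 0 := by omega
      subst hk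
      refine ⟨fun _ => v, fun i j => ?_⟩
      have : i = j := by
        apply Fin.ext
        have h1 := i.2
        have h2 := j.2
        omega
      simp [this, hv]
    · have hnot : ¬ B.IsOrtho v v := by
        intro h0
        have : B v v = 0 := h0
        rw [hv] at this
        exact one_ne_zero this
      have hv0 : v ≠ 0 := by
        rintro rfl
        simp at hv
      have hWnd := B.restrict_nondegenerate_orthogonal_spanSingleton hB hS.isRefl hnot
      have hWfin : Module.finrank F (B.orthogonal (Submodule.span F {v})) = k := by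
        rw [LinearMap.BilinForm.finrank_orthogonal hB, hV, finrank_span_singleton hv0]
        omega
      have hmem : ∀ x, x ∈ B.orthogonal (Submodule.span F {v}) ↔ B v x = 0 := by
        intro x
        rw [LinearMap.BilinForm.mem_orthogonal_iff]
        constructor
        · intro h
          exact h v (Submodule.mem_span_singleton_self v)
        · intro h y hy
          obtain ⟨c, rfl⟩ := Submodule.mem_span_singleton.mp hy
          change B (c • v) x = 0
          simp [h]
      obtain ⟨b', hb'⟩ := ih hWfin (B.restrict (B.orthogonal (Submodule.span F {v})))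
        (hS.restrict _) hWnd ⟨⟨w, (hmem w).mpr hvw⟩, hww⟩
      refine ⟨Fin.cons v (fun i => (b' i : V)), ?_⟩
      intro i j
      refine Fin.cases ?_ (fun i' => ?_) i <;> refine Fin.cases ?_ (fun j' => ?_) j
      · simp [hv]
      · have := (hmem _).mp (b' j').2
        simp [this, (Fin.succ_ne_zero j').symm]
      · have := (hmem _).mp (b' i').2
        rw [hsym]
        simp [this, Fin.succ_ne_zero i']
      · have := hb' i' j'
        simpa [Fin.succ_inj] using this


/-- Over a finite field of characteristic two, a non-degenerate symmetric bilinear form that is not alternating (some vector v has B(v, v) ≠ 0) admits an orthonormal basis. -/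
theorem result {F V : Type*} [Field F] [Finite F] [CharP F 2] [AddCommGroup V] [Module F V] [FiniteDimensional F V] {n : ℕ} (hV : Module.finrank F V = n) (B : LinearMap.BilinForm F V) (hS : B.IsSymm) (hB : B.Nondegenerate) (hna : ∃ v : V, B v v ≠ 0) : ∃ b : Module.Basis (Fin n) F V, ∀ i j, B (b i) (b j) = if i = j then 1 else 0 := by
  classical
  obtain ⟨b, hb⟩ := exists_family n hV B hS hB hna
  have hli : LinearIndependent F b := by
    rw [Fintype.linearIndependent_iff]
    intro g hg i
    have h1 : B (b i) (∑ j, g j • b j) = 0 := by rw [hg]; simp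
    rw [map_sum] at h1
    simp only [map_smul, smul_eq_mul, hb] at h1
    simpa using h1
  have hcard : Fintype.card (Fin n) = Module.finrank F V := by simp [hV]
  have hspan : ⊤ ≤ Submodule.span F (Set.range b) :=
    (hli.span_eq_top_of_card_eq_finrank' hcard).ge
  refine ⟨Module.Basis.mk hli hspan, fun i j => ?_⟩
  simp only [Module.Basis.mk_apply]
  exact hb i j

end Cfsg.Agent.S2622
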