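import Cfsg.Statements.S0760
-- import your own Cfsg.Agent.* helpers here

set_option autoImplicit false
open Cfsg

namespace Cfsg.Agent.S0760

theorem aux {F V : Type*} [Field F] [AddCommGroup V] [Module F V] [FiniteDimensional F V]
    (Q : QuadraticForm F V) (hQ : (QuadraticMap.polarBilin Q).Nondegenerate)
    (W₁ W₂ : Submodule F V) (h₁ : ∀ w ∈ W₁, Q w = 0) (h₂ : ∀ w ∈ W₂, Q w = 0)
    (hmax₁ : ∀ W : Submodule F V, W₁ ≤ W → (∀ w ∈ W, Q w = 0) → W = W₁) :
    Module.finrank F W₂ ≤ Module.finrank F W₁ := by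
  set B : LinearMap.BilinForm F V := QuadraticMap.polarBilin Q with hBdef
  have hpol : ∀ W : Submodule F V, (∀ w ∈ W, Q w = 0) → ∀ x ∈ W, ∀ y ∈ W, B x y = 0 := by
    intro W hW x hx y hy
    simp only [hBdef, QuadraticMap.polarBilin_apply_apply, QuadraticMap.polar]
    rw [hW _ (W.add_mem hx hy), hW x hx, hW y hy]
    simp
  have hle : W₂ ⊓ B.orthogonal W₁ ≤ W₁ := by
    have hW : W₁ ⊔ (W₂ ⊓ B.orthogonal W₁) = W₁ := by
      apply hmax₁ _ le_sup_left
      intro w hw
      obtain ⟨a, ha, b, hb, rfl⟩ := Submodule.mem_sup.mp hw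
      have hab : B a b = 0 := hb.2 a ha
      have : Q (a + b) = Q a + Q b + B a b := by
        simp [hBdef, QuadraticMap.polar]
      rw [this, h₁ a ha, h₂ b hb.1, hab]
      simp
    calc W₂ ⊓ B.orthogonal W₁ ≤ W₁ ⊔ (W₂ ⊓ B.orthogonal W₁) := le_sup_right
      _ = W₁ := hW
  have hle2 : W₂ ⊓ B.orthogonal W₁ ≤ W₁ ⊓ W₂ := le_inf hle inf_le_left
  have hsup : W₂ ⊔ B.orthogonal W₁ ≤ B.orthogonal (W₁ ⊓ W₂) := by
    apply sup_le
    · intro x hx d hd
      exact hpol W₂ h₂ d hd.2 x hx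
    · exact LinearMap.BilinForm.orthogonal_le inf_le_left
  have e1 := Submodule.finrank_sup_add_finrank_inf_eq W₂ (B.orthogonal W₁)
  have e2 := LinearMap.BilinForm.finrank_orthogonal hQ W₁
  have e3 := LinearMap.BilinForm.finrank_orthogonal hQ (W₁ ⊓ W₂)
  have e4 := Submodule.finrank_mono hle2
  have e5 := Submodule.finrank_mono hsup
  have e6 := Submodule.finrank_le W₁
  have e7 := Submodule.finrank_le (W₁ ⊓ W₂)
  omega

/-- Witt index is well defined: if Q is a quadratic form on a finite-dimensional space V over a finite field with non-degenerate polar form, and W₁, W₂ are subspaces on which Q vanishes that are maximal with this property, then W₁ and W₂ have the same dimension, and twice this dimension is at most dim V. -/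
theorem result {F V : Type*} [Field F] [Finite F] [AddCommGroup V] [Module F V] [FiniteDimensional F V] (Q : QuadraticForm F V) (hQ : (QuadraticMap.polarBilin Q).Nondegenerate) (W₁ W₂ : Submodule F V) (h₁ : ∀ w ∈ W₁, Q w = 0) (h₂ : ∀ w ∈ W₂, Q w = 0) (hmax₁ : ∀ W : Submodule F V, W₁ ≤ W → (∀ w ∈ W, Q w = 0) → W = W₁) (hmax₂ : ∀ W : Submodule F V, W₂ ≤ W → (∀ w ∈ W, Q w = 0) → W = W₂) : Module.finrank F W₁ = Module.finrank F W₂ ∧ 2 * Module.finrank F W₁ ≤ Module.finrank F V := by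
  refine ⟨le_antisymm (aux Q hQ W₂ W₁ h₂ h₁ hmax₂) (aux Q hQ W₁ W₂ h₁ h₂ hmax₁), ?_⟩
  have hle : W₁ ≤ LinearMap.BilinForm.orthogonal (QuadraticMap.polarBilin Q) W₁ := by
    intro x hx y hy
    simp only [QuadraticMap.polarBilin_apply_apply, QuadraticMap.polar]
    rw [h₁ _ (W₁.add_mem hy hx), h₁ x hx, h₁ y hy]
    simp
  have e2 := LinearMap.BilinForm.finrank_orthogonal hQ W₁
  have e4 := Submodule.finrank_mono hle
  have e6 := Submodule.finrank_le W₁
  omega

end Cfsg.Agent.S0760
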