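import Cfsg.Statements.S2904
import Cfsg.Agent.Lib.Helper77Cyclo

set_option autoImplicit false
open Cfsg

namespace Cfsg.Agent.S2904

open Cfsg.Agent.Lib.Helper77Cyclo

theorem prime_of_isPrimDiv (q e m r : ℕ) (h : IsPrimDiv q e m) (hr : r.Prime) (hrm : r ∣ m) :
    r ∣ q ^ e - 1 ∧ ∀ k : ℕ, 0 < k → k < e → ¬ r ∣ q ^ k - 1 := by
  refine ⟨hrm.trans h.1, fun k hk hke hd => ?_⟩
  have hc := h.2 k hke hk
  have := Nat.dvd_gcd hrm hd
  rw [hc.gcd_eq_one] at this
  exact hr.one_lt.ne' (Nat.dvd_one.mp this)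

def excPrime : List (ℕ × ℕ × ℕ) := [(2, 4, 5), (2, 10, 11), (2, 12, 13), (2, 18, 19), (3, 4, 5), (3, 6, 7), (5, 6, 7),
  (2, 3, 7), (2, 8, 17), (2, 20, 41), (4, 3, 7), (4, 6, 13)]

theorem check6 : ∀ p ∈ exc, p = (2, 6) ∨ ∃ t ∈ excPrime, t.1 = p.1 ∧ t.2.1 = p.2 := by decide +kernel

theorem check7 : ∀ t ∈ excPrime, IsPrimDiv t.1 t.2.1 t.2.2 := by decide +kernel

theorem check8 : ∀ t ∈ excPrime, Nat.Prime t.2.2 := by
  intro t ht
  simp only [excPrime, List.mem_cons, List.not_mem_nil, or_false] at ht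
  rcases ht with rfl | rfl | rfl | rfl | rfl | rfl | rfl | rfl | rfl | rfl | rfl | rfl <;> norm_num


/-- Zsigmondy's Theorem: for natural numbers a > 1 and n > 1 there is a prime dividing aⁿ − 1 that divides aᵏ − 1 for no natural number 0 < k < n, unless a = 2 and n = 6, or n = 2 and a + 1 is a power of two. -/
theorem result (a n : ℕ) (ha : 1 < a) (hn : 1 < n) (h6 : ¬ (a = 2 ∧ n = 6)) (h2 : ¬ (n = 2 ∧ ∃ m : ℕ, a + 1 = 2 ^ m)) : ∃ r : ℕ, r.Prime ∧ r ∣ a ^ n - 1 ∧ ∀ k : ℕ, 0 < k → k < n → ¬ r ∣ a ^ k - 1 := by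
  rcases Nat.lt_or_ge n 3 with hn3 | hn3
  · have hn2 : n = 2 := by omega
    subst hn2
    rcases Nat.eq_two_pow_or_exists_odd_prime_and_dvd (a + 1) with ⟨k, hk⟩ | ⟨r, hr, hra, hodd⟩
    · exact absurd ⟨rfl, k, hk⟩ h2
    · refine ⟨r, hr, ?_, ?_⟩
      · have : a ^ 2 - 1 = (a + 1) * (a - 1) := by
          obtain ⟨b, rfl⟩ : ∃ b, a = b + 1 := ⟨a - 1, by omega⟩
          have : (b + 1) ^ 2 = (b + 1 + 1) * b + 1 := by ring
          rw [this]; simp
        rw [this]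
        exact Dvd.dvd.mul_right hra _
      · intro k hk0 hk2 hd
        have hk1 : k = 1 := by omega
        subst hk1
        rw [pow_one] at hd
        have h3 : r ∣ (a + 1) - (a - 1) := Nat.dvd_sub hra hd
        have h4 : (a + 1) - (a - 1) = 2 := by omega
        rw [h4] at h3
        have h5 : r = 2 := (Nat.prime_dvd_prime_iff_eq hr Nat.prime_two).mp h3
        subst h5
        exact absurd hodd (by decide)
  · by_cases hex : (a, n) ∈ exc
    · rcases check6 (a, n) hex with h | ⟨t, ht, h1, h2'⟩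
      · simp only [Prod.mk.injEq] at h
        exact absurd h h6
      · have h7 := check7 t ht
        have h8 := check8 t ht
        simp only at h1 h2'
        rw [h1, h2'] at h7
        obtain ⟨hA, hB⟩ := prime_of_isPrimDiv a n t.2.2 t.2.2 h7 h8 dvd_rfl
        exact ⟨t.2.2, h8, hA, hB⟩
    · obtain ⟨m, hm, hm3⟩ := exists_large_primitive a n ha hn3 hex
      have hm1 : m ≠ 1 := by omega
      obtain ⟨hA, hB⟩ := prime_of_isPrimDiv a n m m.minFac hm (Nat.minFac_prime hm1) (Nat.minFac_dvd m)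
      exact ⟨m.minFac, Nat.minFac_prime hm1, hA, hB⟩

end Cfsg.Agent.S2904
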