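import Mathlib
import Cfsg.Statements.S2474
import Cfsg.Agent.Lib.Helper45TrF
import Cfsg.Agent.Lib.Helper45TrG
import Cfsg.Agent.Lib.Helper49Center

set_option autoImplicit false
open Cfsg

namespace Cfsg.Agent.S2474

open Module Cfsg.Agent.Lib.Helper45Form Cfsg.Agent.Lib.Helper45Sp Cfsg.Agent.Lib.Helper17Symp
  Cfsg.Agent.Lib.Helper45ProjOrder Cfsg.Agent.Lib.Helper45OrthD Cfsg.Agent.Lib.Helper49Orth
  Cfsg.Agent.Lib.Helper49Forms Cfsg.Agent.Lib.Helper45TrD Cfsg.Agent.Lib.Helper45TrE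
  Cfsg.Agent.Lib.Helper45TrF Cfsg.Agent.Lib.Helper45TrG QuadraticMap

theorem sp_lin {F : Type*} [Field F] (n : ℕ) (A : Matrix.symplecticGroup (Fin n) F) :
    ∃ h h' : End F (Fin n ⊕ Fin n → F), Isom (sB n) h h' ∧
      (∀ j, h ^ j = 1 ↔ (A : Matrix (Fin n ⊕ Fin n) (Fin n ⊕ Fin n) F) ^ j = 1) ∧
      (∀ j, h ^ j = -1 ↔ (A : Matrix (Fin n ⊕ Fin n) (Fin n ⊕ Fin n) F) ^ j = -1) := by
  let g : End F (Fin n ⊕ Fin n → F) := Matrix.toLin' (A : Matrix (Fin n ⊕ Fin n) (Fin n ⊕ Fin n) F)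
  let g' : End F (Fin n ⊕ Fin n → F) :=
    Matrix.toLin' ((A⁻¹ : Matrix.symplecticGroup (Fin n) F) : Matrix (Fin n ⊕ Fin n) (Fin n ⊕ Fin n) F)
  have hgg' : g * g' = 1 := by
    show (Matrix.toLin' _).comp (Matrix.toLin' _) = 1
    rw [← Matrix.toLin'_mul, ← Submonoid.coe_mul, mul_inv_cancel]
    exact Matrix.toLin'_one
  have hg'g : g' * g = 1 := by
    show (Matrix.toLin' _).comp (Matrix.toLin' _) = 1
    rw [← Matrix.toLin'_mul, ← Submonoid.coe_mul, inv_mul_cancel]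
    exact Matrix.toLin'_one
  have hg : Isom (sB n) g g' := Isom.of_preserves hgg' hg'g (fun u v => by
    rw [sB_apply, sB_apply]
    exact (mem_symplecticGroup_iff_preserves n _).1 A.2 u v)
  refine ⟨g, g', hg, ?_, ?_⟩
  · intro j
    show Matrix.toLin' _ ^ j = 1 ↔ _
    have h1 : (1 : End F (Fin n ⊕ Fin n → F)) = Matrix.toLin' 1 := Matrix.toLin'_one.symm
    rw [← Matrix.toLin'_pow, h1]
    exact Matrix.toLin'.injective.eq_iff
  · intro j
    show Matrix.toLin' _ ^ j = -1 ↔ _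
    have h1 : (-1 : End F (Fin n ⊕ Fin n → F)) = Matrix.toLin' (-1) := by
      rw [map_neg, Matrix.toLin'_one]
      rfl
    rw [← Matrix.toLin'_pow, h1]
    exact Matrix.toLin'.injective.eq_iff

theorem sp_data {F : Type*} [Field F] (n : ℕ) (hn : 1 ≤ n) (x : Cfsg.PSp n F) :
    ∃ h h' : End F (Fin n ⊕ Fin n → F), Isom (sB n) h h' ∧
      ∀ j, (h ^ j = 1 ∨ h ^ j = -1) ↔ orderOf x ∣ j := by
  obtain ⟨A, rfl⟩ := QuotientGroup.mk_surjective x
  obtain ⟨h, h', hh, e1, e2⟩ := sp_lin n A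
  refine ⟨h, h', hh, ?_⟩
  intro j
  rw [e1, e2, ← proj_pow_eq_one_iff hn, orderOf_dvd_iff_pow_eq_one]

theorem sp_data_odd {F : Type*} [Field F] (n : ℕ) (hn : 1 ≤ n) (x : Cfsg.PSp n F)
    (hodd : Odd (orderOf x)) :
    ∃ h h' : End F (Fin n ⊕ Fin n → F), Isom (sB n) h h' ∧
      ∀ j, h ^ j = 1 ↔ orderOf x ∣ j := by
  obtain ⟨A, rfl⟩ := QuotientGroup.mk_surjective x
  set N := orderOf (QuotientGroup.mk A : Cfsg.PSp n F) with hN
  have hAN := (proj_pow_eq_one_iff hn A N).1 (pow_orderOf_eq_one _)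
  obtain ⟨A', hA'⟩ : ∃ A' : Matrix.symplecticGroup (Fin n) F, A' = A ^ (N + 1) := ⟨_, rfl⟩
  have hA'x : (QuotientGroup.mk A' : Cfsg.PSp n F) = QuotientGroup.mk A := by
    rw [hA', QuotientGroup.mk_pow, pow_succ, pow_orderOf_eq_one, one_mul]
  have hA'N : (A' : Matrix (Fin n ⊕ Fin n) (Fin n ⊕ Fin n) F) ^ N = 1 := by
    rw [hA']
    show ((A : Matrix (Fin n ⊕ Fin n) (Fin n ⊕ Fin n) F) ^ (N + 1)) ^ N = 1
    rw [← pow_mul, mul_comm, pow_mul]
    have he : Even (N + 1) := hodd.add_one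
    rcases hAN with h | h
    · rw [h, one_pow]
    · rw [h, he.neg_one_pow]
  obtain ⟨h, h', hh, e1, -⟩ := sp_lin n A'
  refine ⟨h, h', hh, ?_⟩
  intro j
  rw [e1]
  constructor
  · intro hj
    rw [hN, ← hA'x]
    apply orderOf_dvd_of_pow_eq_one
    rw [proj_pow_eq_one_iff hn]
    exact Or.inl hj
  · rintro ⟨c, rfl⟩
    rw [pow_mul, hA'N, one_pow]

theorem center_eq_bot {F : Type*} [Field F] [Fintype F] (h2 : (2 : F) ≠ 0) (n : ℕ) (hn : 2 ≤ n) :
    Subgroup.center ↥(Cfsg.Omega F ⇑(QOdd n F)) = ⊥ := by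
  rw [Subgroup.eq_bot_iff_forall]
  intro z hz
  have hQ := Cfsg.Agent.Lib.Helper49OddForm.QOdd_nondegenerate h2 n
  have hcard : Fintype.card (Unit ⊕ (Fin n ⊕ Fin n)) = 2 * n + 1 := by
    simp only [Fintype.card_sum, Fintype.card_unit, Fintype.card_fin]; omega
  rcases Cfsg.Agent.Lib.Helper49Center.coe_eq_of_mem_center (QOdd n F) hQ (by omega) hz with h | h
  · apply Subtype.ext
    apply Subtype.ext
    apply Units.ext
    exact h
  · exfalso
    have h1 : detO (QOdd n F) (z : ↥(Cfsg.isometryGroup F ⇑(QOdd n F))) = 1 :=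
      Abelianization.commutator_subset_ker _ z.2
    have h3 := congrArg Units.val h1
    rw [detO_apply, h, Matrix.det_neg, Matrix.det_one, hcard, Units.val_one, mul_one,
      Odd.neg_one_pow ⟨n, rfl⟩] at h3
    apply h2
    linear_combination -h3

theorem omega_iff {F : Type*} [Field F] [Fintype F] (h2 : (2 : F) ≠ 0) (n : ℕ) (hn : 2 ≤ n)
    (M : ℕ) :
    M ∈ Set.range (orderOf : Cfsg.POmega F ⇑(QOdd n F) → ℕ) ↔
      ∃ x : ↥(Cfsg.Omega F ⇑(QOdd n F)), orderOf x = M := by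
  have hinj : Function.Injective
      (QuotientGroup.mk' (Subgroup.center ↥(Cfsg.Omega F ⇑(QOdd n F)))) := by
    rw [← MonoidHom.ker_eq_bot_iff, QuotientGroup.ker_mk', center_eq_bot h2 n hn]
  constructor
  · rintro ⟨x, rfl⟩
    obtain ⟨g, rfl⟩ := QuotientGroup.mk_surjective x
    exact ⟨g, (orderOf_injective _ hinj g).symm⟩
  · rintro ⟨x, rfl⟩
    exact ⟨QuotientGroup.mk x, orderOf_injective _ hinj x⟩

theorem o_data {F : Type*} [Field F] (n : ℕ) (x : ↥(Cfsg.Omega F ⇑(QOdd n F))) :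
    Isom (polarBilin (QOdd n F)) (linOf x.1) (linOf x.1⁻¹) ∧ LinearMap.det (linOf x.1) = 1 ∧
      ∀ j, linOf x.1 ^ j = 1 ↔ orderOf x ∣ j := by
  refine ⟨linOf_isom _ _, ?_, ?_⟩
  · rw [det_linOf]
    have h1 : detO (QOdd n F) (x : ↥(Cfsg.isometryGroup F ⇑(QOdd n F))) = 1 :=
      Abelianization.commutator_subset_ker _ x.2
    rw [h1, Units.val_one]
  · intro j
    rw [← linOf_pow, linOf_eq_one_iff, ← Subgroup.orderOf_coe, orderOf_dvd_iff_pow_eq_one]

theorem cast_ne_zero_of_prime {F : Type*} [Field F] (p : ℕ) [Fact p.Prime] [CharP F p] (r : ℕ)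
    (hr : r.Prime) (hrp : r ≠ p) : (r : F) ≠ 0 := by
  intro h
  rw [CharP.cast_eq_zero_iff F p r] at h
  exact hrp ((Nat.prime_dvd_prime_iff_eq Fact.out hr).1 h).symm

section Main

variable {F : Type*} [Field F] [Fintype F]

theorem odd_case (p : ℕ) [Fact p.Prime] [CharP F p] (h2 : (2 : F) ≠ 0) (n : ℕ) (hn : 3 ≤ n)
    (M a M' : ℕ) (hMa : M = a * M') (hodd : Odd M) (hM' : (M' : F) ≠ 0) (ha : a = 1 ∨ a = p) :
    (∃ x : ↥(Cfsg.Omega F ⇑(QOdd n F)), orderOf x = M) ↔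
      M ∈ Set.range (orderOf : Cfsg.PSp n F → ℕ) := by
  have hQ := Cfsg.Agent.Lib.Helper49OddForm.QOdd_nondegenerate h2 n
  have hnd : ∀ u, (∀ v, polarBilin (QOdd n F) u v = 0) → u = 0 :=
    (Cfsg.Agent.Lib.Helper42Quad.nondeg_iff _).1 hQ
  constructor
  · rintro ⟨x, hx⟩
    obtain ⟨hi, -, hj⟩ := o_data n x
    rw [hx] at hj
    exact odd_O_to_Sp p h2 (n := n) (by omega) (polarBilin (QOdd n F)) (fun x y => polar_comm _ x y) hnd
      (by
        rw [Module.finrank_fintype_fun_eq_card]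
        simp only [Fintype.card_sum, Fintype.card_unit, Fintype.card_fin]; omega)
      hi M a M' hMa hodd hM' ha hj
  · rintro ⟨x, hx⟩
    obtain ⟨h, h', hh, hj⟩ := sp_data_odd n (by omega) x (hx ▸ hodd)
    rw [hx] at hj
    exact odd_Sp_to_O p h2 (sB n) (fun v => by rw [sB_apply, sympForm_self])
      (fun u hu => sympForm_nondeg n u (fun v => by rw [← sB_apply]; exact hu v))
      (by rw [Module.finrank_fintype_fun_eq_card, Fintype.card_sum, Fintype.card_fin]; omega)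
      hh M a M' hMa hodd hM' ha hj

theorem two_case (p : ℕ) [Fact p.Prime] [CharP F p] (h2 : (2 : F) ≠ 0) (n : ℕ) (hn : 3 ≤ n)
    (r : ℕ) (hr : r.Prime) (hr2 : r ≠ 2) :
    (∃ x : ↥(Cfsg.Omega F ⇑(QOdd n F)), orderOf x = 2 * r) ↔
      2 * r ∈ Set.range (orderOf : Cfsg.PSp n F → ℕ) := by
  have hQ := Cfsg.Agent.Lib.Helper49OddForm.QOdd_nondegenerate h2 n
  have hnd : ∀ u, (∀ v, polarBilin (QOdd n F) u v = 0) → u = 0 :=
    (Cfsg.Agent.Lib.Helper42Quad.nondeg_iff _).1 hQ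
  by_cases hrp : r = p
  · subst hrp
    exact ⟨fun _ => two_p_Sp F r h2 n hn, fun _ => two_p_O F r h2 n (by omega)⟩
  have hrF : (r : F) ≠ 0 := cast_ne_zero_of_prime p r hr hrp
  constructor
  · rintro ⟨x, hx⟩
    obtain ⟨hi, hd, hj⟩ := o_data n x
    rw [hx] at hj
    rcases two_O_to_Sp h2 (n := n) (by omega) (polarBilin (QOdd n F)) (fun x y => polar_comm _ x y) hnd
      (by
        rw [Module.finrank_fintype_fun_eq_card]
        simp only [Fintype.card_sum, Fintype.card_unit, Fintype.card_fin]; omega)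
      hi hd r hr hr2 hrF hj with h | ⟨Z, hZ1, ndZ, hZ2, hZr⟩
    · exact h
    · apply line_case p h2 n (by omega) x.1 (Abelianization.commutator_subset_ker _ x.2) r hr hr2
        _ Z hZ1 ndZ hZ2 hZr
      rw [← linOf_eq_one_iff, linOf_pow, hj]
  · rintro ⟨x, hx⟩
    obtain ⟨h, h', hh, hj⟩ := sp_data n (by omega) x
    rw [hx] at hj
    exact two_Sp_to_O h2 (n := n) (by omega) (sB n) (fun v => by rw [sB_apply, sympForm_self])
      (fun u hu => sympForm_nondeg n u (fun v => by rw [← sB_apply]; exact hu v))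
      (by rw [Module.finrank_fintype_fun_eq_card, Fintype.card_sum, Fintype.card_fin]; omega)
      hh r hr hr2 hrF hj

end Main

/-- For q odd and n ≥ 3 the simple groups PΩ(2n+1,q) and PSp(2n,q) (which have the same order but different sets of element orders) have the same prime graph: for all distinct primes r, s, one of them has an element of order r·s if and only if the other does. -/
theorem result {F : Type*} [Field F] [Fintype F] (hodd : Odd (Fintype.card F)) (n : ℕ) (hn : 3 ≤ n) (r s : ℕ) (hr : r.Prime) (hs : s.Prime) (hrs : r ≠ s) :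
    (r * s ∈ Set.range (orderOf : Cfsg.POmega F (Cfsg.quadFormOdd n F) → ℕ)) ↔ (r * s ∈ Set.range (orderOf : Cfsg.PSp n F → ℕ)) := by
  have h2 : (2 : F) ≠ 0 := Cfsg.Agent.Lib.Helper49Forms.two_ne_zero_of_odd rfl hodd
  obtain ⟨p, hchar⟩ := CharP.exists F
  have hpp : p.Prime := (CharP.char_is_prime_or_zero F p).resolve_right (by
    rintro rfl
    have := CharP.charP_to_charZero F
    exact not_finite F)
  have : Fact p.Prime := ⟨hpp⟩
  rw [← Cfsg.Agent.Lib.Helper49Forms.coe_QOdd, omega_iff h2 n (by omega)]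
  by_cases hr2 : r = 2
  · subst hr2
    exact two_case p h2 n hn s hs (Ne.symm hrs)
  by_cases hs2 : s = 2
  · subst hs2
    rw [mul_comm]
    exact two_case p h2 n hn r hr hr2
  have hoddM : Odd (r * s) := (hr.odd_of_ne_two hr2).mul (hs.odd_of_ne_two hs2)
  by_cases hrp : r = p
  · exact odd_case p h2 n hn (r * s) r s rfl hoddM
      (cast_ne_zero_of_prime p s hs (fun h => hrs (hrp.trans h.symm))) (Or.inr hrp)
  by_cases hsp : s = p
  · exact odd_case p h2 n hn (r * s) s r (mul_comm r s) hoddM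
      (cast_ne_zero_of_prime p r hr hrp) (Or.inr hsp)
  · exact odd_case p h2 n hn (r * s) 1 (r * s) (one_mul _).symm hoddM
      (by
        rw [Nat.cast_mul]
        exact mul_ne_zero (cast_ne_zero_of_prime p r hr hrp) (cast_ne_zero_of_prime p s hs hsp))
      (Or.inl rfl)

end Cfsg.Agent.S2474
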