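import Cfsg.Statements.S0289
import Mathlib
import Cfsg.Agent.Lib.Helper7QForms

set_option autoImplicit false
open Cfsg

namespace Cfsg.Agent.S0289

/-- The hyperbolic quadratic form on F^(2m), m at least 1, has q^(2m-1) + q^m - q^(m-1) zeros (that is, (q^m - 1)(q^(m-1) + 1) non-zero isotropic vectors). -/
theorem result {F : Type*} [Field F] [Fintype F] {q : ℕ} (hF : Fintype.card F = q) (m : ℕ) (hm : 1 ≤ m) : Nat.card {v : Fin m ⊕ Fin m → F // Cfsg.quadFormPlus m F v = 0} = q ^ (2 * m - 1) + q ^ m - q ^ (m - 1) := by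
  rw [Cfsg.Agent.Lib.Helper7QForms.card_plus]
  have h := Cfsg.Agent.Lib.Helper7QForms.cntQ_plus_zero (F := F) m
  rw [hF] at h
  have hq : 1 ≤ q := by rw [← hF]; exact Fintype.card_pos
  obtain ⟨k, rfl⟩ : ∃ k, m = k + 1 := ⟨m - 1, by omega⟩
  generalize Cfsg.Agent.Lib.Helper7QCount.cntQ (Cfsg.Agent.Lib.Helper7QForms.nuPlus F) (k + 1) 0 = P at h ⊢
  have e1 : 2 * (k + 1) - 1 = 2 * k + 1 := by omega
  have e2 : k + 1 - 1 = k := by omega
  rw [e1, e2]
  have h3 : q * (P + q ^ k) = q * (q ^ (2 * k + 1) + q ^ (k + 1)) := by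
    have : q * (P + q ^ k) = q * P + q ^ (k + 1) := by ring
    rw [this, h]; ring
  have h4 := Nat.eq_of_mul_eq_mul_left (by omega) h3
  omega

end Cfsg.Agent.S0289
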