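import Cfsg.Statements.S2616
import Cfsg.Agent.Lib.Helper42Quad

set_option autoImplicit false
open Cfsg

namespace Cfsg.Agent.S2616

/-- Standard bases of a non-degenerate quadratic space of even dimension 2m over a finite field: either there is a hyperbolic basis e_i, f_i (Q(e_i) = Q(f_i) = 0, B(e_i, f_j) = δ_ij, the e's pairwise orthogonal and the f's pairwise orthogonal, B the polar form), or there is an elliptic basis: hyperbolic pairs e_i, f_i for i < m − 1 together with x, y orthogonal to them with Q(x) = 1, B(x, y) = 1, Q(y) = ζ where t² + t + ζ has no root in the field. -/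
theorem result {F V : Type*} [Field F] [Finite F] [AddCommGroup V] [Module F V] [FiniteDimensional F V] {m : ℕ} (hm : 1 ≤ m) (hV : Module.finrank F V = 2 * m) (Q : QuadraticForm F V) (hQ : (QuadraticMap.polarBilin Q).Nondegenerate) : (∃ b : Module.Basis (Fin m ⊕ Fin m) F V, (∀ i, Q (b (Sum.inl i)) = 0 ∧ Q (b (Sum.inr i)) = 0) ∧ (∀ i j, QuadraticMap.polar ⇑Q (b (Sum.inl i)) (b (Sum.inr j)) = if i = j then 1 else 0) ∧ (∀ i j, QuadraticMap.polar ⇑Q (b (Sum.inl i)) (b (Sum.inl j)) = 0 ∧ QuadraticMap.polar ⇑Q (b (Sum.inr i)) (b (Sum.inr j)) = 0)) ∨ (∃ (b : Module.Basis ((Fin (m - 1) ⊕ Fin (m - 1)) ⊕ Fin 2) F V) (ζ : F), (∀ t : F, t ^ 2 + t + ζ ≠ 0) ∧ (∀ i, Q (b (Sum.inl (Sum.inl i))) = 0 ∧ Q (b (Sum.inl (Sum.inr i))) = 0) ∧ (∀ i j, QuadraticMap.polar ⇑Q (b (Sum.inl (Sum.inl i))) (b (Sum.inl (Sum.inr j))) = if i = j then 1 else 0) ∧ (∀ i j, QuadraticMap.polar ⇑Q (b (Sum.inl (Sum.inl i))) (b (Sum.inl (Sum.inl j))) = 0 ∧ QuadraticMap.polar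 ⇑Q (b (Sum.inl (Sum.inr i))) (b (Sum.inl (Sum.inr j))) = 0) ∧ (∀ i (k : Fin 2), QuadraticMap.polar ⇑Q (b (Sum.inl (Sum.inl i))) (b (Sum.inr k)) = 0 ∧ QuadraticMap.polar ⇑Q (b (Sum.inl (Sum.inr i))) (b (Sum.inr k)) = 0) ∧ Q (b (Sum.inr 0)) = 1 ∧ QuadraticMap.polar ⇑Q (b (Sum.inr 0)) (b (Sum.inr 1)) = 1 ∧ Q (b (Sum.inr 1)) = ζ) := by
  classical
  have hstd := Cfsg.Agent.Lib.Helper42Quad.std (F := F) (2 * m) Q hQ hV
  rcases hstd with ⟨k, hk, e, f, h⟩ | ⟨k, hk, -⟩ | ⟨k, hk, e, f, x, y, h, hx, hy, hx1, hxy, ht⟩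
  · left
    have hkm : k = m := by omega
    subst hkm
    obtain ⟨b, hb1, hb2, -⟩ := Cfsg.Agent.Lib.Helper42Quad.exists_basis_sum Q e f h
      (fun i : Fin 0 => i.elim0) (fun i => i.elim0) (linearIndependent_empty_type)
      (by simp [hV])
    obtain ⟨h1, h2, h3, h4, h5⟩ := h
    refine ⟨b.reindex (Equiv.sumEmpty _ _), ?_, ?_, ?_⟩
    · intro i
      simpa [hb1, hb2] using ⟨h1 i, h2 i⟩
    · intro i j
      simpa [hb1, hb2] using h3 i j
    · intro i j
      simpa [hb1, hb2] using ⟨h4 i j, h5 i j⟩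
  · omega
  · right
    have hkm : k = m - 1 := by omega
    subst hkm
    obtain ⟨b, hb1, hb2, hb3⟩ := Cfsg.Agent.Lib.Helper42Quad.exists_basis_sum Q e f h
      ![x, y] (fun j => by
        refine Fin.cases ?_ (fun j' => ?_) j
        · simpa using hx
        · have : j' = 0 := Subsingleton.elim _ _
          subst this
          simpa using hy)
      (Cfsg.Agent.Lib.Helper42Quad.li_pair Q x y hx1 hxy ht)
      (by simp [hV]; omega)
    obtain ⟨h1, h2, h3, h4, h5⟩ := h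
    have hb30 : b (Sum.inr 0) = x := by rw [hb3]; rfl
    have hb31 : b (Sum.inr 1) = y := by rw [hb3]; rfl
    refine ⟨b, Q y, ht, ?_, ?_, ?_, ?_, ?_, ?_, ?_⟩
    · intro i
      simpa [hb1, hb2] using ⟨h1 i, h2 i⟩
    · intro i j
      simpa [hb1, hb2] using h3 i j
    · intro i j
      simpa [hb1, hb2] using ⟨h4 i j, h5 i j⟩
    · intro i j
      rw [hb1, hb2]
      refine Fin.cases ?_ (fun j' => ?_) j
      · rw [hb30]; exact hx i
      · have : j' = 0 := Subsingleton.elim _ _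
        subst this
        have e1 : (Fin.succ 0 : Fin 2) = 1 := rfl
        rw [e1, hb31]; exact hy i
    · rw [hb30]; exact hx1
    · rw [hb30, hb31]; exact hxy
    · rw [hb31]

end Cfsg.Agent.S2616
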