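import Cfsg.Statements.S0528
import Cfsg.Agent.Lib.Helper11Supersolvable

set_option autoImplicit false
open Cfsg

namespace Cfsg.Agent.S0528

open Cfsg.Agent.Lib.Helper11Supersolvable

theorem chain_comap {G : Type*} [Group G] (N : Subgroup G) [N.Normal] (hN : Chain N)
    {B : Subgroup (G ⧸ N)} (hB : Chain B) : Chain (B.comap (QuotientGroup.mk' N)) := by
  induction hB with
  | bot =>
    rw [MonoidHom.comap_bot, QuotientGroup.ker_mk']; exact hN
  | step B gq hB hn ih =>
    obtain ⟨g, rfl⟩ := QuotientGroup.mk'_surjective N gq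
    have hle : N ≤ B.comap (QuotientGroup.mk' N) := by
      conv_lhs => rw [← QuotientGroup.ker_mk' N]
      exact Subgroup.ker_le_comap _ _
    have e : (B ⊔ Subgroup.zpowers (QuotientGroup.mk' N g)).comap (QuotientGroup.mk' N)
        = B.comap (QuotientGroup.mk' N) ⊔ Subgroup.zpowers g := by
      have h1 : B ⊔ Subgroup.zpowers (QuotientGroup.mk' N g)
          = (B.comap (QuotientGroup.mk' N) ⊔ Subgroup.zpowers g).map (QuotientGroup.mk' N) := by
        rw [Subgroup.map_sup, MonoidHom.map_zpowers,
          Subgroup.map_comap_eq_self_of_surjective (QuotientGroup.mk'_surjective N)]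
      rw [h1, Subgroup.comap_map_eq, QuotientGroup.ker_mk']
      exact sup_of_le_left (hle.trans le_sup_left)
    have hn' : ((B ⊔ Subgroup.zpowers (QuotientGroup.mk' N g)).comap (QuotientGroup.mk' N)).Normal :=
      hn.comap _
    rw [e] at hn' ⊢
    exact Chain.step _ g ih hn'

theorem of_chain_of_quotient {G : Type*} [Group G] (N : Subgroup G) [N.Normal] (hN : Chain N)
    (h : Cfsg.IsSupersolvable (G ⧸ N)) : Cfsg.IsSupersolvable G := by
  rw [isSupersolvable_iff] at h ⊢
  have := chain_comap N hN h
  rwa [Subgroup.comap_top] at this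

theorem chain_of_isCyclic {G : Type*} [Group G] (N : Subgroup G) [hn : N.Normal] [hc : IsCyclic N] :
    Chain N := by
  obtain ⟨g, hg⟩ := (Subgroup.isCyclic_iff_exists_zpowers_eq_top N).mp hc
  have h1 : (⊥ ⊔ Subgroup.zpowers g : Subgroup G) = N := by rw [bot_sup_eq, hg]
  have := Chain.step ⊥ g Chain.bot (h1 ▸ hn)
  rwa [h1] at this

/-- An extension of a cyclic normal subgroup by a supersolvable group is supersolvable: if N is a cyclic normal subgroup of a finite group G and G modulo N is supersolvable, then G is supersolvable. -/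
theorem result {G : Type*} [Group G] [Finite G] (N : Subgroup G) [N.Normal] [IsCyclic N] (h : Cfsg.IsSupersolvable (G ⧸ N)) : Cfsg.IsSupersolvable G := by
  exact of_chain_of_quotient N (chain_of_isCyclic N) h

end Cfsg.Agent.S0528
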