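import Mathlib
import Cfsg.Statements.S3803
import Cfsg.Agent.Lib.Helper67Odd2
import Cfsg.Agent.Lib.Helper29Basic

set_option autoImplicit false
open Cfsg
open Cfsg.Agent.Lib.Helper67Odd2

namespace Cfsg.Agent.S3803

theorem fix_of_order_le {X : Type*} [Group X] [Finite X] (g : X) (hg : Odd (orderOf g))
    (P : Subgroup X) (n e : ℕ) (hPn : Nat.card P = 2 ^ n) (hen : e < n)
    (hinv : ∀ E : Subgroup X, E ≤ P → Nat.card E = 2 ^ e → ∀ x ∈ E, g * x * g⁻¹ ∈ E) :
    ∀ x ∈ P, x ^ 2 ^ e = 1 → g * x * g⁻¹ = x := by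
  have : Fact (Nat.Prime 2) := ⟨Nat.prime_two⟩
  intro x hxP hx
  obtain ⟨i, hie, hi⟩ := (Nat.dvd_prime_pow Nat.prime_two).mp (orderOf_dvd_of_pow_eq_one hx)
  have hHP : Subgroup.zpowers x ≤ P := by rw [Subgroup.zpowers_le]; exact hxP
  have hH : Nat.card (Subgroup.zpowers x) = 2 ^ i := by rw [Nat.card_zpowers, hi]
  obtain ⟨E, hHE, hEP, hE⟩ := exists_between P _ hHP hH hPn hie hen.le
  obtain ⟨F, hEF, hFP, hF⟩ := exists_between P E hEP hE hPn (Nat.le_succ e) hen
  have hxE : x ∈ E := hHE (Subgroup.mem_zpowers x)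
  by_cases hcyc : IsCyclic F
  · rcases Nat.eq_zero_or_pos e with rfl | hepos
    · have : x = 1 := by simpa using hx
      rw [this]; group
    · obtain ⟨e', rfl⟩ := Nat.exists_eq_succ_of_ne_zero hepos.ne'
      refine centralizes_of_invariant_maximal g hg E e' hE (hinv E hEP hE) ?_ x hxE
      intro M hME hM y hy
      have h1 : M.map (MulAut.conj g).toMonoidHom ≤ F := by
        rintro _ ⟨z, hz, rfl⟩
        exact hEF (hinv E hEP hE z (hME hz))
      have h2 : Nat.card (M.map (MulAut.conj g).toMonoidHom) = Nat.card M :=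
        Subgroup.card_map_of_injective (MulAut.conj g).injective
      have h3 := Cfsg.Agent.Lib.Helper29Basic.eq_of_card_eq_of_le_cyclic hcyc h1 (hME.trans hEF) h2
      rw [← h3]
      exact ⟨y, hy, rfl⟩
  · have hFp : IsPGroup 2 F := IsPGroup.of_card hF
    have hgF : ∀ y ∈ F, g * y * g⁻¹ ∈ F := by
      intro y hy
      have hyF : Subgroup.zpowers y ≤ F := by rw [Subgroup.zpowers_le]; exact hy
      obtain ⟨j, hj⟩ := IsPGroup.iff_card.mp (hFp.to_le hyF)
      have hje : j ≤ e := by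
        by_contra hlt
        push Not at hlt
        have h1 : Nat.card F ≤ Nat.card (Subgroup.zpowers y) := by
          rw [hF, hj]; exact Nat.pow_le_pow_right (by norm_num) hlt
        have h2 : Subgroup.zpowers y = F := Subgroup.eq_of_le_of_card_ge hyF h1
        apply hcyc
        rw [← h2]
        infer_instance
      obtain ⟨M, hyM, hMF, hM⟩ := exists_between F _ hyF hj hF hje (Nat.le_succ e)
      exact hMF (hinv M (hMF.trans hFP) hM y (hyM (Subgroup.mem_zpowers y)))
    exact centralizes_of_invariant_maximal g hg F e hF hgF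
      (fun M hMF hM => hinv M (hMF.trans hFP) hM) x (hEF hxE)

/-- Let P be a 2-subgroup and A a subgroup of odd order of a finite group, with A normalizing P. Let D ≤ P with 1 < |D| < |P|. If every subgroup of P of order |D|, and also every subgroup of P of order 4 in case |D| = 2, is normalized by A, then A centralizes P. -/
theorem result {X : Type*} [Group X] [Finite X] (P A D : Subgroup X) (hP : IsPGroup 2 P) (hA : Odd (Nat.card A))
    (hAP : A ≤ Subgroup.normalizer (P : Set X)) (hDP : D ≤ P) (hD1 : 1 < Nat.card D) (hD2 : Nat.card D < Nat.card P)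
    (hinv : ∀ E : Subgroup X, E ≤ P → (Nat.card E = Nat.card D ∨ (Nat.card D = 2 ∧ Nat.card E = 4)) → A ≤ Subgroup.normalizer (E : Set X)) :
    A ≤ Subgroup.centralizer (P : Set X) := by
  have : Fact (Nat.Prime 2) := ⟨Nat.prime_two⟩
  obtain ⟨n, hn⟩ := IsPGroup.iff_card.mp hP
  obtain ⟨d, hd⟩ := IsPGroup.iff_card.mp (hP.to_le hDP)
  have hdn : d < n := by
    rw [hd, hn] at hD2
    exact (Nat.pow_lt_pow_iff_right (by norm_num : 1 < 2)).mp hD2
  have hd0 : 1 ≤ d := by
    rcases Nat.eq_zero_or_pos d with rfl | h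
    · rw [hd] at hD1; simp at hD1
    · exact h
  rw [Cfsg.Agent.Lib.Helper30Coprime.le_centralizer_iff_conj]
  intro g hgA
  have hg : Odd (orderOf g) := by
    have h1 : orderOf g ∣ Nat.card A := by
      have := orderOf_dvd_natCard (⟨g, hgA⟩ : A)
      rwa [Subgroup.orderOf_mk] at this
    exact Odd.of_dvd_nat hA h1
  have hgP : ∀ x ∈ P, g * x * g⁻¹ ∈ P := fun x hx =>
    (Subgroup.mem_normalizer_iff.mp (hAP hgA) x).mp hx
  have hinv1 : ∀ E : Subgroup X, E ≤ P → Nat.card E = 2 ^ d → ∀ x ∈ E, g * x * g⁻¹ ∈ E :=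
    fun E hEP hE x hx =>
      (Subgroup.mem_normalizer_iff.mp (hinv E hEP (Or.inl (by rw [hE, hd])) hgA) x).mp hx
  rcases Nat.lt_or_ge 1 d with hd2 | hd1
  · -- `d ≥ 2`
    apply centralizes_of_fix_order_four g hg _ P rfl hP hgP
    intro x hx hx4
    apply fix_of_order_le g hg P n d hn hdn hinv1 x hx
    obtain ⟨k, rfl⟩ := Nat.exists_eq_add_of_le hd2
    have : 2 ^ (1 + 1 + k) = 4 * 2 ^ k := by rw [pow_add]; norm_num
    rw [this, pow_mul, hx4, one_pow]
  · have hd' : d = 1 := le_antisymm hd1 hd0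
    subst hd'
    have hinv4 : ∀ E : Subgroup X, E ≤ P → Nat.card E = 2 ^ 2 → ∀ x ∈ E, g * x * g⁻¹ ∈ E :=
      fun E hEP hE x hx =>
        (Subgroup.mem_normalizer_iff.mp
          (hinv E hEP (Or.inr ⟨by rw [hd]; norm_num, by rw [hE]; norm_num⟩) hgA) x).mp hx
    rcases Nat.lt_or_ge 2 n with hn3 | hn2
    · apply centralizes_of_fix_order_four g hg _ P rfl hP hgP
      intro x hx hx4
      exact fix_of_order_le g hg P n 2 hn hn3 hinv4 x hx (by simpa using hx4)
    · have hn' : n = 1 + 1 := by omega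
      subst hn'
      exact centralizes_of_invariant_maximal g hg P 1 hn hgP hinv1

end Cfsg.Agent.S3803
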