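import Cfsg.Statements.S4250
import Cfsg.Agent.Lib.Helper40Alperin

set_option autoImplicit false
open Cfsg

namespace Cfsg.Agent.S4250

open Cfsg.Agent.Lib.Helper40Sylow Cfsg.Agent.Lib.Helper40Alperin
open scoped commutatorElement

theorem commutator_le_of_normalizes {G : Type*} [Group G] {H K : Subgroup G}
    (h : K ≤ Subgroup.normalizer (H : Set G)) : ⁅H, K⁆ ≤ H := by
  rw [Subgroup.commutator_le]
  intro a ha b hb
  have h1 : b * a⁻¹ * b⁻¹ ∈ H := (Subgroup.mem_normalizer_iff.mp (h hb) a⁻¹).mp (H.inv_mem ha)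
  have : ⁅a, b⁆ = a * (b * a⁻¹ * b⁻¹) := by
    rw [commutatorElement_def]; group
  rw [this]
  exact H.mul_mem ha h1

theorem rel_focal {G : Type*} [Group G] {p : ℕ} {P : Sylow p G} {R : Subgroup G}
    (hR : ∀ (Q : Sylow p G) (x : G), Adm P Q x → ∀ a ∈ (P : Subgroup G) ⊓ (Q : Subgroup G), ⁅a, x⁻¹⁆ ∈ R)
    {D : Subgroup G} {g : G} (h : Rel P D g) : ∀ a ∈ D, a * (g⁻¹ * a * g)⁻¹ ∈ R := by
  induction h with
  | nil D => intro a _; simp
  | cons D Q x y hadm hle _ ih =>
    intro a ha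
    have h1 : ⁅a, x⁻¹⁆ ∈ R := hR Q x hadm a (hle ha)
    have h2 : x⁻¹ * a * x ∈ rj x D := by
      rw [mem_rj]
      have : x * (x⁻¹ * a * x) * x⁻¹ = a := by group
      rw [this]; exact ha
    have h3 := ih _ h2
    have e : a * ((x * y)⁻¹ * a * (x * y))⁻¹ = ⁅a, x⁻¹⁆ * (x⁻¹ * a * x * (y⁻¹ * (x⁻¹ * a * x) * y)⁻¹) := by
      rw [commutatorElement_def]; group
    rw [e]
    exact R.mul_mem h1 h3

/-- Let P be a Sylow p-subgroup of a finite group G. Call an intersection H = P ∩ Q with a Sylow p-subgroup Q tame when N_P(H) and N_Q(H) are Sylow p-subgroups of N_G(H). Then P ∩ G′ is generated by [P, N_G(P)] together with the commutator subgroups [P ∩ Q, ⟨x⟩] for all tame intersections P ∩ Q and all p-elements x of N_G(P ∩ Q). -/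
theorem result {G : Type*} [Group G] [Finite G] (p : ℕ) [Fact p.Prime] (P : Sylow p G) :
    (P : Subgroup G) ⊓ commutator G =
      ⁅(P : Subgroup G), Subgroup.normalizer ((P : Subgroup G) : Set G)⁆ ⊔
        ⨆ (Q : Sylow p G) (_ : (¬ p ∣ ((P : Subgroup G) ⊓ Subgroup.normalizer (((P : Subgroup G) ⊓ (Q : Subgroup G) : Subgroup G) : Set G)).relIndex (Subgroup.normalizer (((P : Subgroup G) ⊓ (Q : Subgroup G) : Subgroup G) : Set G)) ∧ ¬ p ∣ ((Q : Subgroup G) ⊓ Subgroup.normalizer (((P : Subgroup G) ⊓ (Q : Subgroup G) : Subgroup G) : Set G)).relIndex (Subgroup.normalizer (((P : Subgroup G) ⊓ (Q : Subgroup G) : Subgroup G) : Set G))))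
          (x : G) (_ : x ∈ Subgroup.normalizer (((P : Subgroup G) ⊓ (Q : Subgroup G) : Subgroup G) : Set G) ∧ ∃ k : ℕ, orderOf x = p ^ k),
          ⁅(P : Subgroup G) ⊓ (Q : Subgroup G), Subgroup.zpowers x⁆ := by
  apply le_antisymm
  · rw [inf_comm, Subgroup.commutator_inf_eq_focalSubgroup, Subgroup.focalSubgroup_def, Subgroup.closure_le]
    rintro _ ⟨hgP, x, hxP, u, rfl⟩
    set R := ⁅(P : Subgroup G), Subgroup.normalizer ((P : Subgroup G) : Set G)⁆ ⊔
        ⨆ (Q : Sylow p G) (_ : (¬ p ∣ ((P : Subgroup G) ⊓ Subgroup.normalizer (((P : Subgroup G) ⊓ (Q : Subgroup G) : Subgroup G) : Set G)).relIndex (Subgroup.normalizer (((P : Subgroup G) ⊓ (Q : Subgroup G) : Subgroup G) : Set G)) ∧ ¬ p ∣ ((Q : Subgroup G) ⊓ Subgroup.normalizer (((P : Subgroup G) ⊓ (Q : Subgroup G) : Subgroup G) : Set G)).relIndex (Subgroup.normalizer (((P : Subgroup G) ⊓ (Q : Subgroup G) : Subgroup G) : Set G))))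
          (x : G) (_ : x ∈ Subgroup.normalizer (((P : Subgroup G) ⊓ (Q : Subgroup G) : Subgroup G) : Set G) ∧ ∃ k : ℕ, orderOf x = p ^ k),
          ⁅(P : Subgroup G) ⊓ (Q : Subgroup G), Subgroup.zpowers x⁆ with hRdef
    have hR : ∀ (Q : Sylow p G) (x : G), Adm P Q x → ∀ a ∈ (P : Subgroup G) ⊓ (Q : Subgroup G), ⁅a, x⁻¹⁆ ∈ R := by
      intro Q x hadm a ha
      rcases hadm.2.2.2 with hQ | hk
      · apply (le_sup_left : _ ≤ R)
        have hx := hadm.1
        rw [hQ, inf_idem] at hx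
        exact Subgroup.commutator_mem_commutator (Subgroup.mem_inf.mp ha).1 (Subgroup.inv_mem _ hx)
      · apply (le_sup_right : _ ≤ R)
        have h1 : ⁅a, x⁻¹⁆ ∈ ⁅(P : Subgroup G) ⊓ (Q : Subgroup G), Subgroup.zpowers x⁆ :=
          Subgroup.commutator_mem_commutator ha (Subgroup.inv_mem _ (Subgroup.mem_zpowers x))
        refine Subgroup.mem_iSup_of_mem Q ?_
        refine Subgroup.mem_iSup_of_mem ⟨hadm.2.1, hadm.2.2.1⟩ ?_
        refine Subgroup.mem_iSup_of_mem x ?_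
        exact Subgroup.mem_iSup_of_mem ⟨hadm.1, hk⟩ h1
    have hrel := alperin_rel P u⁻¹
    have hconj : u * x * u⁻¹ ∈ (P : Subgroup G) := by
      have h1 : (u * x * u⁻¹)⁻¹ = x⁻¹ * ⁅x, u⁆ := by rw [commutatorElement_def]; group
      have h2 : (u * x * u⁻¹)⁻¹ ∈ (P : Subgroup G) := by
        rw [h1]; exact Subgroup.mul_mem _ (Subgroup.inv_mem _ hxP) hgP
      simpa using Subgroup.inv_mem _ h2
    have hxD : x ∈ (P : Subgroup G) ⊓ cj u⁻¹ (P : Subgroup G) := by
      refine Subgroup.mem_inf.mpr ⟨hxP, ?_⟩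
      rw [mem_cj, inv_inv]; exact hconj
    have := rel_focal hR hrel x hxD
    have e : x * (u⁻¹⁻¹ * x * u⁻¹)⁻¹ = ⁅x, u⁆ := by rw [commutatorElement_def]; group
    rw [e] at this
    exact this
  · apply sup_le
    · apply le_inf
      · exact commutator_le_of_normalizes le_rfl
      · rw [commutator_def]; exact Subgroup.commutator_mono le_top le_top
    · refine iSup_le fun Q => iSup_le fun _ => iSup_le fun x => iSup_le fun hx => ?_
      apply le_inf
      · refine (commutator_le_of_normalizes ?_).trans inf_le_left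
        rw [Subgroup.zpowers_le]; exact hx.1
      · rw [commutator_def]; exact Subgroup.commutator_mono le_top le_top

end Cfsg.Agent.S4250
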