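import Mathlib
import Cfsg.Statements.S3031
import Cfsg.Agent.Lib.Helper67HSub2

set_option autoImplicit false
open Cfsg

namespace Cfsg.Agent.S3031

/-- Let G be a finite group, p the smallest prime dividing |G| and P a Sylow p-subgroup. Suppose that P is cyclic, or that P has a subgroup D with 1 < |D| < |P| such that every subgroup E of P of order |D|, and also every subgroup E of P of order 4 when |D| = 2, satisfies g E g⁻¹ ∩ N_G(E) ≤ E for all g ∈ G (E is strongly closed in its normalizer with respect to G). Then G has a normal p-complement. -/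
theorem result {G : Type*} [Group G] [Finite G] {p : ℕ} [Fact p.Prime] (hdiv : p ∣ Nat.card G)
    (hmin : ∀ q : ℕ, q.Prime → q ∣ Nat.card G → p ≤ q) (P : Sylow p G)
    (h : IsCyclic ↥(P : Subgroup G) ∨ ∃ D : Subgroup G, D ≤ (P : Subgroup G) ∧ 1 < Nat.card D ∧ Nat.card D < Nat.card (P : Subgroup G) ∧
      ∀ E : Subgroup G, E ≤ (P : Subgroup G) → (Nat.card E = Nat.card D ∨ (Nat.card D = 2 ∧ Nat.card E = 4)) →
        ∀ g : G, E.map (MulAut.conj g).toMonoidHom ⊓ Subgroup.normalizer (E : Set G) ≤ E) :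
    Cfsg.HasNormalPComplement p G := by
  have hp : p.Prime := Fact.out
  rcases h with hcyc | ⟨D, hDP, hD1, hD2, hH⟩
  · have hmf : (Nat.card G).minFac = p := by
      apply le_antisymm
      · exact Nat.minFac_le_of_dvd hp.two_le hdiv
      · apply hmin _ (Nat.minFac_prime _) (Nat.minFac_dvd _)
        intro h1
        rw [h1] at hdiv
        exact hp.one_lt.ne' (Nat.dvd_one.mp hdiv)
    exact ⟨P, _, inferInstance, IsCyclic.isComplement' hmf hcyc⟩
  · obtain ⟨n, hn⟩ := IsPGroup.iff_card.mp P.2
    have hn' : Nat.card (P : Subgroup G) = p ^ n := hn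
    obtain ⟨d, hd⟩ := IsPGroup.iff_card.mp (P.2.to_le hDP)
    have hdn : d < n := by
      rw [hd, hn'] at hD2
      exact (Nat.pow_lt_pow_iff_right hp.one_lt).mp hD2
    have hd1 : 1 ≤ d := by
      rcases Nat.eq_zero_or_pos d with rfl | h
      · rw [hd] at hD1; simp at hD1
      · exact h
    obtain ⟨m, rfl⟩ : ∃ m, n = m + 1 := ⟨n - 1, by omega⟩
    refine Cfsg.Agent.Lib.Helper67HSub.hasNPC_of_isH hmin P m d hn' hd1 (by omega) ?_
    intro E hEP hE
    apply hH E hEP
    rw [hd]
    exact hE

end Cfsg.Agent.S3031
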