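import Mathlib
import Cfsg.Statements.S3868
import Cfsg.Agent.Lib.Helper68Irr2
import Cfsg.Agent.Lib.Helper68Cover

set_option autoImplicit false
open Cfsg

namespace Cfsg.Agent.S3868

open Subgroup Cfsg.Agent.Lib.Helper68Irr Cfsg.Agent.Lib.Helper68Irr2 Cfsg.Agent.Lib.Helper68Cover

/-- Structure of the non-simple minimal non-p-closed groups. Call a finite group p-closed when its Sylow p-subgroups are normal, and minimal non-p-closed when it is not p-closed but every proper subgroup and every proper quotient is. If such a group G is not simple, then there is a prime q ≠ p such that G has order p · q^e, where e is the multiplicative order of q modulo p, and G has a normal subgroup A of order q^e that is elementary abelian and is a minimal normal subgroup of G (so G is the semidirect product of A by a group of order p acting irreducibly). -/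
theorem result {G : Type*} [Group G] [Finite G] {p : ℕ} [Fact p.Prime]
    (hnc : ¬ Cfsg.IsPClosed p G) (hsub : ∀ H : Subgroup G, H ≠ ⊤ → Cfsg.IsPClosed p ↥H)
    (hquo : ∀ (N : Subgroup G) [N.Normal], N ≠ ⊥ → Cfsg.IsPClosed p (G ⧸ N)) (hns : ¬ IsSimpleGroup G) :
    ∃ q : ℕ, q.Prime ∧ q ≠ p ∧ Nat.card G = p * q ^ orderOf (q : ZMod p) ∧
      ∃ A : Subgroup G, A.Normal ∧ Nat.card ↥A = q ^ orderOf (q : ZMod p) ∧ Cfsg.IsElementaryAbelian q A ∧
        ∀ B : Subgroup G, B.Normal → B ≤ A → B = ⊥ ∨ B = A := by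
  have hp : p.Prime := Fact.out
  obtain ⟨P, hPn⟩ : ∃ P : Sylow p G, ¬ (P : Subgroup G).Normal := by
    unfold IsPClosed at hnc
    push Not at hnc
    exact hnc
  haveI : Nontrivial G := by
    by_contra h
    rw [not_nontrivial_iff_subsingleton] at h
    apply hPn
    have : (P : Subgroup G) = ⊥ := Subsingleton.elim _ _
    rw [this]; infer_instance
  -- quotient: P ⊔ N is normal
  have Lsup : ∀ N : Subgroup G, N.Normal → N ≠ ⊥ → ((P : Subgroup G) ⊔ N).Normal := by
    intro N hN hN1
    have h1 : ((P : Subgroup G).map (QuotientGroup.mk' N)).Normal :=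
      hquo N hN1 (P.mapSurjective (QuotientGroup.mk'_surjective N))
    have h2 : ((P : Subgroup G).map (QuotientGroup.mk' N)).comap (QuotientGroup.mk' N) =
        (P : Subgroup G) ⊔ N := by
      rw [comap_map_eq, QuotientGroup.ker_mk']
    rw [← h2]
    exact h1.comap _
  have LQ : ∀ R : Subgroup G, R.Normal → IsPGroup p R → R = ⊥ := by
    intro R hR hRp
    by_contra hR1
    apply hPn
    have h1 := Lsup R hR hR1
    have h2 : (P : Subgroup G) ⊔ R = P := P.3 (P.2.to_sup_of_normal_right hRp) le_sup_left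
    rwa [h2] at h1
  have LF : ∀ K : Subgroup G, K.Normal → K ≠ ⊤ → (P : Subgroup G) ≤ K → False := by
    intro K hK hKt hPK
    apply hPn
    have h1 : ((P : Subgroup G).subgroupOf K).Normal := hsub K hKt (P.subtype hPK)
    have h2 : normalizer ((P : Subgroup G) : Set G) ⊔ K = ⊤ := Sylow.normalizer_sup_eq_top' P hPK
    have h3 : K ≤ normalizer ((P : Subgroup G) : Set G) := by
      intro k hk
      apply mem_normalizer_of_conj_mem
      intro b hb
      have := h1.conj_mem ⟨b, hPK hb⟩ (mem_subgroupOf.mpr hb) ⟨k, hk⟩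
      exact mem_subgroupOf.mp this
    rw [sup_eq_left.mpr h3] at h2
    exact normalizer_eq_top_iff.mp h2
  have LN : ∀ N : Subgroup G, N.Normal → N ≠ ⊥ → (P : Subgroup G) ⊔ N = ⊤ := by
    intro N hN hN1
    by_contra hne
    exact LF _ (Lsup N hN hN1) hne le_sup_left
  obtain ⟨A, hAn, hA1, hAt, hmin⟩ := exists_minimal_normal_proper hns
  have hpA : ¬ p ∣ Nat.card A := by
    intro hd
    obtain ⟨R⟩ : Nonempty (Sylow p A) := inferInstance
    have hRn : (R : Subgroup A).Normal := hsub A hAt R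
    have h2 := Sylow.normalizer_sup_eq_top R
    have h3 : A ≤ normalizer (((R : Subgroup A).map A.subtype : Subgroup G) : Set G) := by
      intro k hk
      apply mem_normalizer_of_conj_mem
      rintro _ ⟨b, hb, rfl⟩
      exact ⟨_, hRn.conj_mem b hb ⟨k, hk⟩, rfl⟩
    rw [sup_eq_left.mpr h3] at h2
    have h4 := LQ _ (normalizer_eq_top_iff.mp h2) (R.2.map _)
    have h5 : (R : Subgroup A) = ⊥ := (map_eq_bot_iff_of_injective _ A.subtype_injective).mp h4
    exact R.ne_bot_of_dvd_card hd h5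
  have hPA : (P : Subgroup G) ⊔ A = ⊤ := LN A hAn hA1
  have hD : (P : Subgroup G) ⊓ centralizer (A : Set G) = ⊥ := by
    apply LQ _ _ (P.2.to_le inf_le_left)
    rw [← normalizer_eq_top_iff, eq_top_iff, ← hPA, sup_le_iff]
    constructor
    · intro u hu
      apply mem_normalizer_of_conj_mem
      intro d hd
      have hcn : (centralizer (A : Set G)).Normal := inferInstance
      exact mem_inf.mpr ⟨mul_mem (mul_mem hu (mem_inf.mp hd).1) (inv_mem hu),
        hcn.conj_mem d (mem_inf.mp hd).2 u⟩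
    · intro a ha
      apply mem_normalizer_of_conj_mem
      intro d hd
      have h1 := (mem_centralizer_iff.mp (mem_inf.mp hd).2) a ha
      have h2 : a * d * a⁻¹ = d := by rw [h1]; group
      rw [h2]; exact hd
  have hP1 : (P : Subgroup G) ≠ ⊥ := by
    intro h
    apply hPn
    rw [h]; infer_instance
  have hpP : p ∣ Nat.card (P : Subgroup G) := by
    obtain ⟨n, hn⟩ := IsPGroup.iff_card.mp P.2
    rw [hn]
    apply dvd_pow_self
    rintro rfl
    rw [pow_zero] at hn
    exact hP1 (card_eq_one.mp hn)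
  obtain ⟨x', hxo'⟩ := exists_prime_orderOf_dvd_card' p hpP
  obtain ⟨x, hxP⟩ := x'
  have hxo : orderOf x = p := by rw [← hxo', Subgroup.orderOf_mk]
  have hx : x ^ p = 1 := hxo ▸ pow_orderOf_eq_one x
  have hx1 : x ≠ 1 := by
    rintro rfl
    rw [orderOf_one] at hxo
    exact hp.one_lt.ne hxo
  have hxA : ∃ a ∈ A, x * a * x⁻¹ ≠ a := by
    by_contra hcon
    push Not at hcon
    apply hx1
    have : x ∈ (P : Subgroup G) ⊓ centralizer (A : Set G) := by
      refine mem_inf.mpr ⟨hxP, mem_centralizer_iff.mpr fun a ha => ?_⟩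
      exact (mul_inv_eq_iff_eq_mul.mp (hcon a ha)).symm
    rw [hD, mem_bot] at this
    exact this
  have hcent : ∀ H : Subgroup G, H ≠ ⊤ → x ∈ H → ∀ a ∈ A, a ∈ H → x * a * x⁻¹ = a := by
    intro H hH hxH a ha haH
    have hZp : IsPGroup p (zpowers (⟨x, hxH⟩ : H)) :=
      isPGroup_zpowers (k := 1) (by rw [Subgroup.orderOf_mk, hxo, pow_one])
    obtain ⟨S, hS⟩ := hZp.exists_le_sylow
    have hSn : (S : Subgroup H).Normal := hsub H hH S
    have hxS : (⟨x, hxH⟩ : H) ∈ (S : Subgroup H) := hS (mem_zpowers _)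
    have h1 : (⟨a, haH⟩ : H) * (⟨x, hxH⟩ : H)⁻¹ * (⟨a, haH⟩ : H)⁻¹ ∈ (S : Subgroup H) :=
      hSn.conj_mem _ (inv_mem hxS) _
    have h2 := mul_mem hxS h1
    obtain ⟨k, hk⟩ := S.2 ⟨_, h2⟩
    have hk' : (x * (a * x⁻¹ * a⁻¹)) ^ p ^ k = 1 := congrArg (fun z : S => ((z : H) : G)) hk
    have h3 : x * (a * x⁻¹ * a⁻¹) = x * a * x⁻¹ * a⁻¹ := by group
    rw [h3] at hk'
    have hcA : x * a * x⁻¹ * a⁻¹ ∈ A := mul_mem (hAn.conj_mem a ha x) (inv_mem ha)
    exact mul_inv_eq_one.mp (eq_one_of_pow_of_not_dvd hp A hpA hcA hk')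
  have htop : A ⊔ zpowers x = ⊤ := by
    by_contra hne
    obtain ⟨a, ha, hne'⟩ := hxA
    exact hne' (hcent _ hne (le_sup_right (a := A) (mem_zpowers x)) a ha
      (le_sup_left (b := zpowers x) ha))
  obtain ⟨q, hq, hqp, hG, hcA, hab, hexp⟩ :=
    structure_of_minimal hp A hpA hmin x hx htop hxA hcent
  exact ⟨q, hq, hqp, hG, A, hAn, hcA, ⟨⟨⟨fun a b => Subtype.ext (hab a a.2 b b.2)⟩⟩, hexp⟩, hmin⟩

end Cfsg.Agent.S3868
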