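import Cfsg.Statements.S4491
import Cfsg.Agent.Lib.Helper84Contrib2

set_option autoImplicit false
open Cfsg

namespace Cfsg.Agent.S4491

/-- Let B be a p-block of defect d of the finite group G (relative to a maximal ideal M of the algebraic integers containing p), and let p^a be the p-part of the order of G. Then the exact power of p dividing the sum of the squares of the degrees of the irreducible characters in B is p^(2a − d). -/
theorem result {G : Type*} [Group G] [Finite G] (p : ℕ) [Fact p.Prime] (M : Ideal Cfsg.AlgInt) (hM : Cfsg.IsPModular p M) (B : Set (Cfsg.IrrCharacter G)) (hB : Cfsg.IsPBlock M B) : (∑ᶠ χ ∈ B, Cfsg.charDegree (χ : G → ℂ) ^ 2).factorization p = 2 * (Nat.card G).factorization p - Cfsg.blockDefect p B := by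
  classical
  have := Fintype.ofFinite G
  have hMp := hM.2.1.isPrime
  have hp : p.Prime := Fact.out
  have hpz : (p : ℤ) ≠ 0 := by exact_mod_cast hp.ne_zero
  obtain ⟨s, t, hs, ht, hst⟩ := Cfsg.Agent.Lib.Helper84Contrib2.sum_sq_deg hM hB
  rw [Cfsg.Agent.Lib.Helper81Block.finsum_mem_irr]
  set Sn : ℕ := ∑ φ : IrrCharacter G, (if φ ∈ B then charDegree (φ : G → ℂ) ^ 2 else 0) with hSn
  have hcast : ∑ φ : IrrCharacter G, (if φ ∈ B then (charDegree (φ : G → ℂ) : ℤ) ^ 2 else 0)
      = (Sn : ℤ) := by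
    rw [hSn]
    push_cast
    rfl
  rw [hcast] at hst
  set e := (Nat.card G).factorization p + Cfsg.Agent.Lib.Helper81Defect.minVal p B with he
  have hcop : IsCoprime ((p : ℤ) ^ e) t := by
    apply IsCoprime.pow_left
    exact (Nat.prime_iff_prime_int.1 hp).coprime_iff_not_dvd.2 ht
  have hdvd : (p : ℤ) ^ e ∣ (Sn : ℤ) := hcop.dvd_of_dvd_mul_left ⟨s, hst⟩
  have hdvd' : p ^ e ∣ Sn := by
    have : ((p ^ e : ℕ) : ℤ) ∣ (Sn : ℤ) := by push_cast; exact hdvd
    exact Int.natCast_dvd_natCast.1 this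
  obtain ⟨m, hm⟩ := hdvd'
  have hpm : ¬ p ∣ m := by
    intro hd
    apply hs
    have h1 : (p : ℤ) ^ e * (t * (m : ℤ)) = (p : ℤ) ^ e * s := by
      rw [← hst, hm]
      push_cast
      ring
    have h2 := mul_left_cancel₀ (pow_ne_zero _ hpz) h1
    rw [← h2]
    exact Dvd.dvd.mul_left (Int.natCast_dvd_natCast.2 hd) t
  have hm0 : m ≠ 0 := by
    rintro rfl
    exact hpm (dvd_zero p)
  rw [hm, Nat.factorization_mul (pow_ne_zero _ hp.ne_zero) hm0, Finsupp.add_apply,
    hp.factorization_pow, Finsupp.single_eq_same, Nat.factorization_eq_zero_of_not_dvd hpm,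
    add_zero, he, Cfsg.Agent.Lib.Helper81Defect.blockDefect_def]
  have := Cfsg.Agent.Lib.Helper81Defect.minVal_le_card (p := p)
    (Cfsg.Agent.Lib.Helper81Block.isPBlock_nonempty hB)
  omega

end Cfsg.Agent.S4491
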