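import Cfsg.Statements.S4669
import Cfsg.Agent.Lib.Helper21DC

set_option autoImplicit false
open Cfsg

namespace Cfsg.Agent.S4669

/-- Fix a prime p and a maximal ideal M of the algebraic integers containing p. If the p-block B of the finite group G has a defect group P contained in the centre of G, then B has p-regular rank one (a single irreducible Brauer character). -/
theorem result {G : Type*} [Group G] [Fintype G] (p : ℕ) [Fact p.Prime] (M : Ideal Cfsg.AlgInt) (hM : Cfsg.IsPModular p M) (B : Set (Cfsg.IrrCharacter G)) (hB : Cfsg.IsPBlock M B) (P : Subgroup G) (hD : Cfsg.IsDefectGroup p M B P) (hPZ : P ≤ Subgroup.center G) : Cfsg.blockRank p B = 1 := by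
  classical
  have hP : IsPGroup p P := IsPGroup.of_card (S0908.result p M hM B hB P hD)
  have hG : P ⊔ Subgroup.centralizer (P : Set G) = ⊤ := by
    have : Subgroup.centralizer (P : Set G) = ⊤ := by
      rw [Subgroup.centralizer_eq_top_iff_subset]
      exact hPZ
    rw [this, sup_top_eq]
  have hN := Lib.Helper21DC.normal_of_sup hG
  obtain ⟨χ, hχ, hχD⟩ := Lib.Helper21Cover2.exists_mem_ker hM hB hP
  have hχ1 := Lib.Helper81Base.irr_one_ne_zero χ
  have h11 : ¬ p ∣ orderOf (1 : G) := by
    rw [orderOf_one]
    exact hM.1.one_lt.ne' ∘ Nat.dvd_one.1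
  have hspan : Submodule.span ℂ ((fun χ : IrrCharacter G => pRegularPart p (χ : G → ℂ)) '' B)
      = Submodule.span ℂ {pRegularPart p (χ : G → ℂ)} := by
    apply le_antisymm
    · rw [Submodule.span_le]
      rintro _ ⟨θ, hθ, rfl⟩
      rw [SetLike.mem_coe, Submodule.mem_span_singleton]
      refine ⟨(θ : G → ℂ) 1 / (χ : G → ℂ) 1, ?_⟩
      funext x
      rw [Pi.smul_apply, smul_eq_mul]
      unfold pRegularPart IsPRegular
      beta_reduce
      by_cases hx : p ∣ orderOf x
      · rw [if_neg (not_not.2 hx), if_neg (not_not.2 hx), mul_zero]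
      · rw [if_pos hx, if_pos hx]
        have := Lib.Helper21DC.regular_prop hM hB hP hG hD hχ hχD hθ hx
        field_simp
        rw [← this, mul_comm]
    · apply Submodule.span_mono
      rintro _ rfl
      exact ⟨χ, hχ, rfl⟩
  unfold blockRank
  rw [hspan]
  apply finrank_span_singleton
  intro h0
  have := congrFun h0 1
  unfold pRegularPart IsPRegular at this
  rw [if_pos h11] at this
  exact hχ1 this

end Cfsg.Agent.S4669
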