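import Cfsg.Statements.S4716
import Cfsg.Agent.Lib.Helper84Subsec2

set_option autoImplicit false
open Cfsg

namespace Cfsg.Agent.S4716

open Cfsg.Agent.Lib.Helper81BB Cfsg.Agent.Lib.Helper84Subsec Cfsg.Agent.Lib.Helper84Subsec2


/-- Let p be a prime, M a maximal ideal of the algebraic integers containing p, and B a p-block of defect d of the finite group G all of whose irreducible characters have height zero. Let y be a p-element, C = C_G(y), and b a block of C inducing B and having the same defect d (a major subsection). Then k(B)^2 ≤ p^(2d)·l(b), where k(B) is the number of irreducible characters in B and l(b) the p-regular rank of b (its number of irreducible Brauer characters); in particular (y = 1) k(B)^2 ≤ p^(2d)·l(B). -/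
theorem result {G : Type*} [Group G] [Finite G] (p : ℕ) [Fact p.Prime] (M : Ideal Cfsg.AlgInt) (hM : Cfsg.IsPModular p M) (B : Set (Cfsg.IrrCharacter G)) (hB : Cfsg.IsPBlock M B) (d : ℕ) (hd : Cfsg.blockDefect p B = d) (hh : ∀ χ ∈ B, Cfsg.blockHeight p B (χ : G → ℂ) = 0) (y : G) (hy : ∃ k : ℕ, orderOf y = p ^ k) (b : Set (Cfsg.IrrCharacter ↥(Subgroup.centralizer ({y} : Set G)))) (hind : Cfsg.IsInducedBlock M (Subgroup.centralizer ({y} : Set G)) b B) (hbd : Cfsg.blockDefect p b = d) : Nat.card B ^ 2 ≤ p ^ (2 * d) * Cfsg.blockRank p b := by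
  classical
  have hp : p.Prime := Fact.out
  have hMp := hM.2.1.isPrime
  let _ : Fintype G := Fintype.ofFinite G
  let _ : Fintype (Subgroup.centralizer ({y} : Set G)) := Fintype.ofFinite _
  obtain ⟨k, hk⟩ := hy
  set z : Subgroup.centralizer ({y} : Set G) :=
    ⟨y, Subgroup.mem_centralizer_singleton_iff.mpr rfl⟩ with hz
  have hcen : ∀ h : Subgroup.centralizer ({y} : Set G), h * z = z * h := by
    intro h
    have := h.2
    rw [Subgroup.mem_centralizer_singleton_iff] at this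
    exact Subtype.ext this
  have hzk : z ^ (p ^ k) = 1 := by
    apply Subtype.ext
    rw [Subgroup.coe_pow, Subgroup.coe_one, ← hk]
    exact pow_orderOf_eq_one y
  set T := (Finset.range (p ^ k)).filter (fun t => t.Coprime (p ^ k)) with hT
  have hTcard : T.card = (p ^ k).totient := by
    rw [hT, Nat.totient]
    congr 1
    apply Finset.filter_congr
    intro t _
    exact Nat.coprime_comm
  have hTpos : (0 : ℝ) < (p ^ k).totient := by
    have : 0 < (p ^ k).totient := Nat.totient_pos.2 (pow_pos hp.pos k)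
    exact_mod_cast this
  have h1 : ∀ t ∈ T, ∑ χ : IrrCharacter G, (if χ ∈ B then ∑ ψ : IrrCharacter G, (if ψ ∈ B then
      ‖(p : ℂ) ^ blockDefect p b * mm p b ((z : G) ^ t) (χ : G → ℂ) (ψ : G → ℂ)‖ ^ 2 else 0) else 0)
      = (p : ℝ) ^ (2 * d) * (blockRank p b : ℝ) := by
    intro t ht
    have htc : t.Coprime (orderOf y) := by
      rw [hk]; exact (Finset.mem_filter.1 ht).2
    have := sum_sum_norm hM (y ^ t) ⟨k, by rw [← hk]; exact Nat.Coprime.orderOf_pow htc.symm⟩
      (Subgroup.centralizer ({y} : Set G)) (centralizer_pow_eq htc) hind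
    rw [← this, Finset.mul_sum]
    apply Finset.sum_congr rfl
    intro χ _
    split_ifs
    · rw [Finset.mul_sum]
      apply Finset.sum_congr rfl
      intro ψ _
      split_ifs
      · rw [norm_mul, mul_pow, norm_pow, Complex.norm_natCast, hbd, ← pow_mul, mul_comm d 2]
      · simp
    · simp
  have h2 : ∀ χ : IrrCharacter G, χ ∈ B → ∀ ψ : IrrCharacter G, ψ ∈ B →
      ((p ^ k).totient : ℝ) ≤ ∑ t ∈ T,
      ‖(p : ℂ) ^ blockDefect p b * mm p b ((z : G) ^ t) (χ : G → ℂ) (ψ : G → ℂ)‖ ^ 2 :=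
    fun χ hχ ψ hψ => totient_le_sum_mm hM hind hχ (hh χ hχ) hψ (hh ψ hψ) hcen hzk
  have hcard : Nat.card B = (Finset.univ.filter (fun χ : IrrCharacter G => χ ∈ B)).card := by
    rw [Nat.card_eq_fintype_card, Fintype.card_subtype]
  set Bf := Finset.univ.filter (fun χ : IrrCharacter G => χ ∈ B) with hBf
  have h3 : ((p ^ k).totient : ℝ) * ((p : ℝ) ^ (2 * d) * (blockRank p b : ℝ))
      = ∑ χ ∈ Bf, ∑ ψ ∈ Bf, ∑ t ∈ T,
        ‖(p : ℂ) ^ blockDefect p b * mm p b ((z : G) ^ t) (χ : G → ℂ) (ψ : G → ℂ)‖ ^ 2 := by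
    rw [← hTcard, ← nsmul_eq_mul, ← Finset.sum_const, Finset.sum_congr rfl (fun t ht => (h1 t ht).symm),
      Finset.sum_comm, hBf, Finset.sum_filter]
    apply Finset.sum_congr rfl
    intro χ _
    split_ifs
    · rw [Finset.sum_comm, Finset.sum_filter]
      apply Finset.sum_congr rfl
      intro ψ _
      split_ifs
      · rfl
      · simp
    · simp
  have h4 : ∑ χ ∈ Bf, ∑ ψ ∈ Bf, ((p ^ k).totient : ℝ) ≤ ∑ χ ∈ Bf, ∑ ψ ∈ Bf, ∑ t ∈ T,
        ‖(p : ℂ) ^ blockDefect p b * mm p b ((z : G) ^ t) (χ : G → ℂ) (ψ : G → ℂ)‖ ^ 2 := by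
    apply Finset.sum_le_sum
    intro χ hχ
    apply Finset.sum_le_sum
    intro ψ hψ
    exact h2 χ (Finset.mem_filter.1 hχ).2 ψ (Finset.mem_filter.1 hψ).2
  rw [← h3] at h4
  simp only [Finset.sum_const, nsmul_eq_mul] at h4
  rw [← hcard] at h4
  have h5 : ((Nat.card B : ℝ)) ^ 2 ≤ (p : ℝ) ^ (2 * d) * (blockRank p b : ℝ) := by
    have : ((p ^ k).totient : ℝ) * (Nat.card B : ℝ) ^ 2
        ≤ ((p ^ k).totient : ℝ) * ((p : ℝ) ^ (2 * d) * (blockRank p b : ℝ)) := by
      calc ((p ^ k).totient : ℝ) * (Nat.card B : ℝ) ^ 2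
          = (Nat.card B : ℝ) * ((Nat.card B : ℝ) * ((p ^ k).totient : ℝ)) := by ring
        _ ≤ _ := h4
    exact le_of_mul_le_mul_left this hTpos
  exact_mod_cast h5

end Cfsg.Agent.S4716
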