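import Cfsg.Statements.S1383
import Cfsg.Agent.Lib.Helper14BG16
import Cfsg.Agent.Lib.Helper14BG157

set_option autoImplicit false
open Cfsg

namespace Cfsg.Agent.S1383

open Subgroup
open Cfsg.Agent.Lib Cfsg.Agent.Lib.Helper30Trans Cfsg.Agent.Lib.Helper24BG
open Cfsg.Agent.Lib.Helper51BG16 Cfsg.Agent.Lib.Helper14BG16


/-- Let G be a minimal simple group of odd order and M a maximal subgroup with standard factorisation M = K U M_σ. Then M is of Type V if and only if K ≠ 1, U = 1 and M_F = M_σ. -/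
theorem result {G : Type*} [Group G] [Finite G] (hG : Cfsg.IsMinSimpleOddOrder G)
    (M : Subgroup G) (hM : IsCoatom M) (K U : Subgroup G) (hKU : Cfsg.IsSigmaDecomposition M K U) :
    Cfsg.IsOfTypeV M ↔ (K ≠ ⊥ ∧ U = ⊥ ∧ Cfsg.fittingHallOf M = Cfsg.sigmaCore M) := by
  constructor
  · rintro ⟨W₁, U', W₂, hP, rfl, -⟩
    have hK1 : K ≠ ⊥ := K_ne_bot_of_typeP hG hM hKU.hall hP
    have hder := (Cfsg.Agent.S1365.result hG M hM K U hKU hK1).1
    have hc := hP.U_compl
    have h1 : ⁅M, M⁆ ≤ fittingHallOf M := by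
      intro m hm
      obtain ⟨a, ha, b, hb, rfl⟩ := hc.2.2.2 m hm
      rw [mem_bot] at hb
      rw [hb, mul_one]
      exact ha
    have h2 : fittingHallOf M ≤ sigmaCore M := fittingHallOf_le_sigmaCore hG hM
    have h3 : sigmaCore M ≤ ⁅M, M⁆ := Helper2BGb.sigmaCore_le_derived hG hM
    have hH : fittingHallOf M = sigmaCore M := le_antisymm h2 (h3.trans h1)
    refine ⟨hK1, ?_, hH⟩
    have h4 : U ≤ sigmaCore M := by
      calc U ≤ U ⊔ sigmaCore M := le_sup_left
        _ = ⁅M, M⁆ := hder.symm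
        _ ≤ fittingHallOf M := h1
        _ ≤ sigmaCore M := h2
    rw [eq_bot_iff, ← hKU.compl.2.2.1]
    exact le_inf le_rfl (h4.trans le_sup_right)
  · rintro ⟨hK1, rfl, hH⟩
    have hder : ⁅M, M⁆ = sigmaCore M := by
      rw [(Cfsg.Agent.S1365.result hG M hM K ⊥ hKU hK1).1, bot_sup_eq]
    have hc : IsComplIn (fittingHallOf M) ⊥ ⁅M, M⁆ := by
      rw [hder, hH]
      exact ⟨le_rfl, bot_le, inf_bot_eq _, fun m hm => ⟨m, hm, 1, one_mem _, (mul_one m).symm⟩⟩
    have hKbot : K ≤ normalizer (((⊥ : Subgroup G) : Subgroup G) : Set G) := by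
      intro k _
      rw [mem_normalizer_iff]
      intro y
      simp [mem_bot]
    have hP := isTypePWith_of hG hM hKU hK1 (U' := ⊥) inferInstance hKbot hc
    refine ⟨K, ⊥, _, hP, rfl, ?_⟩
    by_cases hTI : IsTISubset (fittingHallOf M : Set G)
    · exact Or.inl hTI
    · exact Or.inr (Helper14BG157.typeV_alt hG hM hKU hK1 hH hTI)

end Cfsg.Agent.S1383
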