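import Cfsg.Statements.S1389
import Cfsg.Agent.Lib.Helper51BG16
import Cfsg.Agent.Lib.Helper31BGS
import Cfsg.Agent.S1351
import Cfsg.Agent.S1352
import Cfsg.Agent.S1382
import Cfsg.Agent.S1437

set_option autoImplicit false
open Cfsg

namespace Cfsg.Agent.S1389

open Subgroup Cfsg.Agent.Lib.Helper24BG in
/-- Hall subgroups of `M` inside `M_σ`. -/
theorem hall_aux {G : Type*} [Group G] [Finite G] (hG : Cfsg.IsMinSimpleOddOrder G)
    {M Y : Subgroup G} (hM : IsCoatom M) (hY : Y ≤ sigmaCore M)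
    (hH : (Nat.card Y).Coprime (Y.relIndex M)) :
    (∀ (p : ℕ), p.Prime → ∀ (P : Sylow p ↥Y), (P : Subgroup ↥Y) ≠ ⊥ →
        Subgroup.normalizer ((((P : Subgroup ↥Y).map Y.subtype : Subgroup G)) : Set G) ≤ M) ∧
      (Nat.card Y).Coprime Y.index := by
  obtain ⟨⟨hs1, hs2, hs3⟩, ⟨-, hs4⟩, -⟩ := Cfsg.Agent.S1350.result hG M hM
  have hYM : Y ≤ M := hY.trans hs1
  have hσ : ∀ p : ℕ, p.Prime → p ∣ Nat.card Y → p ∈ sigma M := fun p hp hd =>
    hs2 p hp (hd.trans (Subgroup.card_dvd_of_le hY))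
  constructor
  · intro p hp P hP1
    haveI := Fact.mk hp
    have hPs := isSyl_of_sylow P
    have hP1' : (P : Subgroup ↥Y).map Y.subtype ≠ ⊥ := by
      intro h
      exact hP1 ((Subgroup.map_eq_bot_iff_of_injective _ Y.subtype_injective).mp h)
    have hd : p ∣ Nat.card Y := dvd_card_of_pgroup hPs.2.1 hP1' hPs.1
    have hnd : ¬ p ∣ Y.relIndex M := fun h =>
      hp.one_lt.ne' (Nat.eq_one_of_dvd_coprimes hH hd h)
    have hPM := Cfsg.Agent.Lib.Helper31BGS.isSyl_of_not_dvd_relIndex hPs hYM hnd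
    exact Cfsg.Agent.Lib.Helper2BGb.sigma_norm (hσ p hp hd) hPM
  · apply Nat.coprime_of_dvd
    intro p hp hd1 hd2
    have h1 : Y.index = Y.relIndex M * M.index := (Subgroup.relIndex_mul_index hYM).symm
    rw [h1] at hd2
    rcases (Nat.Prime.dvd_mul hp).mp hd2 with h | h
    · exact hp.one_lt.ne' (Nat.eq_one_of_dvd_coprimes hH hd1 h)
    · apply hs4 p hp (hσ p hp hd1)
      rw [← Subgroup.relIndex_mul_index hs1]
      exact Dvd.dvd.mul_left h _

/-- Let G be a minimal simple group of odd order and M a maximal subgroup, and let M_s be M' if M is of Type III or IV and M_F otherwise. Then N_G(P) ≤ M for every nontrivial Sylow subgroup P of M_s, and both M_F and M_s have order coprime to their index in G. -/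
theorem result {G : Type*} [Group G] [Finite G] (hG : Cfsg.IsMinSimpleOddOrder G)
    (M : Subgroup G) (hM : IsCoatom M) :
    (∀ (p : ℕ), p.Prime → ∀ (P : Sylow p ↥(Cfsg.typeCore M)), (P : Subgroup ↥(Cfsg.typeCore M)) ≠ ⊥ →
        Subgroup.normalizer ((((P : Subgroup ↥(Cfsg.typeCore M)).map (Cfsg.typeCore M).subtype : Subgroup G)) : Set G) ≤ M) ∧
      (Nat.card (Cfsg.fittingHallOf M)).Coprime (Cfsg.fittingHallOf M).index ∧
      (Nat.card (Cfsg.typeCore M)).Coprime (Cfsg.typeCore M).index := by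
  have hF := hall_aux hG hM (Cfsg.Agent.Lib.Helper51BG16.fittingHallOf_le_sigmaCore hG hM)
    (Cfsg.Agent.Lib.Helper51BG16.fittingHallOf_hall M)
  by_cases hT : IsOfTypeIII M ∨ IsOfTypeIV M
  · obtain ⟨⟨K, hK⟩, hKc⟩ := Cfsg.Agent.S1351.result hG M hM
    obtain ⟨⟨U, hKU⟩, -⟩ := Cfsg.Agent.S1352.result hG M hM K (hKc K hK) hK
    obtain ⟨-, -, hne⟩ := (Cfsg.Agent.S1382.result hG M hM K U hKU).mp hT
    obtain ⟨-, hMs, -⟩ := Cfsg.Agent.S1437.result hG M hM K U hKU hne
    have hcore : typeCore M = sigmaCore M := by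
      unfold typeCore
      rw [if_pos hT, hMs]
    obtain ⟨⟨hs1, hs2, hs3⟩, -, -⟩ := Cfsg.Agent.S1350.result hG M hM
    have hS := hall_aux hG hM (le_refl (sigmaCore M)) (by
      apply Nat.coprime_of_dvd
      intro p hp hd1 hd2
      exact hs3 p hp (hs2 p hp hd1) hd2)
    rw [hcore]
    exact ⟨hS.1, hF.2, hS.2⟩
  · have hcore : typeCore M = fittingHallOf M := by
      unfold typeCore
      rw [if_neg hT]
    rw [hcore]
    exact ⟨hF.1, hF.2, hF.2⟩

end Cfsg.Agent.S1389
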