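import Mathlib
import Cfsg.Statements.S1358
import Cfsg.Agent.S1420
import Cfsg.Agent.Lib.Helper3RankTower

set_option autoImplicit false
open Cfsg

namespace Cfsg.Agent.S1358

open Subgroup
open Cfsg.Agent.Lib.Helper24BG
open Cfsg.Agent.Lib.Helper24BG2
open Cfsg.Agent.Lib.Helper27BGa
open Cfsg.Agent.Lib.Helper31BGS

/-- primes dividing the order of a subgroup of `M` meeting `M_σ` trivially are not in `σ(M)` -/
theorem not_mem_sigma {G : Type*} [Group G] [Finite G] (hG : IsMinSimpleOddOrder G)
    {M : Subgroup G} (hM : IsCoatom M) {U : Subgroup G} (hUM : U ≤ M) (hU : U ⊓ sigmaCore M = ⊥)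
    {p : ℕ} (hp : p.Prime) (hd : p ∣ Nat.card U) : p ∉ sigma M := by
  intro hs
  haveI : Fact p.Prime := ⟨hp⟩
  obtain ⟨x, hx⟩ := exists_prime_orderOf_dvd_card' p hd
  have hc : Nat.card (zpowers (x : G)) = p := by
    rw [Nat.card_zpowers, Subgroup.orderOf_coe, hx]
  have h1 : zpowers (x : G) ≤ sigmaCore M := by
    apply le_sigmaCore hG hM (by rw [zpowers_le]; exact hUM x.2)
    intro q hq hqd
    rw [hc] at hqd
    rwa [(Nat.prime_dvd_prime_iff_eq hq hp).mp hqd]
  have h2 : (x : G) ∈ U ⊓ sigmaCore M := ⟨x.2, h1 (mem_zpowers _)⟩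
  rw [hU, mem_bot] at h2
  have h3 : x = 1 := Subtype.ext h2
  rw [h3, orderOf_one] at hx
  exact hp.one_lt.ne hx

/-- Let G be a minimal simple group of odd order and M a maximal subgroup with standard factorisation M = K U M_σ. Then for every prime p, every Sylow p-subgroup of U is abelian and has no elementary abelian subgroup of order p ^ 3. -/
theorem result {G : Type*} [Group G] [Finite G] (hG : Cfsg.IsMinSimpleOddOrder G)
    (M : Subgroup G) (hM : IsCoatom M) (K U : Subgroup G) (hKU : Cfsg.IsSigmaDecomposition M K U) :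
    ∀ (p : ℕ), p.Prime → ∀ P : Sylow p U, IsMulCommutative (P : Subgroup U) ∧ Cfsg.PRankLE p 2 (P : Subgroup U) := by
  intro p hp P
  haveI : Fact p.Prime := ⟨hp⟩
  have hUM : U ≤ M := hKU.compl.1
  have hU : U ⊓ sigmaCore M = ⊥ := by
    rw [eq_bot_iff, ← hKU.compl.2.2.1]
    exact inf_le_inf_left _ le_sup_right
  by_cases hd : p ∣ Nat.card U
  · have hs : p ∉ sigma M := not_mem_sigma hG hM hUM hU hp hd
    constructor
    · have h1 : IsMulCommutative ((P : Subgroup U).map U.subtype) :=
        Cfsg.Agent.S1420.comm_of_pgroup hG hM hs (P.2.map _) ((map_subtype_le _).trans hUM)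
      refine ⟨⟨fun a b => ?_⟩⟩
      have h2 := h1.is_comm.comm ⟨(a : U), ⟨a.1, a.2, rfl⟩⟩ ⟨(b : U), ⟨b.1, b.2, rfl⟩⟩
      apply Subtype.ext
      apply Subtype.ext
      exact congrArg (fun t : ((P : Subgroup U).map U.subtype) => (t : G)) h2
    · have h2 : PRankLE p 2 M := by
        by_contra h2
        exact hs (alpha_subset_sigma hG hM ⟨hp, h2⟩)
      exact Cfsg.Agent.Lib.Helper3RankTower.rank_of_injective
        ((Subgroup.inclusion hUM).comp (P : Subgroup U).subtype)
        ((Subgroup.inclusion_injective hUM).comp (Subgroup.subtype_injective _)) h2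
  · have h1 : Nat.card (P : Subgroup U) = 1 := by
      obtain ⟨n, hn⟩ := P.2.exists_card_eq
      cases n with
      | zero => simpa using hn
      | succ n =>
        exfalso
        apply hd
        have : p ∣ Nat.card (P : Subgroup U) := by rw [hn]; exact dvd_pow_self p (Nat.succ_ne_zero n)
        exact this.trans (Subgroup.card_subgroup_dvd_card _)
    haveI : Subsingleton (P : Subgroup U) := (Nat.card_eq_one_iff_unique.mp h1).1
    constructor
    · exact ⟨⟨fun a b => Subsingleton.elim _ _⟩⟩
    · intro A _ _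
      have : Nat.card A = 1 := Nat.card_eq_one_iff_unique.mpr ⟨inferInstance, ⟨1⟩⟩
      rw [this]
      exact Nat.one_le_pow _ _ hp.pos

end Cfsg.Agent.S1358
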