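import Cfsg.Statements.S1390
import Cfsg.Agent.Lib.Helper51BG16b
import Cfsg.Agent.S1351
import Cfsg.Agent.S1352
import Cfsg.Agent.S1357
import Cfsg.Agent.S1358
import Cfsg.Agent.S1361
import Cfsg.Agent.S1362
import Cfsg.Agent.S1365
import Cfsg.Agent.S1381
import Cfsg.Agent.S1382

set_option autoImplicit false
open Cfsg

namespace Cfsg.Agent.S1390

theorem compl_swap {G : Type*} [Group G] {A B M : Subgroup G} (h : IsComplIn A B M) :
    IsComplIn B A M := by
  obtain ⟨h1, h2, h3, h4⟩ := h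
  refine ⟨h2, h1, by rw [inf_comm]; exact h3, ?_⟩
  intro m hm
  obtain ⟨a, ha, b, hb, hab⟩ := h4 m⁻¹ (M.inv_mem hm)
  refine ⟨b⁻¹, B.inv_mem hb, a⁻¹, A.inv_mem ha, ?_⟩
  rw [← mul_inv_rev, ← hab, inv_inv]

theorem compl_sup {G : Type*} [Group G] {A B M : Subgroup G} (h : IsComplIn A B M) :
    B ⊔ A = M := by
  apply le_antisymm (sup_le h.2.1 h.1)
  intro m hm
  obtain ⟨a, ha, b, hb, rfl⟩ := h.2.2.2 m hm
  exact mul_mem (Subgroup.mem_sup_right ha) (Subgroup.mem_sup_left hb)

theorem centralizer_closure_eq {G : Type*} [Group G] (X : Set G) :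
    Subgroup.centralizer ((Subgroup.closure X : Subgroup G) : Set G) = Subgroup.centralizer X := by
  apply le_antisymm (Subgroup.centralizer_le Subgroup.subset_closure)
  rw [Subgroup.le_centralizer_iff, Subgroup.closure_le]
  intro x hx
  rw [SetLike.mem_coe, Subgroup.mem_centralizer_iff]
  intro g hg
  exact ((Subgroup.mem_centralizer_iff.mp hg) x hx).symm

/-- the three conclusions from a standard factorisation `(K, U)` with `M_F = M_σ`. -/
theorem main {G : Type*} [Group G] [Finite G] (hG : Cfsg.IsMinSimpleOddOrder G)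
    (M : Subgroup G) (hM : IsCoatom M) (K U : Subgroup G) (hKU : IsSigmaDecomposition M K U)
    (hH : fittingHallOf M = sigmaCore M) (hT : ¬ (IsOfTypeIII M ∨ IsOfTypeIV M))
    (hA : typeA M = sigmaA M U \ {1}) :
    (∀ (p : ℕ), p.Prime → ∀ P : Sylow p U, IsMulCommutative (P : Subgroup U) ∧ Cfsg.PRankLE p 2 (P : Subgroup U)) ∧
      (∀ X : Set G, X ⊆ (U : Set G) \ {1} → X.Nonempty → Cfsg.fittingHallOf M ⊓ Subgroup.centralizer X ≠ ⊥ →
        Subgroup.centralizer X ≤ M ∧ ∀ L : Subgroup G, IsCoatom L → Subgroup.centralizer X ≤ L → L = M) ∧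
      Cfsg.IsTISubset (Cfsg.typeA M \ Cfsg.typeA1 M) := by
  refine ⟨Cfsg.Agent.S1358.result hG M hM K U hKU, ?_, ?_⟩
  · intro X hXU hXn hXc
    have h1 : Subgroup.closure X ≤ U := by
      rw [Subgroup.closure_le]
      exact fun x hx => (hXU hx).1
    have h2 : Subgroup.closure X ≠ ⊥ := by
      obtain ⟨x, hx⟩ := hXn
      intro h
      have : x ∈ Subgroup.closure X := Subgroup.subset_closure hx
      rw [h, Subgroup.mem_bot] at this
      exact (hXU hx).2 this
    have h3 := Cfsg.Agent.S1361.result hG M hM K U hKU (Subgroup.closure X) h1 h2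
      (by rw [centralizer_closure_eq, ← hH]; exact hXc)
    rw [centralizer_closure_eq] at h3
    exact h3
  · have hcore : typeCore M = sigmaCore M := by
      unfold typeCore
      rw [if_neg hT, hH]
    have hset : typeA M \ typeA1 M = sigmaA M U \ (sigmaCore M : Set G) := by
      rw [hA]
      unfold typeA1
      rw [hcore]
      ext a
      simp only [Set.mem_diff, Set.mem_singleton_iff, SetLike.mem_coe, not_and, not_not]
      constructor
      · rintro ⟨⟨h1, h2⟩, h3⟩
        exact ⟨h1, fun h => h2 (h3 h)⟩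
      · rintro ⟨h1, h2⟩
        refine ⟨⟨h1, ?_⟩, fun h => absurd h h2⟩
        rintro rfl
        exact h2 (Subgroup.one_mem _)
    rw [hset]
    exact Cfsg.Agent.S1362.result hG M hM K U hKU

/-- Let G be a minimal simple group of odd order, M a maximal subgroup and H = M_F; suppose M is of Type I and U is a complement to H in M, or M is of Type II and U is a complement to H in M'. Then every Sylow subgroup of U is abelian with no elementary abelian subgroup of order p ^ 3; for every nonempty set X of non-identity elements of U centralizing a non-identity element of H, C_G(X) ≤ M and M is the unique maximal subgroup containing C_G(X); and A(M) with A₁(M) removed is a TI-subset of G. -/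
theorem result {G : Type*} [Group G] [Finite G] (hG : Cfsg.IsMinSimpleOddOrder G)
    (M : Subgroup G) (hM : IsCoatom M) (U : Subgroup G)
    (hU : (Cfsg.IsOfTypeI M ∧ Cfsg.IsComplIn (Cfsg.fittingHallOf M) U M) ∨ (Cfsg.IsOfTypeII M ∧ Cfsg.IsComplIn (Cfsg.fittingHallOf M) U ⁅M, M⁆)) :
    (∀ (p : ℕ), p.Prime → ∀ P : Sylow p U, IsMulCommutative (P : Subgroup U) ∧ Cfsg.PRankLE p 2 (P : Subgroup U)) ∧
      (∀ X : Set G, X ⊆ (U : Set G) \ {1} → X.Nonempty → Cfsg.fittingHallOf M ⊓ Subgroup.centralizer X ≠ ⊥ →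
        Subgroup.centralizer X ≤ M ∧ ∀ L : Subgroup G, IsCoatom L → Subgroup.centralizer X ≤ L → L = M) ∧
      Cfsg.IsTISubset (Cfsg.typeA M \ Cfsg.typeA1 M) := by
  obtain ⟨⟨K₀, hK₀⟩, hKc⟩ := Cfsg.Agent.S1351.result hG M hM
  obtain ⟨⟨U₀, hKU₀⟩, -⟩ := Cfsg.Agent.S1352.result hG M hM K₀ (hKc K₀ hK₀) hK₀
  rcases hU with ⟨hI, hc⟩ | ⟨hII, hc⟩
  · obtain ⟨hK1, hU1⟩ := Cfsg.Agent.Lib.Helper51BG16.of_typeF hG hM hKU₀ hI.1
    have hH : fittingHallOf M = sigmaCore M := by
      by_contra hne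
      exact hU1 (Cfsg.Agent.S1357.result hG M hM K₀ U₀ hKU₀ hne).1
    subst hK1
    rw [hH] at hc
    have hKU : IsSigmaDecomposition M ⊥ U :=
      ⟨hKU₀.cyclic, hKU₀.hall, by rw [bot_sup_eq]; exact compl_swap hc, bot_le⟩
    refine main hG M hM ⊥ U hKU hH ?_ ?_
    · intro hT
      exact ((Cfsg.Agent.S1382.result hG M hM ⊥ U₀ hKU₀).mp hT).1 rfl
    · unfold typeA
      rw [if_pos hI, hH]
      ext a
      simp only [sigmaA, sigmaHat, Set.mem_setOf_eq, Set.mem_diff, Set.mem_inter_iff,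
        Set.mem_singleton_iff, SetLike.mem_coe, compl_sup hc]
      tauto
  · obtain ⟨hK1, hU1⟩ := (Cfsg.Agent.S1381.result hG M hM K₀ U₀ hKU₀).mp hII
    have hH : fittingHallOf M = sigmaCore M := by
      by_contra hne
      exact hU1 (Cfsg.Agent.S1357.result hG M hM K₀ U₀ hKU₀ hne).1
    have hder := (Cfsg.Agent.S1365.result hG M hM K₀ U₀ hKU₀ hK1).1
    rw [hH] at hc
    have hc' : IsComplIn (sigmaCore M) U (U₀ ⊔ sigmaCore M) := by rw [← hder]; exact hc
    obtain ⟨m, -, -, hKU⟩ := Cfsg.Agent.Lib.Helper51BG16.exists_decomp_of_compl hG hM hKU₀ hc'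
    have hT : ¬ (IsOfTypeIII M ∨ IsOfTypeIV M) := fun hT =>
      hU1 ((Cfsg.Agent.S1382.result hG M hM K₀ U₀ hKU₀).mp hT).2.1
    have hnI : ¬ IsOfTypeI M := fun hI =>
      hK1 (Cfsg.Agent.Lib.Helper51BG16.of_typeF hG hM hKU₀ hI.1).1
    refine main hG M hM _ U hKU hH hT ?_
    have hcore : typeCore M = sigmaCore M := by
      unfold typeCore
      rw [if_neg hT, hH]
    have hle : ⁅M, M⁆ ≤ M := Subgroup.commutator_le_self M
    unfold typeA
    rw [if_neg hnI, hcore]
    ext a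
    simp only [sigmaA, sigmaHat, Set.mem_setOf_eq, Set.mem_diff, Set.mem_inter_iff,
      Set.mem_singleton_iff, SetLike.mem_coe, compl_sup hc]
    constructor
    · rintro ⟨h1, h2, h3⟩
      exact ⟨⟨⟨hle h1, h3⟩, h1⟩, h2⟩
    · rintro ⟨⟨⟨-, h3⟩, h1⟩, h2⟩
      exact ⟨h1, h2, h3⟩

end Cfsg.Agent.S1390
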