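import Cfsg.Statements.S0740
import Mathlib

set_option autoImplicit false
open Cfsg

namespace Cfsg.Agent.S0740

open MulAction

variable {G Ω : Type*} [Group G] [Finite G] [MulAction G Ω] [Fintype Ω]

theorem card_fix_le (hZ : Cfsg.IsZassenhausGroup G Ω) (s : G) (hs : s ≠ 1) :
    Nat.card (fixedBy Ω s) ≤ 2 := by
  by_contra hcon
  push Not at hcon
  rw [Nat.card_coe_set_eq, Set.two_lt_ncard_iff] at hcon
  obtain ⟨x, y, z, hx, hy, hz, hxy, hxz, hyz⟩ := hcon
  exact hs (hZ.2.2.1 s x y z hxy hyz hxz hx hy hz)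

theorem card_fix_mod (s : G) (hs : s ^ 2 = 1) :
    Fintype.card Ω ≡ Nat.card (fixedBy Ω s) [MOD 2] := by
  classical
  have h := Equiv.Perm.card_fixedPoints_modEq (α := Ω) (f := MulAction.toEndHom s)
    (p := 2) (n := 1) (by rw [pow_one, ← map_pow, hs, map_one])
  have e : Nat.card (fixedBy Ω s) = Fintype.card (Function.fixedPoints (toEndHom s : Ω → Ω)) := by
    rw [← Nat.card_eq_fintype_card]
    rfl
  rw [e]
  exact h

theorem ne_one_of_order {s : G} (hs : orderOf s = 2) : s ≠ 1 := by
  intro h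
  rw [h, orderOf_one] at hs
  omega

theorem sq_of_order {s : G} (hs : orderOf s = 2) : s ^ 2 = 1 := by
  rw [← hs]; exact pow_orderOf_eq_one s

/-- conjugate an involution so that it swaps `a` and `b` -/
theorem conj_swap (hZ : Cfsg.IsZassenhausGroup G Ω) {a b : Ω} (hab : a ≠ b) (t : G)
    (ht : orderOf t = 2) : ∃ g : G, orderOf (g * t * g⁻¹) = 2 ∧ (g * t * g⁻¹) • a = b ∧
      (g * t * g⁻¹) • b = a := by
  obtain ⟨hf, h2, -, -, -⟩ := hZ
  obtain ⟨c, hc⟩ : ∃ c : Ω, t • c ≠ c := by
    by_contra hcon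
    push Not at hcon
    apply ne_one_of_order ht
    apply hf.eq_of_smul_eq_smul
    intro x
    rw [hcon x, one_smul]
  rw [is_two_pretransitive_iff] at h2
  obtain ⟨g, hg1, hg2⟩ := h2 hc.symm hab
  have htt : t • t • c = c := by rw [← mul_smul, ← sq, sq_of_order ht, one_smul]
  refine ⟨g, ?_, ?_, ?_⟩
  · have := (MulAut.conj g).orderOf_eq t
    rw [MulAut.conj_apply] at this
    rw [this, ht]
  · rw [mul_smul, mul_smul, ← hg1, inv_smul_smul, hg2]
  · rw [mul_smul, mul_smul, ← hg2, inv_smul_smul, htt, hg1]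

/-- In a finite Zassenhaus group any two points `a ≠ b` are swapped by an involution; every such involution has exactly one fixed point when the degree is odd and 0 or 2 fixed points when the degree is even; and if the two-point stabiliser has even order, some such involution has exactly 2 fixed points. -/
theorem result {G Ω : Type*} [Group G] [Finite G] [MulAction G Ω] [Fintype Ω] (hZ : Cfsg.IsZassenhausGroup G Ω) {a b : Ω} (hab : a ≠ b) : (∃ s : G, orderOf s = 2 ∧ s • a = b ∧ s • b = a) ∧ (∀ s : G, orderOf s = 2 → s • a = b → s • b = a → (Odd (Fintype.card Ω) → Nat.card (MulAction.fixedBy Ω s) = 1) ∧ (Even (Fintype.card Ω) → Nat.card (MulAction.fixedBy Ω s) = 0 ∨ Nat.card (MulAction.fixedBy Ω s) = 2)) ∧ (Even (Fintype.card Ω) → Even (Nat.card ↥(MulAction.stabilizer G a ⊓ MulAction.stabilizer G b)) → ∃ s : G, orderOf s = 2 ∧ s • a = b ∧ s • b = a ∧ Nat.card (MulAction.fixedBy Ω s) = 2) := by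
  refine ⟨?_, ?_, ?_⟩
  · -- an involution exists
    have h2 := hZ.2.1
    rw [is_two_pretransitive_iff] at h2
    obtain ⟨g, hg1, hg2⟩ := h2 hab hab.symm
    have hper : period g a ∣ 2 := by
      rw [← pow_smul_eq_iff_period_dvd, sq, mul_smul, hg1, hg2]
    have hper2 : period g a = 2 := by
      rcases (Nat.dvd_prime Nat.prime_two).1 hper with h | h
      · rw [period_eq_one_iff, hg1] at h
        exact absurd h.symm hab
      · exact h
    have hdvd : 2 ∣ orderOf g := hper2 ▸ period_dvd_orderOf g a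
    have ht := orderOf_pow_orderOf_div (orderOf_pos g).ne' hdvd
    obtain ⟨k, hk1, hk2, hk3⟩ := conj_swap hZ hab _ ht
    exact ⟨_, hk1, hk2, hk3⟩
  · intro s hs _ _
    have h1 := card_fix_le hZ s (ne_one_of_order hs)
    have h2 := card_fix_mod (Ω := Ω) s (sq_of_order hs)
    unfold Nat.ModEq at h2
    constructor
    · intro hodd
      rw [Nat.odd_iff] at hodd
      omega
    · intro heven
      rw [Nat.even_iff] at heven
      omega
  · intro _ heven
    have : Fact (Nat.Prime 2) := ⟨Nat.prime_two⟩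
    obtain ⟨z, hz⟩ := exists_prime_orderOf_dvd_card' (G := ↥(stabilizer G a ⊓ stabilizer G b)) 2
      heven.two_dvd
    rw [← Subgroup.orderOf_coe] at hz
    obtain ⟨g, hg1, hg2, hg3⟩ := conj_swap hZ hab _ hz
    refine ⟨_, hg1, hg2, hg3, ?_⟩
    apply le_antisymm (card_fix_le hZ _ (ne_one_of_order hg1))
    have hza : (z : G) • a = a := (Subgroup.mem_inf.1 z.2).1
    have hzb : (z : G) • b = b := (Subgroup.mem_inf.1 z.2).2
    rw [Nat.card_coe_set_eq]
    have hsub : ({g • a, g • b} : Set Ω) ⊆ fixedBy Ω (g * (z : G) * g⁻¹) := by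
      rintro x (rfl | rfl)
      · show (g * (z : G) * g⁻¹) • g • a = g • a
        rw [mul_smul, mul_smul, inv_smul_smul, hza]
      · show (g * (z : G) * g⁻¹) • g • b = g • b
        rw [mul_smul, mul_smul, inv_smul_smul, hzb]
    have h2 : ({g • a, g • b} : Set Ω).ncard = 2 :=
      Set.ncard_pair (fun h => hab (smul_left_cancel g h))
    rw [← h2]
    exact Set.ncard_le_ncard hsub (Set.toFinite _)

end Cfsg.Agent.S0740
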