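import Cfsg.Statements.S0879
import Mathlib

set_option autoImplicit false
open Cfsg

namespace Cfsg.Agent.S0879

theorem aux {G Ω : Type*} [Group G] [Finite G] [MulAction G Ω] [Fintype Ω]
    (hZ : Cfsg.IsZassenhausGroup G Ω) {a b : Ω} (hab : a ≠ b) (E : Subgroup G)
    (hE : ∀ g : G, g ∈ E ↔ g • a = a ∧ g • b = b) :
    (∀ g : G, g ∉ Subgroup.normalizer (E : Set G) → ∀ x ∈ E, g * x * g⁻¹ ∈ E → x = 1) ∧
      (E.subgroupOf (Subgroup.normalizer (E : Set G))).index = 2 := by
  classical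
  obtain ⟨hfaith, h2t, h3, ⟨g₀, hg₀, a₀, b₀, hab₀, hga₀, hgb₀⟩, hreg⟩ := hZ
  rw [MulAction.is_two_pretransitive_iff] at h2t
  have L1 : ∀ g : G, ((g • a = a ∧ g • b = b) ∨ (g • a = b ∧ g • b = a)) →
      g ∈ Subgroup.normalizer (E : Set G) := by
    intro g hg
    apply Subgroup.mem_normalizer_fintype
    intro n hn
    obtain ⟨hna, hnb⟩ := (hE n).mp hn
    show g * n * g⁻¹ ∈ E
    rw [hE]
    rcases hg with ⟨h1, h2⟩ | ⟨h1, h2⟩
    · have e1 : g⁻¹ • a = a := by rw [inv_smul_eq_iff, h1]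
      have e2 : g⁻¹ • b = b := by rw [inv_smul_eq_iff, h2]
      constructor
      · rw [mul_smul, mul_smul, e1, hna, h1]
      · rw [mul_smul, mul_smul, e2, hnb, h2]
    · have e1 : g⁻¹ • a = b := by rw [inv_smul_eq_iff, h2]
      have e2 : g⁻¹ • b = a := by rw [inv_smul_eq_iff, h1]
      constructor
      · rw [mul_smul, mul_smul, e1, hnb, h2]
      · rw [mul_smul, mul_smul, e2, hna, h1]
  have L2 : ∀ g : G, ∀ x ∈ E, x ≠ 1 → g * x * g⁻¹ ∈ E →
      ((g • a = a ∧ g • b = b) ∨ (g • a = b ∧ g • b = a)) := by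
    intro g x hx hx1 hgx
    obtain ⟨hxa, hxb⟩ := (hE x).mp hx
    obtain ⟨h1, h2⟩ := (hE _).mp hgx
    have f1 : x • (g⁻¹ • a) = g⁻¹ • a := by
      rw [mul_smul, mul_smul] at h1
      rw [eq_inv_smul_iff]; exact h1
    have f2 : x • (g⁻¹ • b) = g⁻¹ • b := by
      rw [mul_smul, mul_smul] at h2
      rw [eq_inv_smul_iff]; exact h2
    have c1 : g⁻¹ • a = a ∨ g⁻¹ • a = b := by
      by_contra hcon
      push Not at hcon
      exact hx1 (h3 x a b (g⁻¹ • a) hab hcon.2.symm hcon.1.symm hxa hxb f1)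
    have c2 : g⁻¹ • b = a ∨ g⁻¹ • b = b := by
      by_contra hcon
      push Not at hcon
      exact hx1 (h3 x a b (g⁻¹ • b) hab hcon.2.symm hcon.1.symm hxa hxb f2)
    have hne : g⁻¹ • a ≠ g⁻¹ • b := fun h => hab (smul_left_cancel _ h)
    rcases c1 with c1 | c1 <;> rcases c2 with c2 | c2
    · exact absurd (c1.trans c2.symm) hne
    · left
      exact ⟨(inv_smul_eq_iff.mp c1).symm, (inv_smul_eq_iff.mp c2).symm⟩
    · right
      exact ⟨(inv_smul_eq_iff.mp c2).symm, (inv_smul_eq_iff.mp c1).symm⟩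
    · exact absurd (c1.trans c2.symm) hne
  constructor
  · intro g hg x hx hgx
    by_contra hx1
    exact hg (L1 g (L2 g x hx hx1 hgx))
  · obtain ⟨x, hx, hx1⟩ : ∃ x ∈ E, x ≠ 1 := by
      obtain ⟨t, hta, htb⟩ := h2t hab₀ hab
      refine ⟨t * g₀ * t⁻¹, ?_, ?_⟩
      · rw [hE]
        have e1 : t⁻¹ • a = a₀ := by rw [inv_smul_eq_iff, hta]
        have e2 : t⁻¹ • b = b₀ := by rw [inv_smul_eq_iff, htb]
        constructor
        · rw [mul_smul, mul_smul, e1, hga₀, hta]
        · rw [mul_smul, mul_smul, e2, hgb₀, htb]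
      · intro h
        apply hg₀
        have : g₀ = t⁻¹ * (t * g₀ * t⁻¹) * t := by group
        rw [this, h]; group
    obtain ⟨t, hta, htb⟩ := h2t hab hab.symm
    show E.relIndex (Subgroup.normalizer (E : Set G)) = 2
    rw [Subgroup.relIndex_eq_two_iff_exists_notMem_and]
    refine ⟨t, L1 t (Or.inr ⟨hta, htb⟩), ?_, ?_⟩
    · intro h
      exact hab (((hE t).mp h).1.symm.trans hta)
    · intro g hg
      have hgx : g * x * g⁻¹ ∈ E := (Subgroup.mem_normalizer_iff.mp hg x).mp hx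
      rcases L2 g x hx hx1 hgx with ⟨h1, h2⟩ | ⟨h1, h2⟩
      · right; exact (hE g).mpr ⟨h1, h2⟩
      · left
        rw [hE]
        constructor
        · rw [mul_smul, hta, h2]
        · rw [mul_smul, htb, h1]

/-- Let G be a Zassenhaus group on the finite set Ω and E the stabilizer of two distinct points a, b. Then an element outside the normalizer of E conjugates no non-identity element of E into E, and E has index 2 in its normalizer. -/
theorem result {G Ω : Type*} [Group G] [Finite G] [MulAction G Ω] [Fintype Ω] (hZ : Cfsg.IsZassenhausGroup G Ω) {a b : Ω} (hab : a ≠ b) : (∀ g : G, g ∉ Subgroup.normalizer ((MulAction.stabilizer G a ⊓ MulAction.stabilizer G b : Subgroup G) : Set G) → ∀ x ∈ (MulAction.stabilizer G a ⊓ MulAction.stabilizer G b : Subgroup G), g * x * g⁻¹ ∈ (MulAction.stabilizer G a ⊓ MulAction.stabilizer G b : Subgroup G) → x = 1) ∧ ((MulAction.stabilizer G a ⊓ MulAction.stabilizer G b : Subgroup G).subgroupOf (Subgroup.normalizer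 ((MulAction.stabilizer G a ⊓ MulAction.stabilizer G b : Subgroup G) : Set G))).index = 2 := by
  apply aux hZ hab
  intro g
  rw [Subgroup.mem_inf, MulAction.mem_stabilizer_iff, MulAction.mem_stabilizer_iff]

end Cfsg.Agent.S0879
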