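import Cfsg.Statements.S0323
import Cfsg.Agent.Lib.Helper8BN

set_option autoImplicit false
open scoped Pointwise
open Cfsg

namespace Cfsg.Agent.S0323

/-- A doubly transitive action on a set with at least three points yields a (B,N)-pair of rank one:
`B` is the stabiliser of a point `x`, `N` the setwise stabiliser of a pair `{x, y}`. -/
theorem result {G Ω : Type*} [Group G] [MulAction G Ω]
    (h2 : MulAction.IsMultiplyPretransitive G Ω 2) {x y z : Ω} (hxy : x ≠ y) (hyz : y ≠ z) (hxz : x ≠ z) :
    ∃ P : Cfsg.BNPair G, P.B = MulAction.stabilizer G x ∧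
      P.N = MulAction.stabilizer G ({x, y} : Set Ω) ∧ P.rank = 1 := by
  rw [MulAction.is_two_pretransitive_iff] at h2
  obtain ⟨s, hsx, hsy⟩ := h2 hxy hxy.symm
  have memN : ∀ g : G, g ∈ MulAction.stabilizer G ({x, y} : Set Ω) ↔
      (g • x = x ∧ g • y = y) ∨ (g • x = y ∧ g • y = x) := by
    intro g
    rw [MulAction.mem_stabilizer_iff, Set.smul_set_insert, Set.smul_set_singleton,
      Set.pair_eq_pair_iff]
  have memB : ∀ g : G, g ∈ MulAction.stabilizer G x ↔ g • x = x := fun g =>
    MulAction.mem_stabilizer_iff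
  have hsN : s ∈ MulAction.stabilizer G ({x, y} : Set Ω) := (memN s).2 (Or.inr ⟨hsx, hsy⟩)
  have hsinvx : s⁻¹ • x = y := by rw [inv_smul_eq_iff, hsy]
  have hsinvy : s⁻¹ • y = x := by rw [inv_smul_eq_iff, hsx]
  -- every element is in B or in B s B
  have hall : ∀ g : G, g • x ≠ x → ∃ a ∈ MulAction.stabilizer G x,
      ∃ b ∈ MulAction.stabilizer G x, g = a * s * b := by
    intro g hg
    obtain ⟨b, hbx, hby⟩ := h2 (Ne.symm hg) hxy
    refine ⟨b⁻¹, Subgroup.inv_mem _ ((memB b).2 hbx), s⁻¹ * b * g, ?_, by group⟩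
    rw [memB, mul_smul, mul_smul, hby, hsinvy]
  refine ⟨{ B := MulAction.stabilizer G x
            N := MulAction.stabilizer G ({x, y} : Set Ω)
            S := {s}
            sup_eq_top := ?_
            conj_mem := ?_
            subset := ?_
            sq_mem := ?_
            inj := ?_
            closure_sup := ?_
            mul_mem_union := ?_
            conj_ne := ?_ }, rfl, rfl, ?_⟩
  · rw [eq_top_iff]
    intro g _
    by_cases hg : g • x = x
    · exact Subgroup.mem_sup_left ((memB g).2 hg)
    · obtain ⟨a, ha, b, hb, rfl⟩ := hall g hg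
      exact Subgroup.mul_mem _ (Subgroup.mul_mem _ (Subgroup.mem_sup_left ha)
        (Subgroup.mem_sup_right hsN)) (Subgroup.mem_sup_left hb)
  · intro n hn t ht
    obtain ⟨htB, htN⟩ := Subgroup.mem_inf.1 ht
    rw [memB] at htB
    have hty : t • y = y := by
      rcases (memN t).1 htN with h | h
      · exact h.2
      · exact absurd (htB.symm.trans h.1) hxy
    rw [memB, mul_smul, mul_smul]
    rcases (memN n).1 hn with h | h
    · have : n⁻¹ • x = x := by rw [inv_smul_eq_iff, h.1]
      rw [this, htB, h.1]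
    · have : n⁻¹ • x = y := by rw [inv_smul_eq_iff, h.2]
      rw [this, hty, h.2]
  · intro s' hs'
    obtain rfl : s = s' := (Set.mem_singleton_iff.1 hs').symm
    exact hsN
  · intro s' hs'
    obtain rfl : s = s' := (Set.mem_singleton_iff.1 hs').symm
    rw [memB, mul_smul, hsx, hsy]
  · rintro _ rfl _ rfl _
    rfl
  · apply le_antisymm
    · exact sup_le ((Subgroup.closure_le _).2 (Set.singleton_subset_iff.2 hsN)) inf_le_right
    · intro n hn
      rcases (memN n).1 hn with h | h
      · exact Subgroup.mem_sup_right ⟨(memB n).2 h.1, hn⟩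
      · have e : n = s * (s⁻¹ * n) := by group
        rw [e]
        refine Subgroup.mul_mem _ (Subgroup.mem_sup_left (Subgroup.subset_closure rfl))
          (Subgroup.mem_sup_right (Subgroup.mem_inf.2
            ⟨?_, Subgroup.mul_mem _ (Subgroup.inv_mem _ hsN) hn⟩))
        rw [memB, mul_smul, h.1, hsinvy]
  · intro s' hs' n hn b hb
    obtain rfl : s = s' := (Set.mem_singleton_iff.1 hs').symm
    have hbx := (memB b).1 hb
    rcases (memN n).1 hn with h | h
    · left
      rw [DoubleCoset.mem_doubleCoset]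
      refine ⟨1, Subgroup.one_mem _, n⁻¹ * b * n, ?_, by group⟩
      have : n⁻¹ • x = x := by rw [inv_smul_eq_iff, h.1]
      show n⁻¹ * b * n ∈ MulAction.stabilizer G x
      rw [memB, mul_smul, mul_smul, h.1, hbx, this]
    · by_cases hc : (s * b * n) • x = x
      · left
        rw [DoubleCoset.mem_doubleCoset]
        refine ⟨s * b * n, (memB _).2 hc, (s * n)⁻¹, ?_, by group⟩
        apply Subgroup.inv_mem
        rw [memB, mul_smul, h.1, hsy]
      · right
        obtain ⟨a, ha, c, hc', e⟩ := hall _ hc
        rw [DoubleCoset.mem_doubleCoset]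
        refine ⟨a, ha, n⁻¹ * s * c, ?_, by rw [e]; group⟩
        show n⁻¹ * s * c ∈ MulAction.stabilizer G x
        have : n⁻¹ • y = x := by rw [inv_smul_eq_iff, h.1]
        rw [memB, mul_smul, mul_smul, (memB c).1 hc', hsx, this]
  · intro s' hs' hEq
    obtain rfl : s = s' := (Set.mem_singleton_iff.1 hs').symm
    obtain ⟨b, hbx, hby⟩ := h2 hxy hxz
    have h1 : s * b * s ∈ (fun b : G => s * b * s) '' (MulAction.stabilizer G x : Set G) :=
      ⟨b, (memB b).2 hbx, rfl⟩
    rw [hEq] at h1
    have h2' : (s * b * s) • x = x := (memB _).1 h1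
    rw [mul_smul, mul_smul, hsx, hby] at h2'
    have : z = y := by rw [← hsinvx, ← h2', inv_smul_smul]
    exact hyz this.symm
  · show Nat.card ({s} : Set G) = 1
    simp

end Cfsg.Agent.S0323
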