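import Cfsg.Statements.S0325
import Cfsg.Agent.Lib.Helper8Sz3
import Cfsg.Agent.S0319
import Cfsg.Agent.S0323

set_option autoImplicit false
open Cfsg

namespace Cfsg.Agent.S0325

open Cfsg.Agent.Lib.Helper8Sz Cfsg.Agent.Lib.Helper8Sz2 Cfsg.Agent.Lib.Helper8Sz3

/-- The Suzuki group over a field with `2^(2m+1)` elements, `m ≥ 1`, is a simple group. -/
theorem result {F : Type*} [Field F] [Fintype F] {m : ℕ} (hm : 1 ≤ m)
    (hF : Fintype.card F = 2 ^ (2 * m + 1)) :
    IsSimpleGroup (Cfsg.Sz F m) := by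
  have h01 : oPt m (0 : F) 0 ≠ oPt m 1 0 := by
    intro h
    exact zero_ne_one (oPt_inj h).1
  obtain ⟨P, hB, _, hrank⟩ := Cfsg.Agent.S0323.result (two_trans hF)
    (x := oInf F m) (y := oPt m 0 0) (z := oPt m 1 0) (oPt_ne_oInf 0 0).symm h01
    (oPt_ne_oInf 1 0).symm
  have := nontrivial_Sz hF hm
  have hirr : P.Irreducible := by
    intro J hJ hJne hne
    exfalso
    have hcard : P.S.ncard = 1 := by
      rw [← Nat.card_coe_set_eq]; exact hrank
    obtain ⟨s, hS⟩ := Set.ncard_eq_one.1 hcard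
    obtain ⟨a, ha⟩ := hJne
    obtain ⟨b, hb, hbJ⟩ := hne
    have ha' : a = s := by
      have := hJ ha
      rw [hS] at this
      exact this
    have hb' : b = s := by
      rw [hS] at hb
      exact hb
    exact hbJ (hb'.trans ha'.symm ▸ ha)
  apply Cfsg.Agent.S0319.result P hirr
  · rw [hB]; exact stab_solvable hF hm
  · exact perfect hF hm
  · rw [hB]; exact stab_core hF hm

end Cfsg.Agent.S0325
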