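import Cfsg.Statements.S4808
import Cfsg.Agent.S0145
import Cfsg.Agent.S0165
import Cfsg.Agent.Lib.Helper82Cod
-- import your own Cfsg.Agent.* helpers here

set_option autoImplicit false
open Cfsg

namespace Cfsg.Agent.S4808

open Cfsg.Agent.Lib.Helper82Schur Cfsg.Agent.Lib.Helper82Irr
  Cfsg.Agent.Lib.Helper82Quot Cfsg.Agent.Lib.Helper82Linear Cfsg.Agent.Lib.Helper82Cod

theorem defect_zero_vanish {H : Type*} [Group H] [Finite H] (ψ : Cfsg.IrrCharacter H) (p : ℕ)
    (hp : p.Prime) (c : ℕ) (hc : ¬ p ∣ c) (hcard : Nat.card H = c * Cfsg.charDegree (ψ : H → ℂ))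
    (x : H) (hx : p ∣ orderOf x) : (ψ : H → ℂ) x = 0 := by
  obtain ⟨n, ρ, hρ, h⟩ := ψ.2
  have h2 : ((Cfsg.charDegree (ψ : H → ℂ) : ℕ) : ℂ) = (Module.finrank ℂ (Fin n → ℂ) : ℂ) := by
    rw [irr_charDegree_cast, ← h, Representation.char_one]
  have h3 : Cfsg.charDegree (ψ : H → ℂ) = Module.finrank ℂ (Fin n → ℂ) := Nat.cast_inj.mp h2
  have hH0 : Nat.card H ≠ 0 := Nat.card_pos.ne'
  rw [← h]
  refine Cfsg.Agent.S0165.result ρ p ((Nat.card H).factorization p) hp
    (Nat.ordProj_dvd _ _) (Nat.pow_succ_factorization_not_dvd hH0 hp) ?_ x hx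
  rw [← h3]
  have hc0 : c ≠ 0 := by rintro rfl; exact hc (dvd_zero p)
  have hd0 : Cfsg.charDegree (ψ : H → ℂ) ≠ 0 := (irr_charDegree_pos ψ).ne'
  rw [hcard, Nat.factorization_mul hc0 hd0, Finsupp.add_apply,
    Nat.factorization_eq_zero_of_not_dvd hc, zero_add]
  exact Nat.ordProj_dvd _ _

/-- The codegree of an irreducible complex character χ of a finite group G is [G : ker χ] / χ(1), where ker χ is the set of elements at which χ takes the value χ(1). A prime divides the order of G if and only if it divides the codegree of some irreducible complex character of G. -/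
theorem result {G : Type*} [Group G] [Finite G] (p : ℕ) (hp : p.Prime) : p ∣ Nat.card G ↔ ∃ χ : Cfsg.IrrCharacter G, p ∣ (Nat.card G / (Nat.card {g : G // (χ : G → ℂ) g = (χ : G → ℂ) 1} * Cfsg.charDegree (χ : G → ℂ))) := by
  constructor
  swap
  · rintro ⟨χ, hχ⟩
    exact hχ.trans (cod_dvd_card χ)
  intro hdvd
  by_contra hcon
  push Not at hcon
  haveI : Fact p.Prime := ⟨hp⟩
  obtain ⟨g, hg⟩ := exists_prime_orderOf_dvd_card' p hdvd
  have hg1 : g ≠ 1 := by
    rintro rfl
    rw [orderOf_one] at hg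
    exact hp.one_lt.ne hg
  have hval : ∀ χ : Cfsg.IrrCharacter G, (χ : G → ℂ) g = (χ : G → ℂ) 1 ∨ (χ : G → ℂ) g = 0 := by
    intro χ
    by_cases hk : (χ : G → ℂ) g = (χ : G → ℂ) 1
    · left; exact hk
    right
    obtain ⟨ψ, hψ⟩ := exists_deflate (irrKer χ) χ (fun n hn => hn)
    have hval : ∀ x : G, (χ : G → ℂ) x = (ψ : G ⧸ irrKer χ → ℂ) (x : G ⧸ irrKer χ) := by
      intro x
      have := congrFun (congrArg Subtype.val hψ) x
      rw [← this, inflate_apply]
    have hdeg : Cfsg.charDegree (ψ : G ⧸ irrKer χ → ℂ) = Cfsg.charDegree (χ : G → ℂ) := by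
      unfold Cfsg.charDegree
      rw [hval 1]
      rfl
    rw [hval g]
    refine defect_zero_vanish ψ p hp (cod χ) (hcon χ) ?_ _ ?_
    · rw [hdeg, cod_mul_degree, Subgroup.index_eq_card]
    · have h1 : orderOf ((g : G ⧸ irrKer χ)) ∣ p := by
        rw [← hg]
        exact orderOf_map_dvd (QuotientGroup.mk' (irrKer χ)) g
      rcases (Nat.dvd_prime hp).mp h1 with h2 | h2
      · exfalso
        rw [orderOf_eq_one_iff, QuotientGroup.eq_one_iff] at h2
        exact hk h2
      · rw [h2]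
  have hnc : ¬ IsConj g 1 := by
    rw [isConj_one_left]; exact hg1
  have hsum := (Cfsg.Agent.S0145.result g 1).2 hnc
  have hfin : Finite (Cfsg.IrrCharacter G) := finite_irr
  have := Fintype.ofFinite (Cfsg.IrrCharacter G)
  rw [finsum_eq_sum_of_fintype] at hsum
  have hre : ∀ χ : Cfsg.IrrCharacter G,
      0 ≤ ((χ : G → ℂ) g * (starRingEnd ℂ) ((χ : G → ℂ) 1)).re := by
    intro χ
    rcases hval χ with h | h
    · rw [h, Complex.mul_conj]
      simp [Complex.normSq_nonneg]
    · rw [h]; simp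
  have hsum' := congrArg Complex.re hsum
  rw [Complex.re_sum, Complex.zero_re] at hsum'
  have h0 := (Finset.sum_eq_zero_iff_of_nonneg (fun χ _ => hre χ)).mp hsum' (irrOne G)
    (Finset.mem_univ _)
  simp [irrOne] at h0

end Cfsg.Agent.S4808
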