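import Cfsg.Statements.S2241
import Cfsg.Agent.Lib.Helper8Sz5

set_option autoImplicit false
open Cfsg

namespace Cfsg.Agent.S2241

open Cfsg.Agent.Lib.Helper8Sz Cfsg.Agent.Lib.Helper8Sz2 Cfsg.Agent.Lib.Helper8Sz3
  Cfsg.Agent.Lib.Helper8Sz4 Cfsg.Agent.Lib.Helper8Sz5

/-- Real 2-elements of the Suzuki group: with q = 2^(2m+1), m ≥ 1, and the group realised as the stabiliser in SL₄ of the Suzuki–Tits ovoid, a non-identity element of a Sylow 2-subgroup is conjugate to its inverse if and only if it is an involution; in particular no element of order 4 is conjugate to its inverse. -/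
theorem result {F : Type*} [Field F] [Fintype F] {m : ℕ} (hm : 1 ≤ m) (hF : Fintype.card F = 2 ^ (2 * m + 1)) (P : Sylow 2 ↥(Cfsg.Sz F m)) (g : ↥(Cfsg.Sz F m)) (hg : g ∈ (P : Subgroup ↥(Cfsg.Sz F m))) (h1 : g ≠ 1) :
    IsConj g g⁻¹ ↔ orderOf g = 2 := by
  obtain ⟨k, hk⟩ := sylow_conj hF hm P
  obtain ⟨a, b, hab⟩ := (hk g).1 hg
  have hg_eq : g = k * T hF a b * k⁻¹ := by rw [← hab]; group
  have h2 := two_eq_zero hF
  have hne : T hF a b ≠ 1 := by
    intro h
    apply h1
    rw [hg_eq, h]; group
  have hord : orderOf g = orderOf (T hF a b) := by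
    rw [hg_eq]
    exact orderOf_eq_orderOf_iff.2 (fun n => by
      rw [conj_pow]
      constructor
      · intro h
        have : T hF a b ^ n = k⁻¹ * (k * T hF a b ^ n * k⁻¹) * k := by group
        rw [this, h]; group
      · intro h
        rw [h]; group)
  have hconj : IsConj g g⁻¹ ↔ IsConj (T hF a b) (T hF a b)⁻¹ := by
    have c1 : IsConj (T hF a b) g := isConj_iff.2 ⟨k, hg_eq.symm⟩
    have c2 : IsConj (T hF a b)⁻¹ g⁻¹ := isConj_iff.2 ⟨k, by rw [hg_eq]; group⟩
    constructor
    · intro h
      exact c1.trans (h.trans c2.symm)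
    · intro h
      exact c1.symm.trans (h.trans c2)
  rw [hord, hconj]
  have hord2 : orderOf (T hF a b) = 2 ↔ a = 0 := by
    constructor
    · intro h
      have h3 : T hF a b ^ 2 = 1 := by rw [← h]; exact pow_orderOf_eq_one _
      rw [pow_two, T_sq hF hm, ← T_zero hF hm] at h3
      have h4 := (T_inj hF h3).2
      rcases mul_eq_zero.1 h4 with h5 | h5
      · exact h5
      · exact sg_eq_zero.1 h5
    · rintro rfl
      apply orderOf_eq_prime _ hne
      rw [pow_two, T_sq hF hm, zero_mul, T_zero hF hm]
  rw [hord2]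
  constructor
  · intro h
    by_contra ha
    obtain ⟨c, hc⟩ := isConj_iff.1 h
    rw [T_inv hF hm] at hc
    -- c fixes infinity
    have hcinf : c • oInf F m = oInf F m := by
      rcases o_cases (c • oInf F m) with h3 | ⟨x, y, h3⟩
      · exact h3
      · exfalso
        have h4 : T hF a (b + a * sg m a) • oPt m x y = oPt m x y := by
          rw [← hc, ← h3, mul_smul, mul_smul, inv_smul_smul, T_oInf]
        exact ha (T_fix hF h4).1
    obtain ⟨a', b', e, he, rfl⟩ := stab_one' hF hm hcinf
    have h5 : T hF a' b' * H hF e he * T hF a b = T hF a (b + a * sg m a) * (T hF a' b' * H hF e he) := by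
      rw [← hc]; group
    rw [mul_assoc, H_T hF hm, ← mul_assoc, ← mul_assoc, T_mul hF hm, T_mul hF hm] at h5
    obtain ⟨h6, h7⟩ := T_inj hF (mul_right_cancel h5)
    have hse : sg m e = 1 := by
      have : (sg m e - 1) * a = 0 := by linear_combination h6
      rcases mul_eq_zero.1 this with h8 | h8
      · linear_combination h8
      · exact absurd h8 ha
    have he1 : e = 1 := sg_eq_one hF hse
    subst he1
    rw [sg_one] at h7
    have hsa : sg m a ≠ 0 := sg_ne_zero ha
    -- z = a'/a satisfies sg z + z = 1
    have hz : sg m (a' / a) + a' / a = 1 := by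
      rw [sg_div]
      field_simp
      linear_combination h7 + (sg m a * a') * h2
    have hz2 : (a' / a) ^ 2 = a' / a := by
      rw [← sg_sg hF]
      have e1 : sg m (a' / a) = a' / a + 1 := by linear_combination hz - (a' / a) * h2
      rw [e1, sg_add hF, sg_one, e1]
      linear_combination h2
    have hz3 : sg m (a' / a) = a' / a := by
      have : (a' / a) * (a' / a - 1) = 0 := by linear_combination hz2
      rcases mul_eq_zero.1 this with h8 | h8
      · rw [h8, sg_zero]
      · have : a' / a = 1 := by linear_combination h8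
        rw [this, sg_one]
    rw [hz3] at hz
    have : (1 : F) = 0 := by linear_combination -hz + (a' / a) * h2
    exact one_ne_zero this
  · rintro rfl
    rw [T_inv hF hm, zero_mul, add_zero]

end Cfsg.Agent.S2241
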