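import Cfsg.Statements.S0255
import Cfsg.Agent.S0243
import Cfsg.Agent.Lib.Helper6SL2HomP

set_option autoImplicit false
open Cfsg

namespace Cfsg.Agent.S0255

open Cfsg.Agent.Lib.Helper6SL2Hom Cfsg.Agent.Lib.Helper6SL2HomP Cfsg.Agent.Lib.Helper6Transport

abbrev S3 := Matrix.SpecialLinearGroup (Fin 3) (ZMod 2)

def X0 : S3 := ⟨!![1, 0, 0; 0, 1, 0; 0, 0, 1], by decide⟩
def X1 : S3 := ⟨!![0, 0, 1; 0, 1, 1; 1, 1, 0], by decide⟩
def X2 : S3 := ⟨!![1, 1, 0; 1, 0, 1; 0, 1, 0], by decide⟩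
def X3 : S3 := ⟨!![0, 1, 0; 1, 1, 1; 0, 1, 1], by decide⟩
def X4 : S3 := ⟨!![0, 1, 1; 1, 0, 0; 1, 0, 1], by decide⟩
def X5 : S3 := ⟨!![1, 0, 1; 0, 0, 1; 1, 1, 1], by decide⟩
def X6 : S3 := ⟨!![1, 1, 1; 1, 1, 0; 1, 0, 0], by decide⟩
def W : S3 := ⟨!![0, 0, 1; 1, 1, 1; 1, 0, 0], by decide⟩
def D2 : S3 := ⟨!![1, 0, 1; 0, 1, 1; 1, 0, 0], by decide⟩
def D3 : S3 := ⟨!![0, 0, 1; 1, 1, 1; 1, 0, 1], by decide⟩

def Xp (c : ZMod 7) : S3 := (![X0, X1, X2, X3, X4, X5, X6] : Fin 7 → S3) c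
def Hh (c : ZMod 7) : S3 := (![X0, X0, D2, D3, D3, D2, X0] : Fin 7 → S3) c
def inv7 (c : ZMod 7) : ZMod 7 := (![0, 1, 4, 5, 2, 3, 6] : Fin 7 → ZMod 7) c

def f0 (a b c d : ZMod 7) : S3 :=
  if c = 0 then Hh a * Xp (b * inv7 a)
  else Xp (a * inv7 c) * W * Hh c * Xp (d * inv7 c)

theorem f0_one : f0 1 0 0 1 = 1 := by decide +kernel

theorem f0_X : ∀ a b c d : ZMod 7, a * d - b * c = 1 →
    f0 a (a + b) c (c + d) = f0 a b c d * f0 1 1 0 1 := by decide +kernel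

theorem f0_Y : ∀ a b c d : ZMod 7, a * d - b * c = 1 →
    f0 (a + b) b (c + d) d = f0 a b c d * f0 1 0 1 1 := by decide +kernel

theorem f0_neg : f0 (-1) 0 0 (-1) = 1 := by decide +kernel

theorem f0_ne : f0 1 1 0 1 ≠ 1 := by decide +kernel

/-- PSL_2(7) is isomorphic to PSL_3(2). -/
theorem result {F K : Type*} [Field F] [Fintype F] [Field K] [Fintype K] (hF : Fintype.card F = 7) (hK : Fintype.card K = 2) : Nonempty (Matrix.ProjectiveSpecialLinearGroup (Fin 2) F ≃* Matrix.ProjectiveSpecialLinearGroup (Fin 3) K) := by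
  have : Fact (Nat.Prime 7) := ⟨by norm_num⟩
  have : Fact (Nat.Prime 2) := ⟨by norm_num⟩
  obtain ⟨e1⟩ := nonempty_pslEquiv (n := Fin 2) (F := F) (K := ZMod 7) (by rw [hF, ZMod.card])
  obtain ⟨e2⟩ := nonempty_pslEquiv (n := Fin 3) (F := K) (K := ZMod 2) (by rw [hK, ZMod.card])
  obtain ⟨φ, hφ⟩ := exists_hom_of_entries_zmod 7 f0 f0_one f0_X f0_Y
  have hc : Subgroup.center (Matrix.SpecialLinearGroup (Fin 3) (ZMod 2)) = ⊥ := by
    rw [← Subgroup.card_eq_one, Cfsg.Agent.S0243.card_center_SL (F := ZMod 2) 3 (by norm_num),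
      ZMod.card]
    rfl
  let φ' : Matrix.SpecialLinearGroup (Fin 2) (ZMod 7) →*
      Matrix.ProjectiveSpecialLinearGroup (Fin 3) (ZMod 2) := (QuotientGroup.mk' _).comp φ
  obtain ⟨ψ, hψ⟩ := exists_injective_hom_PSL (F := ZMod 7) (by simp) φ'
    (by
      intro g h1 h2 h3 h4
      simp only [φ', MonoidHom.comp_apply]
      rw [hφ, h1, h2, h3, h4, f0_neg, map_one])
    ⟨Matrix.SpecialLinearGroup.transvection (zero_ne_one : (0 : Fin 2) ≠ 1) 1, by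
      simp only [φ', MonoidHom.comp_apply]
      rw [hφ, T01_entries]
      intro h
      rw [QuotientGroup.mk'_apply, QuotientGroup.eq_one_iff, hc, Subgroup.mem_bot] at h
      exact f0_ne h⟩
  have hcard1 := Cfsg.Agent.S0243.result (F := ZMod 7) (ZMod.card 7) 2 le_rfl
  have hcard2 := Cfsg.Agent.S0243.result (F := ZMod 2) (ZMod.card 2) 3 (by norm_num)
  simp only [Fin.prod_univ_two, Fin.prod_univ_three] at hcard1 hcard2
  set N := Nat.card (Matrix.ProjectiveSpecialLinearGroup (Fin 2) (ZMod 7)) with hN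
  set M := Nat.card (Matrix.ProjectiveSpecialLinearGroup (Fin 3) (ZMod 2)) with hM
  norm_num at hcard1 hcard2
  have hbij : Function.Bijective ψ := by
    rw [Nat.bijective_iff_injective_and_card]
    refine ⟨hψ, ?_⟩
    rw [← hN, ← hM]
    omega
  exact ⟨(e1.trans (MulEquiv.ofBijective ψ hbij)).trans e2.symm⟩

end Cfsg.Agent.S0255
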