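import Cfsg.Statements.S0077
import Cfsg.Agent.Lib.Helper2WeaklyClosed

set_option autoImplicit false
open Cfsg
open scoped commutatorElement

namespace Cfsg.Agent.S0077

/-- If a subgroup Z of the centre of a Sylow p-subgroup P is weakly closed in P, then P meets the derived subgroup of G exactly where it meets the derived subgroup of the normalizer of Z. -/
theorem result {G : Type*} [Group G] [Finite G] {p : ℕ} [Fact p.Prime] (P : Sylow p G) (Z : Subgroup G) (hZ : Z ≤ Subgroup.centralizer (P : Set G)) (hW : Cfsg.IsWeaklyClosed Z P) : commutator G ⊓ (P : Subgroup G) = ⁅Subgroup.normalizer (Z : Set G), Subgroup.normalizer (Z : Set G)⁆ ⊓ (P : Subgroup G) := by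
  apply le_antisymm
  · refine le_inf ?_ inf_le_right
    rw [Subgroup.commutator_inf_eq_focalSubgroup, Subgroup.focalSubgroup_def, Subgroup.closure_le]
    rintro g ⟨hgP, x, hx, u, rfl⟩
    have hPN : (P : Subgroup G) ≤ Subgroup.normalizer (Z : Set G) := by
      rw [Subgroup.le_normalizer_iff]
      intro h hh k hk
      have := hZ hk h hh
      rw [this, mul_inv_cancel_right]
      exact hk
    have hy : u * x * u⁻¹ ∈ (P : Subgroup G) := by
      have : u * x * u⁻¹ = (x⁻¹ * ⁅x, u⁆)⁻¹ := by
        rw [commutatorElement_def]; group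
      rw [this]
      exact inv_mem (mul_mem (inv_mem hx) hgP)
    obtain ⟨c, hc, hn⟩ := Cfsg.Agent.Lib.Helper2WeaklyClosed.exists_mul_mem_normalizer hW
      (Subgroup.centralizer {u * x * u⁻¹})
      (by
        intro z hz
        rw [Subgroup.mem_centralizer_singleton_iff]
        exact (hZ hz _ hy).symm)
      u
      (by
        intro z hz
        rw [Subgroup.mem_centralizer_singleton_iff]
        have := hZ hz x hx
        calc u * z * u⁻¹ * (u * x * u⁻¹) = u * (z * x) * u⁻¹ := by group
          _ = u * (x * z) * u⁻¹ := by rw [this]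
          _ = u * x * u⁻¹ * (u * z * u⁻¹) := by group)
    rw [Subgroup.mem_centralizer_singleton_iff] at hc
    have : ⁅x, u⁆ = ⁅x, c * u⁆ := by
      have h1 : c * u * x⁻¹ * (c * u)⁻¹ = u * x⁻¹ * u⁻¹ := by
        have h2 : c * (u * x * u⁻¹) * c⁻¹ = u * x * u⁻¹ := by
          rw [hc, mul_inv_cancel_right]
        have h3 := congrArg (·⁻¹) h2
        simp only [mul_inv_rev, inv_inv] at h3
        simpa [mul_assoc] using h3
      rw [commutatorElement_def, commutatorElement_def]
      calc x * u * x⁻¹ * u⁻¹ = x * (u * x⁻¹ * u⁻¹) := by group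
        _ = x * (c * u * x⁻¹ * (c * u)⁻¹) := by rw [h1]
        _ = x * (c * u) * x⁻¹ * (c * u)⁻¹ := by group
    rw [this]
    exact Subgroup.commutator_mem_commutator (hPN hx) hn
  · exact inf_le_inf_right _ (Subgroup.commutator_mono le_top le_top)

end Cfsg.Agent.S0077
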