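import Cfsg.Statements.S0078
import Cfsg.Agent.Lib.Helper2TateB
import Cfsg.Agent.S0077

set_option autoImplicit false
open Cfsg

namespace Cfsg.Agent.S0078

open Subgroup Cfsg.Agent.Lib.Helper2Tate Cfsg.Agent.Lib.Helper2TateB Cfsg.Agent.Lib.Helper2Sylow

/-- In a p-normal group, a Sylow p-subgroup P meets O^p(G) exactly where it meets O^p(V), for any subgroup V containing the normalizer of the centre of P. -/
theorem result {G : Type*} [Group G] [Finite G] {p : ℕ} [Fact p.Prime] (P : Sylow p G) (hn : ∀ Q : Sylow p G, (P : Subgroup G) ⊓ Subgroup.centralizer (P : Set G) ≤ (Q : Subgroup G) → (Q : Subgroup G) ⊓ Subgroup.centralizer (Q : Set G) = (P : Subgroup G) ⊓ Subgroup.centralizer (P : Set G)) (V : Subgroup G) (hV : Subgroup.normalizer (((P : Subgroup G) ⊓ Subgroup.centralizer (P : Set G) : Subgroup G) : Set G) ≤ V) : (P : Subgroup G) ⊓ Cfsg.pResidual p G = (P : Subgroup G) ⊓ (Cfsg.pResidual p V).map V.subtype := by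
  set Z : Subgroup G := (P : Subgroup G) ⊓ Subgroup.centralizer (P : Set G) with hZ
  have hW : Cfsg.IsWeaklyClosed Z (P : Subgroup G) := by
    refine ⟨inf_le_left, fun g hg => ?_⟩
    have hZQ : Z ≤ ((g⁻¹ • P : Sylow p G) : Subgroup G) := by
      intro z hz
      have h1 : g * z * g⁻¹ ∈ (P : Subgroup G) := hg ⟨z, hz, rfl⟩
      have h2 : z ∈ g⁻¹ • P := by
        rw [mem_sylow_smul_iff, inv_inv]; exact h1
      exact h2
    have hQ := hn _ hZQ
    have hle : Z.map (MulAut.conj g).toMonoidHom ≤ Z := by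
      rintro _ ⟨z, hz, rfl⟩
      refine mem_inf.2 ⟨hg ⟨z, hz, rfl⟩, ?_⟩
      rw [mem_centralizer_iff]
      intro y hy
      have hz' : z ∈ Subgroup.centralizer ((g⁻¹ • P : Sylow p G) : Set G) := by
        have : z ∈ ((g⁻¹ • P : Sylow p G) : Subgroup G) ⊓
            Subgroup.centralizer ((g⁻¹ • P : Sylow p G) : Set G) := by
          rw [hQ]; exact hz
        exact (mem_inf.1 this).2
      have hy' : g⁻¹ * y * g ∈ g⁻¹ • P := by
        rw [mem_sylow_smul_iff, inv_inv]
        have : g * (g⁻¹ * y * g) * g⁻¹ = y := by group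
        rw [this]; exact hy
      have h3 := (mem_centralizer_iff.1 hz') _ hy'
      have h4 : (MulAut.conj g).toMonoidHom z = g * z * g⁻¹ := rfl
      rw [h4]
      calc y * (g * z * g⁻¹) = g * ((g⁻¹ * y * g) * z) * g⁻¹ := by group
        _ = g * (z * (g⁻¹ * y * g)) * g⁻¹ := by rw [h3]
        _ = g * z * g⁻¹ * y := by group
    apply Subgroup.eq_of_le_of_card_ge hle
    rw [Subgroup.card_map_of_injective (MulAut.conj g).injective]
  have hG := Cfsg.Agent.S0077.result P Z inf_le_right hW
  have hPN : (P : Subgroup G) ≤ normalizer (Z : Set G) := by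
    rw [le_normalizer_iff_commutator_le_left]
    have : ⁅Z, (P : Subgroup G)⁆ = ⊥ := commutator_eq_bot_iff_le_centralizer.2 inf_le_right
    rw [this]; exact bot_le
  have hPV : (P : Subgroup G) ≤ V := hPN.trans hV
  rw [map_pResidual]
  apply le_antisymm
  · apply le_inf inf_le_left
    apply tate_general P V hPV
    rw [inf_comm, hG]
    exact inf_le_left.trans (commutator_mono hV hV)
  · apply inf_le_inf_left
    exact closure_mono (fun g hg => hg.2)

end Cfsg.Agent.S0078
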