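import Cfsg.Statements.S0865
import Cfsg.Agent.Lib.Helper19Lin

set_option autoImplicit false
open Cfsg

namespace Cfsg.Agent.S0865

theorem abstract_ext {A B : Type*} [CommGroup A] [CommGroup B] (R : A →* B) (n : ℕ)
    (hn : ∀ ν : A, R ν = 1 → ν ^ n = 1) (f : B) (hcop : Nat.Coprime n (orderOf f)) (V : A)
    (hVN : R V = f ^ n) :
    ∃ μ : A, R μ = f ∧ orderOf μ = orderOf f ∧
      ∀ μ' : A, R μ' = f → Nat.Coprime n (orderOf μ') → μ' = μ := by
  set o := orderOf f with ho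
  obtain ⟨u, v, huv⟩ : IsCoprime (n:ℤ) (o:ℤ) := Nat.isCoprime_iff_coprime.mpr hcop
  have hfo : f ^ (o : ℤ) = 1 := by rw [zpow_natCast]; exact pow_orderOf_eq_one f
  have hfe : f ^ ((n : ℤ) * u) = f := by
    have : (n:ℤ) * u = 1 - o * v := by linarith
    rw [this, zpow_sub, zpow_one, zpow_mul, hfo, one_zpow, inv_one, mul_one]
  set μ₀ : A := V ^ u with hμ₀
  have hμ₀N : R μ₀ = f := by
    rw [hμ₀, map_zpow, hVN, ← zpow_natCast, ← zpow_mul, hfe]
  set μ : A := μ₀ ^ ((n : ℤ) * u) with hμ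
  have hμN : R μ = f := by
    rw [hμ, map_zpow, hμ₀N, hfe]
  have hμo : μ ^ o = 1 := by
    have h1 : R (μ₀ ^ o) = 1 := by rw [map_pow, hμ₀N]; exact pow_orderOf_eq_one f
    have h2 := hn _ h1
    rw [hμ, ← zpow_natCast, ← zpow_mul]
    have : (n:ℤ) * u * o = ((o * n : ℕ) : ℤ) * u := by push_cast; ring
    rw [this, zpow_mul, zpow_natCast, pow_mul, h2, one_zpow]
  have hord : orderOf μ = o := by
    apply Nat.dvd_antisymm
    · exact orderOf_dvd_of_pow_eq_one hμo
    · apply orderOf_dvd_of_pow_eq_one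
      rw [← hμN, ← map_pow, pow_orderOf_eq_one, map_one]
  refine ⟨μ, hμN, hord, ?_⟩
  intro f' hf'N hcop'
  set ν := f' * μ⁻¹ with hν
  have hνN : R ν = 1 := by rw [hν, map_mul, map_inv, hf'N, hμN, mul_inv_cancel]
  have h1 : ν ^ n = 1 := hn _ hνN
  have h2 : ν ^ (orderOf f' * o) = 1 := by
    rw [hν, mul_pow, inv_pow, pow_mul, pow_orderOf_eq_one, one_pow, mul_comm (orderOf f') o, pow_mul,
      hμo, one_pow, inv_one, mul_one]
  have h3 : orderOf ν ∣ Nat.gcd n (orderOf f' * o) :=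
    Nat.dvd_gcd (orderOf_dvd_of_pow_eq_one h1) (orderOf_dvd_of_pow_eq_one h2)
  have h4 : Nat.gcd n (orderOf f' * o) = 1 := Nat.Coprime.mul_right hcop' hcop
  rw [h4, Nat.dvd_one, orderOf_eq_one_iff] at h3
  exact mul_inv_eq_one.mp h3

/-- Let N be a normal subgroup of the finite group G and λ a character of N of degree 1, invariant under conjugation by G, whose order (under pointwise multiplication) is coprime to the index of N. Then there is a character μ of G of degree 1 restricting to λ with the same order as λ, and μ is the only degree-1 character of G restricting to λ whose order is coprime to the index of N. -/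
theorem result {G : Type*} [Group G] [Finite G] (N : Subgroup G) [hN : N.Normal] (lam : N → ℂ) (hlam : Cfsg.IsCharacter N lam ∧ lam 1 = 1) (hinv : ∀ (g : G) (n : N), lam ⟨g * n * g⁻¹, hN.conj_mem (n : G) n.2 g⟩ = lam n) (hcop : Nat.Coprime N.index (orderOf lam)) : ∃ μ : G → ℂ, (Cfsg.IsCharacter G μ ∧ μ 1 = 1 ∧ (∀ n : N, μ n = lam n) ∧ orderOf μ = orderOf lam) ∧ ∀ μ' : G → ℂ, Cfsg.IsCharacter G μ' ∧ μ' 1 = 1 → (∀ n : N, μ' n = lam n) → Nat.Coprime N.index (orderOf μ') → μ' = μ := by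
  classical
  obtain ⟨f, rfl⟩ := Lib.Helper19Lin.exists_hom_of_linear hlam.1 hlam.2
  rw [Lib.Helper19Lin.orderOf_homFun] at hcop
  have hinv' : ∀ (g : G) (d : N), f ⟨g * d * g⁻¹, hN.conj_mem (d : G) d.2 g⟩ = f d := by
    intro g d
    exact Units.ext (hinv g d)
  obtain ⟨μ, hμN, hord, huniq⟩ := abstract_ext (Lib.Helper19Lin.res N) N.index
    (fun ν hν => Lib.Helper19Lin.pow_index_eq_one_of_res_eq_one N ν hν) f hcop (MonoidHom.transfer f)
    (Lib.Helper19Lin.res_transfer_of_invariant N N le_rfl f hinv' f (fun _ => rfl))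
  refine ⟨Lib.Helper19Lin.homFun μ, ⟨Lib.Helper19Lin.isCharacter_homFun μ, Lib.Helper19Lin.homFun_one μ,
    ?_, ?_⟩, ?_⟩
  · intro x
    have := DFunLike.congr_fun hμN x
    rw [Lib.Helper19Lin.homFun_apply, Lib.Helper19Lin.homFun_apply, ← this]
    rfl
  · rw [Lib.Helper19Lin.orderOf_homFun, Lib.Helper19Lin.orderOf_homFun, hord]
  · intro μ' hμ' hμ'N hcop'
    obtain ⟨f', rfl⟩ := Lib.Helper19Lin.exists_hom_of_linear hμ'.1 hμ'.2
    rw [Lib.Helper19Lin.orderOf_homFun] at hcop'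
    congr 1
    apply huniq f' _ hcop'
    ext x
    exact hμ'N x

end Cfsg.Agent.S0865
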