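import Cfsg.Statements.S0888
import Cfsg.Agent.Lib.Helper19Ext2

set_option autoImplicit false
open Cfsg

namespace Cfsg.Agent.S0888

/-- Let N be a normal subgroup of the finite group G and ϑ an irreducible character of N invariant under conjugation by G. Suppose that for every prime p there are a subgroup P containing N, of index prime to p and with the index of N in P a power of p, and an irreducible character of P restricting to ϑ. Then ϑ is the restriction of an irreducible character of G. -/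
theorem result {G : Type*} [Group G] [Finite G] (N : Subgroup G) [hN : N.Normal] (ϑ : N → ℂ) (hϑ : Cfsg.IsIrrCharacter N ϑ) (hinv : ∀ (g : G) (n : N), ϑ ⟨g * n * g⁻¹, hN.conj_mem (n : G) n.2 g⟩ = ϑ n) (hsyl : ∀ p : ℕ, p.Prime → ∃ (P : Subgroup G) (hNP : N ≤ P) (η : P → ℂ), Nat.Coprime P.index p ∧ (∃ k : ℕ, N.relIndex P = p ^ k) ∧ Cfsg.IsIrrCharacter P η ∧ ∀ n : N, η ⟨(n : G), hNP n.2⟩ = ϑ n) : ∃ χ : G → ℂ, Cfsg.IsIrrCharacter G χ ∧ ∀ n : N, χ n = ϑ n := by
  classical
  obtain ⟨d, ρ, hρ, rfl⟩ := hϑ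
  have hc : ∀ (g : G) (n : N), N.subtype (MulAut.conjNormal g n) = g * N.subtype n * g⁻¹ :=
    fun g n => MulAut.conjNormal_apply g n
  have hinv' : ∀ (g : G) (n : N), ρ.character (MulAut.conjNormal g n) = ρ.character n := by
    intro g n
    rw [← hinv g n]
    congr 1
  haveI := Lib.Helper4Char.nontrivial_of_irreducible ρ
  obtain ⟨σ, hσ⟩ := Lib.Helper19Ext.exists_ext_of_coprime_indices N.subtype MulAut.conjNormal
    (Lib.Helper19Ext2.urep ρ) (Lib.Helper19Ext2.scal (Fin d → ℂ)) N.subtype_injective hc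
    Lib.Helper19Ext2.scal_injective Lib.Helper19Ext2.scal_central
    (Lib.Helper19Ext2.schur_units ρ) (Lib.Helper19Ext2.surj_of_invariant ρ _ hinv') (by
      intro p hp
      obtain ⟨P, hNP, η, hcop, _, hη, hηN⟩ := hsyl p hp
      obtain ⟨Y, hY, _⟩ := Lib.Helper19Ext2.exists_hom_of_char ρ (Subgroup.inclusion hNP)
        (Lib.Helper4Char.IsIrrCharacter.isCharacter hη) (fun n => hηN n)
      exact ⟨P, inferInstance, Y, fun n => hNP n.2, hcop, fun n => hY n⟩)
  obtain ⟨h1, h2⟩ := Lib.Helper19Ext2.isIrr_of_ext N.subtype ρ σ hσ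
  exact ⟨_, h1, h2⟩

end Cfsg.Agent.S0888
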