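import Cfsg.Statements.S0866
import Cfsg.Agent.Lib.Helper19Det2
import Cfsg.Agent.S0888

set_option autoImplicit false
open Cfsg

namespace Cfsg.Agent.S0866

theorem exists_sylow_over {G : Type*} [Group G] [Finite G] (N : Subgroup G) [N.Normal] (p : ℕ)
    (hp : p.Prime) : ∃ P : Subgroup G, N ≤ P ∧ Nat.Coprime P.index p ∧ ∃ k : ℕ, N.relIndex P = p ^ k := by
  haveI : Fact p.Prime := ⟨hp⟩
  obtain ⟨S⟩ : Nonempty (Sylow p (G ⧸ N)) := inferInstance
  refine ⟨(S : Subgroup (G ⧸ N)).comap (QuotientGroup.mk' N), ?_, ?_, ?_⟩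
  · conv_lhs => rw [← QuotientGroup.ker_mk' N]
    exact MonoidHom.ker_le_comap _ _
  · rw [Subgroup.index_comap_of_surjective _ (QuotientGroup.mk'_surjective N)]
    exact ((Nat.Prime.coprime_iff_not_dvd hp).2 S.not_dvd_index).symm
  · obtain ⟨k, hk⟩ := IsPGroup.iff_card.mp S.2
    refine ⟨k, ?_⟩
    have h1 : (⊥ : Subgroup (G ⧸ N)).comap (QuotientGroup.mk' N) = N := by
      rw [MonoidHom.comap_bot, QuotientGroup.ker_mk']
    have h2 := Subgroup.relIndex_comap (⊥ : Subgroup (G ⧸ N)) (QuotientGroup.mk' N)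
      ((S : Subgroup (G ⧸ N)).comap (QuotientGroup.mk' N))
    rw [h1, Subgroup.map_comap_eq_self_of_surjective
      (QuotientGroup.mk'_surjective N), Subgroup.relIndex_bot_left, hk] at h2
    exact h2

/-- Let N be a normal subgroup of the finite group G and ϑ an irreducible character of N, invariant under conjugation by G, of degree d coprime to the index of N. Then ϑ is the restriction of an irreducible character of G if and only if the determinantal character of ϑ is the restriction of a character of G of degree 1. -/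
theorem result {G : Type*} [Group G] [Finite G] (N : Subgroup G) [hN : N.Normal] (ϑ : N → ℂ) (hϑ : Cfsg.IsIrrCharacter N ϑ) (hinv : ∀ (g : G) (n : N), ϑ ⟨g * n * g⁻¹, hN.conj_mem (n : G) n.2 g⟩ = ϑ n) (d : ℕ) (hd : ϑ 1 = d) (hcop : Nat.Coprime N.index d) : (∃ χ : G → ℂ, Cfsg.IsIrrCharacter G χ ∧ (∀ n : N, χ n = ϑ n)) ↔ ∃ μ : G → ℂ, Cfsg.IsCharacter G μ ∧ μ 1 = 1 ∧ ∀ n : N, μ n = Cfsg.detChar ϑ n := by
  classical
  have hc : ∀ (g : G) (n : N), N.subtype (MulAut.conjNormal g n) = g * N.subtype n * g⁻¹ :=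
    fun g n => MulAut.conjNormal_apply g n
  constructor
  · rintro ⟨χ, hχ, hχN⟩
    have hχc := Lib.Helper4Char.IsIrrCharacter.isCharacter hχ
    obtain ⟨f, hf⟩ := Lib.Helper19Det.exists_detHom hχc
    refine ⟨Lib.Helper19Lin.homFun f, Lib.Helper19Lin.isCharacter_homFun f,
      Lib.Helper19Lin.homFun_one f, fun n => ?_⟩
    have h1 := congrFun (Lib.Helper19Det.detChar_comp N.subtype hχc) n
    have h2 : (fun n => χ (N.subtype n)) = ϑ := funext hχN
    rw [h2, hf] at h1
    exact h1.symm
  · rintro ⟨μ, hμ, hμ1, hμN⟩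
    obtain ⟨f, rfl⟩ := Lib.Helper19Lin.exists_hom_of_linear hμ hμ1
    apply S0888.result N ϑ hϑ hinv
    intro p hp
    haveI : Fact p.Prime := ⟨hp⟩
    obtain ⟨P, hNP, hPcop, k, hk⟩ := exists_sylow_over N p hp
    have hsolv : Group.IsSolvable (P ⧸ N.subgroupOf P) := by
      have h1 : IsPGroup p (P ⧸ N.subgroupOf P) := by
        apply IsPGroup.of_card (n := k)
        rw [← Subgroup.index_eq_card]
        exact hk
      haveI := h1.isNilpotent
      infer_instance
    obtain ⟨η, hη, hηN⟩ := Lib.Helper19Det2.ext_of_det_solvable hϑ d hd _ P (Subgroup.inclusion hNP)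
      (Subgroup.inclusion_injective hNP) ((MulAut.conjNormal (H := N)).comp P.subtype) (by
        intro g n
        apply Subtype.ext
        exact hc g n) (by
        rw [Subgroup.inclusion_range]
        exact Lib.Helper19Solv.derivedSeries_le_of_solvable_quotient _ hsolv)
      (fun g n => hinv g n) (by
        rw [Subgroup.inclusion_range]
        exact Nat.Coprime.coprime_dvd_left (Subgroup.relIndex_dvd_index_of_normal N P) hcop)
      (f.comp P.subtype) (fun n => hμN n) rfl
    exact ⟨P, hNP, η, hPcop, ⟨k, hk⟩, hη, hηN⟩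

end Cfsg.Agent.S0866
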