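import Cfsg.Statements.S0867
import Cfsg.Agent.Lib.Helper19Det2
import Cfsg.Agent.S0862
import Cfsg.Agent.S0865
import Cfsg.Agent.S0866

set_option autoImplicit false
open Cfsg

namespace Cfsg.Agent.S0867

/-- Let N be a normal subgroup of the finite group G and ϑ an irreducible character of N of degree d, invariant under conjugation by G, such that the index of N is coprime to the product of d and the determinantal order of ϑ. Then there is an irreducible character χ of G restricting to ϑ whose determinantal order equals that of ϑ, and χ is the only irreducible character of G restricting to ϑ whose determinantal order is coprime to the index of N. -/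
theorem result {G : Type*} [Group G] [Finite G] (N : Subgroup G) [hN : N.Normal] (ϑ : N → ℂ) (hϑ : Cfsg.IsIrrCharacter N ϑ) (hinv : ∀ (g : G) (n : N), ϑ ⟨g * n * g⁻¹, hN.conj_mem (n : G) n.2 g⟩ = ϑ n) (d : ℕ) (hd : ϑ 1 = d) (hcop : Nat.Coprime N.index (Cfsg.detOrder ϑ * d)) : ∃ χ : G → ℂ, (Cfsg.IsIrrCharacter G χ ∧ (∀ n : N, χ n = ϑ n) ∧ Cfsg.detOrder χ = Cfsg.detOrder ϑ) ∧ ∀ χ' : G → ℂ, Cfsg.IsIrrCharacter G χ' → (∀ n : N, χ' n = ϑ n) → Nat.Coprime N.index (Cfsg.detOrder χ') → χ' = χ := by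
  classical
  have hϑc := Lib.Helper4Char.IsIrrCharacter.isCharacter hϑ
  obtain ⟨l, hl⟩ := Lib.Helper19Det.exists_detHom hϑc
  have hcop1 : Nat.Coprime N.index (orderOf (Cfsg.detChar ϑ)) := Nat.Coprime.coprime_mul_right_right hcop
  have hcop2 : Nat.Coprime N.index d := Nat.Coprime.coprime_mul_left_right hcop
  have hlinv : ∀ (g : G) (n : N), Cfsg.detChar ϑ ⟨g * n * g⁻¹, hN.conj_mem (n : G) n.2 g⟩
      = Cfsg.detChar ϑ n := by
    intro g n
    have h1 := congrFun (Lib.Helper19Det.detChar_comp (MulAut.conjNormal g : MulAut N).toMonoidHom hϑc) n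
    have h2 : (fun n => ϑ ((MulAut.conjNormal g : MulAut N).toMonoidHom n)) = ϑ := by
      funext n
      exact hinv g n
    rw [h2] at h1
    rw [h1]
    rfl
  have hlchar : Cfsg.IsCharacter N (Cfsg.detChar ϑ) ∧ Cfsg.detChar ϑ 1 = 1 := by
    rw [hl]
    exact ⟨Lib.Helper19Lin.isCharacter_homFun l, Lib.Helper19Lin.homFun_one l⟩
  obtain ⟨μ, ⟨hμ, hμ1, hμN, hμo⟩, hμuniq⟩ := S0865.result N (Cfsg.detChar ϑ) hlchar hlinv hcop1
  have hext := (S0866.result N ϑ hϑ hinv d hd hcop2).2 ⟨μ, hμ, hμ1, hμN⟩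
  obtain ⟨χ, ⟨hχ, hχN, hχdet⟩, hχuniq⟩ := S0862.result N ϑ hϑ d hd hcop2 hext μ ⟨hμ, hμ1⟩ hμN
  refine ⟨χ, ⟨hχ, hχN, ?_⟩, ?_⟩
  · unfold Cfsg.detOrder
    rw [hχdet, hμo]
  · intro χ' hχ' hχ'N hcop'
    apply hχuniq
    refine ⟨hχ', hχ'N, ?_⟩
    have hχ'c := Lib.Helper4Char.IsIrrCharacter.isCharacter hχ'
    obtain ⟨f, hf⟩ := Lib.Helper19Det.exists_detHom hχ'c
    apply hμuniq
    · rw [hf]
      exact ⟨Lib.Helper19Lin.isCharacter_homFun f, Lib.Helper19Lin.homFun_one f⟩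
    · intro n
      have h1 := congrFun (Lib.Helper19Det.detChar_comp N.subtype hχ'c) n
      have h2 : (fun n => χ' (N.subtype n)) = ϑ := funext hχ'N
      rw [h2] at h1
      exact h1.symm
    · exact hcop'

end Cfsg.Agent.S0867
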