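import Cfsg.Statements.S0178
import Mathlib
import Cfsg.Agent.Lib.Helper4Char

set_option autoImplicit false
open Cfsg

namespace Cfsg.Agent.S0178

/-- The degree of an irreducible complex representation of a finite group is at most the index of any abelian subgroup. -/
theorem result {G : Type*} [Group G] [Finite G] {V : Type*} [AddCommGroup V] [Module ℂ V] [FiniteDimensional ℂ V] (ρ : Representation ℂ G V) [ρ.IsIrreducible] (A : Subgroup G) (hA : ∀ a ∈ A, ∀ b ∈ A, a * b = b * a) : Module.finrank ℂ V ≤ A.index := by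
  classical
  haveI : Fintype (G ⧸ A) := Fintype.ofFinite _
  haveI hnt : Nontrivial V := Lib.Helper4Char.nontrivial_of_irreducible ρ
  haveI : IsMulCommutative A := ⟨⟨fun a b => Subtype.ext (hA a a.2 b b.2)⟩⟩
  let σ : Representation ℂ A V := ρ.comp A.subtype
  have htop : (⊤ : Subrepresentation σ) ≠ ⊥ := by
    intro h
    have h1 : (⊤ : Submodule ℂ V) = ⊥ := congrArg Subrepresentation.toSubmodule h
    exact top_ne_bot h1
  obtain ⟨U, -, hU⟩ := Lib.Helper4Char.exists_irreducible_le σ ⊤ htop
  have hU1 : Module.finrank ℂ U.toSubmodule = 1 :=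
    Representation.IsIrreducible.finrank_eq_one_of_isMulCommutative U.toRepresentation
  obtain ⟨u, hu0, hu⟩ := finrank_eq_one_iff'.mp hU1
  have hu0' : (u : V) ≠ 0 := fun h => hu0 (Subtype.ext h)
  have heig : ∀ a ∈ A, ∃ c : ℂ, ρ a (u : V) = c • (u : V) := by
    intro a ha
    have hmem : ρ a (u : V) ∈ U.toSubmodule := U.apply_mem_toSubmodule ⟨a, ha⟩ u.2
    obtain ⟨c, hc⟩ := hu ⟨_, hmem⟩
    exact ⟨c, (congrArg Subtype.val hc).symm⟩
  let b : G ⧸ A → V := fun q => ρ q.out (u : V)
  let W : Subrepresentation ρ :=
    { toSubmodule := Submodule.span ℂ (Set.range b)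
      apply_mem_toSubmodule := by
        intro g v hv
        induction hv using Submodule.span_induction with
        | mem x hx =>
          obtain ⟨q, rfl⟩ := hx
          obtain ⟨a, ha⟩ := QuotientGroup.mk_out_eq_mul A (g * q.out)
          obtain ⟨c, hc⟩ := heig (a : G)⁻¹ (A.inv_mem a.2)
          generalize (QuotientGroup.mk (g * q.out) : G ⧸ A) = q' at ha
          have h1 : g * q.out = q'.out * (a : G)⁻¹ := by
            rw [ha]; group
          have h2 : ρ g (b q) = c • b q' := by
            change ρ g (ρ q.out (u : V)) = c • ρ _ (u : V)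
            rw [← Module.End.mul_apply, ← map_mul, h1, map_mul, Module.End.mul_apply, hc, map_smul]
          rw [h2]
          exact Submodule.smul_mem _ _ (Submodule.subset_span ⟨_, rfl⟩)
        | zero => simp
        | add x y _ _ hx hy => rw [map_add]; exact Submodule.add_mem _ hx hy
        | smul c x _ hx => rw [map_smul]; exact Submodule.smul_mem _ _ hx }
  have hWne : W ≠ ⊥ := by
    intro h
    have h1 : Submodule.span ℂ (Set.range b) = ⊥ := congrArg Subrepresentation.toSubmodule h
    have h2 : b (QuotientGroup.mk 1) ∈ Submodule.span ℂ (Set.range b) :=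
      Submodule.subset_span ⟨_, rfl⟩
    rw [h1, Submodule.mem_bot] at h2
    apply hu0'
    have h3 : ρ ((QuotientGroup.mk 1 : G ⧸ A).out)⁻¹ (b (QuotientGroup.mk 1)) = (u : V) := by
      change ρ _ (ρ _ (u : V)) = _
      rw [← Module.End.mul_apply, ← map_mul, inv_mul_cancel, map_one, Module.End.one_apply]
    rw [← h3, h2, map_zero]
  have hWtop : W = ⊤ := (eq_bot_or_eq_top W).resolve_left hWne
  have hspan : Submodule.span ℂ (Set.range b) = ⊤ := congrArg Subrepresentation.toSubmodule hWtop
  have h1 := finrank_range_le_card (R := ℂ) b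
  rw [Set.finrank, hspan, finrank_top] at h1
  rw [Subgroup.index, Nat.card_eq_fintype_card]
  exact h1

end Cfsg.Agent.S0178
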