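import Cfsg.Statements.S0970
import Cfsg.Agent.Lib.Helper20Fong

set_option autoImplicit false
open Cfsg

namespace Cfsg.Agent.S0970

open Cfsg.Agent.Lib.Helper20Cov Cfsg.Agent.Lib.Helper20Induced Cfsg.Agent.Lib.Helper87Sylow
open Cfsg.Agent.Lib.Helper20Fong Cfsg.Agent.Lib.Helper21Cover


/-- Let N be a normal subgroup of the finite group G and fix a maximal ideal M of the algebraic integers containing the prime p. Let b be a block of N that is invariant under conjugation by G, and B a block of G covering b (some χ ∈ B has a constituent in b) whose defect is at least that of every block covering b. If P is a defect group of B, then p does not divide the index of P ⊔ N, the subgroup P ∩ N of N is a defect group of b, and the defect of B equals the defect of b plus the exponent of p in the index of N. -/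
theorem result {G : Type*} [Group G] [Fintype G] (p : ℕ) [Fact p.Prime] (M : Ideal Cfsg.AlgInt) (hM : Cfsg.IsPModular p M) (N : Subgroup G) [hN : N.Normal] [Fintype N] (b : Set (Cfsg.IrrCharacter N)) (hb : Cfsg.IsPBlock M b) (hinv : ∀ g : G, ∀ θ ∈ b, ∀ θ' : Cfsg.IrrCharacter N, (∀ n : N, (θ' : N → ℂ) n = (θ : N → ℂ) ⟨g * n * g⁻¹, hN.conj_mem n n.2 g⟩) → θ' ∈ b) (B : Set (Cfsg.IrrCharacter G)) (hB : Cfsg.IsPBlock M B) (hcov : ∃ χ ∈ B, ∃ θ ∈ b, Cfsg.classInner (fun n : N => (χ : G → ℂ) n) (θ : N → ℂ) ≠ 0) (hmax : ∀ B' : Set (Cfsg.IrrCharacter G), Cfsg.IsPBlock M B' → (∃ χ ∈ B', ∃ θ ∈ b, Cfsg.classInner (fun n : N => (χ : G → ℂ) n) (θ : N → ℂ) ≠ 0) → Cfsg.blockDefect p B' ≤ Cfsg.blockDefect p B) (P : Subgroup G) (hP : Cfsg.IsDefectGroup p M B P) : ¬ p ∣ (P ⊔ N).index ∧ Cfsg.IsDefectGroup p M b ((P ⊓ N).subgroupOf N) ∧ Cfsg.blockDefect p B = Cfsg.blockDefect p b + N.index.factorization p := by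
  have hst : Stable hN b := fun θ hθ g => hinv g θ hθ (cjI hN θ g) (fun n => rfl)
  obtain ⟨B', hB', hcv', hd'⟩ := exists_covering_defect (G := G) hM hb hst
  have h1 := hmax B' hB' hcv'
  have h2 := defect_add_index hM hb hB hcov hP
  obtain ⟨Q', hQ'⟩ := exists_defectGroup hM hb
  have hQN : Q'.map N.subtype ≤ N := Subgroup.map_subtype_le _
  have hQQ : (Q'.map N.subtype).subgroupOf N = Q' :=
    Subgroup.comap_map_eq_self_of_injective N.subtype_injective Q'
  rw [← hQQ] at hQ'
  obtain ⟨x, hx⟩ := knorr hM hb hB hcov hQN hQ' hP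
  refine ⟨?_, ?_, by omega⟩
  · have h3 : (P ⊔ N).index.factorization p = 0 := by omega
    rcases (Nat.factorization_eq_zero_iff _ _).1 h3 with h | h | h
    · exact absurd Fact.out h
    · exact h
    · exact absurd h Subgroup.index_ne_zero_of_finite
  · rw [hx]
    exact isDefectGroup_cj_of_stable hst hQN hQ' x

end Cfsg.Agent.S0970
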