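import Cfsg.Statements.S5168
import Cfsg.Agent.Lib.Helper88Mathieu

set_option autoImplicit false
open Cfsg

namespace Cfsg.Agent.S5168

open Cfsg.Agent.Lib.Helper88PC Cfsg.Agent.Lib.Helper88NormCalc Cfsg.Agent.Lib.Helper88FusCert
  Cfsg.Agent.Lib.Helper88Mathieu

/-- polycyclic generating sequence of a Sylow 2-subgroup: `(x, x⁻¹, B)` -/
def pcData : List (ℕ × ℕ × ℕ) := [(984810632433468833829208837308427744, 984810632433468833829208837308427744, 8192), (964807033003186894939333471354620384, 964807033003186894939333471354620384, 524290), (983560022009555626396609859128801888, 983560022009555626396609859128801888, 2), (960796265644511697179202340874633248, 960796265644511697179202340874633248, 3147996), (973804896116145416835644806975036448, 973804896116145416835644806975036448, 3145740), (971084517930466411659722882702561312, 971084517930466411659722882702561312, 12), (969202056781860934635753244362607648, 969202056781860934635753244362607648, 4)]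

def stages : List (ℕ × List (ℕ × ℕ × ℕ)) := [(2, [(1, 0, 1), (1, 0, 3), (3, 99999, 4), (1, 1, 0), (3, 99999, 16), (1, 1, 0)]), (3, [(1, 0, 1), (1, 0, 3), (1, 0, 5), (3, 99999, 4), (1, 1, 0), (3, 99999, 16), (0, 1, 0), (1, 2, 0), (3, 11, 1), (0, 2, 0), (1, 3, 0), (3, 14, 4), (0, 1, 0), (1, 2, 0), (3, 17, 8), (1, 1, 0)])]

def finProg : List (ℕ × ℕ × ℕ) := [(1, 0, 1), (1, 0, 3), (1, 0, 5), (1, 0, 7), (3, 99999, 4), (1, 1, 0), (3, 99999, 16), (0, 1, 0), (1, 2, 0), (3, 12, 1), (0, 2, 0), (1, 3, 0), (3, 15, 4), (0, 1, 0), (1, 2, 0), (3, 18, 8), (0, 1, 0), (1, 2, 0), (3, 22, 1), (0, 2, 0), (1, 3, 0), (3, 25, 4), (0, 1, 0), (1, 2, 0), (1, 25, 0), (1, 0, 7), (2, 8937586, 0), (0, 22, 0), (1, 23, 0), (0, 20, 2), (1, 21, 0), (1, 34, 7), (1, 0, 23), (2, 2384216, 0), (0, 20, 0), (1, 21, 0), (0, 18, 2), (1, 19, 0), (1, 42, 20), (1, 0, 30), (2, 1384564, 0), (0, 18, 0), (1, 19, 0), (0, 19, 2), (1, 20, 0), (1, 46, 10), (1, 0, 4), (2, 11731203, 0), (0, 20, 0), (1, 21, 0), (0, 21, 2), (1, 22, 0), (1, 55, 24), (1, 0, 11), (2, 3739786, 0), (0, 20, 0), (1, 21, 0), (0, 21, 2), (1,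 22, 0), (1, 63, 31), (1, 0, 25), (2, 3672838, 0), (0, 20, 0), (1, 21, 0), (0, 21, 2), (1, 22, 0)]

def zc : ℕ := 983548058628271758227072553185584160

def fusProg : List (ℕ × ℕ × ℕ) := [(1, 981759348998309645359734971053413664, 964807033003186894939333471354620384), (2, 982933009202886741677027277192374880, 966065889199318864952172779198879776), (3, 980115300180032735179240149059249472, 983560022009555626396609859128801888), (4, 959771408060891403376261693632397984, 984810632433468833829208837308427744), (5, 982848868702614699308511011853062720, 960796265644511697179202340874633248), (6, 974451139108269368112225024106451488, 973804896116145416835644806975036448), (0, 1, 4), (0, 0, 7), (0, 2, 3), (0, 0, 9)]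

set_option maxRecDepth 100000 in
theorem pc_ok : pcOK pcData = true := by decide +kernel

set_option maxRecDepth 100000 in
theorem gens_ok : (gensOf pcData).all in22 = true := by decide +kernel

set_option maxRecDepth 100000 in
theorem chain_ok : chainOK (elems (gensOf pcData)) [16777215, 2 ^ 23, 2 ^ 0] [] stages finProg = true := by
  decide +kernel

set_option maxRecDepth 100000 in
theorem closure_ok : closureOK in22 (elems (gensOf pcData)) (gensOf pcData) zc fusProg = true := by
  decide +kernel

/-- The 2-fusion system of the Mathieu group M₂₂ (as the explicit permutation group carved out of the automorphism group of the binary Golay code) on a Sylow 2-subgroup is simple: saturated, over a nontrivial 2-group, with no normal subsystem other than the trivial one and itself. -/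
theorem result (S : Sylow 2 Cfsg.Spor.M22) : (Cfsg.groupFusionSystem (S : Subgroup Cfsg.Spor.M22)).IsSimple 2 := by
  exact master gdata22 pcData pc_ok gens_ok fact22 (by decide) stages finProg chain_ok zc fusProg closure_ok S

end Cfsg.Agent.S5168
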