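import Cfsg.Statements.S0276
import Mathlib
import Cfsg.Agent.Lib.Helper7SL
import Cfsg.Agent.S0268

set_option autoImplicit false
open Cfsg

namespace Cfsg.Agent.S0276

open Matrix in
theorem sq_eq (F : Type*) [Field F] (g : SpecialLinearGroup (Fin 2) F) :
    (g : Matrix (Fin 2) (Fin 2) F) ^ 2
      = (g : Matrix (Fin 2) (Fin 2) F).trace • (g : Matrix (Fin 2) (Fin 2) F) - 1 := by
  have hdet := g.det_coe
  rw [Matrix.det_fin_two] at hdet
  ext i j
  fin_cases i <;> fin_cases j <;>
    simp [pow_two, Matrix.mul_apply, Fin.sum_univ_two, Matrix.trace_fin_two] <;>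
    first | ring1 | linear_combination (-1 : F) * hdet

open Matrix in
theorem sq_mem_center {F : Type*} [Field F] [Fintype F]
    (hq : Fintype.card F % 8 = 3 ∨ Fintype.card F % 8 = 5)
    (g : SpecialLinearGroup (Fin 2) F) (hg : g ^ 4 ∈ Subgroup.center (SpecialLinearGroup (Fin 2) F)) :
    g ^ 2 ∈ Subgroup.center (SpecialLinearGroup (Fin 2) F) := by
  have hodd : Odd (Fintype.card F) := by
    rcases hq with h | h <;> exact Nat.odd_iff.mpr (by omega)
  rw [Matrix.SpecialLinearGroup.mem_center_iff] at hg ⊢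
  obtain ⟨r, hr, hrg⟩ := hg
  simp only [Fintype.card_fin] at hr ⊢
  have hr' : (r - 1) * (r + 1) = 0 := by linear_combination hr
  rcases mul_eq_zero.mp hr' with h | h
  · have hr1 : r = 1 := by linear_combination h
    have h4 : g ^ 2 * g ^ 2 = 1 := by
      apply Subtype.ext
      rw [← pow_add]
      rw [← hrg, hr1]
      simp
    by_cases h1 : g ^ 2 = 1
    · exact ⟨1, by simp, by rw [h1]; simp⟩
    · refine ⟨-1, by simp, ?_⟩
      rw [Cfsg.Agent.S0268.result hodd (g ^ 2) h1 h4, map_neg, map_one]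
  · exfalso
    have hr1 : r = -1 := by linear_combination h
    set M := (g : Matrix (Fin 2) (Fin 2) F) with hM
    set t := M.trace with ht
    have h2 : M ^ 2 = t • M - 1 := sq_eq F g
    have h4 : M ^ 4 = -1 := by
      have : ((g ^ 4 : SpecialLinearGroup (Fin 2) F) : Matrix (Fin 2) (Fin 2) F) = M ^ 4 := by simp [hM]
      rw [← this, ← hrg, hr1, map_neg, map_one]
    have htM : t • M = M ^ 2 + 1 := by rw [h2]; abel
    have h5 : M ^ 4 = (t ^ 2 - 2) • M ^ 2 - 1 := by
      have e1 : M ^ 4 = M ^ 2 * M ^ 2 := by rw [← pow_add]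
      have e2 : M ^ 2 * M ^ 2 = (t • M - 1) * (t • M - 1) := by rw [← h2]
      have e3 : (t • M - 1) * (t • M - 1) = t ^ 2 • M ^ 2 - (2 : F) • (t • M) + 1 := by
        simp only [sub_mul, mul_sub, one_mul, mul_one, smul_mul_assoc, mul_smul_comm, smul_smul, pow_two]
        module
      rw [e1, e2, e3, htM]
      module
    have h6 : (t ^ 2 - 2) • M ^ 2 = 0 := by
      have : (t ^ 2 - 2) • M ^ 2 - 1 = -1 := by rw [← h5, h4]
      simpa using this
    have h7 : t ^ 2 - 2 = 0 := by
      have hd := congrArg Matrix.det h6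
      rw [Matrix.det_smul, Matrix.det_pow] at hd
      simp [hM] at hd
      exact hd
    have h8 : IsSquare (2 : F) := ⟨t, by linear_combination (-1 : F) * h7⟩
    rw [FiniteField.isSquare_two_iff] at h8
    rcases hq with h | h
    · exact h8.1 h
    · exact h8.2 h

/-- For q = 3 or 5 mod 8 the Sylow 2-subgroups of PSL_2(q) are elementary abelian of order 4. -/
theorem result {F : Type*} [Field F] [Fintype F] {q : ℕ} (hF : Fintype.card F = q) (hq : q % 8 = 3 ∨ q % 8 = 5) (P : Sylow 2 (Matrix.ProjectiveSpecialLinearGroup (Fin 2) F)) : IsKleinFour (P : Subgroup (Matrix.ProjectiveSpecialLinearGroup (Fin 2) F)) := by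
  have hq' : Fintype.card F % 8 = 3 ∨ Fintype.card F % 8 = 5 := by rw [hF]; exact hq
  have hodd : Odd (Fintype.card F) := by
    rcases hq' with h | h <;> exact Nat.odd_iff.mpr (by omega)
  have hcard := Cfsg.Agent.Lib.Helper7SL.card_PSL_two_mul_two hodd
  rw [hF] at hcard
  have hP : Nat.card P = 4 := by
    rw [Sylow.card_eq_multiplicity]
    obtain ⟨m, hm, hmodd⟩ : ∃ m, Nat.card (Matrix.ProjectiveSpecialLinearGroup (Fin 2) F) = 4 * m ∧ ¬ 2 ∣ m := by
      rcases hq with h | h
      · obtain ⟨k, rfl⟩ : ∃ k, q = 8 * k + 3 := ⟨q / 8, by omega⟩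
        have e : (8 * k + 3) ^ 2 - 1 = 8 * (8 * k ^ 2 + 6 * k + 1) := by
          apply Nat.sub_eq_of_eq_add; ring
        rw [e] at hcard
        refine ⟨(8 * k + 3) * (8 * k ^ 2 + 6 * k + 1), by nlinarith, ?_⟩
        rw [Nat.Prime.dvd_mul Nat.prime_two]
        omega
      · obtain ⟨k, rfl⟩ : ∃ k, q = 8 * k + 5 := ⟨q / 8, by omega⟩
        have e : (8 * k + 5) ^ 2 - 1 = 8 * (8 * k ^ 2 + 10 * k + 3) := by
          apply Nat.sub_eq_of_eq_add; ring
        rw [e] at hcard
        refine ⟨(8 * k + 5) * (8 * k ^ 2 + 10 * k + 3), by nlinarith, ?_⟩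
        rw [Nat.Prime.dvd_mul Nat.prime_two]
        omega
    have hm0 : m ≠ 0 := by rintro rfl; simp at hmodd
    rw [hm, Nat.factorization_mul (by norm_num) hm0, Finsupp.add_apply,
      Nat.factorization_eq_zero_of_not_dvd hmodd, show (4 : ℕ) = 2 ^ 2 by norm_num,
      Nat.prime_two.factorization_pow]
    simp
  refine ⟨hP, ?_⟩
  have : Nontrivial (P : Subgroup (Matrix.ProjectiveSpecialLinearGroup (Fin 2) F)) := by
    have : Finite (P : Subgroup (Matrix.ProjectiveSpecialLinearGroup (Fin 2) F)) := inferInstance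
    rw [← Finite.one_lt_card_iff_nontrivial]
    have : Nat.card (P : Subgroup (Matrix.ProjectiveSpecialLinearGroup (Fin 2) F)) = 4 := hP
    omega
  rw [Monoid.exponent_eq_prime_iff Nat.prime_two]
  intro x hx
  apply orderOf_eq_prime _ hx
  have hx4 : x ^ 4 = 1 := by
    have : Nat.card (P : Subgroup (Matrix.ProjectiveSpecialLinearGroup (Fin 2) F)) = 4 := hP
    rw [← this]; exact pow_card_eq_one'
  obtain ⟨y, hy⟩ := x
  obtain ⟨g, rfl⟩ := QuotientGroup.mk_surjective y
  have hx4' : ((g ^ 4 : Matrix.SpecialLinearGroup (Fin 2) F) : Matrix.ProjectiveSpecialLinearGroup (Fin 2) F) = 1 := by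
    have := congrArg Subtype.val hx4
    simpa using this
  apply Subtype.ext
  have : ((g ^ 2 : Matrix.SpecialLinearGroup (Fin 2) F) : Matrix.ProjectiveSpecialLinearGroup (Fin 2) F) = 1 := by
    rw [QuotientGroup.eq_one_iff] at hx4' ⊢
    exact sq_mem_center hq' g hx4'
  simpa using this

end Cfsg.Agent.S0276
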