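import Cfsg.Statements.S0992
import Cfsg.Agent.Lib.Helper21Omega
import Cfsg.Agent.Lib.Helper21Simple

set_option autoImplicit false
open Cfsg

namespace Cfsg.Agent.S0992

theorem isKleinFour_of_card_four {H : Type*} [Group H] (h4 : Nat.card H = 4)
    (hc : ¬ IsCyclic H) : IsKleinFour H := by
  have : Finite H := Nat.finite_of_card_ne_zero (by omega)
  have hsq : ∀ x : H, x ^ 2 = 1 := by
    intro x
    have h1 : orderOf x ∣ 4 := h4 ▸ orderOf_dvd_natCard x
    have h2 : orderOf x ≠ 4 := fun h => hc (isCyclic_of_orderOf_eq_card x (h.trans h4.symm))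
    have h3 : orderOf x ≤ 4 := Nat.le_of_dvd (by norm_num) h1
    have h5 : orderOf x ∣ 2 := by
      generalize orderOf x = o at *
      interval_cases o <;> simp_all (config := {decide := true})
    exact orderOf_dvd_iff_pow_eq_one.mp h5
  refine ⟨h4, ?_⟩
  have h1 : Monoid.exponent H ∣ 2 := Monoid.exponent_dvd_of_forall_pow_eq_one hsq
  rcases (Nat.dvd_prime Nat.prime_two).mp h1 with h | h
  · exfalso
    have : Subsingleton H := Monoid.exp_eq_one_iff.mp h
    have : Nat.card H = 1 := Nat.card_unique
    omega
  · exact h

theorem card_involutions {H : Type*} [Group H] [IsKleinFour H] :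
    Nat.card {z : H // orderOf z = 2} = 3 := by
  classical
  have : Finite H := IsKleinFour.instFinite
  have : Fintype H := Fintype.ofFinite H
  have h : ∀ z : H, orderOf z = 2 ↔ z ≠ 1 := by
    intro z
    rw [orderOf_eq_prime_iff]
    constructor
    · exact fun h => h.2
    · intro h
      exact ⟨by rw [sq]; exact IsKleinFour.mul_self z, h⟩
  rw [Nat.card_congr (Equiv.subtypeEquivRight h), Nat.card_eq_fintype_card,
    Fintype.card_subtype_compl, Fintype.card_subtype_eq, IsKleinFour.card_four']

open Cfsg.Agent.Lib.Helper21Omega Cfsg.Agent.Lib.Helper21Simple in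
/-- Let G be a non-abelian finite simple group of even order not divisible by 8, and T a Sylow 2-subgroup. Then T is a Klein four-group and the centralizer of T has index 3 in the normalizer of T. -/
theorem result {G : Type*} [Group G] [Finite G] [IsSimpleGroup G] (hG : ¬ IsMulCommutative G) (h2 : Even (Nat.card G)) (h8 : ¬ 8 ∣ Nat.card G) (T : Sylow 2 G) : IsKleinFour ↥(T : Subgroup G) ∧ (Subgroup.centralizer ((T : Subgroup G) : Set G)).relIndex (Subgroup.normalizer ((T : Subgroup G) : Set G)) = 3 := by
  have h2' : 2 ∣ Nat.card G := even_iff_two_dvd.mp h2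
  have hmin : (Nat.card G).minFac = 2 := (Nat.minFac_eq_two_iff _).mpr h2'
  have hnc : ¬ IsCyclic (T : Subgroup G) := not_isCyclic_sylow_minFac hG hmin T
  have hcard : Nat.card (T : Subgroup G) = 4 := by
    obtain ⟨k, hk⟩ := T.2.exists_card_eq
    have hdvd : Nat.card (T : Subgroup G) ∣ Nat.card G := Subgroup.card_subgroup_dvd_card _
    have hk3 : k < 3 := by
      by_contra hcon
      apply h8
      refine dvd_trans ?_ hdvd
      rw [hk]
      exact pow_dvd_pow 2 (not_lt.mp hcon)
    interval_cases k
    · exfalso
      apply hnc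
      have : Subsingleton (T : Subgroup G) :=
        (Nat.card_eq_one_iff_unique.mp (by simpa using hk)).1
      infer_instance
    · exfalso
      apply hnc
      exact isCyclic_of_prime_card (p := 2) (by simpa using hk)
    · simpa using hk
  have hK : IsKleinFour (T : Subgroup G) := isKleinFour_of_card_four hcard hnc
  refine ⟨hK, ?_⟩
  have hc : ∀ a ∈ (T : Subgroup G), ∀ b ∈ (T : Subgroup G), a * b = b * a := by
    intro a ha b hb
    have := (IsKleinFour.isMulCommutative (G := (T : Subgroup G))).is_comm.comm ⟨a, ha⟩ ⟨b, hb⟩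
    exact congrArg Subtype.val this
  rcases relIndex_one_or_three T hc card_involutions with h1 | h3
  · exfalso
    rw [Subgroup.relIndex_eq_one] at h1
    exact not_normalizer_le_centralizer hG T h2' h1
  · exact h3

end Cfsg.Agent.S0992
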