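import Cfsg.Statements.S0084
import Cfsg.Agent.Lib.Helper2PComp
import Cfsg.Agent.Lib.Helper2Automizer
import Mathlib.Tactic.NormNum.Prime

set_option autoImplicit false
open Cfsg

namespace Cfsg.Agent.S0084

/-- A group whose Sylow 2-subgroups are Klein four-groups and whose order is prime to 3 has a normal 2-complement. -/
theorem result {G : Type*} [Group G] [Finite G] (T : Sylow 2 G) (hT : IsKleinFour T) (h3 : ¬ 3 ∣ Nat.card G) : Cfsg.HasNormalPComplement 2 G := by
  have hc : IsMulCommutative T := IsKleinFour.isMulCommutative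
  have h4 : Nat.card T = 4 := hT.card_four
  apply Cfsg.Agent.Lib.Helper2PComp.hasNormalPComplement_of_normalizer_le_centralizer T
  apply Cfsg.Agent.Lib.Helper2Automizer.normalizer_le_centralizer_of_modEq T
  intro q hq hqG hq2 d hd hd4 hmod
  rw [h4] at hd hd4 hmod
  have hdle : d ≤ 4 := Nat.le_of_dvd (by norm_num) hd
  have hdvd : q ∣ 4 - d := (Nat.modEq_iff_dvd' hdle).1 hmod.symm
  interval_cases d
  · simp at hd
  · have : q = 3 := (Nat.prime_dvd_prime_iff_eq hq (by norm_num)).1 hdvd
    exact h3 (this ▸ hqG)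
  · have : q = 2 := (Nat.prime_dvd_prime_iff_eq hq (by norm_num)).1 hdvd
    exact hq2 this
  · norm_num at hd
  · exact hd4 rfl

end Cfsg.Agent.S0084
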