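import Cfsg.Statements.S2562
import Cfsg.Agent.Lib.Helper48F2Minus

set_option autoImplicit false
open Cfsg

namespace Cfsg.Agent.S2562

open Cfsg.Agent.Lib.Helper48F2Sum Cfsg.Agent.Lib.Helper48F2Quad Cfsg.Agent.Lib.Helper48F2Type
  Cfsg.Agent.Lib.Helper48F2Minus Module

variable {m : ℕ}

theorem polB_nondeg (m : ℕ) : (polB m).Nondegenerate := by
  constructor
  · intro x hx
    by_contra hne
    obtain ⟨u, hu⟩ := pol_nondeg x hne
    have := hx u
    rw [polB_apply, pol_comm, hu] at this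
    exact absurd this (by decide)
  · intro x hx
    by_contra hne
    obtain ⟨u, hu⟩ := pol_nondeg x hne
    have := hx u
    rw [polB_apply, hu] at this
    exact absurd this (by decide)

theorem finrank_VV (m : ℕ) : finrank (ZMod 2) (VV m) = 2 * m := by
  simp [two_mul]

theorem le_orth {q : VV m → ZMod 2} (hq : IsQ m q) (U : Submodule (ZMod 2) (VV m))
    (hU : ∀ u ∈ U, q u = 0) : U ≤ (polB m).orthogonal U := by
  intro v hv
  rw [LinearMap.BilinForm.mem_orthogonal_iff]
  intro u hu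
  have h := hq u v
  rw [hU _ (U.add_mem hu hv), hU u hu, hU v hv] at h
  rw [polB_apply]
  simpa using h.symm

theorem finrank_le {q : VV m → ZMod 2} (hq : IsQ m q) (U : Submodule (ZMod 2) (VV m))
    (hU : ∀ u ∈ U, q u = 0) : finrank (ZMod 2) U ≤ m := by
  have h1 := Submodule.finrank_mono (le_orth hq U hU)
  have h2 := LinearMap.BilinForm.finrank_orthogonal (polB_nondeg m) U
  rw [finrank_VV] at h2
  omega

theorem S_of_max {q : VV m → ZMod 2} (hq : IsQ m q) (U : Submodule (ZMod 2) (VV m))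
    (hU : ∀ u ∈ U, q u = 0) (hdim : finrank (ZMod 2) U = m) : S q = 2 ^ m := by
  classical
  have : Fintype U := Fintype.ofFinite U
  have hUU : U = (polB m).orthogonal U := by
    apply Submodule.eq_of_le_of_finrank_eq (le_orth hq U hU)
    rw [LinearMap.BilinForm.finrank_orthogonal (polB_nondeg m) U, finrank_VV, hdim]
    omega
  have hcard : (Fintype.card U : ℤ) = 2 ^ m := by
    rw [Module.card_eq_pow_finrank (K := ZMod 2) (V := U), hdim]
    simp
  have h1 : (Fintype.card U : ℤ) * S q = ∑ u : U, ∑ v, chi (q (v + u)) := by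
    have : ∀ u : U, ∑ v, chi (q (v + u)) = S q := fun u =>
      Fintype.sum_equiv (Equiv.addRight (u : VV m)) _ _ (fun _ => rfl)
    rw [Finset.sum_congr rfl (fun u _ => this u)]
    simp
  have h2 : ∀ v : VV m, ∑ u : U, chi (q (v + u)) = if v ∈ U then (Fintype.card U : ℤ) else 0 := by
    intro v
    have e : ∀ u : U, chi (q (v + u)) = chi (q v) * chi (pol m v u) := by
      intro u
      rw [hq, hU u u.2, add_zero, chi_add]
    rw [Finset.sum_congr rfl (fun u _ => e u), ← Finset.mul_sum]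
    split_ifs with hv
    · have : ∀ u : U, chi (pol m v u) = 1 := by
        intro u
        have h3 := le_orth hq U hU u.2
        rw [LinearMap.BilinForm.mem_orthogonal_iff] at h3
        have := h3 v hv
        rw [polB_apply] at this
        rw [this, chi_zero]
      rw [Finset.sum_congr rfl (fun u _ => this u), hU v hv, chi_zero]
      simp
    · have hv' : v ∉ (polB m).orthogonal U := by rw [← hUU]; exact hv
      rw [LinearMap.BilinForm.mem_orthogonal_iff] at hv'
      push Not at hv'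
      obtain ⟨u0, hu0, hne⟩ := hv'
      rw [polB_apply, zmod2_ne_zero, pol_comm] at hne
      rw [chi_sum_zero (fun u : U => pol m v u) (fun u u' => pol_add_right v u u') ⟨u0, hu0⟩ hne, mul_zero]
  rw [Finset.sum_comm, Finset.sum_congr rfl (fun v _ => h2 v)] at h1
  have h3 : ∑ v : VV m, (if v ∈ U then (Fintype.card U : ℤ) else 0) = Fintype.card U * Fintype.card U := by
    rw [← Finset.sum_filter, Finset.sum_const, ← Fintype.card_subtype]
    simp
  rw [h3] at h1
  have hne : (Fintype.card U : ℤ) ≠ 0 := by rw [hcard]; exact two_pow_ne m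
  rw [← hcard]
  exact mul_left_cancel₀ hne h1

/-- embedding of the first half -/
def Lp (m : ℕ) : (Fin m → ZMod 2) →ₗ[ZMod 2] VV m where
  toFun := fun x => Sum.elim x 0
  map_add' := fun x y => by
    funext j; rcases j with i | i <;> simp
  map_smul' := fun c x => by
    funext j; rcases j with i | i <;> simp

theorem Lp_inj (m : ℕ) : Function.Injective (Lp m) := by
  intro x y h
  funext i
  exact congrFun h (.inl i)

theorem part1 (m : ℕ) : ∃ U : Submodule (ZMod 2) (VV m), (∀ u ∈ U, Q0 m u = 0) ∧ finrank (ZMod 2) U = m := by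
  refine ⟨LinearMap.range (Lp m), ?_, ?_⟩
  · rintro _ ⟨x, rfl⟩
    unfold Q0 Cfsg.quadFormPlus
    apply Finset.sum_eq_zero
    intro i _
    simp [Lp]
  · rw [LinearMap.finrank_range_of_inj (Lp_inj m)]
    simp

/-- embedding of the first part -/
def Lm (k : ℕ) : (Fin k → ZMod 2) →ₗ[ZMod 2] VM k where
  toFun := fun x => Sum.elim (Sum.elim x 0) 0
  map_add' := fun x y => by
    funext j; rcases j with (i | i) | i <;> simp
  map_smul' := fun c x => by
    funext j; rcases j with (i | i) | i <;> simp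

theorem Lm_inj (k : ℕ) : Function.Injective (Lm k) := by
  intro x y h
  funext i
  exact congrFun h (.inl (.inl i))

theorem part3 (k : ℕ) : ∃ U : Submodule (ZMod 2) (VM k), (∀ u ∈ U, Qm k u = 0) ∧ finrank (ZMod 2) U = k := by
  refine ⟨LinearMap.range (Lm k), ?_, ?_⟩
  · rintro _ ⟨x, rfl⟩
    unfold Qm Cfsg.quadFormMinus
    simp [Lm]
  · rw [LinearMap.finrank_range_of_inj (Lm_inj k)]
    simp

theorem part4 (k : ℕ) (U : Submodule (ZMod 2) (VM k)) (hU : ∀ u ∈ U, Qm k u = 0) :
    finrank (ZMod 2) U ≤ k := by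
  set U' : Submodule (ZMod 2) (VV (k + 1)) := U.map (hEq k).symm.toLinearMap with hU'
  have hfin : finrank (ZMod 2) U' = finrank (ZMod 2) U := LinearEquiv.finrank_map_eq (hEq k).symm U
  have hsing : ∀ u ∈ U', qw (w1 k) u = 0 := by
    rintro _ ⟨u, hu, rfl⟩
    rw [qw_w1]
    simpa using hU u hu
  have h1 := finrank_le (isQ_qw (w1 k)) U' hsing
  by_contra hlt
  have h2 : finrank (ZMod 2) U' = k + 1 := by omega
  have h3 := S_of_max (isQ_qw (w1 k)) U' hsing h2
  rw [S_qw, Q0_w1, chi_one] at h3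
  have := two_pow_ne (k + 1)
  omega

theorem result (m : ℕ) (hm : 1 ≤ m) :
    (∃ U : Submodule (ZMod 2) (Fin m ⊕ Fin m → ZMod 2), (∀ u ∈ U, Cfsg.quadFormPlus m (ZMod 2) u = 0) ∧ Module.finrank (ZMod 2) ↥U = m) ∧
    (∀ U : Submodule (ZMod 2) (Fin m ⊕ Fin m → ZMod 2), (∀ u ∈ U, Cfsg.quadFormPlus m (ZMod 2) u = 0) → Module.finrank (ZMod 2) ↥U ≤ m) ∧
    (∃ U : Submodule (ZMod 2) ((Fin (m - 1) ⊕ Fin (m - 1)) ⊕ Fin 2 → ZMod 2), (∀ u ∈ U, Cfsg.quadFormMinus (m - 1) (ZMod 2) 1 1 u = 0) ∧ Module.finrank (ZMod 2) ↥U = m - 1) ∧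
    (∀ U : Submodule (ZMod 2) ((Fin (m - 1) ⊕ Fin (m - 1)) ⊕ Fin 2 → ZMod 2), (∀ u ∈ U, Cfsg.quadFormMinus (m - 1) (ZMod 2) 1 1 u = 0) → Module.finrank (ZMod 2) ↥U ≤ m - 1) := by
  obtain ⟨k, rfl⟩ : ∃ k, m = k + 1 := ⟨m - 1, by omega⟩
  exact ⟨part1 (k + 1), fun U hU => finrank_le isQ_Q0 U hU, part3 k, part4 k⟩

end Cfsg.Agent.S2562
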