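import Cfsg.Statements.S5396
import Cfsg.Agent.Lib.Helper91ES
import Cfsg.Agent.S2562

set_option autoImplicit false
open Cfsg

namespace Cfsg.Agent.S5396

open Cfsg.Agent.Lib.Helper91ES

/-- bilinear form with diagonal the plus-type quadratic form. -/
def bPlus (m : ℕ) :
    (Fin m ⊕ Fin m → ZMod 2) →ₗ[ZMod 2] (Fin m ⊕ Fin m → ZMod 2) →ₗ[ZMod 2] ZMod 2 :=
  LinearMap.mk₂ (ZMod 2) (fun u v => ∑ i : Fin m, u (.inl i) * v (.inr i))
    (by intros; simp [add_mul, Finset.sum_add_distrib])
    (by intros; simp [Finset.mul_sum, mul_assoc])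
    (by intros; simp [mul_add, Finset.sum_add_distrib])
    (by intros; simp [Finset.mul_sum, mul_left_comm])

theorem bPlus_apply (m : ℕ) (u v : Fin m ⊕ Fin m → ZMod 2) :
    bPlus m u v = ∑ i : Fin m, u (.inl i) * v (.inr i) := rfl

theorem bPlus_self (m : ℕ) (u : Fin m ⊕ Fin m → ZMod 2) :
    bPlus m u u = quadFormPlus m (ZMod 2) u := rfl

theorem bPlus_nondeg (m : ℕ) (u : Fin m ⊕ Fin m → ZMod 2)
    (h : ∀ v, bPlus m u v + bPlus m v u = 0) : u = 0 := by
  funext j
  rcases j with i | i
  · have := h (Pi.single (.inr i) 1)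
    simpa [bPlus_apply, Pi.single_apply] using this
  · have := h (Pi.single (.inl i) 1)
    simpa [bPlus_apply, Pi.single_apply] using this

/-- bilinear form with diagonal the minus-type quadratic form. -/
def bMinus (m : ℕ) :
    ((Fin m ⊕ Fin m) ⊕ Fin 2 → ZMod 2) →ₗ[ZMod 2] ((Fin m ⊕ Fin m) ⊕ Fin 2 → ZMod 2) →ₗ[ZMod 2]
      ZMod 2 :=
  LinearMap.mk₂ (ZMod 2) (fun u v => (∑ i : Fin m, u (.inl (.inl i)) * v (.inl (.inr i))) +
      (u (.inr 0) * v (.inr 0) + u (.inr 0) * v (.inr 1) + u (.inr 1) * v (.inr 1)))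
    (by intros; simp only [Pi.add_apply, add_mul, Finset.sum_add_distrib]; ring)
    (by intros; simp only [Pi.smul_apply, smul_eq_mul, Finset.mul_sum, mul_assoc, mul_add])
    (by intros; simp only [Pi.add_apply, mul_add, Finset.sum_add_distrib]; ring)
    (by intros; simp only [Pi.smul_apply, smul_eq_mul, Finset.mul_sum, mul_left_comm, mul_add])

theorem bMinus_apply (m : ℕ) (u v : (Fin m ⊕ Fin m) ⊕ Fin 2 → ZMod 2) :
    bMinus m u v = (∑ i : Fin m, u (.inl (.inl i)) * v (.inl (.inr i))) +
      (u (.inr 0) * v (.inr 0) + u (.inr 0) * v (.inr 1) + u (.inr 1) * v (.inr 1)) := rfl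

theorem bMinus_self (m : ℕ) (u : (Fin m ⊕ Fin m) ⊕ Fin 2 → ZMod 2) :
    bMinus m u u = quadFormMinus m (ZMod 2) 1 1 u := by
  rw [bMinus_apply]
  unfold quadFormMinus
  ring

theorem bMinus_nondeg (m : ℕ) (u : (Fin m ⊕ Fin m) ⊕ Fin 2 → ZMod 2)
    (h : ∀ v, bMinus m u v + bMinus m v u = 0) : u = 0 := by
  have key : ∀ x y : ZMod 2, x + y + y = 0 → x = 0 := by decide
  have key' : ∀ x y : ZMod 2, x + (x + y) = 0 → y = 0 := by decide
  funext j
  rcases j with (i | i) | i
  · have := h (Pi.single (.inl (.inr i)) 1)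
    simpa [bMinus_apply, Pi.single_apply] using this
  · have := h (Pi.single (.inl (.inl i)) 1)
    simpa [bMinus_apply, Pi.single_apply] using this
  · fin_cases i
    · have := h (Pi.single (.inr 1) 1)
      simp [bMinus_apply, Pi.single_apply] at this
      exact key _ _ this
    · have := h (Pi.single (.inr 0) 1)
      simp [bMinus_apply, Pi.single_apply] at this
      exact key' _ _ this

/-- For every n ≥ 1 there exist finite extraspecial 2-groups of order 2^(2n+1) whose 2-rank (the largest rank of an elementary abelian subgroup) is n, and ones whose 2-rank is n + 1 (so for each such order there are two non-isomorphic extraspecial 2-groups, told apart by their 2-rank). -/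
theorem result (n : ℕ) (hn : 1 ≤ n) : ∀ r ∈ ({n, n + 1} : Set ℕ), ∃ (E : Type) (_ : Group E) (_ : Finite E), Cfsg.IsExtraspecial 2 E ∧ Nat.card E = 2 ^ (2 * n + 1) ∧ sSup {k : ℕ | ∃ A : Subgroup E, Cfsg.IsElementaryAbelian 2 A ∧ Nat.card A = 2 ^ k} = r := by
  obtain ⟨p1, p2, m1, m2⟩ := Cfsg.Agent.S2562.result n hn
  intro r hr
  simp only [Set.mem_insert_iff, Set.mem_singleton_iff] at hr
  rcases hr with rfl | rfl
  · refine ⟨Ext (bMinus (r - 1)), inferInstance, inferInstance, ?_, ?_, ?_⟩
    · exact isExtraspecial (bMinus_nondeg (r - 1))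
    · rw [card_ext, Nat.card_eq_fintype_card, Fintype.card_fun]
      simp only [ZMod.card, Fintype.card_sum, Fintype.card_fin]
      have : r - 1 + (r - 1) + 2 = 2 * r := by omega
      rw [this, pow_succ, mul_comm]
    · have := sSup_rank (β := bMinus (r - 1)) (r - 1)
        (by simpa only [bMinus_self] using m1) (by simpa only [bMinus_self] using m2)
      rw [this]
      omega
  · have : Nonempty (Fin n ⊕ Fin n) := ⟨.inl ⟨0, hn⟩⟩
    refine ⟨Ext (bPlus n), inferInstance, inferInstance, ?_, ?_, ?_⟩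
    · exact isExtraspecial (bPlus_nondeg n)
    · rw [card_ext, Nat.card_eq_fintype_card, Fintype.card_fun]
      simp only [ZMod.card, Fintype.card_sum, Fintype.card_fin]
      have : n + n = 2 * n := by omega
      rw [this, pow_succ, mul_comm]
    · exact sSup_rank (β := bPlus n) n p1 p2

end Cfsg.Agent.S5396
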