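import Cfsg.Statements.S5350
import Cfsg.Agent.Lib.Helper60TTf

set_option autoImplicit false
open Cfsg

namespace Cfsg.Agent.S5350

open Cfsg.Agent.Lib.Helper91Trans Cfsg.Agent.Lib.Helper91V Cfsg.Agent.Lib.Helper60TTa
  Cfsg.Agent.Lib.Helper60TTb Cfsg.Agent.Lib.Helper60TTc Cfsg.Agent.Lib.Helper60TTd
  Cfsg.Agent.Lib.Helper60TTe Cfsg.Agent.Lib.Helper60TTf

variable {G : Type*} [Group G] {D : Set G}

/-- the `W`-relation -/
def WR (D : Set G) (x y : G) : Prop := x ∈ D ∧ y ∈ D ∧ Dn D x = Dn D y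

theorem WR.symm {x y : G} (h : WR D x y) : WR D y x := ⟨h.2.1, h.1, h.2.2.symm⟩
theorem WR.trans {x y z : G} (h : WR D x y) (h' : WR D y z) : WR D x z :=
  ⟨h.1, h'.2.1, h.2.2.trans h'.2.2⟩
theorem WR.conj (hconj : ∀ g : G, ∀ d ∈ D, g * d * g⁻¹ ∈ D) (g : G) {x y : G} (h : WR D x y) :
    WR D (g * x * g⁻¹) (g * y * g⁻¹) :=
  ⟨hconj g x h.1, hconj g y h.2.1, by rw [← image_Dn hconj, ← image_Dn hconj, h.2.2]⟩

theorem blk_W (hconj : ∀ g : G, ∀ d ∈ D, g * d * g⁻¹ ∈ D) (x : G) : Blk {y | WR D x y} :=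
  blk_of_rel (WR D) (fun _ _ h => h.symm) (fun _ _ _ h h' => h.trans h')
    (fun g _ _ h => h.conj hconj g) x

/-- the subgroup generated by the products of `W`-related pairs -/
def MW (D : Set G) : Subgroup G := Subgroup.closure {z | ∃ u v, WR D u v ∧ z = u * v}

/-- the part coming from one class -/
def XW (D : Set G) (x : G) : Subgroup G :=
  Subgroup.closure {z | ∃ u ∈ {y | WR D x y}, ∃ v ∈ {y | WR D x y}, z = u * v}

theorem XW_isPGroup [Finite G] (hD : IsThreeTranspositionSet D)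
    (hconj : ∀ g : G, ∀ d ∈ D, g * d * g⁻¹ ∈ D) (x : G) : IsPGroup 3 (XW D x) := by
  apply isPGroup_three_closure_mul hD (fun y hy => hy.2.1)
  · intro s hs y hy
    exact (blk_W hconj x).self_conj_mem hs hy
  · intro u hu v hv hc
    by_contra hne
    have huv : WR D u v := (WR.symm hu).trans hv
    have : v ∈ Dn D u := ⟨huv.2.1, fun h => hne h.symm, hc⟩
    rw [huv.2.2] at this
    exact this.2.1 rfl

theorem XW_le_MW (x : G) : XW D x ≤ MW D := by
  apply Subgroup.closure_mono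
  rintro _ ⟨u, hu, v, hv, rfl⟩
  exact ⟨u, v, (WR.symm hu).trans hv, rfl⟩

theorem MW_le_normalizer (hD : IsThreeTranspositionClass D) {x : G} (hx : x ∈ D) :
    MW D ≤ Subgroup.normalizer {y | WR D x y} := by
  have hconj := hconj_of_class hD
  unfold MW
  rw [Subgroup.closure_le]
  rintro _ ⟨u, v, huv, rfl⟩
  obtain ⟨h, hh⟩ := exists_conj_of_class hD hx huv.1
  have hxx : x ∈ {y | WR D x y} := ⟨hx, hx, rfl⟩
  have hv' : h⁻¹ * v * h ∈ {y | WR D x y} := by
    have := huv.conj hconj h⁻¹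
    rw [← hh] at this
    have e : h⁻¹ * (h * x * h⁻¹) * h⁻¹⁻¹ = x := by group
    rw [e, inv_inv] at this
    exact this
  have key := mul_conj_mem hD.1 hconj (B := {y | WR D x y}) (fun y hy => hy.2.1) (blk_W hconj x)
    hxx hv' hxx h
  have e : h * (h⁻¹ * v * h) * h⁻¹ = v := by group
  rw [hh, e] at key
  exact mem_normalizer_of_conj_mem (blk_W hconj x) hxx key

theorem MW_isPGroup [Finite G] (hD : IsThreeTranspositionClass D) : IsPGroup 3 (MW D) := by
  have hconj := hconj_of_class hD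
  -- each `XW` is normal in `MW`
  have hnorm : ∀ x ∈ D, ((XW D x).subgroupOf (MW D)).Normal := by
    intro x hx
    rw [Subgroup.normal_subgroupOf_iff_le_normalizer (XW_le_MW x)]
    intro m hm
    have h1 := MW_le_normalizer hD hx hm
    have h2 := MW_le_normalizer hD hx ((MW D).inv_mem hm)
    rw [Subgroup.mem_set_normalizer_iff] at h1 h2
    apply Cfsg.Agent.Lib.Helper5BaerSuzuki.mem_normalizer_closure
    · rintro _ ⟨u, hu, v, hv, rfl⟩
      exact ⟨m * u * m⁻¹, (h1 u).mp hu, m * v * m⁻¹, (h1 v).mp hv, by group⟩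
    · rintro _ ⟨u, hu, v, hv, rfl⟩
      refine ⟨m⁻¹ * u * m, ?_, m⁻¹ * v * m, ?_, by group⟩
      · have := (h2 u).mp hu
        rwa [inv_inv] at this
      · have := (h2 v).mp hv
        rwa [inv_inv] at this
  have hle : ∀ x ∈ D, (XW D x).subgroupOf (MW D) ≤ Cfsg.pCore 3 (MW D) := by
    intro x hx
    exact le_pCore (hnorm x hx) ((XW_isPGroup hD.1 hconj x).comap_subtype)
  have hall : ∀ m (hm : m ∈ MW D), (⟨m, hm⟩ : MW D) ∈ Cfsg.pCore 3 (MW D) := by
    intro m hm
    induction hm using Subgroup.closure_induction with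
    | mem z hz =>
      obtain ⟨u, v, huv, rfl⟩ := hz
      apply hle u huv.1
      rw [Subgroup.mem_subgroupOf]
      exact Subgroup.subset_closure ⟨u, ⟨huv.1, huv.1, rfl⟩, v, huv, rfl⟩
    | one => exact Subgroup.one_mem _
    | mul a b ha hb iha ihb => exact Subgroup.mul_mem _ iha ihb
    | inv a ha iha => exact Subgroup.inv_mem _ iha
  rintro ⟨m, hm⟩
  obtain ⟨k, hk⟩ := pCore_isPGroup 3 (MW D) ⟨⟨m, hm⟩, hall m hm⟩
  exact ⟨k, congrArg Subtype.val hk⟩

theorem MW_le_pCore [Finite G] (hD : IsThreeTranspositionClass D) : MW D ≤ Cfsg.pCore 3 G := by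
  have hconj := hconj_of_class hD
  apply le_pCore _ (MW_isPGroup hD)
  apply closure_normal
  rintro _ ⟨u, v, huv, rfl⟩ g
  exact ⟨g * u * g⁻¹, g * v * g⁻¹, huv.conj hconj g, by group⟩

/-- members of `D` congruent modulo `O₃(G)` have the same commuting partners -/
theorem Dn_subset_of_mem_pCore (hD : IsThreeTranspositionClass D) {d w : G} (hd : d ∈ D)
    (hw : w ∈ D) (h : d * w ∈ Cfsg.pCore 3 G) : Dn D d ⊆ Dn D w := by
  have hN := pCore_normal 3 G
  intro y hy
  have d2 := sq_one hD.1 hd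
  have y2 := sq_one hD.1 hy.1
  have w2 := sq_one hD.1 hw
  by_cases hdw : Commute d w
  · -- then `w = d`
    have h2 : (d * w) ^ 2 = 1 := by
      rw [hdw.mul_pow, pow_two, pow_two, d2, w2, one_mul]
    have h1 := eq_one_of_mem_pCore (p := 3) (m := 2) (by norm_num) h h2
    have : w = d := by
      have := eq_inv_of_mul_eq_one_right h1
      rw [this, inv_eq hD.1 hd]
    rw [this]; exact hy
  have hyw : y ≠ w := by
    rintro rfl
    exact hdw hy.2.2
  refine ⟨hy.1, hyw, ?_⟩
  by_contra hn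
  have hn' : ¬ Commute y w := fun h => hn h.symm
  -- the element `(d w d)(y w y)` is an involution in `O₃(G)`
  have hdy : d * y = y * d := hy.2.2.eq
  have b1 : w * d * w = d * w * d := braid hD.1 hw hd (fun h => hdw h.symm)
  have b2 : w * y * w = y * w * y := braid hD.1 hw hy.1 hn
  have hc0 : Commute (d * y * w * y * d) w := s4_commute d2 w2 hdy b1 b2
  have hc : Commute (y * w * y) (d * w * d) := by
    have := (commute_conj_conj_iff d (d * y * w * y * d) w).mpr hc0
    have e1 : d * (d * y * w * y * d) * d⁻¹ = y * w * y := by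
      rw [inv_eq hD.1 hd]
      calc d * (d * y * w * y * d) * d = (d * d) * y * w * y * (d * d) := by group
        _ = y * w * y := by rw [d2, one_mul, mul_one]
    have e2 : d * w * d⁻¹ = d * w * d := by rw [inv_eq hD.1 hd]
    rwa [e1, e2] at this
  have ht : (d * w * d) * (y * w * y) ∈ Cfsg.pCore 3 G := by
    have e : (d * w * d) * (y * w * y) = (d * w) * (y * (d * w) * y⁻¹) := by
      rw [inv_eq hD.1 hy.1]
      calc (d * w * d) * (y * w * y) = d * w * (d * y) * w * y := by group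
        _ = d * w * (y * d) * w * y := by rw [hdy]
        _ = (d * w) * (y * (d * w) * y) := by group
    rw [e]
    exact Subgroup.mul_mem _ h (hN.conj_mem _ h y)
  have hs1 : (d * w * d) * (d * w * d) = 1 := by
    calc (d * w * d) * (d * w * d) = d * w * (d * d) * w * d := by group
      _ = d * (w * w) * d := by rw [d2]; group
      _ = 1 := by rw [w2, mul_one, d2]
  have hs2 : (y * w * y) * (y * w * y) = 1 := by
    calc (y * w * y) * (y * w * y) = y * w * (y * y) * w * y := by group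
      _ = y * (w * w) * y := by rw [y2]; group
      _ = 1 := by rw [w2, mul_one, y2]
  have ht2 : ((d * w * d) * (y * w * y)) ^ 2 = 1 := by
    rw [hc.symm.mul_pow, pow_two, pow_two, hs1, hs2, one_mul]
  have ht1 := eq_one_of_mem_pCore (p := 3) (m := 2) (by norm_num) ht ht2
  have h5 : d * w * d = y * w * y := by
    have := eq_inv_of_mul_eq_one_left ht1
    rw [this]
    exact inv_eq_of_mul_eq_one_left hs2
  rw [← b1, ← b2] at h5
  exact hy.2.1 (mul_left_cancel (mul_right_cancel h5)).symm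

/-- Let D be a conjugacy class of 3-transpositions generating the finite group G, with at least two members, and d a member of D. Then the set of members w of D whose commuting partners in D (other than w) are exactly those of d (other than d) coincides with the set of members of D lying in the coset of d modulo the largest normal 3-subgroup of G, and also with the orbit of d under conjugation by that normal 3-subgroup. -/
theorem result {G : Type*} [Group G] [Finite G] {D : Set G} (hD : Cfsg.IsThreeTranspositionClass D) (hD2 : ∃ a ∈ D, ∃ b ∈ D, a ≠ b) {d : G} (hd : d ∈ D) : {w : G | w ∈ D ∧ {y : G | y ∈ D ∧ y ≠ d ∧ Commute d y} = {y : G | y ∈ D ∧ y ≠ w ∧ Commute w y}} = {w : G | w ∈ D ∧ d⁻¹ * w ∈ Cfsg.pCore 3 G} ∧ {w : G | w ∈ D ∧ {y : G | y ∈ D ∧ y ≠ d ∧ Commute d y} = {y : G | y ∈ D ∧ y ≠ w ∧ Commute w y}} = {w : G | ∃ g ∈ Cfsg.pCore 3 G, w = g * d * g⁻¹} := by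
  have hconj := hconj_of_class hD
  have hN := pCore_normal 3 G
  have hdi := inv_eq hD.1 hd
  have h12 : ∀ w, (w ∈ D ∧ Dn D d = Dn D w) → (∃ g ∈ Cfsg.pCore 3 G, w = g * d * g⁻¹) := by
    rintro w ⟨hw, hdw⟩
    have hmem : d * w ∈ Cfsg.pCore 3 G :=
      MW_le_pCore hD (Subgroup.subset_closure ⟨d, w, ⟨hd, hw, hdw⟩, rfl⟩)
    by_cases hc : Commute d w
    · by_cases he : w = d
      · exact ⟨1, Subgroup.one_mem _, by rw [he]; group⟩
      · exfalso
        have : w ∈ Dn D d := ⟨hw, he, hc⟩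
        rw [hdw] at this
        exact this.2.1 rfl
    · exact ⟨d * w, hmem, (conj_of_not_commute hD.1 hd hw hc).symm⟩
  have h23 : ∀ w, (∃ g ∈ Cfsg.pCore 3 G, w = g * d * g⁻¹) → (w ∈ D ∧ d⁻¹ * w ∈ Cfsg.pCore 3 G) := by
    rintro w ⟨g, hg, rfl⟩
    refine ⟨hconj g d hd, ?_⟩
    have : d⁻¹ * (g * d * g⁻¹) = (d⁻¹ * g * d⁻¹⁻¹) * g⁻¹ := by group
    rw [this]
    exact Subgroup.mul_mem _ (hN.conj_mem g hg _) (Subgroup.inv_mem _ hg)
  have h31 : ∀ w, (w ∈ D ∧ d⁻¹ * w ∈ Cfsg.pCore 3 G) → (w ∈ D ∧ Dn D d = Dn D w) := by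
    rintro w ⟨hw, hdw⟩
    rw [hdi] at hdw
    refine ⟨hw, Set.Subset.antisymm (Dn_subset_of_mem_pCore hD hd hw hdw) ?_⟩
    apply Dn_subset_of_mem_pCore hD hw hd
    have : w * d = (d * w)⁻¹ := by rw [mul_inv_rev, hdi, inv_eq hD.1 hw]
    rw [this]
    exact Subgroup.inv_mem _ hdw
  constructor
  · ext w
    exact ⟨fun h => h23 w (h12 w h), fun h => h31 w h⟩
  · ext w
    exact ⟨fun h => h12 w h, fun h => h31 w (h23 w h)⟩

end Cfsg.Agent.S5350
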