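import Cfsg.Statements.S0068
import Mathlib.GroupTheory.FixedPointFree
import Mathlib.GroupTheory.GroupAction.ConjAct
import Mathlib.GroupTheory.Perm.Cycle.Type
import Mathlib.Tactic.Group

set_option autoImplicit false
open Cfsg

namespace Cfsg.Agent.S0068

theorem inverts {G : Type*} [Group G] [Finite G] (K : Subgroup G) [K.Normal] (s : G)
    (hs : orderOf s = 2) (hfpf : K ⊓ Subgroup.centralizer {s} = ⊥) :
    (∀ k ∈ K, s * k * s⁻¹ = k⁻¹) ∧ IsMulCommutative K := by
  have hs2 : s * s = 1 := by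
    have := pow_orderOf_eq_one s
    rwa [hs, sq] at this
  have hφ : MonoidHom.FixedPointFree (MulAut.conjNormal s : MulAut K) := by
    intro k hk
    have h1 : s * k * s⁻¹ = k := by
      have := congrArg Subtype.val hk
      rwa [MulAut.conjNormal_apply] at this
    have h2 : (k : G) ∈ K ⊓ Subgroup.centralizer {s} := by
      refine ⟨k.2, Subgroup.mem_centralizer_singleton_iff.2 ?_⟩
      exact (mul_inv_eq_iff_eq_mul.1 h1).symm
    rw [hfpf, Subgroup.mem_bot] at h2
    exact Subtype.ext h2
  have hinv : Function.Involutive (MulAut.conjNormal s : MulAut K) := by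
    intro k
    apply Subtype.ext
    rw [MulAut.conjNormal_apply, MulAut.conjNormal_apply]
    have : s⁻¹ = s := inv_eq_of_mul_eq_one_right hs2
    rw [this]
    calc s * (s * k * s) * s = (s * s) * k * (s * s) := by group
      _ = k := by rw [hs2]; group
  constructor
  · intro k hk
    have := congrFun (hφ.coe_eq_inv_of_involutive hinv) ⟨k, hk⟩
    have h2 := congrArg Subtype.val this
    rwa [MulAut.conjNormal_apply] at h2
  · exact ⟨⟨fun a b => hφ.commute_all_of_involutive hinv a b⟩⟩

/-- Frobenius complements of even order: if H complements a nontrivial normal subgroup K, each nonidentity element of H has trivial centraliser in K, and H has even order, then H contains a unique involution s, K is abelian, and s inverts every element of K. -/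
theorem result {G : Type*} [Group G] [Finite G] (K H : Subgroup G) [K.Normal]
    (hc : Subgroup.IsComplement' K H) (hK : K ≠ ⊥) (hfpf : ∀ h ∈ H, h ≠ 1 → K ⊓ Subgroup.centralizer {h} = ⊥)
    (heven : 2 ∣ Nat.card H) :
    (∃ s ∈ H, orderOf s = 2 ∧ (∀ t ∈ H, orderOf t = 2 → t = s) ∧ ∀ k ∈ K, s * k * s⁻¹ = k⁻¹) ∧ IsMulCommutative K := by
  obtain ⟨s, hs⟩ := exists_prime_orderOf_dvd_card' (G := H) 2 heven
  have hs' : orderOf (s : G) = 2 := by rw [Subgroup.orderOf_coe, hs]
  have hne : ∀ t : G, orderOf t = 2 → t ≠ 1 := by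
    rintro t ht rfl
    rw [orderOf_one] at ht
    norm_num at ht
  obtain ⟨h1, h2⟩ := inverts K s hs' (hfpf s s.2 (hne _ hs'))
  refine ⟨⟨s, s.2, hs', ?_, h1⟩, h2⟩
  intro t ht ht2
  obtain ⟨h3, -⟩ := inverts K t ht2 (hfpf t ht (hne _ ht2))
  by_contra hts
  have hst : (s : G)⁻¹ * t ≠ 1 := by
    intro h
    exact hts (inv_mul_eq_one.1 h).symm
  have h4 := hfpf _ (mul_mem (inv_mem s.2) ht) hst
  apply hK
  rw [eq_bot_iff, ← h4]
  intro k hk
  refine ⟨hk, Subgroup.mem_centralizer_singleton_iff.2 ?_⟩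
  have e1 := h1 k hk
  have e2 := h3 k hk
  have e3 : t * k * t⁻¹ = s * k * (s : G)⁻¹ := by rw [e1, e2]
  calc k * ((s : G)⁻¹ * t) = (s : G)⁻¹ * (s * k * (s : G)⁻¹) * t := by group
    _ = (s : G)⁻¹ * (t * k * t⁻¹) * t := by rw [e3]
    _ = (s : G)⁻¹ * t * k := by group

end Cfsg.Agent.S0068
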