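import Cfsg.Statements.S0117
import Cfsg.Agent.Lib.Helper24Final
import Cfsg.Agent.Lib.Helper24Thompson
import Cfsg.Agent.Lib.Helper31ZJe

set_option autoImplicit false
open Cfsg

namespace Cfsg.Agent.S0117

open Cfsg.Agent.Lib.Helper11Frobenius Cfsg.Agent.Lib.Helper24NPC Cfsg.Agent.Lib.Helper24Functor
open Cfsg.Agent.Lib.Helper24Reduce Cfsg.Agent.Lib.Helper24Final Cfsg.Agent.Lib.Helper24Thompson
open Cfsg.Agent.Lib.Helper14Stable Cfsg.Agent.Lib.Helper31ZJe

universe u

def fZJE (p : ℕ) : ∀ (Q : Type u) [Group Q], Subgroup Q :=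
  fun Q _ => thompsonSubgroup p Q ⊓ Subgroup.centralizer (thompsonSubgroup p Q : Set Q)

theorem isChar_fZJE (p : ℕ) [Fact p.Prime] : IsCharPFunctor.{u} p (fZJE p) := by
  apply isChar_of
  · intro Q _ _ hQ hnt h
    have hJ : thompsonSubgroup p Q ≠ ⊥ := (isChar_fJE p).1 Q hQ hnt
    have hJp : IsPGroup p (thompsonSubgroup p Q) := hQ.to_subgroup _
    haveI : Nontrivial (thompsonSubgroup p Q) := (Subgroup.nontrivial_iff_ne_bot _).mpr hJ
    have h1 := hJp.center_nontrivial
    obtain ⟨z, hz⟩ := exists_ne (1 : Subgroup.center (thompsonSubgroup p Q))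
    have hmem : ((z : thompsonSubgroup p Q) : Q) ∈ fZJE p Q := by
      refine ⟨(z : thompsonSubgroup p Q).2, ?_⟩
      intro y hy
      have := (Subgroup.mem_center_iff.mp z.2) ⟨y, hy⟩
      exact congrArg Subtype.val this
    rw [h, Subgroup.mem_bot] at hmem
    apply hz
    apply Subtype.ext
    apply Subtype.ext
    exact hmem
  · intro Q R _ _ e
    rintro _ ⟨x, ⟨hx1, hx2⟩, rfl⟩
    refine ⟨thompson_map_le e ⟨x, hx1, rfl⟩, ?_⟩
    intro y hy
    rw [← thompson_map e] at hy
    obtain ⟨z, hz, rfl⟩ := hy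
    have := hx2 z hz
    show e z * e x = e x * e z
    rw [← map_mul, ← map_mul, this]

theorem ind_fZJE {G : Type u} [Group G] (p : ℕ) (P : Subgroup G) :
    inducedFunctor (fZJE p) P = centerThompsonOf p P := by
  unfold centerThompsonOf thompsonSubgroupOf
  ext x
  constructor
  · rintro ⟨y, ⟨hy1, hy2⟩, rfl⟩
    refine ⟨⟨y, hy1, rfl⟩, ?_⟩
    rintro _ ⟨z, hz, rfl⟩
    exact congrArg Subtype.val (hy2 z hz)
  · rintro ⟨⟨y, hy, rfl⟩, hc⟩
    refine ⟨y, ⟨hy, ?_⟩, rfl⟩
    intro z hz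
    exact Subtype.ext (hc z ⟨z, hz, rfl⟩)

/-- The Glauberman–Thompson Theorem states that for odd p, a single p-local subgroup, the normalizer of the centre of the Thompson subgroup of a Sylow p-subgroup, decides whether G has a normal p-complement. -/
theorem result {G : Type*} [Group G] [Finite G] {p : ℕ} [Fact p.Prime] (hp : p ≠ 2) (P : Sylow p G) : Cfsg.HasNormalPComplement p G ↔ Cfsg.HasNormalPComplement p (Subgroup.normalizer (Cfsg.centerThompsonOf p (P : Subgroup G) : Set G)) := by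
  constructor
  · intro h
    exact hasNPC_iff.mp ((hasNPC_iff.mpr h).subgroup _)
  intro hN
  rw [← hasNPC_iff]
  refine reduction (𝒲 := {(true, fZJE p)}) (p := p) ?_ (fun _ _ => True) ?_ ?_ ?_ G trivial ?_
  · rintro w rfl
    exact isChar_fZJE p
  · intros; trivial
  · intros; trivial
  · intro X _ _ _ hHyp _ _ hc hq hT
    obtain ⟨T⟩ : Nonempty (Sylow p X) := inferInstance
    apply hasNPC_of_normal hHyp (fZJE p) rfl T
    rw [ind_fZJE, centerThompsonOf_eq]
    exact ZE_normal hp (pstable_of_final hp hq hT) hc T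
  · apply hyp_of_one (by rintro w rfl; exact isChar_fZJE p) P
    rintro w rfl
    show HasNPC p (Subgroup.normalizer ((inducedFunctor (fZJE p) (P : Subgroup G) : Subgroup G) : Set G))
    rw [ind_fZJE]
    exact hasNPC_iff.mpr hN

end Cfsg.Agent.S0117
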