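import Cfsg.Statements.S0154
import Cfsg.Agent.Lib.Helper82Linear

set_option autoImplicit false
open Cfsg

namespace Cfsg.Agent.S0154

/-- A finite group has exactly as many irreducible complex characters of degree 1 as the index of its commutator subgroup. -/
theorem result {G : Type*} [Group G] [Finite G] : Nat.card {χ : Cfsg.IrrCharacter G // (χ : G → ℂ) 1 = 1} = (commutator G).index := by
  have e1 : {χ : Cfsg.IrrCharacter G // (χ : G → ℂ) 1 = 1} ≃ (G →* ℂˣ) :=
    { toFun := fun χ => Cfsg.Agent.Lib.Helper82Linear.homOfLinear χ.1 χ.2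
      invFun := fun f => ⟨⟨fun g => ((f g : ℂˣ) : ℂ),
        Cfsg.Agent.Lib.Helper82Linear.isIrrCharacter_of_hom f⟩, by simp⟩
      left_inv := fun χ => by
        apply Subtype.ext
        apply Subtype.ext
        rfl
      right_inv := fun f => by
        ext g
        rfl }
  have : NeZero (Monoid.exponent (Abelianization G)) := ⟨Monoid.exponent_ne_zero_of_finite⟩
  obtain ⟨e2⟩ := CommGroup.monoidHom_mulEquiv_of_hasEnoughRootsOfUnity (Abelianization G) ℂ
  rw [Nat.card_congr e1, Nat.card_congr Abelianization.lift, Nat.card_congr e2.toEquiv,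
    Subgroup.index_eq_card]
  rfl

end Cfsg.Agent.S0154
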