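import Cfsg.Statements.S0200
import Mathlib
import Cfsg.Agent.Lib.Helper5BaerSuzuki
import Cfsg.Agent.Lib.Helper5Dihedral

set_option autoImplicit false
open Cfsg

namespace Cfsg.Agent.S0200

open Lib.Helper5Dihedral

theorem isPGroup_closure_pair {G : Type*} [Group G] {x y : G} (hx : x * x = 1) (hy : y * y = 1)
    (j : ℕ) (hj : (x * y) ^ (2 ^ j) = 1) : IsPGroup 2 (Subgroup.closure ({x, y} : Set G)) := by
  rintro ⟨d, hd⟩
  obtain ⟨k, hk⟩ := mem_closure_pair hx hy hd
  rcases hk with rfl | rfl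
  · refine ⟨j, ?_⟩
    apply Subtype.ext
    simp only [Subgroup.coe_pow, Subgroup.coe_one]
    rw [← zpow_natCast, ← zpow_mul, mul_comm, zpow_mul, zpow_natCast, hj, one_zpow]
  · refine ⟨1, ?_⟩
    apply Subtype.ext
    simp only [Subgroup.coe_pow, Subgroup.coe_one, pow_one]
    rw [pow_two, mul_assoc, ← mul_assoc x, x_mul_zpow hx hy, mul_assoc, hx, mul_one, ← zpow_add]
    simp

/-- An involution lying in no normal 2-subgroup of a finite group inverts a nontrivial element of odd order (a consequence of the Baer–Suzuki Theorem). -/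
theorem result {G : Type*} [Group G] [Finite G] (t : G) (ht : orderOf t = 2) (hO : ∀ N : Subgroup G, N.Normal → IsPGroup 2 N → t ∉ N) : ∃ h : G, h ≠ 1 ∧ Odd (orderOf h) ∧ t * h * t⁻¹ = h⁻¹ := by
  classical
  have ht' := mul_self_of_orderOf ht
  have hti := inv_eq_of_mul_self ht'
  set K : Set G := {a | ∃ g : G, a = g * t * g⁻¹} with hKdef
  have hK : ∀ k ∈ K, ∀ g : G, g * k * g⁻¹ ∈ K := by
    rintro k ⟨g', rfl⟩ g
    exact ⟨g * g', by group⟩
  have hK2 : ∀ k ∈ K, k * k = 1 := by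
    rintro k ⟨g, rfl⟩
    calc (g * t * g⁻¹) * (g * t * g⁻¹) = g * (t * t) * g⁻¹ := by group
      _ = 1 := by rw [ht']; group
  by_contra hcon
  push Not at hcon
  have hpair : ∀ a ∈ K, ∀ b ∈ K, IsPGroup 2 (Subgroup.closure ({a, b} : Set G)) := by
    intro a ha b hb
    obtain ⟨k, m, hm, hn⟩ := Nat.exists_eq_two_pow_mul_odd (orderOf_pos (a * b)).ne'
    apply isPGroup_closure_pair (hK2 a ha) (hK2 b hb) k
    obtain ⟨g, rfl⟩ := ha
    set a := g * t * g⁻¹ with hadef
    have ha2 : a * a = 1 := hK2 a ⟨g, rfl⟩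
    by_contra hne
    set h₀ := (a * b) ^ (2 ^ k) with hh₀
    have hord : orderOf h₀ = m := by
      rw [hh₀, orderOf_pow, hn]
      have : Nat.gcd (2 ^ k * m) (2 ^ k) = 2 ^ k := Nat.gcd_eq_right (Dvd.intro _ rfl)
      rw [this]
      exact Nat.mul_div_cancel_left _ (by positivity)
    have hinv : a * h₀ * a⁻¹ = h₀⁻¹ := by
      have := x_mul_zpow ha2 (hK2 b hb) ((2 ^ k : ℕ) : ℤ)
      rw [zpow_neg, zpow_natCast] at this
      rw [this, mul_assoc, mul_inv_cancel, mul_one]
    have h3 := hcon (g⁻¹ * h₀ * g) (by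
      intro h
      apply hne
      have : h₀ = g * (g⁻¹ * h₀ * g) * g⁻¹ := by group
      rw [this, h]; group) (by
      have : orderOf (g⁻¹ * h₀ * g) = orderOf h₀ := by
        have := orderOf_injective (MulAut.conj g⁻¹).toMonoidHom (MulAut.conj g⁻¹).injective h₀
        simpa using this
      rw [this, hord]; exact hm)
    apply h3
    have e1 : t = g⁻¹ * a * g := by rw [hadef]; group
    calc t * (g⁻¹ * h₀ * g) * t⁻¹ = g⁻¹ * (a * h₀ * a⁻¹) * g := by rw [e1]; group
      _ = (g⁻¹ * h₀ * g)⁻¹ := by rw [hinv]; group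
  refine hO (Subgroup.closure K) ⟨?_⟩ (Lib.Helper5BaerSuzuki.isPGroup_closure K hK hpair) ?_
  · intro n hn g
    exact Lib.Helper5BaerSuzuki.conj_mem_closure (fun k hk => hK k hk g) hn
  · exact Subgroup.subset_closure ⟨1, by simp⟩

end Cfsg.Agent.S0200
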