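import Cfsg.Statements.S0214
import Cfsg.Agent.Lib.Helper37StrEmb

set_option autoImplicit false
open Cfsg

namespace Cfsg.Agent.S0214

/-- Let H be a proper subgroup of the finite group G and P a nontrivial Sylow 2-subgroup of H. Then H is strongly embedded in G if and only if N_G(X) ≤ H for every nontrivial subgroup X of P. -/
theorem result {G : Type*} [Group G] [Finite G] (H : Subgroup G) (hH : H ≠ ⊤) (P : Sylow 2 ↥H) (hP : (P : Subgroup ↥H) ≠ ⊥) : Cfsg.IsStronglyEmbedded H ↔ (∀ X : Subgroup ↥H, X ≤ (P : Subgroup ↥H) → X ≠ ⊥ → Subgroup.normalizer ((X.map H.subtype : Subgroup G) : Set G) ≤ H) := by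
  have : Fact (Nat.Prime 2) := ⟨Nat.prime_two⟩
  rw [Lib.Helper37StrEmb.isStronglyEmbedded_iff]
  constructor
  · rintro ⟨_, _, h3⟩ X hX hne
    apply Lib.Helper37StrEmb.NormControl.of_pControl h3 _ (Subgroup.map_subtype_le X)
      ((P.2.to_le hX).map _)
    intro hbot
    exact hne ((Subgroup.map_eq_bot_iff_of_injective X H.subtype_injective).mp hbot)
  · intro h
    have hPne : (P : Subgroup ↥H).map H.subtype ≠ ⊥ := by
      intro hbot
      exact hP ((Subgroup.map_eq_bot_iff_of_injective _ H.subtype_injective).mp hbot)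
    obtain ⟨t, htP, ht⟩ := Lib.Helper37StrEmb.exists_orderOf_of_pgroup _ (P.2.map H.subtype) hPne
    refine ⟨hH, ⟨t, Subgroup.map_subtype_le _ htP, ht⟩, ?_⟩
    apply Lib.Helper37StrEmb.PControl.of_normControl
    apply Lib.Helper37StrEmb.normControl_of_conj (P₀ := (P : Subgroup ↥H).map H.subtype)
    · intro Q hQH hQ
      obtain ⟨m, hm⟩ := Lib.Helper37Sylow.exists_conj_mem_of_sylow H P Q hQ hQH
      exact ⟨m, m.2, fun q hq => ⟨_, hm q hq, rfl⟩⟩
    · intro X hX hne
      have hXH : X ≤ H := hX.trans (Subgroup.map_subtype_le _)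
      have hXeq : (X.subgroupOf H).map H.subtype = X := by
        rw [Subgroup.subgroupOf_map_subtype, inf_eq_left.mpr hXH]
      have h1 := h (X.subgroupOf H) ?_ ?_
      · rwa [hXeq] at h1
      · intro x hx
        obtain ⟨y, hy, hyx⟩ := hX (Subgroup.mem_subgroupOf.mp hx)
        have : y = x := Subtype.ext hyx
        exact this ▸ hy
      · intro hbot
        apply hne
        rw [← hXeq, hbot, Subgroup.map_bot]

end Cfsg.Agent.S0214
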