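import Cfsg.Statements.S0223
import Cfsg.Agent.Lib.Helper6StrEmb

set_option autoImplicit false
open Cfsg

namespace Cfsg.Agent.S0223

open Cfsg.Agent.Lib.Helper6Inv Cfsg.Agent.Lib.Helper6StrEmb

/-- Let H be a proper subgroup of even order of the finite group G. Then H is strongly embedded if and only if (i) C_G(t) ≤ H for every involution t of H and (ii) H controls fusion of its involutions: involutions of H conjugate in G are conjugate in H. -/
theorem result {G : Type*} [Group G] [Finite G] (H : Subgroup G) (hH : H ≠ ⊤) (heven : Even (Nat.card H)) : Cfsg.IsStronglyEmbedded H ↔ ((∀ t ∈ H, orderOf t = 2 → Subgroup.centralizer ({t} : Set G) ≤ H) ∧ (∀ t ∈ H, ∀ s ∈ H, orderOf t = 2 → orderOf s = 2 → IsConj t s → ∃ h ∈ H, h * t * h⁻¹ = s)) := by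
  rw [stronglyEmbedded_iff]
  constructor
  · rintro ⟨-, -, h⟩
    constructor
    · intro t ht h2 g hg
      by_contra hgH
      apply h g hgH t ht h2
      rw [Subgroup.mem_centralizer_singleton_iff] at hg
      rw [hg, mul_inv_cancel_right]
      exact ht
    · intro t ht s hs h2 _ hconj
      obtain ⟨c, hc⟩ := isConj_iff.1 hconj
      refine ⟨c, ?_, hc⟩
      by_contra hcH
      apply h c hcH t ht h2
      rw [hc]
      exact hs
  · rintro ⟨h1, h2⟩
    refine ⟨hH, heven, ?_⟩
    intro g hg t ht ht2 hmem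
    obtain ⟨h, hh, hc⟩ := h2 t ht (g * t * g⁻¹) hmem ht2 (by rw [orderOf_conj, ht2])
      (isConj_iff.2 ⟨g, rfl⟩)
    have h3 : h⁻¹ * g ∈ Subgroup.centralizer ({t} : Set G) := by
      rw [Subgroup.mem_centralizer_singleton_iff]
      have : h * t = g * t * g⁻¹ * h := by rw [← hc]; group
      have h4 : t = h⁻¹ * (g * t * g⁻¹ * h) := by rw [← this]; group
      calc h⁻¹ * g * t = h⁻¹ * (g * t * g⁻¹ * h) * (h⁻¹ * g) := by group
        _ = t * (h⁻¹ * g) := by rw [← h4]
    have h5 := h1 t ht ht2 h3
    apply hg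
    have := H.mul_mem hh h5
    simpa using this

end Cfsg.Agent.S0223
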