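import Cfsg.Statements.S0224
import Cfsg.Agent.Lib.Helper6StrEmb

set_option autoImplicit false
open Cfsg

namespace Cfsg.Agent.S0224

open Cfsg.Agent.Lib.Helper6Inv Cfsg.Agent.Lib.Helper6StrEmb

theorem fix_iff {G : Type*} [Group G] (H : Subgroup G) (t g : G) :
    t • (g : G ⧸ H) = (g : G ⧸ H) ↔ g⁻¹ * t * g ∈ H := by
  rw [MulAction.Quotient.smul_coe, eq_comm, QuotientGroup.eq, smul_eq_mul, mul_assoc]

/-- Let H be a proper subgroup of even order of the finite group G. Then H is strongly embedded if and only if each involution of H fixes exactly one point (namely the coset H) in the action of G on the cosets of H. -/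
theorem result {G : Type*} [Group G] [Finite G] (H : Subgroup G) (hH : H ≠ ⊤) (heven : Even (Nat.card H)) : Cfsg.IsStronglyEmbedded H ↔ ∀ t ∈ H, orderOf t = 2 → Nat.card {c : G ⧸ H // t • c = c} = 1 := by
  rw [stronglyEmbedded_iff]
  constructor
  · rintro ⟨-, -, h⟩ t ht h2
    rw [Nat.card_eq_one_iff_unique]
    refine ⟨⟨?_⟩, ⟨⟨((1 : G) : G ⧸ H), ?_⟩⟩⟩
    · have key : ∀ c : {c : G ⧸ H // t • c = c}, c.1 = ((1 : G) : G ⧸ H) := by
        rintro ⟨c, hc⟩
        induction c using QuotientGroup.induction_on with
        | H g =>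
          rw [fix_iff] at hc
          simp only
          rw [eq_comm, QuotientGroup.eq]
          simp only [inv_one, one_mul]
          by_contra hg
          have hg' : g⁻¹ ∉ H := fun h' => hg (by simpa using H.inv_mem h')
          apply h g⁻¹ hg' t ht h2
          simpa using hc
      intro a b
      exact Subtype.ext ((key a).trans (key b).symm)
    · rw [fix_iff]
      simpa using ht
  · intro h
    refine ⟨hH, heven, ?_⟩
    intro g hg t ht ht2 hmem
    have h1 := h (g * t * g⁻¹) hmem (by rw [orderOf_conj, ht2])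
    rw [Nat.card_eq_one_iff_unique] at h1
    obtain ⟨hs, -⟩ := h1
    have h2 := hs.elim (⟨((1 : G) : G ⧸ H), by rw [fix_iff]; simpa using hmem⟩ :
        {c : G ⧸ H // (g * t * g⁻¹) • c = c})
      ⟨(g : G ⧸ H), by
        rw [fix_iff]
        have : g⁻¹ * (g * t * g⁻¹) * g = t := by group
        rw [this]; exact ht⟩
    have h3 := congrArg Subtype.val h2
    simp only at h3
    rw [QuotientGroup.eq] at h3
    apply hg
    simpa using h3

end Cfsg.Agent.S0224
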