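import Cfsg.Statements.S0256
import Cfsg.Agent.S0243
import Cfsg.Agent.S0249
import Cfsg.Agent.Lib.Helper6Perm
import Cfsg.Agent.Lib.Helper6SL
import Cfsg.Agent.Lib.Helper6Transport

set_option autoImplicit false
open Cfsg

namespace Cfsg.Agent.S0256

open Cfsg.Agent.Lib.Helper6Transport

abbrev M := Matrix (Fin 4) (Fin 4) (ZMod 2)

def act (g A : M) : M := g * A * g.transpose

def img (g : M) (S : Finset M) : Finset M := S.image (act g)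

def L0 : Finset M :=
  {!![0, 0, 0, 1; 0, 0, 1, 0; 0, 1, 0, 0; 1, 0, 0, 0],
   !![0, 0, 1, 0; 0, 0, 1, 1; 1, 1, 0, 0; 0, 1, 0, 0],
   !![0, 0, 1, 1; 0, 0, 0, 1; 1, 0, 0, 1; 1, 1, 1, 0],
   !![0, 1, 0, 0; 1, 0, 1, 1; 0, 1, 0, 1; 0, 1, 1, 0],
   !![0, 1, 0, 1; 1, 0, 0, 0; 0, 0, 0, 1; 1, 0, 1, 0],
   !![0, 1, 1, 0; 1, 0, 1, 0; 1, 1, 0, 1; 0, 0, 1, 0],
   !![0, 1, 1, 1; 1, 0, 0, 1; 1, 0, 0, 0; 1, 1, 0, 0]}
def L1 : Finset M :=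
  {!![0, 0, 0, 1; 0, 0, 1, 0; 0, 1, 0, 0; 1, 0, 0, 0],
   !![0, 0, 1, 0; 0, 0, 1, 1; 1, 1, 0, 1; 0, 1, 1, 0],
   !![0, 0, 1, 1; 0, 0, 0, 1; 1, 0, 0, 0; 1, 1, 0, 0],
   !![0, 1, 0, 0; 1, 0, 1, 0; 0, 1, 0, 1; 0, 0, 1, 0],
   !![0, 1, 0, 1; 1, 0, 0, 1; 0, 0, 0, 1; 1, 1, 1, 0],
   !![0, 1, 1, 0; 1, 0, 1, 1; 1, 1, 0, 0; 0, 1, 0, 0],
   !![0, 1, 1, 1; 1, 0, 0, 0; 1, 0, 0, 1; 1, 0, 1, 0]}
def L2 : Finset M :=
  {!![0, 0, 0, 1; 0, 0, 1, 0; 0, 1, 0, 1; 1, 0, 1, 0],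
   !![0, 0, 1, 0; 0, 0, 1, 1; 1, 1, 0, 0; 0, 1, 0, 0],
   !![0, 0, 1, 1; 0, 0, 0, 1; 1, 0, 0, 0; 1, 1, 0, 0],
   !![0, 1, 0, 0; 1, 0, 0, 1; 0, 0, 0, 1; 0, 1, 1, 0],
   !![0, 1, 0, 1; 1, 0, 1, 0; 0, 1, 0, 0; 1, 0, 0, 0],
   !![0, 1, 1, 0; 1, 0, 0, 0; 1, 0, 0, 1; 0, 0, 1, 0],
   !![0, 1, 1, 1; 1, 0, 1, 1; 1, 1, 0, 1; 1, 1, 1, 0]}
def L3 : Finset M :=
  {!![0, 0, 0, 1; 0, 0, 1, 0; 0, 1, 0, 1; 1, 0, 1, 0],
   !![0, 0, 1, 0; 0, 0, 1, 1; 1, 1, 0, 1; 0, 1, 1, 0],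
   !![0, 0, 1, 1; 0, 0, 0, 1; 1, 0, 0, 1; 1, 1, 1, 0],
   !![0, 1, 0, 0; 1, 0, 0, 0; 0, 0, 0, 1; 0, 0, 1, 0],
   !![0, 1, 0, 1; 1, 0, 1, 1; 0, 1, 0, 0; 1, 1, 0, 0],
   !![0, 1, 1, 0; 1, 0, 0, 1; 1, 0, 0, 0; 0, 1, 0, 0],
   !![0, 1, 1, 1; 1, 0, 1, 0; 1, 1, 0, 0; 1, 0, 0, 0]}
def L4 : Finset M :=
  {!![0, 0, 0, 1; 0, 0, 1, 1; 0, 1, 0, 0; 1, 1, 0, 0],
   !![0, 0, 1, 0; 0, 0, 0, 1; 1, 0, 0, 0; 0, 1, 0, 0],
   !![0, 0, 1, 1; 0, 0, 1, 0; 1, 1, 0, 1; 1, 0, 1, 0],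
   !![0, 1, 0, 0; 1, 0, 1, 1; 0, 1, 0, 1; 0, 1, 1, 0],
   !![0, 1, 0, 1; 1, 0, 0, 1; 0, 0, 0, 1; 1, 1, 1, 0],
   !![0, 1, 1, 0; 1, 0, 0, 0; 1, 0, 0, 1; 0, 0, 1, 0],
   !![0, 1, 1, 1; 1, 0, 1, 0; 1, 1, 0, 0; 1, 0, 0, 0]}
def L5 : Finset M :=
  {!![0, 0, 0, 1; 0, 0, 1, 1; 0, 1, 0, 0; 1, 1, 0, 0],
   !![0, 0, 1, 0; 0, 0, 0, 1; 1, 0, 0, 1; 0, 1, 1, 0],
   !![0, 0, 1, 1; 0, 0, 1, 0; 1, 1, 0, 0; 1, 0, 0, 0],
   !![0, 1, 0, 0; 1, 0, 1, 0; 0, 1, 0, 1; 0, 0, 1, 0],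
   !![0, 1, 0, 1; 1, 0, 0, 0; 0, 0, 0, 1; 1, 0, 1, 0],
   !![0, 1, 1, 0; 1, 0, 0, 1; 1, 0, 0, 0; 0, 1, 0, 0],
   !![0, 1, 1, 1; 1, 0, 1, 1; 1, 1, 0, 1; 1, 1, 1, 0]}
def L6 : Finset M :=
  {!![0, 0, 0, 1; 0, 0, 1, 1; 0, 1, 0, 1; 1, 1, 1, 0],
   !![0, 0, 1, 0; 0, 0, 0, 1; 1, 0, 0, 0; 0, 1, 0, 0],
   !![0, 0, 1, 1; 0, 0, 1, 0; 1, 1, 0, 0; 1, 0, 0, 0],
   !![0, 1, 0, 0; 1, 0, 0, 1; 0, 0, 0, 1; 0, 1, 1, 0],
   !![0, 1, 0, 1; 1, 0, 1, 1; 0, 1, 0, 0; 1, 1, 0, 0],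
   !![0, 1, 1, 0; 1, 0, 1, 0; 1, 1, 0, 1; 0, 0, 1, 0],
   !![0, 1, 1, 1; 1, 0, 0, 0; 1, 0, 0, 1; 1, 0, 1, 0]}
def L7 : Finset M :=
  {!![0, 0, 0, 1; 0, 0, 1, 1; 0, 1, 0, 1; 1, 1, 1, 0],
   !![0, 0, 1, 0; 0, 0, 0, 1; 1, 0, 0, 1; 0, 1, 1, 0],
   !![0, 0, 1, 1; 0, 0, 1, 0; 1, 1, 0, 1; 1, 0, 1, 0],
   !![0, 1, 0, 0; 1, 0, 0, 0; 0, 0, 0, 1; 0, 0, 1, 0],
   !![0, 1, 0, 1; 1, 0, 1, 0; 0, 1, 0, 0; 1, 0, 0, 0],
   !![0, 1, 1, 0; 1, 0, 1, 1; 1, 1, 0, 0; 0, 1, 0, 0],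
   !![0, 1, 1, 1; 1, 0, 0, 1; 1, 0, 0, 0; 1, 1, 0, 0]}

def L : Fin 8 → Finset M := ![L0, L1, L2, L3, L4, L5, L6, L7]

theorem L_inj : ∀ a b : Fin 8, L a = L b → a = b := by decide +kernel

theorem gen_inv : ∀ i j : Fin 4, i ≠ j → ∀ c : ZMod 2, ∀ k, ∃ k',
    img (Matrix.transvection i j c) (L k) = L k' := by decide +kernel

theorem gen_ne : img (Matrix.transvection 0 1 1) (L 0) ≠ L 0 := by decide +kernel

abbrev S4 := Matrix.SpecialLinearGroup (Fin 4) (ZMod 2)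

theorem img_one (S : Finset M) : img 1 S = S := by
  unfold img
  have : act 1 = id := by
    funext A
    simp [act]
  rw [this, Finset.image_id]

theorem img_mul (g h : M) (S : Finset M) : img (g * h) S = img g (img h S) := by
  unfold img
  rw [Finset.image_image]
  congr 1
  funext A
  simp [act, Matrix.transpose_mul, Matrix.mul_assoc]

instance fact2 : Fact (Nat.Prime 2) := ⟨by norm_num⟩

theorem all_inv (g : S4) : ∀ k, ∃ k', img g.1 (L k) = L k' := by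
  refine Cfsg.Agent.Lib.Helper6SL.transvection_induction
    (fun g : S4 => ∀ k, ∃ k', img g.1 (L k) = L k') ?_ ?_ g
  · intro i j h c k
    exact gen_inv i j h c k
  · intro A B hA hB k
    obtain ⟨k1, hk1⟩ := hB k
    obtain ⟨k2, hk2⟩ := hA k1
    exact ⟨k2, by rw [Matrix.SpecialLinearGroup.coe_mul, img_mul, hk1, hk2]⟩

noncomputable def sig (g : S4) (k : Fin 8) : Fin 8 := (all_inv g k).choose

theorem sig_spec (g : S4) (k : Fin 8) : img g.1 (L k) = L (sig g k) := (all_inv g k).choose_spec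

noncomputable def actionFin8 : MulAction S4 (Fin 8) where
  smul := sig
  one_smul := by
    intro k
    apply L_inj
    change L (sig 1 k) = L k
    rw [← sig_spec, Matrix.SpecialLinearGroup.coe_one, img_one]
  mul_smul := by
    intro g h k
    apply L_inj
    change L (sig (g * h) k) = L (sig g (sig h k))
    rw [← sig_spec, ← sig_spec, ← sig_spec, Matrix.SpecialLinearGroup.coe_mul, img_mul]

/-- PSL_4(2) is isomorphic to A_8. -/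
theorem result {F : Type*} [Field F] [Fintype F] (hF : Fintype.card F = 2) : Nonempty (Matrix.ProjectiveSpecialLinearGroup (Fin 4) F ≃* alternatingGroup (Fin 8)) := by
  obtain ⟨e⟩ := nonempty_pslEquiv (n := Fin 4) (F := F) (K := ZMod 2) (by rw [hF, ZMod.card])
  letI := actionFin8
  let φ : S4 →* Equiv.Perm (Fin 8) := MulAction.toPermHom S4 (Fin 8)
  have hc : Subgroup.center S4 = ⊥ := by
    rw [← Subgroup.card_eq_one, Cfsg.Agent.S0243.card_center_SL (F := ZMod 2) 4 (by norm_num),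
      ZMod.card]
    rfl
  let ψ : Matrix.ProjectiveSpecialLinearGroup (Fin 4) (ZMod 2) →* Equiv.Perm (Fin 8) :=
    QuotientGroup.lift _ φ (by rw [hc]; exact bot_le)
  have hs := Cfsg.Agent.S0249.result (F := ZMod 2) 4 (by norm_num)
  have hψ : Function.Injective ψ := by
    rw [← MonoidHom.ker_eq_bot_iff]
    rcases (MonoidHom.normal_ker ψ).eq_bot_or_eq_top with h | h
    · exact h
    · exfalso
      let T : S4 := Matrix.SpecialLinearGroup.transvection (zero_ne_one : (0 : Fin 4) ≠ 1) 1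
      have h1 : (QuotientGroup.mk T : Matrix.ProjectiveSpecialLinearGroup (Fin 4) (ZMod 2)) ∈ ψ.ker :=
        h ▸ Subgroup.mem_top _
      rw [MonoidHom.mem_ker] at h1
      have h2 : φ T = 1 := h1
      have h3 : sig T 0 = 0 := by
        have := congrArg (fun σ => σ 0) h2
        exact this
      apply gen_ne
      have h4 := sig_spec T 0
      rw [h3] at h4
      exact h4
  have hcard := Cfsg.Agent.S0243.result (F := ZMod 2) (ZMod.card 2) 4 (by norm_num)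
  simp only [Fin.prod_univ_four] at hcard
  set N := Nat.card (Matrix.ProjectiveSpecialLinearGroup (Fin 4) (ZMod 2)) with hN
  norm_num at hcard
  obtain ⟨e2⟩ := Cfsg.Agent.Lib.Helper6Perm.mulEquiv_alternating_of_injective (X := Fin 8) (n := 8)
    (by simp) ψ hψ (by
      have : Nat.factorial 8 = 40320 := rfl
      omega)
  exact ⟨e.trans e2⟩

end Cfsg.Agent.S0256
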