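import Cfsg.Statements.S0341
import Cfsg.Agent.Lib.Helper61Feit2
import Cfsg.Agent.S1545
import Mathlib

set_option autoImplicit false
set_option linter.unusedSectionVars false
set_option linter.unusedVariables false
open Cfsg

namespace Cfsg.Agent.S0341

open Cfsg.Agent.Lib.Helper61Feit Cfsg.Agent.Lib.Helper61Feit2

/-- hypotheses on the regular normal subgroup -/
structure RD (G Ω : Type*) [Group G] [MulAction G Ω] (N : Subgroup G) : Prop where
  nor : ∀ g : G, ∀ n ∈ N, g * n * g⁻¹ ∈ N
  reg : ∀ n ∈ N, ∀ x : Ω, n • x = x → n = 1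
  tr : ∀ x y : Ω, ∃ n ∈ N, n • x = y
  h3 : ∀ g : G, ∀ a b c : Ω, a ≠ b → b ≠ c → a ≠ c → g • a = a → g • b = b → g • c = c → g = 1
  fx : ∀ a b : Ω, a ≠ b → ∃ g : G, g ≠ 1 ∧ g • a = a ∧ g • b = b

variable {G Ω : Type*} [Group G] [MulAction G Ω] {N : Subgroup G}

theorem RD.comm (R : RD G Ω N) {a : Ω} {c x : G} (hx : x ∈ N) (hca : c • a = a)
    (hcx : c • (x • a) = x • a) : c * x = x * c := by
  have h1 : x⁻¹ * (c * x * c⁻¹) = 1 := by
    apply R.reg _ (N.mul_mem (N.inv_mem hx) (R.nor c x hx)) a
    have hc' : c⁻¹ • a = a := by rw [inv_smul_eq_iff, hca]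
    rw [mul_smul, mul_smul, mul_smul, hc', hcx, inv_smul_smul]
  have h2 : c * x * c⁻¹ = x := by
    have := congrArg (fun z => x * z) h1
    simpa [mul_assoc] using this
  calc c * x = c * x * c⁻¹ * c := by group
    _ = x * c := by rw [h2]

theorem RD.sq (R : RD G Ω N) (a : Ω) {n : G} (hn : n ∈ N) : n * n = 1 := by
  by_cases hna : n • a = a
  · rw [R.reg n hn a hna, mul_one]
  · obtain ⟨g, hg1, hga, hgn⟩ := R.fx a (n • a) (fun h => hna h.symm)
    have hc := R.comm hn hga hgn
    apply R.reg _ (N.mul_mem hn hn) a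
    by_contra hne
    apply hg1
    apply R.h3 g a (n • a) ((n * n) • a) (fun h => hna h.symm) ?_ (fun h => hne h.symm) hga hgn ?_
    · intro h
      rw [mul_smul] at h
      exact hna (smul_left_cancel n h).symm
    · rw [mul_smul, ← mul_smul g, hc, mul_smul, hgn]

theorem RD.inv (R : RD G Ω N) (a : Ω) {n : G} (hn : n ∈ N) : n⁻¹ = n :=
  inv_eq_of_mul_eq_one_left (R.sq a hn)

theorem RD.mul_comm (R : RD G Ω N) (a : Ω) {n m : G} (hn : n ∈ N) (hm : m ∈ N) :
    n * m = m * n := by
  have h1 := R.inv a (N.mul_mem hn hm)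
  rw [mul_inv_rev, R.inv a hn, R.inv a hm] at h1
  exact h1.symm

theorem RD.cent (R : RD G Ω N) {a b : Ω} (hab : a ≠ b) {c x : G} (hc1 : c ≠ 1) (hca : c • a = a)
    (hcb : c • b = b) (hx : x ∈ N) (hxa : x • a = b) {y : G} (hy : y ∈ N) (hcy : c * y = y * c) :
    y = 1 ∨ y = x := by
  have h1 : c • (y • a) = y • a := by rw [← mul_smul, hcy, mul_smul, hca]
  by_cases h2 : y • a = a
  · exact Or.inl (R.reg y hy a h2)
  · right
    by_contra h3
    apply hc1
    apply R.h3 c a b (y • a) hab ?_ (fun h => h2 h.symm) hca hcb h1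
    intro h
    apply h3
    have h4 : x⁻¹ * y = 1 := by
      apply R.reg _ (N.mul_mem (N.inv_mem hx) hy) a
      rw [mul_smul, ← h, ← hxa, inv_smul_smul]
    exact (inv_mul_eq_one.1 h4).symm

theorem RD.card_cent (R : RD G Ω N) {a b : Ω} (hab : a ≠ b) {c : G} (hc1 : c ≠ 1)
    (hca : c • a = a) (hcb : c • b = b) :
    Nat.card ↥(N ⊓ Subgroup.centralizer ((Subgroup.zpowers c : Subgroup G) : Set G)) = 2 := by
  obtain ⟨x, hx, hxa⟩ := R.tr a b
  have hcx : c * x = x * c := R.comm hx hca (by rw [hxa, hcb])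
  have hx1 : x ≠ 1 := by
    rintro rfl
    rw [one_smul] at hxa
    exact hab hxa
  have h1 : N ⊓ Subgroup.centralizer ((Subgroup.zpowers c : Subgroup G) : Set G)
      = Subgroup.zpowers x := by
    apply le_antisymm
    · rintro y ⟨hy, hyc⟩
      have h2 : c * y = y * c :=
        (Subgroup.mem_centralizer_iff.1 hyc) c (Subgroup.mem_zpowers c)
      rcases R.cent hab hc1 hca hcb hx hxa hy h2 with h | h
      · rw [h]; exact Subgroup.one_mem _
      · rw [h]; exact Subgroup.mem_zpowers x
    · rw [Subgroup.zpowers_le]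
      refine ⟨hx, ?_⟩
      show x ∈ Subgroup.centralizer ((Subgroup.zpowers c : Subgroup G) : Set G)
      rw [Subgroup.mem_centralizer_iff]
      intro d hd
      obtain ⟨i, rfl⟩ := Subgroup.mem_zpowers_iff.1 hd
      have : Commute c x := hcx
      exact (this.zpow_left i)
  rw [h1, Nat.card_zpowers]
  exact orderOf_eq_prime (by rw [pow_two]; exact R.sq a hx) hx1

theorem RD.card_le_four (R : RD G Ω N) {a b : Ω} (hab : a ≠ b) {c : G} (hc1 : c ≠ 1)
    (hcc : c * c = 1) (hca : c • a = a) (hcb : c • b = b) : Nat.card N ≤ 4 := by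
  classical
  obtain ⟨x, hx, hxa⟩ := R.tr a b
  have hcx : c * x = x * c := R.comm hx hca (by rw [hxa, hcb])
  have hcinv : c⁻¹ = c := inv_eq_of_mul_eq_one_left hcc
  -- for `y ∈ N` outside `{1, x}`, `c y c⁻¹ = x y`
  have key : ∀ y ∈ N, (y = 1 ∨ y = x) ∨ c * y = x * y * c := by
    intro y hy
    have hy' : c * y * c⁻¹ ∈ N := R.nor c y hy
    have h1 : c * (y * (c * y * c⁻¹)) = (y * (c * y * c⁻¹)) * c := by
      rw [R.mul_comm a hy hy', hcinv]
      calc c * (c * y * c * y) = (c * c) * y * c * y := by group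
        _ = y * c * y := by rw [hcc, one_mul]
        _ = y * c * y * (c * c) := by rw [hcc, mul_one]
        _ = _ := by
          have : c * y * c * y = y * (c * y * c) := by
            have := R.mul_comm a hy' hy
            rwa [hcinv] at this
          rw [this]; group
    rcases R.cent hab hc1 hca hcb hx hxa (N.mul_mem hy hy') h1 with h | h
    · left
      have h2 : c * y * c⁻¹ = y := by
        have := eq_inv_of_mul_eq_one_right h
        rw [this, R.inv a hy]
      apply R.cent hab hc1 hca hcb hx hxa hy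
      calc c * y = c * y * c⁻¹ * c := by group
        _ = y * c := by rw [h2]
    · right
      have h2 : c * y * c⁻¹ = x * y := by
        have h3 : c * y * c⁻¹ = y⁻¹ * x := by rw [← h]; group
        rw [h3, R.inv a hy, R.mul_comm a hy hx]
      calc c * y = c * y * c⁻¹ * c := by group
        _ = x * y * c := by rw [h2]
  by_cases hall : ∀ y ∈ N, y = 1 ∨ y = x
  · have hsub : (N : Set G) ⊆ (({1, x} : Finset G) : Set G) := by
      intro y hy
      rcases hall y hy with h | h <;> simp [h]
    calc Nat.card N = (N : Set G).ncard := (Nat.card_coe_set_eq _)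
      _ ≤ ((({1, x} : Finset G) : Set G)).ncard := Set.ncard_le_ncard hsub (Finset.finite_toSet _)
      _ = ({1, x} : Finset G).card := Set.ncard_coe_finset _
      _ ≤ 2 := Finset.card_le_two
      _ ≤ 4 := by norm_num
  · push Not at hall
    obtain ⟨y, hy, hy1, hyx⟩ := hall
    have hcy : c * y = x * y * c := by
      rcases key y hy with h | h
      · rcases h with h | h
        · exact absurd h hy1
        · exact absurd h hyx
      · exact h
    have hsub : (N : Set G) ⊆ (({1, x, y, x * y} : Finset G) : Set G) := by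
      intro z hz
      rcases key z hz with h | h
      · rcases h with h | h <;> simp [h]
      · have h1 : c * (y * z) = (y * z) * c := by
          calc c * (y * z) = (c * y) * z := by group
            _ = x * y * (c * z) := by rw [hcy]; group
            _ = x * y * (x * z) * c := by rw [h]; group
            _ = (x * x) * (y * z) * c := by
              have := R.mul_comm a hy hx
              calc x * y * (x * z) * c = x * (y * x) * z * c := by group
                _ = x * (x * y) * z * c := by rw [this]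
                _ = _ := by group
            _ = (y * z) * c := by rw [R.sq a hx, one_mul]
        rcases R.cent hab hc1 hca hcb hx hxa (N.mul_mem hy hz) h1 with h2 | h2
        · have : z = y := by
            have := eq_inv_of_mul_eq_one_right h2
            rw [this, R.inv a hy]
          simp [this]
        · have : z = x * y := by
            have h3 : z = y⁻¹ * x := by rw [← h2]; group
            rw [h3, R.inv a hy, R.mul_comm a hy hx]
          simp [this]
    calc Nat.card N = (N : Set G).ncard := (Nat.card_coe_set_eq _)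
      _ ≤ ((({1, x, y, x * y} : Finset G) : Set G)).ncard :=
          Set.ncard_le_ncard hsub (Finset.finite_toSet _)
      _ = ({1, x, y, x * y} : Finset G).card := Set.ncard_coe_finset _
      _ ≤ 4 := Finset.card_le_four

theorem RD.odd_case [Finite G] [Finite Ω] (R : RD G Ω N) {h k : ℕ} (D : TData G Ω h)
    (hk : Nat.card N = 2 ^ k) (hN : Nat.card N = h + 1) (hh : 2 ≤ h) {a b : Ω} (hab : a ≠ b)
    (hno : ∀ c : G, c ≠ 1 → c * c = 1 → c • a = a → c • b = b → False) :
    ∃ p : ℕ, p.Prime ∧ Nat.card N = 2 ^ p := by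
  classical
  obtain ⟨g, hg1, hga, hgb⟩ := R.fx a b hab
  have hgm : g ∈ stab2 G a b := mem_stab2.2 ⟨hga, hgb⟩
  have he : 2 ≤ Nat.card (stab2 G a b) := by
    by_contra hlt
    have h1 : Nat.card (stab2 G a b) = 1 := by
      have : 0 < Nat.card (stab2 G a b) := Nat.card_pos
      omega
    rw [Subgroup.card_eq_one] at h1
    rw [h1, Subgroup.mem_bot] at hgm
    exact hg1 hgm
  -- an element of prime order
  have hm1 : orderOf g ≠ 1 := fun h => hg1 (orderOf_eq_one_iff.1 h)
  have hr : (orderOf g).minFac.Prime := Nat.minFac_prime hm1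
  set r := (orderOf g).minFac with hrdef
  set c := g ^ (orderOf g / r) with hcdef
  have hcr : orderOf c = r :=
    orderOf_pow_orderOf_div (orderOf_pos g).ne' (Nat.minFac_dvd _)
  have hcm : c ∈ stab2 G a b := Subgroup.pow_mem _ hgm _
  obtain ⟨hca, hcb⟩ := mem_stab2.1 hcm
  have hc1 : c ≠ 1 := by
    intro h
    rw [h, orderOf_one] at hcr
    exact hr.one_lt.ne hcr
  -- orders
  have hodd2 : Odd (Nat.card (stab2 G a b)) := by
    by_contra hne
    rw [Nat.not_odd_iff_even] at hne
    haveI : Fact (Nat.Prime 2) := ⟨Nat.prime_two⟩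
    obtain ⟨t, ht⟩ := exists_prime_orderOf_dvd_card' (G := stab2 G a b) 2 hne.two_dvd
    obtain ⟨hta, htb⟩ := mem_stab2.1 t.2
    apply hno (t : G) ?_ ?_ hta htb
    · intro h
      have : t = 1 := Subtype.ext h
      rw [this, orderOf_one] at ht
      omega
    · have h1 := pow_orderOf_eq_one t
      rw [ht, pow_two] at h1
      exact congrArg Subtype.val h1
  have hk1 : k ≠ 0 := by
    rintro rfl
    rw [hN] at hk
    simp at hk
    omega
  have hoddh : Odd h := by
    have h1 : Even (h + 1) := by
      rw [← hN, hk]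
      exact (Nat.even_pow.2 ⟨even_two, hk1⟩)
    by_contra hne
    rw [Nat.not_odd_iff_even] at hne
    have := hne.add_one
    exact (Nat.not_even_iff_odd.2 this) h1
  have hoddS : Odd (Nat.card (MulAction.stabilizer G a)) := by
    rw [card_stab D hab]
    exact hoddh.mul hodd2
  obtain ⟨U, K, -⟩ := exists_KData D hab he hh
  set E := Subgroup.zpowers c with hE
  have hEle : E ≤ MulAction.stabilizer G a := by
    rw [hE, Subgroup.zpowers_le]
    exact hca
  have hEb : ∀ e ∈ E, e • b = b := by
    intro e he'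
    have : E ≤ MulAction.stabilizer G b := by
      rw [hE, Subgroup.zpowers_le]
      exact hcb
    exact this he'
  have hUEle : U ⊔ E ≤ MulAction.stabilizer G a := sup_le K.le hEle
  have hU1 : U ≠ ⊥ := by
    intro h
    have := K.card
    rw [h, Subgroup.card_bot] at this
    omega
  have hE1 : E ≠ ⊥ := by
    intro h
    have : c ∈ E := Subgroup.mem_zpowers c
    rw [h, Subgroup.mem_bot] at this
    exact hc1 this
  have hCU : N ⊓ Subgroup.centralizer (U : Set G) = ⊥ := by
    rw [Subgroup.eq_bot_iff_forall]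
    rintro x ⟨hx, hxc⟩
    by_contra hx1
    obtain ⟨u, hu, hu1⟩ := (Subgroup.ne_bot_iff_exists_ne_one.1 hU1 |>.imp fun u hu => hu) |> fun
      ⟨u, hu⟩ => (⟨(u : G), u.2, fun h => hu (Subtype.ext h)⟩ : ∃ u : G, u ∈ U ∧ u ≠ 1)
    have h1 : u * x = x * u := (Subgroup.mem_centralizer_iff.1 hxc) u hu
    have h2 : u • (x • a) = x • a := by
      rw [← mul_smul, h1, mul_smul]
      congr 1
      exact K.le hu
    have h3 := K.fix u hu hu1 _ h2
    exact hx1 (R.reg x hx a h3)
  have hCUE : N ⊓ Subgroup.centralizer ((U ⊔ E : Subgroup G) : Set G) = ⊥ := by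
    rw [eq_bot_iff, ← hCU]
    apply inf_le_inf_left
    apply Subgroup.centralizer_le
    exact (le_sup_left : U ≤ U ⊔ E)
  have main := Cfsg.Agent.S1545.result U E N hU1 hE1
    (by
      rw [Subgroup.eq_bot_iff_forall]
      rintro x ⟨hxU, hxE⟩
      by_contra hx1
      exact hab (K.fix x hxU hx1 b (hEb x hxE)).symm)
    (fun e he' u hu => K.conj_mem D hab he hh (hEle he') hu)
    (by
      intro e he' he1 u hu heu
      by_contra hu1
      have hua : u • a = a := K.le hu
      have h1 : e • (u • b) = u • b := by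
        rw [← mul_smul, heu, mul_smul, hEb e he']
      apply he1
      apply R.h3 e a b (u • b) hab ?_ ?_ (hEle he') (hEb e he') h1
      · intro h
        exact hab (K.fix u hu hu1 b h.symm).symm
      · intro h
        rw [← hua] at h
        exact hab (smul_left_cancel u h))
    (fun x _ n hn => R.nor x n hn)
    (by
      rw [Subgroup.eq_bot_iff_forall]
      rintro x ⟨hxN, hxS⟩
      exact R.reg x hxN a (hUEle hxS))
    (Group.isSolvable_of_comm (fun x y => Subtype.ext (R.mul_comm a x.2 y.2)))
    (by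
      rw [hk]
      apply Nat.Coprime.pow_left
      rw [Nat.coprime_two_left]
      exact hoddS.of_dvd_nat (Subgroup.card_dvd_of_le hUEle))
  rw [hCUE, hCU, Subgroup.card_bot, one_pow, one_mul, mul_one, hE,
    R.card_cent hab hc1 hca hcb, Nat.card_zpowers, hcr] at main
  exact ⟨r, hr, main⟩

/-- If a finite group acts faithfully and doubly transitively, no non-identity element fixes three points, some
non-identity element fixes two points, and some normal subgroup acts regularly, then the number of points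
is `2^p` with `p` prime. -/
theorem result {G Ω : Type*} [Group G]
    [MulAction G Ω] [Fintype Ω] [FaithfulSMul G Ω] (h2 : MulAction.IsMultiplyPretransitive G Ω 2)
    (h3 : ∀ g : G, ∀ a b c : Ω, a ≠ b → b ≠ c → a ≠ c → g • a = a → g • b = b → g • c = c → g = 1)
    (hfix : ∃ g : G, g ≠ 1 ∧ ∃ a b : Ω, a ≠ b ∧ g • a = a ∧ g • b = b)
    (N : Subgroup G) [N.Normal] (hNt : MulAction.IsPretransitive N Ω)
    (hNr : ∀ a : Ω, MulAction.stabilizer N a = ⊥) :
    ∃ p : ℕ, p.Prime ∧ Fintype.card Ω = 2 ^ p := by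
  classical
  haveI : Finite G := Finite.of_injective (MulAction.toPermHom G Ω) MulAction.toPerm_injective
  obtain ⟨g, hg1, a, b, hab, hga, hgb⟩ := hfix
  have hpos : 0 < Nat.card Ω := by
    haveI : Nonempty Ω := ⟨a⟩
    exact Nat.card_pos
  obtain ⟨h, hh⟩ : ∃ h, Nat.card Ω = h + 1 := ⟨Nat.card Ω - 1, by omega⟩
  have D : TData G Ω h := ⟨hh, h2, h3⟩
  have R : RD G Ω N := by
    refine ⟨fun g n hn => ‹N.Normal›.conj_mem n hn g, ?_, ?_, h3, ?_⟩
    · intro n hn x hx
      have h1 : (⟨n, hn⟩ : N) ∈ MulAction.stabilizer N x := hx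
      rw [hNr x, Subgroup.mem_bot] at h1
      exact congrArg Subtype.val h1
    · intro x y
      obtain ⟨n, hn⟩ := hNt.exists_smul_eq x y
      exact ⟨n, n.2, hn⟩
    · intro a' b' hab'
      obtain ⟨w, hwa, hwb⟩ := exists_smul_pair D hab hab'
      refine ⟨w * g * w⁻¹, ?_, ?_, ?_⟩
      · intro h
        apply hg1
        have : g = w⁻¹ * (w * g * w⁻¹) * w := by group
        rw [this, h]; group
      · rw [mul_smul, mul_smul, ← hwa, inv_smul_smul, hga]
      · rw [mul_smul, mul_smul, ← hwb, inv_smul_smul, hgb]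
  have hcardN : Nat.card N = Nat.card Ω := by
    apply Nat.card_congr
    refine Equiv.ofBijective (fun n : N => (n : G) • a) ⟨?_, ?_⟩
    · intro n m hnm
      have hnm' : (n : G) • a = (m : G) • a := hnm
      have h1 : (m : G)⁻¹ * (n : G) = 1 := by
        apply R.reg _ (N.mul_mem (N.inv_mem m.2) n.2) a
        rw [mul_smul, hnm', inv_smul_smul]
      exact Subtype.ext (inv_mul_eq_one.1 h1).symm
    · intro y
      obtain ⟨n, hn, hny⟩ := R.tr a y
      exact ⟨⟨n, hn⟩, hny⟩
  -- a third point
  obtain ⟨z, hz⟩ : ∃ z : Ω, g • z ≠ z := by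
    by_contra hne
    push Not at hne
    apply hg1
    apply FaithfulSMul.eq_of_smul_eq_smul (α := Ω)
    intro z
    rw [hne z, one_smul]
  have hza : z ≠ a := by rintro rfl; exact hz hga
  have hzb : z ≠ b := by rintro rfl; exact hz hgb
  have hh2 : 2 ≤ h := by
    have h1 : ({a, b, z} : Finset Ω).card = 3 := by
      rw [Finset.card_eq_three]
      exact ⟨a, b, z, hab, hza.symm, hzb.symm, rfl⟩
    have h4 := Finset.card_le_univ ({a, b, z} : Finset Ω)
    rw [h1, ← Nat.card_eq_fintype_card, hh] at h4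
    omega
  haveI : Fact (Nat.Prime 2) := ⟨Nat.prime_two⟩
  have hP : IsPGroup 2 N := by
    intro n
    refine ⟨1, ?_⟩
    rw [pow_one, pow_two]
    exact Subtype.ext (R.sq a n.2)
  obtain ⟨k, hk⟩ := IsPGroup.iff_card.1 hP
  rw [← Nat.card_eq_fintype_card, ← hcardN]
  by_cases hinv : ∃ c : G, c ≠ 1 ∧ c * c = 1 ∧ c • a = a ∧ c • b = b
  · obtain ⟨c, hc1, hcc, hca, hcb⟩ := hinv
    have h4 := R.card_le_four hab hc1 hcc hca hcb
    refine ⟨2, Nat.prime_two, ?_⟩
    have h5 : 3 ≤ Nat.card N := by rw [hcardN, hh]; omega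
    rw [hk] at h4 h5 ⊢
    have h6 : k ≤ 2 := by
      by_contra hlt
      have : 2 ^ 3 ≤ 2 ^ k := Nat.pow_le_pow_right (by norm_num) (by omega)
      omega
    interval_cases k <;> simp_all
  · push Not at hinv
    exact R.odd_case D hk (hcardN.trans hh) hh2 hab
      (fun c hc1 hcc hca hcb => hinv c hc1 hcc hca hcb)

end Cfsg.Agent.S0341
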