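import Cfsg.Statements.S0346
import Cfsg.Agent.Lib.Helper61Feit14
import Cfsg.Agent.S0741

set_option autoImplicit false
open Cfsg

namespace Cfsg.Agent.S0346

/-- The number of points of a finite simple Zassenhaus group is `p^k + 1` for some prime power `p^k` (the regular normal
subgroup of a point stabiliser is a `p`-group). -/
theorem result {G Ω : Type*} [Group G] [Finite G] [MulAction G Ω] [Fintype Ω]
    (hZ : Cfsg.IsZassenhausGroup G Ω) [IsSimpleGroup G] :
    IsPrimePow (Fintype.card Ω - 1) := by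
  classical
  have : Fintype G := Fintype.ofFinite G
  obtain ⟨g, hg, a, b, hab, hga, hgb⟩ := hZ.2.2.2.1
  obtain ⟨h, hh⟩ : ∃ h, Fintype.card Ω = h + 1 := ⟨Fintype.card Ω - 1, by
    have : 0 < Fintype.card Ω := Fintype.card_pos_iff.2 ⟨a⟩
    omega⟩
  have hh' : Nat.card Ω = h + 1 := by rw [Nat.card_eq_fintype_card, hh]
  have D := Cfsg.Agent.Lib.Helper61Feit.tdata_of_zass hZ hh'
  have he2 := Cfsg.Agent.Lib.Helper61Feit.two_le_card_stab2 hZ hh' hab
  have h2 : 2 ≤ h := by
    by_contra hcon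
    have := hZ.1
    apply hg
    apply FaithfulSMul.eq_of_smul_eq_smul (α := Ω)
    intro z
    rw [one_smul]
    by_cases hz : z = a
    · rw [hz, hga]
    by_cases hz' : z = b
    · rw [hz', hgb]
    exfalso
    have h5 : 2 < Fintype.card Ω := Fintype.two_lt_card_iff.2 ⟨a, b, z, hab, Ne.symm hz, Ne.symm hz'⟩
    omega
  obtain ⟨H, K, -⟩ := Cfsg.Agent.Lib.Helper61Feit2.exists_KData D hab he2 h2
  rw [hh, Nat.add_sub_cancel]
  rcases Nat.even_or_odd (Nat.card (Cfsg.Agent.Lib.Helper61Feit.stab2 G a b)) with hev | hodd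
  · have h1 := Cfsg.Agent.S0741.result hZ hab hev
    exact Cfsg.Agent.Lib.Helper61Feit14.primePow_of_le D hab he2 h2 K (by
      have h3 : Fintype.card Ω - 2 ≤ 2 * Nat.card (Cfsg.Agent.Lib.Helper61Feit.stab2 G a b) := h1
      omega)
  · rcases Cfsg.Agent.Lib.Helper61Feit13.simple_case hZ hh' hab hodd K with h1 | ⟨h1, -, -⟩
    · exact Cfsg.Agent.Lib.Helper61Feit14.primePow_of_le D hab he2 h2 K h1
    · obtain ⟨n, hn⟩ := (IsPGroup.iff_card (p := 2)).1 h1
      rw [K.card] at hn
      rw [hn]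
      have hn0 : n ≠ 0 := by
        rintro rfl
        rw [pow_zero] at hn
        omega
      exact (Nat.prime_two.isPrimePow).pow hn0

end Cfsg.Agent.S0346
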