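import Cfsg.Statements.S0432

set_option autoImplicit false
open Cfsg

namespace Cfsg.Agent.S0432

open scoped Pointwise in
/-- Coordinate permutations from the code's group preserve the lattice. -/
theorem result (σ : Equiv.Perm Cfsg.GolayPt) (hσ : σ ∈ Cfsg.M24) (x : Cfsg.GolayPt → ℤ) (hx : x ∈ Cfsg.leechLattice) : (fun i => x (σ i)) ∈ Cfsg.leechLattice := by
  have hinv : σ⁻¹ ∈ Cfsg.M24 := inv_mem hσ
  have hS : ∀ b ∈ supports (golayCode : Set (GolayPt → ZMod 2)),
      σ⁻¹ • b ∈ supports (golayCode : Set (GolayPt → ZMod 2)) := by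
    intro b hb
    have h1 : σ⁻¹ • supports (golayCode : Set (GolayPt → ZMod 2))
        = supports (golayCode : Set (GolayPt → ZMod 2)) := MulAction.mem_stabilizer_iff.mp hinv
    have h2 := Set.smul_mem_smul_set (a := σ⁻¹) hb
    rwa [h1] at h2
  unfold leechLattice at hx ⊢
  induction hx using AddSubgroup.closure_induction with
  | mem x hx =>
    apply AddSubgroup.subset_closure
    obtain ⟨m, h1, h2, h3⟩ := hx
    refine ⟨m, fun i => h1 (σ i), ?_, fun k => ?_⟩
    · rw [Equiv.sum_comp σ x]; exact h2
    · have := hS _ (h3 k)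
      convert this using 1
      ext i
      rw [← Finset.inv_smul_mem_iff]
      simp
  | zero => exact zero_mem _
  | add x y _ _ hx hy => exact add_mem hx hy
  | neg x _ hx => exact neg_mem hx

end Cfsg.Agent.S0432
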