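import Cfsg.Statements.S0433

set_option autoImplicit false
open Cfsg

namespace Cfsg.Agent.S0433

theorem dot_qr : ∀ s t : ZMod 23, ∑ i, qrWord s i * qrWord t i = 0 := by decide +kernel
theorem dot_qr_one : ∀ s : ZMod 23, ∑ i, qrWord s i = 0 := by decide +kernel
theorem wt_qr : ∀ s : ZMod 23, ∑ i, ((qrWord s i).val : ℤ) = 12 := by decide +kernel
theorem wt_one : ∑ i : GolayPt, (((1 : GolayPt → ZMod 2) i).val : ℤ) = 24 := by decide +kernel

theorem dot_zero (u v : GolayPt → ZMod 2) (hu : u ∈ golayCode) (hv : v ∈ golayCode) :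
    ∑ i, u i * v i = 0 := by
  unfold golayCode at hu hv
  induction hu using Submodule.span_induction with
  | mem u hu =>
    induction hv using Submodule.span_induction with
    | mem v hv =>
      rcases hu with ⟨s, rfl⟩ | rfl <;> rcases hv with ⟨t, rfl⟩ | rfl
      · exact dot_qr s t
      · simpa using dot_qr_one s
      · simpa using dot_qr_one t
      · decide +kernel
    | zero => simp
    | add a b _ _ ha hb => simp [mul_add, Finset.sum_add_distrib, ha, hb]
    | smul r a _ ha => simp [mul_left_comm, ← Finset.mul_sum, ha]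
  | zero => simp
  | add a b _ _ ha hb => simp [add_mul, Finset.sum_add_distrib, ha, hb]
  | smul r a _ ha => simp [mul_assoc, ← Finset.mul_sum, ha]

theorem val_add2 : ∀ a b : ZMod 2, ((a + b).val : ℤ) = a.val + b.val - 2 * (a.val * b.val) := by
  decide

theorem val_mul2 : ∀ a b : ZMod 2, ((a * b).val : ℤ) = a.val * b.val := by decide

theorem even_of_sum_zero (f : GolayPt → ZMod 2) (h : ∑ i, f i = 0) :
    (2 : ℤ) ∣ ∑ i, ((f i).val : ℤ) := by
  have h1 : ((∑ i, (f i).val : ℕ) : ZMod 2) = 0 := by
    rw [Nat.cast_sum]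
    simpa using h
  rw [ZMod.natCast_eq_zero_iff] at h1
  have : (∑ i, ((f i).val : ℤ)) = ((∑ i, (f i).val : ℕ) : ℤ) := by push_cast; rfl
  rw [this]
  exact_mod_cast h1

theorem inter_even (u v : GolayPt → ZMod 2) (hu : u ∈ golayCode) (hv : v ∈ golayCode) :
    (2 : ℤ) ∣ ∑ i, ((u i).val : ℤ) * (v i).val := by
  have := even_of_sum_zero _ (dot_zero u v hu hv)
  simpa only [val_mul2] using this

theorem wt_four (u : GolayPt → ZMod 2) (hu : u ∈ golayCode) :
    (4 : ℤ) ∣ ∑ i, ((u i).val : ℤ) := by
  unfold golayCode at hu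
  induction hu using Submodule.span_induction with
  | mem u hu =>
    rcases hu with ⟨s, rfl⟩ | rfl
    · rw [wt_qr]; norm_num
    · rw [wt_one]; norm_num
  | zero => simp
  | add a b ha' hb' ha hb =>
    obtain ⟨k, hk⟩ := inter_even a b ha' hb'
    simp only [Pi.add_apply, val_add2, Finset.sum_sub_distrib, Finset.sum_add_distrib,
      ← Finset.mul_sum, hk]
    obtain ⟨p, hp⟩ := ha
    obtain ⟨q, hq⟩ := hb
    rw [hp, hq]
    exact ⟨p + q - k, by ring⟩
  | smul r a _ ha =>
    have : r = 0 ∨ r = 1 := by revert r; decide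
    rcases this with rfl | rfl
    · simp
    · simpa using ha

theorem zmod2_cases : ∀ a : ZMod 2, (a = 0 ∧ a.val = 0) ∨ (a ≠ 0 ∧ a.val = 1) := by decide

theorem zmod2_add_ne : ∀ a b : ZMod 2, a + b ≠ 0 ↔ (a ≠ 0 ↔ b = 0) := by decide

theorem flip_mem_leechSet (w : GolayPt → ZMod 2) (hw : w ∈ golayCode) (x : GolayPt → ℤ)
    (hx : x ∈ leechSet) : (fun i => if i ∈ support₂ w then -x i else x i) ∈ leechSet := by
  obtain ⟨m, h1, h2, h3⟩ := hx
  have hwc : ∀ i, i ∈ support₂ w ↔ w i ≠ 0 := by intro i; simp [support₂]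
  refine ⟨m, ?_, ?_, ?_⟩
  · intro i
    have := h1 i
    simp only [Int.ModEq] at this ⊢
    split_ifs <;> omega
  · obtain ⟨u, hu, hu'⟩ := h3 (m + 2)
    have hu2 : ∀ i, u i ≠ 0 ↔ x i ≡ m + 2 [ZMOD 4] := by
      intro i
      have := Finset.ext_iff.mp hu' i
      simpa [support₂] using this
    have hpt : ∀ i, ∃ q : ℤ, x i = m + 2 * ((u i).val : ℤ) + 4 * q := by
      intro i
      have a1 := h1 i
      have a2 := hu2 i
      simp only [Int.ModEq] at a1 a2
      rcases zmod2_cases (u i) with ⟨b1, b2⟩ | ⟨b1, b2⟩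
      · have a3 : ¬ (x i % 4 = (m + 2) % 4) := fun h => (a2.mpr h) b1
        rw [b2]
        exact ⟨(x i - m) / 4, by push_cast; omega⟩
      · have a3 := a2.mp b1
        rw [b2]
        exact ⟨(x i - m - 2) / 4, by push_cast; omega⟩
    choose q hq using hpt
    have hy : ∀ i, (if i ∈ support₂ w then -x i else x i) = x i - 2 * (((w i).val : ℤ) * x i) := by
      intro i
      rcases zmod2_cases (w i) with ⟨b1, b2⟩ | ⟨b1, b2⟩
      · rw [if_neg (by rw [hwc]; simpa using b1), b2]; simp
      · rw [if_pos (by rw [hwc]; exact b1), b2]; push_cast; ring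
    have hsum : (4 : ℤ) ∣ ∑ i, ((w i).val : ℤ) * x i := by
      have e : ∑ i, ((w i).val : ℤ) * x i = m * ∑ i, ((w i).val : ℤ)
          + 2 * ∑ i, ((w i).val : ℤ) * (u i).val + 4 * ∑ i, ((w i).val : ℤ) * q i := by
        simp only [Finset.mul_sum, ← Finset.sum_add_distrib]
        apply Finset.sum_congr rfl
        intro i _
        conv_lhs => rw [hq i]
        ring
      obtain ⟨p, hp⟩ := wt_four w hw
      obtain ⟨r, hr⟩ := inter_even w u hw hu
      rw [e, hp, hr]
      exact ⟨m * p + r + ∑ i, ((w i).val : ℤ) * q i, by ring⟩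
    simp only [hy, Finset.sum_sub_distrib, ← Finset.mul_sum]
    obtain ⟨p, hp⟩ := hsum
    rw [hp]
    simp only [Int.ModEq] at h2 ⊢
    omega
  · intro k
    by_cases hcase : m % 2 = 1 ∧ k % 2 = 1
    · obtain ⟨u, hu, hu'⟩ := h3 k
      have hu2 : ∀ i, u i ≠ 0 ↔ x i ≡ k [ZMOD 4] := by
        intro i
        have := Finset.ext_iff.mp hu' i
        simpa [support₂] using this
      refine ⟨u + w, add_mem hu hw, ?_⟩
      ext i
      have a1 := h1 i
      have a2 := hu2 i
      simp only [Int.ModEq] at a1 a2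
      simp only [support₂, Finset.mem_filter, Finset.mem_univ, true_and, Pi.add_apply,
        zmod2_add_ne, Int.ModEq]
      rw [a2]
      by_cases hwi : w i = 0
      · simp only [hwi, ne_eq, not_true_eq_false, if_false, iff_true]
      · simp only [hwi, ne_eq, not_false_eq_true, if_true, iff_false]
        omega
    · have : (Finset.univ.filter fun i => (if i ∈ support₂ w then -x i else x i) ≡ k [ZMOD 4])
          = (Finset.univ.filter fun i => x i ≡ k [ZMOD 4]) := by
        ext i
        have a1 := h1 i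
        simp only [Int.ModEq] at a1
        rw [Finset.mem_filter, Finset.mem_filter]
        simp only [Finset.mem_univ, true_and, Int.ModEq]
        split_ifs <;> omega
      rw [this]
      exact h3 k

/-- Sign changes on the support of a codeword preserve the lattice. -/
theorem result (c : Finset Cfsg.GolayPt) (hc : c ∈ Cfsg.supports (Cfsg.golayCode : Set (Cfsg.GolayPt → ZMod 2))) (x : Cfsg.GolayPt → ℤ) (hx : x ∈ Cfsg.leechLattice) : (fun i => if i ∈ c then -x i else x i) ∈ Cfsg.leechLattice := by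
  obtain ⟨w, hw, rfl⟩ := hc
  unfold leechLattice at hx ⊢
  induction hx using AddSubgroup.closure_induction with
  | mem x hx => exact AddSubgroup.subset_closure (flip_mem_leechSet w hw x hx)
  | zero =>
    have : (fun i => if i ∈ support₂ w then -(0 : GolayPt → ℤ) i else (0 : GolayPt → ℤ) i) = 0 := by
      ext i
      simp
    rw [this]
    exact zero_mem _
  | add x y _ _ hx hy =>
    convert add_mem hx hy using 1
    ext i
    simp only [Pi.add_apply]
    split_ifs <;> ring
  | neg x _ hx =>
    convert neg_mem hx using 1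
    ext i
    simp only [Pi.neg_apply]
    split_ifs <;> ring

end Cfsg.Agent.S0433
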