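import Cfsg.Statements.S0495
import Cfsg.Agent.Lib.Helper63RecD

set_option autoImplicit false
open Cfsg

namespace Cfsg.Agent.S0495

/-- A simple group of order 168 is isomorphic to the projective special linear group of dimension 2 over the field with
7 elements. -/
theorem result {G : Type*} [Group G] [Finite G] [IsSimpleGroup G]
    (h : Nat.card G = 168) {F : Type*} [Field F] [Fintype F] (hF : Fintype.card F = 7) :
    Nonempty (G ≃* Matrix.ProjectiveSpecialLinearGroup (Fin 2) F) := by
  haveI : Fact (Nat.Prime 7) := ⟨by norm_num⟩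
  haveI : Fact (Nat.Prime 3) := ⟨by norm_num⟩
  have hn : Nat.card (Sylow 7 G) = 7 + 1 :=
    Cfsg.Agent.Lib.Helper63RecD.card_sylow_of 24 8 (by rw [h]) (by norm_num) (by norm_num) (by
      intro d hd h1
      have hle : d ≤ 24 := Nat.le_of_dvd (by norm_num) hd
      have key : ∀ d ∈ Finset.range 25, d ∣ 24 → d % 7 = 1 → d = 1 ∨ d = 8 := by decide
      exact key d (Finset.mem_range.mpr (by omega)) hd h1)
  exact Cfsg.Agent.Lib.Helper63RecD.of_sylow' 3 3 1 (by norm_num) (by decide) (by norm_num)
    (by norm_num) (by rw [h]) hn hF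

end Cfsg.Agent.S0495
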