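import Cfsg.Statements.S0496
import Cfsg.Agent.Lib.H66SvArith
import Cfsg.Agent.Lib.H66SvN120
import Cfsg.Agent.Lib.H66SvN180
import Cfsg.Agent.Lib.H66SvN264
import Cfsg.Agent.Lib.H66SvN336
import Cfsg.Agent.Lib.H66SvN420
import Cfsg.Agent.Lib.H66SvN480
import Cfsg.Agent.Lib.H66SvN528
import Cfsg.Agent.Lib.H66SvN560
import Cfsg.Agent.Lib.H66SvN612
import Cfsg.Agent.Lib.H66SvN672
import Cfsg.Agent.Lib.H66SvN720
import Cfsg.Agent.Lib.H66SvN756
import Cfsg.Agent.Lib.H66SvN760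
import Cfsg.Agent.Lib.H66SvN792
import Cfsg.Agent.Lib.H66SvN840
import Cfsg.Agent.Lib.H66SvN900
import Cfsg.Agent.Lib.H66SvN960
import Cfsg.Agent.Lib.H66SvN1008
import Cfsg.Agent.Lib.H66SvN1040
import Cfsg.Agent.Lib.H66SvN1056
import Cfsg.Agent.Lib.H66SvN1080

set_option autoImplicit false
open Cfsg

namespace Cfsg.Agent.S0496

/-- A non-abelian finite simple group of order at most 1092 has order 60, 168, 360, 504, 660 or 1092. -/
theorem result {G : Type*} [Group G] [Finite G] [IsSimpleGroup G]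
    (hG : ¬ IsMulCommutative G) (h : Nat.card G ≤ 1092) :
    Nat.card G = 60 ∨ Nat.card G = 168 ∨ Nat.card G = 360 ∨ Nat.card G = 504 ∨ Nat.card G = 660 ∨
      Nat.card G = 1092 := by
  have h1 := Cfsg.Agent.Lib.H66SvArith.arith (Nat.card G) (Finset.mem_range.2 (by omega))
  rcases h1 with h1 | h1
  · exact absurd h1 (Cfsg.Agent.Lib.H66SvGen.not_sieved hG)
  · simp only [Finset.mem_insert, Finset.mem_singleton] at h1
    rcases h1 with h1 | h1 | h1 | h1 | h1 | h1 | h1 | h1 | h1 | h1 | h1 | h1 | h1 | h1 | h1 | h1 | h1 | h1 | h1 | h1 | h1 | h1 | h1 | h1 | h1 | h1 | h1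
    · exact Or.inl h1
    · exact Or.inr (Or.inl h1)
    · exact Or.inr (Or.inr (Or.inl h1))
    · exact Or.inr (Or.inr (Or.inr (Or.inl h1)))
    · exact Or.inr (Or.inr (Or.inr (Or.inr (Or.inl h1))))
    · exact Or.inr (Or.inr (Or.inr (Or.inr (Or.inr h1))))
    · exact absurd h1 Cfsg.Agent.Lib.H66SvN120.not_simple
    · exact absurd h1 Cfsg.Agent.Lib.H66SvN180.not_simple
    · exact absurd h1 Cfsg.Agent.Lib.H66SvN264.not_simple
    · exact absurd h1 Cfsg.Agent.Lib.H66SvN336.not_simple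
    · exact absurd h1 Cfsg.Agent.Lib.H66SvN420.not_simple
    · exact absurd h1 Cfsg.Agent.Lib.H66SvN480.not_simple
    · exact absurd h1 Cfsg.Agent.Lib.H66SvN528.not_simple
    · exact absurd h1 Cfsg.Agent.Lib.H66SvN560.not_simple
    · exact absurd h1 Cfsg.Agent.Lib.H66SvN612.not_simple
    · exact absurd h1 Cfsg.Agent.Lib.H66SvN672.not_simple
    · exact absurd h1 Cfsg.Agent.Lib.H66SvN720.not_simple
    · exact absurd h1 Cfsg.Agent.Lib.H66SvN756.not_simple
    · exact absurd h1 Cfsg.Agent.Lib.H66SvN760.not_simple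
    · exact absurd h1 Cfsg.Agent.Lib.H66SvN792.not_simple
    · exact absurd h1 Cfsg.Agent.Lib.H66SvN840.not_simple
    · exact absurd h1 Cfsg.Agent.Lib.H66SvN900.not_simple
    · exact absurd h1 Cfsg.Agent.Lib.H66SvN960.not_simple
    · exact absurd h1 Cfsg.Agent.Lib.H66SvN1008.not_simple
    · exact absurd h1 Cfsg.Agent.Lib.H66SvN1040.not_simple
    · exact absurd h1 Cfsg.Agent.Lib.H66SvN1056.not_simple
    · exact absurd h1 Cfsg.Agent.Lib.H66SvN1080.not_simple

end Cfsg.Agent.S0496
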