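import Cfsg.Statements.S0497
-- import your own Cfsg.Agent.* helpers here
import Cfsg.Agent.Lib.Helper29A6b
import Cfsg.Agent.Lib.Helper17P8idx
import Cfsg.Agent.Lib.Helper17P8n3
import Cfsg.Agent.Lib.Helper17P8reg
import Cfsg.Agent.Lib.Helper17P8exp3
import Cfsg.Agent.Lib.Helper91P8inv
import Cfsg.Agent.Lib.Helper91P8cyc
import Cfsg.Agent.Lib.Helper70P8swap
import Cfsg.Agent.Lib.Helper70P8indep
import Cfsg.Agent.Lib.Helper6P8ti

set_option autoImplicit false
open Cfsg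

namespace Cfsg.Agent.S0497

open MulAction Subgroup
open Cfsg.Agent.Lib.Helper29A6a Cfsg.Agent.Lib.Helper29A6b
open Cfsg.Agent.Lib.Helper17P8idx Cfsg.Agent.Lib.Helper17P8n3 Cfsg.Agent.Lib.Helper17P8reg
  Cfsg.Agent.Lib.Helper17P8exp3 Cfsg.Agent.Lib.Helper91P8inv Cfsg.Agent.Lib.Helper91P8cyc
  Cfsg.Agent.Lib.Helper70P8swap Cfsg.Agent.Lib.Helper70P8indep Cfsg.Agent.Lib.Helper6P8ti


/-- A simple group of order 360 is isomorphic to the alternating group of degree 6. -/
theorem result {G : Type*} [Group G] [Finite G] [IsSimpleGroup G]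
    (h : Nat.card G = 360) : Nonempty (G ≃* alternatingGroup (Fin 6)) := by
  have hidx := index_ge_six h
  have hn := card_sylow3 h hidx
  have hTI := sylow3_ti h hidx
  have hsemi : ∀ P Q : Sylow 3 G, Q ≠ P → ∀ x ∈ (P : Subgroup G), x • Q = Q → x = 1 :=
    fun P Q hQ x hx hxQ => semireg hTI P Q hQ x hx hxQ
  have hreg := regular h hn hsemi
  have hinv := invol_inverts h hn hsemi
  have : Nontrivial (Sylow 3 G) := Finite.one_lt_card_iff_nontrivial.mp (by rw [hn]; norm_num)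
  obtain ⟨inf⟩ : Nonempty (Sylow 3 G) := inferInstance
  obtain ⟨o, ho⟩ := exists_ne inf
  obtain ⟨hh, hh4, hhi, hho, hstab⟩ := exists_h h hn hreg hinv inf o ho
  have hh2 : orderOf (hh ^ 2) = 2 := by
    rw [orderOf_pow, hh4]; rfl
  have hh2i : hh ^ 2 • inf = inf := by rw [pow_two, mul_smul, hhi, hhi]
  have hinv2 := hinv inf (hh ^ 2) hh2 hh2i
  have hexp := exp3 h inf hh hhi hinv2
  obtain ⟨t, ht1, ht2⟩ := exists_swap hreg inf o ho
  have hcardP : Nat.card (inf : Subgroup G) = 3 ^ 2 :=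
    Cfsg.Agent.Lib.Helper63SylowNum3.card_sylow_eq_prime_pow (m := 40) inf (by rw [h]; norm_num) (by norm_num)
  have : Nontrivial (inf : Subgroup G) :=
    Finite.one_lt_card_iff_nontrivial.mp (by rw [hcardP]; norm_num)
  obtain ⟨⟨u, huP⟩, hu1⟩ := exists_ne (1 : (inf : Subgroup G))
  have hu1' : u ≠ 1 := fun hc => hu1 (Subtype.ext hc)
  have hnorm : ∀ x ∈ (inf : Subgroup G), hh * x * hh⁻¹ ∈ (inf : Subgroup G) := by
    intro x hx
    have := Sylow.smul_eq_iff_mem_normalizer.mp hhi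
    exact (mem_normalizer_iff.mp this x).mp hx
  have hmemfix : ∀ x ∈ (inf : Subgroup G), x • inf = inf := by
    intro x hx
    exact Sylow.smul_eq_iff_mem_normalizer.mpr (le_normalizer hx)
  set v := hh * u * hh⁻¹ with hv
  have hvP : v ∈ (inf : Subgroup G) := hnorm u huP
  have hcomm : ∀ x ∈ (inf : Subgroup G), ∀ y ∈ (inf : Subgroup G), x * y = y * x := by
    intro x hx y hy
    have := IsPGroup.isMulCommutative_of_card_eq_prime_sq hcardP
    exact congrArg Subtype.val (this.is_comm.comm (⟨x, hx⟩ : (inf : Subgroup G)) ⟨y, hy⟩)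
  have hhv : hh * v * hh⁻¹ = u⁻¹ := by
    rw [← hinv2 u huP, hv, pow_two, mul_inv_rev]; simp only [mul_assoc]
  obtain ⟨e⟩ := iso_of_struct (G := G) (Ω := Sylow 3 G)
    (fun g hg => Cfsg.Agent.Lib.Helper63SylowNum2.faithful (p := 3) (by rw [hn]; norm_num) g hg)
    hn h.le inf o ho u v hh t (hexp u huP) (hexp v hvP) (hcomm u huP v hvP) (hmemfix u huP)
    (hmemfix v hvP) (by
      intro a b hab
      apply indep u v hh hu1' (hexp u huP) (hcomm u huP v hvP) rfl hhv a b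
      exact hsemi inf o ho _ (mul_mem (pow_mem huP _) (pow_mem hvP _)) hab)
    hhi hho rfl hhv hstab ht1 ht2
  obtain ⟨e2⟩ := Cfsg.Agent.S0254.result (F := F9) Cfsg.Agent.S0254.card_F9
  exact ⟨e.trans e2⟩

end Cfsg.Agent.S0497
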