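import Cfsg.Statements.S0547
-- import your own Cfsg.Agent.* helpers here
import Mathlib
import Cfsg.Agent.Lib.Helper65RelHall

set_option autoImplicit false
open Cfsg

namespace Cfsg.Agent.S0547

theorem trans {G : Type*} [Group G] {Ω : Type*} [MulAction G Ω] [FaithfulSMul G Ω]
    (hprim : MulAction.IsPreprimitive G Ω) (M : Subgroup G) [M.Normal] (hM : M ≠ ⊥) :
    MulAction.IsPretransitive M Ω := by
  haveI := hprim
  apply MulAction.IsQuasiPreprimitive.isPretransitive_of_normal (G := G)
  intro h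
  apply hM
  rw [Subgroup.eq_bot_iff_forall]
  intro n hn
  apply FaithfulSMul.eq_of_smul_eq_smul (α := Ω)
  intro x
  rw [one_smul]
  exact Set.eq_univ_iff_forall.mp h x ⟨n, hn⟩

theorem pgroup_abelian {G : Type*} [Group G] [Finite G] [Group.IsSolvable G] (M : Subgroup G)
    [hMn : M.Normal] (hM : M ≠ ⊥) (hmin : ∀ K : Subgroup G, K.Normal → K ≤ M → K = ⊥ ∨ K = M) :
    (∃ p : ℕ, p.Prime ∧ IsPGroup p M) ∧ ∀ a ∈ M, ∀ b ∈ M, a * b = b * a := by
  constructor
  · obtain ⟨p, N, hp, hNn, hNM, hN0, hNp⟩ :=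
      Cfsg.Agent.Lib.Helper65RelHall.exists_normal_pgroup_le M inferInstance hM
    rcases hmin N hNn hNM with h | h
    · exact absurd h hN0
    · subst h
      exact ⟨p, hp, hNp⟩
  · have hn : (⁅M, M⁆ : Subgroup G).Normal := inferInstance
    have hle : ⁅M, M⁆ ≤ M := Subgroup.commutator_le_left M M
    rcases hmin _ hn hle with h | h
    · rw [Subgroup.commutator_eq_bot_iff_le_centralizer] at h
      intro a ha b hb
      exact ((Subgroup.mem_centralizer_iff.1 (h ha)) b hb).symm
    · exfalso
      haveI : Nontrivial M := by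
        rw [Subgroup.nontrivial_iff_ne_bot]; exact hM
      have h1 : commutator M < ⊤ := Group.IsSolvable.commutator_lt_top_of_nontrivial M
      apply h1.ne
      apply Subgroup.map_injective M.subtype_injective
      rw [Subgroup.map_subtype_commutator, h, ← MonoidHom.range_eq_map, Subgroup.range_subtype]

theorem eq_one_of_fix {G : Type*} [Group G] {Ω : Type*} [MulAction G Ω] [FaithfulSMul G Ω]
    (M : Subgroup G) (htr : MulAction.IsPretransitive M Ω) (ω : Ω) (h : G) (hfix : h • ω = ω)
    (hc : ∀ m ∈ M, h * m = m * h) : h = 1 := by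
  apply FaithfulSMul.eq_of_smul_eq_smul (α := Ω)
  intro x
  obtain ⟨n, rfl⟩ := MulAction.exists_smul_eq M ω x
  rw [one_smul, Subgroup.smul_def, ← mul_smul, hc n n.2, mul_smul, hfix]


/-- Let a finite solvable group G act faithfully and primitively on a set, and let M be a minimal normal subgroup of G. Then M is transitive with trivial point stabilizers, and the number of points equals the order of M, which is a prime power p ^ d with d ≥ 1. -/
theorem result {G : Type*} [Group G] [Finite G] [Group.IsSolvable G] {Ω : Type*} [Nonempty Ω] [MulAction G Ω] [FaithfulSMul G Ω] (hprim : MulAction.IsPreprimitive G Ω) (M : Subgroup G) [M.Normal] (hM : M ≠ ⊥) (hmin : ∀ K : Subgroup G, K.Normal → K ≤ M → K = ⊥ ∨ K = M) : MulAction.IsPretransitive M Ω ∧ (∀ ω : Ω, MulAction.stabilizer M ω = ⊥) ∧ ∃ p d : ℕ, p.Prime ∧ 0 < d ∧ Nat.card Ω = p ^ d ∧ Nat.card M = p ^ d := by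
  have htr := trans hprim M hM
  obtain ⟨⟨p, hp, hMp⟩, hab⟩ := pgroup_abelian M hM hmin
  have hstab : ∀ ω : Ω, MulAction.stabilizer M ω = ⊥ := by
    intro ω
    rw [Subgroup.eq_bot_iff_forall]
    intro m hm
    apply Subtype.ext
    apply eq_one_of_fix M htr ω (m : G) hm
    intro n hn
    exact hab _ m.2 _ hn
  refine ⟨htr, hstab, ?_⟩
  haveI : Fact p.Prime := ⟨hp⟩
  obtain ⟨d, hd⟩ := IsPGroup.iff_card.1 hMp
  obtain ⟨ω⟩ : Nonempty Ω := inferInstance
  have hcard : Nat.card Ω = Nat.card M := by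
    have h1 := MulAction.index_stabilizer M ω
    rw [hstab ω, Subgroup.index_bot, MulAction.orbit_eq_univ, Set.ncard_univ] at h1
    exact h1.symm
  refine ⟨p, d, hp, ?_, by rw [hcard, hd], hd⟩
  rcases Nat.eq_zero_or_pos d with h0 | h0
  · exfalso
    rw [h0, pow_zero] at hd
    exact hM ((Subgroup.card_eq_one).1 hd)
  · exact h0

end Cfsg.Agent.S0547
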