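import Cfsg.Statements.S0647

set_option autoImplicit false
open Cfsg

namespace Cfsg.Agent.S0647

theorem comm_sup_zpowers {S : Type*} [Group S] (A : Subgroup S) (hA : IsMulCommutative A) (x : S)
    (hx : x ∈ Subgroup.centralizer (A : Set S)) : IsMulCommutative ↥(A ⊔ Subgroup.zpowers x) := by
  have h : A ⊔ Subgroup.zpowers x = Subgroup.closure ((A : Set S) ∪ {x}) := by
    rw [Subgroup.closure_union, Subgroup.closure_eq, Subgroup.zpowers_eq_closure]
  rw [h]
  apply Subgroup.isMulCommutative_closure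
  rintro a (ha | ha) b (hb | hb)
  · exact Subgroup.mul_comm_of_mem_isMulCommutative A ha hb
  · rw [Set.mem_singleton_iff] at hb
    subst hb
    exact hx a ha
  · rw [Set.mem_singleton_iff] at ha
    subst ha
    exact (hx b hb).symm
  · rw [Set.mem_singleton_iff] at ha hb
    rw [ha, hb]

/-- For a nonempty family of maximal abelian subgroups of a finite group, the intersection of the family is the centre of the subgroup it generates, which is also the full centralizer of that subgroup. -/
theorem result {S : Type*} [Group S] [Finite S] (𝒜 : Set (Subgroup S)) (hne : 𝒜.Nonempty) (hab : ∀ A ∈ 𝒜, IsMulCommutative A) (hmax : ∀ A ∈ 𝒜, ∀ B : Subgroup S, IsMulCommutative B → A ≤ B → B = A) : sInf 𝒜 = sSup 𝒜 ⊓ Subgroup.centralizer ((sSup 𝒜 : Subgroup S) : Set S) ∧ sInf 𝒜 = Subgroup.centralizer ((sSup 𝒜 : Subgroup S) : Set S) := by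
  have key : ∀ A ∈ 𝒜, Subgroup.centralizer (A : Set S) ≤ A := by
    intro A hA x hx
    have h1 := hmax A hA _ (comm_sup_zpowers A (hab A hA) x hx) le_sup_left
    have h2 : x ∈ A ⊔ Subgroup.zpowers x :=
      (le_sup_right : Subgroup.zpowers x ≤ A ⊔ Subgroup.zpowers x) (Subgroup.mem_zpowers x)
    rwa [h1] at h2
  have h1 : Subgroup.centralizer ((sSup 𝒜 : Subgroup S) : Set S) ≤ sInf 𝒜 := by
    apply le_sInf
    intro A hA
    exact le_trans (Subgroup.centralizer_le (le_sSup hA)) (key A hA)
  have h2 : sInf 𝒜 ≤ Subgroup.centralizer ((sSup 𝒜 : Subgroup S) : Set S) := by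
    rw [Subgroup.le_centralizer_iff]
    apply sSup_le
    intro A hA
    rw [Subgroup.le_centralizer_iff]
    haveI := hab A hA
    exact le_trans (sInf_le hA) (Subgroup.le_centralizer A)
  have h3 : sInf 𝒜 ≤ sSup 𝒜 := by
    obtain ⟨A, hA⟩ := hne
    exact le_trans (sInf_le hA) (le_sSup hA)
  have h4 : sInf 𝒜 = Subgroup.centralizer ((sSup 𝒜 : Subgroup S) : Set S) := le_antisymm h2 h1
  refine ⟨?_, h4⟩
  apply le_antisymm
  · exact le_inf h3 h2
  · exact le_trans inf_le_right h1

end Cfsg.Agent.S0647
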