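import Cfsg.Statements.S0652
import Cfsg.Agent.Lib.Helper14Replace
import Cfsg.Agent.Lib.Helper14Family

set_option autoImplicit false
open Cfsg

namespace Cfsg.Agent.S0652

open Cfsg.Agent.Lib.Helper14Replace Cfsg.Agent.Lib.Helper14Family

/-- For odd p and D normal in the p-group S, the elementary abelian subgroups of D of largest order satisfy the replacement property for class-2 normal subgroups of S. -/
theorem result {S : Type*} [Group S] [Finite S] {p : ℕ} [Fact p.Prime] (hS : IsPGroup p S) (hp : p ≠ 2) (D : Subgroup S) [D.Normal] : ∀ (B : Subgroup S) [B.Normal], ⁅⁅B, B⁆, B⁆ = ⊥ → (∃ U ∈ (Set.image (fun A : Subgroup ↥D => A.map D.subtype) (Cfsg.maxElementaryAbelianSubgroups p ↥D)), ⁅B, B⁆ ≤ U ∧ ¬ B ≤ U) → ∃ A ∈ (Set.image (fun A : Subgroup ↥D => A.map D.subtype) (Cfsg.maxElementaryAbelianSubgroups p ↥D)), ⁅B, B⁆ ≤ A ∧ ¬ B ≤ A ∧ B ≤ Subgroup.normalizer (A : Set S) := by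
  intro B _ _ hU
  rw [image_maxElemAb] at hU ⊢
  refine replacement_property hS hp D (famE p D) (fun A hA => hA.2.1.1) (fun A hA => hA.1) ?_ B hU
  intro A hA K hKD hcard hKc hexp
  refine ⟨hKD, ⟨hKc, ?_⟩, ?_⟩
  · have h1 : Monoid.exponent A ∣ p := by
      apply Monoid.exponent_dvd_of_forall_pow_eq_one
      intro g
      apply Subtype.ext
      simpa using hA.2.1.2 g g.2
    intro k hk
    have h2 := (Monoid.exponent_dvd_iff_forall_pow_eq_one.mp (hexp.trans h1)) (⟨k, hk⟩ : K)
    simpa using congrArg Subtype.val h2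
  · intro B' hB' hB'c
    rw [hcard]
    exact hA.2.2 B' hB' hB'c

end Cfsg.Agent.S0652
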