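import Cfsg.Statements.S0654
import Cfsg.Agent.Lib.Helper14ZJ
import Cfsg.Agent.Lib.Helper14FamProps
import Cfsg.Agent.Lib.Helper14ReplaceSub
import Cfsg.Agent.S0655

set_option autoImplicit false
open Cfsg

namespace Cfsg.Agent.S0654

open Cfsg.Agent.Lib.Helper14ZJ Cfsg.Agent.Lib.Helper14FamProps Cfsg.Agent.Lib.Helper14ReplaceSub
  Cfsg.Agent.Lib.Helper14Family

/-- The ZJ-Theorem for the elementary-abelian Thompson subgroup: for an odd prime p, a finite group G with C_G(O_p(G)) ≤ O_p(G) acting p-stably on its normal p-subgroups, and a Sylow p-subgroup S of G, the subgroup generated by the elements of order dividing p in Z(J_e(S)) is characteristic in G. -/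
theorem result {G : Type*} [Group G] [Finite G] {p : ℕ} [Fact p.Prime] (hp : p ≠ 2) (hc : Subgroup.centralizer (Cfsg.pCore p G : Set G) ≤ Cfsg.pCore p G) (hst : ∀ (P : Subgroup G) [P.Normal], IsPGroup p P → Cfsg.IsPStableOn p P) (S : Sylow p G) : ((Cfsg.omegaCenterThompson p ↥(S : Subgroup G)).map (S : Subgroup G).subtype).Characteristic := by
  have h1 := (Cfsg.Agent.S0655.result (S := ↥(S : Subgroup G)) (p := p) S.2).1
  rw [← h1, map_subtype_sInf _ _ (Cfsg.Agent.Lib.Helper14ElemAb.maxElemAb_nonempty p),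
    image_maxElemAb]
  exact Z_characteristic (famE p) (fun P A hA => ⟨hA.1, hA.2.1.1⟩) famE_F2 famE_F3 famE_F3'
    (famE_F4 p)
    (fun P B A hP hBP hPB hA hBA hnot => famE_replace hp P B A hP hBP hPB hA hBA hnot) hst hc S

end Cfsg.Agent.S0654
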