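import Cfsg.Statements.S0688
import Cfsg.Agent.Lib.Helper28RgR0
import Cfsg.Agent.Lib.Helper28RgR4
import Cfsg.Agent.Lib.Helper15RgR2
import Cfsg.Agent.Lib.Helper5RgR7
import Cfsg.Agent.S0685
import Cfsg.Agent.S0686
import Cfsg.Agent.S0687
import Cfsg.Agent.Lib.Helper6DkMin2

set_option autoImplicit false
open Cfsg

namespace Cfsg.Agent.S0688

theorem not_solvable_SL25 : ¬ Group.IsSolvable (Matrix.SpecialLinearGroup (Fin 2) (ZMod 5)) := by
  intro hs
  haveI : Fact (Nat.Prime 5) := ⟨by norm_num⟩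
  have hperf : commutator (Matrix.SpecialLinearGroup (Fin 2) (ZMod 5)) = ⊤ :=
    (Cfsg.Agent.Lib.Helper6DkCor.perfect_SL2 (K := ZMod 5) (by simp [ZMod.card])).1
  have h1 := Cfsg.Agent.Lib.Helper76ZaTR.hom_eq_one_of_perfect hperf hs (MonoidHom.id _)
  have h2 : (-1 : Matrix.SpecialLinearGroup (Fin 2) (ZMod 5)) = 1 := h1 (-1)
  revert h2
  decide

/-- a maximal abelian normal subgroup exists -/
theorem exists_max_abelian {H : Type*} [Group H] [Finite H] :
    ∃ A : Subgroup H, A.Normal ∧ IsMulCommutative A ∧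
      ∀ B : Subgroup H, B.Normal → IsMulCommutative B → A ≤ B → B = A := by
  have hne : {A : Subgroup H | A.Normal ∧ IsMulCommutative A}.Nonempty :=
    ⟨⊥, inferInstance, ⟨⟨fun a b => Subsingleton.elim _ _⟩⟩⟩
  obtain ⟨A, hA⟩ := (Set.toFinite {A : Subgroup H | A.Normal ∧ IsMulCommutative A}).exists_maximal hne
  exact ⟨A, hA.prop.1, hA.prop.2, fun B hB1 hB2 hAB => le_antisymm (hA.le_of_ge ⟨hB1, hB2⟩ hAB) hAB⟩

/-- a minimal nonabelian normal subgroup inside a nonabelian normal subgroup -/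
theorem exists_min_nonabelian {H : Type*} [Group H] [Finite H] (C : Subgroup H) (hC : C.Normal)
    (hna : ¬ IsMulCommutative C) :
    ∃ N : Subgroup H, N.Normal ∧ N ≤ C ∧ ¬ IsMulCommutative N ∧
      ∀ M : Subgroup H, M.Normal → M ≤ N → ¬ IsMulCommutative M → M = N := by
  have hne : {N : Subgroup H | N.Normal ∧ N ≤ C ∧ ¬ IsMulCommutative N}.Nonempty :=
    ⟨C, hC, le_rfl, hna⟩
  obtain ⟨N, hN⟩ :=
    (Set.toFinite {N : Subgroup H | N.Normal ∧ N ≤ C ∧ ¬ IsMulCommutative N}).exists_minimal hne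
  exact ⟨N, hN.prop.1, hN.prop.2.1, hN.prop.2.2, fun M hM1 hM2 hM3 =>
    le_antisymm hM2 (hN.le_of_le ⟨hM1, hM2.trans hN.prop.2.1, hM3⟩ hM2)⟩

/-- Degrees of the soluble exceptional sharply doubly transitive groups: if a solvable linear group over the prime field is regular on the non-zero vectors of `V` and has no irreducible cyclic normal subgroup, then `V` has 25, 49, 121 or 529 elements. -/
theorem result {p : ℕ} [Fact p.Prime] {V : Type*} [AddCommGroup V] [Module (ZMod p) V] [Finite V] (H : Subgroup (V ≃ₗ[ZMod p] V)) (hreg : ∀ v w : V, v ≠ 0 → w ≠ 0 → ∃! h : H, (h : V ≃ₗ[ZMod p] V) v = w) (hI : ∀ A : Subgroup H, A.Normal → IsCyclic A → ∃ W : Submodule (ZMod p) V, W ≠ ⊥ ∧ W ≠ ⊤ ∧ ∀ a ∈ A, ∀ v ∈ W, ((a : H) : V ≃ₗ[ZMod p] V) v ∈ W) (hsolv : Group.IsSolvable H) : Nat.card V = 25 ∨ Nat.card V = 49 ∨ Nat.card V = 121 ∨ Nat.card V = 529 := by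
  have : Finite H := Cfsg.Agent.Lib.Helper28RgR0.finite_H H
  have hV : Nontrivial V := by
    by_contra hV
    rw [not_nontrivial_iff_subsingleton] at hV
    obtain ⟨W, hW0, hW1, -⟩ := hI ⊥ inferInstance inferInstance
    exact hW0 (Subsingleton.elim _ _)
  obtain ⟨A, hAn, hAc, hAmax⟩ := exists_max_abelian (H := H)
  obtain ⟨-, hCna⟩ := Cfsg.Agent.S0685.result H hreg hI A hAn hAc hAmax
  obtain ⟨N, hNn, hNle, hNna, hNmin⟩ :=
    exists_min_nonabelian (Subgroup.centralizer (A : Set H)) inferInstance hCna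
  obtain ⟨hirr, hcent⟩ := Cfsg.Agent.S0687.result H hreg hI A hAn hAc hAmax N hNn hNle hNna hNmin
  have hQ : Nonempty (N ≃* QuaternionGroup 2) := by
    rcases Cfsg.Agent.S0686.result H hreg hI A hAn hAc hAmax N hNn hNle hNna hNmin with h | ⟨⟨e'⟩⟩
    · exact h
    · exfalso
      have hsN : Group.IsSolvable N := Group.isSolvable_of_isSolvable_injective N.subtype_injective
      exact not_solvable_SL25 (Group.isSolvable_of_surjective (f := e'.toMonoidHom) e'.surjective)
  obtain ⟨eQ⟩ := hQ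
  obtain ⟨e, k, he, hk, hcard, -, hdvd⟩ :=
    Cfsg.Agent.Lib.Helper15RgR2.centralizer_field H N hNna hirr
  have hidx := Cfsg.Agent.Lib.Helper5RgR7.index_centralizer_Q8 N hNn eQ
  rw [hcent] at hdvd hidx
  have hH := Cfsg.Agent.Lib.Helper28RgR0.card_of_reg H hreg
  have hmul : Nat.card H = Nat.card A * A.index := (Subgroup.card_mul_index A).symm
  have hN8 : Nat.card N = 8 := by
    rw [Nat.card_congr eQ.toEquiv, Nat.card_eq_fintype_card, QuaternionGroup.card]
  have h8 : 8 ∣ Nat.card A * A.index := by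
    rw [← hmul, ← hN8]; exact Subgroup.card_subgroup_dvd_card N
  have hfin := Cfsg.Agent.Lib.Helper28RgR4.num_solv (Fact.out : p.Prime) he hk hdvd hidx
    (by rw [← hcard, hH, hmul]) h8
  rw [← hcard] at hfin
  rcases hfin with h9 | h | h | h | h
  · exfalso
    -- `|H| = 8`, so `N = ⊤`
    have hH8 : Nat.card H = 8 := by omega
    have hNtop : N = ⊤ := Subgroup.eq_top_of_card_eq N (by rw [hN8, hH8])
    -- the cyclic subgroup of order four
    let h0 : H := ((eQ.symm (QuaternionGroup.a 1) : N) : H)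
    have ho : orderOf h0 = 4 := by
      show orderOf ((eQ.symm (QuaternionGroup.a 1) : N) : H) = 4
      rw [Subgroup.orderOf_coe, MulEquiv.orderOf_eq, QuaternionGroup.orderOf_a_one]
    have hB4 : Nat.card (Subgroup.zpowers h0) = 4 := by rw [Nat.card_zpowers, ho]
    have hBn : (Subgroup.zpowers h0).Normal := by
      apply Subgroup.normal_of_index_eq_two
      have := Subgroup.card_mul_index (Subgroup.zpowers h0)
      rw [hB4, hH8] at this
      omega
    obtain ⟨W, hW0, hW1, hWinv⟩ := hI _ hBn inferInstance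
    obtain ⟨w, hwW, hw0⟩ := W.exists_mem_ne_zero_of_ne_bot hW0
    have hinj : Function.Injective (fun b : Subgroup.zpowers h0 =>
        (⟨((b : H) : V ≃ₗ[ZMod p] V) w, hWinv b b.2 w hwW⟩ : W)) := by
      intro b b' hbb'
      have h1 : ((b : H) : V ≃ₗ[ZMod p] V) w = ((b' : H) : V ≃ₗ[ZMod p] V) w :=
        congrArg Subtype.val hbb'
      by_contra hne
      have hne' : (b' : H)⁻¹ * (b : H) ≠ 1 := by
        intro h2
        apply hne
        apply Subtype.ext
        exact (inv_mul_eq_one.mp h2).symm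
      apply hw0
      apply Cfsg.Agent.Lib.Helper28RgR0.fpf_of_reg H hreg _ hne' w
      show ((b' : H) : V ≃ₗ[ZMod p] V)⁻¹ (((b : H) : V ≃ₗ[ZMod p] V) w) = w
      rw [h1]
      exact LinearEquiv.symm_apply_apply _ w
    have h4 : 4 ≤ Nat.card W := by
      rw [← hB4]; exact Nat.card_le_card_of_injective _ hinj
    have hdW : Nat.card W ∣ 9 := by
      rw [← h9]
      exact AddSubgroup.card_addSubgroup_dvd_card W.toAddSubgroup
    have hW9 : Nat.card W = 9 := by
      have hle : Nat.card W ≤ 9 := Nat.le_of_dvd (by norm_num) hdW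
      interval_cases hc : Nat.card W <;> first | rfl | (exfalso; revert hdW; decide)
    apply hW1
    have : W.toAddSubgroup = ⊤ := AddSubgroup.eq_top_of_card_eq _ (by
      show Nat.card W = Nat.card V
      rw [hW9, h9])
    rw [eq_top_iff]
    intro v _
    have : v ∈ W.toAddSubgroup := by rw [this]; trivial
    exact this
  · exact Or.inl h
  · exact Or.inr (Or.inl h)
  · exact Or.inr (Or.inr (Or.inl h))
  · exact Or.inr (Or.inr (Or.inr h))

end Cfsg.Agent.S0688
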