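import Cfsg.Statements.S0690
import Cfsg.Agent.Lib.Helper71ZaMain

set_option autoImplicit false
open Cfsg

namespace Cfsg.Agent.S0690

/-- Zassenhaus: a perfect non-trivial group of fixed-point-free automorphisms of a finite group is isomorphic to `SL(2,5)`. -/
theorem result {K : Type*} [Group K] [Finite K] (G : Subgroup (MulAut K)) (hfpf : ∀ φ ∈ G, φ ≠ 1 → ∀ k : K, φ k = k → k = 1) (hperf : commutator G = ⊤) (hne : G ≠ ⊥) : Nonempty (G ≃* Matrix.SpecialLinearGroup (Fin 2) (ZMod 5)) := by
  have : Finite (MulAut K) := Finite.of_injective (fun e : MulAut K => (e : K → K))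
    (fun a b h => MulEquiv.ext (congrFun h))
  exact Cfsg.Agent.Lib.Helper71ZaMain.main (Cfsg.Agent.Lib.Helper36ZaLIN3.fc_of_fpf_aut G hfpf hne)
    hperf ((Subgroup.nontrivial_iff_ne_bot G).mpr hne)

end Cfsg.Agent.S0690
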