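import Cfsg.Statements.S0692
import Cfsg.Agent.Lib.Helper15Mat
import Mathlib

set_option autoImplicit false
open Cfsg

namespace Cfsg.Agent.S0692

open Cfsg.Agent.Lib.Helper15Mat

def big : ℕ := 0x704a24a2012410490480043042051c70810851801421880440081410c40820421031832812420402800c02831ca0890c93022062040870ca20218114904804614a04500b0830822462420c710228114200510204208720a18224a20a1081431c228c0c60c214200614b0040c324920310b1c10c62051470090c01c124214800600900630908320b1c61071041802490c31013011c41042800420c81010cb10110520400828714a1891810462861481452851c11c514620610418520308a0802c00c90c724718128700608714408420400524908414a2802022052412401871460c71850c52c308a10818318620a2850491811421461c91cc1431c61431ca2020402893071c71cb2081ca18714008c1051c42822480c80020051c918300a1c00c118618400910a2052c20c81c90072081c900518b2052090c81090480c11c32811490842892442880842851c904a2c50892092482491c128600728328528914a1862442012890c50cc24220204004810724018710804a0842891c80ca20724a28700320018914924a2462870c610728300718a08a28528108100000100300a00118720418a14104424314a0c804910918a08708720604820628a1c41031c5040040280000000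

def ent (a c : ℕ) : ℕ := (big >>> (30 * (a * 11 + c))) % 1073741824
def tb (a c : ℕ) : ℕ := ent a c % 64
def td (a c : ℕ) : ℕ := (ent a c / 64) % 64
def pa (a c : ℕ) : ℕ := (ent a c / 4096) % 64
def pc (a c : ℕ) : ℕ := (ent a c / 262144) % 64
def dep (a c : ℕ) : ℕ := (ent a c / 16777216) % 64

def gens : List (ℕ × ℕ × ℕ × ℕ) := [(0, 10, 1, 0), (2, 4, 1, 8)]

theorem cert : chk 11 gens tb td pa pc dep = true := by decide +kernel

theorem cert0 : tb 1 0 = 0 ∧ td 1 0 = 1 := by decide +kernel

theorem mat_eq (M N : Matrix (Fin 2) (Fin 2) (ZMod 11)) (h00 : M 0 0 = N 0 0) (h01 : M 0 1 = N 0 1)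
    (h10 : M 1 0 = N 1 0) (h11 : M 1 1 = N 1 1) : M = N := by
  ext i j
  fin_cases i <;> fin_cases j
  · exact h00
  · exact h01
  · exact h10
  · exact h11

/-- An exceptional sharply doubly transitive group of degree 11^2: the listed matrices generate a subgroup of GL(2,11) of order 120 acting regularly on the non-zero vectors. -/
theorem result (A : Matrix.GeneralLinearGroup (Fin 2) (ZMod 11)) (B : Matrix.GeneralLinearGroup (Fin 2) (ZMod 11)) (hA : (A : Matrix (Fin 2) (Fin 2) (ZMod 11)) = !![0, -1; 1, 0]) (hB : (B : Matrix (Fin 2) (Fin 2) (ZMod 11)) = !![2, 4; 1, -3]) : Nat.card (Subgroup.closure ({A, B} : Set (Matrix.GeneralLinearGroup (Fin 2) (ZMod 11)))) = 120 ∧ ∀ v w : Fin 2 → ZMod 11, v ≠ 0 → w ≠ 0 → ∃! h : Subgroup.closure ({A, B} : Set (Matrix.GeneralLinearGroup (Fin 2) (ZMod 11))), Matrix.mulVec ((h : Matrix.GeneralLinearGroup (Fin 2) (ZMod 11)) : Matrix (Fin 2) (Fin 2) (ZMod 11)) v = w := by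
  haveI : Fact (Nat.Prime 11) := ⟨by norm_num⟩
  have h := main 11 gens tb td pa pc dep cert0 cert {A, B} ?_ ?_
  · exact h
  · rintro x (rfl|rfl)
    · exact ⟨(0, 10, 1, 0), by simp [gens], by rw [hA]; exact mat_eq _ _ (by decide) (by decide) (by decide) (by decide)⟩
    · exact ⟨(2, 4, 1, 8), by simp [gens], by rw [hB]; exact mat_eq _ _ (by decide) (by decide) (by decide) (by decide)⟩
  · intro g hg
    simp only [gens, List.mem_cons, List.not_mem_nil, or_false] at hg
    rcases hg with rfl|rfl
    · exact ⟨A, by simp, by rw [hA]; exact mat_eq _ _ (by decide) (by decide) (by decide) (by decide)⟩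
    · exact ⟨B, by simp, by rw [hB]; exact mat_eq _ _ (by decide) (by decide) (by decide) (by decide)⟩

end Cfsg.Agent.S0692
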