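import Cfsg.Statements.S0807
import Mathlib
import Cfsg.Agent.Lib.Helper41Klein

set_option autoImplicit false
open Cfsg

namespace Cfsg.Agent.S0807

/-- For q odd, twelve times the number of Klein four-subgroups of PSL_2(q) equals the order of PSL_2(q). -/
theorem result {F : Type*} [Field F] [Fintype F] {q : ℕ} (hF : Fintype.card F = q) (hodd : Odd q) : 12 * Nat.card {V : Subgroup (Matrix.ProjectiveSpecialLinearGroup (Fin 2) F) // IsKleinFour V} = Nat.card (Matrix.ProjectiveSpecialLinearGroup (Fin 2) F) := by
  apply Cfsg.Agent.Lib.Helper41Klein.card_klein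
  intro h
  have h1 : ringChar F = 2 := by
    have : ((2 : ℕ) : F) = 0 := by exact_mod_cast h
    have h3 := ringChar.dvd this
    rcases (Nat.dvd_prime Nat.prime_two).mp h3 with h4 | h4
    · exfalso
      have := CharP.ringChar_ne_one (R := F)
      exact this h4
    · exact h4
  have h5 := FiniteField.even_card_iff_char_two.mp h1
  rw [hF] at h5
  obtain ⟨k, hk⟩ := hodd
  omega

end Cfsg.Agent.S0807
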