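import Cfsg.Statements.S0808
import Mathlib
import Cfsg.Agent.Lib.Helper41Klein2

set_option autoImplicit false
open Cfsg

namespace Cfsg.Agent.S0808

/-- Conjugacy classes of four-groups in PSL_2(q), q odd: if q ≡ 3 or 5 (mod 8) all Klein four-subgroups are conjugate; if q ≡ 1 or 7 (mod 8) there are two Klein four-subgroups which are not conjugate, and every Klein four-subgroup is conjugate to one of them. -/
theorem result {F : Type*} [Field F] [Fintype F] {q : ℕ} (hF : Fintype.card F = q) (hodd : Odd q) : ((q % 8 = 3 ∨ q % 8 = 5) → ∀ V W : Subgroup (Matrix.ProjectiveSpecialLinearGroup (Fin 2) F), IsKleinFour V → IsKleinFour W → ∃ g : Matrix.ProjectiveSpecialLinearGroup (Fin 2) F, W = V.map (MulAut.conj g).toMonoidHom) ∧ ((q % 8 = 1 ∨ q % 8 = 7) → ∃ V₁ V₂ : Subgroup (Matrix.ProjectiveSpecialLinearGroup (Fin 2) F), IsKleinFour V₁ ∧ IsKleinFour V₂ ∧ (¬ ∃ g : Matrix.ProjectiveSpecialLinearGroup (Fin 2) F, V₂ = V₁.map (MulAut.conj g).toMonoidHom) ∧ ∀ W : Subgroup (Matrix.ProjectiveSpecialLinearGroup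 (Fin 2) F), IsKleinFour W → (∃ g : Matrix.ProjectiveSpecialLinearGroup (Fin 2) F, W = V₁.map (MulAut.conj g).toMonoidHom) ∨ (∃ g : Matrix.ProjectiveSpecialLinearGroup (Fin 2) F, W = V₂.map (MulAut.conj g).toMonoidHom)) := by
  have h2 : (2 : F) ≠ 0 := by
    intro h
    have h1 : ringChar F = 2 := by
      have : ((2 : ℕ) : F) = 0 := by exact_mod_cast h
      have h3 := ringChar.dvd this
      rcases (Nat.dvd_prime Nat.prime_two).mp h3 with h4 | h4
      · exfalso
        have := CharP.ringChar_ne_one (R := F)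
        exact this h4
      · exact h4
    have h5 := FiniteField.even_card_iff_char_two.mp h1
    rw [hF] at h5
    obtain ⟨k, hk⟩ := hodd
    omega
  constructor
  · intro hq V W hV hW
    apply Cfsg.Agent.Lib.Helper41Klein.klein_conj_all h2 _ hV hW
    rw [FiniteField.isSquare_two_iff, hF]
    omega
  · intro hq
    obtain ⟨S, ⟨e⟩⟩ := (Cfsg.Agent.S0803.result (F := F) hF).mpr (by
      rw [Nat.pow_mod]
      have h3 : q % 16 < 16 := Nat.mod_lt _ (by norm_num)
      have h4 : q % 16 = 1 ∨ q % 16 = 7 ∨ q % 16 = 9 ∨ q % 16 = 15 := by omega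
      rcases h4 with h | h | h | h <;> rw [h])
    exact Cfsg.Agent.Lib.Helper41Klein.klein_two_classes h2 e

end Cfsg.Agent.S0808
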