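import Cfsg.Statements.S0810
import Cfsg.Agent.Lib.Helper6DkMin2

set_option autoImplicit false
open Cfsg

namespace Cfsg.Agent.S0810

open Cfsg.Agent.Lib.Helper6DkCor Cfsg.Agent.Lib.Helper41Dk

theorem not_dvd_of_mod {q : ℕ} (h : q % 5 = 2 ∨ q % 5 = 3) : ¬ 5 ∣ q * (q ^ 2 - 1) := by
  intro hd
  have h1 : q * (q ^ 2 - 1) + q = q ^ 3 := by
    have h0 : 1 ≤ q ^ 2 := Nat.one_le_pow _ _ (by omega)
    obtain ⟨t, ht⟩ : ∃ t, q ^ 2 = t + 1 := ⟨q ^ 2 - 1, by omega⟩
    rw [ht, Nat.add_sub_cancel]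
    calc q * t + q = q * (t + 1) := by ring
      _ = q * q ^ 2 := by rw [ht]
      _ = q ^ 3 := by ring
  have h2 : q ^ 3 % 5 = q % 5 := by
    rw [← h1]
    obtain ⟨c, hc⟩ := hd
    rw [hc]
    omega
  rw [Nat.pow_mod] at h2
  rcases h with h | h <;> rw [h] at h2 <;> norm_num at h2

theorem dvd_of_mod {q : ℕ} (h : q % 5 = 0 ∨ q % 5 = 1 ∨ q % 5 = 4) : 5 ∣ q * (q ^ 2 - 1) := by
  rcases h with h | h | h
  · exact Dvd.dvd.mul_right (Nat.dvd_of_mod_eq_zero h) _
  · apply Dvd.dvd.mul_left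
    have h1 : q ^ 2 % 5 = 1 := by rw [Nat.pow_mod, h]
    exact Nat.dvd_of_mod_eq_zero (by omega)
  · apply Dvd.dvd.mul_left
    have h1 : q ^ 2 % 5 = 1 := by rw [Nat.pow_mod, h]
    exact Nat.dvd_of_mod_eq_zero (by omega)

theorem four_pow_mod (j : ℕ) : 4 ^ j % 5 = 1 ∨ 4 ^ j % 5 = 4 := by
  induction j with
  | zero => left; rfl
  | succ n ih => rw [pow_succ]; omega

theorem nine_pow_mod (j : ℕ) : 9 ^ j % 5 = 1 ∨ 9 ^ j % 5 = 4 := by
  induction j with
  | zero => left; rfl
  | succ n ih => rw [pow_succ]; omega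

theorem two_pow_odd {r : ℕ} (hr : Odd r) : 2 ^ r % 5 = 2 ∨ 2 ^ r % 5 = 3 := by
  obtain ⟨j, rfl⟩ := hr
  have h := four_pow_mod j
  rw [pow_succ, pow_mul]
  norm_num
  omega

theorem three_pow_odd {r : ℕ} (hr : Odd r) : 3 ^ r % 5 = 2 ∨ 3 ^ r % 5 = 3 := by
  obtain ⟨j, rfl⟩ := hr
  have h := nine_pow_mod j
  rw [pow_succ, pow_mul]
  norm_num
  omega

theorem pow_prime_case {p r k m : ℕ} (hp : p.Prime) (hp3 : p < 4) (hr : r.Prime)
    (h : k ^ m = p ^ r) (hk : 4 ≤ k) : k = p ^ r := by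
  have hm : m ≠ 0 := by
    rintro rfl
    rw [pow_zero] at h
    have := Nat.one_lt_pow hr.ne_zero hp.one_lt
    omega
  have h1 : k ∣ p ^ r := h ▸ dvd_pow_self k hm
  obtain ⟨d, -, rfl⟩ := (Nat.dvd_prime_pow hp).1 h1
  rw [← pow_mul] at h
  have h2 : d * m = r := Nat.pow_right_injective hp.two_le h
  have h3 : d ∣ r := Dvd.intro _ h2
  rcases (Nat.dvd_prime hr).1 h3 with rfl | rfl
  · rw [pow_one] at hk; omega
  · rfl

theorem prime_case {q k m : ℕ} (hq : q.Prime) (h : k ^ m = q) (hk : 4 ≤ k) : k = q := by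
  have hm : m ≠ 0 := by
    rintro rfl
    rw [pow_zero] at h
    exact absurd h.symm hq.one_lt.ne'
  have h1 : k ∣ q := h ▸ dvd_pow_self k hm
  rcases (Nat.dvd_prime hq).1 h1 with rfl | rfl
  · omega
  · rfl

theorem list_props {q : ℕ} (h : (∃ r : ℕ, r.Prime ∧ q = 2 ^ r) ∨ (∃ r : ℕ, r.Prime ∧ r ≠ 2 ∧ q = 3 ^ r) ∨
    (q.Prime ∧ 5 < q ∧ (q % 5 = 2 ∨ q % 5 = 3)) ∨ q = 5) :
    4 ≤ q ∧ (∀ k m, k ^ m = q → 4 ≤ k → k = q) ∧ ((q % 5 = 2 ∨ q % 5 = 3) ∨ q = 4 ∨ q = 5) := by
  rcases h with ⟨r, hr, rfl⟩ | ⟨r, hr, hr2, rfl⟩ | ⟨hq, h5, hm⟩ | rfl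
  · refine ⟨?_, fun k m h hk => pow_prime_case Nat.prime_two (by norm_num) hr h hk, ?_⟩
    · calc 4 = 2 ^ 2 := by norm_num
        _ ≤ 2 ^ r := Nat.pow_le_pow_right (by norm_num) hr.two_le
    · rcases hr.eq_two_or_odd' with rfl | ho
      · right; left; norm_num
      · left; exact two_pow_odd ho
  · refine ⟨?_, fun k m h hk => pow_prime_case Nat.prime_three (by norm_num) hr h hk, ?_⟩
    · calc 4 ≤ 3 ^ 2 := by norm_num
        _ ≤ 3 ^ r := Nat.pow_le_pow_right (by norm_num) hr.two_le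
    · rcases hr.eq_two_or_odd' with rfl | ho
      · exact absurd rfl hr2
      · left; exact three_pow_odd ho
  · exact ⟨by omega, fun k m h hk => prime_case hq h hk, Or.inl hm⟩
  · exact ⟨by norm_num, fun k m h hk => prime_case (by norm_num) h hk, Or.inr (Or.inr rfl)⟩

theorem list_of_props {p f q : ℕ} (hp : p.Prime) (hf : f ≠ 0) (hq : q = p ^ f) (h4 : 4 ≤ q)
    (H1 : ∀ d m, d * m = f → 2 ≤ m → p ^ d < 4) (H2 : 5 ∣ q * (q ^ 2 - 1) → q < 7) :
    (∃ r : ℕ, r.Prime ∧ q = 2 ^ r) ∨ (∃ r : ℕ, r.Prime ∧ r ≠ 2 ∧ q = 3 ^ r) ∨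
    (q.Prime ∧ 5 < q ∧ (q % 5 = 2 ∨ q % 5 = 3)) ∨ q = 5 := by
  rcases Nat.lt_or_ge f 2 with hf2 | hf2
  · have hf1 : f = 1 := by omega
    rw [hf1, pow_one] at hq
    rw [← hq] at hp
    by_cases h5 : q = 5
    · exact Or.inr (Or.inr (Or.inr h5))
    · right; right; left
      have h6 : q ≠ 4 := by rintro rfl; norm_num at hp
      have h6' : q ≠ 6 := by rintro rfl; norm_num at hp
      refine ⟨hp, by omega, ?_⟩
      by_contra hcon
      have := H2 (dvd_of_mod (by omega))
      omega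
  · have hp4 : p < 4 := by
      have := H1 1 f (one_mul f) hf2
      rwa [pow_one] at this
    have hfp : f.Prime := by
      by_contra hnp
      obtain ⟨a, b, ha, hb, hab⟩ := (Nat.not_prime_iff_exists_mul_eq hf2).1 hnp
      have ha2 : 2 ≤ a := by
        by_contra hcon
        have : a = 0 ∨ a = 1 := by omega
        rcases this with rfl | rfl <;> omega
      have hb2 : 2 ≤ b := by
        by_contra hcon
        have : b = 0 ∨ b = 1 := by omega
        rcases this with rfl | rfl <;> omega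
      have h1 := H1 a b hab hb2
      have h2 : 2 ^ 2 ≤ p ^ a :=
        (Nat.pow_le_pow_left hp.two_le 2).trans (Nat.pow_le_pow_right hp.pos ha2)
      omega
    have hp23 : p = 2 ∨ p = 3 := by
      have := hp.two_le
      omega
    rcases hp23 with rfl | rfl
    · exact Or.inl ⟨f, hfp, hq⟩
    · right; left
      refine ⟨f, hfp, ?_, hq⟩
      rintro rfl
      subst hq
      have := H2 (by norm_num)
      omega

/-- PSL_2(q) is minimal simple iff q is 2^r (r prime), 3^r (r an odd prime), a prime greater than 5 congruent to 2 or 3 mod 5, or 5. -/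
theorem result {F : Type*} [Field F] [Fintype F] {q : ℕ} (hF : Fintype.card F = q) : Cfsg.IsMinimalSimple (Matrix.ProjectiveSpecialLinearGroup (Fin 2) F) ↔ ((∃ r : ℕ, r.Prime ∧ q = 2 ^ r) ∨ (∃ r : ℕ, r.Prime ∧ r ≠ 2 ∧ q = 3 ^ r) ∨ (q.Prime ∧ 5 < q ∧ (q % 5 = 2 ∨ q % 5 = 3)) ∨ q = 5) := by
  subst hF
  have hfin : Finite (Matrix.ProjectiveSpecialLinearGroup (Fin 2) F) :=
    Cfsg.Agent.Lib.Helper41SL2.finite_PSL2
  have hcard := card_PSL2_mul (F := F)
  have hq2 : 2 ≤ Fintype.card F := Fintype.one_lt_card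
  constructor
  · rintro ⟨hs, hnc, hsol⟩
    obtain ⟨p, hp⟩ := CharP.exists F
    obtain ⟨f, hp', hf⟩ := FiniteField.card F p
    have : Fact p.Prime := ⟨hp'⟩
    refine list_of_props hp' f.ne_zero hf ?_ ?_ ?_
    · by_contra hcon
      apply hnc
      have hsv : Group.IsSolvable (Matrix.ProjectiveSpecialLinearGroup (Fin 2) F) := by
        have h23 : Fintype.card F = 2 ∨ Fintype.card F = 3 := by omega
        rw [ee_eq_gcd] at hcard
        rcases h23 with h | h
        · rw [h] at hcard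
          norm_num at hcard
          exact solvable_6 hcard
        · rw [h] at hcard
          norm_num at hcard
          exact solvable_12 (by omega)
      exact ⟨⟨IsSimpleGroup.comm_iff_isSolvable.2 hsv⟩⟩
    · intro d m hdm hm
      by_contra hcon
      have hd0 : d ≠ 0 := by
        rintro rfl
        rw [zero_mul] at hdm
        exact f.ne_zero hdm.symm
      have : Fintype (GaloisField p d) := Fintype.ofFinite _
      have hK : Fintype.card (GaloisField p d) = p ^ d := by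
        rw [← Nat.card_eq_fintype_card, GaloisField.card p d hd0]
      obtain ⟨ι⟩ := Cfsg.Agent.Lib.Helper18Field.exists_ringHom (K := GaloisField p d) (F := F) m
        (by rw [hK, ← pow_mul, hdm, hf])
      obtain ⟨H, hne, hns⟩ := exists_nonsolvable_subfield ι (by rw [hK]; omega) (by
        rw [hK, hf, ← hdm, pow_mul]
        exact Nat.pow_le_pow_right (Nat.pos_of_ne_zero (pow_ne_zero _ hp'.ne_zero)) hm)
      exact hns (hsol H hne)
    · intro h5
      by_contra hcon
      obtain ⟨H, hne, hns⟩ := exists_nonsolvable_A5 h5 (by omega)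
      exact hns (hsol H hne)
  · intro hlist
    obtain ⟨h4, hP2, hP3⟩ := list_props hlist
    have hs : IsSimpleGroup (Matrix.ProjectiveSpecialLinearGroup (Fin 2) F) :=
      Matrix.ProjectiveSpecialLinearGroup.rank_two_simple (by rw [Nat.card_eq_fintype_card]; exact h4)
    have hpf := perfect_SL2 h4
    have hpf2 : Group.IsPerfect (Matrix.ProjectiveSpecialLinearGroup (Fin 2) F) := inferInstance
    refine ⟨hs, Group.IsPerfect.not_isMulCommutative _, ?_⟩
    intro H hH
    rcases solvable_cases H with h | h | h | ⟨K, hK4, hKt⟩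
    · exact h
    · exfalso
      have h1 : 60 ∣ Nat.card (Matrix.ProjectiveSpecialLinearGroup (Fin 2) F) := by
        rw [← h]; exact Subgroup.card_subgroup_dvd_card H
      rcases hP3 with h3 | h3 | h3
      · apply not_dvd_of_mod h3
        rw [← hcard]
        exact Dvd.dvd.mul_left ((by norm_num : 5 ∣ 60).trans h1) _
      · apply hH
        apply Subgroup.eq_top_of_card_eq
        rw [ee_eq_gcd, h3] at hcard
        norm_num at hcard
        rw [h, hcard]
      · apply hH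
        apply Subgroup.eq_top_of_card_eq
        rw [ee_eq_gcd, h3] at hcard
        norm_num at hcard
        rw [h]
        omega
    · exact absurd h hH
    · exfalso
      have h1 := hP2 _ _ (card_pow_finrank K) hK4
      rcases subfield_eq_top_or K with h2 | h2
      · exact hKt h2
      · rw [← h1] at h2
        nlinarith

end Cfsg.Agent.S0810
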