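import Cfsg.Statements.S4481
-- import your own Cfsg.Agent.* helpers here
import Cfsg.Agent.Lib.Helper29DihD

set_option autoImplicit false
open Cfsg

namespace Cfsg.Agent.S4481

open Cfsg.Agent.Lib.Helper25Exp Cfsg.Agent.Lib.Helper29DihA Cfsg.Agent.Lib.Helper29DihD
  Cfsg.Agent.Lib.Helper82Linear

theorem ee_natCast {q : ℕ} [NeZero q] {w : ℂˣ} (hw : w ^ q = 1) (k : ℕ) :
    ee w ((k : ℕ) : ZMod q) = (w : ℂ) ^ k := by
  unfold ee
  rw [E_natCast hw]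
  simp

theorem ee_neg {q : ℕ} [NeZero q] {w : ℂˣ} (hw : w ^ q = 1) (x : ZMod q) :
    ee w (-x) = (ee w x)⁻¹ := by
  have h := ee_neg_mul hw x
  exact eq_inv_of_mul_eq_one_right h

theorem natCast_ne_zero' {q : ℕ} {k : ℕ} (h0 : 0 < k) (h1 : k < q) : ((k : ℕ) : ZMod q) ≠ 0 := by
  intro h
  rw [ZMod.natCast_eq_zero_iff] at h
  have := Nat.le_of_dvd h0 h
  omega

theorem natCast_inj' {q : ℕ} {k k' : ℕ} (h1 : k < q) (h2 : k' < q)
    (h : ((k : ℕ) : ZMod q) = ((k' : ℕ) : ZMod q)) : k = k' := by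
  rw [ZMod.natCast_eq_natCast_iff'] at h
  rwa [Nat.mod_eq_of_lt h1, Nat.mod_eq_of_lt h2] at h


/-- The principal 2-block of a group with dihedral Sylow 2-subgroups. Let G be a finite group whose Sylow 2-subgroup P is dihedral of order 2^n ≥ 8, let σ be an element of P of order 2^(n−1), ζ a primitive 2^(n−1)-th root of unity, and M a maximal ideal of the algebraic integers containing 2. Then the principal 2-block consists of exactly 3 + 2^(n−2) irreducible characters, which can be labelled 1, χ₁, χ₂, χ₃ and χ^(j) for 1 ≤ j ≤ 2^(n−2) − 1 (all distinct), with signs δ₁, δ₂, δ₃ such that for 0 < λ < 2^(n−1): χ₁(σ^λ) = δ₁, χ₂(σ^λ) = δ₂(−1)^(λ+1), χ₃(σ^λ) = δ₃(−1)^(λ+1) and χ^(j)(σ^λ) = δ₁(ζ^(jλ) + ζ^(−jλ)); and for every element ρ of odd order and every j: 1 + δ₁χ₁(ρ) = −δ₂χ₂(ρ) − δ₃χ₃(ρ) = δ₁χ^(j)(ρ). -/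
theorem result {G : Type*} [Group G] [Finite G] (M : Ideal Cfsg.AlgInt) (hM : Cfsg.IsPModular 2 M) (n : ℕ) (hn : 3 ≤ n) (P : Sylow 2 G) (hP : Nonempty ((P : Subgroup G) ≃* DihedralGroup (2 ^ (n - 1)))) (σ : G) (hσ : σ ∈ (P : Subgroup G)) (hσo : orderOf σ = 2 ^ (n - 1)) (ζ : ℂ) (hζ : IsPrimitiveRoot ζ (2 ^ (n - 1))) : Nat.card (Cfsg.principalBlock M G) = 3 + 2 ^ (n - 2) ∧ ∃ (χ₁ χ₂ χ₃ : Cfsg.IrrCharacter G) (χ' : Fin (2 ^ (n - 2) - 1) → Cfsg.IrrCharacter G) (δ₁ δ₂ δ₃ : ℤ), (δ₁ = 1 ∨ δ₁ = -1) ∧ (δ₂ = 1 ∨ δ₂ = -1) ∧ (δ₃ = 1 ∨ δ₃ = -1) ∧ Function.Injective χ' ∧ (χ₁ : G → ℂ) ≠ (fun _ => 1) ∧ (χ₂ : G → ℂ) ≠ (fun _ => 1) ∧ (χ₃ : G → ℂ) ≠ (fun _ => 1) ∧ χ₁ ≠ χ₂ ∧ χ₁ ≠ χ₃ ∧ χ₂ ≠ χ₃ ∧ (∀ j, χ' j ≠ χ₁ ∧ χ' j ≠ χ₂ ∧ χ' j ≠ χ₃ ∧ (χ' j : G → ℂ) ≠ (fun _ => 1)) ∧ Cfsg.principalBlock M G = {χ : Cfsg.IrrCharacter G | (χ : G → ℂ) = (fun _ => 1) ∨ χ = χ₁ ∨ χ = χ₂ ∨ χ = χ₃ ∨ ∃ j, χ = χ' j} ∧ (∀ l : ℕ, 0 < l → l <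 2 ^ (n - 1) → (χ₁ : G → ℂ) (σ ^ l) = δ₁ ∧ (χ₂ : G → ℂ) (σ ^ l) = δ₂ * (-1) ^ (l + 1) ∧ (χ₃ : G → ℂ) (σ ^ l) = δ₃ * (-1) ^ (l + 1) ∧ ∀ j : Fin (2 ^ (n - 2) - 1), (χ' j : G → ℂ) (σ ^ l) = δ₁ * (ζ ^ (((j : ℕ) + 1) * l) + (ζ ^ (((j : ℕ) + 1) * l))⁻¹)) ∧ ∀ ρ : G, Odd (orderOf ρ) → ∀ j : Fin (2 ^ (n - 2) - 1), 1 + δ₁ * (χ₁ : G → ℂ) ρ = -δ₂ * (χ₂ : G → ℂ) ρ - δ₃ * (χ₃ : G → ℂ) ρ ∧ 1 + δ₁ * (χ₁ : G → ℂ) ρ = δ₁ * (χ' j : G → ℂ) ρ := by
  classical
  obtain ⟨e⟩ := hP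
  obtain ⟨m, rfl⟩ : ∃ m, n = m + 3 := ⟨n - 3, by omega⟩
  have e1 : m + 3 - 1 = m + 2 := rfl
  have e2 : m + 3 - 2 = m + 1 := rfl
  simp only [e1, e2] at *
  set q := 2 ^ (m + 2) with hq
  set N := 2 ^ (m + 1) with hN
  have hqN : q = 2 * N := by rw [hq, hN]; ring
  have hN2 : 2 ≤ N := by
    have : 2 ^ 1 ≤ 2 ^ (m + 1) := Nat.pow_le_pow_right (by norm_num) (by omega)
    omega
  have : NeZero q := ⟨by omega⟩
  have hq3 : 3 ≤ q := by omega
  have hσq : σ ^ q = 1 := pow_of_order hσo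
  have hζ0 : ζ ≠ 0 := hζ.ne_zero (NeZero.ne q)
  set w : ℂˣ := Units.mk0 ζ hζ0 with hw
  have hwv : (w : ℂ) = ζ := rfl
  have hwo : orderOf w = q := by
    rw [← orderOf_units, hwv]
    exact hζ.eq_orderOf.symm
  have hwq : w ^ q = 1 := pow_of_order hwo
  set h : ZMod q := ((N : ℕ) : ZMod q) with hh
  have hh0 : h ≠ 0 := natCast_ne_zero' (by omega) (by omega)
  have hneg : -h = h := by
    have : ((2 * N : ℕ) : ZMod q) = 0 := by
      rw [← hqN]; exact ZMod.natCast_self q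
    push_cast at this
    rw [hh]
    linear_combination -this
  have heeh : ee w h = -1 := by
    have h1 : ee w h * ee w h = 1 := by
      have := ee_neg_mul hwq h
      rwa [hneg] at this
    have h2 : ee w h ≠ 1 := by
      rw [Ne, ee_eq_one_iff hwo]
      exact hh0
    have h3 : (ee w h - 1) * (ee w h + 1) = 0 := by linear_combination h1
    rcases mul_eq_zero.mp h3 with h4 | h4
    · exact absurd (sub_eq_zero.mp h4) h2
    · exact eq_neg_of_add_eq_zero_left h4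
  have heehl : ∀ l : ℕ, ee w (h * (l : ZMod q)) = (-1) ^ l := by
    intro l
    rw [← heeh]
    unfold ee
    rw [← Units.val_pow_eq_pow_val, E_pow hwq, mul_comm]
  obtain ⟨x1, x2, x3, δ1, δ2, δ3, y, ⟨m1, m2, m3⟩, ⟨o1, o2, o3⟩, ⟨n12, n13, n23⟩, ⟨s1, s2, s3⟩,
    hval, hy, hinj, hyneg, hclass, hrel⟩ :=
    block_struct hq hq3 P e σ hσ hσo M hM w hwo h hh0 hneg
  have hone : ∀ χ : IrrCharacter G, (χ : G → ℂ) = (fun _ => 1) ↔ χ = irrOne G := by
    intro χ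
    constructor
    · intro h1; exact Subtype.ext h1
    · intro h1; rw [h1]; rfl
  have hk0 : ∀ j : Fin (N - 1), (((j : ℕ) + 1 : ℕ) : ZMod q) ≠ 0 := fun j =>
    natCast_ne_zero' (by omega) (by have := j.2; omega)
  have hkh : ∀ j : Fin (N - 1), (((j : ℕ) + 1 : ℕ) : ZMod q) ≠ h := by
    intro j e3
    have := j.2
    have := natCast_inj' (by omega) (by omega) e3
    omega
  set χ' : Fin (N - 1) → IrrCharacter G := fun j => y (((j : ℕ) + 1 : ℕ) : ZMod q) with hχ'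
  have hχinj : Function.Injective χ' := by
    intro j j' hjj
    have hj := j.2
    have hj' := j'.2
    rcases hinj _ _ (hk0 j) (hkh j) (hk0 j') (hkh j') hjj with e3 | e3
    · have := natCast_inj' (by omega) (by omega) e3
      exact Fin.ext (by omega)
    · exfalso
      have e4 : ((((j' : ℕ) + 1) + ((j : ℕ) + 1) : ℕ) : ZMod q) = 0 := by
        rw [Nat.cast_add, e3]
        ring
      exact natCast_ne_zero' (by omega) (by omega) e4
  have hset : Cfsg.principalBlock M G = {χ : Cfsg.IrrCharacter G | (χ : G → ℂ) = (fun _ => 1) ∨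
      χ = x1 ∨ χ = x2 ∨ χ = x3 ∨ ∃ j, χ = χ' j} := by
    ext χ
    simp only [Set.mem_ofPred_eq, hone]
    constructor
    · intro hχ
      rcases hclass χ (mem_Bf.mpr hχ) with e3 | e3 | e3 | e3 | ⟨k, hk, hkh', e3⟩
      · exact Or.inl e3
      · exact Or.inr (Or.inl e3)
      · exact Or.inr (Or.inr (Or.inl e3))
      · exact Or.inr (Or.inr (Or.inr (Or.inl e3)))
      · refine Or.inr (Or.inr (Or.inr (Or.inr ?_)))
        have hv0 : k.val ≠ 0 := fun e4 => hk ((ZMod.val_eq_zero k).mp e4)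
        have hvq : k.val < q := ZMod.val_lt k
        have hvN : k.val ≠ N := by
          intro e4
          apply hkh'
          rw [hh, ← e4, ZMod.natCast_zmod_val]
        by_cases hlt : k.val < N
        · refine ⟨⟨k.val - 1, by omega⟩, ?_⟩
          rw [e3, hχ']
          show y k = y (((k.val - 1 + 1 : ℕ)) : ZMod q)
          rw [Nat.sub_add_cancel (by omega), ZMod.natCast_zmod_val]
        · refine ⟨⟨q - k.val - 1, by omega⟩, ?_⟩
          rw [e3, hχ']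
          show y k = y (((q - k.val - 1 + 1 : ℕ)) : ZMod q)
          rw [Nat.sub_add_cancel (by omega), Nat.cast_sub (by omega), ZMod.natCast_self,
            ZMod.natCast_zmod_val, zero_sub, hyneg k hk hkh']
    · intro hχ
      rw [← mem_Bf]
      rcases hχ with e3 | e3 | e3 | e3 | ⟨j, e3⟩
      · rw [e3]; exact one_mem_Bf hM
      · rw [e3]; exact m1
      · rw [e3]; exact m2
      · rw [e3]; exact m3
      · rw [e3]; exact (hy _ (hk0 j) (hkh j)).1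
  refine ⟨?_, x1, x2, x3, χ', δ1, δ2, δ3, s1, s2, s3, hχinj, ?_, ?_, ?_, n12, n13, n23, ?_, hset,
    ?_, ?_⟩
  · have hBf : Bf M G = insert (irrOne G) (insert x1 (insert x2 (insert x3
        (Finset.univ.image χ')))) := by
      ext χ
      rw [mem_Bf, hset]
      simp only [Set.mem_ofPred_eq, hone, Finset.mem_insert, Finset.mem_image, Finset.mem_univ,
        true_and]
      constructor
      · rintro (e3 | e3 | e3 | e3 | ⟨j, e3⟩)
        · exact Or.inl e3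
        · exact Or.inr (Or.inl e3)
        · exact Or.inr (Or.inr (Or.inl e3))
        · exact Or.inr (Or.inr (Or.inr (Or.inl e3)))
        · exact Or.inr (Or.inr (Or.inr (Or.inr ⟨j, e3.symm⟩)))
      · rintro (e3 | e3 | e3 | e3 | ⟨j, e3⟩)
        · exact Or.inl e3
        · exact Or.inr (Or.inl e3)
        · exact Or.inr (Or.inr (Or.inl e3))
        · exact Or.inr (Or.inr (Or.inr (Or.inl e3)))
        · exact Or.inr (Or.inr (Or.inr (Or.inr ⟨j, e3.symm⟩)))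
    have hcard : Nat.card (Cfsg.principalBlock M G) = (Bf M G).card := by
      rw [Nat.card_coe_set_eq, Set.ncard_eq_toFinset_card _ (Set.toFinite _)]
      rfl
    rw [hcard, hBf, Finset.card_insert_of_notMem, Finset.card_insert_of_notMem,
      Finset.card_insert_of_notMem, Finset.card_insert_of_notMem,
      Finset.card_image_of_injective _ hχinj, Finset.card_univ, Fintype.card_fin]
    · omega
    · simp only [Finset.mem_image, Finset.mem_univ, true_and, not_exists]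
      intro j
      exact (hy _ (hk0 j) (hkh j)).2.2.2.2.1
    · simp only [Finset.mem_insert, Finset.mem_image, Finset.mem_univ, true_and, not_or,
        not_exists]
      exact ⟨n23, fun j => (hy _ (hk0 j) (hkh j)).2.2.2.1⟩
    · simp only [Finset.mem_insert, Finset.mem_image, Finset.mem_univ, true_and, not_or,
        not_exists]
      exact ⟨n12, n13, fun j => (hy _ (hk0 j) (hkh j)).2.2.1⟩
    · simp only [Finset.mem_insert, Finset.mem_image, Finset.mem_univ, true_and, not_or,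
        not_exists]
      exact ⟨o1.symm, o2.symm, o3.symm, fun j => (hy _ (hk0 j) (hkh j)).2.1⟩
  · rw [Ne, hone]; exact o1
  · rw [Ne, hone]; exact o2
  · rw [Ne, hone]; exact o3
  · intro j
    obtain ⟨-, h2, h3, h4, h5, -⟩ := hy _ (hk0 j) (hkh j)
    refine ⟨h3, h4, h5, ?_⟩
    rw [Ne, hone]; exact h2
  · intro l hl0 hlq
    have hl : ((l : ℕ) : ZMod q) ≠ 0 := natCast_ne_zero' hl0 hlq
    have hE : σ ^ l = E q σ ((l : ℕ) : ZMod q) := (E_natCast hσq l).symm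
    obtain ⟨v1, v2, v3⟩ := hval _ hl
    rw [hE]
    refine ⟨v1, ?_, ?_, ?_⟩
    · rw [v2, heehl, pow_succ]; ring
    · rw [v3, heehl, pow_succ]; ring
    · intro j
      obtain ⟨-, -, -, -, -, h6⟩ := hy _ (hk0 j) (hkh j)
      rw [h6 _ hl, ee_neg hwq, ← Nat.cast_mul, ee_natCast hwq, hwv]
  · intro ρ hρ j
    obtain ⟨r1, r2⟩ := hrel ρ hρ
    have r3 := r2 _ (hk0 j) (hkh j)
    constructor
    · linear_combination r1
    · linear_combination r3

end Cfsg.Agent.S4481
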