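import Cfsg.Statements.S4482
-- import your own Cfsg.Agent.* helpers here
import Cfsg.Agent.Lib.Helper29DihI

set_option autoImplicit false
open Cfsg

namespace Cfsg.Agent.S4482

open Cfsg.Agent.Lib.Helper25Exp Cfsg.Agent.Lib.Helper29DihD Cfsg.Agent.Lib.Helper29DihF
  Cfsg.Agent.Lib.Helper29DihH Cfsg.Agent.Lib.Helper29DihI Cfsg.Agent.Lib.Helper82Linear

theorem algebra (g c ct cs x κ ν0 ν1 q : ℕ) (δ : ℤ) (hδ : δ = 1 ∨ δ = -1) (hx : 0 < x)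
    (hxδ : 0 < (x : ℤ) + δ) (hκ : 0 < κ) (hq : 0 < q) (hc : c = 2 * q * κ) (h0 : ν0 * ct = 4 * κ)
    (h1 : ν1 * cs = 4 * κ)
    (H : (c : ℂ) ^ 2 * ((q : ℂ) * ((ν0 : ℂ) + ν1) ^ 2) =
      2 * ((g : ℂ) * κ * (2 + 2 * (δ : ℂ) / x - 8 * (δ : ℂ) / ((x : ℂ) + δ)))) :
    (g : ℚ) * ((x : ℚ) - δ) ^ 2 = 2 * (x : ℚ) * ((x : ℚ) + δ) * (c : ℚ) ^ 3 *
      (1 / (ct : ℚ) + 1 / (cs : ℚ)) ^ 2 := by
  have hct : ct ≠ 0 := by rintro rfl; omega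
  have hcs : cs ≠ 0 := by rintro rfl; omega
  have hδδ : (δ : ℂ) * δ = 1 := by
    rcases hδ with rfl | rfl <;> norm_num
  have hx0 : (x : ℂ) ≠ 0 := by exact_mod_cast hx.ne'
  have hx'0 : (x : ℂ) + δ ≠ 0 := by
    have : ((x : ℤ) + δ : ℤ) ≠ 0 := by omega
    exact_mod_cast this
  have hκ0 : (κ : ℂ) ≠ 0 := by exact_mod_cast hκ.ne'
  have hct0 : (ct : ℂ) ≠ 0 := by exact_mod_cast hct
  have hcs0 : (cs : ℂ) ≠ 0 := by exact_mod_cast hcs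
  have e0 : (ν0 : ℂ) = 4 * κ / ct := by
    rw [eq_div_iff hct0]; exact_mod_cast h0
  have e1 : (ν1 : ℂ) = 4 * κ / cs := by
    rw [eq_div_iff hcs0]; exact_mod_cast h1
  have ec : (c : ℂ) = 2 * q * κ := by exact_mod_cast hc
  have E1 : 2 + 2 * (δ : ℂ) / x - 8 * (δ : ℂ) / ((x : ℂ) + δ) =
      2 * ((x : ℂ) - δ) ^ 2 / (x * ((x : ℂ) + δ)) := by
    field_simp
    ring
  rw [E1, e0, e1] at H
  have key : (g : ℂ) * ((x : ℂ) - δ) ^ 2 = 2 * (x : ℂ) * ((x : ℂ) + δ) * (c : ℂ) ^ 3 *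
      (1 / (ct : ℂ) + 1 / (cs : ℂ)) ^ 2 := by
    have H2 : (c : ℂ) ^ 2 * ((q : ℂ) * (16 * κ ^ 2 * (1 / (ct : ℂ) + 1 / (cs : ℂ)) ^ 2)) *
        (x * ((x : ℂ) + δ)) = 4 * κ * ((g : ℂ) * ((x : ℂ) - δ) ^ 2) := by
      have : (4 * (κ : ℂ) / ct + 4 * κ / cs) ^ 2 =
          16 * κ ^ 2 * (1 / (ct : ℂ) + 1 / (cs : ℂ)) ^ 2 := by ring
      rw [this] at H
      rw [H]
      field_simp
      ring
    have H3 : 4 * (κ : ℂ) * ((g : ℂ) * ((x : ℂ) - δ) ^ 2) = 4 * (κ : ℂ) *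
        (2 * (x : ℂ) * ((x : ℂ) + δ) * (c : ℂ) ^ 3 * (1 / (ct : ℂ) + 1 / (cs : ℂ)) ^ 2) := by
      rw [← H2]
      have : (c : ℂ) ^ 3 = (c : ℂ) ^ 2 * (2 * q * κ) := by rw [← ec]; ring
      rw [this]
      ring
    exact mul_left_cancel₀ (mul_ne_zero (by norm_num) hκ0) H3
  have key' : (((g : ℚ) * ((x : ℚ) - δ) ^ 2 : ℚ) : ℂ) = ((2 * (x : ℚ) * ((x : ℚ) + δ) * (c : ℚ) ^ 3 *
      (1 / (ct : ℚ) + 1 / (cs : ℚ)) ^ 2 : ℚ) : ℂ) := by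
    push_cast
    exact key
  exact Rat.cast_injective key'


/-- An order formula for groups with dihedral Sylow 2-subgroups and one class of involutions. Let G be a finite group whose Sylow 2-subgroup P = ⟨σ, τ⟩ is dihedral of order 2^n ≥ 8 (σ of order 2^(n−1), τ an involution inverting σ), let J be the central involution σ^(2^(n−2)), and suppose J, τ and στ are conjugate in G. Fix M over 2 and let χ₁ be an irreducible character in the principal 2-block taking one constant value δ₁ = ±1 at every non-identity power of σ, with χ₁ ≠ 1. Then, with x₁ = χ₁(1) and c(·) denoting orders of centralizers, x₁ ≠ δ₁ and #G · (x₁ − δ₁)² = 2·x₁(x₁ + δ₁)·c(J)³·(1/c(J, τ) + 1/c(J, στ))², where c(J, y) is the order of the joint centralizer of J and y. -/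
theorem result {G : Type*} [Group G] [Finite G] (M : Ideal Cfsg.AlgInt) (hM : Cfsg.IsPModular 2 M) (n : ℕ) (hn : 3 ≤ n) (P : Sylow 2 G) (σ τ : G) (hσ : σ ∈ (P : Subgroup G)) (hτ : τ ∈ (P : Subgroup G)) (hσo : orderOf σ = 2 ^ (n - 1)) (hτo : orderOf τ = 2) (hrel : τ * σ * τ⁻¹ = σ⁻¹) (hgen : Subgroup.closure ({σ, τ} : Set G) = (P : Subgroup G)) (hconj : IsConj (σ ^ (2 ^ (n - 2))) τ ∧ IsConj (σ ^ (2 ^ (n - 2))) (σ * τ)) (χ₁ : Cfsg.IrrCharacter G) (hχ₁ : χ₁ ∈ Cfsg.principalBlock M G) (h1 : (χ₁ : G → ℂ) ≠ (fun _ => 1)) (δ₁ : ℤ) (hδ₁ : δ₁ = 1 ∨ δ₁ = -1) (hval : ∀ l : ℕ, 0 < l → l < 2 ^ (n - 1) → (χ₁ : G → ℂ) (σ ^ l) = δ₁) : (Cfsg.charDegree (χ₁ : G → ℂ) : ℤ) ≠ δ₁ ∧ (Nat.card G : ℚ) * ((Cfsg.charDegree (χ₁ : G → ℂ) : ℚ) - δ₁) ^ 2 = 2 * (Cfsg.charDegree (χ₁ : G → ℂ) : ℚ) * ((Cfsg.charDegree (χ₁ : G → ℂ) : ℚ) + δ₁) * (Nat.card (Subgroup.centralizer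 ({σ ^ (2 ^ (n - 2))} : Set G)) : ℚ) ^ 3 * (1 / (Nat.card (Subgroup.centralizer ({σ ^ (2 ^ (n - 2)), τ} : Set G)) : ℚ) + 1 / (Nat.card (Subgroup.centralizer ({σ ^ (2 ^ (n - 2)), σ * τ} : Set G)) : ℚ)) ^ 2 := by
  classical
  have := Fintype.ofFinite G
  obtain ⟨m, rfl⟩ : ∃ m, n = m + 3 := ⟨n - 3, by omega⟩
  have e1 : m + 3 - 1 = m + 2 := rfl
  have e2 : m + 3 - 2 = m + 1 := rfl
  simp only [e1, e2] at *
  set q := 2 ^ (m + 2) with hq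
  set N' := 2 ^ m with hN'
  have hq4 : q = 2 * (2 * N') := by rw [hq, hN']; ring
  have hN'pos : 0 < N' := by positivity
  have e3 : 2 ^ (m + 1) = 2 * N' := by rw [hN']; ring
  have : NeZero q := ⟨by omega⟩
  have hq3 : 3 ≤ q := by omega
  have hσq : σ ^ q = 1 := pow_of_order hσo
  have hτ2 : τ * τ = 1 := by rw [← pow_two, ← hτo, pow_orderOf_eq_one]
  have hJ : E q σ ((2 * N' : ℕ) : ZMod q) = σ ^ (2 ^ (m + 1)) := by
    rw [E_natCast hσq, e3]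
  obtain ⟨e, -⟩ := exists_equiv hq3 (P : Subgroup G) σ τ hσo hτ2 hrel hgen
  obtain ⟨κ, ν0, ν1, hκ, hc, h0, h1', H⟩ := core_formula M hM hq hq4 hN'pos P σ τ hσ hτ hσo hτ2 hrel
    hgen (by rw [hJ]; exact hconj)
  obtain ⟨x, hxpos, hx, hxδ, HF⟩ := F_sum M hM hq hq4 hN'pos P e σ hσ hσo χ₁ hχ₁
    (fun h => h1 (by rw [h]; rfl)) δ₁ hδ₁ (by
      intro l hl
      have h2 : 0 < l.val := Nat.pos_of_ne_zero (fun h => hl ((ZMod.val_eq_zero l).mp h))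
      exact hval l.val h2 (ZMod.val_lt l))
  rw [HF] at H
  rw [hJ] at H hc h0 h1'
  have hdeg : Cfsg.charDegree (χ₁ : G → ℂ) = x := by
    unfold Cfsg.charDegree
    rw [hx]
    simp
  rw [hdeg]
  have hmain := algebra (Nat.card G) _ _ _ x κ ν0 ν1 q δ₁ hδ₁ hxpos hxδ hκ (by omega) hc h0 h1' H
  refine ⟨?_, hmain⟩
  intro hcon
  have h3 : ((x : ℚ) - δ₁) = 0 := by
    have : ((x : ℤ) : ℚ) = (δ₁ : ℚ) := by rw [hcon]
    push_cast at this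
    linarith
  rw [h3] at hmain
  have p1 : (0 : ℚ) < x := by exact_mod_cast hxpos
  have p2 : (0 : ℚ) < (x : ℚ) + δ₁ := by exact_mod_cast hxδ
  have p3 : (0 : ℚ) < (Nat.card (Subgroup.centralizer ({σ ^ (2 ^ (m + 1))} : Set G)) : ℚ) := by
    exact_mod_cast Nat.card_pos
  have p4 : (0 : ℚ) < (Nat.card (Subgroup.centralizer ({σ ^ (2 ^ (m + 1)), τ} : Set G)) : ℚ) := by
    exact_mod_cast Nat.card_pos
  have p5 : (0 : ℚ) < (Nat.card (Subgroup.centralizer ({σ ^ (2 ^ (m + 1)), σ * τ} : Set G)) : ℚ) := by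
    exact_mod_cast Nat.card_pos
  have : (0 : ℚ) < 2 * (x : ℚ) * ((x : ℚ) + δ₁) *
      (Nat.card (Subgroup.centralizer ({σ ^ (2 ^ (m + 1))} : Set G)) : ℚ) ^ 3 *
      (1 / (Nat.card (Subgroup.centralizer ({σ ^ (2 ^ (m + 1)), τ} : Set G)) : ℚ) +
        1 / (Nat.card (Subgroup.centralizer ({σ ^ (2 ^ (m + 1)), σ * τ} : Set G)) : ℚ)) ^ 2 := by
    positivity
  rw [← hmain] at this
  norm_num at this

end Cfsg.Agent.S4482
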