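import Cfsg.Statements.S0854
import Cfsg.Agent.Lib.Helper19Cliff

set_option autoImplicit false
open Cfsg

namespace Cfsg.Agent.S0854

/-- Let H be a normal subgroup of the finite group G, ϑ an irreducible character of H, and T the inertia group of ϑ (the elements g with ϑ(g n g⁻¹) = ϑ(n) for all n in H). If χ is an irreducible character of G whose restriction to H has nonzero inner product with ϑ, then χ is induced from some irreducible character ψ of T, and the restrictions of ψ and of χ to H have the same inner product with ϑ. -/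
theorem result {G : Type*} [Group G] [Fintype G] (H : Subgroup G) [hN : H.Normal] [Fintype H] (ϑ : H → ℂ) (hϑ : Cfsg.IsIrrCharacter H ϑ) (T : Subgroup G) [Fintype T] (hT : ∀ g : G, g ∈ T ↔ ∀ n : H, ϑ ⟨g * n * g⁻¹, hN.conj_mem (n : G) n.2 g⟩ = ϑ n) (hHT : H ≤ T) (χ : G → ℂ) (hχ : Cfsg.IsIrrCharacter G χ) (hcon : Cfsg.classInner (fun n : H => χ n) ϑ ≠ 0) : ∃ ψ : T → ℂ, Cfsg.IsIrrCharacter T ψ ∧ Cfsg.indFun T ψ = χ ∧ Cfsg.classInner (fun n : H => ψ ⟨(n : G), hHT n.2⟩) ϑ = Cfsg.classInner (fun n : H => χ n) ϑ := by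
  classical
  have hc : ∀ (g : G) (n : H), T.subtype (Subgroup.inclusion hHT ((MulAut.conjNormal g : MulAut H) n))
      = g * T.subtype (Subgroup.inclusion hHT n) * g⁻¹ := by
    intro g n
    simp [MulAut.conjNormal_apply]
  have hT' : ∀ g : G, g ∈ T.subtype.range ↔ ∀ n : H, ϑ ((MulAut.conjNormal g : MulAut H) n) = ϑ n := by
    intro g
    rw [Subgroup.range_subtype, hT g]
    refine forall_congr' fun n => ?_
    have : (MulAut.conjNormal g : MulAut H) n = ⟨g * n * g⁻¹, hN.conj_mem (n : G) n.2 g⟩ :=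
      Subtype.ext (MulAut.conjNormal_apply g n)
    rw [this]
  obtain ⟨ψ, hψ, hind, hin⟩ := Lib.Helper19Cliff.clifford_corr T.subtype T.subtype_injective
    (Subgroup.inclusion hHT) (Subgroup.inclusion_injective hHT) MulAut.conjNormal hc hϑ hT' hχ hcon
  refine ⟨ψ, hψ, ?_, hin⟩
  rw [← Lib.Helper19Cliff.ind_subtype]
  exact hind

end Cfsg.Agent.S0854
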