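import Cfsg.Statements.S0883
import Cfsg.Agent.Lib.Helper61Feit5

set_option autoImplicit false
open Cfsg

namespace Cfsg.Agent.S0883

/-- Let G be a finite simple Zassenhaus group on Ω with h + 1 points whose two-point stabilizer E has odd order e with 2e < h - 1, and let H be the subgroup of the stabilizer of a consisting of the identity and the elements fixing no point other than a (given here as a subgroup of the stabilizer of order one less than the number of points whose non-identity elements fix only a; it is the Frobenius kernel of the stabilizer). If a non-identity element u of H is a product of two involutions of G, then u is an involution. -/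
theorem result {G Ω : Type*} [Group G] [Finite G] [MulAction G Ω] [Fintype Ω] (hZ : Cfsg.IsZassenhausGroup G Ω) {a b : Ω} (hab : a ≠ b) [IsSimpleGroup G] (h e : ℕ) (hh : Fintype.card Ω = h + 1) (he : Nat.card ↥(MulAction.stabilizer G a ⊓ MulAction.stabilizer G b : Subgroup G) = e) (hodd : Odd e) (hlt : 2 * e < h - 1) (H : Subgroup G) (hHa : H ≤ MulAction.stabilizer G a) (hHcard : Nat.card H + 1 = Fintype.card Ω) (hHfix : ∀ u ∈ H, u ≠ 1 → ∀ c : Ω, u • c = c → c = a) (u : G) (hu : u ∈ H) (hu1 : u ≠ 1) (x y : G) (hx : orderOf x = 2) (hy : orderOf y = 2) (hxy : x * y = u) : orderOf u = 2 := by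
  have hh' : Nat.card Ω = h + 1 := by rw [Nat.card_eq_fintype_card, hh]
  have hodd' : Odd (Nat.card (Cfsg.Agent.Lib.Helper61Feit.stab2 G a b)) := by rw [he]; exact hodd
  have K : Cfsg.Agent.Lib.Helper61Feit2.KData G Ω a h H := ⟨hHa, by omega, hHfix⟩
  have hua : u • a = a := hHa hu
  obtain ⟨hxa, hya⟩ := Cfsg.Agent.Lib.Helper61Feit5.invol_fix_of_prod hZ hh' hab hodd' hx hy hxy hua
    (hHfix u hu hu1)
  have hhe : Even h := by
    by_contra hcon
    rw [Nat.not_even_iff_odd] at hcon
    exact Cfsg.Agent.Lib.Helper61Feit4.invol_fpf_of_odd hZ hh' hab hodd' hcon hx a hxa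
  have hxH := Cfsg.Agent.Lib.Helper61Feit5.invol_mem_kernel hZ hh' hab hodd' K hx hxa
  have hc := Cfsg.Agent.Lib.Helper61Feit5.invol_central hZ hh' hab hodd' hhe K hy hya x hxH
  have : Fact (Nat.Prime 2) := ⟨Nat.prime_two⟩
  apply orderOf_eq_prime _ hu1
  rw [← hxy, pow_two]
  calc x * y * (x * y) = x * (y * x) * y := by group
    _ = x * (x * y) * y := by rw [hc]
    _ = (x * x) * (y * y) := by group
    _ = 1 := by
      rw [Cfsg.Agent.Lib.Helper61Feit4.sq_of_order_two hx,
        Cfsg.Agent.Lib.Helper61Feit4.sq_of_order_two hy, one_mul]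

end Cfsg.Agent.S0883
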