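import Cfsg.Statements.S0891
import Cfsg.Agent.Lib.Helper69Cliff

set_option autoImplicit false
open Cfsg

namespace Cfsg.Agent.S0891

/-- For every n ≥ 4 there are a finite group Γ and a central element z of Γ of order 2 lying in the commutator subgroup of Γ such that the quotient of Γ by the (normal) subgroup generated by z is isomorphic to the alternating group on n letters. -/
theorem result (n : ℕ) (hn : 4 ≤ n) : ∃ (Γ : Type) (_ : Group Γ) (_ : Finite Γ) (z : Γ) (hz : z ∈ Subgroup.center Γ), orderOf z = 2 ∧ z ∈ commutator Γ ∧ ∃ _ : (Subgroup.zpowers z).Normal, Nonempty (Γ ⧸ Subgroup.zpowers z ≃* alternatingGroup (Fin n)) := by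
  obtain ⟨Γ, _, ξ, z, hξ, hker, hzc, hz2, hzcomm⟩ := Cfsg.Agent.Lib.Helper69Cliff.exists_cover n hn
  have hnorm : (Subgroup.zpowers z).Normal := hker ▸ (inferInstance : ξ.ker.Normal)
  have e : Γ ⧸ ξ.ker ≃* alternatingGroup (Fin n) := QuotientGroup.quotientKerEquivOfSurjective ξ hξ
  have e2 : Γ ⧸ Subgroup.zpowers z ≃* alternatingGroup (Fin n) :=
    (QuotientGroup.quotientMulEquivOfEq hker.symm).trans e
  have hfinz : Finite (Subgroup.zpowers z) := by
    have : IsOfFinOrder z := by
      rw [← orderOf_pos_iff, hz2]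
      norm_num
    exact (finite_zpowers.2 this).to_subtype
  have hfinq : Finite (Γ ⧸ Subgroup.zpowers z) := Finite.of_equiv _ e2.symm.toEquiv
  have hfin : Finite Γ :=
    Finite.of_equiv _ (Subgroup.groupEquivQuotientProdSubgroup (s := Subgroup.zpowers z)).symm
  exact ⟨Γ, inferInstance, hfin, z, hzc, hz2, hzcomm, hnorm, ⟨e2⟩⟩

end Cfsg.Agent.S0891
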