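import Cfsg.Statements.S0892
import Cfsg.Agent.Lib.H82AltDefs
import Cfsg.Agent.Lib.H82AltDiv
import Cfsg.Agent.Lib.H82AltSame
import Cfsg.Agent.Lib.H82AltLifts
import Cfsg.Agent.Lib.H82AltCrit
import Cfsg.Agent.Lib.H82AltNormOdd
import Cfsg.Agent.Lib.H82AltInv
import Cfsg.Agent.Lib.H82AltFar
import Cfsg.Agent.Lib.H82AltThree
import Cfsg.Agent.Lib.H82AltBZero
import Cfsg.Agent.Lib.H82AltFour
import Cfsg.Agent.Lib.H82AltNormThree
import Cfsg.Agent.Lib.H82AltAFour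
import Cfsg.Agent.Lib.H82AltBraid
import Cfsg.Agent.Lib.H82AltCZero
import Cfsg.Agent.Lib.H82AltEps
import Cfsg.Agent.Lib.H82AltComb
import Cfsg.Agent.Lib.H82AltEpsA
import Cfsg.Agent.Lib.H82AltQuot

set_option autoImplicit false
open Cfsg

namespace Cfsg.Agent.S0892

open Cfsg.Agent.Lib.H82AltDefs
open Cfsg.Agent.Lib

/-- odd kernel, at least 3 generators: all relators can be made trivial. -/
theorem odd_core {Γ : Type*} [Group Γ] (Z : Subgroup Γ) (hZc : Z ≤ Subgroup.center Γ)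
    (h2 : NoTor Z 2) (d2 : Divis Z 2) (m : ℕ) (hm : 3 ≤ m) (hm' : m ≤ 3 ∨ 6 ≤ m)
    (t : ℕ → Γ) (ht : Rel Z m t) : ∃ t', Same Z t t' ∧ Rel ⊥ m t' := by
  obtain ⟨t', hs, hsq, h02⟩ := H82AltNormOdd.norm_odd Z hZc d2 m hm t ht
  have hr : Rel Z m t' := H82AltSame.rel_same Z hZc m t t' ht hs
  refine ⟨t', hs, ?_⟩
  have hcube : t' 0 ^ 3 = 1 :=
    H82AltFar.cube_eq_one Z hZc h2 (t' 0) (t' 2) (hsq 2 (by omega) (by omega)) h02 (hr.a0 (by omega))
  have hcc : ∀ i j, 1 ≤ i → i + 1 < j → j < m → (t' i * t' j) ^ 2 = 1 := fun i j hi hij hj =>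
    H82AltInv.inv_pow_eq_one Z hZc h2 (t' i) (t' j) (hsq i hi (by omega)) (hsq j (by omega) hj) 2
      (hr.c i j hij hj)
  have hfar : ∀ j, 4 ≤ j → j < m → (t' 0 * t' j) ^ 2 = 1 := fun j hj hjm =>
    H82AltFar.c0_far Z hZc h2 (t' 0) (t' 2) (t' j) (hsq 2 (by omega) (by omega))
      (hsq j (by omega) hjm) h02 (hcc 2 j (by omega) (by omega) hjm) (hr.c 0 j (by omega) hjm)
  constructor
  · intro _
    rw [Subgroup.mem_bot]; exact hcube
  · intro i hi him
    rw [Subgroup.mem_bot]; exact hsq i hi him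
  · intro i him
    rw [Subgroup.mem_bot]
    rcases Nat.eq_zero_or_pos i with rfl | hi
    · exact H82AltBZero.b0 Z hZc h2 (t' 0) (t' (0 + 1)) hcube (hsq (0 + 1) (by omega) (by omega))
        (hr.b 0 him)
    · exact H82AltInv.inv_pow_eq_one Z hZc h2 (t' i) (t' (i + 1)) (hsq i hi (by omega))
        (hsq (i + 1) (by omega) him) 3 (hr.b i him)
  · intro i j hij hjm
    rw [Subgroup.mem_bot]
    rcases Nat.eq_zero_or_pos i with rfl | hi
    · rcases Nat.lt_or_ge j 4 with hj4 | hj4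
      · have : j = 2 ∨ j = 3 := by omega
        rcases this with rfl | rfl
        · exact h02
        · have h6 : 6 ≤ m := by omega
          exact H82AltThree.c0_three Z hZc h2 (t' 0) (t' 2) (t' 3) (t' 5)
            (hsq 2 (by omega) (by omega)) (hsq 3 (by omega) (by omega)) (hsq 5 (by omega) (by omega))
            h02 (hfar 5 (by omega) (by omega)) (hcc 2 5 (by omega) (by omega) (by omega))
            (hcc 3 5 (by omega) (by omega) (by omega)) (hr.c 0 3 (by omega) (by omega))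
      · exact hfar j hj4 hjm
    · exact hcc i j hi hij hjm

/-- kernel without 3-torsion: all relators lie in a subgroup of order at most two. -/
theorem two_core {Γ : Type*} [Group Γ] (Z : Subgroup Γ) (hZc : Z ≤ Subgroup.center Γ)
    (h3 : NoTor Z 3) (d3 : Divis Z 3) (m : ℕ) (hm : 2 ≤ m) (t : ℕ → Γ) (ht : Rel Z m t) :
    ∃ t' a, Same Z t t' ∧ a ∈ Z ∧ a ^ 2 = 1 ∧ Rel (Subgroup.zpowers a) m t' := by
  obtain ⟨t', hs, h0, hb⟩ := H82AltNormThree.norm_three Z hZc d3 m (by omega) t ht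
  have hr : Rel Z m t' := H82AltSame.rel_same Z hZc m t t' ht hs
  have ha1 : t' 1 ^ 2 ∈ Z := hr.a 1 le_rfl (by omega)
  obtain ⟨haa, hv⟩ := H82AltAFour.a4 Z hZc h3 (t' 0) (t' 1) h0 (hb 0 (by omega)) ha1
  have hinv : (t' 1 ^ 2)⁻¹ = t' 1 ^ 2 := by
    rw [inv_eq_iff_mul_eq_one, ← pow_two]; exact haa
  have hsq : ∀ i, 1 ≤ i → i < m → t' i ^ 2 = t' 1 ^ 2 := by
    intro i hi
    induction i, hi using Nat.le_induction with
    | base => intro _; rfl
    | succ i hi ih =>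
      intro him
      have := H82AltBraid.braid_sq Z hZc h3 (t' i) (t' (i + 1)) (hr.a i hi (by omega))
        (hr.a (i + 1) (by omega) him) (hb i him)
      rw [this, ih (by omega), hinv]
  have hc0 : ∀ j, 2 ≤ j → j < m → (t' 0 * t' j) ^ 2 = t' 1 ^ 2 ∧ t' j * t' 0 * (t' j)⁻¹ = (t' 0)⁻¹ := by
    intro j hj hjm
    have := H82AltCZero.c0 Z hZc h3 (t' 0) (t' j) h0 (hr.a j (by omega) hjm) (hr.c 0 j (by omega) hjm)
    exact ⟨this.1.trans (hsq j (by omega) hjm), this.2⟩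
  have hall : ∀ i j, 1 ≤ i → i + 2 ≤ j → j < m → (t' i * t' j) ^ 2 = (t' 1 * t' 3) ^ 2 := by
    apply H82AltComb.eps_all m (fun i j => (t' i * t' j) ^ 2)
    · intro i j hi hij hjm
      exact H82AltEps.eps_right Z hZc h3 (t' i) (t' j) (t' (j + 1)) (hr.a i hi (by omega))
        (hr.a j (by omega) (by omega))
        ((hsq (j + 1) (by omega) hjm).trans (hsq j (by omega) (by omega)).symm)
        (hr.c i j (by omega) (by omega)) (hr.c i (j + 1) (by omega) hjm) (hb j hjm)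
    · intro i j hi hij hjm
      exact H82AltEps.eps_left Z hZc h3 (t' j) (t' i) (t' (i + 1)) (hr.a j (by omega) hjm)
        (hr.a i hi (by omega))
        ((hsq (i + 1) (by omega) (by omega)).trans (hsq i hi (by omega)).symm)
        (hr.c i j (by omega) hjm) (hr.c (i + 1) j (by omega) hjm) (hb i (by omega))
  have h13 : 3 < m → (t' 1 * t' 3) ^ 2 = t' 1 ^ 2 := by
    intro h3m
    exact H82AltEpsA.eps_a Z hZc (t' 0) (t' 1) (t' 3) (t' 1 ^ 2) ha1 haa h0 (hb 0 (by omega)) rfl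
      (hsq 3 (by omega) h3m) (hc0 3 (by omega) h3m).2 hv (hr.c 1 3 (by omega) h3m)
  refine ⟨t', t' 1 ^ 2, hs, ha1, haa, ?_⟩
  have hmem : t' 1 ^ 2 ∈ Subgroup.zpowers (t' 1 ^ 2) := Subgroup.mem_zpowers _
  constructor
  · intro _; rw [h0]; exact Subgroup.one_mem _
  · intro i hi him; rw [hsq i hi him]; exact hmem
  · intro i him; rw [hb i him]; exact Subgroup.one_mem _
  · intro i j hij hjm
    rcases Nat.eq_zero_or_pos i with rfl | hi
    · rw [(hc0 j (by omega) hjm).1]; exact hmem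
    · rw [hall i j hi (by omega) hjm, h13 (by omega)]; exact hmem

/-- odd kernel is trivial. -/
theorem odd_thm (n : ℕ) (hn : 4 ≤ n) (h6 : n ≠ 6) (h7 : n ≠ 7) {Γ : Type*} [Group Γ] [Finite Γ]
    (Z : Subgroup Γ) [Z.Normal] (hZc : Z ≤ Subgroup.center Γ) (hZd : Z ≤ commutator Γ)
    (e : Γ ⧸ Z ≃* alternatingGroup (Fin n)) (hodd : Odd (Nat.card Z)) : Nat.card Z = 1 := by
  have hcop : (Nat.card Z).Coprime 2 := Nat.Coprime.symm (Nat.coprime_two_left.mpr hodd)
  have h2 : NoTor Z 2 := H82AltDiv.noTor Z 2 hcop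
  have d2 : Divis Z 2 := H82AltDiv.divis Z 2 hcop
  obtain ⟨t, ht, hgen⟩ := H82AltLifts.lifts n (by omega) Z hZc hZd e
  rcases Nat.lt_or_ge n 5 with h5 | h5
  · have hn4 : n = 4 := by omega
    subst hn4
    obtain ⟨t', hs, hsq⟩ := H82AltNormOdd.norm_sq Z hZc d2 (4 - 2) t ht
    have hr : Rel Z (4 - 2) t' := H82AltSame.rel_same Z hZc _ t t' ht hs
    have hg := hgen t' hs
    have himg : t' '' Set.Iio (4 - 2) = {t' 0, t' 1} := by
      ext x
      simp only [Set.mem_image, Set.mem_Iio, Set.mem_insert_iff, Set.mem_singleton_iff]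
      constructor
      · rintro ⟨i, hi, rfl⟩
        have : i = 0 ∨ i = 1 := by omega
        rcases this with rfl | rfl
        · exact Or.inl rfl
        · exact Or.inr rfl
      · rintro (rfl | rfl)
        · exact ⟨0, by norm_num, rfl⟩
        · exact ⟨1, by norm_num, rfl⟩
    rw [himg] at hg
    have := H82AltFour.odd_four Z hZc hZd h2 (t' 0) (t' 1) (hsq 1 le_rfl (by norm_num))
      (hr.a0 (by norm_num)) (hr.b 0 (by norm_num)) hg
    rw [this]; simp
  · obtain ⟨t', hs, hr⟩ := odd_core Z hZc h2 d2 (n - 2) (by omega) (by omega) t ht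
    have := H82AltCrit.crit n (by omega) Z hZc e t' (hgen t' hs) ⊥ bot_le hr
    rw [← this]; simp

/-- kernel of order prime to 3 has order at most two. -/
theorem two_thm (n : ℕ) (hn : 4 ≤ n) {Γ : Type*} [Group Γ] [Finite Γ]
    (Z : Subgroup Γ) [Z.Normal] (hZc : Z ≤ Subgroup.center Γ) (hZd : Z ≤ commutator Γ)
    (e : Γ ⧸ Z ≃* alternatingGroup (Fin n)) (hcop : (Nat.card Z).Coprime 3) : Nat.card Z ≤ 2 := by
  have h3 : NoTor Z 3 := H82AltDiv.noTor Z 3 hcop
  have d3 : Divis Z 3 := H82AltDiv.divis Z 3 hcop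
  obtain ⟨t, ht, hgen⟩ := H82AltLifts.lifts n (by omega) Z hZc hZd e
  obtain ⟨t', a, hs, haZ, ha2, hr⟩ := two_core Z hZc h3 d3 (n - 2) (by omega) t ht
  have := H82AltCrit.crit n (by omega) Z hZc e t' (hgen t' hs) (Subgroup.zpowers a)
    (by rw [Subgroup.zpowers_le]; exact haZ) hr
  rw [← this, Nat.card_zpowers]
  exact Nat.le_of_dvd (by norm_num) (orderOf_dvd_of_pow_eq_one ha2)

theorem result (n : ℕ) (hn : 4 ≤ n) (h6 : n ≠ 6) (h7 : n ≠ 7) {Γ : Type*} [Group Γ] [Finite Γ] (Z : Subgroup Γ) [Z.Normal] (hZc : Z ≤ Subgroup.center Γ) (hZd : Z ≤ commutator Γ) (e : Γ ⧸ Z ≃* alternatingGroup (Fin n)) : Nat.card Z ≤ 2 := by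
  obtain ⟨k, Γ', _, _, Z', _, hc', hd', ⟨e'⟩, hodd, hcard⟩ := H82AltQuot.quot_two Z hZc hZd e
  have h1 := odd_thm n hn h6 h7 Z' hc' hd' e' hodd
  rw [h1, one_mul] at hcard
  apply two_thm n hn Z hZc hZd e
  rw [← hcard]
  exact Nat.Coprime.pow_left k (by norm_num)

end Cfsg.Agent.S0892
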