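import Cfsg.Statements.S0980
import Mathlib
import Cfsg.Agent.Lib.Helper5Exc4

set_option autoImplicit false
open Cfsg

namespace Cfsg.Agent.S0980

/-- No finite simple group has order 5760 = 2^7 * 3^2 * 5. -/
theorem result {G : Type*} [Group G] [Finite G] [IsSimpleGroup G] : Nat.card G ≠ 5760 := by
  intro h
  classical
  let _ : Fintype G := Fintype.ofFinite G
  have hG : ¬ IsMulCommutative G :=
    Cfsg.Agent.Lib.Helper21Simple.not_comm_of_not_prime (by rw [h]; norm_num)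
  have : Fact (Nat.Prime 5) := ⟨by norm_num⟩
  obtain ⟨P⟩ : Nonempty (Sylow 5 G) := inferInstance
  obtain ⟨hP, n, m, hn1, hn2, hm1, hm2, hmn, hn, hm⟩ :=
    Cfsg.Agent.Lib.Helper5Exc.sylow_setup hG 1152 (by rw [h]) (by norm_num) P
  have hC := Cfsg.Agent.Lib.Helper5Exc2.card_centralizer_mul P
  rw [hm, hn, h] at hC
  have hcases : n = 6 ∨ (n = 576 ∧ m = 2) ∨ (m * n < 1152 ∧ n ≠ 6) := by
    have key : ∀ k ∈ Nat.divisors 1152, ∀ n ∈ Nat.divisors k, n % 5 = 1 → n ≠ 1 →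
        ∀ m ∈ Nat.divisors 4, m ≠ 1 → m * n = k →
        (n = 6 ∨ (n = 576 ∧ m = 2) ∨ (m * n < 1152 ∧ n ≠ 6)) := by decide +kernel
    exact key (m * n) (Nat.mem_divisors.mpr ⟨hmn, by norm_num⟩) n
      (Nat.mem_divisors.mpr ⟨dvd_mul_left _ _, fun h0 => by rw [h0] at hmn; omega⟩) hn1 hn2 m
      (Nat.mem_divisors.mpr ⟨hm2, by norm_num⟩) hm1 rfl
  have hodd : ∀ x, x ∣ Nat.card G → ¬ 5 ∣ x → 2 * 5 ≤ x → 2 ∣ x := by
    rw [h]
    have key : ∀ x ∈ Nat.divisors 5760, ¬ 5 ∣ x → 2 * 5 ≤ x → 2 ∣ x := by decide +kernel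
    intro x hx h7 hx14
    exact key x (Nat.mem_divisors.mpr ⟨hx, by norm_num⟩) h7 hx14
  rcases hcases with rfl | ⟨rfl, rfl⟩ | ⟨hlt, -⟩
  · have hd := Cfsg.Agent.Lib.Helper5Exc2.card_centralizer_dvd P hP 6 hn (by norm_num)
      (by intro q _ _ _ f hf1 _ hf3; omega)
    have h1 : Nat.card (Subgroup.centralizer ((P : Subgroup G) : Set G)) ≤ 5 :=
      Nat.le_of_dvd (by norm_num) hd
    have h2 : m ≤ 4 := Nat.le_of_dvd (by norm_num) hm2
    nlinarith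
  · obtain ⟨T⟩ : Nonempty (Sylow 2 G) := inferInstance
    obtain ⟨hT, -⟩ := Cfsg.Agent.Lib.Helper21Simple.sylow_card_index (p := 2) (a := 7) (m := 45)
      (by rw [h]; norm_num) (by norm_num) T
    obtain ⟨x, b, N, s, hs, hx, hx1, hxs, hxd, hb0, hbe, hbx, heq⟩ :=
      Cfsg.Agent.Lib.Helper5Exc4.dihedral_arith hG P hP (by omega) hm (by norm_num) T
        (by rw [hT]; norm_num)
    rw [h] at hx hxd heq
    rw [hT] at heq
    have key : ∀ x ∈ Nat.divisors 5760, x ≠ 1 → ∀ s ∈ ({1, -1} : Finset ℤ),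
        ((x : ℤ) - s) % 5 = 0 → ((x : ℤ) + s).natAbs ∣ 5760 → ∀ b ∈ Finset.range (x + 1), 0 < b →
        b % 2 = 0 → ¬ ((2 ^ 7) ^ 2 * x * ((x : ℤ) + s).natAbs ∣ 5760 * 4 * b ^ 2) := by
      decide +kernel
    apply key x (Nat.mem_divisors.mpr ⟨hx, by norm_num⟩) hx1 s (by
      rcases hs with rfl | rfl <;> simp) (Int.emod_eq_zero_of_dvd (Int.ModEq.dvd hxs.symm)) hxd b
      (Finset.mem_range.mpr (by omega)) hb0 (Nat.even_iff.mp hbe)
    refine ⟨N, ?_⟩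
    have h2 := congrArg Int.natAbs heq
    simp only [Int.natAbs_mul, Int.natAbs_natCast, Int.natAbs_pow] at h2
    have h3 : (4 : ℤ).natAbs = 4 := rfl
    rw [h3] at h2
    push_cast at h2
    rw [← h2]
    ring
  · refine Cfsg.Agent.Lib.Helper5Exc3.no_big_centralizer hG P hP ?_ 2 (by norm_num) hodd
    intro h5
    rw [h5] at hC
    nlinarith

end Cfsg.Agent.S0980
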