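import Cfsg.Statements.S0982
import Cfsg.Agent.Lib.Helper63RecD

set_option autoImplicit false
open Cfsg

namespace Cfsg.Agent.S0982

/-- A simple group of order 6072 is isomorphic to the projective special linear group of dimension 2 over the field with 23 elements. -/
theorem result {G : Type*} [Group G] [Finite G] [IsSimpleGroup G] (h : Nat.card G = 6072) {F : Type*} [Field F] [Fintype F] (hF : Fintype.card F = 23) : Nonempty (G ≃* Matrix.ProjectiveSpecialLinearGroup (Fin 2) F) := by
  haveI : Fact (Nat.Prime 23) := ⟨by norm_num⟩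
  haveI : Fact (Nat.Prime 11) := ⟨by norm_num⟩
  have hn : Nat.card (Sylow 23 G) = 23 + 1 :=
    Cfsg.Agent.Lib.Helper63RecD.card_sylow_of 264 24 (by rw [h]) (by norm_num) (by norm_num) (by
      intro d hd h1
      have hle : d ≤ 264 := Nat.le_of_dvd (by norm_num) hd
      have key : ∀ d ∈ Finset.range 265, d ∣ 264 → d % 23 = 1 → d = 1 ∨ d = 24 := by
        set_option maxRecDepth 100000 in decide
      exact key d (Finset.mem_range.mpr (by omega)) hd h1)
  exact Cfsg.Agent.Lib.Helper63RecD.of_sylow' 11 11 1 (by norm_num) (by decide) (by norm_num)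
    (by norm_num) (by rw [h]) hn hF

end Cfsg.Agent.S0982
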