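import Cfsg.Statements.S0994
import Cfsg.Agent.Lib.Helper21Simple

set_option autoImplicit false
open Cfsg

namespace Cfsg.Agent.S0994

open Cfsg.Agent.Lib.Helper21Simple in
/-- No finite simple group has order 1188 = 2^2 * 3^3 * 11. -/
theorem result {G : Type*} [Group G] [Finite G] [IsSimpleGroup G] : Nat.card G ≠ 1188 := by
  intro h
  have hG : ¬ IsMulCommutative G := not_comm_of_not_prime (by rw [h]; norm_num)
  have : Fact (Nat.Prime 11) := ⟨by norm_num⟩
  obtain ⟨P⟩ : Nonempty (Sylow 11 G) := inferInstance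
  obtain ⟨hP, hidx⟩ := sylow_card_index (p := 11) (a := 1) (m := 108) (by rw [h]; norm_num) (by norm_num) P
  have h1 : Nat.card (Sylow 11 G) ≡ 1 [MOD 11] := card_sylow_modEq_one 11 G
  have h2 : Nat.card (Sylow 11 G) ∣ 108 := hidx ▸ P.card_dvd_index
  have h3 : Nat.card (Sylow 11 G) ≠ 1 := card_sylow_ne_one hG (by rw [h]; norm_num)
  have h4 := card_normalizer_mul_card_sylow P
  have h5 : Nat.card (Sylow 11 G) = 12 := by
    generalize Nat.card (Sylow 11 G) = n at *
    have : n ≤ 108 := Nat.le_of_dvd (by norm_num) h2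
    unfold Nat.ModEq at h1
    interval_cases n <;> simp_all (config := {decide := true})
  rw [h5, h] at h4
  have h6 : Nat.card (Subgroup.normalizer ((P : Subgroup G) : Set G)) = 99 := by omega
  have hcyc : IsCyclic (P : Subgroup G) := isCyclic_of_prime_card (p := 11) (by simpa using hP)
  have h7 := relIndex_dvd_card_mulAut (P : Subgroup G)
  rw [hcyc.card_mulAut, hP] at h7
  have h8 : (Subgroup.centralizer ((P : Subgroup G) : Set G)).relIndex
      (Subgroup.normalizer ((P : Subgroup G) : Set G)) ∣ 99 := h6 ▸ Subgroup.relIndex_dvd_card _ _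
  have h9 : (Subgroup.centralizer ((P : Subgroup G) : Set G)).relIndex
      (Subgroup.normalizer ((P : Subgroup G) : Set G)) = 1 := by
    have : Nat.totient (11 ^ 1) = 10 := by decide
    rw [this] at h7
    have := Nat.dvd_gcd h7 h8
    simpa using this
  rw [Subgroup.relIndex_eq_one] at h9
  exact not_normalizer_le_centralizer hG P (by rw [h]; norm_num) h9

end Cfsg.Agent.S0994
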