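import Cfsg.Statements.S0996
import Cfsg.Agent.Lib.H59BRCore
import Cfsg.Agent.Lib.H59BRSelf
import Cfsg.Agent.Lib.H59BRArA

set_option autoImplicit false
open Cfsg

namespace Cfsg.Agent.S0996

/-- Let G be a finite perfect group containing an element z of prime order p whose centralizer is the cyclic group it generates, and suppose the number 1 + n * p of Sylow p-subgroups satisfies n < (p + 3) / 2. Then p > 3 and G is isomorphic to the projective special linear group of dimension 2 over the field with p elements, or p - 1 is a power of 2 and G is isomorphic to that group over the field with p - 1 elements. -/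
theorem result {G : Type*} [Group G] [Finite G] (hperf : commutator G = ⊤) (p : ℕ) [Fact p.Prime] (z : G) (hz : orderOf z = p) (hC : Subgroup.centralizer ({z} : Set G) = Subgroup.zpowers z) (hn : 2 * Nat.card (Sylow p G) < (p + 1) * (p + 2)) : (∃ (F : Type) (_ : Field F) (_ : Fintype F), Fintype.card F = p ∧ 3 < p ∧ Nonempty (G ≃* Matrix.ProjectiveSpecialLinearGroup (Fin 2) F)) ∨ (∃ (m : ℕ) (F : Type) (_ : Field F) (_ : Fintype F), Fintype.card F = 2 ^ m ∧ p = 2 ^ m + 1 ∧ 3 < p ∧ Nonempty (G ≃* Matrix.ProjectiveSpecialLinearGroup (Fin 2) F)) := by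
  have hpp : p.Prime := Fact.out
  obtain ⟨P, hPz⟩ := Cfsg.Agent.Lib.H59BRSelf.exists_sylow z hz hC
  have hP : Nat.card P = p := by
    have h1 : Nat.card (P : Subgroup G) = p := by rw [hPz, Nat.card_zpowers, hz]
    exact h1
  have hCP : Subgroup.centralizer ((P : Subgroup G) : Set G) = (P : Subgroup G) := by
    rw [hPz]
    apply le_antisymm
    · have h1 : Subgroup.centralizer ((Subgroup.zpowers z : Subgroup G) : Set G) ≤
          Subgroup.centralizer {z} := by
        apply Subgroup.centralizer_le
        intro x hx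
        rw [Set.mem_singleton_iff] at hx
        rw [hx]
        exact Subgroup.mem_zpowers z
      exact h1.trans hC.le
    · intro g hg
      rw [Subgroup.mem_centralizer_iff]
      intro h hh
      obtain ⟨a, rfl⟩ := Subgroup.mem_zpowers_iff.mp hg
      obtain ⟨b, rfl⟩ := Subgroup.mem_zpowers_iff.mp hh
      rw [← zpow_add, ← zpow_add, add_comm]
  have hmod := card_sylow_modEq_one p G
  have hpos : 1 ≤ Nat.card (Sylow p G) := Nat.card_pos
  obtain ⟨n, hn'⟩ := (Nat.modEq_iff_dvd' hpos).mp hmod.symm
  have hcard : Nat.card (Sylow p G) = 1 + n * p := by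
    rw [mul_comm n p, ← hn']; omega
  have hexc : ¬ Cfsg.Agent.Lib.Helper59BRDefs.Exc p n := by
    intro h
    have h1 := Cfsg.Agent.Lib.H59BRArA.two_n_ge h
    rw [hcard] at hn
    nlinarith
  rcases Cfsg.Agent.Lib.H59BRCore.coreA hperf P hP hCP n hcard hexc with ⟨h3, hiso⟩ | h
  · exact Or.inl ⟨ZMod p, inferInstance, inferInstance, ZMod.card p, h3, hiso⟩
  · exact Or.inr h

end Cfsg.Agent.S0996
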