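import Cfsg.Statements.S1020
import Cfsg.Agent.Lib.Helper63RecG

set_option autoImplicit false
open Cfsg

namespace Cfsg.Agent.S1020

theorem e1 : (3 : ZMod 17) ^ 8 = -1 := by decide
theorem e2 : ((3 : ZMod 17) - 1) ^ 8 = 1 := by decide

/-- A simple group of order 2448 is isomorphic to the projective special linear group of dimension 2 over the field with 17 elements. -/
theorem result {G : Type*} [Group G] [Finite G] [IsSimpleGroup G] (h : Nat.card G = 2448) {F : Type*} [Field F] [Fintype F] (hF : Fintype.card F = 17) : Nonempty (G ≃* Matrix.ProjectiveSpecialLinearGroup (Fin 2) F) := by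
  haveI : Fact (Nat.Prime 17) := ⟨by norm_num⟩
  have hn : Nat.card (Sylow 17 G) = 17 + 1 :=
    Cfsg.Agent.Lib.Helper63RecD.card_sylow_of 144 18 (by rw [h]) (by norm_num) (by norm_num) (by
      intro d hd h1
      have hle : d ≤ 144 := Nat.le_of_dvd (by norm_num) hd
      have key : ∀ d ∈ Finset.range 145, d ∣ 144 → d % 17 = 1 → d = 1 ∨ d = 18 := by
        set_option maxRecDepth 100000 in decide
      exact key d (Finset.mem_range.mpr (by omega)) hd h1)
  exact Cfsg.Agent.Lib.Helper63RecG.of_sylow1 8 (by norm_num) (by decide) (by norm_num)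
    (by rw [h]) hn 3 e1 e2 hF

end Cfsg.Agent.S1020
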