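import Cfsg.Statements.S1058
import Mathlib
import Cfsg.Agent.Lib.Helper47AltHom

set_option autoImplicit false
open Cfsg

namespace Cfsg.Agent.S1058



section aux
open Cfsg.Lie Cfsg.Lie.ChevalleyDatum

theorem xMat_map' {F K : Type*} [Field F] [Field K] (D : Cfsg.Lie.ChevalleyDatum) (f : F →+* K)
    (r : Fin D.nroots) (t : F) : (D.xMat F r t).map f = D.xMat K r (f t) := by
  ext row col
  simp only [Matrix.map_apply, xMat, Matrix.of_apply]
  rcases col with i | s
  · rcases row with i' | u
    · simp only []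
      split_ifs <;> simp
    · simp only []
      split_ifs <;> simp
  · simp only []
    split_ifs with h1 h2
    · rcases row with i' | u
      · simp
      · simp only []
        split_ifs <;> simp
    · rcases row with i' | u
      · simp
      · simp only []
        split_ifs <;> simp
    · rcases row with i' | u
      · simp
      · simp only [map_add, map_list_sum, List.map_map]
        congr 1
        · split_ifs <;> simp
        · congr 1
          apply List.map_congr_left
          intro a _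
          simp

noncomputable def glMap' {F K : Type*} [Field F] [Field K] (D : Cfsg.Lie.ChevalleyDatum) (f : F ≃+* K) :
    GL D.Idx F ≃* GL D.Idx K :=
  Units.mapEquiv (RingEquiv.mapMatrix f (m := D.Idx)).toMulEquiv

theorem glMap'_coe {F K : Type*} [Field F] [Field K] (D : Cfsg.Lie.ChevalleyDatum) (f : F ≃+* K)
    (g : GL D.Idx F) :
    ((glMap' D f g : GL D.Idx K) : Matrix D.Idx D.Idx K) = (g : Matrix D.Idx D.Idx F).map f := rfl

theorem map_le' {F K : Type*} [Field F] [Field K] (D : Cfsg.Lie.ChevalleyDatum) (f : F ≃+* K) :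
    (D.group F).map (glMap' D f).toMonoidHom ≤ D.group K := by
  unfold ChevalleyDatum.group
  rw [MonoidHom.map_closure, Subgroup.closure_le]
  rintro _ ⟨g, ⟨r, t, hg⟩, rfl⟩
  apply Subgroup.subset_closure
  refine ⟨r, f t, ?_⟩
  have := glMap'_coe D f g
  rw [hg] at this
  erw [this]
  exact xMat_map' D (f : F →+* K) r t

theorem map_eq' {F K : Type*} [Field F] [Field K] (D : Cfsg.Lie.ChevalleyDatum) (f : F ≃+* K) :
    (D.group F).map (glMap' D f).toMonoidHom = D.group K := by
  apply le_antisymm (map_le' D f)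
  intro g hg
  refine ⟨glMap' D f.symm g, ?_, ?_⟩
  · exact map_le' D f.symm ⟨g, hg, rfl⟩
  · apply Units.ext
    ext i j
    simp [glMap'_coe]

/-- the Chevalley group only depends on the field up to isomorphism -/
noncomputable def groupCongr {F K : Type*} [Field F] [Field K] (D : Cfsg.Lie.ChevalleyDatum)
    (f : F ≃+* K) : ↥(D.group F) ≃* ↥(D.group K) :=
  ((glMap' D f).subgroupMap (D.group F)).trans (MulEquiv.subgroupCongr (map_eq' D f))

abbrev MM := Matrix chevB2.Idx chevB2.Idx (ZMod 2)

def M (r : Fin chevB2.nroots) : MM := chevB2.xMat (ZMod 2) r 1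

set_option maxRecDepth 100000 in
theorem M_sq : ∀ r : Fin chevB2.nroots, M r * M r = 1 := by decide +kernel

set_option maxRecDepth 100000 in
theorem xMat_zero : ∀ r : Fin chevB2.nroots, chevB2.xMat (ZMod 2) r 0 = 1 := by decide +kernel

def X (r : Fin chevB2.nroots) : GL chevB2.Idx (ZMod 2) := ⟨M r, M r, M_sq r, M_sq r⟩

def T : Fin 5 → GL chevB2.Idx (ZMod 2) :=
  ![X ⟨7, by decide⟩, X ⟨0, by decide⟩, X ⟨1, by decide⟩ * X ⟨7, by decide⟩ * X ⟨1, by decide⟩,
    X ⟨4, by decide⟩, X ⟨3, by decide⟩]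

set_option maxRecDepth 100000 in
theorem T_rel : ∀ i j, (T i * T j) ^ (CoxeterMatrix.A 5 i j) = 1 := by decide +kernel

set_option maxRecDepth 100000 in
theorem X_words :
    X ⟨0, by decide⟩ = T 1 ∧
    X ⟨1, by decide⟩ = T 0 * T 1 * T 0 * T 2 * T 1 * T 0 * T 4 ∧
    X ⟨2, by decide⟩ = T 0 * T 1 * T 0 * T 2 * T 3 * T 2 * T 4 * T 3 * T 2 * T 1 * T 0 ∧
    X ⟨3, by decide⟩ = T 4 ∧
    X ⟨4, by decide⟩ = T 3 ∧
    X ⟨5, by decide⟩ = T 0 * T 2 * T 4 ∧
    X ⟨6, by decide⟩ = T 0 * T 2 * T 3 * T 2 * T 4 * T 3 * T 2 ∧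
    X ⟨7, by decide⟩ = T 0 := by decide +kernel

set_option maxRecDepth 100000 in
theorem T01_ne : T 0 * T 1 ≠ 1 := by decide +kernel

theorem X_mem_group (r : Fin chevB2.nroots) : X r ∈ chevB2.group (ZMod 2) :=
  Subgroup.subset_closure ⟨r, 1, rfl⟩

theorem T_mem_group (i : Fin 5) : T i ∈ chevB2.group (ZMod 2) := by
  fin_cases i
  · exact X_mem_group _
  · exact X_mem_group _
  · exact mul_mem (mul_mem (X_mem_group _) (X_mem_group _)) (X_mem_group _)
  · exact X_mem_group _
  · exact X_mem_group _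

attribute [local irreducible] T in
theorem X_mem_closure (r : Fin chevB2.nroots) : X r ∈ Subgroup.closure (Set.range T) := by
  have hT : ∀ i, T i ∈ Subgroup.closure (Set.range T) := fun i => Subgroup.subset_closure ⟨i, rfl⟩
  obtain ⟨h0, h1, h2, h3, h4, h5, h6, h7⟩ := X_words
  have key : ∀ r : Fin 8, X r ∈ Subgroup.closure (Set.range T) := by
    intro r
    fin_cases r
    · exact h0 ▸ hT _
    · rw [show X (⟨1, by decide⟩ : Fin 8) = _ from h1]
      repeat' apply mul_mem
      all_goals exact hT _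
    · rw [show X (⟨2, by decide⟩ : Fin 8) = _ from h2]
      repeat' apply mul_mem
      all_goals exact hT _
    · exact h3 ▸ hT _
    · exact h4 ▸ hT _
    · rw [show X (⟨5, by decide⟩ : Fin 8) = _ from h5]
      repeat' apply mul_mem
      all_goals exact hT _
    · rw [show X (⟨6, by decide⟩ : Fin 8) = _ from h6]
      repeat' apply mul_mem
      all_goals exact hT _
    · exact h7 ▸ hT _
  exact key r

theorem group_eq : chevB2.group (ZMod 2) = Subgroup.closure (Set.range T) := by
  apply le_antisymm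
  · unfold ChevalleyDatum.group
    rw [Subgroup.closure_le]
    rintro g ⟨r, t, hg⟩
    have ht : ∀ t : ZMod 2, t = 0 ∨ t = 1 := by decide
    rcases ht t with rfl | rfl
    · have : g = 1 := Units.ext (by rw [hg, xMat_zero]; rfl)
      rw [this]; exact one_mem _
    · have : g = X r := Units.ext hg
      rw [this]; exact X_mem_closure r
  · rw [Subgroup.closure_le]
    rintro _ ⟨i, rfl⟩
    exact T_mem_group i

theorem main2 : Nonempty (↥(chevB2.group (ZMod 2)) ≃* Equiv.Perm (Fin 6)) := by
  obtain ⟨φ, hφ⟩ := Cfsg.Agent.Lib.Helper47AltHom.exists_permHom 5 T T_rel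
  have hrange : φ.range = chevB2.group (ZMod 2) := by
    rw [group_eq, MonoidHom.range_eq_map,
      ← Subgroup.closure_eq_top_of_mclosure_eq_top (Equiv.Perm.mclosure_swap_castSucc_succ 5),
      MonoidHom.map_closure]
    congr 1
    ext g
    constructor
    · rintro ⟨_, ⟨i, rfl⟩, rfl⟩
      exact ⟨i, (hφ i).symm⟩
    · rintro ⟨i, rfl⟩
      exact ⟨_, ⟨i, rfl⟩, hφ i⟩
  have hinj : Function.Injective φ := by
    rw [← MonoidHom.ker_eq_bot_iff]
    by_contra hne
    have hnt : Nontrivial φ.ker := (Subgroup.nontrivial_iff_ne_bot _).2 hne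
    have hle := Equiv.Perm.alternatingGroup_le_of_normal (α := Fin 6) (by simp) hnt
    have hmem : (Equiv.swap (0 : Fin 5).castSucc (0 : Fin 5).succ *
        Equiv.swap (1 : Fin 5).castSucc (1 : Fin 5).succ : Equiv.Perm (Fin 6)) ∈
        alternatingGroup (Fin 6) := by
      rw [Equiv.Perm.mem_alternatingGroup]
      decide
    have := hle hmem
    rw [MonoidHom.mem_ker, map_mul, hφ, hφ] at this
    exact T01_ne this
  exact ⟨((MonoidHom.ofInjective hinj).trans (MulEquiv.subgroupCongr hrange)).symm⟩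

end aux

/-- B₂(2) ≅ S₆. -/
theorem result {F : Type*} [Field F] [Fintype F] (hF : Fintype.card F = 2) :
    Nonempty (↥(Cfsg.Lie.chevB2.group F) ≃* Equiv.Perm (Fin 6)) := by
  obtain ⟨e⟩ := main2
  have f : F ≃+* ZMod 2 := (ZMod.ringEquivOfPrime F Nat.prime_two hF).symm
  exact ⟨(groupCongr _ f).trans e⟩

end Cfsg.Agent.S1058
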