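import Cfsg.Statements.S1129
import Cfsg.Agent.Lib.Helper24Fpf
import Cfsg.Agent.Lib.Helper24RankOneD
import Cfsg.Agent.S1128

set_option autoImplicit false
open Cfsg

namespace Cfsg.Agent.S1129

open MulAction Cfsg.Agent.Lib.Helper24RankOne Cfsg.Agent.Lib.Helper24RankOneB
  Cfsg.Agent.Lib.Helper24Fpf

/-- In the rank-one set-up (`G` finite and doubly transitive on `Ω`, `t` an involution moving `a`, `Q` normal in `G_a` with `G_a = Q D`, `Q ⊓ D = 1` for the two-point stabiliser `D = G_a ⊓ G_{t • a}`, `|Q|` even, `|D|` odd), with the action faithful and `G` containing two distinct commuting involutions: `Q` is nilpotent. -/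
theorem result {G Ω : Type*} [Group G] [Finite G] [MulAction G Ω] [FaithfulSMul G Ω] {a : Ω} {t : G} {Q : Subgroup G}
    (hS : Cfsg.IsRankOneSetup G Ω a t Q)
    (h2 : ∃ x y : G, x ≠ 1 ∧ y ≠ 1 ∧ x ≠ y ∧ x * x = 1 ∧ y * y = 1 ∧ x * y = y * x) :
    Group.IsNilpotent Q := by
  obtain ⟨x, y, hx1, hy1, hxy, hx2, hy2, hc⟩ := h2
  obtain ⟨c, hcx⟩ := exists_fixed hS hx2
  have hcy : y • c = c := commute_fixed hS hx1 hx2 hcx hc.symm
  obtain ⟨g, rfl⟩ := exists_smul_a hS c
  have hs : g⁻¹ * x * g⁻¹⁻¹ ∈ involutionsIn (stabilizer G a : Set G) := by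
    refine ⟨?_, conj_invol hx1 hx2⟩
    show (g⁻¹ * x * g⁻¹⁻¹) • a = a
    rw [inv_inv, mul_smul, mul_smul, hcx, inv_smul_smul]
  have hs' : g⁻¹ * y * g⁻¹⁻¹ ∈ involutionsIn (stabilizer G a : Set G) := by
    refine ⟨?_, conj_invol hy1 hy2⟩
    show (g⁻¹ * y * g⁻¹⁻¹) • a = a
    rw [inv_inv, mul_smul, mul_smul, hcy, inv_smul_smul]
  obtain ⟨k, hk, hkk⟩ := inverted_trans hS hs hs'
  have hk1 : k ≠ 1 := by
    rintro rfl
    apply hxy
    have : g⁻¹ * x * g⁻¹⁻¹ = g⁻¹ * y * g⁻¹⁻¹ := by simpa using hkk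
    simpa using this
  have hord : orderOf k ≠ 1 := by rwa [Ne, orderOf_eq_one_iff]
  obtain ⟨r, hr, hrd⟩ := Nat.exists_prime_and_dvd hord
  have hzr : orderOf (k ^ (orderOf k / r)) = r :=
    orderOf_pow_orderOf_div (orderOf_pos k).ne' hrd
  have hzK : k ^ (orderOf k / r) ∈ invertedBy (DD G a t) t := by
    refine ⟨(DD G a t).pow_mem hk.1 _, ?_⟩
    rw [← conj_pow, hk.2, inv_pow]
  generalize k ^ (orderOf k / r) = z at hzr hzK
  have hz1 : z ≠ 1 := by
    rintro rfl
    rw [orderOf_one] at hzr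
    exact hr.one_lt.ne hzr
  have hfpf := Cfsg.Agent.S1128.fpf hS z hzK hz1
  have hzG : z ∈ stabilizer G a := hzK.1.1
  let φ : Q →* Q :=
    { toFun := fun q => ⟨z * q * z⁻¹, hS.conj_mem z hzG q q.2⟩
      map_one' := Subtype.ext (by simp)
      map_mul' := fun q q' => Subtype.ext (by simp) }
  have hit : ∀ (n : ℕ) (q : Q), ((φ^[n] q : Q) : G) = z ^ n * q * (z ^ n)⁻¹ := by
    intro n
    induction n with
    | zero => intro q; simp
    | succ n ih =>
      intro q
      rw [Function.iterate_succ_apply']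
      show z * ((φ^[n] q : Q) : G) * z⁻¹ = _
      rw [ih, pow_succ']
      group
  apply nilpotent_of_fp hr φ
  refine ⟨fun q hq => ?_, fun q => ?_⟩
  · have h1 : z * (q : G) * z⁻¹ = q := congrArg Subtype.val hq
    have h2 : (q : G) ∈ Q ⊓ Subgroup.centralizer {z} := by
      refine Subgroup.mem_inf.mpr ⟨q.2, ?_⟩
      rw [Subgroup.mem_centralizer_singleton_iff]
      calc (q : G) * z = (z * q * z⁻¹) * z := by rw [h1]
        _ = z * q := by group
    rw [hfpf, Subgroup.mem_bot] at h2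
    exact Subtype.ext h2
  · apply Subtype.ext
    rw [hit, ← hzr, pow_orderOf_eq_one]
    simp

end Cfsg.Agent.S1129
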