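import Cfsg.Statements.S1167
import Cfsg.Agent.Lib.Helper16FeitC
import Cfsg.Agent.Lib.Helper61Feit4
import Cfsg.Agent.S0738
import Mathlib

set_option autoImplicit false
open Cfsg

namespace Cfsg.Agent.S1167

open Cfsg.Agent.Helper16Feit Cfsg.Agent.Lib.Helper61Feit Cfsg.Agent.Lib.Helper61Feit2
  Cfsg.Agent.Lib.Helper61Feit3 Cfsg.Agent.Lib.Helper61Feit4

/-- Let `G` be a finite simple Zassenhaus group on `Ω`, `U` a normal subgroup of `G_a` regular on `Ω` minus `a` which is an abelian 2-group, and `v` an involution with `v • a ≠ a`. Then there is a unique `u₀ ∈ U`, `u₀ ≠ 1`, with `v u₀ v = u₀ v u₀`. -/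
theorem result {G Ω : Type*} [Group G] [Finite G] [MulAction G Ω] [Finite Ω]
    (hZ : Cfsg.IsZassenhausGroup G Ω) [IsSimpleGroup G] {a : Ω}
    (U : Subgroup G) (hUle : U ≤ MulAction.stabilizer G a)
    (hUn : ∀ h ∈ MulAction.stabilizer G a, ∀ u ∈ U, h * u * h⁻¹ ∈ U)
    (hreg : ∀ c d : Ω, c ≠ a → d ≠ a → ∃! u : U, (u : G) • c = d)
    (hU2 : IsPGroup 2 U) (hUab : ∀ u ∈ U, ∀ u' ∈ U, u * u' = u' * u)
    (v : G) (hv1 : v ≠ 1) (hv2 : v * v = 1) (hva : v • a ≠ a) :
    ∃! u₀ : G, u₀ ∈ U ∧ u₀ ≠ 1 ∧ v * u₀ * v = u₀ * v * u₀ := by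
  classical
  letI : Fintype Ω := Fintype.ofFinite Ω
  obtain ⟨b, hb⟩ : ∃ b, b = v • a := ⟨_, rfl⟩
  have hba : b ≠ a := hb ▸ hva
  have hab : a ≠ b := hba.symm
  have hvb : v • b = a := by rw [hb, ← mul_smul, hv2, one_smul]
  have hva' : v • a = b := hb.symm
  obtain ⟨h, hh⟩ : ∃ h, Nat.card Ω = h + 1 := ⟨Nat.card Ω - 1, by
    have : 0 < Nat.card Ω := Nat.card_pos_iff.2 ⟨⟨a⟩, inferInstance⟩
    omega⟩
  have D := tdata_of_zass hZ hh
  have K : KData G Ω a h U := by
    refine ⟨hUle, ?_, ?_⟩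
    · have hfix : ∀ u : U, (u : G) • b ≠ a := by
        intro u hu
        exact hba (smul_left_cancel (u : G) (hu.trans (hUle u.2).symm))
      have hbij : Function.Bijective (fun u : U => (⟨(u : G) • b, hfix u⟩ : {z : Ω // z ≠ a})) := by
        constructor
        · intro u w huw
          have h1 : (u : G) • b = (w : G) • b := congrArg Subtype.val huw
          exact (hreg b ((w : G) • b) hba (hfix w)).unique h1 rfl
        · rintro ⟨z, hz⟩
          obtain ⟨u, hu, -⟩ := hreg b z hba hz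
          exact ⟨u, Subtype.ext hu⟩
      rw [Nat.card_congr (Equiv.ofBijective _ hbij), Nat.card_eq_fintype_card,
        Fintype.card_subtype_compl, Fintype.card_subtype_eq, ← Nat.card_eq_fintype_card, hh]
      rfl
    · intro u hu hu1 c hc
      by_contra hca
      apply hu1
      have h1 := (hreg c c hca hca).unique (y₁ := (⟨u, hu⟩ : U)) (y₂ := 1) hc (one_smul _ _)
      exact congrArg Subtype.val h1
  have he2 := two_le_card_stab2 hZ hh hab
  have hh2 := two_le_h hZ hh
  have hdvd := dvd_sub_one D hab he2 hh2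
  obtain ⟨k, hk⟩ := hU2.exists_card_eq
  rw [K.card] at hk
  have hk0 : k ≠ 0 := by
    rintro rfl
    rw [pow_zero] at hk; omega
  have hheven : Even h := by
    rw [hk]; exact (Nat.even_pow.2 ⟨even_two, hk0⟩)
  have hodd : Odd (Nat.card (stab2 G a b)) := by
    apply Odd.of_dvd_nat _ hdvd
    obtain ⟨m, hm⟩ := hheven
    exact ⟨m - 1, by omega⟩
  have hfeit := feit_ab hh hab (Nat.card G) G hZ hodd U K hUab rfl
  have hcardΩ : Fintype.card Ω = h + 1 := by rw [← Nat.card_eq_fintype_card, hh]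
  have hUnorm : (U.subgroupOf (MulAction.stabilizer G a)).Normal := by
    constructor
    intro n hn g
    rw [Subgroup.mem_subgroupOf] at hn ⊢
    exact hUn g g.2 n hn
  obtain ⟨-, p, f, hp, hexp, -⟩ := Cfsg.Agent.S0738.result hZ hab
    (by rw [hcardΩ]; exact le_trans (by omega) hfeit) U hUle hUnorm hreg
  have hvord : orderOf v = 2 := orderOf_eq_prime (by rw [pow_two, hv2]) hv1
  obtain ⟨c, hc⟩ := invol_fix_of_even hZ hh hheven hvord
  have hca : c ≠ a := by
    rintro rfl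
    exact hva hc
  have hcb : c ≠ b := by
    rintro rfl
    exact hab (hvb.symm.trans hc)
  obtain ⟨u₀, hu₀, huniq⟩ := hreg b c hba hca
  have hu₀1 : (u₀ : G) ≠ 1 := by
    intro h1
    rw [h1, one_smul] at hu₀
    exact hcb hu₀.symm
  have hp2 : p = 2 := by
    have h1 : orderOf (u₀ : G) ∣ p := orderOf_dvd_of_pow_eq_one (hexp u₀ u₀.2)
    have h2 : orderOf (u₀ : G) = p := by
      rcases (Nat.dvd_prime hp).1 h1 with h3 | h3
      · exact absurd (orderOf_eq_one_iff.1 h3) hu₀1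
      · exact h3
    obtain ⟨j, hj⟩ := hU2 u₀
    have h3 : (u₀ : G) ^ 2 ^ j = 1 := by
      have := congrArg Subtype.val hj
      simpa using this
    have h4 : p ∣ 2 ^ j := h2 ▸ orderOf_dvd_of_pow_eq_one h3
    exact (Nat.prime_dvd_prime_iff_eq hp Nat.prime_two).1 (hp.dvd_of_dvd_pow h4)
  have hsq : (u₀ : G) * (u₀ : G) = 1 := by
    have := hexp u₀ u₀.2
    rwa [hp2, pow_two] at this
  have hu₀a : (u₀ : G) • a = a := hUle u₀.2
  have hu₀c : (u₀ : G) • c = b := by rw [← hu₀, ← mul_smul, hsq, one_smul]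
  refine ⟨u₀, ⟨u₀.2, hu₀1, ?_⟩, ?_⟩
  · have h1 : ((u₀ : G) * v * (u₀ : G))⁻¹ * (v * (u₀ : G) * v) = 1 := by
      apply D.three_point _ a b c hab hcb.symm hca.symm
      · rw [mul_smul, inv_smul_eq_iff]
        simp only [mul_smul]
        rw [hva', hu₀, hc, hu₀a, hva', hu₀]
      · rw [mul_smul, inv_smul_eq_iff]
        simp only [mul_smul]
        rw [hvb, hu₀a, hva', hu₀, hc, hu₀c]
      · rw [mul_smul, inv_smul_eq_iff]
        simp only [mul_smul]
        rw [hc, hu₀c, hvb, hu₀a]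
    exact (inv_mul_eq_one.1 h1).symm
  · rintro u ⟨huU, hu1, hu⟩
    have hua : u • a = a := hUle huU
    have h1 : v • (u • b) = u • b := by
      have := congrArg (· • a) hu
      simp only [mul_smul] at this
      rw [hva', hua, hva'] at this
      exact this
    have h2 : u • b = c := invol_not_fix_two hZ hh hab hodd hvord h1 hc
    exact congrArg Subtype.val (huniq ⟨u, huU⟩ h2)

end Cfsg.Agent.S1167
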