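import Cfsg.Statements.S1249

set_option autoImplicit false
open Cfsg

namespace Cfsg.Agent.S1249

/-- Let P and Q be Sylow p-subgroups of the finite group G both containing the subgroup A. If A is strongly closed in P, then A is strongly closed in Q. -/
theorem result {G : Type*} [Group G] [Finite G] {p : ℕ} [Fact p.Prime] (P Q : Sylow p G) (A : Subgroup G) (hAQ : A ≤ Q) (hA : Cfsg.IsStronglyClosed A (P : Subgroup G)) : Cfsg.IsStronglyClosed A (Q : Subgroup G) := by
  obtain ⟨g, hg⟩ := MulAction.exists_smul_eq G Q P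
  have hmem : ∀ x : G, x ∈ (Q : Subgroup G) ↔ g * x * g⁻¹ ∈ (P : Subgroup G) := by
    intro x
    rw [← hg, Sylow.coe_subgroup_smul, Subgroup.mem_pointwise_smul_iff_inv_smul_mem]
    simp [MulAut.smul_def, mul_assoc]
  obtain ⟨hAP, hcl⟩ := hA
  have h1 : ∀ a ∈ A, g * a * g⁻¹ ∈ A := fun a ha => hcl a ha g ((hmem a).1 (hAQ ha))
  have h2 : ∀ a ∈ A, g⁻¹ * a * g ∈ A := by
    have hinj : Function.Injective (fun a : A => (⟨g * a * g⁻¹, h1 a a.2⟩ : A)) := by
      intro a b hab
      simp only [Subtype.mk.injEq] at hab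
      ext
      simpa using hab
    have hsurj := Finite.surjective_of_injective hinj
    intro a ha
    obtain ⟨b, hb⟩ := hsurj ⟨a, ha⟩
    simp only [Subtype.mk.injEq] at hb
    rw [← hb]
    simp [mul_assoc]
  refine ⟨hAQ, fun x hx h hxQ => ?_⟩
  have h3 : (g * h) * x * (g * h)⁻¹ ∈ A := by
    apply hcl x hx
    have := (hmem _).1 hxQ
    simpa [mul_assoc] using this
  have := h2 _ h3
  simpa [mul_assoc] using this

end Cfsg.Agent.S1249
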