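import Cfsg.Statements.S1250
import Cfsg.Agent.Lib.Helper40Sylow
import Mathlib

set_option autoImplicit false
open Cfsg

namespace Cfsg.Agent.S1250

/-- Let S be a Sylow p-subgroup of the finite group G, A ≤ S strongly closed in S, and N a normal subgroup. Then the image of A in G ⧸ N is strongly closed in the image of S (which is a Sylow p-subgroup of G ⧸ N). -/
theorem result {G : Type*} [Group G] [Finite G] {p : ℕ} [Fact p.Prime] (S : Sylow p G) (A : Subgroup G) (hA : Cfsg.IsStronglyClosed A (S : Subgroup G)) (N : Subgroup G) [N.Normal] : Cfsg.IsStronglyClosed (A.map (QuotientGroup.mk' N)) ((S : Subgroup G).map (QuotientGroup.mk' N)) := by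
  open Cfsg.Agent.Lib.Helper40Sylow in
  refine ⟨Subgroup.map_mono hA.1, ?_⟩
  rintro _ ⟨a, ha, rfl⟩ gbar hg
  obtain ⟨g, rfl⟩ := QuotientGroup.mk'_surjective N gbar
  have hy : g * a * g⁻¹ ∈ (S : Subgroup G) ⊔ N := by
    have h1 : g * a * g⁻¹ ∈ ((S : Subgroup G).map (QuotientGroup.mk' N)).comap (QuotientGroup.mk' N) := by
      rw [Subgroup.mem_comap]
      simpa using hg
    rwa [Subgroup.comap_map_eq, QuotientGroup.ker_mk'] at h1
  have hSyl : IsSylowIn p (S : Subgroup G) ((S : Subgroup G) ⊔ N) := isSylowIn_of_le S le_sup_left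
  have hQ : IsPGroup p (Subgroup.zpowers (g * a * g⁻¹)) := by
    have h1 : IsPGroup p (Subgroup.zpowers a) := S.2.to_le (Subgroup.zpowers_le.mpr (hA.1 ha))
    have h2 : Subgroup.zpowers (g * a * g⁻¹) = cj g (Subgroup.zpowers a) := by
      rw [cj, MonoidHom.map_zpowers]
      simp [MulAut.conj_apply]
    rw [h2]
    exact isPGroup_cj h1 g
  obtain ⟨h, hh, hle⟩ := hSyl.exists_conj_le hQ (Subgroup.zpowers_le.mpr hy)
  have hh' : h ∈ (((S : Subgroup G) ⊔ N : Subgroup G) : Set G) := hh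
  rw [Subgroup.mul_normal] at hh'
  obtain ⟨s, hs, n, hn, rfl⟩ := hh'
  have h3 : (s * n) * (g * a * g⁻¹) * (s * n)⁻¹ ∈ (S : Subgroup G) :=
    hle (conj_mem_cj (Subgroup.mem_zpowers _))
  have h4 : (n * g) * a * (n * g)⁻¹ ∈ (S : Subgroup G) := by
    have h5 : (n * g) * a * (n * g)⁻¹ = s⁻¹ * ((s * n) * (g * a * g⁻¹) * (s * n)⁻¹) * s := by group
    rw [h5]
    exact mul_mem (mul_mem (inv_mem hs) h3) hs
  have h6 := hA.2 a ha (n * g) h4
  refine ⟨_, h6, ?_⟩
  have hn1 : QuotientGroup.mk' N n = 1 := (QuotientGroup.eq_one_iff n).mpr hn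
  simp only [map_mul, map_inv, hn1, one_mul]

end Cfsg.Agent.S1250
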