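import Cfsg.Statements.S1251
import Cfsg.Agent.Lib.Helper92ZStar

set_option autoImplicit false
open Cfsg

namespace Cfsg.Agent.S1251

open scoped Pointwise

theorem pPrimeCore_eq_bot_of_equiv {K H : Type*} [Group K] [Group H] [Finite K] (e : K ≃* H)
    (h : Cfsg.pPrimeCore 2 H = ⊥) : Cfsg.pPrimeCore 2 K = ⊥ := by
  have hn : (Cfsg.pPrimeCore 2 K).Normal := inferInstance
  have h1 : ((Cfsg.pPrimeCore 2 K).map e.toMonoidHom).Normal :=
    hn.map e.toMonoidHom e.surjective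
  have h2 : (Nat.card ((Cfsg.pPrimeCore 2 K).map e.toMonoidHom)).Coprime 2 := by
    rw [Subgroup.card_map_of_injective e.injective]
    exact Cfsg.Agent.Lib.Helper14CoreB.card_pPrimeCore_coprime 2
  have h3 := Cfsg.Agent.Lib.Helper14CoreB.le_pPrimeCore h1 h2
  rw [h, le_bot_iff] at h3
  exact (Subgroup.map_eq_bot_iff_of_injective _ e.injective).mp h3

/-- abstract core of the argument -/
theorem abstract_core {X : Type*} [Group X] [Finite X] (H : Subgroup X) [hHn : H.Normal] (a : X)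
    (hgen : ∀ x : X, ∃ h ∈ H, ∃ i : ℤ, x = h * a ^ i)
    (hcen : ∀ x : X, x * (a * a) = (a * a) * x)
    (hdisj : Subgroup.zpowers (a * a) ⊓ H = ⊥)
    (k : ℕ) (hk : a ^ 2 ^ k = 1) (hO : Cfsg.oddCore ↥H = ⊥)
    (hstar : ∀ h ∈ H, ∀ D : Subgroup X, IsPGroup 2 D → a ∈ D → h * a * h⁻¹ ∈ D → h * a * h⁻¹ = a) :
    ∀ h ∈ H, a * h = h * a := by
  classical
  have : Fact (Nat.Prime 2) := ⟨Nat.prime_two⟩
  by_cases ha1 : a = 1
  · intro h _; rw [ha1, one_mul, mul_one]
  have hNn : (Subgroup.zpowers (a * a)).Normal := by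
    constructor
    intro n hn g
    obtain ⟨j, rfl⟩ := Subgroup.mem_zpowers_iff.mp hn
    have : g * (a * a) ^ j * g⁻¹ = (a * a) ^ j := by
      rw [← conj_zpow, hcen g, mul_inv_cancel_right]
    rw [this]; exact Subgroup.zpow_mem _ (Subgroup.mem_zpowers _) j
  set π := QuotientGroup.mk' (Subgroup.zpowers (a * a)) with hπ
  have hker : π.ker = Subgroup.zpowers (a * a) := QuotientGroup.ker_mk' _
  have hπa2 : π a * π a = 1 := by
    rw [← map_mul, ← MonoidHom.mem_ker, hker]; exact Subgroup.mem_zpowers _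
  have hπa1 : π a ≠ 1 := by
    intro h
    rw [← MonoidHom.mem_ker, hker] at h
    obtain ⟨j, hj⟩ := Subgroup.mem_zpowers_iff.mp h
    have h1 : a ^ (2 * j - 1) = 1 := by
      have : (a * a) ^ j = a ^ (2 * j) := by rw [← pow_two, zpow_mul, zpow_two, pow_two]
      rw [zpow_sub, ← this, hj, zpow_one, mul_inv_cancel]
    have h2 : (orderOf a : ℤ) ∣ 2 * j - 1 := orderOf_dvd_iff_zpow_eq_one.mpr h1
    obtain ⟨m, hm, hm2⟩ := (Nat.dvd_prime_pow Nat.prime_two).mp (orderOf_dvd_of_pow_eq_one hk)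
    rcases m with _ | m
    · rw [pow_zero, orderOf_eq_one_iff] at hm2; exact ha1 hm2
    · rw [hm2, pow_succ] at h2
      have h3 : (2 : ℤ) ∣ 2 * j - 1 := Dvd.dvd.trans ⟨2 ^ m, by push_cast; ring⟩ h2
      omega
  have hord : orderOf (π a) = 2 := orderOf_eq_prime (by rw [pow_two]; exact hπa2) hπa1
  have hNp : IsPGroup 2 π.ker := by
    rw [hker]
    have h1 : (a * a) ^ 2 ^ k = 1 := by rw [(Commute.refl a).mul_pow, hk, one_mul]
    obtain ⟨m, -, hm2⟩ := (Nat.dvd_prime_pow Nat.prime_two).mp (orderOf_dvd_of_pow_eq_one h1)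
    exact IsPGroup.of_card (n := m) (by rw [Nat.card_zpowers, hm2])
  have hiso : Cfsg.IsIsolatedInvolution (π a) := by
    refine ⟨hord, ?_⟩
    intro g hg
    obtain ⟨x, rfl⟩ := QuotientGroup.mk'_surjective _ g
    obtain ⟨h, hh, i, rfl⟩ := hgen x
    have e1 : (h * a ^ i) * a * (h * a ^ i)⁻¹ = h * a * h⁻¹ := by
      rw [mul_inv_rev]
      calc h * a ^ i * a * ((a ^ i)⁻¹ * h⁻¹) = h * (a ^ i * a * (a ^ i)⁻¹) * h⁻¹ := by group
        _ = h * a * h⁻¹ := by
          rw [((Commute.refl a).zpow_left i).eq, mul_inv_cancel_right]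
    have e2 : π (h * a ^ i) * π a * (π (h * a ^ i))⁻¹ = π (h * a * h⁻¹) := by
      rw [← map_inv, ← map_mul, ← map_mul, e1]
    rw [← hπ] at hg ⊢
    rw [e2] at hg ⊢
    have hord2 : orderOf (π (h * a * h⁻¹)) = 2 := by
      rw [map_mul, map_mul, map_inv, Cfsg.Agent.Lib.Helper25Isolated.orderOf_conj]; exact hord
    have hp1 : IsPGroup 2 (Subgroup.zpowers (π a)) :=
      IsPGroup.of_card (n := 1) (by rw [Nat.card_zpowers, hord, pow_one])
    have hp2 : IsPGroup 2 (Subgroup.zpowers (π (h * a * h⁻¹))) :=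
      IsPGroup.of_card (n := 1) (by rw [Nat.card_zpowers, hord2, pow_one])
    have hle : Subgroup.zpowers (π a) ≤
        Subgroup.normalizer (Subgroup.zpowers (π (h * a * h⁻¹)) : Set _) := by
      refine le_trans ?_ (Subgroup.centralizer_le_normalizer _)
      rw [Subgroup.zpowers_le, Subgroup.mem_centralizer_iff]
      intro y hy
      obtain ⟨j, rfl⟩ := Subgroup.mem_zpowers_iff.mp hy
      exact ((hg.zpow_right j).eq).symm
    have hsup := IsPGroup.to_sup_of_normal_right' hp1 hp2 hle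
    have hD := hsup.comap_of_ker_isPGroup π hNp
    have := hstar h hh _ hD
      (Subgroup.mem_comap.mpr (Subgroup.mem_sup_left (Subgroup.mem_zpowers _)))
      (Subgroup.mem_comap.mpr (Subgroup.mem_sup_right (Subgroup.mem_zpowers _)))
    rw [this]
  have hZ := fun g => Cfsg.Agent.Lib.Helper92ZStar.zstar hiso g
  set φ : H →* (X ⧸ Subgroup.zpowers (a * a)) := π.comp H.subtype with hφ
  have hφinj : Function.Injective φ := by
    rw [injective_iff_map_eq_one]
    intro x hx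
    have h1 : (x : X) ∈ π.ker := hx
    rw [hker] at h1
    have h2 : (x : X) ∈ Subgroup.zpowers (a * a) ⊓ H := ⟨h1, x.2⟩
    rw [hdisj, Subgroup.mem_bot] at h2
    exact Subtype.ext h2
  have hOn : (Cfsg.oddCore (X ⧸ Subgroup.zpowers (a * a))).Normal := inferInstance
  have hMn : ((Cfsg.oddCore (X ⧸ Subgroup.zpowers (a * a))).comap φ).Normal := hOn.comap φ
  have hMc : (Nat.card ((Cfsg.oddCore (X ⧸ Subgroup.zpowers (a * a))).comap φ)).Coprime 2 :=
    Nat.Coprime.coprime_dvd_left (Subgroup.card_comap_dvd_of_injective _ φ hφinj)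
      (Cfsg.Agent.Lib.Helper14CoreB.card_pPrimeCore_coprime 2)
  have hM := Cfsg.Agent.Lib.Helper14CoreB.le_pPrimeCore hMn hMc
  rw [show Cfsg.pPrimeCore 2 ↥H = ⊥ from hO, le_bot_iff] at hM
  intro h hh
  have hc : a * h * a⁻¹ * h⁻¹ ∈ H := H.mul_mem (hHn.conj_mem h hh a) (H.inv_mem hh)
  have h1 : (⟨a * h * a⁻¹ * h⁻¹, hc⟩ : H) ∈
      (Cfsg.oddCore (X ⧸ Subgroup.zpowers (a * a))).comap φ := by
    rw [Subgroup.mem_comap]
    have := hZ (π h)
    rw [← map_inv, ← map_inv, ← map_mul, ← map_mul, ← map_mul] at this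
    exact this
  rw [hM, Subgroup.mem_bot] at h1
  have h2 : a * h * a⁻¹ * h⁻¹ = 1 := congrArg Subtype.val h1
  have h3 := mul_inv_eq_one.mp h2
  exact mul_inv_eq_iff_eq_mul.mp h3

theorem mem_smul_sylow {G : Type*} [Group G] {p : ℕ} (g : G) (S : Sylow p G) (s : G) :
    s ∈ g • S ↔ g⁻¹ * s * g ∈ S := by
  have h1 : s ∈ g • S ↔ s ∈ ((g • S : Sylow p G) : Subgroup G) := Iff.rfl
  rw [h1, Sylow.coe_subgroup_smul, Subgroup.mem_pointwise_smul_iff_inv_smul_mem]
  have h2 : (MulAut.conj g)⁻¹ • s = g⁻¹ * s * g := by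
    simp [MulAut.smul_def]
  rw [h2]
  rfl

theorem sc_of_le {G : Type*} [Group G] [Finite G] (S : Sylow 2 G) (A : Subgroup G)
    (hA : Cfsg.IsStronglyClosed A (S : Subgroup G)) (S' : Sylow 2 G) (hAS' : A ≤ S') :
    ∀ y ∈ A, ∀ k : G, k * y * k⁻¹ ∈ S' → k * y * k⁻¹ ∈ A := by
  have : Fact (Nat.Prime 2) := ⟨Nat.prime_two⟩
  obtain ⟨g, hg⟩ := MulAction.exists_smul_eq G S S'
  have hmem : ∀ s, s ∈ S' ↔ g⁻¹ * s * g ∈ S := by
    intro s; rw [← hg]; exact mem_smul_sylow g S s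
  have conjA : ∀ b ∈ A, g⁻¹ * b * g ∈ A := by
    intro b hb
    have h1 := hA.2 b hb g⁻¹ (by rw [inv_inv]; exact (hmem b).mp (hAS' hb))
    rwa [inv_inv] at h1
  let f : A → A := fun b => ⟨g⁻¹ * b * g, conjA b b.2⟩
  have hinj : Function.Injective f := by
    intro b c hbc
    have := congrArg Subtype.val hbc
    simp only [f, mul_left_inj, mul_right_inj] at this
    exact Subtype.ext this
  have hsurj := Finite.surjective_of_injective hinj
  intro y hy k hk
  have h1 : (g⁻¹ * k) * y * (g⁻¹ * k)⁻¹ ∈ A := by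
    apply hA.2 y hy
    have h2 := (hmem _).mp hk
    have e : (g⁻¹ * k) * y * (g⁻¹ * k)⁻¹ = g⁻¹ * (k * y * k⁻¹) * g := by group
    rw [e]; exact h2
  obtain ⟨b, hb⟩ := hsurj ⟨_, h1⟩
  have h3 : g⁻¹ * (b : G) * g = (g⁻¹ * k) * y * (g⁻¹ * k)⁻¹ := congrArg Subtype.val hb
  have e : (g⁻¹ * k) * y * (g⁻¹ * k)⁻¹ = g⁻¹ * (k * y * k⁻¹) * g := by group
  rw [e] at h3
  simp only [mul_left_inj, mul_right_inj] at h3
  rw [← h3]; exact b.2

theorem star {G : Type*} [Group G] [Finite G] (S : Sylow 2 G) (A : Subgroup G)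
    (hA : Cfsg.IsStronglyClosed A (S : Subgroup G)) (H : Subgroup G)
    (hAH : A ≤ Subgroup.normalizer (H : Set G)) (hdisj : A ⊓ H = ⊥)
    (a : G) (ha : a ∈ A) (h : G) (hh : h ∈ H) (D : Subgroup G) (hD : IsPGroup 2 D)
    (hDX : D ≤ H ⊔ A) (haD : a ∈ D) (hbD : h * a * h⁻¹ ∈ D) : h * a * h⁻¹ = a := by
  have : Fact (Nat.Prime 2) := ⟨Nat.prime_two⟩
  have hA2 : IsPGroup 2 A := S.2.to_le hA.1
  obtain ⟨T, hT⟩ := (hA2.comap_of_injective (H ⊔ A).subtype
    (H ⊔ A).subtype_injective).exists_le_sylow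
  obtain ⟨T', hT'⟩ := (hD.comap_of_injective (H ⊔ A).subtype
    (H ⊔ A).subtype_injective).exists_le_sylow
  obtain ⟨x, hx⟩ := MulAction.exists_smul_eq ↥(H ⊔ A) T' T
  have hconj : ∀ d : ↥(H ⊔ A), d ∈ T' → x * d * x⁻¹ ∈ T := by
    intro d hd
    rw [← hx, mem_smul_sylow]
    have : x⁻¹ * (x * d * x⁻¹) * x = d := by group
    rw [this]; exact hd
  obtain ⟨S', hS'⟩ := (T.2.map (H ⊔ A).subtype).exists_le_sylow
  have hAS' : A ≤ S' := fun b hb => hS' ⟨⟨b, (le_sup_right : A ≤ H ⊔ A) hb⟩, hT hb, rfl⟩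
  have sc := sc_of_le S A hA S' hAS'
  have a1 : (x : G) * a * (x : G)⁻¹ ∈ A :=
    sc a ha x (hS' ⟨x * ⟨a, hDX haD⟩ * x⁻¹, hconj _ (hT' haD), rfl⟩)
  have a2 : (x : G) * (h * a * h⁻¹) * (x : G)⁻¹ ∈ A := by
    have e : (x : G) * (h * a * h⁻¹) * (x : G)⁻¹ = ((x : G) * h) * a * ((x : G) * h)⁻¹ := by group
    rw [e]
    apply sc a ha
    rw [← e]
    exact hS' ⟨x * ⟨h * a * h⁻¹, hDX hbD⟩ * x⁻¹, hconj _ (hT' hbD), rfl⟩
  have hXN : H ⊔ A ≤ Subgroup.normalizer (H : Set G) := sup_le Subgroup.le_normalizer hAH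
  have hc0 : h * a * h⁻¹ * a⁻¹ ∈ H := by
    have h1 : a * h⁻¹ * a⁻¹ ∈ H := (Subgroup.mem_normalizer_iff.mp (hAH ha) h⁻¹).mp (H.inv_mem hh)
    have e : h * a * h⁻¹ * a⁻¹ = h * (a * h⁻¹ * a⁻¹) := by group
    rw [e]; exact H.mul_mem hh h1
  have hc1 : (x : G) * (h * a * h⁻¹ * a⁻¹) * (x : G)⁻¹ ∈ H :=
    (Subgroup.mem_normalizer_iff.mp (hXN x.2) _).mp hc0
  have hc2 : (x : G) * (h * a * h⁻¹ * a⁻¹) * (x : G)⁻¹ ∈ A := by
    have e : (x : G) * (h * a * h⁻¹ * a⁻¹) * (x : G)⁻¹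
        = ((x : G) * (h * a * h⁻¹) * (x : G)⁻¹) * ((x : G) * a * (x : G)⁻¹)⁻¹ := by group
    rw [e]; exact A.mul_mem a2 (A.inv_mem a1)
  have hc3 : (x : G) * (h * a * h⁻¹ * a⁻¹) * (x : G)⁻¹ ∈ A ⊓ H := ⟨hc2, hc1⟩
  rw [hdisj, Subgroup.mem_bot] at hc3
  have hc4 := conj_eq_one_iff.mp hc3
  exact mul_inv_eq_one.mp hc4

/-- Let S be a Sylow 2-subgroup of the finite group G and A ≤ S strongly closed in S. If H is a subgroup normalized by A with no nontrivial normal subgroup of odd order and A ∩ H = 1, then A ≤ C_G(H). -/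
theorem result {G : Type*} [Group G] [Finite G] (S : Sylow 2 G) (A : Subgroup G) (hA : Cfsg.IsStronglyClosed A (S : Subgroup G)) (H : Subgroup G) (hAH : A ≤ Subgroup.normalizer (H : Set G)) (hO : Cfsg.oddCore ↥H = ⊥) (hdisj : A ⊓ H = ⊥) : A ≤ Subgroup.centralizer (H : Set G) := by
  have : Fact (Nat.Prime 2) := ⟨Nat.prime_two⟩
  have hA2 : IsPGroup 2 A := S.2.to_le hA.1
  have key : ∀ k : ℕ, ∀ a ∈ A, a ^ 2 ^ k = 1 → a ∈ Subgroup.centralizer (H : Set G) := by
    intro k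
    induction k with
    | zero =>
      intro a _ h
      rw [pow_zero, pow_one] at h
      rw [h]; exact Subgroup.one_mem _
    | succ k ih =>
      intro a ha hk
      have ha2 : a * a ∈ Subgroup.centralizer (H : Set G) :=
        ih (a * a) (A.mul_mem ha ha) (by rw [← pow_two, ← pow_mul, ← pow_succ']; exact hk)
      have hzN : Subgroup.zpowers a ≤ Subgroup.normalizer (H : Set G) :=
        Subgroup.zpowers_le.mpr (hAH ha)
      have hXaN : H ⊔ Subgroup.zpowers a ≤ Subgroup.normalizer (H : Set G) :=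
        sup_le Subgroup.le_normalizer hzN
      have haX : a ∈ H ⊔ Subgroup.zpowers a := Subgroup.mem_sup_right (Subgroup.mem_zpowers a)
      have hHn : (H.subgroupOf (H ⊔ Subgroup.zpowers a)).Normal :=
        Subgroup.normal_subgroupOf_of_le_normalizer hXaN
      have hcenG : H ⊔ Subgroup.zpowers a ≤ Subgroup.centralizer ({a * a} : Set G) := by
        apply sup_le
        · intro h hh
          rw [Subgroup.mem_centralizer_singleton_iff]
          exact Subgroup.mem_centralizer_iff.mp ha2 h hh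
        · rw [Subgroup.zpowers_le, Subgroup.mem_centralizer_singleton_iff, mul_assoc]
      have res := abstract_core (H.subgroupOf (H ⊔ Subgroup.zpowers a)) ⟨a, haX⟩
        (by
          intro x
          have hx : (x : G) ∈ ((H ⊔ Subgroup.zpowers a : Subgroup G) : Set G) := x.2
          rw [Subgroup.coe_mul_of_right_le_normalizer_left H _ hzN] at hx
          obtain ⟨h, hh, y, hy, hxy⟩ := Set.mem_mul.mp hx
          obtain ⟨i, rfl⟩ := Subgroup.mem_zpowers_iff.mp hy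
          refine ⟨⟨h, Subgroup.mem_sup_left hh⟩, hh, i, ?_⟩
          apply Subtype.ext
          simp only [Subgroup.coe_mul, Subgroup.coe_zpow]
          exact hxy.symm)
        (by
          intro x
          apply Subtype.ext
          exact Subgroup.mem_centralizer_singleton_iff.mp (hcenG x.2))
        (by
          rw [eq_bot_iff]
          intro y hy
          obtain ⟨j, hj⟩ := Subgroup.mem_zpowers_iff.mp hy.1
          have h1 : (y : G) ∈ A := by
            rw [← hj]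
            simp only [Subgroup.coe_zpow, Subgroup.coe_mul]
            exact A.zpow_mem (A.mul_mem ha ha) j
          have h2 : (y : G) ∈ A ⊓ H := ⟨h1, hy.2⟩
          rw [hdisj, Subgroup.mem_bot] at h2
          rw [Subgroup.mem_bot]
          exact Subtype.ext h2)
        (k + 1) (Subtype.ext (by simpa using hk))
        (pPrimeCore_eq_bot_of_equiv (Subgroup.subgroupOfEquivOfLe le_sup_left) hO)
        (by
          intro h hh D hD haD hbD
          apply Subtype.ext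
          exact star S A hA H hAH hdisj a ha h hh (D.map (H ⊔ Subgroup.zpowers a).subtype)
            (hD.map _) (le_trans (Subgroup.map_subtype_le _)
              (sup_le_sup_left (Subgroup.zpowers_le.mpr ha) H))
            ⟨_, haD, rfl⟩ ⟨_, hbD, rfl⟩)
      rw [Subgroup.mem_centralizer_iff]
      intro h hh
      have := res ⟨h, Subgroup.mem_sup_left hh⟩ hh
      exact (congrArg Subtype.val this).symm
  intro a ha
  obtain ⟨k, hk⟩ := hA2 ⟨a, ha⟩
  exact key k a ha (by simpa using congrArg Subtype.val hk)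

end Cfsg.Agent.S1251
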