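import Cfsg.Statements.S1323
-- import your own Cfsg.Agent.* helpers here
import Cfsg.Agent.Lib.H28StdCent
import Cfsg.Agent.Lib.H28StdQS
import Cfsg.Agent.Lib.H28StdTight
import Cfsg.Agent.Lib.H28StdComm

set_option autoImplicit false
open Cfsg

namespace Cfsg.Agent.S1323

open Cfsg.Agent.Lib.H28StdDefs

/-- For n ≥ 9, the subgroup of the alternating group on Fin n fixing each of the points 0, 1, 2, 3 is a standard subgroup. -/
theorem result (n : ℕ) (h4 : 4 ≤ n) (hn : 9 ≤ n) : Cfsg.IsStandardSubgroup (⨅ i : Fin 4, MulAction.stabilizer ↥(alternatingGroup (Fin n)) (Fin.castLE h4 i : Fin n)) := by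
  classical
  set Δ : Set (Fin n) := Set.range (Fin.castLE h4 : Fin 4 → Fin n) with hΔ
  have hL : (⨅ i : Fin 4, MulAction.stabilizer ↥(alternatingGroup (Fin n)) (Fin.castLE h4 i : Fin n)) = Fx Δ := by
    ext g
    rw [Subgroup.mem_iInf, mem_Fx]
    constructor
    · rintro h _ ⟨i, rfl⟩
      exact MulAction.mem_stabilizer_iff.mp (h i)
    · intro h i
      exact MulAction.mem_stabilizer_iff.mpr (h _ ⟨i, rfl⟩)
  have hc4 : Δ.ncard = 4 := by
    rw [hΔ, ← Set.image_univ, Set.ncard_image_of_injective _ (Fin.castLE_injective h4), Set.ncard_univ]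
    simp
  have hcc : (Δᶜ).ncard = n - 4 := by
    have := Set.ncard_add_ncard_compl Δ
    rw [hc4, Nat.card_eq_fintype_card, Fintype.card_fin] at this
    omega
  have hccc : (Δᶜᶜ).ncard = 4 := by rw [compl_compl, hc4]
  have hcent := Cfsg.Agent.Lib.H28StdCent.centralizer_Fx (Δ := Δ) (by omega)
  rw [hL]
  refine ⟨Cfsg.Agent.Lib.H28StdQS.quasisimple (by omega), ?_, ?_, ?_⟩
  · rw [hcent]
    exact Cfsg.Agent.Lib.H28StdTight.tight hc4
  · intro g hg
    rw [Cfsg.Agent.Lib.H28StdConj.conj_Fx] at hg ⊢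
    apply Cfsg.Agent.Lib.H28StdComm.noncomm hn hc4
    · rw [Set.ncard_image_of_injective _ (g : Equiv.Perm (Fin n)).injective, hc4]
    · intro h
      apply hg
      rw [← h]
  · rw [hcent]
    ext g
    rw [Cfsg.Agent.Lib.H28StdLe.normalizer_Fx (by omega), Cfsg.Agent.Lib.H28StdLe.normalizer_Fx (by omega),
      Set.image_compl_eq (g : Equiv.Perm (Fin n)).bijective, compl_inj_iff]

end Cfsg.Agent.S1323
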