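import Cfsg.Statements.S1339
import Cfsg.Agent.Lib.Helper27Balance
-- import your own Cfsg.Agent.* helpers here

set_option autoImplicit false
open Cfsg

namespace Cfsg.Agent.S1339

open Matrix

section prep

variable {F : Type*} [Field F] {n : ℕ}

lemma comm_facts (X : Matrix (Fin n) (Fin n) F) (i l : Fin n)
    (h : X * (1 + single i l 1) = (1 + single i l 1) * X) :
    (∀ k, X k i = if k = i then X l l else 0) ∧ (∀ m, X l m = if m = l then X i i else 0) := by
  have h1 : X * single i l 1 = single i l 1 * X := by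
    rw [mul_add, add_mul, mul_one, one_mul] at h
    exact add_left_cancel h
  constructor
  · intro k
    have := congrFun (congrFun h1 k) l
    rw [mul_single_apply_same, mul_one] at this
    rw [this]
    by_cases hk : k = i
    · subst hk
      rw [single_mul_apply_same, one_mul, if_pos rfl]
    · rw [single_mul_apply_of_ne _ _ _ _ _ hk, if_neg hk]
  · intro m
    have := congrFun (congrFun h1 i) m
    rw [single_mul_apply_same, one_mul] at this
    rw [← this]
    by_cases hm : m = l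
    · subst hm
      rw [mul_single_apply_same, mul_one, if_pos rfl]
    · rw [mul_single_apply_of_ne _ _ _ _ _ hm, if_neg hm]

variable [Fintype F]

lemma zero_or_one (hF : Fintype.card F = 2) (a : F) : a = 0 ∨ a = 1 := by
  have h := FiniteField.pow_card a
  rw [hF] at h
  have : a * (a - 1) = 0 := by linear_combination h
  rcases mul_eq_zero.1 this with h1 | h1
  · exact Or.inl h1
  · exact Or.inr (sub_eq_zero.1 h1)

lemma add_self (hF : Fintype.card F = 2) (a : F) : a + a = 0 := by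
  have h2 : (1 : F) + 1 = 0 := by
    rcases zero_or_one hF (1 + 1) with h | h
    · exact h
    · exfalso
      have : (1 : F) = 0 := by linear_combination h
      exact one_ne_zero this
  linear_combination a * h2

/-- elements commuting with `1 + E_il` fix `e_i` and the `l`-th coordinate -/
lemma fix_facts (hF : Fintype.card F = 2) (x : SpecialLinearGroup (Fin n) F) (i l : Fin n)
    (h : x.1 * (1 + single i l 1) = (1 + single i l 1) * x.1) :
    x.1 *ᵥ Pi.single i 1 = Pi.single i 1 ∧ ∀ v, (x.1 *ᵥ v) l = v l := by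
  obtain ⟨h1, h2⟩ := comm_facts x.1 i l h
  have hne : x.1 l l ≠ 0 := by
    intro h0
    have h4 : ((x⁻¹ : SpecialLinearGroup (Fin n) F) : Matrix (Fin n) (Fin n) F) *
        (x : Matrix (Fin n) (Fin n) F) = 1 := by
      rw [← Matrix.SpecialLinearGroup.coe_mul, inv_mul_cancel, Matrix.SpecialLinearGroup.coe_one]
    have h3 := congrFun (congrFun h4 i) i
    rw [mul_apply, one_apply_eq] at h3
    have : ∀ k, ((x⁻¹ : SpecialLinearGroup (Fin n) F) : Matrix (Fin n) (Fin n) F) i k *
        (x : Matrix (Fin n) (Fin n) F) k i = 0 := by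
      intro k
      rw [h1 k, h0]
      simp
    rw [Finset.sum_eq_zero (fun k _ => this k)] at h3
    exact zero_ne_one h3
  have hll : x.1 l l = 1 := (zero_or_one hF _).resolve_left hne
  have hii : x.1 i i = 1 := by
    rw [h1 i, if_pos rfl, hll]
  constructor
  · funext k
    rw [mulVec_single_one, col_apply, h1 k, hll, Pi.single_apply]
  · intro v
    rw [mulVec, dotProduct, Finset.sum_eq_single l]
    · rw [h2 l, if_pos rfl, hii, one_mul]
    · intro m _ hm
      rw [h2 m, if_neg hm, zero_mul]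
    · intro hm
      exact absurd (Finset.mem_univ l) hm

end prep

section main

variable {F : Type*} [Field F] [Fintype F] {n : ℕ}

omit [Fintype F] in
lemma coe_mul_mulVec (x y : Matrix.SpecialLinearGroup (Fin n) F) (v : Fin n → F) :
    ((x * y : Matrix.SpecialLinearGroup (Fin n) F) : Matrix (Fin n) (Fin n) F) *ᵥ v =
      (x : Matrix (Fin n) (Fin n) F) *ᵥ ((y : Matrix (Fin n) (Fin n) F) *ᵥ v) := by
  rw [Matrix.SpecialLinearGroup.coe_mul, Matrix.mulVec_mulVec]

omit [Fintype F] in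
lemma inv_mulVec (x : Matrix.SpecialLinearGroup (Fin n) F) (v : Fin n → F) :
    ((x⁻¹ : Matrix.SpecialLinearGroup (Fin n) F) : Matrix (Fin n) (Fin n) F) *ᵥ
      ((x : Matrix (Fin n) (Fin n) F) *ᵥ v) = v := by
  rw [← coe_mul_mulVec, inv_mul_cancel, Matrix.SpecialLinearGroup.coe_one, Matrix.one_mulVec]

/-- `x` fixes `e_i` and the `j`-th coordinate -/
def Good (i j : Fin n) (x : Matrix.SpecialLinearGroup (Fin n) F) : Prop :=
  (x : Matrix (Fin n) (Fin n) F) *ᵥ Pi.single i 1 = Pi.single i 1 ∧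
    ∀ v, ((x : Matrix (Fin n) (Fin n) F) *ᵥ v) j = v j

omit [Fintype F] in
/-- the unipotent radical -/
def QQ (i j : Fin n) (C : Subgroup (Matrix.SpecialLinearGroup (Fin n) F))
    (hC : ∀ x ∈ C, Good i j x) : Subgroup ↥C where
  carrier := {x | ∀ v : Fin n → F, v j = 0 →
    ∃ c : F, ((x : Matrix.SpecialLinearGroup (Fin n) F) : Matrix (Fin n) (Fin n) F) *ᵥ v =
      v + c • Pi.single i 1}
  one_mem' := fun v _ => ⟨0, by simp⟩
  mul_mem' := by
    intro x y hx hy v hv
    obtain ⟨c, hc⟩ := hy v hv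
    obtain ⟨d, hd⟩ := hx v hv
    refine ⟨d + c, ?_⟩
    rw [Subgroup.coe_mul, coe_mul_mulVec, hc, Matrix.mulVec_add, Matrix.mulVec_smul, hd,
      (hC x x.2).1, add_smul, add_assoc]
  inv_mem' := by
    intro x hx v hv
    obtain ⟨c, hc⟩ := hx v hv
    refine ⟨-c, ?_⟩
    have h1 := inv_mulVec (x : Matrix.SpecialLinearGroup (Fin n) F) v
    rw [hc, Matrix.mulVec_add, Matrix.mulVec_smul, (hC _ (C.inv_mem x.2)).1] at h1
    rw [Subgroup.coe_inv, neg_smul]
    exact eq_add_neg_of_add_eq h1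

omit [Fintype F] in
lemma mem_QQ (i j : Fin n) (C : Subgroup (Matrix.SpecialLinearGroup (Fin n) F))
    (hC : ∀ x ∈ C, Good i j x) (x : ↥C) : x ∈ QQ i j C hC ↔ ∀ v : Fin n → F, v j = 0 →
    ∃ c : F, ((x : Matrix.SpecialLinearGroup (Fin n) F) : Matrix (Fin n) (Fin n) F) *ᵥ v =
      v + c • Pi.single i 1 := Iff.rfl

omit [Fintype F] in
lemma QQ_normal (i j : Fin n) (C : Subgroup (Matrix.SpecialLinearGroup (Fin n) F))
    (hC : ∀ x ∈ C, Good i j x) : (QQ i j C hC).Normal := by
  refine ⟨fun x hx g => ?_⟩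
  rw [mem_QQ] at hx ⊢
  intro v hv
  obtain ⟨c, hc⟩ := hx (((g⁻¹ : ↥C) : Matrix.SpecialLinearGroup (Fin n) F) *ᵥ v) (by
    rw [(hC _ (g⁻¹).2).2, hv])
  refine ⟨c, ?_⟩
  rw [Subgroup.coe_mul, Subgroup.coe_mul, coe_mul_mulVec, coe_mul_mulVec, hc, Matrix.mulVec_add,
    Matrix.mulVec_smul, (hC g g.2).1, ← coe_mul_mulVec, ← Subgroup.coe_mul, mul_inv_cancel]
  simp

lemma QQ_pGroup (hF : Fintype.card F = 2) (i j : Fin n)
    (C : Subgroup (Matrix.SpecialLinearGroup (Fin n) F))
    (hC : ∀ x ∈ C, Good i j x) : IsPGroup 2 (QQ i j C hC) := by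
  rintro ⟨x, hx⟩
  refine ⟨2, ?_⟩
  rw [mem_QQ] at hx
  apply Subtype.ext
  apply Subtype.ext
  apply Subtype.ext
  set X : Matrix (Fin n) (Fin n) F :=
    ((x : Matrix.SpecialLinearGroup (Fin n) F) : Matrix (Fin n) (Fin n) F) with hX
  have hXe : X *ᵥ Pi.single i 1 = Pi.single i 1 := (hC x x.2).1
  have h2 : ∀ v, ∃ c : F, X *ᵥ (X *ᵥ v) = v + c • Pi.single i 1 := by
    intro v
    obtain ⟨c, hc⟩ := hx (X *ᵥ v - v) (by
      rw [Pi.sub_apply, (hC x x.2).2, sub_self])
    refine ⟨c, ?_⟩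
    rw [Matrix.mulVec_sub] at hc
    have h3 : X *ᵥ (X *ᵥ v) = (X *ᵥ v + X *ᵥ v) - v + c • Pi.single i 1 := by
      rw [sub_eq_iff_eq_add.1 hc]; abel
    have h4 : X *ᵥ v + X *ᵥ v = 0 := by
      funext k
      exact add_self hF _
    have h5 : -v = v := by
      funext k
      exact neg_eq_of_add_eq_zero_left (add_self hF _)
    rw [h3, h4, zero_sub, h5]
  have h4 : ∀ v, (X ^ 4) *ᵥ v = v := by
    intro v
    have e : X ^ 4 = X * X * (X * X) := by noncomm_ring
    obtain ⟨c, hc⟩ := h2 v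
    rw [e, ← Matrix.mulVec_mulVec, ← Matrix.mulVec_mulVec, ← Matrix.mulVec_mulVec, hc,
      Matrix.mulVec_add, Matrix.mulVec_add, hc, Matrix.mulVec_smul, Matrix.mulVec_smul, hXe, hXe,
      add_assoc, ← add_smul, add_self hF, zero_smul, add_zero]
  show ((((⟨x, hx⟩ : ↥(QQ i j C hC)) ^ 2 ^ 2 : ↥(QQ i j C hC)) : ↥C) :
    Matrix.SpecialLinearGroup (Fin n) F).1 = _
  have e4 : (2 : ℕ) ^ 2 = 4 := by norm_num
  rw [e4]
  simp only [Subgroup.coe_pow, Subgroup.coe_one]
  show ((x : Matrix.SpecialLinearGroup (Fin n) F) ^ 4 : Matrix.SpecialLinearGroup (Fin n) F).1 = 1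
  rw [show ((x : Matrix.SpecialLinearGroup (Fin n) F) ^ 4 : Matrix.SpecialLinearGroup (Fin n) F).1
    = X ^ 4 from Matrix.SpecialLinearGroup.coe_pow _ _]
  apply Matrix.toLin'.injective
  apply LinearMap.ext
  intro v
  rw [Matrix.toLin'_apply, h4, Matrix.toLin'_one, LinearMap.id_apply]

end main

/-- Let F be a field with 2 elements, n ≥ 3, and t ∈ SL(n, F) a transvection (t = 1 + E_{ij}, i ≠ j). Then the generalized Fitting subgroup of C(t) is O_2(C(t)). -/
theorem result {F : Type*} [Field F] [Fintype F] [DecidableEq F] (hF : Fintype.card F = 2) (n : ℕ) (hn : 3 ≤ n) (i j : Fin n) (hij : i ≠ j) (t : Matrix.SpecialLinearGroup (Fin n) F) (ht : (t : Matrix (Fin n) (Fin n) F) = Matrix.transvection i j 1) : Cfsg.generalizedFittingSubgroup ↥(Subgroup.centralizer ({t} : Set (Matrix.SpecialLinearGroup (Fin n) F))) = Cfsg.pCore 2 ↥(Subgroup.centralizer ({t} : Set (Matrix.SpecialLinearGroup (Fin n) F))) := by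
  have : Fact (Nat.Prime 2) := ⟨Nat.prime_two⟩
  set C := Subgroup.centralizer ({t} : Set (Matrix.SpecialLinearGroup (Fin n) F)) with hCdef
  have hcomm : ∀ x ∈ C, (x : Matrix (Fin n) (Fin n) F) * (1 + single i j 1) =
      (1 + single i j 1) * (x : Matrix (Fin n) (Fin n) F) := by
    intro x hx
    have h1 : t * x = x * t := (Subgroup.mem_centralizer_singleton_iff.1 hx).symm
    have h2 := congrArg (fun y : Matrix.SpecialLinearGroup (Fin n) F =>
      (y : Matrix (Fin n) (Fin n) F)) h1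
    simp only [Matrix.SpecialLinearGroup.coe_mul, ht, Matrix.transvection] at h2
    exact h2.symm
  have hC : ∀ x ∈ C, Good i j x := fun x hx => fix_facts hF x i j (hcomm x hx)
  rw [Cfsg.Agent.Lib.Helper27Balance.gfit_eq_pCore_iff]
  have hQ : QQ i j C hC ≤ Cfsg.pCore 2 ↥C := le_sSup ⟨QQ_normal i j C hC, QQ_pGroup hF i j C hC⟩
  intro c hc
  apply hQ
  rw [mem_QQ]
  have key : ∀ l, l ≠ i → ∀ v : Fin n → F,
      (((c : Matrix.SpecialLinearGroup (Fin n) F) : Matrix (Fin n) (Fin n) F) *ᵥ v) l = v l := by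
    intro l hl
    set τ : Matrix.SpecialLinearGroup (Fin n) F :=
      Matrix.SpecialLinearGroup.transvection (Ne.symm hl) 1 with hτ
    have hτc : (τ : Matrix (Fin n) (Fin n) F) = 1 + single i l 1 :=
      Matrix.SpecialLinearGroup.transvection_coe _ _
    have hτC : τ ∈ C := by
      rw [hCdef, Subgroup.mem_centralizer_singleton_iff]
      apply Subtype.ext
      show (τ * t : Matrix.SpecialLinearGroup (Fin n) F).1 = (t * τ : Matrix.SpecialLinearGroup (Fin n) F).1
      rw [show (t * τ : Matrix.SpecialLinearGroup (Fin n) F).1 = (t : Matrix (Fin n) (Fin n) F) *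
        (τ : Matrix (Fin n) (Fin n) F) from Matrix.SpecialLinearGroup.coe_mul _ _,
        show (τ * t : Matrix.SpecialLinearGroup (Fin n) F).1 = (τ : Matrix (Fin n) (Fin n) F) *
        (t : Matrix (Fin n) (Fin n) F) from Matrix.SpecialLinearGroup.coe_mul _ _, ht, hτc,
        Matrix.transvection]
      simp only [add_mul, mul_add, mul_one, one_mul]
      rw [single_mul_single_of_ne _ _ _ _ (Ne.symm hij), single_mul_single_of_ne _ _ _ _ hl]
      abel
    have hτQ : (⟨τ, hτC⟩ : ↥C) ∈ QQ i j C hC := by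
      rw [mem_QQ]
      intro v _
      refine ⟨v l, ?_⟩
      show (τ : Matrix (Fin n) (Fin n) F) *ᵥ v = _
      rw [hτc, Matrix.add_mulVec, Matrix.one_mulVec]
      congr 1
      funext k
      rw [Matrix.single_mulVec_eq]
      simp [Pi.single_apply]
    have h1 := Subgroup.mem_centralizer_iff.1 hc ⟨τ, hτC⟩ (hQ hτQ)
    have h2 := congrArg (fun y : ↥C => ((y : Matrix.SpecialLinearGroup (Fin n) F) :
      Matrix (Fin n) (Fin n) F)) h1
    simp only [Subgroup.coe_mul, Matrix.SpecialLinearGroup.coe_mul, hτc] at h2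
    exact (fix_facts hF (c : Matrix.SpecialLinearGroup (Fin n) F) i l h2.symm).2
  intro v _
  refine ⟨(((c : Matrix.SpecialLinearGroup (Fin n) F) : Matrix (Fin n) (Fin n) F) *ᵥ v) i - v i, ?_⟩
  funext k
  by_cases hk : k = i
  · subst hk
    simp
  · simp [key k hk, hk]

end Cfsg.Agent.S1339
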