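import Cfsg.Statements.S1340
import Cfsg.Agent.Lib.Helper13Std
import Cfsg.Agent.Lib.Helper1Fitting
import Mathlib.LinearAlgebra.Projectivization.PSL.PSL2

set_option autoImplicit false
open Cfsg

namespace Cfsg.Agent.S1340

open Matrix Subgroup Cfsg.Agent.Lib.Helper13Std

/-- abstract part: a normal quasisimple subgroup containing an involution gives a component of
`C / O(C)`. -/
theorem hasComponent_of {C S : Type*} [Group C] [Finite C] [Group S] (φ : S →* C)
    (hn : φ.range.Normal) (hq : Cfsg.IsQuasisimple S) (s : S) (hs1 : φ s ≠ 1) (hs2 : s * s = 1) :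
    Cfsg.HasComponent (C ⧸ Cfsg.oddCore C) := by
  refine ⟨((QuotientGroup.mk' (Cfsg.oddCore C)).comp φ).range, ?_, ?_⟩
  · apply Subgroup.Normal.isSubnormal
    rw [← MonoidHom.map_range]
    exact hn.map _ (QuotientGroup.mk'_surjective _)
  · refine Cfsg.Agent.Lib.Helper27Basic.isQuasisimple_of_surjective
      ((QuotientGroup.mk' (Cfsg.oddCore C)).comp φ).rangeRestrict
      (MonoidHom.rangeRestrict_surjective _) ?_ hq
    refine ⟨⟨((QuotientGroup.mk' (Cfsg.oddCore C)).comp φ).rangeRestrict s, 1, ?_⟩⟩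
    intro h
    have h1 : (QuotientGroup.mk' (Cfsg.oddCore C)) (φ s) = 1 := congrArg Subtype.val h
    have h2 : φ s ∈ Cfsg.oddCore C := (QuotientGroup.eq_one_iff _).1 h1
    have h3 : orderOf (φ s) = 2 := by
      apply orderOf_eq_prime _ hs1
      rw [pow_two, ← map_mul, hs2, map_one]
    have h4 : orderOf (⟨φ s, h2⟩ : Cfsg.oddCore C) = 2 := by
      rw [← h3]
      exact (Subgroup.orderOf_mk _ _)
    have h5 : 2 ∣ Nat.card (Cfsg.oddCore C) := h4 ▸ orderOf_dvd_natCard _
    have h6 := Cfsg.Agent.Lib.Helper1Fitting.card_pPrimeCore_coprime (G := C) 2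
    have h7 : (2 : ℕ) ∣ 1 := by
      have := Nat.dvd_gcd h5 (dvd_refl 2)
      rwa [h6] at this
    omega

variable {F : Type*} [Field F]

/-- an involution of `SL_m`, `m ≥ 2` -/
theorem exists_invol (h2 : (2 : F) ≠ 0) (m : ℕ) (hm : 2 ≤ m) :
    ∃ s : Matrix.SpecialLinearGroup (Fin m) F, s ≠ 1 ∧ s * s = 1 := by
  induction m, hm using Nat.le_induction with
  | base =>
    refine ⟨⟨!![-1, 0; 0, -1], by simp [Matrix.det_fin_two]⟩, ?_, ?_⟩
    · intro h
      have h3 := congrFun (congrFun (congrArg Subtype.val h) 0) 0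
      simp at h3
      apply h2
      linear_combination -h3
    · apply Subtype.ext
      show (!![-1, 0; 0, -1] : Matrix (Fin 2) (Fin 2) F) * !![-1, 0; 0, -1] = 1
      simp [Matrix.mul_fin_two, Matrix.one_fin_two]
  | succ k hk ih =>
    obtain ⟨s, hs1, hs2⟩ := ih
    refine ⟨ψ s, ?_, ?_⟩
    · intro h
      exact hs1 (ψ_injective (by rw [h, map_one]))
    · rw [← map_mul, hs2, map_one]

theorem quasisimple_SL [Fintype F] (m : ℕ) (hm : 2 ≤ m) (h : m = 2 → 4 ≤ Fintype.card F) :
    Cfsg.IsQuasisimple (Matrix.SpecialLinearGroup (Fin m) F) := by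
  rcases hm.eq_or_lt with h2 | h3
  · subst h2
    have h4 := h rfl
    refine ⟨⟨?_⟩, Matrix.ProjectiveSpecialLinearGroup.rank_two_simple
      (by rw [Nat.card_eq_fintype_card]; exact h4)⟩
    classical
    obtain ⟨x, hx⟩ : IsCyclic Fˣ := by infer_instance
    have h1 : orderOf x = Fintype.card F - 1 := by
      rw [orderOf_eq_card_of_forall_mem_zpowers hx, Nat.card_eq_fintype_card, Fintype.card_units]
    apply Matrix.SL2.commutator_eq_top (a := (x : F)) (Units.ne_zero x)
    intro h
    have h2 : x ^ 2 = 1 := Units.ext (by simpa using h)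
    have h3 := orderOf_le_of_pow_eq_one zero_lt_two h2
    omega
  · have h3' : 3 ≤ Fintype.card (Fin m) := by rw [Fintype.card_fin]; exact h3
    exact ⟨⟨Cfsg.Agent.Lib.Helper6SL.commutator_SL_eq_top h3'⟩, Cfsg.Agent.S0249.PSL_simple h3'⟩

variable {m : ℕ}

local notation "GLm" => Matrix.GeneralLinearGroup (Fin (m + 1)) F
local notation "cs" => Fin.castSucc
local notation "lst" => Fin.last m

/-- the involution `diag(1, …, 1, -1)` -/
def tt : GLm :=
  ⟨dg 1 (-1), dg 1 (-1), by rw [dg_mul_dg]; simp [dg_one], by rw [dg_mul_dg]; simp [dg_one]⟩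

theorem coe_tt : ((tt : GLm) : Matrix (Fin (m + 1)) (Fin (m + 1)) F) = dg 1 (-1) := rfl

theorem mem_cent_iff (h2 : (2 : F) ≠ 0) (g : GLm) :
    g ∈ centralizer ({tt} : Set GLm) ↔ BD (g : Matrix (Fin (m + 1)) (Fin (m + 1)) F) := by
  rw [mem_centralizer_singleton_iff]
  constructor
  · intro h
    have h' : (g : Matrix (Fin (m + 1)) (Fin (m + 1)) F) * dg 1 (-1)
        = dg 1 (-1) * (g : Matrix (Fin (m + 1)) (Fin (m + 1)) F) := by
      rw [← coe_tt, ← Units.val_mul, ← Units.val_mul, h]
    constructor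
    · intro i
      have h3 := congrFun (congrFun h' (cs i)) lst
      simp only [dg, Matrix.mul_diagonal, Matrix.diagonal_mul, if_true,
        if_neg (Fin.castSucc_lt_last i).ne] at h3
      have h4 : 2 * (g : Matrix (Fin (m + 1)) (Fin (m + 1)) F) (cs i) lst = 0 := by
        linear_combination -h3
      exact (mul_eq_zero.1 h4).resolve_left h2
    · intro j
      have h3 := congrFun (congrFun h' lst) (cs j)
      simp only [dg, Matrix.mul_diagonal, Matrix.diagonal_mul, if_true,
        if_neg (Fin.castSucc_lt_last j).ne] at h3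
      have h4 : 2 * (g : Matrix (Fin (m + 1)) (Fin (m + 1)) F) lst (cs j) = 0 := by
        linear_combination h3
      exact (mul_eq_zero.1 h4).resolve_left h2
  · intro h
    apply Units.ext
    rw [Units.val_mul, Units.val_mul, coe_tt]
    ext i j
    simp only [dg, Matrix.mul_diagonal, Matrix.diagonal_mul]
    induction i using Fin.lastCases with
    | last =>
      induction j using Fin.lastCases with
      | last => simp
      | cast j => simp [h.2 j]
    | cast i =>
      induction j using Fin.lastCases with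
      | last => simp [h.1 i]
      | cast j => simp [(Fin.castSucc_lt_last _).ne]

/-- corner entry and determinant on the centraliser -/
def chi (h2 : (2 : F) ≠ 0) : ↥(centralizer ({tt} : Set GLm)) →* F × F where
  toFun g := (((g : GLm) : Matrix (Fin (m + 1)) (Fin (m + 1)) F) lst lst,
    ((g : GLm) : Matrix (Fin (m + 1)) (Fin (m + 1)) F).det)
  map_one' := by simp
  map_mul' g h := by
    have := ((mem_cent_iff h2 g.1).1 g.2).2
    simp [Matrix.mul_apply, Fin.sum_univ_castSucc, this]

/-- the embedding of `SL_m` in the centraliser -/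
def Phi (h2 : (2 : F) ≠ 0) :
    Matrix.SpecialLinearGroup (Fin m) F →* ↥(centralizer ({tt} : Set GLm)) :=
  (Matrix.SpecialLinearGroup.toGL.comp ψ).codRestrict _ (fun a =>
    (mem_cent_iff h2 _).2 ((mem_range_iff (ψ a)).1 ⟨a, rfl⟩).1)

theorem coe_Phi (h2 : (2 : F) ≠ 0) (a : Matrix.SpecialLinearGroup (Fin m) F) :
    (((Phi h2 a : ↥(centralizer ({tt} : Set GLm))) : GLm) :
      Matrix (Fin (m + 1)) (Fin (m + 1)) F) = emb (a : Matrix (Fin m) (Fin m) F) := rfl

theorem range_Phi (h2 : (2 : F) ≠ 0) : (Phi (m := m) h2).range = (chi (m := m) h2).ker := by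
  ext g
  rw [MonoidHom.mem_ker]
  constructor
  · rintro ⟨a, rfl⟩
    show ((_ : F), (_ : F)) = 1
    rw [coe_Phi, emb_ll, det_emb, a.2]
    rfl
  · intro h
    have h1 : ((g : GLm) : Matrix (Fin (m + 1)) (Fin (m + 1)) F) lst lst = 1 :=
      congrArg Prod.fst h
    have hd : ((g : GLm) : Matrix (Fin (m + 1)) (Fin (m + 1)) F).det = 1 :=
      congrArg Prod.snd h
    obtain ⟨a, ha⟩ := (mem_range_iff
      (⟨((g : GLm) : Matrix (Fin (m + 1)) (Fin (m + 1)) F), hd⟩ :
        Matrix.SpecialLinearGroup (Fin (m + 1)) F)).2 ⟨(mem_cent_iff h2 g.1).1 g.2, h1⟩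
    exact ⟨a, Subtype.ext (Units.ext (congrArg Subtype.val ha))⟩

theorem Phi_injective (h2 : (2 : F) ≠ 0) : Function.Injective (Phi (m := m) h2) := by
  intro a b h
  apply ψ_injective
  apply Subtype.ext
  have := congrArg (fun x : ↥(centralizer ({tt} : Set GLm)) =>
    ((x : GLm) : Matrix (Fin (m + 1)) (Fin (m + 1)) F)) h
  exact this

theorem main [Fintype F] [DecidableEq F] (hF : Odd (Fintype.card F)) (hm : 2 ≤ m)
    (h33 : ¬ (m = 2 ∧ Fintype.card F = 3)) :
    ∃ t : GLm, orderOf t = 2 ∧ t ∉ Subgroup.center GLm ∧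
      Cfsg.HasComponent (↥(Subgroup.centralizer ({t} : Set GLm)) ⧸
        Cfsg.oddCore ↥(Subgroup.centralizer ({t} : Set GLm))) := by
  have h2 : (2 : F) ≠ 0 := by
    intro h
    have hc : ringChar F = 2 := by
      have : ringChar F ∣ 2 := by
        rw [← ringChar.spec]; exact_mod_cast h
      rcases (Nat.dvd_prime Nat.prime_two).1 this with h1 | h1
      · exact absurd h1 (CharP.ringChar_ne_one)
      · exact h1
    have := FiniteField.even_card_of_char_two hc
    exact (Nat.not_even_iff_odd.2 hF) (Nat.even_iff.2 this)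
  have h11 : (-1 : F) ≠ 1 := by
    intro h
    apply h2
    linear_combination -h
  refine ⟨tt, ?_, ?_, ?_⟩
  · apply orderOf_eq_prime
    · apply Units.ext
      rw [pow_two, Units.val_mul, coe_tt, dg_mul_dg]
      simp [dg_one]
    · intro h
      have h3 : ((tt : GLm) : Matrix (Fin (m + 1)) (Fin (m + 1)) F) lst lst
          = (1 : Matrix (Fin (m + 1)) (Fin (m + 1)) F) lst lst := by rw [h]; rfl
      rw [coe_tt, dg_ll, Matrix.one_apply_eq] at h3
      exact h11 h3
  · intro hc
    have hne : (cs (⟨0, by omega⟩ : Fin m)) ≠ lst := (Fin.castSucc_lt_last _).ne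
    let g : GLm := Matrix.SpecialLinearGroup.toGL
      ⟨Matrix.transvection (cs (⟨0, by omega⟩ : Fin m)) lst (1 : F),
        Matrix.det_transvection_of_ne _ _ hne 1⟩
    have hg : g ∈ centralizer ({tt} : Set GLm) := by
      rw [mem_centralizer_singleton_iff]
      exact (Subgroup.mem_center_iff.1 hc g)
    have h3 := ((mem_cent_iff h2 g).1 hg).1 ⟨0, by omega⟩
    have h4 : (g : Matrix (Fin (m + 1)) (Fin (m + 1)) F) =
      Matrix.transvection (cs (⟨0, by omega⟩ : Fin m)) lst (1 : F) := rfl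
    rw [h4] at h3
    have hm0 : m ≠ 0 := by omega
    simp [Matrix.transvection, Matrix.one_apply, hm0] at h3
  · have hfin : Finite GLm := inferInstance
    obtain ⟨s, hs1, hs2⟩ := exists_invol h2 m hm
    have hq : Cfsg.IsQuasisimple (Matrix.SpecialLinearGroup (Fin m) F) := by
      apply quasisimple_SL m hm
      intro hm2
      have h1 : 1 < Fintype.card F := Fintype.one_lt_card
      have h3 : Fintype.card F ≠ 3 := fun h => h33 ⟨hm2, h⟩
      obtain ⟨k, hk⟩ := hF
      omega
    refine hasComponent_of (Phi h2) ?_ hq s ?_ hs2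
    · rw [range_Phi]
      exact MonoidHom.normal_ker _
    · intro h
      exact hs1 (Phi_injective h2 (by rw [h, map_one]))

/-- Let F be a finite field of odd order and n ≥ 3 with (n, |F|) ≠ (3, 3). Then GL(n, F) has a non-central involution t such that C(t) / O(C(t)) has a component. -/
theorem result {F : Type*} [Field F] [Fintype F] [DecidableEq F] (hF : Odd (Fintype.card F)) (n : ℕ) (hn : 3 ≤ n) (h33 : ¬ (n = 3 ∧ Fintype.card F = 3)) : ∃ t : Matrix.GeneralLinearGroup (Fin n) F, orderOf t = 2 ∧ t ∉ Subgroup.center (Matrix.GeneralLinearGroup (Fin n) F) ∧ Cfsg.HasComponent (↥(Subgroup.centralizer ({t} : Set (Matrix.GeneralLinearGroup (Fin n) F))) ⧸ Cfsg.oddCore ↥(Subgroup.centralizer ({t} : Set (Matrix.GeneralLinearGroup (Fin n) F)))) := by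
  obtain ⟨m, rfl⟩ : ∃ m, n = m + 1 := ⟨n - 1, by omega⟩
  exact main hF (by omega) (fun h => h33 ⟨by omega, h.2⟩)

end Cfsg.Agent.S1340
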