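import Cfsg.Statements.S1349
import Mathlib
import Cfsg.Agent.S0206
import Cfsg.Agent.Lib.Helper40Sylow

set_option autoImplicit false
open Cfsg

namespace Cfsg.Agent.S1349

open Cfsg.Agent.Lib.Helper40Sylow
open scoped commutatorElement

section TypeLevel

variable {Q : Type*} [Group Q]

/-- fixed points of an endomorphism -/
def fixSub (α : Q →* Q) : Subgroup Q where
  carrier := {x | α x = x}
  one_mem' := map_one α
  mul_mem' := by
    intro a b ha hb
    simp only [Set.mem_ofPred_eq] at *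
    rw [map_mul, ha, hb]
  inv_mem' := by
    intro a ha
    simp only [Set.mem_ofPred_eq] at *
    rw [map_inv, ha]

/-- inverted points of an endomorphism of a commutative group -/
def invSub (hc : ∀ x y : Q, x * y = y * x) (α : Q →* Q) : Subgroup Q where
  carrier := {x | α x = x⁻¹}
  one_mem' := by simp
  mul_mem' := by
    intro a b ha hb
    simp only [Set.mem_ofPred_eq] at *
    rw [map_mul, ha, hb, mul_inv_rev, hc]
  inv_mem' := by
    intro a ha
    simp only [Set.mem_ofPred_eq] at *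
    rw [map_inv, ha]

theorem exists_weight [Finite Q] (hc : ∀ x y : Q, x * y = y * x) (𝒜 : Set (Q →* Q))
    (hinv : ∀ α ∈ 𝒜, ∀ x, α (α x) = x)
    (hcomm : ∀ α ∈ 𝒜, ∀ β ∈ 𝒜, ∀ x, α (β x) = β (α x))
    (W₁ : Subgroup Q) (hW₁ : W₁ ≠ ⊥) (hW₁inv : ∀ α ∈ 𝒜, ∀ x ∈ W₁, α x ∈ W₁) :
    ∃ x ∈ W₁, x ≠ 1 ∧ ∀ α ∈ 𝒜, α x = x ∨ α x = x⁻¹ := by
  obtain ⟨W₀, ⟨hW₀ne, hW₀le, hW₀inv⟩, hmin⟩ := exists_minimal_of_wellFoundedLT
    (fun W : Subgroup Q => W ≠ ⊥ ∧ W ≤ W₁ ∧ ∀ α ∈ 𝒜, ∀ x ∈ W, α x ∈ W) ⟨W₁, hW₁, le_rfl, hW₁inv⟩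
  obtain ⟨x, hx, hx1⟩ : ∃ x : Q, x ∈ W₀ ∧ x ≠ 1 := by
    obtain ⟨x, hx⟩ := Subgroup.ne_bot_iff_exists_ne_one.mp hW₀ne
    exact ⟨x.1, x.2, fun h => hx (Subtype.ext h)⟩
  have key : ∀ α ∈ 𝒜, W₀ ≤ fixSub α ∨ W₀ ≤ invSub hc α := by
    intro α hα
    by_cases hP : W₀ ⊓ fixSub α = ⊥
    · by_cases hM : W₀ ⊓ invSub hc α = ⊥
      · exfalso
        have hu : x * α x ∈ W₀ ⊓ fixSub α := by
          refine Subgroup.mem_inf.mpr ⟨mul_mem hx (hW₀inv α hα x hx), ?_⟩
          change α (x * α x) = x * α x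
          rw [map_mul, hinv α hα, hc]
        rw [hP, Subgroup.mem_bot] at hu
        have hx' : x ∈ W₀ ⊓ invSub hc α :=
          Subgroup.mem_inf.mpr ⟨hx, (eq_inv_of_mul_eq_one_right hu : α x = x⁻¹)⟩
        rw [hM, Subgroup.mem_bot] at hx'
        exact hx1 hx'
      · right
        have := hmin (y := W₀ ⊓ invSub hc α) ⟨hM, inf_le_left.trans hW₀le, ?_⟩ inf_le_left
        · exact this.trans inf_le_right
        · intro β hβ y hy
          refine Subgroup.mem_inf.mpr ⟨hW₀inv β hβ y (Subgroup.mem_inf.mp hy).1, ?_⟩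
          change α (β y) = (β y)⁻¹
          have h2 : α y = y⁻¹ := (Subgroup.mem_inf.mp hy).2
          rw [hcomm α hα β hβ, h2, map_inv]
    · left
      have := hmin (y := W₀ ⊓ fixSub α) ⟨hP, inf_le_left.trans hW₀le, ?_⟩ inf_le_left
      · exact this.trans inf_le_right
      · intro β hβ y hy
        refine Subgroup.mem_inf.mpr ⟨hW₀inv β hβ y (Subgroup.mem_inf.mp hy).1, ?_⟩
        change α (β y) = β y
        have h2 : α y = y := (Subgroup.mem_inf.mp hy).2
        rw [hcomm α hα β hβ, h2]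
  refine ⟨x, hW₀le hx, hx1, fun α hα => ?_⟩
  rcases key α hα with h | h
  · exact Or.inl (h hx)
  · exact Or.inr (h hx)

theorem exists_weight_inverted [Finite Q] (hc : ∀ x y : Q, x * y = y * x) (𝒜 : Set (Q →* Q))
    (hinv : ∀ α ∈ 𝒜, ∀ x, α (α x) = x)
    (hcomm : ∀ α ∈ 𝒜, ∀ β ∈ 𝒜, ∀ x, α (β x) = β (α x))
    (α₀ : Q →* Q) (hα₀ : α₀ ∈ 𝒜) (v : Q) (hv : α₀ v ≠ v) :
    ∃ x : Q, x ≠ 1 ∧ α₀ x = x⁻¹ ∧ ∀ α ∈ 𝒜, α x = x ∨ α x = x⁻¹ := by
  have h1 : invSub hc α₀ ≠ ⊥ := by
    intro h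
    have hw : v⁻¹ * α₀ v ∈ invSub hc α₀ := by
      change α₀ (v⁻¹ * α₀ v) = (v⁻¹ * α₀ v)⁻¹
      rw [map_mul, hinv α₀ hα₀, map_inv, mul_inv_rev, inv_inv]
    rw [h, Subgroup.mem_bot, inv_mul_eq_one] at hw
    exact hv hw.symm
  obtain ⟨x, hx, hx1, hxw⟩ := exists_weight hc 𝒜 hinv hcomm (invSub hc α₀) h1 (by
    intro β hβ y hy
    change α₀ (β y) = (β y)⁻¹
    have h2 : α₀ y = y⁻¹ := hy
    rw [hcomm α₀ hα₀ β hβ, h2, map_inv])
  exact ⟨x, hx1, hx, hxw⟩

end TypeLevel
section Ambient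

variable {G : Type*} [Group G]

/-- conjugation by a normalizing element, restricted to the subgroup -/
def conjRes (L : Subgroup G) (a : G) (ha : a ∈ Subgroup.normalizer (L : Set G)) : L →* L where
  toFun l := ⟨a * l * a⁻¹, (ha l).mp l.2⟩
  map_one' := by ext; simp
  map_mul' := by intro x y; ext; simp [mul_assoc]

theorem conjRes_coe (L : Subgroup G) (a : G) (ha : a ∈ Subgroup.normalizer (L : Set G)) (l : L) :
    ((conjRes L a ha l : L) : G) = a * l * a⁻¹ := rfl

theorem mem_normalizer_of_conj_mem [Finite G] {H : Subgroup G} {g : G}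
    (h : ∀ x ∈ H, g * x * g⁻¹ ∈ H) : g ∈ Subgroup.normalizer (H : Set G) :=
  mem_normalizer_iff_cj.mpr (cj_eq_of_le (by rintro _ ⟨y, hy, rfl⟩; exact h y hy))

theorem conj_mem_of_mem_normalizer {H : Subgroup G} {g x : G}
    (hg : g ∈ Subgroup.normalizer (H : Set G)) (hx : x ∈ H) : g * x * g⁻¹ ∈ H := (hg x).mp hx

theorem inv_eq_self_of_mul_self {a : G} (h : a * a = 1) : a⁻¹ = a := inv_eq_of_mul_eq_one_left h

theorem weight_in_abelian [Finite G] (A V : Subgroup G) (hA2 : ∀ a ∈ A, a * a = 1)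
    (hAc : ∀ a ∈ A, ∀ b ∈ A, a * b = b * a) (hVc : ∀ x ∈ V, ∀ y ∈ V, x * y = y * x)
    (hAV : A ≤ Subgroup.normalizer (V : Set G)) (a₀ : G) (ha₀ : a₀ ∈ A) (v : G) (hv : v ∈ V)
    (hav : a₀ * v * a₀⁻¹ ≠ v) :
    ∃ x ∈ V, x ≠ 1 ∧ a₀ * x * a₀⁻¹ = x⁻¹ ∧ ∀ a ∈ A, a * x * a⁻¹ = x ∨ a * x * a⁻¹ = x⁻¹ := by
  obtain ⟨x, hx1, hx0, hxw⟩ := exists_weight_inverted (Q := V)
    (fun x y => Subtype.ext (hVc x x.2 y y.2))
    {α | ∃ (a : G) (ha : a ∈ A), α = conjRes V a (hAV ha)}
    (by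
      rintro _ ⟨a, ha, rfl⟩ x
      apply Subtype.ext
      rw [conjRes_coe, conjRes_coe, inv_eq_self_of_mul_self (hA2 a ha)]
      calc a * (a * x * a) * a = (a * a) * x * (a * a) := by group
        _ = x := by rw [hA2 a ha]; simp)
    (by
      rintro _ ⟨a, ha, rfl⟩ _ ⟨b, hb, rfl⟩ x
      apply Subtype.ext
      rw [conjRes_coe, conjRes_coe, conjRes_coe, conjRes_coe]
      calc a * (b * x * b⁻¹) * a⁻¹ = (a * b) * x * (a * b)⁻¹ := by group
        _ = (b * a) * x * (b * a)⁻¹ := by rw [hAc a ha b hb]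
        _ = b * (a * x * a⁻¹) * b⁻¹ := by group)
    (conjRes V a₀ (hAV ha₀)) ⟨a₀, ha₀, rfl⟩ ⟨v, hv⟩
    (fun h => hav (congrArg Subtype.val h))
  refine ⟨x, x.2, fun h => hx1 (Subtype.ext h), congrArg Subtype.val hx0, fun a ha => ?_⟩
  rcases hxw _ ⟨a, ha, rfl⟩ with h | h
  · exact Or.inl (congrArg Subtype.val h)
  · exact Or.inr (congrArg Subtype.val h)

theorem weight_mod [Finite G] (A L Z : Subgroup G) (hA2 : ∀ a ∈ A, a * a = 1)
    (hAc : ∀ a ∈ A, ∀ b ∈ A, a * b = b * a) (hZL : Z < L)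
    (hLZ : ∀ x ∈ L, ∀ y ∈ L, (x * y)⁻¹ * (y * x) ∈ Z)
    (hLnZ : L ≤ Subgroup.normalizer (Z : Set G))
    (hAL : A ≤ Subgroup.normalizer (L : Set G)) (hAZ : A ≤ Subgroup.normalizer (Z : Set G)) :
    ∃ x ∈ L, x ∉ Z ∧ ∀ a ∈ A, x⁻¹ * (a * x * a⁻¹) ∈ Z ∨ x * (a * x * a⁻¹) ∈ Z := by
  have hN : (Z.subgroupOf L).Normal := (Subgroup.normal_subgroupOf_iff_le_normalizer hZL.le).mpr hLnZ
  have hle : ∀ (a : G) (ha : a ∈ A),
      Z.subgroupOf L ≤ (Z.subgroupOf L).comap (conjRes L a (hAL ha)) := by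
    intro a ha z hz
    rw [Subgroup.mem_comap, Subgroup.mem_subgroupOf, conjRes_coe]
    exact conj_mem_of_mem_normalizer (hAZ ha) (Subgroup.mem_subgroupOf.mp hz)
  have hne : (⊤ : Subgroup (L ⧸ Z.subgroupOf L)) ≠ ⊥ := by
    intro h
    obtain ⟨l, hl, hlZ⟩ := SetLike.exists_of_lt hZL
    have h1 : (QuotientGroup.mk (⟨l, hl⟩ : L) : L ⧸ Z.subgroupOf L) ∈ (⊤ : Subgroup _) := trivial
    rw [h, Subgroup.mem_bot, QuotientGroup.eq_one_iff] at h1
    exact hlZ (Subgroup.mem_subgroupOf.mp h1)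
  obtain ⟨x, -, hx1, hxw⟩ := exists_weight (Q := L ⧸ Z.subgroupOf L)
    (by
      intro x y
      induction x using QuotientGroup.induction_on with | H x => ?_
      induction y using QuotientGroup.induction_on with | H y => ?_
      rw [← QuotientGroup.mk_mul, ← QuotientGroup.mk_mul, QuotientGroup.eq, Subgroup.mem_subgroupOf]
      exact hLZ x x.2 y y.2)
    {α | ∃ (a : G) (ha : a ∈ A), α = QuotientGroup.map _ _ (conjRes L a (hAL ha)) (hle a ha)}
    (by
      rintro _ ⟨a, ha, rfl⟩ x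
      induction x using QuotientGroup.induction_on with | H x => ?_
      rw [QuotientGroup.map_mk, QuotientGroup.map_mk]
      congr 1
      apply Subtype.ext
      rw [conjRes_coe, conjRes_coe, inv_eq_self_of_mul_self (hA2 a ha)]
      calc a * (a * x * a) * a = (a * a) * x * (a * a) := by group
        _ = x := by rw [hA2 a ha]; simp)
    (by
      rintro _ ⟨a, ha, rfl⟩ _ ⟨b, hb, rfl⟩ x
      induction x using QuotientGroup.induction_on with | H x => ?_
      rw [QuotientGroup.map_mk, QuotientGroup.map_mk, QuotientGroup.map_mk, QuotientGroup.map_mk]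
      congr 1
      apply Subtype.ext
      rw [conjRes_coe, conjRes_coe, conjRes_coe, conjRes_coe]
      calc a * (b * x * b⁻¹) * a⁻¹ = (a * b) * x * (a * b)⁻¹ := by group
        _ = (b * a) * x * (b * a)⁻¹ := by rw [hAc a ha b hb]
        _ = b * (a * x * a⁻¹) * b⁻¹ := by group)
    ⊤ hne (fun _ _ _ _ => trivial)
  induction x using QuotientGroup.induction_on with | H x => ?_
  refine ⟨x, x.2, ?_, fun a ha => ?_⟩
  · intro h
    apply hx1
    rw [QuotientGroup.eq_one_iff]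
    exact Subgroup.mem_subgroupOf.mpr h
  · rcases hxw _ ⟨a, ha, rfl⟩ with h | h
    · left
      rw [QuotientGroup.map_mk] at h
      have h2 := QuotientGroup.eq.mp h.symm
      exact Subgroup.mem_subgroupOf.mp h2
    · right
      rw [QuotientGroup.map_mk, ← QuotientGroup.mk_inv] at h
      have h2 := QuotientGroup.eq.mp h.symm
      rw [inv_inv] at h2
      exact Subgroup.mem_subgroupOf.mp h2
theorem eq_one_of_mul_self_of_odd [Finite G] {L : Subgroup G} (hodd : Odd (Nat.card L)) {c : G}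
    (hc : c ∈ L) (h : c * c = 1) : c = 1 := by
  have h1 : orderOf c ∣ 2 := orderOf_dvd_of_pow_eq_one (by rw [pow_two, h])
  have h2 : orderOf c ∣ Nat.card L := Subgroup.orderOf_dvd_natCard L hc
  have h3 : Odd (orderOf c) := hodd.of_dvd_nat h2
  rcases (Nat.dvd_prime Nat.prime_two).mp h1 with h4 | h4
  · exact orderOf_eq_one_iff.mp h4
  · rw [h4] at h3; exact absurd h3 (by decide)

/-- If the involution `a` centralizes the normal subgroup `W` of `L` and `C_L(W)`, it centralizes `L`. -/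
theorem lemmaX [Finite G] {L W : Subgroup G} {a : G} (hodd : Odd (Nat.card L))
    (hLW : L ≤ Subgroup.normalizer (W : Set G)) (haL : a ∈ Subgroup.normalizer (L : Set G))
    (ha2 : a * a = 1) (haW : ∀ w ∈ W, a * w = w * a)
    (haC : ∀ c ∈ L ⊓ Subgroup.centralizer (W : Set G), a * c = c * a) :
    ∀ l ∈ L, a * l = l * a := by
  intro l hl
  have hainv : a⁻¹ = a := inv_eq_self_of_mul_self ha2
  set c := l⁻¹ * (a * l * a⁻¹) with hcdef
  have hcL : c ∈ L := mul_mem (inv_mem hl) (conj_mem_of_mem_normalizer haL hl)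
  have hcW : c ∈ Subgroup.centralizer (W : Set G) := by
    rw [Subgroup.mem_centralizer_iff]
    intro w hw
    have h1 : l * w * l⁻¹ ∈ W := conj_mem_of_mem_normalizer (hLW hl) hw
    have h2 := haW _ h1
    have h3 := haW w hw
    have h3' : a⁻¹ * w = w * a⁻¹ := by rw [hainv]; exact h3
    have h4 : (a * l * a⁻¹) * w = (l * w * l⁻¹) * (a * l * a⁻¹) := by
      calc (a * l * a⁻¹) * w = a * l * (a⁻¹ * w) := by group
        _ = a * l * (w * a⁻¹) := by rw [h3']
        _ = (a * (l * w * l⁻¹)) * l * a⁻¹ := by group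
        _ = ((l * w * l⁻¹) * a) * l * a⁻¹ := by rw [h2]
        _ = (l * w * l⁻¹) * (a * l * a⁻¹) := by group
    calc w * c = l⁻¹ * ((l * w * l⁻¹) * (a * l * a⁻¹)) := by rw [hcdef]; group
      _ = l⁻¹ * ((a * l * a⁻¹) * w) := by rw [h4]
      _ = c * w := by rw [hcdef]; group
  have hac : a * c = c * a := haC c (Subgroup.mem_inf.mpr ⟨hcL, hcW⟩)
  have h5 : a * l = l * c * a := by rw [hcdef]; group
  have h6 : c * c = 1 := by
    have : l = l * (c * c) := by
      calc l = (a * a) * l * (a * a)⁻¹ := by rw [ha2]; simp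
        _ = a * (a * l) * a⁻¹ * a⁻¹ := by group
        _ = a * (l * c * a) * a⁻¹ * a⁻¹ := by rw [h5]
        _ = (a * l) * c * a⁻¹ := by group
        _ = (l * c * a) * c * a⁻¹ := by rw [h5]
        _ = l * c * (a * c) * a⁻¹ := by group
        _ = l * c * (c * a) * a⁻¹ := by rw [hac]
        _ = l * (c * c) := by group
    exact (mul_eq_left.mp this.symm)
  have h7 : c = 1 := eq_one_of_mul_self_of_odd hodd hcL h6
  rw [h5, h7, mul_one]

theorem commutator_lt_self {L : Subgroup G} (hs : Group.IsSolvable L) (hne : L ≠ ⊥) : ⁅L, L⁆ < L := by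
  rw [← Subgroup.nontrivial_iff_ne_bot] at hne
  conv_rhs => rw [← L.range_subtype, MonoidHom.range_eq_map]
  conv_lhs => rw [← L.range_subtype, MonoidHom.range_eq_map]
  rw [← Subgroup.map_commutator, Subgroup.map_subtype_lt_map_subtype]
  exact Group.IsSolvable.commutator_lt_top_of_nontrivial L

theorem normalizer_le_normalizer_commutator [Finite G] (L : Subgroup G) :
    Subgroup.normalizer (L : Set G) ≤ Subgroup.normalizer ((⁅L, L⁆ : Subgroup G) : Set G) := by
  intro g hg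
  rw [mem_normalizer_iff_cj] at hg ⊢
  unfold cj at hg ⊢
  rw [Subgroup.map_commutator, hg]

theorem normalizer_le_normalizer_inf_centralizer (L W : Subgroup G) :
    Subgroup.normalizer (L : Set G) ⊓ Subgroup.normalizer (W : Set G) ≤
      Subgroup.normalizer ((L ⊓ Subgroup.centralizer (W : Set G) : Subgroup G) : Set G) := by
  intro g hg
  obtain ⟨h1, h2⟩ := Subgroup.mem_inf.mp hg
  rw [mem_normalizer_iff_cj] at h1 h2 ⊢
  rw [cj_inf, ← centralizer_cj, h1, h2]

theorem abelian_of_caseII [Finite G] (A L : Subgroup G) (hA2 : ∀ a ∈ A, a * a = 1)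
    (hAc : ∀ a ∈ A, ∀ b ∈ A, a * b = b * a) (hs : Group.IsSolvable L)
    (hAL : A ≤ Subgroup.normalizer (L : Set G))
    (H : ∀ W : Subgroup G, W < L → L ≤ Subgroup.normalizer (W : Set G) →
      A ≤ Subgroup.normalizer (W : Set G) → L ≤ Subgroup.centralizer (W : Set G)) :
    L ≤ Subgroup.centralizer (L : Set G) := by
  by_contra hne
  have hLne : L ≠ ⊥ := by
    rintro rfl
    exact hne bot_le
  have hL' : ⁅L, L⁆ < L := commutator_lt_self hs hLne
  have h1 : L ≤ Subgroup.centralizer ((⁅L, L⁆ : Subgroup G) : Set G) :=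
    H _ hL' (Subgroup.le_normalizer.trans (normalizer_le_normalizer_commutator L))
      (hAL.trans (normalizer_le_normalizer_commutator L))
  set Z := L ⊓ Subgroup.centralizer (L : Set G) with hZdef
  have hL'Z : ⁅L, L⁆ ≤ Z := le_inf hL'.le (Subgroup.le_centralizer_iff.mp h1)
  have hZL : Z < L := lt_of_le_of_ne inf_le_left (fun h => hne (by
    have h2 : Z ≤ Subgroup.centralizer (L : Set G) := inf_le_right
    rwa [h] at h2))
  have hnorm : ∀ W : Subgroup G, Z ≤ W → W ≤ L → L ≤ Subgroup.normalizer (W : Set G) := by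
    intro W hZW hWL l hl
    apply mem_normalizer_of_conj_mem
    intro w hw
    have h2 : ⁅l, w⁆ ∈ ⁅L, L⁆ := Subgroup.commutator_mem_commutator hl (hWL hw)
    have h3 : l * w * l⁻¹ = ⁅l, w⁆ * w := by rw [commutatorElement_def]; group
    rw [h3]
    exact mul_mem (hZW (hL'Z h2)) hw
  have hAZ : A ≤ Subgroup.normalizer (Z : Set G) :=
    (le_inf hAL hAL).trans (normalizer_le_normalizer_inf_centralizer L L)
  obtain ⟨x, hxL, hxZ, hxw⟩ := weight_mod A L Z hA2 hAc hZL
    (by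
      intro x hx y hy
      have h2 : ⁅y⁻¹, x⁻¹⁆ ∈ ⁅L, L⁆ := Subgroup.commutator_mem_commutator (inv_mem hy) (inv_mem hx)
      have h3 : (x * y)⁻¹ * (y * x) = ⁅y⁻¹, x⁻¹⁆ := by rw [commutatorElement_def]; group
      rw [h3]
      exact hL'Z h2)
    (hnorm Z le_rfl hZL.le) hAL hAZ
  set W := Z ⊔ Subgroup.zpowers x with hWdef
  have hxW : x ∈ W := Subgroup.mem_sup_right (Subgroup.mem_zpowers x)
  have hWL : W ≤ L := sup_le hZL.le (by rw [Subgroup.zpowers_le]; exact hxL)
  have hAW : A ≤ Subgroup.normalizer (W : Set G) := by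
    intro a ha
    rw [mem_normalizer_iff_cj]
    apply cj_eq_of_le
    unfold cj
    rw [hWdef, Subgroup.map_sup]
    refine sup_le ?_ ?_
    · exact (mem_normalizer_iff_cj.mp (hAZ ha)).le.trans le_sup_left
    · rw [MonoidHom.map_zpowers, Subgroup.zpowers_le]
      change a * x * a⁻¹ ∈ _
      rcases hxw a ha with h | h
      · have : a * x * a⁻¹ = x * (x⁻¹ * (a * x * a⁻¹)) := by group
        rw [this]
        exact mul_mem hxW (Subgroup.mem_sup_left h)
      · have : a * x * a⁻¹ = x⁻¹ * (x * (a * x * a⁻¹)) := by group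
        rw [this]
        exact mul_mem (inv_mem hxW) (Subgroup.mem_sup_left h)
  have hxc : L ≤ Subgroup.centralizer ({x} : Set G) := by
    rcases eq_or_lt_of_le hWL with h | h
    · rw [← h, hWdef]
      refine sup_le ?_ ?_
      · refine inf_le_right.trans (Subgroup.centralizer_le ?_)
        simpa using hxL
      · rw [Subgroup.zpowers_le, Subgroup.mem_centralizer_iff]
        intro y hy
        rw [Set.mem_singleton_iff] at hy
        rw [hy]
    · refine (H W h (hnorm W le_sup_left hWL) hAW).trans (Subgroup.centralizer_le ?_)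
      simpa using hxW
  apply hxZ
  refine Subgroup.mem_inf.mpr ⟨hxL, ?_⟩
  rw [Subgroup.mem_centralizer_iff]
  intro l hl
  exact ((Subgroup.mem_centralizer_iff.mp (hxc hl)) x rfl).symm
theorem exists_abelian [Finite G] (A : Subgroup G) (hA2 : ∀ a ∈ A, a * a = 1)
    (hAc : ∀ a ∈ A, ∀ b ∈ A, a * b = b * a) :
    ∀ (n : ℕ) (L : Subgroup G), Nat.card L ≤ n → Group.IsSolvable L → Odd (Nat.card L) →
      A ≤ Subgroup.normalizer (L : Set G) →
      ∃ V : Subgroup G, V ≤ L ∧ V ≤ Subgroup.centralizer (V : Set G) ∧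
        A ≤ Subgroup.normalizer (V : Set G) ∧
        ∀ a ∈ A, (∀ v ∈ V, a * v = v * a) → ∀ l ∈ L, a * l = l * a := by
  intro n
  induction n with
  | zero =>
    intro L hL
    have := Nat.card_pos (α := L)
    omega
  | succ n ih =>
    intro L hLn hs hodd hAL
    by_cases h : ∃ W : Subgroup G, W < L ∧ L ≤ Subgroup.normalizer (W : Set G) ∧
        A ≤ Subgroup.normalizer (W : Set G) ∧ ¬ L ≤ Subgroup.centralizer (W : Set G)
    · obtain ⟨W, hWL, hLW, hAW, hnc⟩ := h
      set C := L ⊓ Subgroup.centralizer (W : Set G) with hCdef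
      have hCL : C < L := lt_of_le_of_ne inf_le_left (fun h => hnc (by
        have h2 : C ≤ Subgroup.centralizer (W : Set G) := inf_le_right
        rwa [h] at h2))
      have hcard : ∀ K : Subgroup G, K < L → Nat.card K ≤ n := by
        intro K hK
        by_contra hlt
        have : Nat.card L ≤ Nat.card K := by omega
        exact hK.ne (Subgroup.eq_of_le_of_card_ge hK.le this)
      have hsol : ∀ K : Subgroup G, K ≤ L → Group.IsSolvable K := fun K hK =>
        Group.isSolvable_of_isSolvable_injective (Subgroup.inclusion_injective hK)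
      have hoddK : ∀ K : Subgroup G, K ≤ L → Odd (Nat.card K) := fun K hK =>
        hodd.of_dvd_nat (Subgroup.card_dvd_of_le hK)
      have hAC : A ≤ Subgroup.normalizer (C : Set G) :=
        (le_inf hAL hAW).trans (normalizer_le_normalizer_inf_centralizer L W)
      obtain ⟨V₁, hV₁W, hV₁c, hAV₁, hV₁⟩ := ih W (hcard W hWL) (hsol W hWL.le) (hoddK W hWL.le) hAW
      obtain ⟨V₂, hV₂C, hV₂c, hAV₂, hV₂⟩ := ih C (hcard C hCL) (hsol C hCL.le) (hoddK C hCL.le) hAC
      have h21 : V₂ ≤ Subgroup.centralizer (V₁ : Set G) :=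
        (hV₂C.trans inf_le_right).trans (Subgroup.centralizer_le hV₁W)
      refine ⟨V₁ ⊔ V₂, sup_le (hV₁W.trans hWL.le) (hV₂C.trans hCL.le), ?_, ?_, ?_⟩
      · refine sup_le ?_ ?_
        · rw [Subgroup.le_centralizer_iff]
          exact sup_le hV₁c h21
        · rw [Subgroup.le_centralizer_iff]
          exact sup_le (Subgroup.le_centralizer_iff.mp h21) hV₂c
      · exact (le_inf hAV₁ hAV₂).trans (Subgroup.normalizer_inf_normalizer_le_normalizer_sup V₁ V₂)
      · intro a ha hav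
        exact lemmaX hodd hLW (hAL ha) (hA2 a ha)
          (hV₁ a ha (fun v hv => hav v (Subgroup.mem_sup_left hv)))
          (hV₂ a ha (fun v hv => hav v (Subgroup.mem_sup_right hv)))
    · push Not at h
      exact ⟨L, le_rfl, abelian_of_caseII A L hA2 hAc hs hAL h, hAL, fun _ _ h => h⟩

/-- Choosing `d` weight vectors with trivial common kernel. -/
theorem exists_family [Finite G] (A : Subgroup G) (𝒳 : Set G)
    (hX : ∀ x ∈ 𝒳, ∀ a ∈ A, a * x * a⁻¹ = x ∨ a * x * a⁻¹ = x⁻¹)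
    (hK : ∀ a ∈ A, a ≠ 1 → ∃ x ∈ 𝒳, a * x * a⁻¹ ≠ x) :
    ∀ (d : ℕ) (B : Subgroup G), B ≤ A → Nat.card B = 2 ^ d →
      ∃ x : Fin d → G, (∀ i, x i ∈ 𝒳) ∧ ∀ b ∈ B, (∀ i, b * x i * b⁻¹ = x i) → b = 1 := by
  intro d
  induction d with
  | zero =>
    intro B _ hB
    rw [pow_zero, Subgroup.card_eq_one] at hB
    refine ⟨Fin.elim0, fun i => i.elim0, fun b hb _ => ?_⟩
    rw [hB] at hb
    exact Subgroup.mem_bot.mp hb
  | succ d ih =>
    intro B hBA hB
    have hBne : B ≠ ⊥ := by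
      intro h
      rw [h, Subgroup.card_bot] at hB
      have : 2 ≤ 2 ^ (d + 1) := by
        calc 2 = 2 ^ 1 := by norm_num
          _ ≤ 2 ^ (d + 1) := Nat.pow_le_pow_right (by norm_num) (by omega)
      omega
    obtain ⟨a, haB, ha1⟩ : ∃ x : G, x ∈ B ∧ x ≠ 1 := by
      obtain ⟨x, hx⟩ := Subgroup.ne_bot_iff_exists_ne_one.mp hBne
      exact ⟨x.1, x.2, fun h => hx (Subtype.ext h)⟩
    obtain ⟨x₀, hx₀, hax₀⟩ := hK a (hBA haB) ha1
    have hax₀' : a * x₀ * a⁻¹ = x₀⁻¹ := (hX x₀ hx₀ a (hBA haB)).resolve_left hax₀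
    set B₀ := B ⊓ Subgroup.centralizer ({x₀} : Set G) with hB₀
    have hmem : ∀ b : G, b ∈ Subgroup.centralizer ({x₀} : Set G) ↔ b * x₀ * b⁻¹ = x₀ := by
      intro b
      rw [Subgroup.mem_centralizer_singleton_iff, mul_inv_eq_iff_eq_mul]
    have hidx : B₀.relIndex B = 2 := by
      rw [hB₀, Subgroup.inf_relIndex_left, Subgroup.relIndex_eq_two_iff]
      refine ⟨a, haB, fun b hb => ?_⟩
      rw [hmem, hmem]
      have e : b * a * x₀ * (b * a)⁻¹ = (b * x₀ * b⁻¹)⁻¹ := by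
        calc b * a * x₀ * (b * a)⁻¹ = b * (a * x₀ * a⁻¹) * b⁻¹ := by group
          _ = b * x₀⁻¹ * b⁻¹ := by rw [hax₀']
          _ = (b * x₀ * b⁻¹)⁻¹ := by group
      rw [e]
      have hne : x₀⁻¹ ≠ x₀ := by rw [← hax₀']; exact hax₀
      rcases hX x₀ hx₀ b (hBA hb) with h | h
      · rw [h]
        exact Or.inr ⟨rfl, hne⟩
      · rw [h, inv_inv]
        exact Or.inl ⟨rfl, hne⟩
    have hB₀card : Nat.card B₀ = 2 ^ d := by
      have h1 := Subgroup.relIndex_mul_relIndex ⊥ B₀ B bot_le inf_le_left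
      rw [Subgroup.relIndex_bot_left, Subgroup.relIndex_bot_left, hidx, hB, pow_succ] at h1
      exact Nat.eq_of_mul_eq_mul_right (by norm_num) h1
    obtain ⟨x', hx', hker⟩ := ih B₀ (inf_le_left.trans hBA) hB₀card
    refine ⟨Fin.cons x₀ x', ?_, ?_⟩
    · intro i
      refine Fin.cases ?_ (fun j => ?_) i
      · simpa using hx₀
      · simpa using hx' j
    · intro b hb hall
      apply hker b
      · refine Subgroup.mem_inf.mpr ⟨hb, (hmem b).mpr ?_⟩
        simpa using hall 0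
      · intro i
        simpa using hall i.succ
theorem exists_dual [Finite G] (A : Subgroup G) (hA2 : ∀ a ∈ A, a * a = 1) (d : ℕ)
    (hcard : Nat.card A = 2 ^ d) (x : Fin d → G)
    (hX : ∀ i, ∀ a ∈ A, a * x i * a⁻¹ = x i ∨ a * x i * a⁻¹ = (x i)⁻¹)
    (hker : ∀ b ∈ A, (∀ i, b * x i * b⁻¹ = x i) → b = 1) :
    ∃ a : Fin d → G, (∀ i, a i ∈ A) ∧ (∀ i, a i * x i * (a i)⁻¹ = (x i)⁻¹) ∧
      (∀ i j, i ≠ j → a i * x j * (a i)⁻¹ = x j) ∧ (⨆ i, Subgroup.zpowers (a i)) = A := by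
  classical
  let φ : A → (Fin d → Bool) := fun a i => decide ((a : G) * x i * (a : G)⁻¹ = x i)
  have hconj : ∀ (a b y : G), (a * b) * y * (a * b)⁻¹ = a * (b * y * b⁻¹) * a⁻¹ := by
    intro a b y; group
  have hconjinv : ∀ (a y : G), a * y⁻¹ * a⁻¹ = (a * y * a⁻¹)⁻¹ := by
    intro a y; group
  have hφinj : Function.Injective φ := by
    intro a b hab
    have h1 : (a : G) * b = 1 := by
      apply hker _ (mul_mem a.2 b.2)
      intro i
      have h2 : ((a : G) * x i * (a : G)⁻¹ = x i) ↔ ((b : G) * x i * (b : G)⁻¹ = x i) := by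
        have := congrFun hab i
        simpa [φ] using this
      rw [hconj]
      rcases hX i b b.2 with hb | hb
      · rw [hb]; exact h2.mpr hb
      · rw [hb, hconjinv]
        rcases hX i a a.2 with ha | ha
        · have := h2.mp ha
          rw [ha, ← hb, this]
        · rw [ha, inv_inv]
    apply Subtype.ext
    have h3 : (a : G) = (b : G)⁻¹ := eq_inv_of_mul_eq_one_left h1
    rw [h3, inv_eq_self_of_mul_self (hA2 b b.2)]
  have hφbij : Function.Bijective φ := by
    apply hφinj.bijective_of_nat_card_le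
    rw [hcard]
    simp
  have hex : ∀ i : Fin d, ∃ a : A, ∀ j, ((a : G) * x j * (a : G)⁻¹ = x j) ↔ j ≠ i := by
    intro i
    obtain ⟨a, ha⟩ := hφbij.2 (fun j => decide (j ≠ i))
    refine ⟨a, fun j => ?_⟩
    have := congrFun ha j
    exact decide_eq_decide.mp this
  choose a ha using hex
  have hinv : ∀ i, (a i : G) * x i * (a i : G)⁻¹ = (x i)⁻¹ := by
    intro i
    exact (hX i (a i) (a i).2).resolve_left (fun h => ((ha i i).mp h) rfl)
  have hfix : ∀ i j, i ≠ j → (a i : G) * x j * (a i : G)⁻¹ = x j := by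
    intro i j hij
    exact (ha i j).mpr (Ne.symm hij)
  refine ⟨fun i => (a i : G), fun i => (a i).2, hinv, hfix, ?_⟩
  apply le_antisymm
  · exact iSup_le (fun i => by rw [Subgroup.zpowers_le]; exact (a i).2)
  · have key : ∀ S : Finset (Fin d), ∀ b ∈ A, (∀ j, j ∉ S → b * x j * b⁻¹ = x j) →
        b ∈ ⨆ i, Subgroup.zpowers (a i : G) := by
      intro S
      induction S using Finset.induction_on with
      | empty =>
        intro b hb h
        rw [hker b hb (fun i => h i (by simp))]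
        exact one_mem _
      | insert i S hiS ih =>
        intro b hb h
        rcases hX i b hb with hbi | hbi
        · apply ih b hb
          intro j hj
          by_cases hji : j = i
          · rw [hji]; exact hbi
          · exact h j (by simp [hji, hj])
        · have hmem : (a i : G) ∈ ⨆ i, Subgroup.zpowers (a i : G) :=
            Subgroup.mem_iSup_of_mem i (Subgroup.mem_zpowers _)
          have h1 : b * (a i : G) ∈ ⨆ i, Subgroup.zpowers (a i : G) := by
            apply ih _ (mul_mem hb (a i).2)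
            intro j hj
            rw [hconj]
            by_cases hji : j = i
            · rw [hji, hinv, hconjinv, hbi, inv_inv]
            · rw [hfix i j (Ne.symm hji)]
              exact h j (by simp [hji, hj])
          have h2 : b = (b * (a i : G)) * (a i : G)⁻¹ := by group
          rw [h2]
          exact mul_mem h1 (inv_mem hmem)
    intro b hb
    exact key Finset.univ b hb (fun j hj => absurd (Finset.mem_univ j) hj)

theorem commute_sup {a x b y : G} (h1 : a * b = b * a) (h2 : a * y = y * a) (h3 : x * b = b * x)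
    (h4 : x * y = y * x) :
    ∀ u ∈ Subgroup.zpowers a ⊔ Subgroup.zpowers x, ∀ v ∈ Subgroup.zpowers b ⊔ Subgroup.zpowers y,
      u * v = v * u := by
  have step : ∀ g : G, a * g = g * a → x * g = g * x →
      g ∈ Subgroup.centralizer ((Subgroup.zpowers a ⊔ Subgroup.zpowers x : Subgroup G) : Set G) := by
    intro g hag hxg
    have : Subgroup.zpowers a ⊔ Subgroup.zpowers x ≤ Subgroup.centralizer ({g} : Set G) := by
      refine sup_le ?_ ?_
      · rw [Subgroup.zpowers_le, Subgroup.mem_centralizer_singleton_iff]; exact hag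
      · rw [Subgroup.zpowers_le, Subgroup.mem_centralizer_singleton_iff]; exact hxg
    rw [Subgroup.mem_centralizer_iff]
    intro h hh
    exact (Subgroup.mem_centralizer_singleton_iff.mp (this hh))
  have hle : Subgroup.zpowers b ⊔ Subgroup.zpowers y ≤
      Subgroup.centralizer ((Subgroup.zpowers a ⊔ Subgroup.zpowers x : Subgroup G) : Set G) := by
    refine sup_le ?_ ?_
    · rw [Subgroup.zpowers_le]; exact step b h1 h3
    · rw [Subgroup.zpowers_le]; exact step y h2 h4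
  intro u hu v hv
  exact (Subgroup.mem_centralizer_iff.mp (hle hv)) u hu

theorem dihedral_iso [Finite G] {a x : G} (ha2 : a * a = 1) (ha1 : a ≠ 1) (hx1 : x ≠ 1)
    (hne : x⁻¹ ≠ x) (hinv : a * x * a⁻¹ = x⁻¹) :
    Nonempty (↥(Subgroup.zpowers a ⊔ Subgroup.zpowers x) ≃* DihedralGroup (orderOf x)) := by
  have hainv : a⁻¹ = a := inv_eq_self_of_mul_self ha2
  have hax2 : (a * x) * (a * x) = 1 := by
    calc (a * x) * (a * x) = (a * x * a) * x := by group
      _ = (a * x * a⁻¹) * x := by rw [hainv]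
      _ = 1 := by rw [hinv]; group
  have hax1 : a * x ≠ 1 := by
    intro h
    have hxa : x = a := by
      have : x = a⁻¹ := eq_inv_of_mul_eq_one_right h
      rw [this, hainv]
    apply hne
    rw [hxa, hainv]
  have hne2 : a ≠ a * x := by
    intro h
    exact hx1 (mul_eq_left.mp h.symm)
  have hprod : a * (a * x) = x := by rw [← mul_assoc, ha2, one_mul]
  obtain ⟨e⟩ := Cfsg.Agent.S0206.result a (a * x) (Lib.Helper5Dihedral.orderOf_eq_two ha2 ha1)
    (Lib.Helper5Dihedral.orderOf_eq_two hax2 hax1) hne2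
  rw [hprod] at e
  have hcl : Subgroup.zpowers a ⊔ Subgroup.zpowers x = Subgroup.closure ({a, a * x} : Set G) := by
    apply le_antisymm
    · have h1 : a ∈ Subgroup.closure ({a, a * x} : Set G) := Subgroup.subset_closure (by simp)
      have h2 : a * x ∈ Subgroup.closure ({a, a * x} : Set G) := Subgroup.subset_closure (by simp)
      refine sup_le ?_ ?_
      · rw [Subgroup.zpowers_le]; exact h1
      · rw [Subgroup.zpowers_le]
        have h3 := mul_mem h1 h2
        rwa [hprod] at h3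
    · rw [Subgroup.closure_le]
      have h1 : a ∈ Subgroup.zpowers a ⊔ Subgroup.zpowers x :=
        Subgroup.mem_sup_left (Subgroup.mem_zpowers a)
      have h2 : x ∈ Subgroup.zpowers a ⊔ Subgroup.zpowers x :=
        Subgroup.mem_sup_right (Subgroup.mem_zpowers x)
      rintro y (rfl | hy)
      · exact h1
      · rw [Set.mem_singleton_iff] at hy
        rw [hy]
        exact mul_mem h1 h2
  exact ⟨(MulEquiv.subgroupCongr hcl).trans e⟩

end Ambient


/-- Let G be finite, L ≤ G solvable of odd order, and A an elementary abelian 2-subgroup of order 2^d (d ≥ 1) normalizing L with C_A(L) = 1. Then there are subgroups A_1, …, A_d of A of order 2 generating A and subgroups L_1, …, L_d of L such that each A_i ⊔ L_i is dihedral of order 2 n_i with n_i odd and at least 3, and A_i ⊔ L_i commutes elementwise with A_j ⊔ L_j for i ≠ j. -/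
theorem result {G : Type*} [Group G] [Finite G] (L A : Subgroup G) (hLs : Group.IsSolvable ↥L) (hLodd : Odd (Nat.card ↥L)) (hA : Cfsg.IsElementaryAbelian 2 A) (d : ℕ) (hd : 1 ≤ d) (hAd : Nat.card ↥A = 2 ^ d) (hAL : A ≤ Subgroup.normalizer (L : Set G)) (hfaith : A ⊓ Subgroup.centralizer (L : Set G) = ⊥) : ∃ (Ai : Fin d → Subgroup G) (Li : Fin d → Subgroup G) (n : Fin d → ℕ), (∀ i, Ai i ≤ A ∧ Nat.card ↥(Ai i) = 2 ∧ Li i ≤ L ∧ Odd (n i) ∧ 3 ≤ n i ∧ Nonempty (↥(Ai i ⊔ Li i) ≃* DihedralGroup (n i))) ∧ (⨆ i, Ai i) = A ∧ ∀ i j, i ≠ j → ∀ x ∈ Ai i ⊔ Li i, ∀ y ∈ Ai j ⊔ Li j, x * y = y * x := by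
  obtain ⟨hAcomm, hA2'⟩ := hA
  have hA2 : ∀ a ∈ A, a * a = 1 := fun a ha => by rw [← pow_two]; exact hA2' a ha
  have hAc : ∀ a ∈ A, ∀ b ∈ A, a * b = b * a := fun a ha b hb => setLike_mul_comm ha hb
  obtain ⟨V, hVL, hVc, hAV, hV⟩ := exists_abelian A hA2 hAc (Nat.card L) L le_rfl hLs hLodd hAL
  have hVc' : ∀ x ∈ V, ∀ y ∈ V, x * y = y * x := fun x hx y hy =>
    (Subgroup.mem_centralizer_iff.mp (hVc hy)) x hx
  have hinvne : ∀ x ∈ L, x ≠ 1 → x⁻¹ ≠ x := by
    intro x hx hx1 h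
    apply hx1
    apply eq_one_of_mul_self_of_odd hLodd hx
    calc x * x = x⁻¹ * x := by rw [h]
      _ = 1 := inv_mul_cancel x
  let 𝒳 : Set G := {x | x ∈ V ∧ x ≠ 1 ∧ ∀ a ∈ A, a * x * a⁻¹ = x ∨ a * x * a⁻¹ = x⁻¹}
  have hK : ∀ a ∈ A, a ≠ 1 → ∃ x ∈ 𝒳, a * x * a⁻¹ ≠ x := by
    intro a ha ha1
    have h1 : ¬ ∀ v ∈ V, a * v = v * a := by
      intro h
      apply ha1
      have h2 : a ∈ A ⊓ Subgroup.centralizer (L : Set G) := by
        refine Subgroup.mem_inf.mpr ⟨ha, ?_⟩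
        rw [Subgroup.mem_centralizer_iff]
        intro l hl
        exact (hV a ha h l hl).symm
      rwa [hfaith, Subgroup.mem_bot] at h2
    push Not at h1
    obtain ⟨v, hv, hav⟩ := h1
    obtain ⟨x, hxV, hx1, hx0, hxw⟩ := weight_in_abelian A V hA2 hAc hVc' hAV a ha v hv
      (fun h => hav (mul_inv_eq_iff_eq_mul.mp h))
    exact ⟨x, ⟨hxV, hx1, hxw⟩, by rw [hx0]; exact hinvne x (hVL hxV) hx1⟩
  obtain ⟨x, hx𝒳, hker⟩ := exists_family A 𝒳 (fun x hx => hx.2.2) hK d A le_rfl hAd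
  obtain ⟨a, haA, hinv, hfix, hsup⟩ := exists_dual A hA2 d hAd x (fun i => (hx𝒳 i).2.2) hker
  have hxL : ∀ i, x i ∈ L := fun i => hVL (hx𝒳 i).1
  have hx1 : ∀ i, x i ≠ 1 := fun i => (hx𝒳 i).2.1
  have ha1 : ∀ i, a i ≠ 1 := by
    intro i h
    have := hinv i
    rw [h] at this
    simp only [one_mul, inv_one, mul_one] at this
    exact hinvne _ (hxL i) (hx1 i) this.symm
  refine ⟨fun i => Subgroup.zpowers (a i), fun i => Subgroup.zpowers (x i), fun i => orderOf (x i),
    ?_, hsup, ?_⟩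
  · intro i
    have hodd : Odd (orderOf (x i)) := hLodd.of_dvd_nat (Subgroup.orderOf_dvd_natCard L (hxL i))
    refine ⟨by rw [Subgroup.zpowers_le]; exact haA i, ?_, by rw [Subgroup.zpowers_le]; exact hxL i,
      hodd, ?_, dihedral_iso (hA2 _ (haA i)) (ha1 i) (hx1 i) (hinvne _ (hxL i) (hx1 i)) (hinv i)⟩
    · rw [Nat.card_zpowers]
      exact Lib.Helper5Dihedral.orderOf_eq_two (hA2 _ (haA i)) (ha1 i)
    · have h1 : orderOf (x i) ≠ 1 := fun h => hx1 i (orderOf_eq_one_iff.mp h)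
      obtain ⟨k, hk⟩ := hodd
      change 3 ≤ orderOf (x i)
      omega
  · intro i j hij
    apply commute_sup
    · exact hAc _ (haA i) _ (haA j)
    · exact mul_inv_eq_iff_eq_mul.mp (hfix i j hij)
    · exact (mul_inv_eq_iff_eq_mul.mp (hfix j i (Ne.symm hij))).symm
    · exact hVc' _ (hx𝒳 i).1 _ (hx𝒳 j).1

end Cfsg.Agent.S1349
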