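import Cfsg.Statements.S1355
import Cfsg.Agent.Lib.Helper51BG16
import Cfsg.Agent.Lib.Helper3BGRankcent
import Cfsg.Agent.S1351
import Cfsg.Agent.S1352
import Cfsg.Agent.S1415
import Cfsg.Agent.S1437

set_option autoImplicit false
open Cfsg

namespace Cfsg.Agent.S1355

open Subgroup
open Cfsg.Agent.Lib.Helper30Trans Cfsg.Agent.Lib.Helper24BG Cfsg.Agent.Lib.Helper2BGa
open Cfsg.Agent.Lib.Helper2BGb Cfsg.Agent.Lib.Helper51BG16

theorem nil_of_le {X : Type*} [Group X] {A B : Subgroup X} (h : A ≤ B) (hB : Group.IsNilpotent B) :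
    Group.IsNilpotent A := by
  have h3 : Group.IsNilpotent (inclusion h).range := inferInstance
  exact (Group.isNilpotent_congr (MonoidHom.ofInjective (inclusion_injective h))).mpr h3

theorem nil_of_factor {G : Type*} [Group G] {M X : Subgroup G} (hXM : X ≤ M)
    (hX : Group.IsNilpotent X)
    (h : ∀ m ∈ ⁅M, M⁆, ∃ f ∈ fittingHallOf M, ∃ x ∈ X, m = f * x) :
    Group.IsNilpotent ↥((commutator ↥M).map (QuotientGroup.mk' (fittingHall ↥M))) := by
  have h1 : (commutator ↥M).map (QuotientGroup.mk' (fittingHall ↥M)) ≤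
      (X.subgroupOf M).map (QuotientGroup.mk' (fittingHall ↥M)) := by
    rintro _ ⟨m, hm, rfl⟩
    have hm' : (m : G) ∈ ⁅M, M⁆ := by
      rw [← map_subtype_commutator]
      exact ⟨m, hm, rfl⟩
    obtain ⟨f, hf, x, hx, hmfx⟩ := h _ hm'
    obtain ⟨f', hf', rfl⟩ := hf
    refine ⟨⟨x, hXM hx⟩, mem_subgroupOf.mpr hx, ?_⟩
    have e : m = f' * ⟨x, hXM hx⟩ := Subtype.ext hmfx
    have e1 : QuotientGroup.mk' (fittingHall ↥M) f' = 1 := (QuotientGroup.eq_one_iff f').mpr hf'
    rw [e, map_mul, e1, one_mul]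
  have h2 : Group.IsNilpotent (X.subgroupOf M) :=
    (Group.isNilpotent_congr (subgroupOfEquivOfLe hXM)).mpr hX
  have h3 : Group.IsNilpotent ((X.subgroupOf M).map (QuotientGroup.mk' (fittingHall ↥M))) :=
    Group.nilpotent_of_surjective ((QuotientGroup.mk' (fittingHall ↥M)).subgroupMap _)
      (MonoidHom.subgroupMap_surjective _ _)
  exact nil_of_le h1 h3

/-- Let G be a minimal simple group of odd order and M a maximal subgroup. Then the largest normal nilpotent Hall subgroup M_F of M is nontrivial and contained in M_σ, M_σ is contained in the derived subgroup M', M' is proper in M, and the image of M' in M/M_F is nilpotent. -/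
theorem result {G : Type*} [Group G] [Finite G] (hG : Cfsg.IsMinSimpleOddOrder G)
    (M : Subgroup G) (hM : IsCoatom M) :
    Cfsg.fittingHallOf M ≠ ⊥ ∧ Cfsg.fittingHallOf M ≤ Cfsg.sigmaCore M ∧ Cfsg.sigmaCore M ≤ ⁅M, M⁆ ∧ ⁅M, M⁆ < M ∧
      Group.IsNilpotent ↥((commutator ↥M).map (QuotientGroup.mk' (Cfsg.fittingHall ↥M))) := by
  have hs : Group.IsSolvable M := sol hG hM.1
  have h2 := fittingHallOf_le_sigmaCore hG hM
  have h3 := sigmaCore_le_derived hG hM
  have h4 : ⁅M, M⁆ < M := by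
    have hnt : Nontrivial M :=
      (nontrivial_iff_ne_bot _).mpr (Cfsg.Agent.Lib.Helper3BGNotuniq.coatom_ne_bot hG hM)
    have h1 := Group.IsSolvable.commutator_lt_top_of_nontrivial (G := M)
    refine lt_of_le_of_ne (Cfsg.Agent.Lib.Helper3BGRankcent.derived_le M) (fun h => h1.ne ?_)
    apply map_injective (subtype_injective M)
    rw [map_subtype_commutator, h, ← MonoidHom.range_eq_map, range_subtype]
  obtain ⟨⟨K, hK⟩, hKc⟩ := Cfsg.Agent.S1351.result hG M hM
  obtain ⟨⟨U, hKU⟩, -⟩ := Cfsg.Agent.S1352.result hG M hM K (hKc K hK) hK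
  by_cases hF : fittingHallOf M = sigmaCore M
  · refine ⟨?_, h2, h3, h4, ?_⟩
    · rw [hF]
      exact Cfsg.Agent.Lib.Helper3BGNotuniq.sigmaCore_ne_bot hG hM
    · have hE := compl_KU hG hM hKU
      obtain ⟨hnil, -, -⟩ := Cfsg.Agent.S1415.result hG M hM (K ⊔ U) hE
      have hEM : K ⊔ U ≤ M := hE.1
      have hE'M : ⁅K ⊔ U, K ⊔ U⁆ ≤ M :=
        (Cfsg.Agent.Lib.Helper3BGRankcent.derived_le _).trans hEM
      apply nil_of_factor hE'M hnil
      intro m hm
      have h5 := commutator_le_sup hEM (le_normalizer_sigmaCore M) hE.2.2.2 hm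
      rw [Cfsg.Agent.Lib.Helper30SZ.mem_sup_iff (hE'M.trans (le_normalizer_sigmaCore M))] at h5
      obtain ⟨n, hn, a, ha, rfl⟩ := h5
      exact ⟨n, hF ▸ hn, a, ha, rfl⟩
  · obtain ⟨-, hMs, -, hq, -, -, Q, hQF, hQn, hQp, hQi, hD⟩ :=
      Cfsg.Agent.S1437.result hG M hM K U hKU hF
    obtain ⟨q, hqdef⟩ : ∃ q, q = Nat.card ↥(sigmaCore M ⊓ centralizer (K : Set G)) := ⟨_, rfl⟩
    rw [← hqdef] at hq hQp hQi
    have : Fact q.Prime := ⟨hq⟩
    have hQσ : Q ≤ sigmaCore M := hQF.trans h2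
    have hσQ : sigmaCore M ≤ normalizer (Q : Set G) := (sigmaCore_le M).trans hQn
    have hcop : (Nat.card Q).Coprime (Q.relIndex (sigmaCore M)) := by
      obtain ⟨n, hn⟩ := IsPGroup.iff_card.mp hQp
      rw [hn]
      exact Nat.Coprime.pow_left _ ((Nat.Prime.coprime_iff_not_dvd hq).mpr hQi)
    obtain ⟨D, hDσ, hQD, hcard⟩ := Cfsg.Agent.Lib.Helper2BGc.exists_compl_of_normal_hall hQσ hσQ hcop
    have hidx : Q.relIndex (sigmaCore M) = Nat.card D := by
      have h5 := Cfsg.Agent.Lib.Helper3BGNotuniq.card_mul_relIndex_of_le hQσ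
      rw [← hcard] at h5
      exact Nat.eq_of_mul_eq_mul_left Nat.card_pos h5
    have hDQ : D ≤ normalizer (Q : Set G) := hDσ.trans hσQ
    have hsup : Q ⊔ D = sigmaCore M := by
      apply eq_of_le_of_card_ge (sup_le hQσ hDσ)
      rw [Cfsg.Agent.Lib.Helper30SZ.card_sup hDQ (by rw [← hidx]; exact hcop.symm), hcard]
    have hcompl : IsComplIn Q D (sigmaCore M) := by
      refine ⟨hQσ, hDσ, hQD, ?_⟩
      intro m hm
      rw [← hsup, Cfsg.Agent.Lib.Helper30SZ.mem_sup_iff hDQ] at hm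
      exact hm
    obtain ⟨hDnil, -, hlt, -⟩ := hD D hcompl
    refine ⟨?_, h2, h3, h4, ?_⟩
    · intro h0
      have hQ0 : Q = ⊥ := by
        rw [eq_bot_iff, ← h0]
        exact hQF
      rw [hQ0] at hlt
      exact not_lt_bot hlt
    · apply nil_of_factor (hDσ.trans (sigmaCore_le M)) hDnil
      intro m hm
      rw [← hMs] at hm
      obtain ⟨a, ha, b, hb, rfl⟩ := hcompl.2.2.2 m hm
      exact ⟨a, hQF ha, b, hb, rfl⟩

end Cfsg.Agent.S1355
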