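import Cfsg.Statements.S1371
import Cfsg.Agent.S1370

set_option autoImplicit false
open Cfsg

namespace Cfsg.Agent.S1371

/-- Let G be a minimal simple group of odd order, M a maximal subgroup with standard factorisation M = K U M_σ, K ≠ 1, K* = M_σ ∩ C_G(K), and Ẑ the set of elements of K K* outside K ∪ K*. Then the union of the M-conjugates of Ẑ equals A₀(M) with A(M) removed, and it is a TI-subset of G. -/
theorem result {G : Type*} [Group G] [Finite G] (hG : Cfsg.IsMinSimpleOddOrder G)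
    (M : Subgroup G) (hM : IsCoatom M) (K U : Subgroup G) (hKU : Cfsg.IsSigmaDecomposition M K U) (hK1 : K ≠ ⊥) :
    {a : G | ∃ m ∈ M, ∃ z ∈ ((↑(K ⊔ (Cfsg.sigmaCore M ⊓ Subgroup.centralizer (K : Set G))) : Set G) \ ((K : Set G) ∪ ↑(Cfsg.sigmaCore M ⊓ Subgroup.centralizer (K : Set G)))), a = m * z * m⁻¹} = Cfsg.sigmaA0 M K \ Cfsg.sigmaA M U ∧
      Cfsg.IsTISubset (Cfsg.sigmaA0 M K \ Cfsg.sigmaA M U) := by
  classical
  have hEq : {a : G | ∃ m ∈ M, ∃ z ∈ ((↑(K ⊔ (Cfsg.sigmaCore M ⊓ Subgroup.centralizer (K : Set G))) : Set G) \ ((K : Set G) ∪ ↑(Cfsg.sigmaCore M ⊓ Subgroup.centralizer (K : Set G)))), a = m * z * m⁻¹} = Cfsg.sigmaA0 M K \ Cfsg.sigmaA M U := by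
    ext a
    constructor
    · rintro ⟨m, hm, z, hz, rfl⟩
      obtain ⟨x, hx, y, hy, hx1, hy1, rfl⟩ :=
        Cfsg.Agent.Lib.Helper27BG16basic.exists_mul_of_mem_Zhat hz
      have hyMs : y ∈ Cfsg.sigmaCore M := (Subgroup.mem_inf.mp hy).1
      have hxy := Cfsg.Agent.S1370.commute_K_Ks hx hy
      have hzM : x * y ∈ M := Cfsg.Agent.S1370.Z_le hKU hz.1
      have hhat : m * (x * y) * m⁻¹ ∈ Cfsg.sigmaHat M := by
        refine ⟨mul_mem (mul_mem hm hzM) (inv_mem hm), m * y * m⁻¹, ?_, ?_, ?_⟩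
        · exact (Subgroup.mem_normalizer_iff.mp
            (Cfsg.Agent.Lib.Helper2BGb.le_normalizer_sigmaCore M hm) y).mp hyMs
        · intro h
          exact hy1 (conj_eq_one_iff.mp h)
        · have e : (x * y) * y = y * (x * y) := by
            rw [← mul_assoc, hxy.eq]
          calc m * (x * y) * m⁻¹ * (m * y * m⁻¹) = m * ((x * y) * y) * m⁻¹ := by group
            _ = m * (y * (x * y)) * m⁻¹ := by rw [e]
            _ = m * y * m⁻¹ * (m * (x * y) * m⁻¹) := by group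
      refine ⟨⟨hhat, ?_⟩, ?_⟩
      · rintro ⟨k, hk, hk1, m', hm', e⟩
        have e1 : (m * (x * y) * m⁻¹) ^ (Nat.card K) = m * y ^ (Nat.card K) * m⁻¹ := by
          rw [conj_pow, hxy.mul_pow, Cfsg.Agent.S1370.pow_card_of_mem hx, one_mul]
        have e2 : (m' * k * m'⁻¹) ^ (Nat.card K) = 1 := by
          rw [conj_pow, Cfsg.Agent.S1370.pow_card_of_mem hk, mul_one, mul_inv_cancel]
        rw [e, e2] at e1
        have h3 : y ^ (Nat.card K) = 1 := conj_eq_one_iff.mp e1.symm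
        exact hy1 (Cfsg.Agent.S1370.eq_one_of_pow hy
          (Cfsg.Agent.S1370.coprime_K_Ks hG hM hKU).symm h3)
      · rintro ⟨-, h⟩
        have h1 : x * y ∈ U ⊔ Cfsg.sigmaCore M :=
          (Subgroup.mem_normalizer_iff.mp
            (Cfsg.Agent.Lib.Helper27BG16basic.normal_UMs hKU hm) _).mpr h
        have h2 : x ∈ U ⊔ Cfsg.sigmaCore M := by
          have := mul_mem h1 (inv_mem (Subgroup.mem_sup_right (S := U) hyMs))
          rwa [mul_inv_cancel_right] at this
        have h3 : x ∈ K ⊓ (U ⊔ Cfsg.sigmaCore M) := Subgroup.mem_inf.mpr ⟨hx, h2⟩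
        rw [Cfsg.Agent.Lib.Helper27BG16basic.K_inf_UMs hG hM hKU, Subgroup.mem_bot] at h3
        exact hx1 h3
    · rintro ⟨⟨hhat, hnc⟩, hnA⟩
      have haM : a ∈ M := hhat.1
      have haN : a ∉ U ⊔ Cfsg.sigmaCore M := fun h => hnA ⟨hhat, h⟩
      have hc1 : a ^ (Nat.card U * Nat.card (Cfsg.sigmaCore M)) ≠ 1 := by
        intro h
        apply haN
        have h2 : Subgroup.zpowers a ≤ U ⊔ Cfsg.sigmaCore M := by
          refine Cfsg.Agent.Lib.Helper27BG16basic.le_UMs hG hM hKU (Subgroup.zpowers_le.mpr haM) ?_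
          intro p hp hd
          rw [Nat.card_zpowers] at hd
          rcases (Nat.Prime.dvd_mul hp).mp (hd.trans (orderOf_dvd_of_pow_eq_one h)) with h | h
          · exact (Cfsg.Agent.Lib.Helper27BG16basic.U_primes hG hM hKU p hp h).1
          · exact fun hk => Cfsg.Agent.Lib.Helper27BG16basic.kappa_not_sigma hk
              (Cfsg.Agent.Lib.Helper2BGb.card_sigmaCore M p hp h)
        exact h2 (Subgroup.mem_zpowers a)
      have hc2 : (a ^ (Nat.card U * Nat.card (Cfsg.sigmaCore M))) ^ (Nat.card K) = 1 := by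
        rw [← pow_mul]
        have e : Nat.card U * Nat.card (Cfsg.sigmaCore M) * Nat.card K = Nat.card M := by
          rw [Cfsg.Agent.Lib.Helper27BG16basic.card_eq hG hM hKU]; ring
        rw [e]
        exact Cfsg.Agent.S1370.pow_card_of_mem haM
      obtain ⟨m, hm, hmK⟩ := Cfsg.Agent.Lib.Helper27BG16basic.exists_cj_le_K hG hM hKU.hall
        (Y := Subgroup.zpowers (a ^ (Nat.card U * Nat.card (Cfsg.sigmaCore M))))
        (Subgroup.zpowers_le.mpr (pow_mem haM _)) (by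
          intro p hp hd
          rw [Nat.card_zpowers] at hd
          exact Cfsg.Agent.Lib.Helper27BG16basic.K_primes hKU p hp
            (hd.trans (orderOf_dvd_of_pow_eq_one hc2)))
      have hk : m * a ^ (Nat.card U * Nat.card (Cfsg.sigmaCore M)) * m⁻¹ ∈ K :=
        hmK (Cfsg.Agent.Lib.Helper30Trans.conj_mem_cj (Subgroup.mem_zpowers _))
      have hk1 : m * a ^ (Nat.card U * Nat.card (Cfsg.sigmaCore M)) * m⁻¹ ≠ 1 :=
        fun h => hc1 (conj_eq_one_iff.mp h)
      have h54 := (Cfsg.Agent.S1354.result hG M hM K hKU.cyclic hKU.hall).2 hK1 _ hk hk1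
      have hz : m * a * m⁻¹ ∈ K ⊔ (Cfsg.sigmaCore M ⊓ Subgroup.centralizer (K : Set G)) := by
        rw [← h54]
        refine Subgroup.mem_inf.mpr ⟨mul_mem (mul_mem hm haM) (inv_mem hm), ?_⟩
        rw [Subgroup.mem_centralizer_iff]
        intro h hh
        rw [Set.mem_singleton_iff] at hh
        rw [hh, ← conj_pow]
        exact ((Commute.refl (m * a * m⁻¹)).pow_left _).eq
      refine ⟨m⁻¹, inv_mem hm, m * a * m⁻¹, ⟨hz, ?_⟩, by group⟩
      rintro (h | h)
      · apply hnc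
        refine ⟨m * a * m⁻¹, h, ?_, m⁻¹, inv_mem hm, by group⟩
        intro h1
        apply haN
        rw [conj_eq_one_iff.mp h1]
        exact one_mem _
      · apply haN
        have h1 : m * a * m⁻¹ ∈ Cfsg.sigmaCore M := (Subgroup.mem_inf.mp h).1
        exact Subgroup.mem_sup_right ((Subgroup.mem_normalizer_iff.mp
          (Cfsg.Agent.Lib.Helper2BGb.le_normalizer_sigmaCore M hm) a).mpr h1)
  refine ⟨hEq, ?_⟩
  rw [← hEq]
  intro g hg t ht hgt
  exfalso
  obtain ⟨m, hm, z, hz, rfl⟩ := ht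
  obtain ⟨m', hm', z', hz', e⟩ := hgt
  have hh : (m'⁻¹ * g * m) * z * (m'⁻¹ * g * m)⁻¹ = z' := by
    have e' : z' = m'⁻¹ * (m' * z' * m'⁻¹) * m' := by group
    rw [e', ← e]; group
  have hZ := Cfsg.Agent.S1370.key hG M hM K U hKU hK1 hz (by rw [hh]; exact hz')
  have hgM : g ∈ M := by
    have h1 := Cfsg.Agent.S1370.Z_le hKU hZ
    have h2 := mul_mem (mul_mem hm' h1) (inv_mem hm)
    have e2 : m' * (m'⁻¹ * g * m) * m⁻¹ = g := by group
    rwa [e2] at h2
  apply hg
  rw [Subgroup.mem_set_normalizer_iff]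
  intro h
  constructor
  · rintro ⟨n, hn, w, hw, rfl⟩
    exact ⟨g * n, mul_mem hgM hn, w, hw, by group⟩
  · rintro ⟨n, hn, w, hw, e3⟩
    refine ⟨g⁻¹ * n, mul_mem (inv_mem hgM) hn, w, hw, ?_⟩
    have e4 : h = g⁻¹ * (g * h * g⁻¹) * g := by group
    rw [e4, e3]; group

end Cfsg.Agent.S1371
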