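import Cfsg.Statements.S1376
import Cfsg.Agent.Lib.Helper11BG76Defs
import Cfsg.Agent.Lib.Helper11BG76basic
import Cfsg.Agent.Lib.Helper11BG76tau2
import Cfsg.Agent.Lib.Helper38BG76qsigma
import Cfsg.Agent.Lib.Helper38BG76abel
import Cfsg.Agent.Lib.Helper60BG76setup
import Cfsg.Agent.Lib.Helper27BG76frobc
import Cfsg.Agent.Lib.Helper27BG76nil
import Cfsg.Agent.Lib.Helper27BG76notTI
import Cfsg.Agent.Lib.Helper27BG76reg
import Cfsg.Agent.Lib.Helper1FrobConj

set_option autoImplicit false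
open Cfsg

namespace Cfsg.Agent.S1376

/-- Let G be a minimal simple group of odd order, M a maximal subgroup, x ≠ 1 in M_σ with C_G(x) not contained in M, and N a maximal subgroup containing C_G(x) with κ(N) nonempty. Then κ(M) is empty, M has a cyclic Frobenius complement (M is a Frobenius group), and M_F is not a TI-subset of G. -/
theorem result {G : Type*} [Group G] [Finite G] (hG : Cfsg.IsMinSimpleOddOrder G)
    (M : Subgroup G) (hM : IsCoatom M) (x : G) (hx : x ∈ Cfsg.sigmaCore M) (hx1 : x ≠ 1) (hxM : ¬ Subgroup.centralizer ({x} : Set G) ≤ M)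
    (N : Subgroup G) (hN : IsCoatom N) (hxN : Subgroup.centralizer ({x} : Set G) ≤ N) (hkN : (Cfsg.kappa N).Nonempty) :
    Cfsg.kappa M = ∅ ∧ (∃ E : Subgroup ↥M, Cfsg.IsFrobeniusComplement E ∧ IsCyclic E) ∧ ¬ Cfsg.IsTISubset (Cfsg.fittingHallOf M : Set G) := by
  obtain ⟨K, U, Ns, A, p, hcfg⟩ := Cfsg.Agent.Lib.Helper60BG76setup.setup hG hM hx hx1 hxM hN hxN hkN
  have hb := Cfsg.Agent.Lib.Helper11BG76basic.basic hG hcfg
  have hD1 : M ⊓ Ns ≠ ⊥ := by
    intro h0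
    exact hcfg.hK1 (le_bot_iff.1 (h0 ▸ hb.KD))
  have hS1 : sigmaCore M ≠ ⊥ := by
    intro h0
    rw [h0, Subgroup.mem_bot] at hx
    exact hx1 hx
  have hnil := Cfsg.Agent.Lib.Helper27BG76nil.nil hG hM hb.compl hD1 hb.kM
  have ht := Cfsg.Agent.Lib.Helper11BG76tau2.tau2_empty_of hG hb
    (fun q B hq hqk hBD hBe hBc => Cfsg.Agent.Lib.Helper38BG76qsigma.qsigma hG hb hq hqk hBD hBe hBc)
  have hreg := Cfsg.Agent.Lib.Helper27BG76reg.reg hG hM hb.compl hb.kM ht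
  have hab := Cfsg.Agent.Lib.Helper38BG76abel.abel hG hM hb.compl hnil hreg hb.pp hb.AM hb.Ae hb.Ac hb.maxA
  have hfr := Cfsg.Agent.Lib.Helper27BG76frobc.frobc hb.compl
    (Cfsg.Agent.Lib.Helper2BGb.le_normalizer_sigmaCore M) hD1 hS1 hreg
  refine ⟨hb.kM, ⟨(M ⊓ Ns).subgroupOf M, hfr, ?_⟩,
    Cfsg.Agent.Lib.Helper27BG76notTI.notTI hG hM hx hx1 hxM hnil⟩
  have : IsMulCommutative ((M ⊓ Ns).subgroupOf M) := by
    constructor
    constructor
    intro a b
    apply Subtype.ext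
    apply Subtype.ext
    have := congrArg Subtype.val (hab.is_comm.comm ⟨a.1.1, a.2⟩ ⟨b.1.1, b.2⟩)
    exact this
  exact Cfsg.Agent.Lib.Helper1FrobConj.isCyclic_of_abelian_of_le hfr _ le_rfl

end Cfsg.Agent.S1376
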