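import Cfsg.Statements.S1384
import Cfsg.Agent.Lib.Helper51BG16
import Cfsg.Agent.Lib.Helper24BG2
import Cfsg.Agent.Lib.Helper24BG3
import Cfsg.Agent.Lib.Helper3BGRankcent
import Cfsg.Agent.S1417
import Cfsg.Agent.S1430
import Cfsg.Agent.S1431
import Cfsg.Agent.S1438

set_option autoImplicit false
open Cfsg

namespace Cfsg.Agent.S1384

open Subgroup
open Cfsg.Agent.Lib.Helper30Trans Cfsg.Agent.Lib.Helper24BG Cfsg.Agent.Lib.Helper2BGa
open Cfsg.Agent.Lib.Helper2BGb Cfsg.Agent.Lib.Helper51BG16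

/-- Let G be a minimal simple group of odd order and H a nilpotent subgroup whose order is coprime to its index. If x ∈ H and gxg⁻¹ ∈ H for some g ∈ G, then nxn⁻¹ = gxg⁻¹ for some n in the normalizer of H. -/
theorem result {G : Type*} [Group G] [Finite G] (hG : Cfsg.IsMinSimpleOddOrder G)
    (H : Subgroup G) (hHn : Group.IsNilpotent H) (hHall : (Nat.card H).Coprime H.index) :
    ∀ x ∈ H, ∀ g : G, g * x * g⁻¹ ∈ H → ∃ n ∈ Subgroup.normalizer (H : Set G), n * x * n⁻¹ = g * x * g⁻¹ := by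
  intro x hx g hgx
  by_cases hH1 : H = ⊥
  · refine ⟨1, one_mem _, ?_⟩
    rw [hH1, mem_bot] at hx
    rw [hx]
    group
  have hHc : Nat.card H ≠ 1 := fun h => hH1 (card_eq_one.mp h)
  obtain ⟨p₀, hp₀, hp₀d⟩ := Nat.exists_prime_and_dvd hHc
  -- Sylow subgroups of `H`
  have hsyl : ∀ q : ℕ, q.Prime → q ∣ Nat.card H → ∃ Q : Subgroup G, IsSyl q Q H ∧ IsSyl q Q ⊤ ∧
      Q ≠ ⊥ ∧ normalizer (H : Set G) ≤ normalizer (Q : Set G) := by
    intro q hq hqd
    have : Fact q.Prime := ⟨hq⟩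
    obtain ⟨Q, hQ, -⟩ := exists_isSyl_ge (p := q) (bot_le : (⊥ : Subgroup G) ≤ H) IsPGroup.of_bot
    have hnd : ¬ q ∣ Q.relIndex H := IsSyl.not_dvd_relIndex hQ
    refine ⟨Q, hQ, ?_, ?_, ?_⟩
    · apply isSyl_of_not_dvd le_top hQ.2.1
      rw [relIndex_top_right, ← relIndex_mul_index hQ.1]
      intro hd
      rcases (Nat.Prime.dvd_mul hq).mp hd with h | h
      · exact hnd h
      · exact hq.one_lt.ne' (Nat.eq_one_of_dvd_coprimes hHall hqd h)
    · intro h
      apply hnd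
      rw [h, relIndex_bot_left]
      exact hqd
    · apply normalizer_le_normalizer_hall hHn hQ.1
      intro r hr hd
      obtain ⟨n, hn⟩ := IsPGroup.iff_card.mp hQ.2.1
      rw [hn] at hd
      have hrq : r = q := (Nat.prime_dvd_prime_iff_eq hr hq).mp (hr.dvd_of_dvd_pow hd)
      rw [hrq]
      exact hnd
  obtain ⟨P, hPH, hPtop, hP1, hPn⟩ := hsyl p₀ hp₀ hp₀d
  have : Fact p₀.Prime := ⟨hp₀⟩
  obtain ⟨M, hM, hNM⟩ := exists_coatom (norm_ne_top hG hP1 (pgroup_ne_top hG hPH.2.1))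
  have hHM : H ≤ M := (le_normalizer.trans hPn).trans hNM
  have hPM : IsSyl p₀ P M := hPtop.mono (hPH.1.trans hHM) le_top
  have hp₀σ : p₀ ∈ sigma M := mem_sigma_of_norm hPM hP1 hNM
  have hPσ : P ≤ sigmaCore M := pgroup_le_sigmaCore hG hM hp₀σ hPM.1 hPM.2.1
  have hall : ∀ q : ℕ, q.Prime → q ∣ Nat.card H → q ∈ sigma M := by
    intro q hq hqd
    by_contra hqσ
    have : Fact q.Prime := ⟨hq⟩
    obtain ⟨Q, hQH, hQtop, hQ1, hQn⟩ := hsyl q hq hqd
    have hqp : q ≠ p₀ := fun h => hqσ (h ▸ hp₀σ)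
    have hQM : IsSyl q Q M := hQtop.mono (hQH.1.trans hHM) le_top
    have hQP : Q ⊓ P = ⊥ := by
      apply (disjoint_of_coprime_natCard _).eq_bot
      obtain ⟨a, ha⟩ := IsPGroup.iff_card.mp hQH.2.1
      obtain ⟨b, hb⟩ := IsPGroup.iff_card.mp hPH.2.1
      rw [ha, hb]
      exact Nat.Coprime.pow _ _ ((Nat.coprime_primes hq hp₀).mpr hqp)
    have hQC : Q ≤ centralizer (P : Set G) :=
      Cfsg.Agent.Lib.Helper24BG3.le_centralizer_of_inf_bot
        ((hQH.1.trans le_normalizer).trans hPn) le_rfl ((hPH.1.trans le_normalizer).trans hQn) hQP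
    have hPC : P ≤ centralizer (Q : Set G) := le_centralizer_iff.mp hQC
    by_cases hr1 : PRankLE q 1 M
    · -- `q ∈ κ(M)`
      obtain ⟨k, hk, hk1⟩ : ∃ k ∈ Q, k ≠ 1 := by
        by_contra h
        push Not at h
        exact hQ1 ((eq_bot_iff_forall _).mpr h)
      obtain ⟨y, hy, hy1⟩ : ∃ y ∈ P, y ≠ 1 := by
        by_contra h
        push Not at h
        exact hP1 ((eq_bot_iff_forall _).mpr h)
      -- an element of order `q` in `Q`
      obtain ⟨n, hn⟩ := (IsPGroup.iff_orderOf.mp hQH.2.1) ⟨k, hk⟩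
      have hn' : orderOf k = q ^ n := by rw [← hn]; exact (Subgroup.orderOf_mk k hk).symm
      have hn0 : n ≠ 0 := by
        intro h
        rw [h, pow_zero, orderOf_eq_one_iff] at hn'
        exact hk1 hn'
      obtain ⟨m, rfl⟩ := Nat.exists_eq_succ_of_ne_zero hn0
      have hord : orderOf (k ^ q ^ m) = q := by
        rw [orderOf_pow_of_dvd (pow_ne_zero _ hq.ne_zero) (hn' ▸ pow_dvd_pow q (Nat.le_succ m)), hn',
          Nat.pow_succ, Nat.mul_div_cancel_left _ (pow_pos hq.pos m)]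
      have hkq : k ^ q ^ m ∈ Q := Q.pow_mem hk _
      have hqκ : q ∈ kappa M := mem_kappa hG hM hq hqσ hr1 (hQM.1 hkq) hord (hPσ hy) hy1
        ((mem_centralizer_iff.mp (hQC hkq)) y hy).symm
      obtain ⟨K, hK, hQK⟩ := exists_kappa_hall_ge hG hM hQM.1 (by
        intro r hr hd
        obtain ⟨a, ha⟩ := IsPGroup.iff_card.mp hQH.2.1
        rw [ha] at hd
        have hrq : r = q := (Nat.prime_dvd_prime_iff_eq hr hq).mp (hr.dvd_of_dvd_pow hd)
        rw [hrq]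
        exact hqκ)
      have hK1 : K ≠ ⊥ := by
        intro h
        apply hQ1
        rw [eq_bot_iff, ← h]
        exact hQK
      obtain ⟨h1, -, -⟩ := Cfsg.Agent.S1430.result hG M hM K hK hK1
      have hPKs : P ≤ sigmaCore M ⊓ centralizer (K : Set G) := by
        rw [← h1 k (hQK hk) hk1]
        refine le_inf hPσ ?_
        intro z hz
        rw [mem_centralizer_iff]
        intro w hw
        rw [Set.mem_singleton_iff.mp hw]
        exact (mem_centralizer_iff.mp (hPC hz)) k hk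
      obtain ⟨-, -, h3, -⟩ := Cfsg.Agent.S1431.result hG M hM K hK hK1
      have hPs : IsSyl p₀ P (sigmaCore M) := hPtop.mono hPσ le_top
      have hd : p₀ ∣ Nat.card ↥(sigmaCore M ⊓ centralizer (K : Set G)) :=
        (dvd_card_of_pgroup hPH.2.1 hP1 hPKs)
      have h4 := (h3 p₀ hp₀ hd hPs.toSylow).2.2
      rw [hPs.map_toSylow] at h4
      exact h4 hPKs
    · -- `q ∈ τ₂(M)`
      have hτ : q ∈ tau2 M := ⟨hq, hqσ, rank_le_two hG hM hq hqσ, hr1⟩
      obtain ⟨B, hBM, hBe, hBc⟩ := exists_elemAb hr1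
      obtain ⟨A₀, hA₀B, hA₀e, hA₀c⟩ := Cfsg.Agent.Lib.Helper3BGRankcent.exists_sq_le hBe hBc
      obtain ⟨m, hm, hmA⟩ := Cfsg.Agent.Lib.Helper24BG2.exists_cj_le hQM (isPGroup_of_elemAb hA₀e)
        (hA₀B.trans hBM)
      obtain ⟨-, -, -, h4, -⟩ := Cfsg.Agent.S1417.result hG M hM q hτ (cj m A₀)
        ⟨hmA.trans hQM.1, elemAb_cj hA₀e m, by rw [card_cj, hA₀c]⟩
      apply hP1
      rw [eq_bot_iff, ← h4]
      exact le_inf hPσ (hPC.trans (centralizer_le hmA))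
  have hHσ : H ≤ sigmaCore M := pi_le_sigmaCore hG hM hHM hall
  obtain ⟨-, h2⟩ := Cfsg.Agent.S1438.result hG M hM H hHσ hH1
    (Nat.Coprime.coprime_dvd_right (relIndex_dvd_index_of_le hHσ) hHall)
  obtain ⟨n, hn, hnx⟩ := h2 x hx g hgx
  exact ⟨n, hn.2, hnx⟩

end Cfsg.Agent.S1384
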