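import Cfsg.Statements.S1458
import Cfsg.Agent.Lib.Helper31ZJe
import Cfsg.Agent.Lib.Helper31PConstr
import Cfsg.Agent.Lib.Helper37Cores

set_option autoImplicit false
open Cfsg

namespace Cfsg.Agent.S1458

open scoped commutatorElement
open Cfsg.Agent.Lib.Helper31ZJe

theorem isPStableOn_of_odd {G : Type*} [Group G] [Finite G] (hodd : Odd (Nat.card G)) (p : ℕ)
    [Fact p.Prime] (hp : p ≠ 2) (V : Subgroup G) [V.Normal] (hV : IsPGroup p V) :
    Cfsg.IsPStableOn p V := by
  intro a ha
  have key := Cfsg.Agent.Lib.Helper31PStable.map_le_pCore hodd p hp V hV (MonoidHom.id G)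
    (fun n => by rw [Subgroup.normalizer_eq_top]; exact Subgroup.mem_top _)
    (QuotientGroup.mk' (Subgroup.centralizer (V : Set G))) (QuotientGroup.mk'_surjective _) ?_
    {a} ?_
  · exact key ⟨a, Subgroup.subset_closure rfl, rfl⟩
  · intro n hn
    rw [QuotientGroup.mk'_apply, QuotientGroup.eq_one_iff, Subgroup.mem_centralizer_iff]
    intro u hu
    exact (hn u hu).symm
  · intro x hx u hu
    rw [Set.mem_singleton_iff] at hx
    subst hx
    have hx' : x ∈ Subgroup.zpowers x := Subgroup.mem_zpowers x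
    have h1 : ⁅⁅u, x⁆, x⁆ ∈ ⁅⁅V, Subgroup.zpowers x⁆, Subgroup.zpowers x⁆ :=
      Subgroup.commutator_mem_commutator (Subgroup.commutator_mem_commutator hu hx') hx'
    rw [ha, Subgroup.mem_bot] at h1
    exact h1

/-- Let G be a solvable group of odd order, p a prime and S a Sylow p-subgroup of G. Then the subgroup generated by the centre of the Thompson subgroup of S and O_{p'}(G) is normal in G. -/
theorem result {G : Type*} [Group G] [Finite G] [Group.IsSolvable G] (hodd : Odd (Nat.card G)) (p : ℕ) [Fact p.Prime] (S : Sylow p G) :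
    (Cfsg.centerThompsonOf p (S : Subgroup G) ⊔ Cfsg.pPrimeCore p G).Normal := by
  rw [centerThompsonOf_eq]
  by_cases hp : p = 2
  · subst hp
    have hS : (S : Subgroup G) = ⊥ := by
      obtain ⟨n, hn⟩ := (IsPGroup.iff_card).1 S.2
      have hoddS : Odd (Nat.card (S : Subgroup G)) :=
        Odd.of_dvd_nat hodd (Subgroup.card_subgroup_dvd_card _)
      rw [hn] at hoddS
      have hn0 : n = 0 := by
        by_contra h0
        exact (Nat.not_even_iff_odd.2 hoddS) (Even.pow_of_ne_zero even_two h0)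
      rw [hn0, pow_zero] at hn
      exact Subgroup.card_eq_one.1 hn
    have hZ : ZE 2 (S : Subgroup G) = ⊥ := by
      rw [eq_bot_iff, ← hS]
      exact ZE_le 2 _
    rw [hZ, bot_sup_eq]
    exact Cfsg.Agent.Lib.Helper1Fitting.pPrimeCore_normal 2
  set π := QuotientGroup.mk' (Cfsg.pPrimeCore p G) with hπ
  have hsurj : Function.Surjective π := QuotientGroup.mk'_surjective _
  have hker : π.ker = Cfsg.pPrimeCore p G := QuotientGroup.ker_mk' _
  have hoddq : Odd (Nat.card (G ⧸ Cfsg.pPrimeCore p G)) :=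
    Odd.of_dvd_nat hodd (Subgroup.card_quotient_dvd_card _)
  have hcop : (Nat.card π.ker).Coprime p := by
    rw [hker]; exact Cfsg.Agent.Lib.Helper1Fitting.card_pPrimeCore_coprime p
  have hn := ZE_normal hp (fun V _ hV => isPStableOn_of_odd hoddq p hp V hV)
    (Cfsg.Agent.Lib.Helper31PConstr.centralizer_pCore_le p
      (Cfsg.Agent.Lib.Helper37Cores.pPrimeCore_quotient_eq_bot p)) (S.mapSurjective hsurj)
  rw [Sylow.coe_mapSurjective,
    ZE_map π (Cfsg.Agent.Lib.Helper15PStable.inf_eq_bot_of_coprime' S.2 hcop)] at hn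
  rw [← hker, ← Subgroup.comap_map_eq]
  exact hn.comap _

end Cfsg.Agent.S1458
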