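import Cfsg.Statements.S1478
import Cfsg.Agent.S0183

set_option autoImplicit false
open Cfsg

namespace Cfsg.Agent.S1478

/-- the hypotheses are contradictory, by the CN-theorem for odd order. -/
theorem absurd_hyp {G : Type*} [Group G] [Finite G] (hG : Cfsg.IsMinSimpleOddOrder G)
    (hCN : Cfsg.IsCNGroup G) : False := by
  have hs := Cfsg.Agent.S0183.result hG.1 hCN
  haveI := hG.2.1
  apply hG.2.2.1
  exact ⟨⟨IsSimpleGroup.comm_iff_isSolvable.2 hs⟩⟩

/-- Let G be a minimal simple group of odd order in which every non-identity element has nilpotent centralizer. Then no subgroup of G is a three-step group with respect to any prime. -/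
theorem result {G : Type*} [Group G] [Finite G] (hG : Cfsg.IsMinSimpleOddOrder G) (hCN : Cfsg.IsCNGroup G) :
    ∀ (H : Subgroup G) (p : ℕ), ¬ Cfsg.IsThreeStepGroup p ↥H := by
  exact (absurd_hyp hG hCN).elim

end Cfsg.Agent.S1478
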