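import Cfsg.Statements.S1521
import Cfsg.Agent.Lib.Helper32Nil

set_option autoImplicit false
open Cfsg

namespace Cfsg.Agent.S1521

open Cfsg.Agent.Lib.Helper32Frob2 Cfsg.Agent.Lib.Helper32Nil

theorem arith_a (e a u s t : ℕ) (he : 0 < e) (ht : a = 2 * t * e + 1) (ha : a ≠ 1) (hu : u ≠ 1)
    (hu0 : u ≠ 0) (hs : u * a = 2 * s * e + 1) : 4 * e ^ 2 + 1 < u * a := by
  have ht1 : 1 ≤ t := by
    rcases Nat.eq_zero_or_pos t with h | h
    · subst h; simp at ht; exact absurd ht ha
    · exact h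
  have hu2 : 2 ≤ u := by omega
  have h1 : t * u < s := by
    by_contra h
    push Not at h
    have h2 : 2 * s * e ≤ 2 * (t * u) * e := by gcongr
    subst ht
    nlinarith
  have h3 : 2 * e + 1 ≤ u := by
    subst ht
    have h4 : 2 * (t * u + 1) * e ≤ 2 * s * e := by gcongr; exact h1
    nlinarith
  have h5 : 2 * e + 1 ≤ a := by
    subst ht
    nlinarith
  calc 4 * e ^ 2 + 1 < (2 * e + 1) * (2 * e + 1) := by nlinarith
    _ ≤ u * a := Nat.mul_le_mul h3 h5

/-- Let K be a solvable normal subgroup of the finite group L of odd order and (S, τ, R) a coherence system from L to G with S the functions induced from non-principal irreducible characters of K; S(A) as before. Let M ≤ K be normal in L with K/M nilpotent, H₁ = [K, K] ⊔ M, H₁ < K < L, and suppose every element of K outside H₁ is centralised modulo H₁ only from inside K (L/H₁ is a Frobenius group with kernel K/H₁). Suppose one of the following: some normal subgroup of L lies strictly between H₁ and K; or [K:H₁]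 > 4[L:K]^2 + 1; or [K:M] is not a prime power; or [K,K] ≤ M; or [K:M] is a power of a prime p with [L:K] dividing p − 1. Then S(M) is coherent. -/
theorem result {L : Type*} [Group L] [Fintype L] {G : Type*} [Group G] [Fintype G] (K : Subgroup L) [hK : K.Normal] (hsolv : Group.IsSolvable K) (τ : (L → ℂ) → (G → ℂ)) (R : (L → ℂ) → Finset (G → ℂ)) (hS : Cfsg.IsCoherenceSystem (Cfsg.inducedIrrAbove K ⊥) τ R) (hodd : Odd (Nat.card L)) (M : Subgroup L) [M.Normal] (hMK : M ≤ K) [(M.subgroupOf K).Normal] (hnil : Group.IsNilpotent (↥K ⧸ M.subgroupOf K)) (H₁ : Subgroup L) (hH₁ : H₁ = ⁅K, K⁆ ⊔ M) (hH₁K : H₁ < K) (hKL : K < ⊤) (hfrob : ∀ k ∈ K, k ∉ H₁ → ∀ x : L, x * k * x⁻¹ * k⁻¹ ∈ H₁ → x ∈ K) (hgood : (∃ N : Subgroup L, N.Normal ∧ H₁ < N ∧ N < K) ∨ 4 * K.index ^ 2 + 1 < H₁.relIndex K ∨ (¬ ∃ p m : ℕ, p.Prime ∧ M.relIndex K = p ^ m) ∨ ⁅K, K⁆ ≤ M ∨ (∃ p m : ℕ, p.Prime ∧ M.relIndex K = p ^ m ∧ K.index ∣ p - 1)) : Cfsg.IsCoherent (Cfsg.inducedIrrAbove K M) {1}ᶜ τ := by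
  classical
  have hcomm : ⁅K, K⁆ ≤ H₁ := by rw [hH₁]; exact le_sup_left
  have hMH : M ≤ H₁ := by rw [hH₁]; exact le_sup_right
  have hHn : H₁.Normal := by rw [hH₁]; infer_instance
  have hcoh := coherent_linear K H₁ hsolv hS hcomm hH₁K
  have he : 0 < K.index := Nat.pos_of_ne_zero Subgroup.index_ne_zero_of_finite
  -- case (b)
  have caseB : 4 * K.index ^ 2 + 1 < H₁.relIndex K → IsCoherent (inducedIrrAbove K M) {1}ᶜ τ :=
    fun hb => Cfsg.Agent.S1520.result K hsolv τ R hS M H₁ K hMH hH₁K.le le_rfl hnil hcoh hb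
  -- case (d)
  have caseD : ⁅K, K⁆ ≤ M → IsCoherent (inducedIrrAbove K M) {1}ᶜ τ := by
    intro hd
    have : H₁ = M := by rw [hH₁]; exact sup_eq_right.2 hd
    rw [← this]; exact hcoh
  -- case (a)
  have caseA : (∃ N : Subgroup L, N.Normal ∧ H₁ < N ∧ N < K) →
      IsCoherent (inducedIrrAbove K M) {1}ᶜ τ := by
    rintro ⟨N, hN, h1, h2⟩
    apply caseB
    obtain ⟨t, ht⟩ := exists_card_odd K H₁ hS hcomm hfrob hodd N h1.le h2.le
    obtain ⟨s, hs⟩ := exists_card_odd K H₁ hS hcomm hfrob hodd H₁ le_rfl hH₁K.le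
    rw [← Subgroup.relIndex_mul_relIndex H₁ N K h1.le h2.le] at hs ⊢
    apply arith_a K.index _ _ s t he ht _ _ _ hs
    · intro h
      exact absurd (Subgroup.relIndex_eq_one.1 h) (not_le_of_gt h2)
    · intro h
      exact absurd (Subgroup.relIndex_eq_one.1 h) (not_le_of_gt h1)
    · exact Subgroup.index_ne_zero_of_finite
  have hne1 : H₁.relIndex K ≠ 1 := fun h =>
    absurd (Subgroup.relIndex_eq_one.1 h) (not_le_of_gt hH₁K)
  rcases hgood with h | h | h | h | h
  · exact caseA h
  · exact caseB h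
  · by_cases hpp : ∃ p i : ℕ, p.Prime ∧ H₁.relIndex K = p ^ i
    · exfalso
      obtain ⟨p, i, hp, hi⟩ := hpp
      apply h
      subst hH₁
      obtain ⟨m, hm⟩ := relIndex_pow K M hMK hnil p i hp hi
      exact ⟨p, m, hp, hm⟩
    · apply caseA
      obtain ⟨r, hr, hrd⟩ := Nat.exists_prime_and_dvd hne1
      have : ∃ p : ℕ, p.Prime ∧ p ∣ H₁.relIndex K ∧ p ≠ r := by
        by_contra hc
        push Not at hc
        apply hpp
        exact ⟨r, _, hr, Nat.eq_prime_pow_of_unique_prime_dvd Subgroup.index_ne_zero_of_finite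
          (fun {d} hd hdd => hc d hd hdd)⟩
      obtain ⟨p, hp, hpd, hne⟩ := this
      exact exists_between K H₁ hcomm hH₁K.le p r hp hr hne hpd hrd
  · exact caseD h
  · obtain ⟨p, m, hp, hm, hdvd⟩ := h
    have h1 : H₁.relIndex K ∣ p ^ m := by
      rw [← hm]; exact Subgroup.relIndex_dvd_of_le_left K hMH
    obtain ⟨n, -, hn⟩ := (Nat.dvd_prime_pow hp).1 h1
    rcases Nat.lt_or_ge n 2 with hn2 | hn2
    · apply caseD
      have hn1 : n = 1 := by
        rcases Nat.eq_zero_or_pos n with h0 | h0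
        · subst h0; rw [pow_zero] at hn; exact absurd hn hne1
        · omega
      subst hn1
      rw [pow_one] at hn
      subst hH₁
      exact comm_le_of_prime K M hMK hnil p hp hn
    · apply caseB
      have hoddK : Odd K.index := Odd.of_dvd_nat hodd (Subgroup.index_dvd_card K)
      have hoddp : Odd p := by
        apply Odd.of_dvd_nat hodd
        refine Dvd.dvd.trans ?_ ((Subgroup.relIndex_dvd_card H₁ K).trans
          (Subgroup.card_subgroup_dvd_card K))
        rw [hn]
        exact dvd_pow_self p (by omega)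
      obtain ⟨c, hc⟩ := hdvd
      have hp2 := hp.two_le
      have hceven : Even c := by
        by_contra hcon
        rw [Nat.not_even_iff_odd] at hcon
        have h3 : Odd (p - 1) := by rw [hc]; exact hoddK.mul hcon
        obtain ⟨a, ha⟩ := hoddp
        obtain ⟨b, hb⟩ := h3
        omega
      obtain ⟨c', rfl⟩ := hceven
      have hc' : 1 ≤ c' := by
        rcases Nat.eq_zero_or_pos c' with h0 | h0
        · subst h0; simp at hc; omega
        · exact h0
      have hp3 : 2 * K.index + 1 ≤ p := by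
        have : K.index * (1 + 1) ≤ K.index * (c' + c') := by gcongr
        omega
      rw [hn]
      calc 4 * K.index ^ 2 + 1 < (2 * K.index + 1) ^ 2 := by nlinarith
        _ ≤ p ^ 2 := Nat.pow_le_pow_left hp3 2
        _ ≤ p ^ n := Nat.pow_le_pow_right hp.pos hn2

end Cfsg.Agent.S1521
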