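import Cfsg.Statements.S1523
import Cfsg.Agent.Lib.Helper82Schur
import Cfsg.Agent.Lib.Helper4Char3
import Cfsg.Agent.Lib.Helper4Char4
import Cfsg.Agent.Lib.Helper82Linear

set_option autoImplicit false
open Cfsg

namespace Cfsg.Agent.S1523

open Cfsg.Agent.Lib.Helper4Char Cfsg.Agent.Lib.Helper4Char2 Cfsg.Agent.Lib.Helper4Char3
  Cfsg.Agent.Lib.Helper4Char4

/-- sums of invariant integral functions over a set with a free two-sided action. -/
theorem free_sum {G : Type*} [Group G] [Fintype G] [DecidableEq G] (A B : Subgroup G) (f : G → ℂ)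
    (hint : ∀ g, IsIntegral ℤ (f g)) :
    ∀ (n : ℕ) (X : Finset G), X.card = n →
    (∀ g ∈ X, ∀ a ∈ A, ∀ b ∈ B, a * g * b ∈ X) →
    (∀ g ∈ X, ∀ a ∈ A, ∀ b ∈ B, f (a * g * b) = f g) →
    (∀ g ∈ X, ∀ a ∈ A, ∀ b ∈ B, a * g * b = g → a = 1 ∧ b = 1) →
    ∃ γ : ℂ, IsIntegral ℤ γ ∧ ∑ g ∈ X, f g = (Nat.card A : ℂ) * (Nat.card B : ℂ) * γ := by
  intro n
  induction n using Nat.strong_induction_on with
  | _ n ih =>
    intro X hn hcl hinv hfree
    rcases X.eq_empty_or_nonempty with h0 | ⟨g₀, hg₀⟩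
    · exact ⟨0, isIntegral_zero, by rw [h0]; simp⟩
    · letI : Fintype A := Fintype.ofFinite A
      letI : Fintype B := Fintype.ofFinite B
      set φ : A × B → G := fun ab => ab.1 * g₀ * ab.2 with hφ
      have hinj : Function.Injective φ := by
        rintro ⟨a, b⟩ ⟨a', b'⟩ h
        simp only [hφ] at h
        have h1 : ((a' : G)⁻¹ * a) * g₀ * ((b : G) * (b' : G)⁻¹) = g₀ := by
          calc ((a' : G)⁻¹ * a) * g₀ * ((b : G) * (b' : G)⁻¹)
              = (a' : G)⁻¹ * ((a : G) * g₀ * b) * (b' : G)⁻¹ := by group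
            _ = g₀ := by rw [h]; group
        obtain ⟨h2, h3⟩ := hfree g₀ hg₀ _ (A.mul_mem (A.inv_mem a'.2) a.2) _
          (B.mul_mem b.2 (B.inv_mem b'.2)) h1
        have h4 : (a : G) = a' := by
          have := inv_mul_eq_one.1 h2
          exact this.symm
        have h5 : (b : G) = b' := mul_inv_eq_one.1 h3
        exact Prod.ext (Subtype.ext h4) (Subtype.ext h5)
      set O : Finset G := Finset.univ.image φ with hO
      have hOX : O ⊆ X := by
        intro g hg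
        obtain ⟨⟨a, b⟩, -, rfl⟩ := Finset.mem_image.1 hg
        exact hcl g₀ hg₀ a a.2 b b.2
      have hOcard : O.card = Nat.card A * Nat.card B := by
        rw [hO, Finset.card_image_of_injective _ hinj, Finset.card_univ, Fintype.card_prod,
          Nat.card_eq_fintype_card, Nat.card_eq_fintype_card]
      have hOsum : ∑ g ∈ O, f g = (Nat.card A : ℂ) * (Nat.card B : ℂ) * f g₀ := by
        rw [Finset.sum_congr rfl (g := fun _ => f g₀), Finset.sum_const, hOcard, nsmul_eq_mul]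
        · push_cast; ring
        · intro g hg
          obtain ⟨⟨a, b⟩, -, rfl⟩ := Finset.mem_image.1 hg
          exact hinv g₀ hg₀ a a.2 b b.2
      have hg₀O : g₀ ∈ O := Finset.mem_image.2 ⟨(1, 1), Finset.mem_univ _, by simp [hφ]⟩
      have hlt : (X \ O).card < n := by
        rw [← hn]
        apply Finset.card_lt_card
        refine ⟨Finset.sdiff_subset, fun h => ?_⟩
        exact (Finset.mem_sdiff.1 (h hg₀)).2 hg₀O
      obtain ⟨γ, hγ, hsum⟩ := ih _ hlt (X \ O) rfl (by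
          intro g hg a ha b hb
          rw [Finset.mem_sdiff] at hg ⊢
          refine ⟨hcl g hg.1 a ha b hb, fun h => hg.2 ?_⟩
          obtain ⟨⟨a', b'⟩, -, e⟩ := Finset.mem_image.1 h
          refine Finset.mem_image.2 ⟨(⟨a⁻¹ * a', A.mul_mem (A.inv_mem ha) a'.2⟩,
            ⟨b' * b⁻¹, B.mul_mem b'.2 (B.inv_mem hb)⟩), Finset.mem_univ _, ?_⟩
          simp only [hφ] at e ⊢
          calc a⁻¹ * (a' : G) * g₀ * ((b' : G) * b⁻¹) = a⁻¹ * ((a' : G) * g₀ * b') * b⁻¹ := by group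
            _ = g := by rw [e]; group)
        (fun g hg => hinv g (Finset.mem_sdiff.1 hg).1)
        (fun g hg => hfree g (Finset.mem_sdiff.1 hg).1)
      refine ⟨γ + f g₀, hγ.add (hint g₀), ?_⟩
      rw [← Finset.sum_sdiff hOX, hsum, hOsum]
      ring

/-- a `p`-element normalising a Sylow `p`-subgroup lies in it. -/
theorem mem_sylow_of_normalizer {G : Type*} [Group G] (p : ℕ) [Fact p.Prime] (P : Sylow p G)
    (t : G) (ht : t ∈ Subgroup.normalizer ((P : Subgroup G) : Set G)) (k : ℕ)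
    (hk : t ^ p ^ k = 1) : t ∈ (P : Subgroup G) := by
  have h1 : IsPGroup p (Subgroup.zpowers t) := by
    rintro ⟨y, hy⟩
    obtain ⟨i, rfl⟩ := Subgroup.mem_zpowers_iff.1 hy
    refine ⟨k, Subtype.ext ?_⟩
    change (t ^ i) ^ p ^ k = 1
    rw [← zpow_natCast, ← zpow_mul, mul_comm, zpow_mul, zpow_natCast, hk, one_zpow]
  have h2 := IsPGroup.to_sup_of_normal_right' h1 P.2 (Subgroup.zpowers_le.2 ht)
  have h3 := P.is_maximal' h2 le_sup_right
  rw [← h3]
  exact (le_sup_left : Subgroup.zpowers t ≤ _) (Subgroup.mem_zpowers t)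

/-- in a subgroup of odd order no non-identity element is inverted. -/
theorem not_inverted {G : Type*} [Group G] (N : Subgroup G) [Finite N] (hodd : Odd (Nat.card N))
    (g z : G) (hg : g ∈ N) (hz : z ∈ N) (h : g * z * g⁻¹ = z⁻¹) : z = 1 := by
  have hpow : ∀ j : ℕ, g ^ (2 * j) * z * (g ^ (2 * j))⁻¹ = z := by
    intro j
    induction j with
    | zero => simp
    | succ j ih =>
      have e : g ^ (2 * (j + 1)) = g * g * g ^ (2 * j) := by
        rw [show 2 * (j + 1) = 2 + 2 * j by ring, pow_add, pow_two]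
      rw [e]
      calc g * g * g ^ (2 * j) * z * (g * g * g ^ (2 * j))⁻¹
          = g * (g * (g ^ (2 * j) * z * (g ^ (2 * j))⁻¹) * g⁻¹) * g⁻¹ := by group
        _ = g * z⁻¹ * g⁻¹ := by rw [ih, h]
        _ = (g * z * g⁻¹)⁻¹ := by group
        _ = z := by rw [h, inv_inv]
  have hordg : Odd (orderOf g) := by
    have : orderOf (⟨g, hg⟩ : N) ∣ Nat.card N := orderOf_dvd_natCard _
    rw [Subgroup.orderOf_mk] at this
    exact Odd.of_dvd_nat hodd this
  have hordz : Odd (orderOf z) := by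
    have : orderOf (⟨z, hz⟩ : N) ∣ Nat.card N := orderOf_dvd_natCard _
    rw [Subgroup.orderOf_mk] at this
    exact Odd.of_dvd_nat hodd this
  obtain ⟨j, hj⟩ := hordg
  have h1 : g ^ (2 * j) = g⁻¹ := by
    have : g ^ (2 * j + 1) = 1 := by rw [← hj]; exact pow_orderOf_eq_one g
    rw [pow_succ] at this
    exact eq_inv_of_mul_eq_one_left this
  have h2 := hpow j
  rw [h1, inv_inv] at h2
  have h3 : z = z⁻¹ := by
    calc z = g * (g⁻¹ * z * g) * g⁻¹ := by group
      _ = z⁻¹ := by rw [h2, h]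
  have h4 : z ^ 2 = 1 := by
    rw [pow_two]
    nth_rewrite 1 [h3]
    exact inv_mul_cancel z
  obtain ⟨i, hi⟩ := hordz
  have h5 : z ^ (2 * i + 1) = 1 := by rw [← hi]; exact pow_orderOf_eq_one z
  rw [pow_succ, pow_mul, h4, one_pow, one_mul] at h5
  exact h5

/-- Let G be a finite group, p a prime, P a Sylow p-subgroup whose underlying set is a TI-subset of G, with L the set normaliser of P of odd order. Let Z ≠ ⊥ be a subgroup of P, normal in L and central in P, such that the centralisers in L of any two non-identity elements of Z have the same order. If ψ is an irreducible character of G taking the same value at all non-identity elements of Z, then for z ∈ Z, z ≠ 1, the value ψ z is an integer n with Nat.card P dividing ψ(1) − n (as integers, ψ 1 being the degree). -/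
theorem result {G : Type*} [Group G] [Finite G] (p : ℕ) [Fact p.Prime] (P : Sylow p G) (hTI : Cfsg.IsTISubset ((P : Subgroup G) : Set G)) (hodd : Odd (Nat.card (Subgroup.normalizer ((P : Subgroup G) : Set G)))) (Z : Subgroup G) (hZ1 : Z ≠ ⊥) (hZP : Z ≤ P) (hZn : ∀ x ∈ Subgroup.normalizer ((P : Subgroup G) : Set G), ∀ z ∈ Z, x * z * x⁻¹ ∈ Z) (hZc : ∀ z ∈ Z, ∀ y ∈ (P : Subgroup G), z * y = y * z) (hCL : ∀ z ∈ Z, ∀ z' ∈ Z, z ≠ 1 → z' ≠ 1 → Nat.card ↥(Subgroup.normalizer ((P : Subgroup G) : Set G) ⊓ Subgroup.centralizer ({z} : Set G)) = Nat.card ↥(Subgroup.normalizer ((P : Subgroup G) : Set G) ⊓ Subgroup.centralizer ({z'} : Set G))) (ψ : G → ℂ) (hψ : Cfsg.IsIrrCharacter G ψ) (hconst : ∀ z ∈ Z, ∀ z' ∈ Z, z ≠ 1 → z' ≠ 1 → ψ z = ψ z') (z : G) (hz : z ∈ Z) (hz1 : z ≠ 1) : ∃ n d : ℤ, ψ z = n ∧ ψ 1 = d ∧ (Nat.card (P : Subgroup G) : ℤ) ∣ d - n := by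
  classical
  letI : Fintype G := Fintype.ofFinite G
  set N := Subgroup.normalizer ((P : Subgroup G) : Set G) with hN
  set C := N ⊓ Subgroup.centralizer ({z} : Set G) with hC
  have hPN : (P : Subgroup G) ≤ N := Subgroup.le_normalizer
  have hψc := IsIrrCharacter.isCharacter hψ
  have hcl := IsCharacter.isClassFunction hψc
  have hzi : z⁻¹ ∈ Z := Z.inv_mem hz
  have hzi1 : z⁻¹ ≠ 1 := inv_ne_one.2 hz1
  have hzN : z ∈ N := hPN (hZP hz)
  have hval : ∀ w ∈ Z, w ≠ 1 → ψ w = ψ z := fun w hw hw1 => hconst w hw z hz hw1 hz1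
  have hCcomm : ∀ b ∈ C, b * z = z * b := fun b hb =>
    Subgroup.mem_centralizer_singleton_iff.1 hb.2
  -- the outer sums
  have houter : ∀ y : G, (∀ b ∈ C, b * y * b⁻¹ = y) → ∃ γ : ℂ, IsIntegral ℤ γ ∧
      ∑ x ∈ Finset.univ.filter (fun x => ¬ x ∈ N), ψ (z * (x * y * x⁻¹)) =
        (Nat.card (P : Subgroup G) : ℂ) * (Nat.card C : ℂ) * γ := by
    intro y hy
    apply free_sum (P : Subgroup G) C (fun x => ψ (z * (x * y * x⁻¹)))
      (fun g => IsCharacter.isIntegral hψc _) _ _ rfl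
    · intro g hg a ha b hb
      rw [Finset.mem_filter] at hg ⊢
      refine ⟨Finset.mem_univ _, fun h => hg.2 ?_⟩
      have := N.mul_mem (N.mul_mem (N.inv_mem (hPN ha)) h) (N.inv_mem hb.1)
      simpa [mul_assoc] using this
    · intro g _ a ha b hb
      have e1 : z * (a * g * b * y * (a * g * b)⁻¹) = a * (z * (g * y * g⁻¹)) * a⁻¹ := by
        calc z * (a * g * b * y * (a * g * b)⁻¹)
            = (z * a) * (g * (b * y * b⁻¹) * g⁻¹) * a⁻¹ := by group
          _ = a * (z * (g * y * g⁻¹)) * a⁻¹ := by rw [hy b hb, hZc z hz a ha]; group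
      rw [e1, hcl]
    · intro g hg a ha b hb h
      rw [Finset.mem_filter] at hg
      have e1 : g⁻¹ * a * g = b⁻¹ := by
        calc g⁻¹ * a * g = g⁻¹ * (a * g * b) * b⁻¹ := by group
          _ = b⁻¹ := by rw [h]; group
      obtain ⟨k, hk⟩ := P.2 ⟨a, ha⟩
      have hk' : a ^ p ^ k = 1 := by simpa using congrArg Subtype.val hk
      have e2 : (b⁻¹) ^ p ^ k = 1 := by
        have e3 : g⁻¹ * a * g = g⁻¹ * a * g⁻¹⁻¹ := by rw [inv_inv]
        rw [← e1, e3, conj_pow, hk']; simp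
      have e4 := mem_sylow_of_normalizer p P b⁻¹ (N.inv_mem hb.1) k e2
      have e5 : a = 1 := by
        apply hTI g⁻¹ (fun h' => hg.2 (by simpa using N.inv_mem h')) a ha
        rw [inv_inv, e1]
        exact e4
      refine ⟨e5, ?_⟩
      rw [e5] at e1
      simpa using e1.symm
  obtain ⟨γ₁, hγ₁, hs₁⟩ := houter z (fun b hb => by rw [hCcomm b hb]; group)
  obtain ⟨γ₂, hγ₂, hs₂⟩ := houter z⁻¹ (fun b hb => by
    have : b * z⁻¹ * b⁻¹ = (b * z * b⁻¹)⁻¹ := by group
    rw [this, hCcomm b hb]; group)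
  -- the inner sums
  have hcardN : (Finset.univ.filter (fun x => x ∈ N)).card = Nat.card N := by
    rw [Nat.card_eq_fintype_card]
    exact (Fintype.card_of_subtype _ (by simp)).symm
  have hcardC : ((Finset.univ.filter (fun x => x ∈ N)).filter (fun x => x ∈ C)).card =
      Nat.card C := by
    rw [Nat.card_eq_fintype_card]
    refine (Fintype.card_of_subtype _ ?_).symm
    intro x
    simp only [Finset.mem_filter, Finset.mem_univ, true_and]
    exact ⟨fun h => h.2, fun h => ⟨h.1, h⟩⟩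
  have hi₁ : ∑ x ∈ Finset.univ.filter (fun x => x ∈ N), ψ (z * (x * z * x⁻¹)) =
      (Nat.card N : ℂ) * ψ z := by
    rw [Finset.sum_congr rfl (g := fun _ => ψ z), Finset.sum_const, hcardN, nsmul_eq_mul]
    intro x hx
    have hxN : x ∈ N := (Finset.mem_filter.1 hx).2
    apply hval _ (Z.mul_mem hz (hZn x hxN z hz))
    intro h
    apply hz1
    apply not_inverted N hodd x z hxN hzN
    exact eq_inv_of_mul_eq_one_right h
  have hi₂ : ∑ x ∈ Finset.univ.filter (fun x => x ∈ N), ψ (z * (x * z⁻¹ * x⁻¹)) =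
      (Nat.card N : ℂ) * ψ z + (Nat.card C : ℂ) * (ψ 1 - ψ z) := by
    rw [Finset.sum_congr rfl (g := fun x => ψ z + if x ∈ C then (ψ 1 - ψ z) else 0),
      Finset.sum_add_distrib, Finset.sum_const, hcardN, nsmul_eq_mul, ← Finset.sum_filter,
      Finset.sum_const, hcardC, nsmul_eq_mul]
    intro x hx
    have hxN : x ∈ N := (Finset.mem_filter.1 hx).2
    by_cases hxC : x ∈ C
    · rw [if_pos hxC]
      have : z * (x * z⁻¹ * x⁻¹) = 1 := by
        have e : x * z⁻¹ * x⁻¹ = (x * z * x⁻¹)⁻¹ := by group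
        rw [e, hCcomm x hxC]; group
      rw [this]; ring
    · rw [if_neg hxC, add_zero]
      apply hval _ (Z.mul_mem hz (hZn x hxN _ hzi))
      intro h
      apply hxC
      refine ⟨hxN, Subgroup.mem_centralizer_singleton_iff.2 ?_⟩
      have e1 : x * z⁻¹ * x⁻¹ = z⁻¹ := eq_inv_of_mul_eq_one_right h
      have e2 : x * z * x⁻¹ = z := by
        have : x * z * x⁻¹ = (x * z⁻¹ * x⁻¹)⁻¹ := by group
        rw [this, e1, inv_inv]
      calc x * z = x * z * x⁻¹ * x := by group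
        _ = z * x := by rw [e2]
  have hF₁ := Cfsg.Agent.Lib.Helper82Schur.irr_sum_mul_conj ⟨ψ, hψ⟩ z z
  have hF₂ := Cfsg.Agent.Lib.Helper82Schur.irr_sum_mul_conj ⟨ψ, hψ⟩ z z⁻¹
  simp only at hF₁ hF₂
  rw [hval z⁻¹ hzi hzi1, ← hF₁,
    ← Finset.sum_filter_add_sum_filter_not Finset.univ (fun x => x ∈ N), hi₂, hs₂,
    ← Finset.sum_filter_add_sum_filter_not Finset.univ (fun x => x ∈ N)
      (fun x => ψ (z * (x * z * x⁻¹))), hi₁, hs₁] at hF₂
  have hC0 : (Nat.card C : ℂ) ≠ 0 := Nat.cast_ne_zero.mpr Nat.card_pos.ne'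
  have hP0 : (Nat.card (P : Subgroup G) : ℂ) ≠ 0 := Nat.cast_ne_zero.mpr Nat.card_pos.ne'
  have hmain : ψ 1 - ψ z = (Nat.card (P : Subgroup G) : ℂ) * (γ₁ - γ₂) := by
    apply mul_left_cancel₀ hC0
    linear_combination hF₂
  -- integrality of `ψ z`
  obtain ⟨d, hd⟩ := IsCharacter.exists_degree hψc
  letI : Fintype Z := Fintype.ofFinite Z
  obtain ⟨k, hk⟩ := IsCharacter.classInner_nat (IsCharacter.restrict Z hψc)
    (IsIrrCharacter.isCharacter (Cfsg.Agent.Lib.Helper82Linear.isIrrCharacter_one (G := Z)))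
  have hZcard : 1 < Nat.card Z := (Subgroup.one_lt_card_iff_ne_bot Z).2 hZ1
  have hsumZ : ∑ u : Z, ψ u = (Nat.card Z : ℂ) * ψ z + (ψ 1 - ψ z) := by
    rw [Finset.sum_congr rfl (g := fun u : Z => ψ z + if u = 1 then (ψ 1 - ψ z) else 0),
      Finset.sum_add_distrib, Finset.sum_const, Finset.card_univ, ← Nat.card_eq_fintype_card,
      nsmul_eq_mul, Finset.sum_ite_eq' Finset.univ (1 : Z), if_pos (Finset.mem_univ _)]
    intro u _
    by_cases hu : u = 1
    · rw [if_pos hu, hu]; simp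
    · rw [if_neg hu, add_zero]
      exact hval u u.2 (fun h => hu (Subtype.ext h))
  have hZ0 : (Nat.card Z : ℂ) ≠ 0 := Nat.cast_ne_zero.mpr Nat.card_pos.ne'
  have hk' : (Nat.card Z : ℂ) * k = (Nat.card Z : ℂ) * ψ z + (ψ 1 - ψ z) := by
    rw [← hsumZ, ← hk]
    unfold classInner
    simp only [map_one, mul_one]
    rw [← mul_assoc, mul_inv_cancel₀ hZ0, one_mul]
  have hZ1' : ((Nat.card Z : ℂ) - 1) ≠ 0 := by
    intro h
    have : (Nat.card Z : ℂ) = 1 := sub_eq_zero.1 h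
    have h2 : Nat.card Z = 1 := by exact_mod_cast this
    omega
  have hq : ψ z = ((((Nat.card Z : ℚ) * k - d) / ((Nat.card Z : ℚ) - 1) : ℚ) : ℂ) := by
    push_cast
    rw [eq_div_iff hZ1', ← hd]
    linear_combination -hk'
  obtain ⟨n, hn⟩ := exists_int_of_isIntegral_rat _ (by rw [← hq]; exact IsCharacter.isIntegral hψc z)
  have hzn : ψ z = (n : ℂ) := by
    rw [hq, ← hn]; push_cast; rfl
  refine ⟨n, d, hzn, by rw [hd]; simp, ?_⟩
  have hq2 : γ₁ - γ₂ = ((((d : ℚ) - n) / (Nat.card (P : Subgroup G) : ℚ) : ℚ) : ℂ) := by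
    push_cast
    rw [eq_div_iff hP0, ← hd, ← hzn, hmain]; ring
  obtain ⟨y, hy⟩ := exists_int_of_isIntegral_rat _ (by rw [← hq2]; exact hγ₁.sub hγ₂)
  refine ⟨y, ?_⟩
  have hP0' : (Nat.card (P : Subgroup G) : ℚ) ≠ 0 := Nat.cast_ne_zero.mpr Nat.card_pos.ne'
  have h9 : ((d : ℚ) - n) = (Nat.card (P : Subgroup G) : ℚ) * y := by
    rw [hy]; field_simp
  exact_mod_cast h9

end Cfsg.Agent.S1523
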