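import Cfsg.Statements.S1535
import Cfsg.Agent.Lib.Helper32Feit6

set_option autoImplicit false
open Cfsg

namespace Cfsg.Agent.S1535

open Cfsg.Agent.Lib.Helper32FrobGrp Cfsg.Agent.Lib.Helper32PartB
open Cfsg.Agent.Lib.Helper32Feit Cfsg.Agent.Lib.Helper32Feit2
open Cfsg.Agent.Lib.Helper32Feit3 Cfsg.Agent.Lib.Helper32Feit6

/-- Let N be a finite group with a proper nontrivial normal subgroup H such that every element commuting with a non-identity element of H lies in H (N is a Frobenius group with kernel H); let e be the index of H and suppose Nat.card H ≠ e + 1. Let S be the set of irreducible characters χ of N with χ h ≠ χ 1 for some h ∈ H, and τ a linear isometry on the integer combinations of S vanishing at 1, with values virtual characters of a finite group G vanishing at 1. Then (S, N minus 1, τ) is coherent, or there is a prime p with Nat.card H a power of p, H non-abelian and [H : [H,H]] ≤ 4e² + 1. -/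
theorem result {N : Type*} [Group N] [Fintype N] {G : Type*} [Group G] [Fintype G] (H : Subgroup N) [H.Normal] (hH1 : H ≠ ⊥) (hH2 : H ≠ ⊤) (hC : ∀ h ∈ H, h ≠ 1 → Subgroup.centralizer ({h} : Set N) ≤ H) (he : Nat.card H ≠ H.index + 1) (τ : (N → ℂ) → (G → ℂ)) (hτ : Cfsg.IsLinearIsometryOn (Cfsg.zspanOn {χ : N → ℂ | Cfsg.IsIrrCharacter N χ ∧ ∃ h ∈ H, χ h ≠ χ 1} {1}ᶜ) τ) (hτ1 : ∀ α ∈ Cfsg.zspanOn {χ : N → ℂ | Cfsg.IsIrrCharacter N χ ∧ ∃ h ∈ H, χ h ≠ χ 1} {1}ᶜ, τ α 1 = 0) : Cfsg.IsCoherent {χ : N → ℂ | Cfsg.IsIrrCharacter N χ ∧ ∃ h ∈ H, χ h ≠ χ 1} {1}ᶜ τ ∨ ∃ p : ℕ, p.Prime ∧ (∃ m : ℕ, Nat.card H = p ^ m) ∧ ¬ IsMulCommutative H ∧ (⁅H, H⁆.subgroupOf H).index ≤ 4 * H.index ^ 2 + 1 := by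
  classical
  have hC' : ∀ y : N, y ∉ H → ∀ c ∈ H, y * c = c * y → c = 1 := by
    intro y hy c hc hyc
    by_contra hc1
    exact hy (hC c hc hc1 (Subgroup.mem_centralizer_singleton_iff.2 hyc))
  rw [set_eq' H hC'] at hτ hτ1 ⊢
  have hS : FSys H τ := ⟨all_irr H hC', hτ, hτ1⟩
  have hnil : Group.IsNilpotent H := nilpotent_kernel H ⊤ (lt_top_iff_ne_top.2 hH2)
    (fun x _ h hh => (inferInstance : H.Normal).conj_mem h hh x)
    (fun h hh h1 => inf_le_right.trans (hC h hh h1))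
  by_cases hab : ⁅H, H⁆ ≤ ⊥
  · rcases abelian_case H hC' hH1 hab inferInstance τ hτ hτ1 with h | h
    · exact absurd h.2 he
    · exact Or.inl h
  · rcases feit_nonab H hnil hS hH1 with h | ⟨p, hp, hm, -, hle⟩
    · exact Or.inl h
    · right
      refine ⟨p, hp, hm, ?_, hle⟩
      intro hcomm
      exact hab (le_of_eq (Subgroup.commutator_self_eq_bot_iff.2 hcomm))

end Cfsg.Agent.S1535
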