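import Cfsg.Statements.S1542
import Cfsg.Agent.S1537
import Cfsg.Agent.Lib.Helper32T1Frob
import Cfsg.Agent.Lib.Helper37Cores

set_option autoImplicit false
open Cfsg

namespace Cfsg.Agent.S1542

/-- Let G be a minimal simple group of odd order and L a maximal subgroup of Type I in which every non-identity element of H = L_F has its centraliser within L inside H. Let S be the set of functions on L induced from non-principal irreducible characters of H. Then every member of S is an irreducible character of L, and (S, L minus 1, τ) is coherent for τ the Dade map relative to A(L), L and a ↦ R(a). -/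
theorem result {G : Type*} [Group G] [Fintype G] (hG : Cfsg.IsMinSimpleOddOrder G) (L : Subgroup G) [Fintype L] (hL : IsCoatom L) (hI : Cfsg.IsOfTypeI L) (hfrob : ∀ x ∈ Cfsg.fittingHallOf L, x ≠ 1 → L ⊓ Subgroup.centralizer ({x} : Set G) ≤ Cfsg.fittingHallOf L) : (∀ χ ∈ Cfsg.inducedIrrAbove (Cfsg.fittingHall L) ⊥, Cfsg.IsIrrCharacter L χ) ∧ Cfsg.IsCoherent (Cfsg.inducedIrrAbove (Cfsg.fittingHall L) ⊥) {1}ᶜ (Cfsg.dadeIsometry (Cfsg.typeA L) L (Cfsg.supportR L)) := by
  have hD := (Cfsg.Agent.S1537.result hG L hL (typeA L) (Or.inr (Or.inl rfl))).2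
  have hN : Subgroup.normalizer (fittingHallOf L : Set G) = L := by
    have h1 : L ≤ Subgroup.normalizer (fittingHallOf L : Set G) :=
      Cfsg.Agent.Lib.Helper37Cores.le_normalizer_map_subtype _
    rcases hL.le_iff.1 h1 with h | h
    · exfalso
      have hn : (fittingHallOf L).Normal := Subgroup.normalizer_eq_top_iff.1 h
      have hs : IsSimpleGroup G := hG.2.1
      rcases hs.eq_bot_or_eq_top_of_normal _ hn with h2 | h2
      · apply hI.1.2.2.1
        rw [← Cfsg.Agent.Lib.Helper32T1Frob.subgroupOf_eq, h2]
        exact Subgroup.bot_subgroupOf L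
      · apply hL.1
        rw [eq_top_iff, ← h2]
        exact Subgroup.map_subtype_le _
    · exact h
  exact Cfsg.Agent.Lib.Helper32T1Frob.main hI hfrob hD hN

end Cfsg.Agent.S1542
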