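import Cfsg.Statements.S5546

set_option autoImplicit false
open Cfsg

namespace Cfsg.Agent.S5546

open Finset Cfsg.Spor

abbrev K := ZMod 13
abbrev V := GolayPt → K

instance : Fact (Nat.Prime 13) := ⟨by norm_num⟩

/-- `8 e_j` as a lattice vector. -/
def e8 (j : GolayPt) : ↥leechLattice :=
  ⟨Pi.single j 8, AddSubgroup.subset_closure
    (mem_leechSet_of_const_mod_four _ 0 0 (by decide) (by
      intro i
      by_cases h : i = j
      · subst h; simp; decide
      · simp [Pi.single_eq_of_ne h]) (by
      rw [Finset.sum_pi_single']; simp))⟩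

/-- reduction mod 13 -/
def red : (GolayPt → ℤ) →+ V where
  toFun v := fun i => (v i : K)
  map_zero' := by funext i; simp
  map_add' v w := by funext i; simp

theorem red_apply (v : GolayPt → ℤ) (i : GolayPt) : red v i = (v i : K) := rfl

/-- additive hom from an element of Co0 -/
def toAdd (f : Equiv.Perm leechLattice) (hf : f ∈ Co0) : ↥leechLattice →+ ↥leechLattice :=
  AddMonoidHom.mk' f hf.1

theorem toAdd_apply (f : Equiv.Perm leechLattice) (hf : f ∈ Co0) (v : ↥leechLattice) :
    toAdd f hf v = f v := rfl

theorem eight_smul_eq (v : ↥leechLattice) : (8 : ℤ) • v = ∑ j, (v.1 j) • e8 j := by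
  apply Subtype.ext
  rw [AddSubgroup.coe_zsmul, AddSubgroup.val_finsetSum]
  funext i
  simp only [AddSubgroup.coe_zsmul, e8, Finset.sum_apply, Pi.smul_apply, smul_eq_mul]
  rw [Finset.sum_eq_single i]
  · simp [mul_comm]
  · intro b _ hb
    simp [Pi.single_eq_of_ne (Ne.symm hb)]
  · simp

theorem eight_smul_map (f : Equiv.Perm leechLattice) (hf : f ∈ Co0) (v : ↥leechLattice) :
    (8 : ℤ) • f v = ∑ j, (v.1 j) • f (e8 j) := by
  have := congrArg (toAdd f hf) (eight_smul_eq v)
  rw [map_zsmul, map_sum] at this
  simpa only [map_zsmul, toAdd_apply] using this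

/-- the linear map mod 13 -/
noncomputable def L (f : Equiv.Perm leechLattice) : V →ₗ[K] V :=
  Fintype.linearCombination K (fun j => (8 : K)⁻¹ • red (f (e8 j)).1)

theorem L_apply (f : Equiv.Perm leechLattice) (x : V) :
    L f x = ∑ j, x j • ((8 : K)⁻¹ • red (f (e8 j)).1) := by
  rw [L, Fintype.linearCombination_apply]

theorem red_zsmul (a : ℤ) (v : GolayPt → ℤ) : red (a • v) = (a : K) • red v := by
  funext i; simp [red_apply]

theorem eight_ne : (8 : K) ≠ 0 := by decide

theorem L_red (f : Equiv.Perm leechLattice) (hf : f ∈ Co0) (v : ↥leechLattice) :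
    L f (red v.1) = red (f v).1 := by
  have h := congrArg (fun w : ↥leechLattice => red w.1) (eight_smul_map f hf v)
  simp only [AddSubgroup.coe_zsmul, AddSubgroup.val_finsetSum, map_sum, red_zsmul] at h
  rw [L_apply]
  have h2 : ∑ j, red v.1 j • ((8 : K)⁻¹ • red (f (e8 j)).1)
      = (8 : K)⁻¹ • ∑ j, ((v.1 j : ℤ) : K) • red (f (e8 j)).1 := by
    rw [Finset.smul_sum]
    apply Finset.sum_congr rfl
    intro j _
    rw [smul_comm, red_apply]
  rw [h2, ← h, smul_smul]
  have : (8 : K)⁻¹ * ((8 : ℤ) : K) = 1 := by
    push_cast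
    exact inv_mul_cancel₀ eight_ne
  rw [this, one_smul]

theorem L_mul (f g : Equiv.Perm leechLattice) (hf : f ∈ Co0) :
    L (f * g) = L f * L g := by
  apply LinearMap.ext
  intro x
  rw [Module.End.mul_apply, L_apply g, map_sum, L_apply]
  apply Finset.sum_congr rfl
  intro j _
  rw [map_smul, map_smul, L_red f hf]
  rfl

theorem L_one : L 1 = 1 := by
  apply LinearMap.ext
  intro x
  rw [L_apply, Module.End.one_apply]
  funext i
  simp only [Equiv.Perm.coe_one, id_eq, Finset.sum_apply, Pi.smul_apply, smul_eq_mul, red_apply, e8]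
  rw [Finset.sum_eq_single i]
  · simp only [Pi.single_eq_same]
    push_cast
    rw [inv_mul_cancel₀ eight_ne, mul_one]
  · intro b _ hb
    simp [Pi.single_eq_of_ne (Ne.symm hb)]
  · simp

/-- polarization -/
theorem dot_map (f : Equiv.Perm leechLattice) (hf : f ∈ Co0) (v w : ↥leechLattice) :
    dotInt (f v).1 (f w).1 = dotInt v.1 w.1 := by
  have key : ∀ a b : GolayPt → ℤ, sqNorm (a + b) = sqNorm a + 2 * dotInt a b + sqNorm b := by
    intro a b
    simp only [sqNorm, dotInt, Pi.add_apply, Finset.mul_sum]
    rw [← Finset.sum_add_distrib, ← Finset.sum_add_distrib]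
    apply Finset.sum_congr rfl
    intro i _
    ring
  have h1 := hf.2 (v + w)
  rw [hf.1] at h1
  simp only [AddSubgroup.coe_add] at h1
  rw [key, key, hf.2 v, hf.2 w] at h1
  linarith

/-- the bilinear pairing with `u` as a functional -/
noncomputable def phi : V →ₗ[K] K :=
  Fintype.linearCombination K (fun j => ((vecU j : ℤ) : K))

theorem phi_apply (x : V) : phi x = ∑ j, x j * ((vecU j : ℤ) : K) := by
  rw [phi, Fintype.linearCombination_apply]; rfl

theorem phi_red (v : GolayPt → ℤ) : phi (red v) = ((dotInt v vecU : ℤ) : K) := by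
  rw [phi_apply, dotInt]
  push_cast
  rfl

theorem phi_L (f : Equiv.Perm leechLattice) (hf : f ∈ Co2) (x : V) : phi (L f x) = phi x := by
  have hfu : f leechU = leechU := hf.2
  rw [L_apply, map_sum]
  rw [phi_apply]
  apply Finset.sum_congr rfl
  intro j _
  rw [map_smul, map_smul, phi_red]
  have h := dot_map f hf.1 (e8 j) leechU
  rw [hfu] at h
  have h2 : dotInt (e8 j).1 leechU.1 = 8 * vecU j := by
    simp only [dotInt, e8, leechU]
    rw [Finset.sum_eq_single j]
    · simp
    · intro b _ hb
      simp [Pi.single_eq_of_ne hb]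
    · simp
  have h3 : dotInt (f (e8 j)).1 vecU = 8 * vecU j := by rw [← h2, ← h]; rfl
  rw [h3]
  push_cast
  simp only [smul_eq_mul]
  rw [← mul_assoc (8 : K)⁻¹, inv_mul_cancel₀ eight_ne, one_mul]

noncomputable def ubar : V := red vecU

theorem L_ubar (f : Equiv.Perm leechLattice) (hf : f ∈ Co2) : L f ubar = ubar := by
  have hfu : f leechU = leechU := hf.2
  have := L_red f hf.1 leechU
  rw [hfu] at this
  exact this

theorem phi_ubar : phi ubar = 6 := by
  rw [ubar, phi_red]
  decide

theorem ubar_ne : ubar ≠ 0 := by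
  intro h
  have := phi_ubar
  rw [h, map_zero] at this
  exact absurd this (by decide)

abbrev U : Submodule K V := Submodule.span K {ubar}

theorem U_le (f : Equiv.Perm leechLattice) (hf : f ∈ Co2) : U ≤ U.comap (L f) := by
  rw [Submodule.span_le]
  intro x hx
  rw [Set.mem_singleton_iff] at hx
  subst hx
  show L f ubar ∈ U
  rw [L_ubar f hf]
  exact Submodule.mem_span_singleton_self _

/-- faithfulness -/
theorem faithful (f : Equiv.Perm leechLattice) (hf : f ∈ Co0) (h : L f = 1) : f = 1 := by
  have h8 : ∀ j, f (e8 j) = e8 j := by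
    intro j
    have h1 := L_red f hf (e8 j)
    rw [h, Module.End.one_apply] at h1
    have hn := hf.2 (e8 j)
    have hn2 : sqNorm (e8 j).1 = 64 := by
      simp only [sqNorm, e8]
      rw [Finset.sum_eq_single j]
      · simp
      · intro b _ hb
        simp [Pi.single_eq_of_ne hb]
      · simp
    rw [hn2] at hn
    set w := (f (e8 j)).1 with hw
    have hb : ∀ i, w i ^ 2 ≤ 64 := by
      intro i
      rw [← hn]
      exact Finset.single_le_sum (f := fun i => w i ^ 2) (fun k _ => sq_nonneg (w k))
        (Finset.mem_univ i)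
    have hc : ∀ i, (13 : ℤ) ∣ (e8 j).1 i - w i := by
      intro i
      have := congrFun h1 i
      rw [red_apply, red_apply] at this
      have h2 : (((e8 j).1 i - w i : ℤ) : K) = 0 := by
        push_cast; rw [this]; ring
      rw [ZMod.intCast_zmod_eq_zero_iff_dvd] at h2
      exact_mod_cast h2
    have h0 : ∀ i, i ≠ j → w i = 0 := by
      intro i hij
      have h2 := hc i
      have h3 := hb i
      simp only [e8, Pi.single_eq_of_ne hij] at h2
      have h4 : -8 ≤ w i ∧ w i ≤ 8 := by constructor <;> nlinarith
      omega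
    have hj : w j ^ 2 = 64 := by
      rw [← hn]
      simp only [sqNorm]
      rw [Finset.sum_eq_single j]
      · intro b _ hb'
        rw [h0 b hb']; norm_num
      · simp
    have hj2 : w j = 8 := by
      have h2 := hc j
      simp only [e8, Pi.single_eq_same] at h2
      have h4 : w j = 8 ∨ w j = -8 := by
        have : (w j - 8) * (w j + 8) = 0 := by nlinarith
        rcases mul_eq_zero.1 this with h | h
        · left; omega
        · right; omega
      rcases h4 with h | h
      · exact h
      · rw [h] at h2; omega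
    apply Subtype.ext
    funext i
    show w i = (e8 j).1 i
    by_cases hij : i = j
    · subst hij; rw [hj2]; simp [e8]
    · rw [h0 i hij]; simp [e8, Pi.single_eq_of_ne hij]
  apply Equiv.ext
  intro v
  have h1 := eight_smul_map f hf v
  simp only [h8] at h1
  rw [← eight_smul_eq] at h1
  have h2 : (8 : ℤ) • (f v).1 = (8 : ℤ) • v.1 := congrArg Subtype.val h1
  apply Subtype.ext
  funext i
  have := congrFun h2 i
  simp only [Pi.smul_apply, smul_eq_mul] at this
  show (f v).1 i = v.1 i
  omega

/-- the action on the quotient -/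
noncomputable def rho : ↥Co2 →* Module.End K (V ⧸ U) where
  toFun f := U.mapQ U (L f.1) (U_le f.1 f.2)
  map_one' := by
    apply Submodule.linearMap_qext
    apply LinearMap.ext
    intro x
    simp [L_one]
  map_mul' f g := by
    apply Submodule.linearMap_qext
    apply LinearMap.ext
    intro x
    simp [L_mul f.1 g.1 f.2.1]

theorem rho_mk (f : ↥Co2) (x : V) : rho f (U.mkQ x) = U.mkQ (L f.1 x) := rfl

theorem rho_injective : Function.Injective rho := by
  rw [injective_iff_map_eq_one]
  intro f hf
  apply Subtype.ext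
  apply faithful f.1 f.2.1
  apply LinearMap.ext
  intro x
  rw [Module.End.one_apply]
  have h1 : rho f (U.mkQ x) = U.mkQ x := by rw [hf]; rfl
  rw [rho_mk] at h1
  have h2 : L f.1 x - x ∈ U := by
    rw [← Submodule.Quotient.mk_eq_zero, Submodule.Quotient.mk_sub, sub_eq_zero]
    exact h1
  obtain ⟨c, hc⟩ := Submodule.mem_span_singleton.1 h2
  have h3 := congrArg phi hc
  rw [map_smul, map_sub, phi_L f.1 f.2, sub_self, phi_ubar, smul_eq_mul] at h3
  have h4 : c = 0 := by
    rcases mul_eq_zero.1 h3 with h | h
    · exact h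
    · exact absurd h (by decide)
  rw [h4, zero_smul] at hc
  exact (sub_eq_zero.1 hc.symm)

theorem finrank_Q : Module.finrank K (V ⧸ U) = 23 := by
  have h1 := Submodule.finrank_quotient_add_finrank U
  have h2 : Module.finrank K U = 1 := finrank_span_singleton ubar_ne
  have h3 : Module.finrank K V = 24 := by
    rw [Module.finrank_pi]; decide
  omega

/-- The second Conway group (the stabilizer in the Leech lattice automorphism group of the short vector fixed in the definitions) is isomorphic to a subgroup of the general linear group of degree 23 over the field with 13 elements: there is an injective homomorphism into it. -/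
theorem result : ∃ f : ↥Cfsg.Spor.Co2 →* GL (Fin 23) (ZMod 13), Function.Injective f := by
  let b : Module.Basis (Fin 23) K (V ⧸ U) := Module.finBasisOfFinrankEq K (V ⧸ U) finrank_Q
  let e : Module.End K (V ⧸ U) ≃* Matrix (Fin 23) (Fin 23) K := (LinearMap.toMatrixAlgEquiv b).toMulEquiv
  refine ⟨(Units.map e.toMonoidHom).comp rho.toHomUnits, ?_⟩
  intro f g h
  apply rho_injective
  have h1 : Units.map e.toMonoidHom (rho.toHomUnits f) = Units.map e.toMonoidHom (rho.toHomUnits g) := h
  have h2 := congrArg Units.val h1
  simp only [Units.coe_map, MonoidHom.coe_toHomUnits] at h2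
  exact e.injective h2

end Cfsg.Agent.S5546
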