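import Cfsg.Statements.S5553
import Cfsg.Agent.Lib.Helper94Leech

set_option autoImplicit false
open Cfsg

namespace Cfsg.Agent.S5553

open Finset
open Cfsg.Agent.Lib.Helper9Golay Cfsg.Agent.Lib.Helper9Golay2 Cfsg.Agent.Lib.Helper94Leech

theorem par {v : GolayPt → ℤ} (hv : v ∈ leechLattice) (i j : GolayPt) : v i % 2 = v j % 2 := by
  rw [mem_leechLattice_iff, mem_leechSet_iff] at hv
  obtain ⟨m, h1, -, -⟩ := hv
  rw [h1 i, h1 j]

/-- the halving map -/
noncomputable def Psi : ↥leechLattice →+ (GolayPt → ZMod 2) where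
  toFun v := fun i => (((v.1 i + v.1 none) / 2 : ℤ) : ZMod 2)
  map_zero' := by
    funext i
    simp
  map_add' v w := by
    funext i
    have h1 := par v.2 i none
    have h2 := par w.2 i none
    have : ((v + w : ↥leechLattice).1 i + (v + w : ↥leechLattice).1 none) / 2
        = (v.1 i + v.1 none) / 2 + (w.1 i + w.1 none) / 2 := by
      simp only [AddSubgroup.coe_add, Pi.add_apply]
      omega
    simp only [Pi.add_apply]
    rw [this]
    push_cast
    rfl

theorem Psi_apply (v : ↥leechLattice) (i : GolayPt) :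
    Psi v i = (((v.1 i + v.1 none) / 2 : ℤ) : ZMod 2) := rfl

theorem cast_eq_zero_iff (a : ℤ) : ((a : ℤ) : ZMod 2) = 0 ↔ a % 2 = 0 := by
  rw [ZMod.intCast_zmod_eq_zero_iff_dvd]
  simp only [Nat.cast_ofNat]
  omega

theorem eq_of_support {c d : GolayPt → ZMod 2} (h : support₂ c = support₂ d) : c = d := by
  funext i
  have h1 : i ∈ support₂ c ↔ i ∈ support₂ d := by rw [h]
  simp only [support₂, mem_filter, mem_univ, true_and] at h1
  have key : ∀ a b : ZMod 2, (a ≠ 0 ↔ b ≠ 0) → a = b := by decide
  exact key _ _ h1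

theorem Psi_mem (v : ↥leechLattice) : Psi v ∈ golayCode := by
  have hv := v.2
  have hp := par v.2
  rw [mem_leechLattice_iff, mem_leechSet_iff] at hv
  obtain ⟨m, h1, h2, h3⟩ := hv
  obtain ⟨c, hc, hcs⟩ := h3 (2 - v.1 none)
  have : Psi v = c := by
    apply eq_of_support
    rw [hcs]
    ext i
    have := hp i none
    simp only [support₂, mem_filter, mem_univ, true_and, mem_cls, Psi_apply, ne_eq,
      cast_eq_zero_iff]
    omega
  rw [this]; exact hc

theorem compl_mem {s : Finset GolayPt} (hs : s ∈ Csup) : sᶜ ∈ Csup := by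
  have := symmDiff_mem_supports univ_mem hs
  have h2 : symmDiff univ s = sᶜ := by
    ext i; simp [Finset.mem_symmDiff]
  rwa [h2] at this

theorem two_ind_mem {c : GolayPt → ZMod 2} (hc : c ∈ golayCode) :
    (fun i => if c i = 0 then (0 : ℤ) else 2) ∈ leechLattice := by
  have hs : support₂ c ∈ Csup := ⟨c, hc, rfl⟩
  rw [mem_leechLattice_iff, mem_leechSet_iff]
  refine ⟨0, fun i => ?_, ?_, fun k => ?_⟩
  · by_cases h : c i = 0 <;> simp [h]
  · have : ∑ i, (if c i = 0 then (0 : ℤ) else 2) = 2 * (support₂ c).card := by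
      have h1 : ∀ i, (if c i = 0 then (0 : ℤ) else 2) = 2 * (if i ∈ support₂ c then (1 : ℤ) else 0) := by
        intro i
        by_cases h : c i = 0 <;> simp [h, support₂]
      rw [Finset.sum_congr rfl (fun i _ => h1 i), ← Finset.mul_sum, sum_ind]
    rw [this]
    obtain ⟨t, ht⟩ := four_dvd_card hs
    rw [ht]; push_cast; omega
  · have hk : k % 4 = 0 ∨ k % 4 = 2 ∨ (k % 4 ≠ 0 ∧ k % 4 ≠ 2) := by omega
    rcases hk with hk | hk | hk
    · have : cls (fun i => if c i = 0 then (0 : ℤ) else 2) k = (support₂ c)ᶜ := by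
        ext i
        by_cases h : c i = 0 <;> simp [h, support₂, mem_cls, hk]
      rw [this]; exact compl_mem hs
    · have : cls (fun i => if c i = 0 then (0 : ℤ) else 2) k = support₂ c := by
        ext i
        by_cases h : c i = 0 <;> simp [h, support₂, mem_cls, hk]
      rw [this]; exact hs
    · have : cls (fun i => if c i = 0 then (0 : ℤ) else 2) k = ∅ := by
        ext i
        by_cases h : c i = 0
        · simp only [h, mem_cls, if_true, notMem_empty, iff_false]
          intro h'; exact hk.1 h'.symm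
        · simp only [h, mem_cls, if_false, notMem_empty, iff_false]
          intro h'; exact hk.2 h'.symm
      rw [this]; exact empty_mem

theorem odd_mem : (fun i : GolayPt => if i = none then (-3 : ℤ) else 1) ∈ leechLattice := by
  rw [mem_leechLattice_iff, mem_leechSet_iff]
  refine ⟨1, fun i => ?_, ?_, fun k => ?_⟩
  · by_cases h : i = none <;> simp [h]
  · decide
  · by_cases hk : k % 4 = 1
    · have : cls (fun i : GolayPt => if i = none then (-3 : ℤ) else 1) k = univ := by
        ext i
        by_cases h : i = none <;> simp [h, mem_cls, hk]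
      rw [this]; exact univ_mem
    · have : cls (fun i : GolayPt => if i = none then (-3 : ℤ) else 1) k = ∅ := by
        ext i
        by_cases h : i = none
        · simp only [h, mem_cls, if_true, notMem_empty, iff_false]
          intro h'; exact hk h'.symm
        · simp only [h, mem_cls, if_false, notMem_empty, iff_false]
          intro h'; exact hk h'.symm
      rw [this]; exact empty_mem

theorem Psi_odd : Psi ⟨_, odd_mem⟩ = 1 := by
  funext i
  rw [Psi_apply]
  by_cases h : i = none
  · subst h; simp; decide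
  · simp [h]

theorem Psi_two_ind {c : GolayPt → ZMod 2} (hc : c ∈ golayCode) (h0 : c none = 0) :
    Psi ⟨_, two_ind_mem hc⟩ = c := by
  funext i
  rw [Psi_apply]
  have key : ∀ a : ZMod 2, a ≠ 0 → a = 1 := by decide
  by_cases h : c i = 0
  · simp [h, h0]
  · simp [h0, key _ h]

theorem range_Psi : (Psi.range : Set (GolayPt → ZMod 2)) = (golayCode : Set (GolayPt → ZMod 2)) := by
  ext c
  constructor
  · rintro ⟨v, rfl⟩
    exact Psi_mem v
  · intro hc
    have hc' : c ∈ golayCode := hc
    by_cases h0 : c none = 0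
    · exact ⟨_, Psi_two_ind hc' h0⟩
    · have h1 : (1 : GolayPt → ZMod 2) ∈ golayCode := Submodule.subset_span (Or.inr rfl)
      have hc1 : c + 1 ∈ golayCode := golayCode.add_mem hc' h1
      have key : ∀ a : ZMod 2, a ≠ 0 → a + 1 = 0 := by decide
      have h0' : (c + 1) none = 0 := key _ h0
      refine ⟨⟨_, two_ind_mem hc1⟩ + ⟨_, odd_mem⟩, ?_⟩
      rw [map_add, Psi_two_ind hc1 h0', Psi_odd]
      funext i
      have key2 : ∀ a : ZMod 2, a + 1 + 1 = a := by decide
      exact key2 _

theorem index_ker : Psi.ker.index = 2 ^ 12 := by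
  rw [AddSubgroup.index_ker]
  have : Nat.card Psi.range = Nat.card golayCode := by
    apply Nat.card_congr
    exact Equiv.setCongr range_Psi
  rw [this, card_golayCode]; norm_num

theorem mem_ker_iff (v : ↥leechLattice) : v ∈ Psi.ker ↔ ∀ i, (v.1 i + v.1 none) % 4 = 0 := by
  rw [AddMonoidHom.mem_ker]
  have hp := par v.2
  constructor
  · intro h i
    have := congrFun h i
    rw [Psi_apply, Pi.zero_apply, cast_eq_zero_iff] at this
    have := hp i none
    omega
  · intro h
    funext i
    rw [Psi_apply, Pi.zero_apply, cast_eq_zero_iff]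
    have := h i
    omega

theorem norm_ker {v : GolayPt → ℤ} (hv : v ∈ leechLattice) (h : ∀ i, (v i + v none) % 4 = 0) :
    (32 : ℤ) ∣ sqNorm v := by
  have h0 := h none
  rw [mem_leechLattice_iff, mem_leechSet_iff] at hv
  obtain ⟨m, h1, h2, h3⟩ := hv
  have hm := h1 none
  have hcase : v none % 4 = 0 ∨ v none % 4 = 2 := by omega
  have hsq : ∀ a : ℤ, ∃ b : ℤ, a ^ 2 = a + 2 * b := by
    intro a
    obtain ⟨b, hb⟩ := Int.even_mul_pred_self a
    exact ⟨b, by nlinarith⟩
  rcases hcase with hc | hc
  · have : ∀ i, ∃ a : ℤ, v i = 4 * a := fun i => ⟨v i / 4, by have := h i; omega⟩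
    choose a ha using this
    choose b hb using fun i => hsq (a i)
    have hn : sqNorm v = 16 * ∑ i, a i + 32 * ∑ i, b i := by
      simp only [sqNorm]
      rw [Finset.mul_sum, Finset.mul_sum, ← Finset.sum_add_distrib]
      apply Finset.sum_congr rfl
      intro i _
      rw [ha i, mul_pow, hb i]; ring
    have hs : ∑ i, v i = 4 * ∑ i, a i := by
      rw [Finset.mul_sum]; exact Finset.sum_congr rfl (fun i _ => ha i)
    rw [hs] at h2
    rw [hn]
    generalize ∑ i, a i = A at h2 ⊢
    generalize ∑ i, b i = B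
    omega
  · have : ∀ i, ∃ a : ℤ, v i = 2 + 4 * a := fun i => ⟨(v i - 2) / 4, by have := h i; omega⟩
    choose a ha using this
    choose b hb using fun i => hsq (a i)
    have hn : sqNorm v = 96 + 32 * ∑ i, (a i + b i) := by
      simp only [sqNorm]
      have : (96 : ℤ) = ∑ _i : GolayPt, (4 : ℤ) := by
        rw [Finset.sum_const, card_pts]; norm_num
      rw [this, Finset.mul_sum, ← Finset.sum_add_distrib]
      apply Finset.sum_congr rfl
      intro i _
      have := hb i
      rw [ha i]
      nlinarith
    rw [hn]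
    exact ⟨3 + ∑ i, (a i + b i), by ring⟩

/-- The Leech lattice of the definitions has an additive subgroup A containing twice the lattice, of index 2^12 in the lattice, all of whose vectors have squared length divisible by 32: the invariant quadratic form 'squared length over 16 modulo 2' on the lattice modulo twice the lattice (a 24-dimensional space over the field with two elements) vanishes on a 12-dimensional subspace, so it is of plus type. -/
theorem result : ∃ A : AddSubgroup (Cfsg.GolayPt → ℤ), A ≤ Cfsg.leechLattice ∧ (∀ v ∈ Cfsg.leechLattice, (2 : ℤ) • v ∈ A) ∧ (A.addSubgroupOf Cfsg.leechLattice).index = 2 ^ 12 ∧ ∀ v ∈ A, (32 : ℤ) ∣ Cfsg.sqNorm v := by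
  refine ⟨Psi.ker.map leechLattice.subtype, ?_, ?_, ?_, ?_⟩
  · rintro _ ⟨v, -, rfl⟩
    exact v.2
  · intro v hv
    refine ⟨(2 : ℤ) • ⟨v, hv⟩, ?_, rfl⟩
    show (2 : ℤ) • (⟨v, hv⟩ : ↥leechLattice) ∈ Psi.ker
    rw [AddMonoidHom.mem_ker, map_zsmul]
    funext i
    have key : ∀ a : ZMod 2, (2 : ℤ) • a = 0 := by decide
    exact key _
  · have : (Psi.ker.map leechLattice.subtype).addSubgroupOf leechLattice = Psi.ker := by
      rw [AddSubgroup.addSubgroupOf]
      exact AddSubgroup.comap_map_eq_self_of_injective (AddSubgroup.subtype_injective _) _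
    rw [this, index_ker]
  · rintro _ ⟨v, hv, rfl⟩
    exact norm_ker v.2 ((mem_ker_iff v).1 hv)

end Cfsg.Agent.S5553
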