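import Cfsg.Statements.S1571
import Cfsg.Agent.S5546
import Cfsg.Agent.S5553
import Cfsg.Agent.S0432
import Cfsg.Agent.S0433
import Cfsg.Agent.Lib.Helper9M24Order

set_option autoImplicit false
open scoped Pointwise
open Cfsg

namespace Cfsg.Agent.S1571

open Finset
open Cfsg.Agent.Lib.Helper9Golay Cfsg.Agent.Lib.Helper9Golay2 Cfsg.Agent.Lib.Helper94Leech
  Cfsg.Agent.Lib.Helper9M24 Cfsg.Agent.Lib.Helper9M24Order
open Cfsg.Agent.S5546 (e8 eight_smul_map dot_map)
open Cfsg.Agent.S5553 (two_ind_mem odd_mem)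

theorem dot_single (a b : GolayPt) (x y : ℤ) :
    dotInt (Pi.single a x : GolayPt → ℤ) (Pi.single b y) = if a = b then x * y else 0 := by
  classical
  simp only [dotInt]
  rw [Finset.sum_eq_single a]
  · by_cases h : a = b
    · subst h; simp
    · simp [h]
  · intro k _ hk
    simp [Pi.single_eq_of_ne hk]
  · simp

theorem part1 (g : Equiv.Perm leechLattice) (hg : g ∈ Co0)
    (hst : ∀ v : ↥leechLattice, v.1 ∈ stdCross → (g v).1 ∈ stdCross) :
    ∃ σ ∈ M24, ∃ c ∈ Csup, ∀ v : ↥leechLattice, (g v).1 = signedPerm σ c v.1 := by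
  classical
  have h8 : ∀ j, ∃ (i : GolayPt) (s : ℤ), (s = 8 ∨ s = -8) ∧ (g (e8 j)).1 = Pi.single i s :=
    fun j => hst (e8 j) ⟨j, 8, Or.inl rfl, rfl⟩
  choose τ s hs hτ using h8
  have hinj : Function.Injective τ := by
    intro i j hij
    by_contra hne
    have h1 := dot_map g hg (e8 i) (e8 j)
    rw [hτ i, hτ j, dot_single, if_pos hij] at h1
    have h2 : dotInt (e8 i).1 (e8 j).1 = 0 := by
      show dotInt (Pi.single i 8 : GolayPt → ℤ) (Pi.single j 8) = 0
      rw [dot_single, if_neg hne]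
    rw [h2] at h1
    rcases hs i with a | a <;> rcases hs j with b | b <;> rw [a, b] at h1 <;> norm_num at h1
  let σ : Equiv.Perm GolayPt := Equiv.ofBijective τ (Finite.injective_iff_bijective.1 hinj)
  have hσ : ∀ k, σ k = τ k := fun k => rfl
  have hform : ∀ (v : ↥leechLattice) (k : GolayPt), 8 * (g v).1 (τ k) = v.1 k * s k := by
    intro v k
    have h1 := congrArg (fun w : ↥leechLattice => w.1 (τ k)) (eight_smul_map g hg v)
    simp only [AddSubgroup.coe_zsmul, AddSubgroup.val_finsetSum, Finset.sum_apply, Pi.smul_apply,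
      smul_eq_mul, hτ] at h1
    rw [h1, Finset.sum_eq_single k]
    · simp
    · intro j _ hj
      rw [Pi.single_eq_of_ne (fun h => hj (hinj h).symm), mul_zero]
    · simp
  let c : Finset GolayPt := Finset.univ.filter (fun i => s (σ.symm i) = -8)
  have hgv : ∀ v : ↥leechLattice, (g v).1 = signedPerm σ c v.1 := by
    intro v
    funext i
    have h1 := hform v (σ.symm i)
    rw [← hσ, Equiv.apply_symm_apply] at h1
    simp only [signedPerm, c, Finset.mem_filter, Finset.mem_univ, true_and]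
    by_cases h : s (σ.symm i) = -8
    · rw [if_pos h]; rw [h] at h1; omega
    · rw [if_neg h]
      rcases hs (σ.symm i) with a | a
      · rw [a] at h1; omega
      · exact absurd a h
  refine ⟨σ, ?_, c, ?_, hgv⟩
  · rw [mem_M24_iff]
    rintro t ⟨w, hw, rfl⟩
    let v : ↥leechLattice := ⟨_, two_ind_mem hw⟩
    have hmem := (g v).2
    rw [mem_leechLattice_iff, mem_leechSet_iff] at hmem
    obtain ⟨-, -, -, h3⟩ := hmem
    have : cls (g v).1 2 = σ • support₂ w := by
      ext i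
      rw [mem_cls, hgv v, mem_smul_iff]
      simp only [signedPerm, support₂, Finset.mem_filter, Finset.mem_univ, true_and, v]
      have e : σ⁻¹ i = σ.symm i := rfl
      rw [e]
      by_cases h1 : i ∈ c <;> by_cases h2 : w (σ.symm i) = 0 <;> simp [h1, h2]
    rw [← this]; exact h3 2
  · let v : ↥leechLattice := ⟨_, odd_mem⟩
    have hmem := (g v).2
    rw [mem_leechLattice_iff, mem_leechSet_iff] at hmem
    obtain ⟨-, -, -, h3⟩ := hmem
    have : cls (g v).1 3 = c := by
      ext i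
      rw [mem_cls, hgv v]
      simp only [signedPerm, v]
      by_cases h1 : i ∈ c <;> by_cases h2 : σ.symm i = none <;> simp [h1, h2]
    rw [← this]; exact h3 3

theorem signedPerm_mem {σ : Equiv.Perm GolayPt} (hσ : σ ∈ M24) {c : Finset GolayPt} (hc : c ∈ Csup)
    {x : GolayPt → ℤ} (hx : x ∈ leechLattice) : signedPerm σ c x ∈ leechLattice :=
  Cfsg.Agent.S0433.result c hc _ (Cfsg.Agent.S0432.result σ⁻¹ (M24.inv_mem hσ) x hx)

theorem inv_mem' {σ : Equiv.Perm GolayPt} (hσ : σ ∈ M24) {c : Finset GolayPt} (hc : c ∈ Csup)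
    {x : GolayPt → ℤ} (hx : x ∈ leechLattice) :
    (fun j => if σ j ∈ c then - x (σ j) else x (σ j)) ∈ leechLattice :=
  Cfsg.Agent.S0432.result σ hσ _ (Cfsg.Agent.S0433.result c hc x hx)

/-- the monomial automorphism -/
def mon (σ : Equiv.Perm GolayPt) (hσ : σ ∈ M24) (c : Finset GolayPt) (hc : c ∈ Csup) :
    Equiv.Perm leechLattice where
  toFun v := ⟨signedPerm σ c v.1, signedPerm_mem hσ hc v.2⟩
  invFun v := ⟨fun j => if σ j ∈ c then - v.1 (σ j) else v.1 (σ j), inv_mem' hσ hc v.2⟩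
  left_inv v := by
    apply Subtype.ext
    funext j
    simp only [signedPerm, Equiv.symm_apply_apply]
    by_cases h : σ j ∈ c <;> simp [h]
  right_inv v := by
    apply Subtype.ext
    funext j
    simp only [signedPerm, Equiv.apply_symm_apply]
    by_cases h : j ∈ c <;> simp [h]

theorem mon_apply (σ : Equiv.Perm GolayPt) (hσ : σ ∈ M24) (c : Finset GolayPt) (hc : c ∈ Csup)
    (v : ↥leechLattice) : (mon σ hσ c hc v).1 = signedPerm σ c v.1 := rfl

theorem mon_mem (σ : Equiv.Perm GolayPt) (hσ : σ ∈ M24) (c : Finset GolayPt) (hc : c ∈ Csup) :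
    mon σ hσ c hc ∈ Co0 := by
  constructor
  · intro v w
    apply Subtype.ext
    funext i
    simp only [mon_apply, AddSubgroup.coe_add, signedPerm, Pi.add_apply]
    by_cases h : i ∈ c <;> simp [h]
    ring
  · intro v
    rw [mon_apply]
    simp only [sqNorm, signedPerm]
    rw [← Equiv.sum_comp σ.symm (fun k => v.1 k ^ 2)]
    apply Finset.sum_congr rfl
    intro i _
    by_cases h : i ∈ c <;> simp [h]

theorem signedPerm_single (σ : Equiv.Perm GolayPt) (c : Finset GolayPt) (i : GolayPt) (s : ℤ) :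
    signedPerm σ c (Pi.single i s) = Pi.single (σ i) (if σ i ∈ c then -s else s) := by
  classical
  funext k
  simp only [signedPerm]
  by_cases hk : k = σ i
  · subst hk
    simp
  · have : σ.symm k ≠ i := fun h => hk (by rw [← h]; simp)
    simp [Pi.single_eq_of_ne hk, Pi.single_eq_of_ne this]

theorem mon_std (σ : Equiv.Perm GolayPt) (hσ : σ ∈ M24) (c : Finset GolayPt) (hc : c ∈ Csup)
    (v : ↥leechLattice) (hv : v.1 ∈ stdCross) : (mon σ hσ c hc v).1 ∈ stdCross := by
  obtain ⟨i, s, hs, hv⟩ := hv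
  rw [mon_apply, hv, signedPerm_single]
  refine ⟨σ i, _, ?_, rfl⟩
  by_cases h : σ i ∈ c
  · rw [if_pos h]; rcases hs with rfl | rfl
    · right; rfl
    · left; rfl
  · rw [if_neg h]; exact hs

abbrev St : Type := {g : ↥Cfsg.Co0 // (∀ v : ↥Cfsg.leechLattice, (v : Cfsg.GolayPt → ℤ) ∈ Cfsg.stdCross → ((g • v : ↥Cfsg.leechLattice) : Cfsg.GolayPt → ℤ) ∈ Cfsg.stdCross)}

def Phi (x : ↥M24 × ↥Csup) : St :=
  ⟨⟨mon x.1.1 x.1.2 x.2.1 x.2.2, mon_mem _ _ _ _⟩, fun v hv => mon_std x.1.1 x.1.2 x.2.1 x.2.2 v hv⟩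

theorem Phi_inj : Function.Injective Phi := by
  classical
  rintro ⟨⟨σ, hσ⟩, ⟨c, hc⟩⟩ ⟨⟨σ', hσ'⟩, ⟨c', hc'⟩⟩ h
  have h1 : mon σ hσ c hc = mon σ' hσ' c' hc' := congrArg (fun x : St => x.1.1) h
  have h2 : ∀ j, (Pi.single (σ j) (if σ j ∈ c then (-8 : ℤ) else 8) : GolayPt → ℤ)
      = Pi.single (σ' j) (if σ' j ∈ c' then (-8 : ℤ) else 8) := by
    intro j
    have := congrArg (fun f : Equiv.Perm leechLattice => (f (e8 j)).1) h1
    simp only [mon_apply] at this
    have e : (e8 j).1 = Pi.single j 8 := rfl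
    rw [e, signedPerm_single, signedPerm_single] at this
    exact this
  have h3 : ∀ j, σ j = σ' j := by
    intro j
    by_contra hne
    have := congrFun (h2 j) (σ j)
    rw [Pi.single_eq_same, Pi.single_eq_of_ne hne] at this
    by_cases hh : σ j ∈ c <;> simp [hh] at this
  have hσσ : σ = σ' := Equiv.ext h3
  subst hσσ
  have h4 : c = c' := by
    ext i
    have := congrFun (h2 (σ.symm i)) i
    simp only [Equiv.apply_symm_apply, Pi.single_eq_same] at this
    by_cases a : i ∈ c <;> by_cases b : i ∈ c' <;> simp [a, b] at this ⊢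
  subst h4
  rfl

theorem Phi_surj : Function.Surjective Phi := by
  rintro ⟨⟨g, hg⟩, hst⟩
  obtain ⟨σ, hσ, c, hc, h⟩ := part1 g hg hst
  refine ⟨⟨⟨σ, hσ⟩, ⟨c, hc⟩⟩, ?_⟩
  apply Subtype.ext
  apply Subtype.ext
  apply Equiv.ext
  intro v
  apply Subtype.ext
  exact (h v).symm

/-- The stabiliser of the standard cross in the automorphism group of the lattice is the monomial group of the code: each of its elements acts as a signed permutation with permutation part in the code's group and sign set a codeword, and it has order 4096 · 244823040. -/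
theorem result : (∀ g : ↥Cfsg.Co0, (∀ v : ↥Cfsg.leechLattice, (v : Cfsg.GolayPt → ℤ) ∈ Cfsg.stdCross → ((g • v : ↥Cfsg.leechLattice) : Cfsg.GolayPt → ℤ) ∈ Cfsg.stdCross) → ∃ f ∈ Cfsg.golayMonomialMaps, ∀ v : ↥Cfsg.leechLattice, ((g • v : ↥Cfsg.leechLattice) : Cfsg.GolayPt → ℤ) = f (v : Cfsg.GolayPt → ℤ)) ∧ Nat.card {g : ↥Cfsg.Co0 // (∀ v : ↥Cfsg.leechLattice, (v : Cfsg.GolayPt → ℤ) ∈ Cfsg.stdCross → ((g • v : ↥Cfsg.leechLattice) : Cfsg.GolayPt → ℤ) ∈ Cfsg.stdCross)} = 4096 * 244823040 := by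
  constructor
  · rintro ⟨g, hg⟩ hst
    obtain ⟨σ, hσ, c, hc, h⟩ := part1 g hg hst
    exact ⟨signedPerm σ c, ⟨σ, hσ, c, hc, rfl⟩, h⟩
  · rw [← Nat.card_congr (Equiv.ofBijective Phi ⟨Phi_inj, Phi_surj⟩), Nat.card_prod, card_M24,
      Nat.card_coe_set_eq, ncard_supports, mul_comm]

end Cfsg.Agent.S1571
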