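import Cfsg.Statements.S1612
import Cfsg.Agent.Lib.Helper60TTj

set_option autoImplicit false
open Cfsg

namespace Cfsg.Agent.S1612

open Cfsg.Agent.Lib.Helper91Trans Cfsg.Agent.Lib.Helper60TTa
  Cfsg.Agent.Lib.Helper60TTb Cfsg.Agent.Lib.Helper60TTc Cfsg.Agent.Lib.Helper60TTd
  Cfsg.Agent.Lib.Helper60TTj

variable {G : Type*} [Group G] {D : Set G}

/-- a commuting set of involutions generates a 2-group -/
theorem isPGroup_two_closure {E : Set G} (hE2 : ∀ x ∈ E, x * x = 1)
    (hc : ∀ x ∈ E, ∀ y ∈ E, Commute x y) : IsPGroup 2 (Subgroup.closure E) := by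
  have h1 : Subgroup.closure E ≤ Subgroup.centralizer E := by
    rw [Subgroup.closure_le]
    intro x hx
    rw [SetLike.mem_coe, Subgroup.mem_centralizer_iff]
    intro y hy
    exact (hc y hy x hx).eq
  have h2 : Subgroup.closure E ≤ Subgroup.centralizer (Subgroup.closure E : Set G) := by
    rw [Subgroup.closure_le]
    intro x hx
    rw [SetLike.mem_coe, Subgroup.mem_centralizer_iff]
    intro y hy
    have := h1 hy
    rw [Subgroup.mem_centralizer_iff] at this
    exact (this x hx).symm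
  have h3 : ∀ g ∈ Subgroup.closure E, g * g = 1 := by
    intro g hg
    induction hg using Subgroup.closure_induction with
    | mem x hx => exact hE2 x hx
    | one => simp
    | mul a b ha hb iha ihb =>
      have hab : b * a = a * b := by
        have := h2 ha
        rw [Subgroup.mem_centralizer_iff] at this
        exact this b hb
      calc a * b * (a * b) = a * (b * a) * b := by group
        _ = (a * a) * (b * b) := by rw [hab]; group
        _ = 1 := by rw [iha, ihb, one_mul]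
    | inv a _ iha =>
      have : a⁻¹ * a⁻¹ = (a * a)⁻¹ := by group
      rw [this, iha, inv_one]
  rintro ⟨g, hg⟩
  refine ⟨1, Subtype.ext ?_⟩
  show g ^ (2 ^ 1) = 1
  rw [pow_one, pow_two]
  exact h3 g hg

/-- members of `D` in a 2-subgroup commute -/
theorem commute_of_mem_two_group (hD : IsThreeTranspositionSet D) {S : Subgroup G}
    (hS : IsPGroup 2 S) {x y : G} (hx : x ∈ D) (hy : y ∈ D) (hxS : x ∈ S) (hyS : y ∈ S) :
    Commute x y := by
  by_contra hn
  have h3 := cube_of_not_commute hD hx hy hn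
  obtain ⟨k, hk⟩ := hS ⟨x * y, S.mul_mem hxS hyS⟩
  have hk' : (x * y) ^ (2 ^ k) = 1 := by
    have := congrArg Subtype.val hk
    simpa using this
  have h1 : orderOf (x * y) ∣ 3 := orderOf_dvd_of_pow_eq_one h3
  have h2 : orderOf (x * y) ∣ 2 ^ k := orderOf_dvd_of_pow_eq_one hk'
  have hcop : Nat.Coprime 3 (2 ^ k) := Nat.Coprime.pow_right k (by norm_num)
  have h4 : orderOf (x * y) = 1 := Nat.eq_one_of_dvd_coprimes hcop h1 h2
  rw [orderOf_eq_one_iff] at h4
  apply hn
  have := eq_inv_of_mul_eq_one_right h4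
  rw [this]
  exact (Commute.refl x).inv_right

/-- a commuting set of largest size is the set of all members of `D` in any 2-subgroup containing
it -/
theorem eq_inter [Finite G] (hD : IsThreeTranspositionSet D) {E : Set G}
    (hmax : ∀ E' : Set G, E' ⊆ D → (∀ a ∈ E', ∀ b ∈ E', Commute a b) → E'.ncard ≤ E.ncard)
    (hE : E ⊆ D) {S : Subgroup G} (hS : IsPGroup 2 S) (hES : E ⊆ S) :
    E = {x | x ∈ D ∧ x ∈ S} := by
  have hsub : E ⊆ {x | x ∈ D ∧ x ∈ S} := fun x hx => ⟨hE hx, hES hx⟩
  apply Set.eq_of_subset_of_ncard_le hsub _ (Set.toFinite _)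
  apply hmax _ (fun x hx => hx.1)
  intro a ha b hb
  exact commute_of_mem_two_group hD hS ha.1 hb.1 ha.2 hb.2

/-- In a 3-transposition group (no solvable normal subgroup, perfect derived group), the normaliser of a commuting set of transpositions of maximum size contains a Sylow 2-subgroup and is doubly transitive on the set. -/
theorem result {G : Type*} [Group G] [Finite G] (hsol : ∀ N : Subgroup G, N.Normal → Group.IsSolvable ↥N → N = ⊥) (hperf : ⁅commutator G, commutator G⁆ = commutator G) {D : Set G} (hD : Cfsg.IsThreeTranspositionClass D) {E : Set G} (hE : E ⊆ D) (hc : ∀ a ∈ E, ∀ b ∈ E, Commute a b) (hmax : ∀ E' : Set G, E' ⊆ D → (∀ a ∈ E', ∀ b ∈ E', Commute a b) → E'.ncard ≤ E.ncard) : (∃ P : Sylow 2 G, (P : Subgroup G) ≤ Subgroup.normalizer E) ∧ ∀ a ∈ E, ∀ b ∈ E, ∀ c ∈ E, ∀ d ∈ E, a ≠ b → c ≠ d → ∃ g ∈ Subgroup.normalizer E, g * a * g⁻¹ = c ∧ g * b * g⁻¹ = d := by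
  have hconj := hconj_of_class hD
  have f2 : Fact (Nat.Prime 2) := ⟨Nat.prime_two⟩
  have hP := prim_of_fischer hsol hperf hD
  have hEp : IsPGroup 2 (Subgroup.closure E) :=
    isPGroup_two_closure (fun x hx => sq_one hD.1 (hE hx)) hc
  constructor
  · obtain ⟨P, hPE⟩ := hEp.exists_le_sylow
    refine ⟨P, ?_⟩
    have hEq := eq_inter hD.1 hmax hE P.2 (fun x hx => hPE (Subgroup.subset_closure hx))
    intro g hg
    rw [Subgroup.mem_set_normalizer_iff]
    intro n
    rw [hEq]
    constructor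
    · rintro ⟨h1, h2⟩
      exact ⟨hconj g n h1, Subgroup.mul_mem _ (Subgroup.mul_mem _ hg h2) (Subgroup.inv_mem _ hg)⟩
    · rintro ⟨h1, h2⟩
      refine ⟨(conj_mem_iff hconj g n).mp h1, ?_⟩
      have : n = g⁻¹ * (g * n * g⁻¹) * g := by group
      rw [this]
      exact Subgroup.mul_mem _ (Subgroup.mul_mem _ (Subgroup.inv_mem _ hg) h2) hg
  · intro a ha b hb c hcE d hd hab hcd
    -- step 1: move (a,b) to (c,d)
    obtain ⟨g1, hg1⟩ := exists_conj_of_class hD (hE ha) (hE hcE)
    have hb1 : g1 * b * g1⁻¹ ∈ Dn D c := by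
      rw [← hg1, conj_mem_Dn_iff hconj]
      exact ⟨hE hb, hab.symm, hc a ha b hb⟩
    have hd1 : d ∈ Dn D c := ⟨hE hd, hcd.symm, hc c hcE d hd⟩
    obtain ⟨k, hk, hkb⟩ := trans_Dn hD hP (hE hcE) _ hb1 d hd1
    have hkc : k * c * k⁻¹ = c := conj_self_of_mem_Kh (Kd_le_Kh c hk)
    set g2 := k * g1 with hg2
    have h2a : g2 * a * g2⁻¹ = c := by
      have : g2 * a * g2⁻¹ = k * (g1 * a * g1⁻¹) * k⁻¹ := by rw [hg2]; group
      rw [this, hg1, hkc]
    have h2b : g2 * b * g2⁻¹ = d := by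
      have : g2 * b * g2⁻¹ = k * (g1 * b * g1⁻¹) * k⁻¹ := by rw [hg2]; group
      rw [this, hkb]
    -- step 2: Sylow in the centralizer of c and d
    set C := Subgroup.centralizer ({c, d} : Set G) with hC
    set E2 : Set G := (fun x => g2 * x * g2⁻¹) '' E with hE2
    have hE2D : E2 ⊆ D := by
      rintro _ ⟨x, hx, rfl⟩; exact hconj g2 x (hE hx)
    have hE2c : ∀ x ∈ E2, ∀ y ∈ E2, Commute x y := by
      rintro _ ⟨x, hx, rfl⟩ _ ⟨y, hy, rfl⟩
      exact (commute_conj_conj_iff g2 x y).mpr (hc x hx y hy)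
    have hcE2 : c ∈ E2 := ⟨a, ha, h2a⟩
    have hdE2 : d ∈ E2 := ⟨b, hb, h2b⟩
    have hEC : Subgroup.closure E ≤ C := by
      rw [Subgroup.closure_le]
      intro x hx
      rw [SetLike.mem_coe, hC, Subgroup.mem_centralizer_iff]
      rintro y (rfl | rfl)
      · exact (hc _ hcE x hx).eq
      · exact (hc _ hd x hx).eq
    have hE2C : Subgroup.closure E2 ≤ C := by
      rw [Subgroup.closure_le]
      intro x hx
      rw [SetLike.mem_coe, hC, Subgroup.mem_centralizer_iff]
      rintro y (rfl | rfl)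
      · exact (hE2c _ hcE2 x hx).eq
      · exact (hE2c _ hdE2 x hx).eq
    have hE2p : IsPGroup 2 (Subgroup.closure E2) :=
      isPGroup_two_closure (fun x hx => sq_one hD.1 (hE2D hx)) hE2c
    obtain ⟨P1, hP1⟩ := (hEp.comap_subtype (K := C)).exists_le_sylow
    obtain ⟨P2, hP2⟩ := (hE2p.comap_subtype (K := C)).exists_le_sylow
    obtain ⟨h, hh⟩ := MulAction.exists_smul_eq C P2 P1
    set S1 := (P1 : Subgroup C).map C.subtype with hS1
    have hS1p : IsPGroup 2 S1 := P1.2.map _
    have hES1 : E ⊆ S1 := by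
      intro x hx
      have hxC : x ∈ C := hEC (Subgroup.subset_closure hx)
      exact ⟨⟨x, hxC⟩, hP1 (Subgroup.mem_subgroupOf.mpr (Subgroup.subset_closure hx)), rfl⟩
    have hEq := eq_inter hD.1 hmax hE hS1p hES1
    have hsub : (fun x => (h : G) * x * (h : G)⁻¹) '' E2 ⊆ E := by
      rintro _ ⟨x, hx, rfl⟩
      rw [hEq]
      refine ⟨hconj _ x (hE2D hx), ?_⟩
      have hxC : x ∈ C := hE2C (Subgroup.subset_closure hx)
      have h1 : (⟨x, hxC⟩ : C) ∈ (P2 : Subgroup C) :=
        hP2 (Subgroup.mem_subgroupOf.mpr (Subgroup.subset_closure hx))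
      have h2 : h * ⟨x, hxC⟩ * h⁻¹ ∈ ((h • P2 : Sylow 2 C) : Subgroup C) := by
        rw [Sylow.coe_subgroup_smul]
        exact ⟨⟨x, hxC⟩, h1, rfl⟩
      rw [hh] at h2
      exact ⟨_, h2, rfl⟩
    have himg : (fun x => ((h : G) * g2) * x * ((h : G) * g2)⁻¹) '' E = E := by
      have e : (fun x => ((h : G) * g2) * x * ((h : G) * g2)⁻¹) '' E
          = (fun x => (h : G) * x * (h : G)⁻¹) '' E2 := by
        rw [hE2, Set.image_image]
        apply Set.image_congr
        intro x _
        group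
      rw [e]
      apply Set.eq_of_subset_of_ncard_le hsub _ (Set.toFinite _)
      rw [Set.ncard_image_of_injective _ (conj_inj _), hE2,
        Set.ncard_image_of_injective _ (conj_inj _)]
    have hhC : (h : G) ∈ Subgroup.centralizer ({c, d} : Set G) := h.2
    rw [Subgroup.mem_centralizer_iff] at hhC
    refine ⟨(h : G) * g2, ?_, ?_, ?_⟩
    · rw [Subgroup.mem_set_normalizer_iff]
      intro n
      constructor
      · intro hn
        rw [← himg]; exact ⟨n, hn, rfl⟩
      · intro hn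
        rw [← himg] at hn
        obtain ⟨m, hm, hmn⟩ := hn
        rw [← conj_inj _ hmn]; exact hm
    · have : (h : G) * g2 * a * ((h : G) * g2)⁻¹ = (h : G) * (g2 * a * g2⁻¹) * (h : G)⁻¹ := by group
      rw [this, h2a, ← hhC c (by simp), mul_inv_cancel_right]
    · have : (h : G) * g2 * b * ((h : G) * g2)⁻¹ = (h : G) * (g2 * b * g2⁻¹) * (h : G)⁻¹ := by group
      rw [this, h2b, ← hhC d (by simp), mul_inv_cancel_right]

end Cfsg.Agent.S1612
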