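import Cfsg.Statements.S1615
import Cfsg.Agent.Lib.Helper60TTj
import Cfsg.Agent.Lib.Helper91F2

set_option autoImplicit false
open Cfsg

namespace Cfsg.Agent.S1615

/-- If O(⟨D_x⟩) is not central in ⟨D_x⟩ for some transposition x, the 3-transposition group is the symmetric group of degree 5. -/
theorem result {G : Type*} [Group G] [Finite G] (hsol : ∀ N : Subgroup G, N.Normal → Group.IsSolvable ↥N → N = ⊥) (hperf : ⁅commutator G, commutator G⁆ = commutator G) {D : Set G} (hD : Cfsg.IsThreeTranspositionClass D) (x : G) (hx : x ∈ D) (h : ¬ Cfsg.oddCore ↥(Subgroup.closure {y : G | y ∈ D ∧ y ≠ x ∧ Commute x y}) ≤ Subgroup.center ↥(Subgroup.closure {y : G | y ∈ D ∧ y ≠ x ∧ Commute x y})) : Nonempty (G ≃* Equiv.Perm (Fin 5)) := by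
  have hP := Cfsg.Agent.Lib.Helper60TTj.prim_of_fischer hsol hperf hD
  have h' : ¬ Cfsg.oddCore ↥(Subgroup.closure (Cfsg.Agent.Lib.Helper60TTb.Dn D x)) ≤
      Subgroup.center ↥(Subgroup.closure (Cfsg.Agent.Lib.Helper60TTb.Dn D x)) := h
  have hne : (Cfsg.Agent.Lib.Helper60TTb.Dn D x).Nonempty := by
    by_contra hemp
    rw [Set.not_nonempty_iff_eq_empty] at hemp
    apply h'
    intro o _
    have h2 : Subgroup.closure (Cfsg.Agent.Lib.Helper60TTb.Dn D x) ≤ ⊥ := by
      rw [hemp, Subgroup.closure_empty]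
    have h3 : (o : G) = 1 := Subgroup.mem_bot.1 (h2 o.2)
    have h4 : o = 1 := Subtype.ext h3
    rw [h4]
    exact Subgroup.one_mem _
  obtain ⟨a, ha⟩ := hne
  exact Cfsg.Agent.Lib.Helper91F2.iso_S5 hD hP
    (Cfsg.Agent.Lib.Helper91F1.exists_Wr hD hP hx h') hx ha

end Cfsg.Agent.S1615
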