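import Cfsg.Statements.S1618
import Cfsg.Agent.S5560
import Cfsg.Agent.Lib.Helper28Fitting

set_option autoImplicit false
open Cfsg

namespace Cfsg.Agent.S1618

/-- A group generated by a class of involutions whose pairwise products (of distinct members) have p-power order for a fixed odd prime p has nilpotent derived subgroup. -/
theorem result {G : Type*} [Group G] [Finite G] (p : ℕ) (hp : p.Prime) (hodd : p ≠ 2) {D : Set G} (hinv : ∀ d ∈ D, orderOf d = 2) (hconj : ∃ d ∈ D, D = conjugatesOf d) (hgen : Subgroup.closure D = ⊤) (hprod : ∀ x ∈ D, ∀ y ∈ D, x ≠ y → ∃ k : ℕ, orderOf (x * y) = p ^ k) : Group.IsNilpotent ↥(commutator G) := by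
  obtain ⟨d, hdD, hDd⟩ := hconj
  have : Fact p.Prime := ⟨hp⟩
  have hd : orderOf d = 2 := hinv d hdD
  have hdd : d * d = 1 := by rw [← pow_two, ← hd, pow_orderOf_eq_one]
  have hprod' : ∀ a ∈ conjugatesOf d, ∀ b ∈ conjugatesOf d, ∃ k : ℕ, orderOf (a * b) = p ^ k := by
    intro a ha b hb
    by_cases hab : a = b
    · subst hab
      refine ⟨0, ?_⟩
      have h2 : orderOf a = 2 := hinv a (hDd ▸ ha)
      have : a * a = 1 := by rw [← pow_two, ← h2, pow_orderOf_eq_one]
      rw [this, orderOf_one, pow_zero]
    · exact hprod a (hDd ▸ ha) b (hDd ▸ hb) hab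
  have key := Cfsg.Agent.S5560.result hp hodd d hd hprod'
  set K := Cfsg.pCore p G with hK
  have hKn : K.Normal := Subgroup.sSup_normal _ fun N hN => hN.1
  have hKp : IsPGroup p K := Cfsg.Agent.Lib.Helper28Fitting.pCore_isPGroup p
  have hmap : (⊤ : Subgroup G) ≤
      (Subgroup.zpowers (QuotientGroup.mk' K d)).comap (QuotientGroup.mk' K) := by
    rw [← hgen, Subgroup.closure_le]
    intro a ha
    have h1 : d * a ∈ K := key d mem_conjugatesOf_self a (hDd ▸ ha)
    have h2 : QuotientGroup.mk' K a = QuotientGroup.mk' K d := by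
      have h3 : QuotientGroup.mk' K (d * a) = 1 := (QuotientGroup.eq_one_iff _).mpr h1
      rw [map_mul] at h3
      have h4 : QuotientGroup.mk' K d * QuotientGroup.mk' K d = 1 := by
        rw [← map_mul, hdd, map_one]
      calc QuotientGroup.mk' K a = (QuotientGroup.mk' K d * QuotientGroup.mk' K d) *
            QuotientGroup.mk' K a := by rw [h4, one_mul]
        _ = QuotientGroup.mk' K d * (QuotientGroup.mk' K d * QuotientGroup.mk' K a) := by
            rw [mul_assoc]
        _ = QuotientGroup.mk' K d := by rw [h3, mul_one]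
    simp only [Subgroup.coe_comap, Set.mem_preimage, SetLike.mem_coe, h2]
    exact Subgroup.mem_zpowers _
  have hcomm : commutator G ≤ K := by
    rw [commutator_def, Subgroup.commutator_le]
    intro a _ b _
    obtain ⟨i, hi⟩ := Subgroup.mem_zpowers_iff.mp (hmap (Subgroup.mem_top a))
    obtain ⟨j, hj⟩ := Subgroup.mem_zpowers_iff.mp (hmap (Subgroup.mem_top b))
    rw [← QuotientGroup.eq_one_iff, ← QuotientGroup.mk'_apply, map_commutatorElement, ← hi, ← hj,
      commutatorElement_eq_one_iff_commute]
    exact (Commute.refl _).zpow_zpow i j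
  exact (hKp.to_le hcomm).isNilpotent

end Cfsg.Agent.S1618
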