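import Cfsg.Statements.S1638
import Cfsg.Agent.Lib.Helper34M24b
import Cfsg.Agent.Lib.Helper33Sets

set_option autoImplicit false
open scoped Pointwise
open Cfsg

namespace Cfsg.Agent.S1638

open Cfsg.Agent.Lib.Helper33Golay Cfsg.Agent.Lib.Helper33Orbit Cfsg.Agent.Lib.Helper33Transport
open Cfsg.Agent.Lib.Helper33Sets
open Cfsg.Agent.Lib.Helper34M24 Cfsg.Agent.Lib.Helper34M12 Cfsg.Agent.Lib.Helper34M24b

def gens : List ℕ := [883111688216551300683719088418130976, 672623835471008032009466147885910048]

def tbl : ℕ := 0x800000000000000000000510000000000000000000000000000000300000000600000000000000000000000000000000000000000000000000000000000000000700600000000000000200000000000000000000000000000000000000000000000000000000000000210000000000000000000000000000000000000000000000000000000000910000000700000610000000000000000000000000000000900000000000000000000000000000000000000000000000000000000000000000000000000000000000000000000000800000000000000000000000000700000000000000000000400000000000000000000000000000000000000000000000000000000000000000000000000000000000000000000000510a1000000000000000000000000070071000000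0000000610000000000000000000000610000000000510000000000000410000000000000000000000000000000000000000000000000000000000000000000000000000000400000000000000000000000000000000000800000000000000000000000610000610000000000000000000000410000000000000000000900000000000000000000000000000000600000000000000000000100000000000000600000000000000000410000000610000000000000000000000000000000000000000000400000000000000000000000000000000000000000000000000000000000000000000000000000000000000000000000300000000000000000000000000000000000000000700000300700000000000000000000400000000000300000000000000000000000000000000400000000000000000000000000000400200000000000000000000000210000000000000000000310000000000000000000000310000000000400000000000000000700000000000000000000000000000000910000000000000000000000000000000000000000000000000000000000000000000000000000000000000000000000000000000000000000300000000000000000000000000000000000000000000000000000110000510000000000000000000000000500000000000000000000000000000000000000000000000600000000000000000000000000600000900000000000000000000000000600000000000000000000000000000000000000000810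0000000000000000000000008000000000000000000000000000000000000006000000003100008100000000000000000000000008000000003100000000000000000007005100000000000000000000000000000005000000000000000000000000000000002100000000000000000000000000000000000000008100000000000000000000000000000004007000000000000000000000000000007000000000000000000000000000000000000000000000000000000000000000006100000000000000005000000000000000000000000000000000000000000000000000000000000000000000000008100000000000000000006000000000008000004000000000000000006000000000005100000000000003000000005105000000002100000000000000000000007100000000000007000000000000000000000001007000004104000000000000000000005100000000004100000000000000000006100000000000000000000000000000000000000000000000000000000000000005000000000000000000002100000000000000003100000007100000000000000000000000000000000000000000000000000000000000000000000000000000000000000000004000000000000000000000000000007000000000000000000000000005100000000000000000000000007100000000000000000000000000000000000004100000000000000000000000000000000000004100000000000000000000000000009000000000000000000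0000060000000000000000000000000000000000000000000000051000000000000000000000071000000000000000000000000000000000000000000000070000000000000071000000030000000000060000000000000000000000000000000000000000000000000000060000000000000000050000000000071051000000000050000000000000000000000000051000000000000000061000000071000000000000000000000000070000000000000000000000000000000000000000000000051000000000000000000050021000000000051000000000000000000000000000000000000060000000000061000000000000000000000000000000000000000000000000000060000000000000000000000000000000000000000000000000000000061000000000000000000000000081070000000000000000000000000000000000000000000000000030011000000000000000000000000000000000000000000000041000000000000000000000080071000000000000000031000000000080000000000000000000000000000000050000090000000000000020000000000000000060000000000000061000000000000000000000000051000041000000051000000000000000050000000000000000000000000000080000080071000000070000080000000000050000000000000000030000000000000000000061041000000000011000000000000000000000000000000000000000000000000000000000051000000070000000000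0000000000000000000000000000000000000000700000000000000310000000000000000000000000610000000000000000000000000000000000000900000000000000500000000000700000000000000000000000410000000000710000000000000000000000200000000000310000000000000000000000000000000800000000500000600000000000000000000800000000410000000000000000800000000000000000000000410000000000710000000000000000000000000000000000000000000000810000000000000000000000000000000000000700000000000000710000000000000000000000000410000000000000000000000810000000000710000000000000000000000000000000900500000000000000000000000a100000000000000000005000000006100000000000005005000006005100000000000006000000000003004000000000000000000000000000000004000000000000000000000000000007100000000000000000004000000000000000000000000007000007000000000002000003100000000004100000000000000000000000008006000000000000001000000004100000000002000000000000000000000000000005100000000000000000000000006100000000000000000000000000000000000000000000000f00000000000000000000004000000000005000000000000000000009000000000000000000000000000000000000000006100000000000000000000000000000000000000000008100000006000000000000000000000000000000000000005000000000000000000000005000000000004100000000000000009100000000000000000000000000000000000000000f00000000006100000000005000000000006000000000000008000000000000000000003000003000000f000000000000000000000000091000000000000000000000000000000000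

def rootOf (c : ℕ) : ℕ :=
  bif Nat.beq c 0 then 48 else bif Nat.beq c 1 then 144 else 20

def oct5 : List ℕ := [5279, 622863, 3416079, 4196943, 8536111]

def hashM : ℕ := 1801

def propB (m : ℕ) : Bool := oct5.any (fun o => Nat.beq (Nat.land (Nat.lor 15 m) o) (Nat.lor 15 m))

def av (m : ℕ) : Bool := !(m.testBit 0) && !(m.testBit 1)

def X (m : ℕ) : Bool := isK 2 m && av m && !(Nat.beq m 12)

def cls (m : ℕ) : ℕ := Nat.add (Nat.mul 2 (pop (Nat.land 12 m))) (bif propB m then 1 else 0)

def H : Subgroup (Equiv.Perm GolayPt) := HF [0, 1] ⊓ MulAction.stabilizer (Equiv.Perm GolayPt) (dec 12)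

theorem gens_ok : gens.all (fun P => inHF [0, 1] P && Nat.beq (app P 12) 12) = true := by decide +kernel

set_option maxRecDepth 100000 in
theorem chk_ok : (duadL.filter X).all (chk gens tbl (fun m => Nat.mod m hashM) X cls rootOf) = true := by
  decide +kernel

theorem base (a b : ℕ) (ha : X a = true) (hb : X b = true) (h : cls a = cls b) :
    ∃ g ∈ H, g • dec a = dec b := by
  refine reach_of_chk _ gens tbl _ X cls rootOf (duadL.filter X) ?_ ?_ chk_ok a b ha hb h
  · intro P hP
    have h1 := List.all_eq_true.1 gens_ok P hP
    rw [Bool.and_eq_true] at h1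
    obtain ⟨hv, hm⟩ := inHF_spec h1.1
    refine ⟨hv, Subgroup.mem_inf.2 ⟨hm, ?_⟩⟩
    rw [MulAction.mem_stabilizer_iff, smul_dec hv, Nat.eq_of_beq_eq_true h1.2]
  · intro m hm
    have hm' := hm
    unfold X at hm'
    rw [Bool.and_eq_true, Bool.and_eq_true] at hm'
    exact List.mem_filter.2 ⟨isK_2_mem hm'.1.1, hm⟩

theorem dec3 : dec 3 = {pt 0, pt 1} := by
  have : (3 : ℕ) = 2 ^ 0 ||| 2 ^ 1 := by decide
  rw [this, dec_or, dec_two_pow' (by norm_num), dec_two_pow' (by norm_num)]
  rfl

theorem dec12 : dec 12 = {pt 2, pt 3} := by
  have : (12 : ℕ) = 2 ^ 2 ||| 2 ^ 3 := by decide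
  rw [this, dec_or, dec_two_pow' (by norm_num), dec_two_pow' (by norm_num)]
  rfl

theorem dec15 : dec 15 = {pt 0, pt 1} ∪ dec 12 := by
  have : (15 : ℕ) = 3 ||| 12 := by decide
  rw [this, dec_or, dec3]

theorem oct5_sub : ∀ o ∈ oct5, o ∈ octL := by decide +kernel

set_option maxRecDepth 100000 in
theorem oct5_complete : ∀ o ∈ octL, 15 &&& o = 15 → o ∈ oct5 := by decide +kernel

theorem sub_iff (t o : Finset GolayPt) :
    (pt 0 ∈ o ∧ pt 1 ∈ o ∧ dec 12 ∪ t ⊆ o) ↔ dec (15 ||| enc t) ⊆ o := by
  rw [dec_or, dec_enc, dec15]
  constructor
  · rintro ⟨h0, h1, h2⟩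
    intro x hx
    simp only [Finset.mem_union, Finset.mem_insert, Finset.mem_singleton] at hx
    rcases hx with ((rfl | rfl) | hx) | hx
    · exact h0
    · exact h1
    · exact h2 (Finset.mem_union_left _ hx)
    · exact h2 (Finset.mem_union_right _ hx)
  · intro h
    refine ⟨h (by simp), h (by simp), ?_⟩
    intro x hx
    apply h
    simp only [Finset.mem_union] at hx ⊢
    rcases hx with hx | hx
    · exact Or.inl (Or.inr hx)
    · exact Or.inr hx

theorem propB_iff (t : Finset GolayPt) :
    (∃ o ∈ octads, pt 0 ∈ o ∧ pt 1 ∈ o ∧ dec 12 ∪ t ⊆ o) ↔ propB (enc t) = true := by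
  have hlt : 15 ||| enc t < 2 ^ 24 := Nat.or_lt_two_pow (by norm_num) (enc_lt t)
  unfold propB
  rw [List.any_eq_true]
  constructor
  · rintro ⟨o, ho, h⟩
    rw [sub_iff] at h
    have h1 : (15 ||| enc t) &&& enc o = 15 ||| enc t := by
      rw [← dec_subset_iff hlt, dec_enc]; exact h
    have h2 : 15 &&& enc o = 15 := by
      rw [← dec_subset_iff (by norm_num), dec_enc]
      refine subset_trans ?_ h
      rw [dec_or]; exact Finset.subset_union_left
    refine ⟨enc o, oct5_complete _ ((mem_octads_iff o).1 ho) h2, ?_⟩
    rw [Nat.beq_eq]; exact h1
  · rintro ⟨o, ho, h⟩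
    rw [Nat.beq_eq] at h
    refine ⟨dec o, dec_mem_octads (oct5_sub o ho), ?_⟩
    rw [sub_iff, dec_subset_iff hlt]
    exact h

theorem prop_transport (k : Equiv.Perm GolayPt) (hk : k ∈ M24) (p q : GolayPt) (s t : Finset GolayPt) :
    (∃ o ∈ octads, k p ∈ o ∧ k q ∈ o ∧ k • s ∪ k • t ⊆ o) ↔ (∃ o ∈ octads, p ∈ o ∧ q ∈ o ∧ s ∪ t ⊆ o) := by
  constructor
  · rintro ⟨o, ho, hp, hq, hs⟩
    refine ⟨k⁻¹ • o, smul_mem_octads (M24.inv_mem hk) ho, ?_, ?_, ?_⟩
    · rw [← smul_mem_smul k, smul_inv_smul]; exact hp
    · rw [← smul_mem_smul k, smul_inv_smul]; exact hq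
    · rw [← Finset.smul_finset_union] at hs
      rw [← Finset.smul_finset_subset_smul_finset_iff (a := k), smul_inv_smul]; exact hs
  · rintro ⟨o, ho, hp, hq, hs⟩
    refine ⟨k • o, smul_mem_octads hk ho, (smul_mem_smul k p o).2 hp, (smul_mem_smul k q o).2 hq, ?_⟩
    rw [← Finset.smul_finset_union, Finset.smul_finset_subset_smul_finset_iff]; exact hs

theorem pop12 (s : Finset GolayPt) : pop (Nat.land 12 (enc s)) = (dec 12 ∩ s).card := by
  rw [card_eq_pop, enc_inter, enc_dec (by norm_num)]; rfl

theorem av_iff (s : Finset GolayPt) : av (enc s) = true ↔ pt 0 ∉ s ∧ pt 1 ∉ s := by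
  unfold av
  rw [Bool.and_eq_true, testBit_enc_pt s (by norm_num), testBit_enc_pt s (by norm_num),
    Bool.not_eq_true', Bool.not_eq_true', decide_eq_false_iff_not, decide_eq_false_iff_not]

set_option maxRecDepth 100000 in
theorem cnt30 : (duadL.filter (fun m => av m && (Nat.beq (Nat.land 12 m) 0 && propB m))).length = 30 := by
  decide +kernel

set_option maxRecDepth 100000 in
theorem cnt160 : (duadL.filter (fun m => av m && (Nat.beq (Nat.land 12 m) 0 && !(propB m)))).length = 160 := by
  decide +kernel

theorem disj_iff (s : Finset GolayPt) : Disjoint (dec 12) s ↔ Nat.beq (Nat.land 12 (enc s)) 0 = true := by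
  rw [Nat.beq_eq]
  conv_lhs => rw [← dec_enc s]
  rw [dec_disjoint_iff (by norm_num)]
  rfl

theorem count_duads (q : ℕ → Bool) (Q : Finset GolayPt → Prop) (hQ : ∀ s, Q s ↔ q (enc s) = true) :
    {U : Finset GolayPt | U.card = 2 ∧ Q U}.ncard = (duadL.filter q).length :=
  ncard_filter _ duadL duadL_nodup (fun _ h => duadL_lt h) q
    (fun s => by rw [← card_eq_2_iff, ← hQ]; rfl)

/-- Fix two points p ≠ q and a pair s of two further points. Among the pairs avoiding p, q and disjoint from s, exactly 30 lie in an octad together with p, q and s and exactly 160 do not; and any two pairs other than s that meet s in equally many points and agree on that octad property are carried to one another by an element of the group of the length-24 code fixing p, q and s. -/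
theorem result (p q : Cfsg.GolayPt) (hpq : p ≠ q) (s : Finset Cfsg.GolayPt) (hs : (s.card = 2 ∧ p ∉ s ∧ q ∉ s)) : {t : Finset Cfsg.GolayPt | (t.card = 2 ∧ p ∉ t ∧ q ∉ t) ∧ Disjoint s t ∧ (∃ o ∈ Cfsg.octads, p ∈ o ∧ q ∈ o ∧ s ∪ t ⊆ o)}.ncard = 30 ∧ {t : Finset Cfsg.GolayPt | (t.card = 2 ∧ p ∉ t ∧ q ∉ t) ∧ Disjoint s t ∧ ¬ (∃ o ∈ Cfsg.octads, p ∈ o ∧ q ∈ o ∧ s ∪ t ⊆ o)}.ncard = 160 ∧ ∀ t t' : Finset Cfsg.GolayPt, (t.card = 2 ∧ p ∉ t ∧ q ∉ t) → (t'.card = 2 ∧ p ∉ t' ∧ q ∉ t') → t ≠ s → t' ≠ s → (s ∩ t).card = (s ∩ t').card → ((∃ o ∈ Cfsg.octads, p ∈ o ∧ q ∈ o ∧ s ∪ t ⊆ o) ↔ (∃ o ∈ Cfsg.octads, p ∈ o ∧ q ∈ o ∧ s ∪ t' ⊆ o)) → ∃ g : Equiv.Perm Cfsg.GolayPt, g ∈ Cfsg.M24 ∧ g p = p ∧ g q = q ∧ g • s = s ∧ g • t = t' := by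
  obtain ⟨hs2, hps, hqs⟩ := hs
  obtain ⟨a, b, hab, rfl⟩ := Finset.card_eq_two.1 hs2
  simp only [Finset.mem_insert, Finset.mem_singleton, not_or] at hps hqs
  obtain ⟨k, hk, hkp, hkq, hka, hkb⟩ := four_trans hpq hps.1 hqs.1 hps.2 hqs.2 hab
  have hks : k • ({a, b} : Finset GolayPt) = dec 12 := by
    rw [dec12, Finset.smul_finset_insert, Finset.smul_finset_singleton, Equiv.Perm.smul_def,
      Equiv.Perm.smul_def, hka, hkb]
  have hprop : ∀ t : Finset GolayPt, (∃ o ∈ octads, pt 0 ∈ o ∧ pt 1 ∈ o ∧ dec 12 ∪ k • t ⊆ o) ↔
      (∃ o ∈ octads, p ∈ o ∧ q ∈ o ∧ {a, b} ∪ t ⊆ o) := by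
    intro t
    rw [← prop_transport k hk p q {a, b} t, hkp, hkq, hks]
  refine ⟨?_, ?_, ?_⟩
  · rw [← cnt30, ← count_duads _ (fun U => (pt 0 ∉ U ∧ pt 1 ∉ U) ∧ Disjoint (dec 12) U ∧
      (∃ o ∈ octads, pt 0 ∈ o ∧ pt 1 ∈ o ∧ dec 12 ∪ U ⊆ o))]
    · symm
      apply ncard_transport k
      intro U
      rw [Finset.card_smul_finset, hprop, ← hks, disjoint_smul, ← hkp, smul_mem_smul, ← hkq, smul_mem_smul]
      tauto
    · intro s
      rw [Bool.and_eq_true, Bool.and_eq_true, av_iff, disj_iff, propB_iff]
  · rw [← cnt160, ← count_duads _ (fun U => (pt 0 ∉ U ∧ pt 1 ∉ U) ∧ Disjoint (dec 12) U ∧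
      ¬ (∃ o ∈ octads, pt 0 ∈ o ∧ pt 1 ∈ o ∧ dec 12 ∪ U ⊆ o))]
    · symm
      apply ncard_transport k
      intro U
      rw [Finset.card_smul_finset, hprop, ← hks, disjoint_smul, ← hkp, smul_mem_smul, ← hkq, smul_mem_smul]
      tauto
    · intro s
      rw [Bool.and_eq_true, Bool.and_eq_true, av_iff, disj_iff, propB_iff, Bool.not_eq_true',
        Bool.not_eq_true]
  rintro t t' ⟨ht2, hpt, hqt⟩ ⟨ht2', hpt', hqt'⟩ hts hts' hc hiff
  have hX : ∀ U : Finset GolayPt, U.card = 2 → p ∉ U → q ∉ U → U ≠ {a, b} → X (enc (k • U)) = true := by
    intro U hU hpU hqU hne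
    unfold X
    rw [Bool.and_eq_true, Bool.and_eq_true, isK_enc, av_iff, Finset.card_smul_finset, ← hkp, smul_mem_smul,
      ← hkq, smul_mem_smul, Bool.not_eq_true', ← Bool.not_eq_true, Nat.beq_eq]
    refine ⟨⟨hU, hpU, hqU⟩, ?_⟩
    intro h12
    apply hne
    have : k • U = k • ({a, b} : Finset GolayPt) := by
      rw [hks, ← dec_enc (k • U), h12]
    exact (MulAction.injective k) this
  have h3 : cls (enc (k • t)) = cls (enc (k • t')) := by
    unfold cls
    have e1 : pop (Nat.land 12 (enc (k • t))) = pop (Nat.land 12 (enc (k • t'))) := by
      rw [pop12, pop12, ← hks, ← Finset.smul_finset_inter, ← Finset.smul_finset_inter,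
        Finset.card_smul_finset, Finset.card_smul_finset, hc]
    have e2 : propB (enc (k • t)) = propB (enc (k • t')) := by
      rw [Bool.eq_iff_iff, ← propB_iff, ← propB_iff, hprop, hprop, hiff]
    rw [e1, e2]
  obtain ⟨g, hg, hgab⟩ := base _ _ (hX t ht2 hpt hqt hts) (hX t' ht2' hpt' hqt' hts') h3
  rw [dec_enc, dec_enc] at hgab
  have hg0 : g (pt 0) = pt 0 := hg.1.2 0 (by simp)
  have hg1 : g (pt 1) = pt 1 := hg.1.2 1 (by simp)
  refine ⟨k⁻¹ * g * k, M24.mul_mem (M24.mul_mem (M24.inv_mem hk) hg.1.1) hk, ?_, ?_, ?_, ?_⟩
  · rw [Equiv.Perm.mul_apply, Equiv.Perm.mul_apply, hkp, hg0, ← hkp]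
    simp
  · rw [Equiv.Perm.mul_apply, Equiv.Perm.mul_apply, hkq, hg1, ← hkq]
    simp
  · rw [mul_smul, mul_smul, hks, MulAction.mem_stabilizer_iff.1 hg.2, ← hks, inv_smul_smul]
  · rw [mul_smul, mul_smul, hgab, inv_smul_smul]

end Cfsg.Agent.S1638
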