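import Cfsg.Statements.S1910
import Mathlib
import Cfsg.Agent.Lib.Helper40Sylow
import Cfsg.Agent.Lib.Helper30Coprime

set_option autoImplicit false
open Cfsg

namespace Cfsg.Agent.S1910

open Cfsg.Agent.Lib.Helper40Sylow

section aux
variable {G : Type*} [Group G]

def TE (B : Subgroup G) : Prop :=
  ∀ x : G, x ∉ Subgroup.normalizer (B : Set G) → Odd (Nat.card ↥(B ⊓ cj x B))

theorem eq_bot_of_odd [Finite G] {U V : Subgroup G} (hUV : U ≤ V) (hU : IsPGroup 2 U)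
    (hV : Odd (Nat.card V)) : U = ⊥ := by
  have : Fact (Nat.Prime 2) := ⟨Nat.prime_two⟩
  obtain ⟨k, hk⟩ := hU.exists_card_eq
  have hdvd : Nat.card U ∣ Nat.card V := Subgroup.card_dvd_of_le hUV
  cases k with
  | zero => exact Subgroup.card_eq_one.1 (by simpa using hk)
  | succ k =>
    exfalso
    have h2 : 2 ∣ Nat.card V := by
      refine Dvd.dvd.trans ?_ hdvd
      rw [hk, pow_succ]; exact Dvd.intro_left _ rfl
    exact (Nat.not_even_iff_odd.2 hV) (even_iff_two_dvd.2 h2)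

theorem TE.conj {B : Subgroup G} (h : TE B) (g : G) : TE (cj g B) := by
  intro x hx
  have hy : g⁻¹ * x * g ∉ Subgroup.normalizer (B : Set G) := by
    intro hy
    apply hx
    rw [normalizer_cj, mem_cj]
    exact hy
  have h1 := h _ hy
  have e : cj g B ⊓ cj x (cj g B) = cj g (B ⊓ cj (g⁻¹ * x * g) B) := by
    rw [cj_inf, ← cj_mul, ← cj_mul]
    congr 2
    group
  rw [e, card_cj]
  exact h1

theorem TE.normalizer_le [Finite G] {B T0 : Subgroup G} (h : TE B) (hT0 : T0 ≤ B) (h2 : IsPGroup 2 T0)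
    (hne : T0 ≠ ⊥) : Subgroup.normalizer (T0 : Set G) ≤ Subgroup.normalizer (B : Set G) := by
  intro x hx
  by_contra hn
  apply hne
  apply eq_bot_of_odd (V := B ⊓ cj x B) (le_inf hT0 ?_) h2 (h x hn)
  rw [← mem_normalizer_iff_cj.1 hx]
  exact cj_mono hT0

theorem mem_sup_iff' {N A : Subgroup G} (h : A ≤ Subgroup.normalizer (N : Set G)) {x : G} :
    x ∈ N ⊔ A ↔ ∃ n ∈ N, ∃ a ∈ A, x = n * a := by
  rw [← SetLike.mem_coe, Subgroup.coe_mul_of_right_le_normalizer_left N A h, Set.mem_mul]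
  constructor
  · rintro ⟨n, hn, a, ha, rfl⟩; exact ⟨n, hn, a, ha, rfl⟩
  · rintro ⟨n, hn, a, ha, rfl⟩; exact ⟨n, hn, a, ha, rfl⟩

theorem exists_proj {T R U : Subgroup G} (hcomm : ∀ a ∈ T, ∀ b ∈ R, a * b = b * a) (hTR : T ⊓ R = ⊥)
    (hU : U ≤ T ⊔ R) (hUT : U ⊓ T = ⊥) : ∃ φ : U →* R, Function.Injective φ := by
  have hcomm' : ∀ (m : T) (n : R), Commute (T.subtype m) (R.subtype n) := fun a b => hcomm a a.2 b b.2
  let ψ : T × R →* G := MonoidHom.noncommCoprod T.subtype R.subtype hcomm'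
  have hψ : ∀ a b, ψ (a, b) = (a : G) * (b : G) := fun a b => rfl
  have hinj : Function.Injective ψ := by
    rw [injective_iff_map_eq_one]
    rintro ⟨a, b⟩ h
    rw [hψ] at h
    have ha : (a : G) ∈ T ⊓ R := ⟨a.2, by rw [eq_inv_of_mul_eq_one_left h]; exact R.inv_mem b.2⟩
    rw [hTR, Subgroup.mem_bot] at ha
    rw [ha, one_mul] at h
    ext
    · exact ha
    · exact h
  have hrange : ψ.range = T ⊔ R := by
    change (MonoidHom.noncommCoprod T.subtype R.subtype hcomm').range = _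
    rw [MonoidHom.noncommCoprod_range]; simp
  let e := MonoidHom.ofInjective hinj
  let ι : U →* ψ.range := Subgroup.inclusion (hrange ▸ hU)
  refine ⟨(MonoidHom.snd T R).comp (e.symm.toMonoidHom.comp ι), ?_⟩
  rw [injective_iff_map_eq_one]
  intro u hu
  have h1 : ψ (e.symm (ι u)) = u := by
    have := e.apply_symm_apply (ι u)
    exact congrArg Subtype.val this
  have h2 : (e.symm (ι u)).2 = 1 := hu
  have h3 : ψ (e.symm (ι u)) = ((e.symm (ι u)).1 : G) * ((e.symm (ι u)).2 : G) := rfl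
  rw [h2, Subgroup.coe_one, mul_one, h1] at h3
  have h4 : (u : G) ∈ U ⊓ T := ⟨u.2, by rw [h3]; exact (e.symm (ι u)).1.2⟩
  rw [hUT, Subgroup.mem_bot] at h4
  exact Subtype.ext h4

end aux


theorem half {G : Type*} [Group G] [Finite G] {A B T S : Subgroup G} (hB : TE B) (hAB : Odd (Nat.card ↥(A ⊓ B)))
    (hT : IsSylowIn 2 T (B ⊓ Subgroup.normalizer (A : Set G))) (hT1 : T ≠ ⊥)
    (hS : IsSylowIn 2 S (A ⊔ T)) (hTS : T ≤ S) :
    T ⊓ A = ⊥ ∧ ⁅T, S ⊓ Subgroup.normalizer (T : Set G) ⊓ A⁆ = ⊥ ∧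
      T ⊔ (S ⊓ Subgroup.normalizer (T : Set G) ⊓ A) = S ⊓ Subgroup.normalizer (T : Set G) ∧
      (S ⊓ Subgroup.normalizer (T : Set G) ⊓ A) ≤ A ⊓ Subgroup.normalizer (B : Set G) ∧
      (IsSylowIn 2 (S ⊓ Subgroup.normalizer (T : Set G) ⊓ A) A ∨
        ∃ x, cj x T ≤ T ⊔ (S ⊓ Subgroup.normalizer (T : Set G) ⊓ A) ∧ cj x T ⊓ T = ⊥) := by
  have hfact : Fact (Nat.Prime 2) := ⟨Nat.prime_two⟩
  set R := S ⊓ Subgroup.normalizer (T : Set G) ⊓ A with hR
  have hTB : T ≤ B := hT.1.trans inf_le_left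
  have hTNA : T ≤ Subgroup.normalizer (A : Set G) := hT.1.trans inf_le_right
  have h1 : T ⊓ A = ⊥ :=
    eq_bot_of_odd (V := A ⊓ B) (le_inf inf_le_right (inf_le_left.trans hTB)) (hT.2.1.to_le inf_le_left) hAB
  have h2 : ⁅T, R⁆ = ⊥ := by
    rw [eq_bot_iff, ← h1, Subgroup.commutator_le]
    intro t ht r hr
    have hrN : r ∈ Subgroup.normalizer (T : Set G) := hr.1.2
    have hrA : r ∈ A := hr.2
    rw [commutatorElement_def]
    constructor
    · have : t * r * t⁻¹ * r⁻¹ = t * (r * t⁻¹ * r⁻¹) := by group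
      rw [this]
      exact T.mul_mem ht ((Subgroup.mem_normalizer_iff.1 hrN _).1 (T.inv_mem ht))
    · exact A.mul_mem ((Subgroup.mem_normalizer_iff.1 (hTNA ht) _).1 hrA) (A.inv_mem hrA)
  have h3 : T ⊔ R = S ⊓ Subgroup.normalizer (T : Set G) := by
    apply le_antisymm
    · exact sup_le (le_inf hTS Subgroup.le_normalizer) inf_le_left
    · intro y hy
      obtain ⟨a, ha, t, ht, rfl⟩ := (mem_sup_iff' hTNA).1 (hS.1 hy.1)
      have haR : a ∈ R := by
        refine ⟨?_, ha⟩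
        have : a = (a * t) * t⁻¹ := by group
        rw [this]
        exact Subgroup.mul_mem _ hy (Subgroup.inv_mem _ ⟨hTS ht, Subgroup.le_normalizer ht⟩)
      exact Subgroup.mul_mem _ ((le_sup_right : R ≤ T ⊔ R) haR) ((le_sup_left : T ≤ T ⊔ R) ht)
  have h4 : R ≤ A ⊓ Subgroup.normalizer (B : Set G) :=
    le_inf inf_le_right ((inf_le_left.trans inf_le_right).trans (hB.normalizer_le hTB hT.2.1 hT1))
  refine ⟨h1, h2, h3, h4, ?_⟩
  by_cases hSN : S ≤ Subgroup.normalizer (T : Set G)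
  · left
    have : R = S ⊓ A := by rw [hR, inf_eq_left.2 hSN]
    rw [this]
    exact hS.inf_normal le_sup_left (sup_le Subgroup.le_normalizer hTNA)
  · right
    have hlt : S ⊓ Subgroup.normalizer (T : Set G) < S :=
      lt_of_le_of_ne inf_le_left (fun h => hSN (inf_eq_left.1 h))
    obtain ⟨x, hxS, hxH, hxN⟩ :=
      Cfsg.Agent.Lib.Helper30Coprime.exists_mem_normalizer_not_mem hS.2.1.isNilpotent hlt
    have hcjH : cj x T ≤ S ⊓ Subgroup.normalizer (T : Set G) := by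
      rw [← mem_normalizer_iff_cj.1 hxN]
      exact cj_mono (le_inf hTS Subgroup.le_normalizer)
    refine ⟨x, h3 ▸ hcjH, ?_⟩
    have hxNT : x ∉ Subgroup.normalizer (T : Set G) := fun h => hxH ⟨hxS, h⟩
    have hxNA : x ∈ Subgroup.normalizer (A : Set G) :=
      (sup_le Subgroup.le_normalizer hTNA : A ⊔ T ≤ _) (hS.1 hxS)
    have hxNB : x ∉ Subgroup.normalizer (B : Set G) := by
      intro hxB
      apply hxNT
      have hle : cj x T ≤ B ⊓ Subgroup.normalizer (A : Set G) := by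
        apply le_inf
        · rw [← mem_normalizer_iff_cj.1 hxB]; exact cj_mono hTB
        · rw [← cj_eq_self_of_mem hxNA]; exact cj_mono hTNA
      have h5 := hT.eq_of_le (Q := T ⊔ cj x T)
        (hS.2.1.to_le (sup_le hTS (hcjH.trans inf_le_left))) (sup_le hT.1 hle) le_sup_left
      have h6 : cj x T ≤ T := by
        conv_rhs => rw [h5]
        exact le_sup_right
      exact mem_normalizer_iff_cj.2 (cj_eq_of_le h6)
    exact eq_bot_of_odd (V := B ⊓ cj x B) (le_inf (inf_le_right.trans hTB) (inf_le_left.trans (cj_mono hTB)))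
      (hT.2.1.to_le inf_le_right) (hB x hxNB)

theorem half_card {G : Type*} [Group G] [Finite G] {A B T R : Subgroup G} (hcard : Nat.card A = Nat.card B)
    (hTB : T ≤ B) (hT2 : IsPGroup 2 T) (hTR : T ⊓ R = ⊥) (hc : ⁅T, R⁆ = ⊥)
    (h : IsSylowIn 2 R A ∨ ∃ x, cj x T ≤ T ⊔ R ∧ cj x T ⊓ T = ⊥) : Nat.card T ≤ Nat.card R := by
  have hfact : Fact (Nat.Prime 2) := ⟨Nat.prime_two⟩
  rcases h with h | ⟨x, hx1, hx2⟩
  · obtain ⟨T1, hT1, hle⟩ := exists_isSylowIn_ge hT2 hTB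
    rw [h.card_eq, hcard, ← hT1.card_eq]
    exact Subgroup.card_le_of_le hle
  · have hcomm : ∀ a ∈ T, ∀ b ∈ R, a * b = b * a := by
      intro a ha b hb
      have := Subgroup.commutator_eq_bot_iff_le_centralizer.1 hc ha
      exact (Subgroup.mem_centralizer_iff.1 this b hb).symm
    obtain ⟨φ, hφ⟩ := exists_proj hcomm hTR hx1 hx2
    rw [← card_cj x T]
    exact Nat.card_le_card_of_injective φ hφ

/-- Let Q be a tightly embedded subgroup of a finite group G, g an element outside N_G(Q), T a nontrivial Sylow 2-subgroup of Q^g ∩ N_G(Q), and S a Sylow 2-subgroup of QT containing T. Then T ∩ Q = 1, and N_S(T) is the direct product of T and N_S(T) ∩ Q, with N_S(T) ∩ Q isomorphic to T. -/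
theorem result {G : Type*} [Group G] [Finite G] (Q : Subgroup G) (hQ : Cfsg.IsTightlyEmbedded Q)
    (g : G) (hg : g ∉ Subgroup.normalizer (Q : Set G))
    (T : Subgroup G) (hT1 : T ≠ ⊥) (hT : T ≤ Q.map (MulAut.conj g).toMonoidHom ⊓ Subgroup.normalizer (Q : Set G))
    (hTsyl : IsPGroup 2 T ∧ ¬ 2 ∣ T.relIndex (Q.map (MulAut.conj g).toMonoidHom ⊓ Subgroup.normalizer (Q : Set G)))
    (S : Subgroup G) (hTS : T ≤ S) (hS : S ≤ Q ⊔ T) (hSsyl : IsPGroup 2 S ∧ ¬ 2 ∣ S.relIndex (Q ⊔ T)) :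
    T ⊓ Q = ⊥ ∧
      T ⊓ (S ⊓ Subgroup.normalizer (T : Set G) ⊓ Q) = ⊥ ∧
      ⁅T, S ⊓ Subgroup.normalizer (T : Set G) ⊓ Q⁆ = ⊥ ∧
      T ⊔ (S ⊓ Subgroup.normalizer (T : Set G) ⊓ Q) = S ⊓ Subgroup.normalizer (T : Set G) ∧
      Nonempty (↥(S ⊓ Subgroup.normalizer (T : Set G) ⊓ Q) ≃* T) := by
  have hfact : Fact (Nat.Prime 2) := ⟨Nat.prime_two⟩
  have hQTE : TE Q := hQ.2
  have hBTE : TE (cj g Q) := hQTE.conj g
  have hodd : Odd (Nat.card ↥(Q ⊓ cj g Q)) := hQ.2 g hg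
  have hcard : Nat.card Q = Nat.card (cj g Q) := (card_cj g Q).symm
  have hT' : IsSylowIn 2 T (cj g Q ⊓ Subgroup.normalizer (Q : Set G)) := ⟨hT, hTsyl.1, hTsyl.2⟩
  have hS' : IsSylowIn 2 S (Q ⊔ T) := ⟨hS, hSsyl.1, hSsyl.2⟩
  obtain ⟨h1, h2, h3, h4, h5⟩ := half hBTE hodd hT' hT1 hS' hTS
  set R := S ⊓ Subgroup.normalizer (T : Set G) ⊓ Q with hR
  have hTR : T ⊓ R = ⊥ := by
    rw [eq_bot_iff, ← h1]
    exact le_inf inf_le_left (inf_le_right.trans inf_le_right)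
  have hle1 : Nat.card T ≤ Nat.card R := half_card hcard (hT.trans inf_le_left) hTsyl.1 hTR h2 h5
  have hR2 : IsPGroup 2 R := hSsyl.1.to_le (inf_le_left.trans inf_le_left)
  have hTcard : 1 < Nat.card T := by
    rw [Subgroup.one_lt_card_iff_ne_bot]; exact hT1
  obtain ⟨R1, hR1, hRR1⟩ := exists_isSylowIn_ge hR2 h4
  have hle2 : Nat.card R ≤ Nat.card R1 := Subgroup.card_le_of_le hRR1
  have hR1ne : R1 ≠ ⊥ := by
    rw [← Subgroup.one_lt_card_iff_ne_bot]; omega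
  obtain ⟨S1, hS1, hR1S1⟩ := exists_isSylowIn_ge hR1.2.1 (le_sup_right : R1 ≤ cj g Q ⊔ R1)
  have hodd' : Odd (Nat.card ↥(cj g Q ⊓ Q)) := by rw [inf_comm]; exact hodd
  obtain ⟨k1, k2, k3, k4, k5⟩ := half hQTE hodd' hR1 hR1ne hS1 hR1S1
  set R' := S1 ⊓ Subgroup.normalizer (R1 : Set G) ⊓ cj g Q with hR'
  have hR1R' : R1 ⊓ R' = ⊥ := by
    rw [eq_bot_iff, ← k1]
    exact le_inf inf_le_left (inf_le_right.trans inf_le_right)
  have hle3 : Nat.card R1 ≤ Nat.card R' :=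
    half_card hcard.symm (hR1.1.trans inf_le_left) hR1.2.1 hR1R' k2 k5
  have hR'2 : IsPGroup 2 R' := hS1.2.1.to_le (inf_le_left.trans inf_le_left)
  have hle4 : Nat.card R' ≤ Nat.card T := by
    obtain ⟨y, _, hy⟩ := hT'.exists_conj_le hR'2 k4
    rw [← card_cj y R']
    exact Subgroup.card_le_of_le hy
  have hcardRT : Nat.card R = Nat.card T := by omega
  refine ⟨h1, hTR, h2, h3, ?_⟩
  rcases h5 with h5 | ⟨x, hx1, hx2⟩
  · have hTsylB : IsSylowIn 2 T (cj g Q) := by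
      apply isSylowIn_of_card (hT.trans inf_le_left)
      rw [← hcardRT, h5.card_eq, hcard]
    obtain ⟨y, _, hy⟩ := hTsylB.exists_conj_eq (h5.cj g)
    let e1 : R ≃* cj g R := Subgroup.equivMapOfInjective R _ (MulAut.conj g).injective
    let e2 : cj g R ≃* cj y (cj g R) := Subgroup.equivMapOfInjective _ _ (MulAut.conj y).injective
    exact ⟨(e1.trans e2).trans (MulEquiv.subgroupCongr hy)⟩
  · have hcomm : ∀ a ∈ T, ∀ b ∈ R, a * b = b * a := by
      intro a ha b hb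
      have := Subgroup.commutator_eq_bot_iff_le_centralizer.1 h2 ha
      exact (Subgroup.mem_centralizer_iff.1 this b hb).symm
    obtain ⟨φ, hφ⟩ := exists_proj hcomm hTR hx1 hx2
    have hbij : Function.Bijective φ := by
      rw [Nat.bijective_iff_injective_and_card]
      exact ⟨hφ, by rw [card_cj, hcardRT]⟩
    let e1 : T ≃* cj x T := Subgroup.equivMapOfInjective T _ (MulAut.conj x).injective
    exact ⟨(e1.trans (MulEquiv.ofBijective φ hbij)).symm⟩

end Cfsg.Agent.S1910
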