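import Cfsg.Statements.S1921
-- import your own Cfsg.Agent.* helpers here
import Cfsg.Agent.Lib.Helper28More

set_option autoImplicit false
open Cfsg

namespace Cfsg.Agent.S1921

open Subgroup Cfsg.Agent.Lib.Helper28Comp Cfsg.Agent.Lib.Helper28Fitting Cfsg.Agent.Lib.Helper28Layer
  Cfsg.Agent.Lib.Helper28Util Cfsg.Agent.Lib.Helper28More
open scoped commutatorElement

/-- Let a be an involution of a finite group H and L a component of H with a L a⁻¹ ≠ L; put M = ⟨L, aLa⁻¹⟩ and let J be the subgroup generated by the elements x · a x a⁻¹ with x ∈ L (the diagonal). Then every element of M outside J·Z(M) generates M together with J. -/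
theorem result {H : Type*} [Group H] [Finite H] (a : H) (ha : orderOf a = 2) (L : Subgroup H) (hL : Cfsg.IsComponent L)
    (hLa : L.map (MulAut.conj a).toMonoidHom ≠ L) (x : H) (hxM : x ∈ L ⊔ L.map (MulAut.conj a).toMonoidHom)
    (hxJ : x ∉ Subgroup.closure {y : H | ∃ l ∈ L, y = l * (a * l * a⁻¹)} ⊔
      ((L ⊔ L.map (MulAut.conj a).toMonoidHom) ⊓ Subgroup.centralizer ((L ⊔ L.map (MulAut.conj a).toMonoidHom : Subgroup H) : Set H))) :
    Subgroup.closure {y : H | ∃ l ∈ L, y = l * (a * l * a⁻¹)} ⊔ Subgroup.zpowers x = L ⊔ L.map (MulAut.conj a).toMonoidHom := by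
  set La := L.map (MulAut.conj a).toMonoidHom with hLa'
  set J := Subgroup.closure {y : H | ∃ l ∈ L, y = l * (a * l * a⁻¹)} with hJ
  have cL : CompIn L ⊤ := isComponent_iff.mp hL
  have cLa : CompIn La ⊤ := by
    have := cL.map_injective (f := (MulAut.conj a).toMonoidHom) (MulAut.conj a).injective
    rwa [map_top_of_surjective _ (MulAut.conj a).surjective] at this
  have hcomm : ⁅L, La⁆ = ⊥ := by
    rcases cL.eq_or_commute cLa with h | h
    · exact absurd h.symm hLa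
    · exact h
  have hcm : ∀ u ∈ L, ∀ v ∈ La, u * v = v * u := fun u hu v hv =>
    commute_of_commutator_eq_bot hcomm hu hv
  have hc_mem : ∀ l ∈ L, a * l * a⁻¹ ∈ La := fun l hl => ⟨l, hl, rfl⟩
  have hπJ : ∀ l ∈ L, l * (a * l * a⁻¹) ∈ J := fun l hl => subset_closure ⟨l, hl, rfl⟩
  have hJM : J ≤ L ⊔ La := by
    rw [hJ, closure_le]
    rintro _ ⟨l, hl, rfl⟩
    exact mul_mem_sup hl (hc_mem l hl)
  apply le_antisymm
  · exact sup_le hJM (by rw [zpowers_le]; exact hxM)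
  · set X := J ⊔ Subgroup.zpowers x with hX
    have hJX : J ≤ X := le_sup_left
    have hxX : x ∈ X := (le_sup_right : Subgroup.zpowers x ≤ X) (mem_zpowers x)
    obtain ⟨l₁, hl₁, m, hm, hx⟩ := (mem_sup_of_commutator_eq_bot hcomm).mp hxM
    obtain ⟨l₂, hl₂, rfl⟩ := hm
    have hm' : (MulAut.conj a).toMonoidHom l₂ = a * l₂ * a⁻¹ := rfl
    rw [hm'] at hx
    have hl : l₁ * l₂⁻¹ = x * (l₂ * (a * l₂ * a⁻¹))⁻¹ := by
      rw [← hx]; group
    have hlL : l₁ * l₂⁻¹ ∈ L := mul_mem hl₁ (inv_mem hl₂)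
    have hlX : l₁ * l₂⁻¹ ∈ X := by
      rw [hl]; exact mul_mem hxX (inv_mem (hJX (hπJ l₂ hl₂)))
    have hlnc : l₁ * l₂⁻¹ ∉ centralizer (L : Set H) := by
      intro hc
      apply hxJ
      have h1 : l₁ * l₂⁻¹ ∈ (L ⊔ La) ⊓ centralizer ((L ⊔ La : Subgroup H) : Set H) := by
        refine mem_inf.mpr ⟨(le_sup_left : L ≤ L ⊔ La) hlL, ?_⟩
        rw [mem_centralizer_subgroup_iff_le]
        refine sup_le (mem_centralizer_subgroup_iff_le.mp hc) ?_
        rw [← mem_centralizer_subgroup_iff_le]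
        exact (commutator_eq_bot_iff_le_centralizer.mp hcomm) hlL
      have h2 : x = (l₂ * (a * l₂ * a⁻¹)) * (l₁ * l₂⁻¹) := by
        have h3 := (mem_centralizer_iff.mp (mem_inf.mp h1).2) (l₂ * (a * l₂ * a⁻¹)) (hJM (hπJ l₂ hl₂))
        rw [h3, hl]; group
      rw [h2]
      exact mul_mem_sup (hπJ l₂ hl₂) h1
    have hN : NormIn (X ⊓ L) L := by
      refine ⟨inf_le_right, ?_⟩
      rw [le_normalizer_iff]
      intro y hy n hn
      rw [mem_inf] at hn
      refine mem_inf.mpr ⟨?_, mul_mem (mul_mem hy hn.2) (inv_mem hy)⟩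
      have h1 : y * n * y⁻¹ = (y * (a * y * a⁻¹)) * n * (y * (a * y * a⁻¹))⁻¹ := by
        have h2 := hcm n hn.2 (a * y * a⁻¹) (hc_mem y hy)
        calc y * n * y⁻¹ = y * (n * (a * y * a⁻¹)) * (a * y * a⁻¹)⁻¹ * y⁻¹ := by group
          _ = y * ((a * y * a⁻¹) * n) * (a * y * a⁻¹)⁻¹ * y⁻¹ := by rw [h2]
          _ = _ := by group
      rw [h1]
      exact mul_mem (mul_mem (hJX (hπJ y hy)) hn.1) (inv_mem (hJX (hπJ y hy)))
    have hLX : L ≤ X := by
      rcases cL.2.2.2 _ hN with h | h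
      · exact inf_eq_right.mp h
      · exact absurd (h (mem_inf.mpr ⟨hlX, hlL⟩)) hlnc
    refine sup_le hLX ?_
    rintro _ ⟨y, hy, rfl⟩
    have : (MulAut.conj a).toMonoidHom y = y⁻¹ * (y * (a * y * a⁻¹)) := by
      change a * y * a⁻¹ = _
      group
    rw [this]
    exact mul_mem (inv_mem (hLX hy)) (hJX (hπJ y hy))

end Cfsg.Agent.S1921
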