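import Cfsg.Statements.S1922
import Mathlib
import Cfsg.Agent.Lib.Helper38Dih
import Cfsg.Agent.Lib.Helper40Sylow

set_option autoImplicit false
open Cfsg

namespace Cfsg.Agent.S1922

open Cfsg.Agent.Lib.Helper38Dih Cfsg.Agent.Lib.Helper40Sylow

section
set_option linter.unusedSectionVars false
variable {G : Type*} [Group G] [Finite G] {z : G} {H : Subgroup G}

theorem K0 (h0 : ∀ g : G, z ∈ H.map (MulAut.conj g).toMonoidHom ↔ g ∈ H) (g : G) :
    g * z * g⁻¹ ∈ H ↔ g ∈ H := by
  have := h0 g⁻¹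
  rw [mem_cj, inv_inv, Subgroup.inv_mem_iff] at this
  exact this

/-- hypothesis (1) -/
def Hyp1 (z : G) (H : Subgroup G) : Prop :=
  ∀ t : G, IsConj z t → t ≠ z → t * z = z * t → ∀ g : G, z * t ∈ H.map (MulAut.conj g).toMonoidHom ↔ g ∈ H

/-- conjugated form of (1) -/
theorem hyp1_conj (h1 : Hyp1 z H) (a e : G) (he : IsConj z e) (hne : e ≠ a * z * a⁻¹)
    (hc : e * (a * z * a⁻¹) = (a * z * a⁻¹) * e) (k : G) :
    k⁻¹ * ((a * z * a⁻¹) * e) * k ∈ H ↔ a⁻¹ * k ∈ H := by
  have ht : IsConj z (a⁻¹ * e * a) := by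
    refine he.trans (isConj_iff.2 ⟨a⁻¹, by group⟩)
  have hne' : a⁻¹ * e * a ≠ z := by
    intro h
    apply hne
    rw [← h]; group
  have hc' : (a⁻¹ * e * a) * z = z * (a⁻¹ * e * a) := by
    calc (a⁻¹ * e * a) * z = a⁻¹ * (e * (a * z * a⁻¹)) * a := by group
      _ = a⁻¹ * ((a * z * a⁻¹) * e) * a := by rw [hc]
      _ = z * (a⁻¹ * e * a) := by group
  have := h1 _ ht hne' hc' (a⁻¹ * k)
  rw [mem_cj] at this
  rw [← this]
  have e1 : (a⁻¹ * k)⁻¹ * (z * (a⁻¹ * e * a)) * (a⁻¹ * k) = k⁻¹ * ((a * z * a⁻¹) * e) * k := by group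
  rw [e1]

theorem conj_sq (hz : z * z = 1) (a : G) : (a * z * a⁻¹) * (a * z * a⁻¹) = 1 := by
  calc (a * z * a⁻¹) * (a * z * a⁻¹) = a * (z * z) * a⁻¹ := by group
    _ = 1 := by rw [hz]; group

/-- products of conjugates of `z` at different points have odd order -/
theorem odd_of_ne (hz : z * z = 1) (h1 : Hyp1 z H) (a b : G)
    (hab : a⁻¹ * b ∉ H) : Odd (orderOf ((a * z * a⁻¹) * (b * z * b⁻¹))) := by
  set d := a * z * a⁻¹ with hd
  set e := b * z * b⁻¹ with he
  have hdd : d * d = 1 := conj_sq hz a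
  have hee : e * e = 1 := conj_sq hz b
  have hdz : IsConj z d := isConj_iff.2 ⟨a, rfl⟩
  have hez : IsConj z e := isConj_iff.2 ⟨b, rfl⟩
  by_contra hodd
  rw [Nat.not_odd_iff_even] at hodd
  obtain ⟨m, hm⟩ := hodd
  have hm2 : orderOf (d * e) = 2 * m := by rw [hm]; ring
  have hpos : 0 < orderOf (d * e) := orderOf_pos _
  have hmpos : 0 < m := by omega
  have hpow : (d * e) ^ (2 * m) = 1 := by rw [← hm2, pow_orderOf_eq_one]
  obtain ⟨c1, c2, c3, c4⟩ := even_case_comm hdd hee hpow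
  set c := (d * e) ^ m with hc
  have hc1 : c ≠ 1 := by
    intro h
    have := orderOf_dvd_of_pow_eq_one h
    rw [hm2] at this
    have := Nat.le_of_dvd hmpos this
    omega
  -- c d is conjugate to z
  have hcd : IsConj z (c * d) := by
    obtain ⟨w, hw | hw⟩ := refl_conj hdd hee m
    · rw [← hc] at hw; rw [hw]; exact hdz.trans (isConj_iff.2 ⟨w, rfl⟩)
    · rw [← hc] at hw; rw [hw]; exact hez.trans (isConj_iff.2 ⟨w, rfl⟩)
  have hce : IsConj z (c * e) := by
    obtain ⟨w, hw | hw⟩ := refl_conj hee hdd m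
    · rw [c4] at hw; rw [hw]; exact hez.trans (isConj_iff.2 ⟨w, rfl⟩)
    · rw [c4] at hw; rw [hw]; exact hdz.trans (isConj_iff.2 ⟨w, rfl⟩)
  have k1 := hyp1_conj h1 a (c * d) hcd (by
      intro h; apply hc1
      exact mul_eq_right.1 h) (by
      rw [← hd]
      calc c * d * d = (d * c) * d := by rw [c1]
        _ = d * (c * d) := by group)
  have k2 := hyp1_conj h1 b (c * e) hce (by
      intro h; apply hc1
      exact mul_eq_right.1 h) (by
      rw [← he]
      calc c * e * e = (e * c) * e := by rw [c2]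
        _ = e * (c * e) := by group)
  rw [← hd] at k1
  rw [← he] at k2
  have e1 : d * (c * d) = c := by rw [← mul_assoc, c1, mul_assoc, hdd, mul_one]
  have e2 : e * (c * e) = c := by rw [← mul_assoc, c2, mul_assoc, hee, mul_one]
  rw [e1] at k1
  rw [e2] at k2
  have h3 : a⁻¹ * c * a ∈ H := (k1 a).2 (by simp)
  have h4 : b⁻¹ * a ∈ H := (k2 a).1 h3
  apply hab
  have := H.inv_mem h4
  simpa using this

theorem sq_of_isConj (hz : z * z = 1) {s : G} (hs : IsConj z s) : s * s = 1 := by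
  obtain ⟨a, rfl⟩ := isConj_iff.1 hs
  exact conj_sq hz a

theorem odd_class (hz : z * z = 1) (h0 : ∀ g : G, z ∈ H.map (MulAut.conj g).toMonoidHom ↔ g ∈ H)
    (hH : H ≠ ⊤) (h1 : Hyp1 z H) : Odd ({x | IsConj z x}.ncard) := by
  have hK := K0 h0
  have hzH : z ∈ H := by
    have := (hK 1).2 H.one_mem
    simpa using this
  obtain ⟨g, hg⟩ : ∃ g, g ∉ H := by
    by_contra hcon
    apply hH
    rw [eq_top_iff]
    intro x _
    by_contra hx
    exact hcon ⟨x, hx⟩
  set e := g * z * g⁻¹ with he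
  have hee : e * e = 1 := conj_sq hz g
  have hez : IsConj z e := isConj_iff.2 ⟨g, rfl⟩
  set X : Set G := {s | IsConj z s ∧ s * g ∈ H} with hX
  set Y : Set G := {x | IsConj z x ∧ x ∈ H} with hY
  have hconj : ∀ s : G, s * s = 1 → s * e * s = (s * g) * z * (s * g)⁻¹ := by
    intro s hs
    have : s⁻¹ = s := inv_of_sq hs
    calc s * e * s = s * (g * z * g⁻¹) * s⁻¹ := by rw [this]
      _ = (s * g) * z * (s * g)⁻¹ := by group
  have hXa : ∀ a : G, a * z * a⁻¹ ∈ X → a⁻¹ * g ∉ H := by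
    intro a ha hcon
    have h2 : a * z * a⁻¹ * g ∈ H := ha.2
    have h3 : a * z ∈ H := by
      have := H.mul_mem h2 (H.inv_mem hcon)
      have e1 : a * z * a⁻¹ * g * (a⁻¹ * g)⁻¹ = a * z := by group
      rwa [e1] at this
    have h4 : a ∈ H := by
      have := H.mul_mem h3 (H.inv_mem hzH)
      simpa using this
    apply hg
    have := H.mul_mem h4 hcon
    simpa using this
  have hsurj : ∀ d ∈ Y, ∃ s, ∃ hs : s ∈ X, s * e * s = d := by
    rintro d ⟨hd1, hd2⟩
    obtain ⟨a, rfl⟩ := isConj_iff.1 hd1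
    have haH : a ∈ H := (hK a).1 hd2
    have hag : a⁻¹ * g ∉ H := by
      intro hcon
      apply hg
      have := H.mul_mem haH hcon
      simpa using this
    obtain ⟨j, hj⟩ := odd_of_ne hz h1 a g hag
    have hdd := conj_sq hz a
    have hpow : ((a * z * a⁻¹) * e) ^ (2 * j + 1) = 1 := by rw [← hj, pow_orderOf_eq_one]
    obtain ⟨o1, o2⟩ := odd_case hdd hee hpow
    refine ⟨_, ⟨?_, ?_⟩, o2⟩
    · obtain ⟨w, hw | hw⟩ := refl_conj hdd hee j
      · rw [hw]; exact hd1.trans (isConj_iff.2 ⟨w, rfl⟩)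
      · rw [hw]; exact hez.trans (isConj_iff.2 ⟨w, rfl⟩)
    · rw [← hK, ← hconj _ o1, o2]; exact hd2
  have hXY : X.ncard = Y.ncard := by
    apply Set.ncard_congr (fun s _ => s * e * s)
    · rintro s ⟨hs1, hs2⟩
      have hss := sq_of_isConj hz hs1
      rw [hconj s hss]
      exact ⟨isConj_iff.2 ⟨_, rfl⟩, (hK _).2 hs2⟩
    · intro s s' hs hs' heq
      obtain ⟨a, rfl⟩ := isConj_iff.1 hs.1
      obtain ⟨a', rfl⟩ := isConj_iff.1 hs'.1
      have o1 := odd_of_ne hz h1 a g (hXa a hs)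
      have o2 := odd_of_ne hz h1 a' g (hXa a' hs')
      have hsq : ((a * z * a⁻¹) * e) * ((a * z * a⁻¹) * e) = ((a' * z * a'⁻¹) * e) * ((a' * z * a'⁻¹) * e) := by
        calc ((a * z * a⁻¹) * e) * ((a * z * a⁻¹) * e) = ((a * z * a⁻¹) * e * (a * z * a⁻¹)) * e := by group
          _ = ((a' * z * a'⁻¹) * e * (a' * z * a'⁻¹)) * e := by rw [heq]
          _ = _ := by group
      have := eq_of_sq_eq_of_odd o1 o2 (pow_orderOf_eq_one _) (pow_orderOf_eq_one _) hsq
      exact mul_right_cancel this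
    · intro d hd
      exact hsurj d hd
  obtain ⟨s0, hs0, -⟩ := hsurj z ⟨IsConj.refl z, hzH⟩
  have hs0s : s0 * s0 = 1 := sq_of_isConj hz hs0.1
  have hXodd : X.ncard ≡ 1 [MOD 2] := by
    have hstab : ∀ s ∈ X, s0 * s * s0 ∈ X := by
      rintro s ⟨hs1, hs2⟩
      have hss := sq_of_isConj hz hs1
      refine ⟨?_, ?_⟩
      · refine hs1.trans (isConj_iff.2 ⟨s0, ?_⟩)
        rw [inv_of_sq hs0s]
      · have e1 : s0 * s * s0 * g = (s0 * g) * (s * g)⁻¹ * (s0 * g) := by
          have : s⁻¹ = s := inv_of_sq hss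
          calc s0 * s * s0 * g = s0 * s⁻¹ * s0 * g := by rw [this]
            _ = _ := by group
        rw [e1]
        exact H.mul_mem (H.mul_mem hs0.2 (H.inv_mem hs2)) hs0.2
    have h2 := ncard_modEq_of_conj X hs0s hstab
    have h3 : X ∩ {s | s0 * s = s * s0} = {s0} := by
      ext s
      simp only [Set.mem_inter_iff, Set.mem_setOf_eq, Set.mem_singleton_iff]
      constructor
      · rintro ⟨hs, hcomm⟩
        by_contra hne
        obtain ⟨a, ha⟩ := isConj_iff.1 hs0.1
        have hss := sq_of_isConj hz hs.1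
        have k := hyp1_conj h1 a s hs.1 (by rw [ha]; exact hne) (by rw [ha]; exact hcomm.symm)
        rw [ha] at k
        have m1 : s0 * s ∈ H := by
          have e1 : s0 * s = (s0 * g) * (s * g)⁻¹ := by
            have : s⁻¹ = s := inv_of_sq hss
            calc s0 * s = s0 * s⁻¹ := by rw [this]
              _ = _ := by group
          rw [e1]; exact H.mul_mem hs0.2 (H.inv_mem hs.2)
        have m2 : g⁻¹ * (s0 * s) * g ∈ H := by
          have e1 : g⁻¹ * (s0 * s) * g = (s0 * g)⁻¹ * (s * g) := by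
            have : s0⁻¹ = s0 := inv_of_sq hs0s
            calc g⁻¹ * (s0 * s) * g = g⁻¹ * (s0⁻¹ * s) * g := by rw [this]
              _ = _ := by group
          rw [e1]; exact H.mul_mem (H.inv_mem hs0.2) hs.2
        have n1 : a⁻¹ * 1 ∈ H := (k 1).1 (by simpa using m1)
        have n2 : a⁻¹ * g ∈ H := (k g).1 m2
        apply hg
        have := H.mul_mem (H.inv_mem n1) n2
        simpa using this
      · rintro rfl
        exact ⟨hs0, rfl⟩
    rw [h3, Set.ncard_singleton] at h2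
    exact h2
  have hzstabY : ∀ s ∈ Y, z * s * z ∈ Y := by
    rintro s ⟨hs1, hs2⟩
    refine ⟨hs1.trans (isConj_iff.2 ⟨z, by rw [inv_of_sq hz]⟩), H.mul_mem (H.mul_mem hzH hs2) hzH⟩
  have hzstabD : ∀ s ∈ {x | IsConj z x}, z * s * z ∈ {x | IsConj z x} := by
    intro s hs1
    exact IsConj.trans hs1 (isConj_iff.2 ⟨z, by rw [inv_of_sq hz]⟩)
  have hY2 := ncard_modEq_of_conj Y hz hzstabY
  have hD2 := ncard_modEq_of_conj {x | IsConj z x} hz hzstabD
  have hsame : Y ∩ {s | z * s = s * z} = {x | IsConj z x} ∩ {s | z * s = s * z} := by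
    ext s
    simp only [hY, Set.mem_inter_iff, Set.mem_setOf_eq]
    constructor
    · rintro ⟨⟨a, _⟩, c⟩; exact ⟨a, c⟩
    · rintro ⟨a, c⟩
      refine ⟨⟨a, ?_⟩, c⟩
      rw [← hK]
      have : s * z * s⁻¹ = z := by rw [← c]; group
      rw [this]; exact hzH
  rw [← hsame] at hD2
  have : {x | IsConj z x}.ncard ≡ 1 [MOD 2] := hD2.trans (hY2.symm.trans (hXY ▸ hXodd))
  rw [Nat.odd_iff]
  exact this

end

/-- Let z be an involution of a finite group G and H a proper subgroup such that z lies in gHg⁻¹ exactly when g ∈ H. Then the following are equivalent: (1) for every conjugate t ≠ z of z commuting with z, the product zt lies in gHg⁻¹ exactly when g ∈ H; (2) z lies in the centre of some Sylow 2-subgroup of G, and for every conjugate t ≠ z of z commuting with z, the centralizer of zt is contained in H. -/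
theorem result {G : Type*} [Group G] [Finite G] (z : G) (hz : orderOf z = 2) (H : Subgroup G) (hH : H ≠ ⊤)
    (h0 : ∀ g : G, z ∈ H.map (MulAut.conj g).toMonoidHom ↔ g ∈ H) :
    (∀ t : G, IsConj z t → t ≠ z → t * z = z * t → ∀ g : G, z * t ∈ H.map (MulAut.conj g).toMonoidHom ↔ g ∈ H) ↔
      ((∃ P : Sylow 2 G, z ∈ (Subgroup.center ↥(P : Subgroup G)).map (P : Subgroup G).subtype) ∧
        ∀ t : G, IsConj z t → t ≠ z → t * z = z * t → Subgroup.centralizer ({z * t} : Set G) ≤ H) := by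
  have hzz := sq_of_orderOf_two hz
  have hK := K0 h0
  have hzH : z ∈ H := by
    have := (hK 1).2 H.one_mem
    simpa using this
  have hCz : Subgroup.centralizer ({z} : Set G) ≤ H := by
    intro c hc
    rw [← hK]
    have : c * z = z * c := Subgroup.mem_centralizer_singleton_iff.1 hc
    have e : c * z * c⁻¹ = z := by rw [this]; group
    rw [e]; exact hzH
  constructor
  · intro h1
    refine ⟨?_, ?_⟩
    · have hodd := odd_class hzz h0 hH h1
      rw [← index_centralizer_eq_ncard] at hodd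
      have hzC : Subgroup.zpowers z ≤ Subgroup.centralizer ({z} : Set G) := by
        rw [Subgroup.zpowers_le, Subgroup.mem_centralizer_singleton_iff]
      have hzp : IsPGroup 2 (Subgroup.zpowers z) :=
        IsPGroup.of_card (n := 1) (by rw [Nat.card_zpowers, hz]; rfl)
      obtain ⟨T, hT, hzT⟩ := exists_isSylowIn_ge hzp hzC
      have hidx : ¬ 2 ∣ T.index := by
        rw [← Subgroup.relIndex_mul_index hT.1]
        intro hd
        rcases (Nat.Prime.dvd_mul Nat.prime_two).1 hd with h | h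
        · exact hT.2.2 h
        · exact (Nat.not_even_iff_odd.2 hodd) (even_iff_two_dvd.2 h)
      refine ⟨hT.2.1.toSylow hidx, ?_⟩
      refine ⟨⟨z, hzT (Subgroup.mem_zpowers z)⟩, ?_, rfl⟩
      rw [SetLike.mem_coe, Subgroup.mem_center_iff]
      intro x
      apply Subtype.ext
      have hx : (x : G) ∈ T := x.2
      exact Subgroup.mem_centralizer_singleton_iff.1 (hT.1 hx)
    · intro t ht1 ht2 ht3 c hc
      have a1 := (h1 t ht1 ht2 ht3 1).2 H.one_mem
      rw [mem_cj] at a1
      apply (h1 t ht1 ht2 ht3 c).1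
      rw [mem_cj]
      have hc' : c * (z * t) = (z * t) * c := Subgroup.mem_centralizer_singleton_iff.1 hc
      have e : c⁻¹ * (z * t) * c = z * t := by
        calc c⁻¹ * (z * t) * c = c⁻¹ * ((z * t) * c) := by group
          _ = c⁻¹ * (c * (z * t)) := by rw [hc']
          _ = z * t := by group
      rw [e]
      simpa using a1
  · rintro ⟨⟨P, hP⟩, hC⟩ t ht1 ht2 ht3 g
    have htt : t * t = 1 := sq_of_isConj hzz ht1
    have htH : t ∈ H := hCz (Subgroup.mem_centralizer_singleton_iff.2 ht3)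
    rw [mem_cj]
    constructor
    · intro hu
      obtain ⟨⟨z', hz'P⟩, hz'c, hz'⟩ := hP
      have hz'eq : z' = z := hz'
      subst hz'eq
      have hPc : ∀ x ∈ (P : Subgroup G), x * z' = z' * x := by
        intro x hx
        have := (Subgroup.mem_center_iff.1 hz'c) ⟨x, hx⟩
        exact congrArg Subtype.val this
      have hPH : (P : Subgroup G) ≤ H := fun x hx =>
        hCz (Subgroup.mem_centralizer_singleton_iff.2 (hPc x hx))
      have hPsyl : IsSylowIn 2 (P : Subgroup G) H := isSylowIn_of_le P hPH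
      set u := g⁻¹ * (z' * t) * g with hudef
      have huu : u * u = 1 := by
        calc u * u = g⁻¹ * (z' * (t * z') * t) * g := by rw [hudef]; group
          _ = g⁻¹ * ((z' * z') * (t * t)) * g := by rw [ht3]; group
          _ = 1 := by rw [hzz, htt]; group
      have hup : IsPGroup 2 (Subgroup.zpowers u) := by
        rintro ⟨x, hx⟩
        obtain ⟨i, rfl⟩ := Subgroup.mem_zpowers_iff.1 hx
        refine ⟨1, Subtype.ext ?_⟩
        change (u ^ i) ^ (2 ^ 1) = 1
        rw [pow_one, ← zpow_natCast, ← zpow_mul, mul_comm, zpow_mul, zpow_natCast, pow_two, huu, one_zpow]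
      obtain ⟨h, hh, hle⟩ := hPsyl.exists_conj_le hup (by rw [Subgroup.zpowers_le]; exact hu)
      have h2 : h * u * h⁻¹ ∈ (P : Subgroup G) := hle (conj_mem_cj (Subgroup.mem_zpowers u))
      have h3 := hPc _ h2
      have h4 : (g * h⁻¹) * z' * (g * h⁻¹)⁻¹ ∈ Subgroup.centralizer ({z' * t} : Set G) := by
        rw [Subgroup.mem_centralizer_singleton_iff]
        have e1 : z' * t = (g * h⁻¹) * (h * u * h⁻¹) * (g * h⁻¹)⁻¹ := by rw [hudef]; group
        rw [e1]
        calc (g * h⁻¹) * z' * (g * h⁻¹)⁻¹ * ((g * h⁻¹) * (h * u * h⁻¹) * (g * h⁻¹)⁻¹)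
            = (g * h⁻¹) * (z' * (h * u * h⁻¹)) * (g * h⁻¹)⁻¹ := by group
          _ = (g * h⁻¹) * ((h * u * h⁻¹) * z') * (g * h⁻¹)⁻¹ := by rw [h3]
          _ = _ := by group
      have h5 := (hK _).1 (hC t ht1 ht2 ht3 h4)
      have := H.mul_mem h5 hh
      simpa using this
    · intro hg
      exact H.mul_mem (H.mul_mem (H.inv_mem hg) (H.mul_mem hzH htH)) hg

end Cfsg.Agent.S1922
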