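import Cfsg.Statements.S1944
import Cfsg.Statements.S1944
import Cfsg.Agent.Lib.Helper90Trace
import Cfsg.Agent.Lib.Helper86Sub
import Cfsg.Agent.Lib.Helper31PLength
import Cfsg.Agent.S5076
import Cfsg.Agent.S5191
-- import your own Cfsg.Agent.* helpers here

set_option autoImplicit false
open Cfsg

namespace Cfsg.Agent.S1944

open Cfsg.FusionSystem Cfsg.Agent.Lib.Helper87Fusion Cfsg.Agent.Lib.Helper87Fusion2
  Cfsg.Agent.Lib.Helper86Fusion2 Cfsg.Agent.Lib.Helper90Abelian Cfsg.Agent.Lib.Helper90Trace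
  Cfsg.Agent.Lib.Helper31PLength Cfsg.Agent.Lib.Helper1Fitting

/-- Let S be a Sylow p-subgroup of the finite group G and suppose that the centre Z(S) lies in O_{p',p}(G). The elements of S each of which is its only G-conjugate in S form a subgroup W of Z(S); W is then a direct factor of Z(S): there is a subgroup K of Z(S) with W ∩ K = 1 and WK = Z(S). -/
theorem result {G : Type*} [Group G] [Finite G] {p : ℕ} [Fact p.Prime] (S : Sylow p G)
    (hZ : ((S : Subgroup G) ⊓ Subgroup.centralizer ((S : Subgroup G) : Set G)) ≤ Cfsg.pPrimePCore p G) :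
    ∃ W K : Subgroup G, (∀ x : G, x ∈ W ↔ (x ∈ (S : Subgroup G) ∧ ∀ g : G, g * x * g⁻¹ ∈ (S : Subgroup G) → g * x * g⁻¹ = x)) ∧
      K ≤ ((S : Subgroup G) ⊓ Subgroup.centralizer ((S : Subgroup G) : Set G)) ∧ W ⊓ K = ⊥ ∧ W ⊔ K = ((S : Subgroup G) ⊓ Subgroup.centralizer ((S : Subgroup G) : Set G)) := by
  classical
  have hOn : (pPrimeCore p G).Normal := Cfsg.Agent.Lib.Helper1Fitting.pPrimeCore_normal p
  have hMn : (pPrimePCore p G).Normal := inferInstance
  set O := pPrimeCore p G with hO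
  set M := pPrimePCore p G with hM
  set F := groupFusionSystem (S : Subgroup G) with hF
  have hsat : F.IsSaturated p := Cfsg.Agent.S5076.result p S
  have hS : IsPGroup p (S : Subgroup G) := S.2
  set R : Subgroup G := (S : Subgroup G) ⊓ M with hR
  set V := R ⊓ Subgroup.centralizer (R : Set G) with hVdef
  have hRS : R ≤ (S : Subgroup G) := inf_le_left
  have hVS : V ≤ (S : Subgroup G) := inf_le_left.trans hRS
  have hOS : ∀ x ∈ O, x ∈ (S : Subgroup G) → x = 1 := by
    intro x hxO hxS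
    obtain ⟨k, hk⟩ := hS ⟨x, hxS⟩
    have hk' : x ^ p ^ k = 1 := by simpa using congrArg Subtype.val hk
    have h2 : x ^ Nat.card O = 1 := by
      have h := pow_card_eq_one' (x := (⟨x, hxO⟩ : O))
      exact congrArg Subtype.val h
    have h3 := pow_gcd_eq_one.2 ⟨h2, hk'⟩
    rw [Nat.Coprime.pow_right k (card_pPrimeCore_coprime p), pow_one] at h3
    exact h3
  have hZV : (S : Subgroup G) ⊓ Subgroup.centralizer ((S : Subgroup G) : Set G) ≤ V := by
    intro z hz
    exact ⟨⟨hz.1, hZ hz⟩, Subgroup.centralizer_le hRS hz.2⟩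
  have hcomm : ∀ a b : V, a * b = b * a := by
    intro a b
    exact Subtype.ext (Subgroup.mem_centralizer_iff.1 b.2.2 a a.2.1)
  -- normalizer of `R` normalizes `V`
  have hNV : ∀ n ∈ Subgroup.normalizer (R : Set G), ∀ v ∈ V, n * v * n⁻¹ ∈ V := by
    intro n hn v hv
    refine ⟨(Subgroup.mem_normalizer_iff.1 hn v).1 hv.1, Subgroup.mem_centralizer_iff.2 ?_⟩
    intro r hr
    have hr' : n⁻¹ * r * n ∈ R := by
      have := (Subgroup.mem_normalizer_iff.1 (Subgroup.inv_mem _ hn) r).1 hr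
      simpa using this
    have := Subgroup.mem_centralizer_iff.1 hv.2 _ hr'
    calc r * (n * v * n⁻¹) = n * ((n⁻¹ * r * n) * v) * n⁻¹ := by group
      _ = n * (v * (n⁻¹ * r * n)) * n⁻¹ := by rw [this]
      _ = _ := by group
  have hSN : (S : Subgroup G) ≤ Subgroup.normalizer (R : Set G) := by
    intro s hs
    apply Cfsg.Agent.Lib.Helper87Realized.mem_normalizer_of_conj_mem
    rintro q ⟨hqS, hqM⟩
    exact ⟨Subgroup.mul_mem _ (Subgroup.mul_mem _ hs hqS) (Subgroup.inv_mem _ hs),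
      hMn.conj_mem q hqM s⟩
  have hconjV : ∀ s ∈ (S : Subgroup G), ∀ v ∈ V, s * v * s⁻¹ ∈ V := fun s hs => hNV s (hSN hs)
  have hfrat : ∀ g : G, ∃ n ∈ O, n * g ∈ Subgroup.normalizer (R : Set G) := by
    intro g
    have hh : ∀ x ∈ R, g * x * g⁻¹ ∈ (S : Subgroup G) ⊔ O := by
      intro x hx
      have h1 : g * x * g⁻¹ ∈ M := hMn.conj_mem x hx.2 g
      have h2 := pPrimePCore_le_sup p G S h1
      rwa [sup_comm] at h2
    obtain ⟨n, hn, hnR⟩ := Cfsg.Agent.S5191.aux O S R hRS g hh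
    refine ⟨n, hn, ?_⟩
    apply Cfsg.Agent.Lib.Helper87Realized.mem_normalizer_of_conj_mem
    intro q hq
    have e : n * g * q * (n * g)⁻¹ = n * (g * q * g⁻¹) * n⁻¹ := by group
    rw [e]
    exact ⟨hnR q hq, hMn.conj_mem _ (hMn.conj_mem q hq.2 g) n⟩
  have hfn : F.IsFullyNormalized V := by
    refine ⟨hVS, fun Q _ => ?_⟩
    have : normalizerIn (S : Subgroup G) V = (S : Subgroup G) := by
      apply le_antisymm inf_le_left
      intro s hs
      exact ⟨hs, Cfsg.Agent.Lib.Helper87Realized.mem_normalizer_of_conj_mem (hconjV s hs)⟩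
    rw [this]
    exact Subgroup.card_le_of_le inf_le_left
  obtain ⟨-, ⟨-, T, hT⟩, -⟩ := saturated_fullyNormalized hS hsat hfn
  have hidx : ¬ p ∣ ((autInducedBy (S : Subgroup G) V).subgroupOf (F.autGroup V)).index := by
    rw [← hT]; exact T.not_dvd_index
  obtain ⟨K, hK1, hK2, hK3⟩ := trace_split hcomm p (hS.to_le hVS) (F.autGroup V)
    (autInducedBy (S : Subgroup G) V) (autInducedBy_le_autGroup F hVS) hidx
  have hfixT : (fixedSub (autInducedBy (S : Subgroup G) V)).map V.subtype =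
      (S : Subgroup G) ⊓ Subgroup.centralizer ((S : Subgroup G) : Set G) := by
    apply le_antisymm
    · rintro _ ⟨v, hv, rfl⟩
      refine ⟨hVS v.2, Subgroup.mem_centralizer_iff.2 (fun s hs => ?_)⟩
      obtain ⟨α, hα, hαs⟩ := Cfsg.Agent.Lib.Helper86Fusion.exists_conjAut (P := V) hs
        (Cfsg.Agent.Lib.Helper87Realized.mem_normalizer_of_conj_mem (hconjV s hs))
      have h1 := hv α hα
      have h2 := hαs v
      rw [h1] at h2
      show s * (v : G) = v * s
      conv_rhs => rw [h2]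
      group
    · intro z hz
      refine ⟨⟨z, hZV hz⟩, fun α hα => ?_, rfl⟩
      obtain ⟨s, hs, hαs⟩ := (mem_autInducedBy_iff _ V α).1 hα
      apply Subtype.ext
      rw [hαs]
      show s * z * s⁻¹ = z
      rw [Subgroup.mem_centralizer_iff.1 hz.2 s hs]
      group
  refine ⟨(fixedSub (F.autGroup V)).map V.subtype, K.map V.subtype, fun x => ?_, ?_, ?_, ?_⟩
  · constructor
    · rintro ⟨v, hv, rfl⟩
      refine ⟨hVS v.2, fun g hg => ?_⟩
      obtain ⟨n, hn, hng⟩ := hfrat g
      obtain ⟨α, -, hα⟩ := Cfsg.Agent.Lib.Helper86Fusion.exists_conjAut (K := ⊤) (P := V)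
        (Subgroup.mem_top (n * g))
        (Cfsg.Agent.Lib.Helper87Realized.mem_normalizer_of_conj_mem (hNV _ hng))
      have hαF : α ∈ F.autGroup V :=
        (mem_autGroup_iff F hVS α).2 ⟨hVS, fun x => hVS (α x).2, n * g, hα⟩
      have h1 := hα v
      rw [hv α hαF] at h1
      show g * (v : G) * g⁻¹ = v
      set y := g * (v : G) * g⁻¹ with hy
      have h2 : (v : G) = n * y * n⁻¹ := by rw [h1, hy]; group
      have h3 : y⁻¹ * (v : G) ∈ O := by
        rw [h2]
        have : y⁻¹ * (n * y * n⁻¹) = (y⁻¹ * n * y⁻¹⁻¹) * n⁻¹ := by group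
        rw [this]
        exact O.mul_mem (hOn.conj_mem n hn _) (O.inv_mem hn)
      have h4 := hOS _ h3 (Subgroup.mul_mem _ (Subgroup.inv_mem _ hg) (hVS v.2))
      exact (inv_mul_eq_one.1 h4)
    · rintro ⟨hxS, hx⟩
      have hxZ : x ∈ (S : Subgroup G) ⊓ Subgroup.centralizer ((S : Subgroup G) : Set G) := by
        refine ⟨hxS, Subgroup.mem_centralizer_iff.2 (fun s hs => ?_)⟩
        have := hx s (Subgroup.mul_mem _ (Subgroup.mul_mem _ hs hxS) (Subgroup.inv_mem _ hs))
        conv_rhs => rw [← this]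
        group
      refine ⟨⟨x, hZV hxZ⟩, fun α hα => ?_, rfl⟩
      obtain ⟨-, -, g, hg⟩ := (mem_autGroup_iff F hVS α).1 hα
      have hg' : ((α ⟨x, hZV hxZ⟩ : V) : G) = g * x * g⁻¹ := hg ⟨x, hZV hxZ⟩
      apply Subtype.ext
      rw [hg']
      apply hx
      rw [← hg']
      exact hVS (α _).2
  · rw [← hfixT]
    exact Subgroup.map_mono hK1
  · rw [← Subgroup.map_inf _ _ _ V.subtype_injective, hK2, Subgroup.map_bot]
  · rw [← Subgroup.map_sup, hK3, hfixT]

end Cfsg.Agent.S1944
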