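import Cfsg.Statements.S1946
import Cfsg.Agent.Lib.Helper11SmallExp

set_option autoImplicit false
open Cfsg

namespace Cfsg.Agent.S1946

open Subgroup Cfsg.Agent.Lib.Helper11Frobenius Cfsg.Agent.Lib.Helper11OddAut
  Cfsg.Agent.Lib.Helper11SmallExp
open scoped commutatorElement

/-- Let P be a Sylow p-subgroup of the finite group G. Then G has a normal p-complement if and only if P controls the fusion of its elements of order dividing p (dividing 4 when p = 2): whenever such an element a of P has a G-conjugate g a g⁻¹ in P, that conjugate is already x a x⁻¹ for some x in P. -/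
theorem result {G : Type*} [Group G] [Finite G] {p : ℕ} [Fact p.Prime] (P : Sylow p G) :
    Cfsg.HasNormalPComplement p G ↔
      ∀ a ∈ (P : Subgroup G), (a ^ p = 1 ∨ (p = 2 ∧ a ^ 4 = 1)) → ∀ g : G, g * a * g⁻¹ ∈ (P : Subgroup G) →
        ∃ x ∈ (P : Subgroup G), g * a * g⁻¹ = x * a * x⁻¹ := by
  constructor
  · intro h a ha _ g hg
    exact fusion (frobCond_of_hasNPC (hasNPC_iff.mpr h)) P a ha g hg
  · intro h
    rw [← hasNPC_iff]
    apply Cfsg.Agent.Lib.Helper11Frobenius.frobenius
    apply frobCond_of_sylow P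
    intro Q hQP g hgN hgo
    by_contra hgC
    obtain ⟨D, hDQ, hDN, hDC, hDe⟩ :=
      exists_small_exponent p g hgo _ Q rfl (P.isPGroup'.to_le hQP) hgN hgC
    apply hDC
    have hDP : D ≤ (P : Subgroup G) := hDQ.trans hQP
    have hDp : IsPGroup p D := P.isPGroup'.to_le hDP
    obtain ⟨c, hc⟩ := (isNilpotent_iff_lowerCentralSeries (P : Subgroup G)).mp
      P.isPGroup'.isNilpotent
    have hchain : ∀ m i : ℕ, i + m = c →
        g ∈ centralizer ((D ⊓ (P : Subgroup G).lowerCentralSeries i : Subgroup G) : Set G) := by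
      intro m
      induction m with
      | zero =>
        intro i hi x hx
        have hx' : x ∈ D ⊓ (P : Subgroup G).lowerCentralSeries i := hx
        rw [show i = c by omega, hc, inf_bot_eq, mem_bot] at hx'
        rw [hx']; simp
      | succ m ih =>
        intro i hi
        apply mem_centralizer_of_chain (p := p) (D ⊓ (P : Subgroup G).lowerCentralSeries (i + 1))
          (D ⊓ (P : Subgroup G).lowerCentralSeries i) (hDp.to_le inf_le_left)
          (inf_le_inf_left D (Subgroup.lowerCentralSeries_antitone _ (Nat.le_succ i))) g hgo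
          (ih (i + 1) (by omega))
        rintro b ⟨hbD, hbK⟩
        have hgb : g * b * g⁻¹ ∈ D := (mem_normalizer_iff.mp hDN b).mp hbD
        refine ⟨D.mul_mem hgb (D.inv_mem hbD), ?_⟩
        obtain ⟨x, hx, hxe⟩ := h b (hDP hbD) (hDe b hbD) g (hDP hgb)
        show g * b * g⁻¹ * b⁻¹ ∈ (P : Subgroup G).lowerCentralSeries (i + 1)
        rw [hxe, Subgroup.lowerCentralSeries_succ]
        have h2 : x * b * x⁻¹ * b⁻¹ = ⁅b, x⁆⁻¹ := by rw [commutatorElement_def]; group
        rw [h2]
        exact inv_mem (commutator_mem_commutator hbK hx)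
    have h0 := hchain c 0 (by omega)
    rw [Subgroup.lowerCentralSeries_zero, inf_eq_left.mpr hDP] at h0
    exact h0

end Cfsg.Agent.S1946
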