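import Cfsg.Statements.S2015
import Cfsg.Agent.S1984
import Cfsg.Agent.Lib.Helper39Transfer
import Cfsg.Agent.Lib.Helper39KInfFunctor

set_option autoImplicit false
universe u
open Cfsg

namespace Cfsg.Agent.S2015

/-- For p ≥ 5, every finite p-group P has a characteristic subgroup K containing Z(P), depending only on P, whose normalizer controls transfer wherever P is a Sylow subgroup: for every finite group G and every embedding ι of P onto a Sylow p-subgroup of G, the intersection of ι(P) with the derived subgroup of G equals its intersection with the derived subgroup of N_G(ι(K)). -/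
theorem result (p : ℕ) [Fact p.Prime] (hp : 5 ≤ p) (P : Type u) [Group P] [Finite P] (hP : IsPGroup p P) : ∃ K : Subgroup P, K.Characteristic ∧ Subgroup.center P ≤ K ∧ ∀ (G : Type u) [Group G] [Finite G] (ι : P →* G), Function.Injective ι → (∃ T : Sylow p G, (T : Subgroup G) = ι.range) → ι.range ⊓ commutator G = ι.range ⊓ (commutator ↥(Subgroup.normalizer ((K.map ι : Subgroup G) : Set G))).map (Subgroup.normalizer ((K.map ι : Subgroup G) : Set G)).subtype := by
  have hW := Cfsg.Agent.Lib.Helper39KInfFunctor.isCharPFunctor_kInfLower.{u} p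
  have hnil : Group.IsNilpotent P := hP.isNilpotent
  refine ⟨Cfsg.kInfLower P, ?_, Cfsg.Agent.Lib.Helper39KInfCent.center_le_kInfLower, ?_⟩
  · rw [Subgroup.characteristic_iff_map_eq]
    intro φ
    exact Cfsg.Agent.Lib.Helper39KInfMap.map_kInfLower φ
  · intro G _ _ ι hι hT
    obtain ⟨T, hT⟩ := hT
    have h1 := Cfsg.Agent.S1984.result (G := G) (p := p) hp
    rw [Cfsg.Agent.Lib.Helper39Transfer.controlsTransferIn_iff
      (Cfsg.Agent.Lib.Helper39KInfFunctor.isConjugacyFunctor_induced hW)
      (Cfsg.Agent.Lib.Helper39Sylow.isSyl_sylow T)] at h1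
    unfold Cfsg.Agent.Lib.Helper39Transfer.CT at h1
    rw [top_inf_eq, hT] at h1
    have h2 : Cfsg.inducedFunctor Cfsg.kInfLower ι.range = (Cfsg.kInfLower P).map ι := by
      unfold Cfsg.inducedFunctor
      rw [← Cfsg.Agent.Lib.Helper39KInfMap.map_kInfLower (MonoidHom.ofInjective hι), Subgroup.map_map]
      congr 1
    rw [h2] at h1
    have h3 : ∀ N : Subgroup G, (commutator ↥N).map N.subtype = ⁅N, N⁆ := by
      intro N
      rw [commutator_def, Subgroup.map_commutator, ← MonoidHom.range_eq_map, Subgroup.range_subtype]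
    rw [h3]
    exact h1

end Cfsg.Agent.S2015
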