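import Cfsg.Statements.S2037
import Cfsg.Agent.Lib.Helper69Pk
import Cfsg.Agent.Lib.Helper88Mathieu

set_option autoImplicit false
open Cfsg

namespace Cfsg.Agent.S2037

open Cfsg.Agent.Lib.Helper33Golay Cfsg.Agent.Lib.Helper88Packed Cfsg.Agent.Lib.Helper88PC
  Cfsg.Agent.Lib.Helper88Mathieu Cfsg.Agent.Lib.Helper69Mult Cfsg.Agent.Lib.Helper69Pk

/-- an elementary abelian subgroup of order 16 -/
def dW : List (ℕ × ℕ × ℕ) := [(984724508489452699215480746259449888, 984724508489452699215480746259449888, 131080), (984235865005994746954145143334668320, 984235865005994746954145143334668320, 8), (976448692869377735270425038196672544, 976448692869377735270425038196672544, 4194320), (961365507626256404119956257276790816, 961365507626256404119956257276790816, 16)]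

/-- a Sylow 2-subgroup -/
def dP : List (ℕ × ℕ × ℕ) := [(984087998624716432073391471508228097, 984087998624716432073391471508228097, 1), (981940598513915484873933947681343520, 981940598513915484873933947681343520, 1230376), (983553010088178266402939871779325984, 983553010088178266402939871779325984, 147496), (960884477435128931241433760505432096, 960884477435128931241433760505432096, 131080), (984235865005994746954145143334668320, 984235865005994746954145143334668320, 8), (976448692869377735270425038196672544, 976448692869377735270425038196672544, 4194320), (961365507626256404119956257276790816, 961365507626256404119956257276790816, 16)]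

def u3 : ℕ := 972567739163197169138287573865758785
def u3i : ℕ := 976948186344841724045049627893335042
def u15 : ℕ := 967275855275119437322597591524180994
def u15i : ℕ := 971330069136388622715254898871074881
def sN : ℕ := 983553010088178266402939871779325984
def sN' : ℕ := 967355081973971438777379695003535361
def wordsP : List (List ℕ) := [[967355081973971438777379695003535361, 983553010088178266402939871779325984, 967355081973971438777379695003535361, 983553010088178266402939871779325984, 967355081973971438777379695003535361, 984235865005994746954145143334668320, 976448692869377735270425038196672544, 961365507626256404119956257276790816], [983553010088178266402939871779325984, 967355081973971438777379695003535361, 983553010088178266402939871779325984, 967355081973971438777379695003535361, 984235865005994746954145143334668320, 961365507626256404119956257276790816], [983553010088178266402939871779325984], [984724508489452699215480746259449888, 984235865005994746954145143334668320, 961365507626256404119956257276790816], [984235865005994746954145143334668320], [976448692869377735270425038196672544], [961365507626256404119956257276790816]]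

set_option maxRecDepth 100000 in
theorem dW_ok : pcOK dW = true := by decide +kernel
set_option maxRecDepth 100000 in
theorem dP_ok : pcOK dP = true := by decide +kernel
set_option maxRecDepth 100000 in
theorem dW_in : (gensOf dW).all in23 = true := by decide +kernel
set_option maxRecDepth 100000 in
theorem dP_in : (gensOf dP).all in23 = true := by decide +kernel
set_option maxRecDepth 100000 in
theorem good_ok : (elems (gensOf dW)).all (good4Chk u15 u15i) = true := by decide +kernel
set_option maxRecDepth 100000 in
theorem u15_in : in23 u15 = true ∧ in23 u15i = true := by decide +kernel
set_option maxRecDepth 100000 in
theorem u_ok : chkU in23 (gensOf dW) u3 u3i = true := by decide +kernel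
set_option maxRecDepth 100000 in
theorem s_ok : chkTop in23 (gensOf dW) u3 sN = true := by decide +kernel
set_option maxRecDepth 100000 in
theorem s'_ok : chkTop in23 (gensOf dW) u3 sN' = true := by decide +kernel
set_option maxRecDepth 100000 in
theorem g1 : chkGood in23 (gensOf dW) sN (975228252366232671904164682463336449, 984724508489452699215480746259449888) = true := by decide +kernel
set_option maxRecDepth 100000 in
theorem g2 : chkGood in23 (gensOf dW) sN' (983457802429239632519505466668138866, 984724508489452699215480746259449888) = true := by decide +kernel
set_option maxRecDepth 100000 in
theorem g3 : chkGood in23 (gensOf dW) (mulP (mulP sN sN') (mulP sN sN')) (980175745246186216114091849510705281, 984724508489452699215480746259449888) = true := by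
  decide +kernel
set_option maxRecDepth 100000 in
theorem words_ok : wordsOK (gensOf dP) (sN' :: sN :: gensOf dW) wordsP = true := by
  decide +kernel
set_option maxRecDepth 100000 in
theorem swap_ok : chkSwap in23 963317377779330572509016225781785154 956824828778998284717115937788136032 971819716897046915331961514184780847 266242 = true := by
  decide +kernel

/-- The Schur multiplier of the Mathieu group M₂₃ (the stabiliser of a point in the automorphism group of the length-24 binary code) is trivial; here the Schur multiplier is described through stem extensions, as in the definitions: surjective homomorphisms onto the group from a finite group, whose kernel is central in that finite group and contained in that finite group's commutator subgroup. -/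
theorem result : Cfsg.HasCyclicSchurMultiplier ↥Cfsg.Spor.M23 1 := by
  apply of_subgroup
  intro p hp Γ _ _ τ hr hc hs hcard
  by_cases h2 : p = 2
  · subst h2
    obtain ⟨a, E⟩ := Ext2.of_card hc hcard
    exact packed_D8 E hc hs hcard hr gdata23.inG dW dP dW_ok dP_ok dW_in dP_in
      (goodW4 E hr gdata23.inG dW dW_ok u15 u15i u15_in.1 u15_in.2 good_ok) u3 u3i sN sN'
      u_ok s_ok s'_ok _ _ _ g1 g2 g3 wordsP words_ok (by decide) 79695
      (by rw [card23]; decide) (by decide)
  by_cases h3 : p = 3
  · subst h3
    exact packed_swap hc hs hcard hr gdata23.inG _ _ _ _ swap_ok 1133440
      (by rw [card23]) (by decide)
  · apply cyclic_case τ hc hs hp hcard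
    rw [hr, card23]
    exact not_sq_dvd (a := 7) (b := 2) (m := 8855) hp h2 h3 (by norm_num) (by decide +kernel)

end Cfsg.Agent.S2037
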