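import Cfsg.Statements.S2046
import Cfsg.Agent.Lib.Helper10Spin
import Cfsg.Agent.Lib.Helper10MHSP2
import Cfsg.Agent.Lib.Helper10MHSP3
import Cfsg.Agent.Lib.Helper10MHSP5
import Cfsg.Agent.Lib.Helper63PCFin

set_option autoImplicit false
open Cfsg

namespace Cfsg.Agent.S2046

open Cfsg.Agent.Lib.Helper63PCDefs Cfsg.Agent.Lib.Helper17PCMult Cfsg.Agent.Lib.Helper63PCFin
  Cfsg.Agent.Lib.Helper10HSTab

theorem cases_of_dvd (p : ℕ) (hp : p.Prime) (h : p ∣ 44352000) :
    p = 2 ∨ p = 3 ∨ p = 5 ∨ p = 7 ∨ p = 11 := by
  have := mem_of_prime_dvd hp [2, 2, 2, 2, 2, 2, 2, 2, 2, 3, 3, 5, 5, 5, 7, 11]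
    (by intro q hq; simp only [List.mem_cons, List.not_mem_nil, or_false] at hq
        rcases hq with h | h | h | h | h | h | h | h | h | h | h | h | h | h | h | h <;>
          subst h <;> norm_num)
    44352000 (by norm_num) h
  simp only [List.mem_cons, List.not_mem_nil, or_false] at this
  tauto

theorem stem : ∃ (Γ : Type) (_ : Group Γ) (_ : Finite Γ) (σ : Γ →* K),
    IsStemExtension σ ∧ Nat.card σ.ker = 2 := by
  obtain ⟨g, hg, hc⟩ := Cfsg.Agent.Lib.Helper10HSGens.exists_invol
  exact Cfsg.Agent.Lib.Helper10Spin.stem_of_perm 99 K commutator_K g hg 50 hc (by decide)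

theorem mult_K : Cfsg.HasCyclicSchurMultiplier K 2 := by
  have hfin : Finite K := by
    apply Nat.finite_of_card_ne_zero
    rw [card_K]
    norm_num
  refine final 2 (by norm_num) stem (fun p hp h => ?_) (fun p hp h h2 => ?_)
  · rw [card_K] at h
    rcases cases_of_dvd p hp (dvd_trans (dvd_pow_self p two_ne_zero) h) with r | r | r | r | r <;>
      subst r
    · rw [Nat.Prime.factorization_self Nat.prime_two]
      exact Cfsg.Agent.Lib.Helper10MHSP2.lb
    · rw [Nat.factorization_eq_zero_of_not_dvd (by norm_num)]
      exact Cfsg.Agent.Lib.Helper10MHSP3.lb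
    · rw [Nat.factorization_eq_zero_of_not_dvd (by norm_num)]
      exact Cfsg.Agent.Lib.Helper10MHSP5.lb
    · norm_num at h
    · norm_num at h
  · rw [card_K] at h
    have := (Nat.prime_dvd_prime_iff_eq hp Nat.prime_two).1 h2
    subst this
    norm_num at h

/-- The Schur multiplier of the Higman–Sims group (as a two-vector stabiliser in the automorphism group of the rank-24 lattice) is cyclic of order 2; here the Schur multiplier is described through stem extensions, as in the definitions: surjective homomorphisms onto the group from a finite group, whose kernel is central in that finite group and contained in that finite group's commutator subgroup. -/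
theorem result : Cfsg.HasCyclicSchurMultiplier ↥Cfsg.Spor.HS 2 := by
  obtain ⟨e⟩ := exists_iso
  exact congr e 2 mult_K

end Cfsg.Agent.S2046
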