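import Cfsg.Statements.S2048
import Cfsg.Agent.Lib.Helper63MSuzP2
import Cfsg.Agent.Lib.Helper63MSuzP3
import Cfsg.Agent.Lib.Helper63MSuzP5
import Cfsg.Agent.Lib.Helper63PCFin
import Cfsg.Agent.Lib.Helper47SuzM2

set_option autoImplicit false
open Cfsg

namespace Cfsg.Agent.S2048

open Cfsg.Agent.Lib.Helper63PCDefs Cfsg.Agent.Lib.Helper17PCMult Cfsg.Agent.Lib.Helper63PCFin
  Cfsg.Agent.Lib.Helper63MSuzM

theorem cases_of_dvd (p : ℕ) (hp : p.Prime) (h : p ∣ 448345497600) :
    p = 2 ∨ p = 3 ∨ p = 5 ∨ p = 7 ∨ p = 11 ∨ p = 13 := by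
  have := mem_of_prime_dvd hp
    [2, 2, 2, 2, 2, 2, 2, 2, 2, 2, 2, 2, 2, 3, 3, 3, 3, 3, 3, 3, 5, 5, 7, 11, 13]
    (by intro q hq; simp only [List.mem_cons, List.not_mem_nil, or_false] at hq
        rcases hq with h | h | h | h | h | h | h | h | h | h | h | h | h | h | h | h | h | h | h |
          h | h | h | h | h | h <;> subst h <;> norm_num)
    448345497600 (by norm_num) h
  simp only [List.mem_cons, List.not_mem_nil, or_false] at this
  tauto

theorem fact6_two : (6 : ℕ).factorization 2 = 1 := by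
  have : (6 : ℕ) = 2 * 3 := by norm_num
  rw [this, Nat.factorization_mul (by norm_num) (by norm_num), Finsupp.add_apply,
    Nat.Prime.factorization_self Nat.prime_two,
    Nat.factorization_eq_zero_of_not_dvd (by norm_num : ¬ 2 ∣ 3)]

theorem fact6_three : (6 : ℕ).factorization 3 = 1 := by
  have : (6 : ℕ) = 2 * 3 := by norm_num
  rw [this, Nat.factorization_mul (by norm_num) (by norm_num), Finsupp.add_apply,
    Nat.Prime.factorization_self Nat.prime_three,
    Nat.factorization_eq_zero_of_not_dvd (by norm_num : ¬ 3 ∣ 2)]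

theorem stem6' : ∃ (Γ : Type) (_ : Group Γ) (_ : Finite Γ)
    (σ : Γ →* Cfsg.Agent.Lib.Helper35SuzA.K.Grp), IsStemExtension σ ∧ Nat.card σ.ker = 6 := by
  obtain ⟨Γ, i1, i2, σ, hσ, ⟨e⟩⟩ := Cfsg.Agent.Lib.Helper47SuzM2.exists_cover
  refine ⟨Γ, i1, i2, σ, hσ, ?_⟩
  rw [Nat.card_congr e.toEquiv, Nat.card_congr Multiplicative.toAdd, Nat.card_zmod]

theorem stem6 : ∃ (Γ : Type) (_ : Group Γ) (_ : Finite Γ) (σ : Γ →* Cfsg.Spor.Suz),
    IsStemExtension σ ∧ Nat.card σ.ker = 6 := stem6'

/-- The Schur multiplier of the Suzuki sporadic group is cyclic of order 6. -/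
theorem result : Cfsg.HasCyclicSchurMultiplier Cfsg.Spor.Suz 6 := by
  have hcard : Nat.card Cfsg.Spor.Suz = 448345497600 := cardSz
  have hfin : Finite Cfsg.Spor.Suz := by
    apply Nat.finite_of_card_ne_zero
    rw [hcard]
    norm_num
  refine final 6 (by norm_num) stem6 (fun p hp h => ?_) (fun p hp h h2 => ?_)
  · rw [hcard] at h
    rcases cases_of_dvd p hp (dvd_trans (dvd_pow_self p two_ne_zero) h) with r | r | r | r | r | r <;>
      subst r
    · rw [fact6_two]
      exact localBound_congr iso.symm 2 1 Cfsg.Agent.Lib.Helper63MSuzP2.lb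
    · rw [fact6_three]
      exact localBound_congr iso.symm 3 1 Cfsg.Agent.Lib.Helper63MSuzP3.lb
    · rw [Nat.factorization_eq_zero_of_not_dvd (by norm_num)]
      exact localBound_congr iso.symm 5 0 Cfsg.Agent.Lib.Helper63MSuzP5.lb
    · norm_num at h
    · norm_num at h
    · norm_num at h
  · rw [hcard] at h
    have h3 : p ∣ 2 * 3 := by simpa using h2
    rcases (Nat.Prime.dvd_mul hp).1 h3 with h4 | h4
    · have := (Nat.prime_dvd_prime_iff_eq hp Nat.prime_two).1 h4
      subst this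
      norm_num at h
    · have := (Nat.prime_dvd_prime_iff_eq hp Nat.prime_three).1 h4
      subst this
      norm_num at h

end Cfsg.Agent.S2048
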