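import Cfsg.Statements.S2062
import Cfsg.Agent.Lib.Helper9Out22

set_option autoImplicit false
open Cfsg

namespace Cfsg.Agent.S2062


open Cfsg.Agent.Lib.Helper9Golay Cfsg.Agent.Lib.Helper9M24
open Cfsg.Agent.Lib.Helper9M24Order Cfsg.Agent.Lib.Helper9M24Trans Cfsg.Agent.Lib.Helper9M12
open Cfsg.Agent.Lib.Helper9Octad
open Cfsg.Agent.Lib.Helper9Out Cfsg.Agent.Lib.Helper9Out23 Cfsg.Agent.Lib.Helper9Out22

theorem card_stab {p : GolayPt} (hp1 : p ≠ none) (hp2 : p ≠ some 0) :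
    Nat.card (MulAction.stabilizer Spor.M22 p) = 20160 := by
  rw [card_stabilizer_subgroup, card_M22_stab hp1 hp2]

theorem stab_inj {p q : GolayPt} (hp1 : p ≠ none) (hp2 : p ≠ some 0) (hq1 : q ≠ none)
    (hq2 : q ≠ some 0)
    (h : MulAction.stabilizer Spor.M22 p = MulAction.stabilizer Spor.M22 q) : p = q := by
  by_contra hpq
  obtain ⟨g, hg, e1, e2⟩ := fix4 hp1 hp2 hq1 hq2 hpq
  have h1 : (⟨g, hg⟩ : Spor.M22) ∈ MulAction.stabilizer Spor.M22 p := e1
  rw [h] at h1
  exact e2 h1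

theorem index22 (H : Subgroup Spor.M22) (hH : Nat.card H = 20160) :
    ∃ p ∈ {p : GolayPt | p ≠ none ∧ p ≠ some 0}, H = MulAction.stabilizer Spor.M22 p := by
  obtain ⟨p, hp1, hp2, hp⟩ := idx22 (H.map Spor.M22.subtype) (by
      rintro _ ⟨g, _, rfl⟩; exact g.2)
    (by rw [Subgroup.card_map_of_injective Spor.M22.subtype_injective, hH])
  refine ⟨p, ⟨hp1, hp2⟩, ?_⟩
  have hfin : Finite (MulAction.stabilizer Spor.M22 p) :=
    Nat.finite_of_card_ne_zero (by rw [card_stab hp1 hp2]; norm_num)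
  apply Subgroup.eq_of_le_of_card_ge
  · intro g hg
    exact hp g ⟨g, hg, rfl⟩
  · rw [card_stab hp1 hp2, hH]

theorem exists_sigma (φ : MulAut Spor.M22) : ∃ σ : Equiv.Perm GolayPt,
    σ none = none ∧ σ (some 0) = some 0 ∧
      ∀ g : Spor.M22, σ * (g : Equiv.Perm GolayPt) * σ⁻¹ = (φ g : Equiv.Perm GolayPt) := by
  obtain ⟨σ, hσn, hσ⟩ := exists_perm_of_aut (G := Spor.M22) (Ω := GolayPt)
    {p : GolayPt | p ≠ none ∧ p ≠ some 0}
    20160 (fun p hp => card_stab hp.1 hp.2) index22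
    (fun p hp q hq h => stab_inj hp.1 hp.2 hq.1 hq.2 h)
    (fun g p hp => by
      constructor
      · intro hh
        apply hp.1
        apply (g : Equiv.Perm GolayPt).injective
        exact Eq.trans hh g.2.1.2.symm
      · intro hh
        apply hp.2
        apply (g : Equiv.Perm GolayPt).injective
        exact Eq.trans hh g.2.2.symm)
    (fun g p hp => by
      have : p = none ∨ p = some 0 := by
        by_contra h
        push Not at h
        exact hp h
      rcases this with rfl | rfl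
      · exact g.2.1.2
      · exact g.2.2) φ
  refine ⟨σ, hσn none (fun h => h.1 rfl), hσn (some 0) (fun h => h.2 rfl), ?_⟩
  intro g
  ext1 p
  have := hσ g (σ⁻¹ p)
  simp only [Equiv.Perm.mul_apply]
  have h2 : σ (σ⁻¹ p) = p := by simp
  rw [h2] at this
  exact this

theorem sigma_cases (φ : MulAut Spor.M22) {σ : Equiv.Perm GolayPt} (hn : σ none = none)
    (h0 : σ (some 0) = some 0)
    (hconj : ∀ g : Spor.M22, σ * (g : Equiv.Perm GolayPt) * σ⁻¹ = (φ g : Equiv.Perm GolayPt)) :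
    σ ∈ M24 ∨ tau * σ ∈ M24 := by
  apply key22 hn h0
  · intro o ho h1 h2
    refine smul_octad_of_conj ho (fun g hg => ?_)
    have hg22 : g ∈ Spor.M22 := ⟨⟨(mem_PS.1 hg).1, (mem_PS.1 hg).2 _ h1⟩, (mem_PS.1 hg).2 _ h2⟩
    rw [hconj ⟨g, hg22⟩]
    exact (φ ⟨g, hg22⟩).2.1.1
  · intro o ho h1 h2
    refine smul_octad_of_conj ho (fun g hg => ?_)
    have hg22 : g ∈ Spor.M22 := ⟨⟨(mem_PS.1 hg).1, (mem_PS.1 hg).2 _ h1⟩, (mem_PS.1 hg).2 _ h2⟩
    have h3 := hconj (φ.symm ⟨g, hg22⟩)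
    rw [MulEquiv.apply_symm_apply] at h3
    have h4 : σ⁻¹ * g * σ⁻¹⁻¹ = (φ.symm ⟨g, hg22⟩ : Equiv.Perm GolayPt) := by
      change σ * (φ.symm ⟨g, hg22⟩ : Equiv.Perm GolayPt) * σ⁻¹ = g at h3
      generalize (φ.symm ⟨g, hg22⟩ : Equiv.Perm GolayPt) = z at h3
      rw [← h3]
      group
    rw [h4]
    exact (φ.symm ⟨g, hg22⟩).2.1.1

def conjAut (t : Equiv.Perm GolayPt) (h1 : ∀ g ∈ Spor.M22, t * g * t⁻¹ ∈ Spor.M22)
    (h2 : ∀ g ∈ Spor.M22, t⁻¹ * g * t ∈ Spor.M22) : MulAut Spor.M22 where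
  toFun g := ⟨t * g * t⁻¹, h1 g g.2⟩
  invFun g := ⟨t⁻¹ * g * t, h2 g g.2⟩
  left_inv g := by
    apply Subtype.ext
    simp [mul_assoc]
  right_inv g := by
    apply Subtype.ext
    simp [mul_assoc]
  map_mul' a b := by
    apply Subtype.ext
    simp [mul_assoc]

theorem exists_swap : ∃ t ∈ M24, t none = some 0 ∧ t (some 0) = none := by
  have h2t := isMultiplyPretransitive_le (m := 2) (by norm_num)
  let x : Fin 2 ↪ GolayPt := ⟨![none, some 0], by
    intro i j hij
    fin_cases i <;> fin_cases j <;> simp_all⟩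
  let y : Fin 2 ↪ GolayPt := ⟨![some 0, none], by
    intro i j hij
    fin_cases i <;> fin_cases j <;> simp_all⟩
  obtain ⟨⟨g, hg⟩, hgx⟩ := h2t.exists_smul_eq x y
  have e0 : g none = some 0 := congrArg (fun f : Fin 2 ↪ GolayPt => f 0) hgx
  have e1 : g (some 0) = none := congrArg (fun f : Fin 2 ↪ GolayPt => f 1) hgx
  exact ⟨g, hg, e0, e1⟩

theorem swap_conj {t : Equiv.Perm GolayPt} (ht : t ∈ M24) (h1 : t none = some 0)
    (h2 : t (some 0) = none) : ∀ g ∈ Spor.M22, t * g * t⁻¹ ∈ Spor.M22 := by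
  intro g hg
  have i1 : t⁻¹ none = some 0 := by rw [Equiv.Perm.inv_eq_iff_eq, h2]
  have i2 : t⁻¹ (some 0) = none := by rw [Equiv.Perm.inv_eq_iff_eq, h1]
  have g1 : g none = none := hg.1.2
  have g2 : g (some 0) = some 0 := hg.2
  refine ⟨⟨M24.mul_mem (M24.mul_mem ht hg.1.1) (M24.inv_mem ht), ?_⟩, ?_⟩
  · change (t * g * t⁻¹) none = none
    simp only [Equiv.Perm.mul_apply, i1, g2, h2]
  · change (t * g * t⁻¹) (some 0) = some 0
    simp only [Equiv.Perm.mul_apply, i2, g1, h1]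

theorem tau_conj {y : Equiv.Perm GolayPt} (h1 : y none = none) (h2 : y (some 0) = some 0) :
    tau * y * tau⁻¹ = y := by
  have h := Equiv.mul_swap_eq_swap_mul y none (some 0)
  rw [h1, h2] at h
  rw [← h]
  simp

theorem centralizer_trivial {c : Equiv.Perm GolayPt} (hc : c ∈ M24)
    (hcomm : ∀ g ∈ Spor.M22, c * g = g * c) (hc1 : c none = some 0) (hc2 : c (some 0) = none) :
    False := by
  have hfix : ∀ p : GolayPt, p ≠ none → p ≠ some 0 → c p = p := by
    intro p hp1 hp2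
    by_contra hne
    have hq1 : c p ≠ none := fun h => hp2 (c.injective (h.trans hc2.symm))
    have hq2 : c p ≠ some 0 := fun h => hp1 (c.injective (h.trans hc1.symm))
    obtain ⟨g, hg, e1, e2⟩ := fix4 hp1 hp2 hq1 hq2 (Ne.symm hne)
    apply e2
    have := congrArg (fun f : Equiv.Perm GolayPt => f p) (hcomm g hg)
    simp only [Equiv.Perm.mul_apply, e1] at this
    exact this.symm
  have hne1 : c ≠ 1 := by
    rintro rfl
    simp at hc1
  have h8 := card_fixF_le hc hne1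
  have hsub : (Finset.univ.erase none).erase (some 0) ⊆ fixF c := by
    intro p hp
    simp only [Finset.mem_erase] at hp
    exact mem_fixF.2 (hfix p hp.2.1 hp.1)
  have h9 := Finset.card_le_card hsub
  rw [Finset.card_erase_of_mem (Finset.mem_erase.2 ⟨by simp, Finset.mem_univ _⟩),
    Finset.card_erase_of_mem (Finset.mem_univ _), card_univ_GolayPt] at h9
  omega


/-- The outer automorphism group of the Mathieu group M₂₂ (the permutations in the automorphism group of the length-24 binary code that fix each of two given points) has order 2. -/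
theorem result : Nat.card (Cfsg.Out ↥Cfsg.Spor.M22) = 2 := by
  change (Cfsg.Inn Spor.M22).index = 2
  rw [Subgroup.index_eq_two_iff]
  obtain ⟨t, ht, ht1, ht2⟩ := exists_swap
  have i1 : t⁻¹ none = some 0 := by rw [Equiv.Perm.inv_eq_iff_eq, ht2]
  have i2 : t⁻¹ (some 0) = none := by rw [Equiv.Perm.inv_eq_iff_eq, ht1]
  have hc1 := swap_conj ht ht1 ht2
  have hc2 : ∀ g ∈ Spor.M22, t⁻¹ * g * t ∈ Spor.M22 := by
    intro g hg
    have := swap_conj (M24.inv_mem ht) i1 i2 g hg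
    rwa [inv_inv] at this
  have ha : conjAut t hc1 hc2 ∉ Cfsg.Inn Spor.M22 := by
    rintro ⟨⟨m, hm⟩, hma⟩
    apply centralizer_trivial (c := m⁻¹ * t) (M24.mul_mem (M24.inv_mem hm.1.1) ht)
    · intro g hg
      have h1 := congrArg (fun f : MulAut Spor.M22 => ((f ⟨g, hg⟩ : Spor.M22) : Equiv.Perm GolayPt))
        hma
      have h2 : m * g * m⁻¹ = t * g * t⁻¹ := h1
      have h3 : g = m⁻¹ * (t * g * t⁻¹) * m := by rw [← h2]; group
      calc m⁻¹ * t * g = m⁻¹ * (t * g * t⁻¹) * m * (m⁻¹ * t) := by group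
        _ = g * (m⁻¹ * t) := by rw [← h3]
    · have : m⁻¹ (some 0) = some 0 := by rw [Equiv.Perm.inv_eq_iff_eq]; exact hm.2.symm
      rw [Equiv.Perm.mul_apply, ht1, this]
    · have : m⁻¹ none = none := by rw [Equiv.Perm.inv_eq_iff_eq]; exact hm.1.2.symm
      rw [Equiv.Perm.mul_apply, ht2, this]
  refine ⟨conjAut t hc1 hc2, fun b => ?_⟩
  obtain ⟨σ, hn, h0, hconj⟩ := exists_sigma b
  rcases sigma_cases b hn h0 hconj with hσ | hσ
  · have hb : b ∈ Cfsg.Inn Spor.M22 := by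
      refine ⟨⟨σ, ⟨hσ, hn⟩, h0⟩, ?_⟩
      ext1 g
      apply Subtype.ext
      rw [MulAut.conj_apply]
      exact hconj g
    exact Or.inr ⟨hb, fun hba => ha ((Subgroup.mul_mem_cancel_left _ hb).1 hba)⟩
  · have hba : b * conjAut t hc1 hc2 ∈ Cfsg.Inn Spor.M22 := by
      have hmem : tau * σ * t ∈ Spor.M22 := by
        refine ⟨⟨M24.mul_mem hσ ht, ?_⟩, ?_⟩
        · change (tau * σ * t) none = none
          simp only [Equiv.Perm.mul_apply, ht1, h0, Equiv.swap_apply_right]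
        · change (tau * σ * t) (some 0) = some 0
          simp only [Equiv.Perm.mul_apply, ht2, hn, Equiv.swap_apply_left]
      refine ⟨⟨tau * σ * t, hmem⟩, ?_⟩
      ext1 g
      apply Subtype.ext
      rw [MulAut.conj_apply, MulAut.mul_apply, ← hconj]
      have hy := (b (conjAut t hc1 hc2 g)).2
      rw [← hconj] at hy
      have h5 := tau_conj hy.1.2 hy.2
      rw [← h5]
      change tau * σ * t * (g : Equiv.Perm GolayPt) * (tau * σ * t)⁻¹
        = tau * (σ * (t * (g : Equiv.Perm GolayPt) * t⁻¹) * σ⁻¹) * tau⁻¹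
      group
    exact Or.inl ⟨hba, fun hb => ha ((Subgroup.mul_mem_cancel_left _ hb).1 hba)⟩

end Cfsg.Agent.S2062
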