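import Cfsg.Statements.S2063
import Cfsg.Agent.Lib.Helper9Out23

set_option autoImplicit false
open Cfsg

namespace Cfsg.Agent.S2063


open Cfsg.Agent.Lib.Helper9Golay Cfsg.Agent.Lib.Helper9M24
open Cfsg.Agent.Lib.Helper9M24Order Cfsg.Agent.Lib.Helper9M24Trans Cfsg.Agent.Lib.Helper9M12
open Cfsg.Agent.Lib.Helper9Out Cfsg.Agent.Lib.Helper9Out23

theorem card_stab {p : GolayPt} (hp : p ≠ none) :
    Nat.card (MulAction.stabilizer Spor.M23 p) = 443520 := by
  rw [card_stabilizer_subgroup, card_M23_stab hp]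

theorem fix3 {p q : GolayPt} (hp : p ≠ none) (hq : q ≠ none) (hpq : p ≠ q) :
    ∃ g ∈ M24, g none = none ∧ g p = p ∧ g q ≠ q := by
  obtain ⟨r, hr1, hr2, hr3⟩ : ∃ r : GolayPt, r ≠ none ∧ r ≠ p ∧ r ≠ q := by
    by_contra hcon
    push Not at hcon
    have : (Finset.univ : Finset GolayPt) ⊆ {none, p, q} := by
      intro r _
      simp only [Finset.mem_insert, Finset.mem_singleton]
      by_cases h1 : r = none
      · exact Or.inl h1
      · by_cases h2 : r = p
        · exact Or.inr (Or.inl h2)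
        · exact Or.inr (Or.inr (hcon r h1 h2))
    have h2 := Finset.card_le_card this
    rw [card_univ_GolayPt] at h2
    have h3 : ({none, p, q} : Finset GolayPt).card ≤ 3 := Finset.card_le_three
    omega
  have h3t := isMultiplyPretransitive_le (m := 3) (by norm_num)
  let x : Fin 3 ↪ GolayPt := ⟨![none, p, q], by
    intro i j hij
    fin_cases i <;> fin_cases j <;> simp_all [Ne.symm hp, Ne.symm hq]⟩
  let y : Fin 3 ↪ GolayPt := ⟨![none, p, r], by
    intro i j hij
    fin_cases i <;> fin_cases j <;> simp_all [Ne.symm hp, Ne.symm hr1, Ne.symm hr2]⟩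
  obtain ⟨⟨g, hg⟩, hgx⟩ := h3t.exists_smul_eq x y
  have e0 : g none = none := congrArg (fun f : Fin 3 ↪ GolayPt => f 0) hgx
  have e1 : g p = p := congrArg (fun f : Fin 3 ↪ GolayPt => f 1) hgx
  have e2 : g q = r := congrArg (fun f : Fin 3 ↪ GolayPt => f 2) hgx
  exact ⟨g, hg, e0, e1, by rw [e2]; exact hr3⟩

theorem stab_inj {p q : GolayPt} (hp : p ≠ none) (hq : q ≠ none)
    (h : MulAction.stabilizer Spor.M23 p = MulAction.stabilizer Spor.M23 q) : p = q := by
  by_contra hpq
  obtain ⟨g, hg, e0, e1, e2⟩ := fix3 hp hq hpq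
  have h1 : (⟨g, hg, e0⟩ : Spor.M23) ∈ MulAction.stabilizer Spor.M23 p := e1
  rw [h] at h1
  exact e2 h1

theorem index23 (H : Subgroup Spor.M23) (hH : Nat.card H = 443520) :
    ∃ p ∈ {p : GolayPt | p ≠ none}, H = MulAction.stabilizer Spor.M23 p := by
  obtain ⟨p, hpn, hp⟩ := idx23 (H.map Spor.M23.subtype) (by
      rintro _ ⟨g, _, rfl⟩; exact g.2)
    (by rw [Subgroup.card_map_of_injective Spor.M23.subtype_injective, hH])
  refine ⟨p, hpn, ?_⟩
  have hfin : Finite (MulAction.stabilizer Spor.M23 p) :=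
    Nat.finite_of_card_ne_zero (by rw [card_stab hpn]; norm_num)
  apply Subgroup.eq_of_le_of_card_ge
  · intro g hg
    exact hp g ⟨g, hg, rfl⟩
  · rw [card_stab hpn, hH]

theorem inner (φ : MulAut Spor.M23) : φ ∈ Cfsg.Inn Spor.M23 := by
  obtain ⟨σ, hσn, hσ⟩ := exists_perm_of_aut (G := Spor.M23) (Ω := GolayPt) {p : GolayPt | p ≠ none}
    443520 (fun p hp => card_stab hp) index23 (fun p hp q hq h => stab_inj hp hq h)
    (fun g p hp => by
      intro hh
      apply hp
      apply (g : Equiv.Perm GolayPt).injective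
      exact Eq.trans hh g.2.2.symm)
    (fun g p hp => by
      have : p = none := by
        by_contra h
        exact hp h
      rw [this]
      exact g.2.2) φ
  have hconj : ∀ g : Spor.M23,
      σ * (g : Equiv.Perm GolayPt) * σ⁻¹ = (φ g : Equiv.Perm GolayPt) := by
    intro g
    ext1 p
    have := hσ g (σ⁻¹ p)
    simp only [Equiv.Perm.mul_apply]
    have h2 : σ (σ⁻¹ p) = p := by simp
    rw [h2] at this
    exact this
  have hσM : σ ∈ M24 := mem_M24_of_normalizes_M23 (fun g hg => by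
    rw [hconj ⟨g, hg⟩]; exact (φ ⟨g, hg⟩).2.1)
  have hσ23 : σ ∈ Spor.M23 := ⟨hσM, hσn none (fun h => h rfl)⟩
  refine ⟨⟨σ, hσ23⟩, ?_⟩
  ext1 g
  apply Subtype.ext
  rw [MulAut.conj_apply]
  exact hconj g


/-- The outer automorphism group of the Mathieu group M₂₃ (the stabiliser of a point in the automorphism group of the length-24 binary code) is trivial: every automorphism is inner. -/
theorem result : Nat.card (Cfsg.Out ↥Cfsg.Spor.M23) = 1 := by
  have h : Cfsg.Inn Spor.M23 = ⊤ := by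
    rw [eq_top_iff]
    intro φ _
    exact inner φ
  change (Cfsg.Inn Spor.M23).index = 1
  rw [h, Subgroup.index_top]

end Cfsg.Agent.S2063
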