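import Cfsg.Statements.S2064
import Cfsg.Agent.Lib.Helper9Out

set_option autoImplicit false
open Cfsg

namespace Cfsg.Agent.S2064

open Cfsg.Agent.Lib.Helper9Golay Cfsg.Agent.Lib.Helper9M24
open Cfsg.Agent.Lib.Helper9M24Order Cfsg.Agent.Lib.Helper9M24Trans
open Cfsg.Agent.Lib.Helper9Idx24 Cfsg.Agent.Lib.Helper9Out

theorem stab_inj {p q : GolayPt} (h : MulAction.stabilizer M24 p = MulAction.stabilizer M24 q) :
    p = q := by
  by_contra hpq
  have h1 := card_stabilizer2 hpq
  rw [h, inf_idem, card_stabilizer] at h1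
  omega

theorem index24 (H : Subgroup M24) (hH : Nat.card H = 10200960) :
    ∃ p ∈ (Set.univ : Set GolayPt), H = MulAction.stabilizer M24 p := by
  obtain ⟨p, hp⟩ := A3 (H.map M24.subtype) (by
      rintro _ ⟨g, _, rfl⟩; exact g.2)
    (by rw [Subgroup.card_map_of_injective M24.subtype_injective, hH])
  refine ⟨p, Set.mem_univ _, ?_⟩
  have hfin : Finite (MulAction.stabilizer M24 p) :=
    Nat.finite_of_card_ne_zero (by rw [card_stabilizer]; norm_num)
  apply Subgroup.eq_of_le_of_card_ge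
  · intro g hg
    exact hp g ⟨g, hg, rfl⟩
  · rw [card_stabilizer, hH]

theorem inner (φ : MulAut M24) : φ ∈ Cfsg.Inn M24 := by
  obtain ⟨σ, _, hσ⟩ := exists_perm_of_aut (G := M24) (Ω := GolayPt) Set.univ 10200960
    (fun p _ => card_stabilizer p) index24 (fun p _ q _ h => stab_inj h)
    (fun _ _ _ => Set.mem_univ _) (fun _ p hp => absurd (Set.mem_univ p) hp) φ
  have hconj : ∀ g : M24, σ * (g : Equiv.Perm GolayPt) * σ⁻¹ = (φ g : Equiv.Perm GolayPt) := by
    intro g
    ext1 p
    have := hσ g (σ⁻¹ p)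
    simp only [Equiv.Perm.mul_apply]
    have h2 : σ (σ⁻¹ p) = p := by simp
    rw [h2] at this
    exact this
  have hσM : σ ∈ M24 := mem_M24_of_normalizes (fun g hg => by
    rw [hconj ⟨g, hg⟩]; exact (φ ⟨g, hg⟩).2)
  refine ⟨⟨σ, hσM⟩, ?_⟩
  ext1 g
  apply Subtype.ext
  rw [MulAut.conj_apply]
  exact hconj g


/-- The outer automorphism group of the Mathieu group M₂₄ (the automorphism group of the length-24 binary code) is trivial: every automorphism is inner. -/
theorem result : Nat.card (Cfsg.Out ↥Cfsg.M24) = 1 := by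
  have h : Cfsg.Inn M24 = ⊤ := by
    rw [eq_top_iff]
    intro φ _
    exact inner φ
  change (Cfsg.Inn M24).index = 1
  rw [h, Subgroup.index_top]

end Cfsg.Agent.S2064
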