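import Cfsg.Statements.S2065
import Mathlib
import Cfsg.Agent.Lib.Helper47J1Inv

set_option autoImplicit false
open Cfsg

namespace Cfsg.Agent.S2065



section aux
open Cfsg.Spor Cfsg.Agent.Helper64J1 Cfsg.Agent.Lib.Helper47J1Inv

theorem EE_sub (e : GL7) (he : e ∈ EE) : e = 1 ∨ e ∈ SS := by
  have h := cE_tab
  simp only [Bool.and_eq_true, allLt_iff, Nat.beq_eq, Nat.blt_eq, Bool.or_eq_true] at h
  obtain ⟨h0, h⟩ := h
  obtain ⟨i, hi⟩ := exists_eq_of_mem_closure {evW wE1, evW wE2, evW wE3}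
    (fun i : Fin 8 => toMat (cE i.val)) 0 (by
      show toMat (cE 0) = 1
      rw [h0, toMat_cOne]) (by
      rintro s (rfl | rfl | rfl) i
      · obtain ⟨⟨⟨⟨⟨⟨h1, -⟩, -⟩, h4⟩, -⟩, -⟩, -⟩ := h i.val i.isLt
        exact ⟨⟨_, h4⟩, by rw [rep_evW wE1, ← toMat_mulC, h1]⟩
      · obtain ⟨⟨⟨⟨⟨⟨-, h1⟩, -⟩, -⟩, h4⟩, -⟩, -⟩ := h i.val i.isLt
        exact ⟨⟨_, h4⟩, by rw [rep_evW wE2, ← toMat_mulC, h1]⟩
      · obtain ⟨⟨⟨⟨⟨-, h1⟩, -⟩, -⟩, h4⟩, -⟩ := h i.val i.isLt
        exact ⟨⟨_, h4⟩, by rw [rep_evW wE3, ← toMat_mulC, h1]⟩) e he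
  rcases (h i.val i.isLt).2 with h1 | ⟨h1, h2⟩
  · left
    apply Units.ext
    rw [hi, h1, h0, toMat_cOne]; rfl
  · right
    exact ⟨_, h1, by rw [← h2]; exact hi⟩

theorem finJ : Finite J1 := Nat.finite_of_card_ne_zero (by rw [card_J1]; norm_num)

theorem fact2 : (Nat.card J1).factorization 2 = 3 := by
  rw [card_J1]
  exact factorization_eq_of_dvd Nat.prime_two (by norm_num) (by norm_num) (by norm_num)

theorem fact7 : (Nat.card J1).factorization 7 = 1 := by
  rw [card_J1]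
  exact factorization_eq_of_dvd (by norm_num) (by norm_num) (by norm_num) (by norm_num)

theorem invol_mem (u : J1) (hu : orderOf u = 2) : (u : GL7) ∈ SS := by
  have := finJ
  have hfact : Fact (Nat.Prime 2) := ⟨Nat.prime_two⟩
  let E : Subgroup J1 := EE.subgroupOf J1
  have hEp : IsPGroup 2 E := by
    intro x
    refine ⟨1, ?_⟩
    have := EE_sq x.1.1 (Subgroup.mem_subgroupOf.mp x.2)
    exact Subtype.ext (Subtype.ext (by simpa using this))
  obtain ⟨P, hP⟩ := hEp.exists_le_sylow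
  have hPE : E = (P : Subgroup J1) :=
    Subgroup.eq_of_le_of_card_ge hP (by
      rw [Sylow.card_eq_multiplicity, fact2,
        Nat.card_congr (Subgroup.subgroupOfEquivOfLe EE_le).toEquiv]
      exact card_EE_ge)
  have hgp : IsPGroup 2 (Subgroup.zpowers u) := by
    rw [IsPGroup.iff_card]
    exact ⟨1, by rw [Nat.card_zpowers, hu, pow_one]⟩
  obtain ⟨Q, hQ⟩ := hgp.exists_le_sylow
  obtain ⟨x, hx⟩ := MulAction.exists_smul_eq J1 Q P
  have h1 : x * u * x⁻¹ ∈ (P : Subgroup J1) := by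
    rw [← hx]
    exact Subgroup.smul_mem_pointwise_smul u (MulAut.conj x) (Q : Subgroup J1)
      (hQ (Subgroup.mem_zpowers u))
  rw [← hPE] at h1
  have h2 : ((x * u * x⁻¹ : J1) : GL7) ∈ EE := Subgroup.mem_subgroupOf.mp h1
  rcases EE_sub _ h2 with h3 | h3
  · exfalso
    have h4 : x * u * x⁻¹ = 1 := Subtype.ext h3
    have h5 : u = 1 := by
      have : u = x⁻¹ * (x * u * x⁻¹) * x := by group
      rw [this, h4]; group
    rw [h5, orderOf_one] at hu
    omega
  · have h4 := conj_mem ((x⁻¹ : J1) : GL7) (x⁻¹).2 _ h3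
    have h5 : ((x⁻¹ : J1) : GL7) * ((x * u * x⁻¹ : J1) : GL7) * ((x⁻¹ : J1) : GL7)⁻¹ = (u : GL7) := by
      push_cast
      group
    rw [h5] at h4
    exact h4

def wYY : List Bool := [false, false, true, false, true, false, false, true, false, true, false, false, true, false, false, true, false, false, true, false, false, false]

def xJ : J1 := evJ [false]
def yJ : J1 := evJ [true]
def aJ : J1 := evJ wA
def bJ : J1 := evJ wB7

theorem repx : Rep (xJ : GL7) cX := (rep_evW [false]).cast (by decide +kernel)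
theorem repy : Rep (yJ : GL7) cY := (rep_evW [true]).cast (by decide +kernel)
theorem repa : Rep (aJ : GL7) (evC wA) := rep_evW wA
theorem repb : Rep (bJ : GL7) (evC wB7) := rep_evW wB7

theorem orderOf_xJ : orderOf xJ = 7 := by
  rw [xJ, orderOf_evJ]; exact orderOf_A7

theorem orderOf_aJ : orderOf aJ = 2 := by
  rw [aJ, orderOf_evJ]; exact orderOf_evW (by norm_num) (by decide +kernel)

set_option maxRecDepth 100000 in
theorem rel_a : (aJ * xJ * (aJ * xJ ^ 3)) ^ 2 = 1 := by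
  apply Subtype.ext
  exact (((repa.mul repx).mul (repa.mul (repx.pow 3))).pow 2).ext (Rep.one.cast (by decide +kernel))

theorem xJ_inv_pow (k : ℕ) (hk : k ≤ 7) : (xJ ^ k)⁻¹ = xJ ^ (7 - k) := by
  rw [inv_eq_iff_mul_eq_one, ← pow_add, Nat.add_sub_cancel' hk]
  have := pow_orderOf_eq_one xJ
  rwa [orderOf_xJ] at this

theorem fix_a (β : MulAut J1) (hX : β xJ = xJ) : ∃ k : ℕ, β aJ = xJ ^ k * aJ * (xJ ^ k)⁻¹ := by
  have hu : orderOf (β aJ) = 2 := by rw [MulEquiv.orderOf_eq, orderOf_aJ]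
  obtain ⟨i, hi, hr⟩ := invol_mem _ hu
  have h1 : (β aJ * xJ * (β aJ * xJ ^ 3)) ^ 2 = 1 := by
    have := congrArg β rel_a
    simpa [hX] using this
  have h2 := relAll
  rw [allLt_iff] at h2
  have h3 := h2 i hi
  simp only [relOK, Bool.or_eq_true, anyLt_iff, Nat.beq_eq] at h3
  rcases h3 with h3 | ⟨k, hk, h3⟩
  · exfalso
    have h4 : Rep (((β aJ * xJ * (β aJ * xJ ^ 3)) ^ 2 : J1) : GL7)
        (powC (mulC (mulC (Lc i) cX) (mulC (Lc i) (powC cX 3))) 2) :=
      ((hr.mul repx).mul (hr.mul (repx.pow 3))).pow 2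
    exact Rep.ne h4 Rep.one h3 (by rw [h1]; rfl)
  · refine ⟨k, ?_⟩
    rw [xJ_inv_pow k (by omega)]
    apply Subtype.ext
    exact (hr.cast h3).ext (((repx.pow k).mul repa).mul (repx.pow (7 - k)))

set_option maxRecDepth 100000 in
theorem conj_b : bJ * xJ * bJ⁻¹ = xJ ^ 3 := by
  rw [mul_inv_eq_iff_eq_mul]
  apply Subtype.ext
  exact (repb.mul repx).ext (((repx.pow 3).mul repb).cast (by decide +kernel))

theorem conj_b_pow (j n : ℕ) : bJ ^ j * xJ ^ n * (bJ ^ j)⁻¹ = xJ ^ (n * 3 ^ j) := by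
  induction j generalizing n with
  | zero => simp
  | succ j ih =>
    have e : bJ ^ (j + 1) * xJ ^ n * (bJ ^ (j + 1))⁻¹ = bJ * (bJ ^ j * xJ ^ n * (bJ ^ j)⁻¹) * bJ⁻¹ := by
      rw [pow_succ']; group
    rw [e, ih, ← conj_pow, conj_b, ← pow_mul]
    congr 1
    ring

theorem norm_x (h : J1) (hh : orderOf h = 7) : ∃ g : J1, g * h * g⁻¹ = xJ := by
  have := finJ
  have hfact : Fact (Nat.Prime 7) := ⟨by norm_num⟩
  obtain ⟨x, hx⟩ := exists_conj_zpowers_eq 7 fact7 xJ h orderOf_xJ hh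
  have h1 : x * h * x⁻¹ ∈ Subgroup.zpowers xJ := by rw [← hx]; exact Subgroup.mem_zpowers _
  rw [← mem_powers_iff_mem_zpowers] at h1
  obtain ⟨n, hn⟩ := h1
  have hn' : xJ ^ n = x * h * x⁻¹ := hn
  have hn7 : n % 7 ≠ 0 := by
    intro h0
    have h2 : xJ ^ n = 1 := by
      rw [← orderOf_dvd_iff_pow_eq_one, orderOf_xJ]; exact Nat.dvd_of_mod_eq_zero h0
    rw [hn'] at h2
    have h3 : orderOf (x * h * x⁻¹) = 7 := by rw [orderOf_conj_eq, hh]
    rw [h2, orderOf_one] at h3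
    omega
  have hj : ∃ j : ℕ, (n * 3 ^ j) % 7 = 1 := by
    have h7 : n % 7 < 7 := Nat.mod_lt _ (by norm_num)
    have hcase : n % 7 = 1 ∨ n % 7 = 2 ∨ n % 7 = 3 ∨ n % 7 = 4 ∨ n % 7 = 5 ∨ n % 7 = 6 := by omega
    rcases hcase with h | h | h | h | h | h
    · exact ⟨0, by rw [Nat.mul_mod, h]; norm_num⟩
    · exact ⟨4, by rw [Nat.mul_mod, h]; norm_num⟩
    · exact ⟨5, by rw [Nat.mul_mod, h]; norm_num⟩
    · exact ⟨2, by rw [Nat.mul_mod, h]; norm_num⟩
    · exact ⟨1, by rw [Nat.mul_mod, h]; norm_num⟩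
    · exact ⟨3, by rw [Nat.mul_mod, h]; norm_num⟩
  obtain ⟨j, hj⟩ := hj
  refine ⟨bJ ^ j * x, ?_⟩
  have e : bJ ^ j * x * h * (bJ ^ j * x)⁻¹ = bJ ^ j * (x * h * x⁻¹) * (bJ ^ j)⁻¹ := by group
  rw [e, ← hn', conj_b_pow, ← pow_mod_orderOf, orderOf_xJ, hj, pow_one]

/-- words in `x` and `a`. -/
def ev2 : List Bool → J1
  | [] => 1
  | b :: l => (if b then aJ else xJ) * ev2 l

def evC2 : List Bool → ℕ
  | [] => cOne
  | b :: l => mulC (if b then evC wA else cX) (evC2 l)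

theorem rep_ev2 (w : List Bool) : Rep (ev2 w : GL7) (evC2 w) := by
  induction w with
  | nil => exact Rep.one
  | cons b l ih =>
    cases b
    · exact repx.mul ih
    · exact repa.mul ih

theorem ev2_mem (w : List Bool) : ev2 w ∈ Subgroup.closure ({aJ, xJ} : Set J1) := by
  induction w with
  | nil => exact Subgroup.one_mem _
  | cons b l ih =>
    refine Subgroup.mul_mem _ ?_ ih
    cases b
    · exact Subgroup.subset_closure (by simp)
    · exact Subgroup.subset_closure (by simp)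

set_option maxRecDepth 100000 in
theorem yJ_mem : yJ ∈ Subgroup.closure ({aJ, xJ} : Set J1) := by
  have : yJ = ev2 wYY := Subtype.ext (repy.ext ((rep_ev2 wYY).cast (by decide +kernel)))
  rw [this]; exact ev2_mem _

theorem closure_top : Subgroup.closure ({aJ, xJ} : Set J1) = ⊤ := by
  rw [eq_top_iff]
  have h := Subgroup.closure_closure_coe_preimage (k := ({jankoX, jankoY} : Set GL7))
  have h' : Subgroup.closure (((↑) : J1 → GL7) ⁻¹' ({jankoX, jankoY} : Set GL7)) = ⊤ := h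
  rw [← h', Subgroup.closure_le]
  rintro g (hg | hg)
  · have : g = xJ := Subtype.ext (by rw [hg]; simp [xJ, evJ, evW])
    rw [this]; exact Subgroup.subset_closure (by simp)
  · have : g = yJ := Subtype.ext (by
      have hg' : (g : GL7) = jankoY := hg
      rw [hg']; simp [yJ, evJ, evW])
    rw [this]; exact yJ_mem

theorem inner (α : MulAut J1) : α ∈ Cfsg.Inn J1 := by
  obtain ⟨g, hg⟩ := norm_x (α xJ) (by rw [MulEquiv.orderOf_eq, orderOf_xJ])
  obtain ⟨k, hk⟩ := fix_a (MulAut.conj g * α) (by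
    rw [MulAut.mul_apply, MulAut.conj_apply, hg])
  have h1 : MulAut.conj (xJ ^ k)⁻¹ * (MulAut.conj g * α) = 1 := by
    have h2 : (MulAut.conj (xJ ^ k)⁻¹ * (MulAut.conj g * α)).toMonoidHom = MonoidHom.id J1 := by
      apply MonoidHom.eq_of_eqOn_dense closure_top
      rintro z (rfl | rfl)
      · show (MulAut.conj (xJ ^ k)⁻¹ * (MulAut.conj g * α)) aJ = aJ
        rw [MulAut.mul_apply, hk, MulAut.conj_apply]
        group
      · show (MulAut.conj (xJ ^ k)⁻¹ * (MulAut.conj g * α)) xJ = xJ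
        rw [MulAut.mul_apply, MulAut.mul_apply, MulAut.conj_apply g, hg, MulAut.conj_apply]
        group
    apply MulEquiv.ext
    intro z
    exact DFunLike.congr_fun h2 z
  have h3 : α = MulAut.conj (g⁻¹ * xJ ^ k) := by
    have h4 : MulAut.conj ((xJ ^ k)⁻¹ * g) * α = 1 := by
      rw [map_mul, mul_assoc]; exact h1
    have h5 : α = (MulAut.conj ((xJ ^ k)⁻¹ * g))⁻¹ := eq_inv_of_mul_eq_one_right h4
    rw [h5, ← map_inv, mul_inv_rev, inv_inv]
  rw [h3]
  exact ⟨_, rfl⟩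

end aux

/-- The outer automorphism group of the Janko group J₁ (the group generated by two explicit 7 × 7 matrices over the integers modulo 11) is trivial: every automorphism is inner. -/
theorem result : Nat.card (Cfsg.Out ↥Cfsg.Spor.J1) = 1 := by
  show (Cfsg.Inn ↥Cfsg.Spor.J1).index = 1
  rw [Subgroup.index_eq_one, eq_top_iff]
  intro α _
  exact inner α

end Cfsg.Agent.S2065
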