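import Cfsg.Statements.S2070
import Cfsg.Agent.Lib.Helper33LO2F

set_option autoImplicit false
open Cfsg
open Cfsg.Agent.Lib.Helper33LFrame Cfsg.Agent.Lib.Helper33LCo0
open Cfsg.Agent.Lib.Helper33LGood Cfsg.Agent.Lib.Helper33LO2D Cfsg.Agent.Lib.Helper33LCo2Thy

namespace Cfsg.Agent.S2070

theorem normU : sqNorm ((Spor.leechU : leechLattice) : GolayPt → ℤ) = 32 := by
  show sqNorm Spor.vecU = 32
  unfold sqNorm Spor.vecU
  decide

theorem sub_eq : (Spor.Co2).subgroupOf Co0 = fixG [Spor.leechU] := by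
  ext k
  rw [Subgroup.mem_subgroupOf, mem_fixG]
  unfold Spor.Co2
  rw [Subgroup.mem_inf, MulAction.mem_stabilizer_iff]
  simp only [Fixes, List.mem_cons, List.not_mem_nil, or_false, forall_eq]
  constructor
  · intro h; exact h.2
  · intro h; exact ⟨k.2, h⟩

/-- The outer automorphism group of the Conway group Co₂ (the stabiliser of a minimal vector of the rank-24 lattice) is trivial: every automorphism is inner. -/
theorem result : Nat.card (Cfsg.Out ↥Cfsg.Spor.Co2) = 1 := by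
  obtain ⟨g, hg⟩ := Cfsg.Agent.Lib.Helper33LMinTrans.min_trans Spor.leechU (DL v2c) normU (by
    rw [DL_coe (code_ok v2c_ok).2.1]; simpa using (code_ok v2c_ok).2.2)
  have hg' : mv g [Spor.leechU] = [v2c].map DL := by
    simp [mv, hg]
  have e1 : ↥(fixG [Spor.leechU]) ≃* ↥Spor.Co2 :=
    (MulEquiv.subgroupCongr sub_eq.symm).trans
      (Subgroup.subgroupOfEquivOfLe (show Spor.Co2 ≤ Co0 from inf_le_left))
  have e2 : ↥(fixG [Spor.leechU]) ≃* ↥(fixG ([v2c].map DL)) :=
    (conjEquiv g [Spor.leechU]).trans (MulEquiv.subgroupCongr (congrArg fixG hg'))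
  exact Cfsg.Agent.Lib.Helper33OutA.card_out_eq_one
    (Cfsg.Agent.Lib.Helper33OutA.inn_of_equiv (e2.symm.trans e1)
      Cfsg.Agent.Lib.Helper33LO2F.all_inner)

end Cfsg.Agent.S2070
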