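import Cfsg.Statements.S2071
import Cfsg.Agent.Lib.Helper33LO3F

set_option autoImplicit false
open Cfsg
open Cfsg.Agent.Lib.Helper33LFrame Cfsg.Agent.Lib.Helper33LMcL Cfsg.Agent.Lib.Helper33LCo0
open Cfsg.Agent.Lib.Helper33LGood Cfsg.Agent.Lib.Helper33LBase

namespace Cfsg.Agent.S2071

theorem normV : sqNorm ((Spor.leechV : leechLattice) : GolayPt → ℤ) = 48 := by
  show sqNorm Spor.vecV = 48
  unfold sqNorm Spor.vecV
  decide

theorem sub_eq : (Spor.Co3).subgroupOf Co0 = fixG [Spor.leechV] := by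
  ext k
  rw [Subgroup.mem_subgroupOf, mem_fixG]
  unfold Spor.Co3
  rw [Subgroup.mem_inf, MulAction.mem_stabilizer_iff]
  simp only [Fixes, List.mem_cons, List.not_mem_nil, or_false, forall_eq]
  constructor
  · intro h; exact h.2
  · intro h; exact ⟨k.2, h⟩

/-- The outer automorphism group of the Conway group Co₃ (the stabiliser of a vector of the second shortest length in the rank-24 lattice) is trivial: every automorphism is inner. -/
theorem result : Nat.card (Cfsg.Out ↥Cfsg.Spor.Co3) = 1 := by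
  obtain ⟨g, hg⟩ := mvU Spor.leechV normV
  have e1 : ↥(fixG [Spor.leechV]) ≃* ↥Spor.Co3 :=
    (MulEquiv.subgroupCongr sub_eq.symm).trans
      (Subgroup.subgroupOfEquivOfLe (show Spor.Co3 ≤ Co0 from inf_le_left))
  have e2 : ↥(fixG [Spor.leechV]) ≃* ↥(fixG [DL u0c]) :=
    (conjEquiv g [Spor.leechV]).trans (MulEquiv.subgroupCongr (congrArg fixG hg))
  exact Cfsg.Agent.Lib.Helper33OutA.card_out_eq_one
    (Cfsg.Agent.Lib.Helper33OutA.inn_of_equiv (e2.symm.trans e1)
      Cfsg.Agent.Lib.Helper33LO3F.all_inner)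

end Cfsg.Agent.S2071
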