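import Cfsg.Statements.S2073
import Cfsg.Agent.Lib.Helper33LOMF
import Cfsg.Agent.Lib.Helper64J2OutA

set_option autoImplicit false
open Cfsg
open Cfsg.Agent.Lib.Helper33LFrame Cfsg.Agent.Lib.Helper33LMcL Cfsg.Agent.Lib.Helper33LCo0
open Cfsg.Agent.Lib.Helper33LGood Cfsg.Agent.Lib.Helper33LBase Cfsg.Agent.Lib.Helper33LCo2

namespace Cfsg.Agent.S2073

theorem normV : sqNorm ((-Spor.leechV : leechLattice) : GolayPt → ℤ) = 48 := by
  show sqNorm (-Spor.vecV) = 48
  unfold sqNorm Spor.vecV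
  decide

theorem memU : Spor.leechU ∈ C [-Spor.leechV] [24] := by
  refine ⟨?_, ?_⟩
  · show sqNorm Spor.vecU = 32
    unfold sqNorm Spor.vecU
    decide
  · show [dotInt (-Spor.vecV) Spor.vecU] = [24]
    unfold dotInt Spor.vecU Spor.vecV
    decide

theorem sub_eq : (Spor.McL).subgroupOf Co0 = fixG [-Spor.leechV, Spor.leechU] := by
  ext k
  rw [Subgroup.mem_subgroupOf, mem_fixG]
  unfold Spor.McL Spor.Co3
  rw [Subgroup.mem_inf, Subgroup.mem_inf, MulAction.mem_stabilizer_iff,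
    MulAction.mem_stabilizer_iff]
  simp only [Fixes, List.mem_cons, List.not_mem_nil, or_false, forall_eq_or_imp, forall_eq]
  rw [smul_neg', neg_inj]
  constructor
  · intro h; exact ⟨h.1.2, h.2⟩
  · intro h; exact ⟨⟨k.2, h.1⟩, h.2⟩

/-- The outer automorphism group of the McLaughlin group (as a two-vector stabiliser in the automorphism group of the rank-24 lattice) has order 2. -/
theorem result : Nat.card (Cfsg.Out ↥Cfsg.Spor.McL) = 2 := by
  obtain ⟨g, hg⟩ := mvUV (-Spor.leechV) Spor.leechU normV memU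
  have e1 : ↥(fixG [-Spor.leechV, Spor.leechU]) ≃* ↥Spor.McL :=
    (MulEquiv.subgroupCongr sub_eq.symm).trans
      (Subgroup.subgroupOfEquivOfLe (show Spor.McL ≤ Co0 from inf_le_left.trans inf_le_left))
  have e2 : ↥(fixG [-Spor.leechV, Spor.leechU]) ≃* ↥(fixG ([u0c, v0c].map DL)) :=
    (conjEquiv g [-Spor.leechV, Spor.leechU]).trans (MulEquiv.subgroupCongr (congrArg fixG hg))
  rw [Cfsg.Agent.Helper64J2.card_out_congr (e1.symm.trans e2)]
  exact Cfsg.Agent.Lib.Helper33LOMF.card_out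

end Cfsg.Agent.S2073
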