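import Cfsg.Statements.S2401
import Cfsg.Agent.Lib.Helper43R1Defs
import Cfsg.Agent.Lib.Helper43StHubF
import Cfsg.Agent.Lib.Helper10BPSlgen
import Cfsg.Agent.Lib.Helper36StSWire

set_option autoImplicit false
open Cfsg

namespace Cfsg.Agent.S2401

open Cfsg.Agent.Lib.Helper43R1 Cfsg.Agent.Lib.Helper43St

theorem main {K : Type*} [Field K] [Finite K] (n : ℕ) (hn : 3 ≤ n) :
    ∃ e : StG n K ≃* Matrix.SpecialLinearGroup (Fin n) K,
      ∀ (a : Ix n) (t : K), ((e (PresentedGroup.of (a, t)) : Matrix (Fin n) (Fin n) K))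
        = Matrix.transvection a.1.1 a.1.2 t := by
  obtain ⟨S, hS⟩ := Cfsg.Agent.Lib.Helper36StSWire.st_sys n hn K
  have hinj : Function.Injective S.π := Cfsg.Agent.Lib.Helper43StHubF.injective S hn
  have hsurj : Function.Surjective S.π := by
    rw [← MonoidHom.range_eq_top, eq_top_iff, ← Cfsg.Agent.Lib.Helper10BPSlgen.sl_gen (by omega) K,
      Subgroup.closure_le]
    rintro _ ⟨i, j, t, hij, rfl⟩
    exact ⟨S.x i j t, S.hπ i j t hij⟩
  have hbij : Function.Bijective S.π := ⟨hinj, hsurj⟩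
  refine ⟨MulEquiv.ofBijective S.π hbij, fun a t => ?_⟩
  have e1 : MulEquiv.ofBijective S.π hbij (PresentedGroup.of (a, t)) = tv a.1.1 a.1.2 t := by
    rw [MulEquiv.ofBijective_apply, ← hS a t, S.hπ _ _ _ a.2]
  rw [e1, tv_val _ _ a.2]
  rfl

/-- The Steinberg presentation of `SL_n` over a finite field for `n ≥ 3`: the group generated by symbols `x_ij(t)` (`i ≠ j`, `t` in the field) subject to `x_ij(t) x_ij(u) = x_ij(t + u)` and, for `i ≠ l`, `x_ij(t) x_kl(u) x_ij(t)⁻¹ x_kl(u)⁻¹ = x_il(tu)` if `j = k` and `= 1` if `j ≠ k`, is isomorphic to `SL_n` by an isomorphism sending `x_ij(t)` to the elementary matrix `1 + t E_ij`. -/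
theorem result {K : Type*} [Field K] [Finite K] (n : ℕ) (hn : 3 ≤ n) :
    ∃ e : PresentedGroup
        ({g : FreeGroup ({ij : Fin n × Fin n // ij.1 ≠ ij.2} × K) | ∃ (a : {ij : Fin n × Fin n // ij.1 ≠ ij.2}) (t u : K),
            g = FreeGroup.of (a, t) * FreeGroup.of (a, u) * (FreeGroup.of (a, t + u))⁻¹} ∪
          {g | ∃ (a b : {ij : Fin n × Fin n // ij.1 ≠ ij.2}) (t u : K), a.1.1 ≠ b.1.2 ∧ a.1.2 ≠ b.1.1 ∧
            g = FreeGroup.of (a, t) * FreeGroup.of (b, u) * (FreeGroup.of (a, t))⁻¹ * (FreeGroup.of (b, u))⁻¹} ∪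
          {g | ∃ (a b : {ij : Fin n × Fin n // ij.1 ≠ ij.2}) (h : a.1.1 ≠ b.1.2) (t u : K), a.1.2 = b.1.1 ∧
            g = FreeGroup.of (a, t) * FreeGroup.of (b, u) * (FreeGroup.of (a, t))⁻¹ * (FreeGroup.of (b, u))⁻¹ *
              (FreeGroup.of (⟨(a.1.1, b.1.2), h⟩, t * u))⁻¹}) ≃* Matrix.SpecialLinearGroup (Fin n) K,
      ∀ (a : {ij : Fin n × Fin n // ij.1 ≠ ij.2}) (t : K), ((e (PresentedGroup.of (a, t)) : Matrix (Fin n) (Fin n) K)) = Matrix.transvection a.1.1 a.1.2 t :=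
  main n hn

end Cfsg.Agent.S2401
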