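import Cfsg.Statements.S2086
import Cfsg.Agent.Lib.H25SMMAIN
import Cfsg.Agent.Lib.H25SMCEN
import Cfsg.Agent.Lib.H25SMQUOT
import Cfsg.Agent.S2117
import Cfsg.Agent.S2401
import Cfsg.Agent.S2540

set_option autoImplicit false
open Cfsg

namespace Cfsg.Agent.S2086

/-- Schur multipliers of the linear groups: for n ≥ 2 and a field F with q elements (q ≥ 4 when n = 2), apart from the five exceptional pairs (n, q) = (2, 4), (2, 9), (3, 2), (3, 4), (4, 2), the Schur multiplier of PSL_n(F) is cyclic of order gcd(n, q − 1); here the Schur multiplier is described through stem extensions, as in the definitions. -/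
theorem result {F : Type*} [Field F] [Fintype F] {q : ℕ} (hF : Fintype.card F = q) (n : ℕ) (hn : 2 ≤ n) (h2 : n = 2 → 4 ≤ q) (hexc : (n, q) ∉ ({(2, 4), (2, 9), (3, 2), (3, 4), (4, 2)} : Set (ℕ × ℕ))) : Cfsg.HasCyclicSchurMultiplier (Matrix.ProjectiveSpecialLinearGroup (Fin n) F) (Nat.gcd n (q - 1)) := by
  classical
  subst hF
  simp only [Set.mem_insert_iff, Set.mem_singleton_iff, Prod.mk.injEq, not_or, not_and] at hexc
  obtain ⟨h24, h29, h32, h34, h42⟩ := hexc
  have hex : ¬ (n = 2 ∧ Fintype.card F ≤ 3) := by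
    rintro ⟨rfl, h⟩
    have := h2 rfl
    omega
  have hstem := Cfsg.Agent.Lib.H25SMCEN.psl_stem (K := F) n hn hex
  have hperf : commutator (Matrix.SpecialLinearGroup (Fin n) F) = ⊤ :=
    Cfsg.Agent.S2540.commutator_eq_top_of_card hn hex
  have htriv : Cfsg.HasCyclicSchurMultiplier (Matrix.SpecialLinearGroup (Fin n) F) 1 := by
    rcases Nat.lt_or_ge n 3 with h3 | h3
    · obtain rfl : n = 2 := by omega
      exact Cfsg.Agent.S2117.result (h24 rfl) (h29 rfl)
    · refine Cfsg.Agent.Lib.H25SMMAIN.sl_trivial n h3 (Cfsg.Agent.S2401.result n h3) ?_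
      simp only [Set.mem_insert_iff, Set.mem_singleton_iff, Prod.mk.injEq, not_or, not_and]
      exact ⟨h32, h34, h42⟩
  obtain ⟨e⟩ := Cfsg.Agent.Lib.H25SMCEN.ker_equiv (K := F) n (by omega)
  exact Cfsg.Agent.Lib.H25SMQUOT.hasSchur_of_cover _ hstem hperf htriv e
end Cfsg.Agent.S2086
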