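import Cfsg.Statements.S2087
import Cfsg.Agent.Lib.Helper69Syl
import Cfsg.Agent.Lib.Helper29DihF
import Cfsg.Agent.Lib.Helper6DkMin2
import Cfsg.Agent.Lib.Helper7SL
import Cfsg.Agent.S0249
import Cfsg.Agent.S0243
import Cfsg.Agent.S0495
import Cfsg.Agent.S3965

set_option autoImplicit false
open Cfsg

namespace Cfsg.Agent.S2087

open Cfsg.Agent.Lib.Helper69Syl Matrix

variable {F : Type*} [Field F]

def ta : SpecialLinearGroup (Fin 3) F := ⟨!![1, 1, 0; 0, 1, 0; 0, 0, 1], by simp [Matrix.det_fin_three]⟩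
def tb : SpecialLinearGroup (Fin 3) F := ⟨!![1, 0, 0; 0, 1, 1; 0, 0, 1], by simp [Matrix.det_fin_three]⟩
def tc : SpecialLinearGroup (Fin 3) F := ⟨!![1, 0, 1; 0, 1, 0; 0, 0, 1], by simp [Matrix.det_fin_three]⟩

theorem ta_sq (h2 : (1 + 1 : F) = 0) : (ta : SpecialLinearGroup (Fin 3) F) * ta = 1 := by
  apply Subtype.ext
  change (!![1, 1, 0; 0, 1, 0; 0, 0, 1] : Matrix (Fin 3) (Fin 3) F) * !![1, 1, 0; 0, 1, 0; 0, 0, 1] = 1
  ext i j
  fin_cases i <;> fin_cases j <;> simp [Matrix.mul_apply, Fin.sum_univ_three, h2]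

theorem tb_sq (h2 : (1 + 1 : F) = 0) : (tb : SpecialLinearGroup (Fin 3) F) * tb = 1 := by
  apply Subtype.ext
  change (!![1, 0, 0; 0, 1, 1; 0, 0, 1] : Matrix (Fin 3) (Fin 3) F) * !![1, 0, 0; 0, 1, 1; 0, 0, 1] = 1
  ext i j
  fin_cases i <;> fin_cases j <;> simp [Matrix.mul_apply, Fin.sum_univ_three, h2]

theorem tc_sq (h2 : (1 + 1 : F) = 0) : (tc : SpecialLinearGroup (Fin 3) F) * tc = 1 := by
  apply Subtype.ext
  change (!![1, 0, 1; 0, 1, 0; 0, 0, 1] : Matrix (Fin 3) (Fin 3) F) * !![1, 0, 1; 0, 1, 0; 0, 0, 1] = 1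
  ext i j
  fin_cases i <;> fin_cases j <;> simp [Matrix.mul_apply, Fin.sum_univ_three, h2]

theorem tab_sq (h2 : (1 + 1 : F) = 0) :
    ((ta : SpecialLinearGroup (Fin 3) F) * tb) * (ta * tb) = tc := by
  apply Subtype.ext
  change ((!![1, 1, 0; 0, 1, 0; 0, 0, 1] : Matrix (Fin 3) (Fin 3) F) * !![1, 0, 0; 0, 1, 1; 0, 0, 1]) *
    ((!![1, 1, 0; 0, 1, 0; 0, 0, 1] : Matrix (Fin 3) (Fin 3) F) * !![1, 0, 0; 0, 1, 1; 0, 0, 1]) =
      !![1, 0, 1; 0, 1, 0; 0, 0, 1]
  ext i j
  fin_cases i <;> fin_cases j <;> simp [Matrix.mul_apply, Fin.sum_univ_three, h2]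

theorem tc_not_mem : (tc : SpecialLinearGroup (Fin 3) F) ∉ Subgroup.center (SpecialLinearGroup (Fin 3) F) := by
  intro h
  rw [Matrix.SpecialLinearGroup.mem_center_iff] at h
  obtain ⟨r, -, hr⟩ := h
  have := congrFun (congrFun hr 0) 2
  simp [tc] at this

theorem exists_D8 (h2 : (1 + 1 : F) = 0) :
    ∃ U : Subgroup (ProjectiveSpecialLinearGroup (Fin 3) F), Nonempty (U ≃* DihedralGroup 4) := by
  let a : ProjectiveSpecialLinearGroup (Fin 3) F := QuotientGroup.mk ta
  let b : ProjectiveSpecialLinearGroup (Fin 3) F := QuotientGroup.mk tb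
  have ha : a * a = 1 := by
    change QuotientGroup.mk (ta * ta) = _
    rw [ta_sq h2]; rfl
  have hb : b * b = 1 := by
    change QuotientGroup.mk (tb * tb) = _
    rw [tb_sq h2]; rfl
  have hab : (a * b) * (a * b) = QuotientGroup.mk tc := by
    change QuotientGroup.mk ((ta * tb) * (ta * tb)) = _
    rw [tab_sq h2]
  have hc : (QuotientGroup.mk tc : ProjectiveSpecialLinearGroup (Fin 3) F) * QuotientGroup.mk tc = 1 := by
    change QuotientGroup.mk (tc * tc) = _
    rw [tc_sq h2]; rfl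
  have ho : orderOf (a * b) = 4 := by
    have := orderOf_eq_prime_pow (x := a * b) (p := 2) (n := 1) ?_ ?_
    · simpa using this
    · rw [pow_one, pow_two, hab]
      intro h
      exact tc_not_mem ((QuotientGroup.eq_one_iff _).1 h)
    · have : (a * b) ^ 2 ^ (1 + 1) = ((a * b) * (a * b)) * ((a * b) * (a * b)) := by
        norm_num [pow_succ, mul_assoc]
      rw [this, hab, hc]
  have hai : a⁻¹ = a := inv_eq_of_mul_eq_one_left ha
  have hbi : b⁻¹ = b := inv_eq_of_mul_eq_one_left hb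
  have hrel : a * (a * b) * a⁻¹ = (a * b)⁻¹ := by
    rw [_root_.mul_inv_rev, hai, hbi, ← mul_assoc, ha, one_mul]
  obtain ⟨e, -⟩ := Cfsg.Agent.Lib.Helper29DihF.exists_equiv (q := 4) (by norm_num) _ (a * b) a ho ha hrel rfl
  exact ⟨_, ⟨e⟩⟩

theorem card_G [Fintype F] (hF : Fintype.card F = 2) :
    Nat.card (ProjectiveSpecialLinearGroup (Fin 3) F) = 168 := by
  have h := Cfsg.Agent.S0243.result (F := F) (q := 2) hF 3 (by norm_num)
  rw [Fin.prod_univ_three] at h
  have h1 : Nat.gcd 3 (2 - 1) = 1 := by decide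
  have h2 : (2 ^ 3 - 2 ^ ((0 : Fin 3) : ℕ)) * (2 ^ 3 - 2 ^ ((1 : Fin 3) : ℕ)) *
      (2 ^ 3 - 2 ^ ((2 : Fin 3) : ℕ)) = 168 := by decide
  rw [h1, h2] at h
  omega

/-- a number dividing a power bound at every prime -/
theorem dvd_two_of {n : ℕ} (hn : n ≠ 0) (h4 : ¬ 2 ^ 2 ∣ n) (hodd : ∀ p : ℕ, p.Prime → p ≠ 2 → ¬ p ∣ n) :
    n ∣ 2 := by
  rw [← Nat.factorization_le_iff_dvd hn (by norm_num)]
  intro p
  by_cases hp : p.Prime
  · by_cases h2 : p = 2
    · subst h2
      rw [Nat.Prime.factorization_self Nat.prime_two]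
      by_contra hlt
      exact h4 ((pow_dvd_pow 2 (by omega)).trans (Nat.ordProj_dvd _ _))
    · rw [Nat.factorization_eq_zero_of_not_dvd (hodd p hp h2)]
      exact Nat.zero_le _
  · rw [Nat.factorization_eq_zero_of_not_prime _ hp]
    exact Nat.zero_le _

/-- Exceptional Schur multiplier: over the field with 2 elements, PSL₃ has Schur multiplier cyclic of order 2 (here the Schur multiplier is described through stem extensions, as in the definitions). -/
theorem result {F : Type*} [Field F] [Fintype F] (hF : Fintype.card F = 2) : Cfsg.HasCyclicSchurMultiplier (Matrix.ProjectiveSpecialLinearGroup (Fin 3) F) 2 := by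
  have hcard := card_G hF
  have hfin : Finite (ProjectiveSpecialLinearGroup (Fin 3) F) := Nat.finite_of_card_ne_zero (by omega)
  have hsimple : IsSimpleGroup (ProjectiveSpecialLinearGroup (Fin 3) F) := Cfsg.Agent.S0249.result 3 le_rfl
  have h2 : (1 + 1 : F) = 0 := by
    have h3 : ((Fintype.card F : ℕ) : F) = 0 := Nat.cast_card_eq_zero F
    rw [hF] at h3
    rw [one_add_one_eq_two]
    exact_mod_cast h3
  obtain ⟨A, _, hfA, hA⟩ := exists_mult (ProjectiveSpecialLinearGroup (Fin 3) F)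
  refine hasCyclic_of_card_prime hA Nat.prime_two ?_
  apply Nat.dvd_antisymm
  · -- upper bound
    apply dvd_two_of Nat.card_pos.ne'
    · intro h4
      obtain ⟨U, ⟨e⟩⟩ := exists_D8 h2
      have hU : Nat.card U = 8 := by
        rw [Nat.card_congr e.toEquiv, DihedralGroup.nat_card]
      have hidx : U.index = 21 := by
        have := U.card_mul_index
        rw [hU, hcard] at this
        omega
      have hB : HasSchurMultiplier U (Multiplicative (ZMod 2)) :=
        hasSchurMultiplier_of_mulEquiv e.symm (Cfsg.Agent.S3965.result 4 (by decide))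
      have := pow_dvd_of_index U hA hB Nat.prime_two (by rw [hidx]; decide) h4
      have h5 : Nat.card (Multiplicative (ZMod 2)) = 2 := by
        rw [Nat.card_eq_fintype_card, Fintype.card_multiplicative, ZMod.card]
      rw [h5] at this
      revert this
      decide
    · intro p hp hp2
      apply not_dvd_of_not_sq_dvd hA hp
      rw [hcard]
      intro hd
      have h6 : p ^ 2 ∣ 2 ^ 3 * 21 := by simpa using hd
      have hcop : Nat.Coprime (p ^ 2) (2 ^ 3) :=
        Nat.Coprime.pow _ _ ((Nat.coprime_primes hp Nat.prime_two).2 hp2)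
      have h7 : p ^ 2 ∣ 21 := hcop.dvd_of_dvd_mul_left h6
      have h8 : p ^ 2 ≤ 21 := Nat.le_of_dvd (by norm_num) h7
      have h9 : p ≤ 4 := by nlinarith
      have h10 := hp.two_le
      interval_cases p
      · exact hp2 rfl
      · revert h7; decide
      · revert h7; decide
  · -- lower bound
    have : Fact (Nat.Prime 7) := ⟨by norm_num⟩
    obtain ⟨e⟩ := Cfsg.Agent.S0495.result (G := ProjectiveSpecialLinearGroup (Fin 3) F) hcard
      (F := ZMod 7) (ZMod.card 7)
    let ξ : SpecialLinearGroup (Fin 2) (ZMod 7) →* ProjectiveSpecialLinearGroup (Fin 3) F :=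
      e.symm.toMonoidHom.comp (QuotientGroup.mk' (Subgroup.center (SpecialLinearGroup (Fin 2) (ZMod 7))))
    have hker : ξ.ker = Subgroup.center (SpecialLinearGroup (Fin 2) (ZMod 7)) := by
      ext y
      simp [ξ]
    have hperf : Group.IsPerfect (SpecialLinearGroup (Fin 2) (ZMod 7)) :=
      Cfsg.Agent.Lib.Helper6DkCor.perfect_SL2 (by rw [ZMod.card]; norm_num)
    have := card_ker_dvd hA ξ (e.symm.surjective.comp (QuotientGroup.mk'_surjective _))
      (by rw [hker]) (by rw [hperf.commutator_eq_top]; exact le_top)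
    rwa [hker, Cfsg.Agent.Lib.Helper7SL.card_center_SL_two (by rw [ZMod.card]; decide)] at this

end Cfsg.Agent.S2087
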