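import Cfsg.Statements.S2093
import Cfsg.Agent.Lib.Helper10Spin
import Cfsg.Agent.Lib.Helper10MSp6P2
import Cfsg.Agent.Lib.Helper10MSp6P3
import Cfsg.Agent.Lib.Helper10Sp6Rho
import Cfsg.Agent.Lib.Helper10Sp6Iso
import Cfsg.Agent.Lib.Helper10Sp6Univ
import Cfsg.Agent.Lib.Helper10Sp6Inj
import Cfsg.Agent.Lib.Helper63PCFin
import Cfsg.Agent.S0269
import Cfsg.Agent.S0270

set_option autoImplicit false
open Cfsg

namespace Cfsg.Agent.S2093

open Cfsg.Agent.Lib.Helper63PCDefs Cfsg.Agent.Lib.Helper17PCMult Cfsg.Agent.Lib.Helper63PCFin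
  Cfsg.Agent.Lib.Helper10Sp6Defs

theorem cases_of_dvd (p : ℕ) (hp : p.Prime) (h : p ∣ 1451520) :
    p = 2 ∨ p = 3 ∨ p = 5 ∨ p = 7 := by
  have := mem_of_prime_dvd hp [2, 2, 2, 2, 2, 2, 2, 2, 2, 3, 3, 3, 3, 5, 7]
    (by intro q hq; simp only [List.mem_cons, List.not_mem_nil, or_false] at hq
        rcases hq with h | h | h | h | h | h | h | h | h | h | h | h | h | h | h <;>
          subst h <;> norm_num)
    1451520 (by norm_num) h
  simp only [List.mem_cons, List.not_mem_nil, or_false] at this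
  tauto

noncomputable def isoK : Sp6 ≃* ↥K64 :=
  MonoidHom.ofInjective Cfsg.Agent.Lib.Helper10Sp6Inj.nu_injective

theorem card_Sp6 : Nat.card Sp6 = 1451520 := by
  rw [Nat.card_congr isoK.toEquiv]
  exact Cfsg.Agent.Lib.Helper10Sp6Card.card_K64

theorem simple_Sp6 : IsSimpleGroup Sp6 := by
  obtain ⟨e⟩ := Cfsg.Agent.Lib.Helper10Sp6Iso.exists_iso (F := ZMod 2) (ZMod.card 2)
  exact (MulEquiv.isSimpleGroup_congr e).2 (Cfsg.Agent.S0270.result 3 (by norm_num) (by norm_num))

theorem stem : ∃ (Γ : Type) (_ : Group Γ) (_ : Finite Γ) (σ : Γ →* Sp6),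
    IsStemExtension σ ∧ Nat.card σ.ker = 2 := by
  obtain ⟨ρ, t, ht⟩ := Cfsg.Agent.Lib.Helper10Sp6Rho.exists_rho
  have hs := simple_Sp6
  have hinj : Function.Injective ρ := by
    rw [← MonoidHom.ker_eq_bot_iff]
    rcases hs.eq_bot_or_eq_top_of_normal ρ.ker inferInstance with h | h
    · exact h
    · exfalso
      have h1 : ρ t = 1 := by
        rw [← MonoidHom.mem_ker, h]
        exact Subgroup.mem_top t
      rw [h1, Equiv.Perm.cycleType_one] at ht
      exact absurd ht (by decide)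
  let e : Sp6 ≃* ↥ρ.range := MonoidHom.ofInjective hinj
  have hK : commutator ↥ρ.range = ⊤ := by
    have h0 : commutator Sp6 = ⊤ := Cfsg.Agent.S0269.result 3 (Or.inl le_rfl)
    have h1 := Subgroup.map_commutator (⊤ : Subgroup Sp6) ⊤ e.toMonoidHom
    have h2 : Subgroup.map e.toMonoidHom ⊤ = ⊤ :=
      Subgroup.map_top_of_surjective e.toMonoidHom e.surjective
    rw [h2, ← commutator_def, ← commutator_def, h0, h2] at h1
    exact h1.symm
  obtain ⟨Γ, i1, i2, σ, hσ, hc⟩ := Cfsg.Agent.Lib.Helper10Spin.stem_of_perm 27 ρ.range hK (ρ t)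
    ⟨t, rfl⟩ 6 ht (by decide)
  refine ⟨Γ, i1, i2, e.symm.toMonoidHom.comp σ, (stem_congr e.symm σ hσ).1, ?_⟩
  rw [(stem_congr e.symm σ hσ).2]
  exact hc

theorem mult_Sp6 : Cfsg.HasCyclicSchurMultiplier Sp6 2 := by
  have hfin : Finite Sp6 := by
    apply Nat.finite_of_card_ne_zero
    rw [card_Sp6]
    norm_num
  refine final 2 (by norm_num) stem (fun p hp h => ?_) (fun p hp h h2 => ?_)
  · rw [card_Sp6] at h
    rcases cases_of_dvd p hp (dvd_trans (dvd_pow_self p two_ne_zero) h) with r | r | r | r <;>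
      subst r
    · rw [Nat.Prime.factorization_self Nat.prime_two]
      exact localBound_congr isoK.symm 2 1 Cfsg.Agent.Lib.Helper10MSp6P2.lb
    · rw [Nat.factorization_eq_zero_of_not_dvd (by norm_num)]
      exact localBound_congr isoK.symm 3 0 Cfsg.Agent.Lib.Helper10MSp6P3.lb
    · norm_num at h
    · norm_num at h
  · rw [card_Sp6] at h
    have := (Nat.prime_dvd_prime_iff_eq hp Nat.prime_two).1 h2
    subst this
    norm_num at h

/-- Exceptional Schur multiplier: over the field with 2 elements, PSp₆ has Schur multiplier cyclic of order 2 (here the Schur multiplier is described through stem extensions, as in the definitions). -/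
theorem result {F : Type*} [Field F] [Fintype F] (hF : Fintype.card F = 2) : Cfsg.HasCyclicSchurMultiplier (Cfsg.PSp 3 F) 2 := by
  obtain ⟨e⟩ := Cfsg.Agent.Lib.Helper10Sp6Iso.exists_iso hF
  exact Cfsg.Agent.Lib.Helper10Sp6Univ.mult_univ e _ mult_Sp6

end Cfsg.Agent.S2093
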