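import Cfsg.Statements.S2095
import Cfsg.Agent.Lib.Helper47O73M2
import Cfsg.Agent.Lib.Helper47O73P2
import Cfsg.Agent.Lib.Helper47O73P3
import Cfsg.Agent.Lib.Helper47StemD
import Cfsg.Agent.Lib.Helper35O73Iso
import Cfsg.Agent.Lib.Helper63PCFin

set_option autoImplicit false
open Cfsg

namespace Cfsg.Agent.S2095



open Cfsg.Agent.Lib.Helper63PCDefs Cfsg.Agent.Lib.Helper17PCMult Cfsg.Agent.Lib.Helper63PCFin
  Cfsg.Agent.Lib.Helper47O73PM Cfsg.Agent.Lib.Helper35O73a

theorem cases_of_dvd (p : ℕ) (hp : p.Prime) (h : p ∣ 4585351680) :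
    p = 2 ∨ p = 3 ∨ p = 5 ∨ p = 7 ∨ p = 13 := by
  have := mem_of_prime_dvd hp [2, 2, 2, 2, 2, 2, 2, 2, 2, 3, 3, 3, 3, 3, 3, 3, 3, 3, 5, 7, 13]
    (by intro q hq; simp only [List.mem_cons, List.not_mem_nil, or_false] at hq
        rcases hq with h | h | h | h | h | h | h | h | h | h | h | h | h | h | h | h | h | h | h | h |
          h <;> subst h <;> norm_num)
    4585351680 (by norm_num) h
  simp only [List.mem_cons, List.not_mem_nil, or_false] at this
  tauto

theorem stem : ∃ (Γ : Type) (_ : Group Γ) (_ : Finite Γ) (σ : Γ →* K.Grp),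
    Cfsg.IsStemExtension σ ∧ Nat.card σ.ker = 6 := by
  obtain ⟨Γ, i1, i2, σ, hσ, ⟨e⟩⟩ := Cfsg.Agent.Lib.Helper47O73M2.exists_cover
  have hc : Nat.card σ.ker = 6 := by
    rw [Nat.card_congr e.toEquiv, Nat.card_congr Multiplicative.toAdd, Nat.card_zmod]
  exact ⟨Γ, i1, i2, σ, hσ, hc⟩

theorem f2 : (6 : ℕ).factorization 2 = 1 := by
  rw [show (6 : ℕ) = 2 * 3 from rfl, Nat.factorization_mul (by norm_num) (by norm_num)]
  simp [Nat.Prime.factorization Nat.prime_two, Nat.Prime.factorization Nat.prime_three]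

theorem f3 : (6 : ℕ).factorization 3 = 1 := by
  rw [show (6 : ℕ) = 2 * 3 from rfl, Nat.factorization_mul (by norm_num) (by norm_num)]
  simp [Nat.Prime.factorization Nat.prime_two, Nat.Prime.factorization Nat.prime_three]

theorem multK : Cfsg.HasCyclicSchurMultiplier K.Grp 6 := by
  have hfin : Finite K.Grp := Cfsg.Agent.Lib.Helper35O73Fin.hub.1
  have hcard : Nat.card K.Grp = 4585351680 := cardO
  refine final 6 (by norm_num) stem (fun p hp h => ?_) (fun p hp h h2 => ?_)
  · rw [hcard] at h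
    rcases cases_of_dvd p hp (dvd_trans (dvd_pow_self p two_ne_zero) h) with
      r | r | r | r | r <;> subst r
    · rw [f2]
      exact localBound_congr iso.symm 2 1 Cfsg.Agent.Lib.Helper47O73P2.lb
    · rw [f3]
      exact localBound_congr iso.symm 3 1 Cfsg.Agent.Lib.Helper47O73P3.lb
    · norm_num at h
    · norm_num at h
    · norm_num at h
  · rw [hcard] at h
    have h6 : p ∣ 2 * 3 := h2
    rcases (Nat.Prime.dvd_mul hp).mp h6 with h3 | h3
    · have := (Nat.prime_dvd_prime_iff_eq hp Nat.prime_two).1 h3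
      subst this
      norm_num at h
    · have := (Nat.prime_dvd_prime_iff_eq hp Nat.prime_three).1 h3
      subst this
      norm_num at h

/-- Exceptional Schur multiplier: over the field with 3 elements, PΩ₇ (for the form x₀² + Σ xᵢyᵢ) has Schur multiplier cyclic of order 6 (the product of cyclic groups of orders 3 and 2; here the Schur multiplier is described through stem extensions, as in the definitions). -/
theorem result {F : Type*} [Field F] [Fintype F] (hF : Fintype.card F = 3) : Cfsg.HasCyclicSchurMultiplier (Cfsg.POmega F (Cfsg.quadFormOdd 3 F)) 6 := by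
  have hfin : Finite K.Grp := Cfsg.Agent.Lib.Helper35O73Fin.hub.1
  obtain ⟨e1⟩ := Cfsg.Agent.Lib.Helper35O73Iso.iso1
  haveI : Fact (Nat.Prime 3) := ⟨Nat.prime_three⟩
  let e : ZMod 3 ≃+* F := ZMod.ringEquivOfPrime F Nat.prime_three hF
  let e2 : Cfsg.POmega (ZMod 3) (Cfsg.quadFormOdd 3 (ZMod 3)) ≃* Cfsg.POmega F (Cfsg.quadFormOdd 3 F) :=
    Cfsg.Agent.Lib.Helper47StemD.pOmegaEquiv e _ _
      (Cfsg.Agent.Lib.Helper47StemD.quadFormOdd_map 3 e)
  exact Cfsg.Agent.Lib.Helper47StemD.transport (e1.trans e2) multK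

end Cfsg.Agent.S2095
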