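import Cfsg.Statements.S2113
import Cfsg.Agent.Lib.Helper8Ree37

set_option autoImplicit false
open Cfsg

namespace Cfsg.Agent.S2113

open Cfsg.Lie Cfsg.Agent.Lib.Helper8Ree5 Cfsg.Agent.Lib.Helper8Ree37

/-- Schur multipliers of the small Ree groups: for q = 3^(2m+1) with m ≥ 1 the Schur multiplier of ²G₂(q) is trivial (here the Schur multiplier is described through stem extensions, as in the definitions). -/
theorem result {K : Type*} [Field K] [Fintype K] {m : ℕ} (hm : 1 ≤ m) (hK : Fintype.card K = 3 ^ (2 * m + 1)) : Cfsg.HasCyclicSchurMultiplier ↥(Cfsg.Lie.twistedG2 K (3 ^ m)) 1 := by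
  have := charP_three hK
  have : Finite ↥(Cfsg.Lie.twistedG2 K (3 ^ m)) := inferInstance
  constructor
  · refine ⟨_, inferInstance, inferInstance, MonoidHom.id _, ⟨Function.surjective_id, ?_, ?_⟩, ⟨?_⟩⟩
    · rw [MonoidHom.ker_id]; exact bot_le
    · rw [MonoidHom.ker_id]; exact bot_le
    · rw [MonoidHom.ker_id]
      exact MulEquiv.ofUnique
  · intro Γ _ _ σ' hσ'
    have hbot : σ'.ker = ⊥ := ker_eq_bot hK hm σ' hσ'.1 hσ'.2.1 hσ'.2.2
    refine ⟨1, ?_⟩
    intro x
    refine ⟨1, ?_⟩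
    have hx : (x : Γ) ∈ (⊥ : Subgroup Γ) := hbot ▸ x.2
    apply Subtype.ext
    rw [Subgroup.mem_bot] at hx
    rw [hx]; rfl

end Cfsg.Agent.S2113
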