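import Cfsg.Statements.S2116
import Cfsg.Agent.Lib.Helper69Cliff
import Cfsg.Agent.Lib.Helper69TripleA7
import Cfsg.Agent.Lib.Helper29DihF
import Cfsg.Agent.S3965
import Cfsg.Agent.S3951

set_option autoImplicit false
open Cfsg

namespace Cfsg.Agent.S2116

open Cfsg.Agent.Lib.Helper69Syl

/-- a number dividing six -/
theorem dvd_six_of {n : ℕ} (hn : n ≠ 0) (h4 : ¬ 2 ^ 2 ∣ n) (h9 : ¬ 3 ^ 2 ∣ n)
    (hodd : ∀ p : ℕ, p.Prime → p ≠ 2 → p ≠ 3 → ¬ p ∣ n) : n ∣ 6 := by
  rw [← Nat.factorization_le_iff_dvd hn (by norm_num)]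
  intro p
  have h6 : (6 : ℕ).factorization = Finsupp.single 2 1 + Finsupp.single 3 1 := by
    rw [show (6 : ℕ) = 2 * 3 by norm_num, Nat.factorization_mul (by norm_num) (by norm_num),
      Nat.prime_two.factorization, Nat.prime_three.factorization]
  by_cases hp : p.Prime
  · by_cases h2 : p = 2
    · subst h2
      rw [h6]
      simp only [Finsupp.add_apply, Finsupp.single_apply]
      by_contra hlt
      exact h4 ((pow_dvd_pow 2 (by simp at hlt; omega)).trans (Nat.ordProj_dvd _ _))
    · by_cases h3 : p = 3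
      · subst h3
        rw [h6]
        simp only [Finsupp.add_apply, Finsupp.single_apply]
        by_contra hlt
        exact h9 ((pow_dvd_pow 3 (by simp at hlt; omega)).trans (Nat.ordProj_dvd _ _))
      · rw [Nat.factorization_eq_zero_of_not_dvd (hodd p hp h2 h3)]
        exact Nat.zero_le _
  · rw [Nat.factorization_eq_zero_of_not_prime _ hp]
    exact Nat.zero_le _

/-- an abelian group of order six is cyclic -/
theorem isCyclic_of_card_six {A : Type*} [CommGroup A] (h : Nat.card A = 6) : IsCyclic A := by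
  have hfin : Finite A := Nat.finite_of_card_ne_zero (by omega)
  have : Fact (Nat.Prime 2) := ⟨Nat.prime_two⟩
  have : Fact (Nat.Prime 3) := ⟨Nat.prime_three⟩
  obtain ⟨x, hx⟩ := exists_prime_orderOf_dvd_card' (G := A) 2 (by rw [h]; decide)
  obtain ⟨y, hy⟩ := exists_prime_orderOf_dvd_card' (G := A) 3 (by rw [h]; decide)
  have hxy : orderOf (x * y) = 6 := by
    rw [(Commute.all x y).orderOf_mul_eq_mul_orderOf_of_coprime (by rw [hx, hy]; decide), hx, hy]
  exact isCyclic_of_orderOf_eq_card (x * y) (by rw [hxy, h])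

/-- an elementary abelian subgroup of order nine -/
theorem exists_nine {G : Type*} [Group G] (a b : G)
    (hmul : ∀ i j k l : ZMod 3, a ^ (i + k).val * b ^ (j + l).val =
      (a ^ i.val * b ^ j.val) * (a ^ k.val * b ^ l.val))
    (hinj : ∀ i j : ZMod 3, a ^ i.val * b ^ j.val = 1 → i = 0 ∧ j = 0) :
    ∃ U : Subgroup G, Nonempty (Multiplicative (ZMod 3 × ZMod 3) ≃* U) := by
  let f : Multiplicative (ZMod 3 × ZMod 3) →* G :=
    MonoidHom.mk' (fun x => a ^ (Multiplicative.toAdd x).1.val * b ^ (Multiplicative.toAdd x).2.val)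
      (fun x y => hmul _ _ _ _)
  have hf : Function.Injective f := by
    rw [injective_iff_map_eq_one]
    intro x hx
    obtain ⟨h1, h2⟩ := hinj _ _ hx
    exact Multiplicative.toAdd.injective (Prod.ext h1 h2)
  exact ⟨f.range, ⟨MonoidHom.ofInjective hf⟩⟩

theorem exists_D8 {G : Type*} [Group G] (σ τ : G) (h2 : σ ^ 2 ≠ 1) (h4 : σ ^ 4 = 1) (hτ : τ * τ = 1)
    (hrel : τ * σ * τ⁻¹ = σ⁻¹) : ∃ U : Subgroup G, Nonempty (U ≃* DihedralGroup 4) := by
  have ho : orderOf σ = 4 := by
    have := orderOf_eq_prime_pow (x := σ) (p := 2) (n := 1) (by simpa using h2) (by simpa using h4)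
    simpa using this
  obtain ⟨e, -⟩ := Cfsg.Agent.Lib.Helper29DihF.exists_equiv (q := 4) (by norm_num) _ σ τ ho hτ hrel rfl
  exact ⟨_, ⟨e⟩⟩

theorem upper {G : Type*} [Group G] [Finite G] {A : Type*} [CommGroup A] [Finite A]
    (hA : HasSchurMultiplier G A) {r : ℕ} (hcard : Nat.card G = 2 ^ 3 * (3 ^ 2 * r))
    (hr2 : ¬ 2 ∣ r) (hr3 : ¬ 3 ∣ r) (hr : Squarefree r)
    (h8 : ∃ U : Subgroup G, Nonempty (U ≃* DihedralGroup 4))
    (h9 : ∃ U : Subgroup G, Nonempty (Multiplicative (ZMod 3 × ZMod 3) ≃* U)) :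
    Nat.card A ∣ 6 := by
  apply dvd_six_of Nat.card_pos.ne'
  · intro h4
    obtain ⟨U, ⟨e⟩⟩ := h8
    have hU : Nat.card U = 8 := by
      rw [Nat.card_congr e.toEquiv, DihedralGroup.nat_card]
    have hidx : U.index = 3 ^ 2 * r := by
      have := U.card_mul_index
      rw [hU, hcard] at this
      omega
    have hB : HasSchurMultiplier U (Multiplicative (ZMod 2)) :=
      hasSchurMultiplier_of_mulEquiv e.symm (Cfsg.Agent.S3965.result 4 (by decide))
    have := pow_dvd_of_index U hA hB Nat.prime_two (by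
      rw [hidx]
      intro hd
      rcases (Nat.Prime.dvd_mul Nat.prime_two).1 hd with h | h
      · revert h; decide
      · exact hr2 h) h4
    have h5 : Nat.card (Multiplicative (ZMod 2)) = 2 := by
      rw [Nat.card_eq_fintype_card, Fintype.card_multiplicative, ZMod.card]
    rw [h5] at this
    revert this
    decide
  · intro h4
    obtain ⟨U, ⟨e⟩⟩ := h9
    have hU : Nat.card U = 9 := by
      rw [← Nat.card_congr e.toEquiv, Nat.card_eq_fintype_card, Fintype.card_multiplicative,
        Fintype.card_prod, ZMod.card]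
    have hidx : U.index = 2 ^ 3 * r := by
      have := U.card_mul_index
      rw [hU, hcard] at this
      omega
    have hB : HasSchurMultiplier U (Multiplicative (ZMod 3)) :=
      hasSchurMultiplier_of_mulEquiv e (Cfsg.Agent.S3951.result 3 3 dvd_rfl)
    have := pow_dvd_of_index U hA hB Nat.prime_three (by
      rw [hidx]
      intro hd
      rcases (Nat.Prime.dvd_mul Nat.prime_three).1 hd with h | h
      · revert h; decide
      · exact hr3 h) h4
    have h5 : Nat.card (Multiplicative (ZMod 3)) = 3 := by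
      rw [Nat.card_eq_fintype_card, Fintype.card_multiplicative, ZMod.card]
    rw [h5] at this
    revert this
    decide
  · intro p hp hp2 hp3
    apply not_dvd_of_not_sq_dvd hA hp
    rw [hcard]
    intro hd
    have hcop : Nat.Coprime (p ^ 2) (2 ^ 3) :=
      Nat.Coprime.pow _ _ ((Nat.coprime_primes hp Nat.prime_two).2 hp2)
    have h7 : p ^ 2 ∣ 3 ^ 2 * r := hcop.dvd_of_dvd_mul_left hd
    have hcop3 : Nat.Coprime (p ^ 2) (3 ^ 2) :=
      Nat.Coprime.pow _ _ ((Nat.coprime_primes hp Nat.prime_three).2 hp3)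
    have h8 : p ^ 2 ∣ r := hcop3.dvd_of_dvd_mul_left h7
    rw [pow_two] at h8
    exact hp.one_lt.ne' (Nat.isUnit_iff.1 (hr p h8))

theorem data6 : (∃ U : Subgroup (alternatingGroup (Fin 6)), Nonempty (U ≃* DihedralGroup 4)) ∧
    ∃ U : Subgroup (alternatingGroup (Fin 6)), Nonempty (Multiplicative (ZMod 3 × ZMod 3) ≃* U) := by
  constructor
  · exact exists_D8 (⟨c[0, 1, 2, 3] * c[4, 5], Equiv.Perm.mem_alternatingGroup.2 (by decide)⟩ : alternatingGroup (Fin 6))
      ⟨c[0, 2] * c[4, 5], Equiv.Perm.mem_alternatingGroup.2 (by decide)⟩ (by decide) (by decide) (by decide) (by decide)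
  · exact exists_nine (⟨c[0, 1, 2], Equiv.Perm.mem_alternatingGroup.2 (by decide)⟩ : alternatingGroup (Fin 6))
      ⟨c[3, 4, 5], Equiv.Perm.mem_alternatingGroup.2 (by decide)⟩ (by decide +kernel) (by decide +kernel)

theorem data7 : (∃ U : Subgroup (alternatingGroup (Fin 7)), Nonempty (U ≃* DihedralGroup 4)) ∧
    ∃ U : Subgroup (alternatingGroup (Fin 7)), Nonempty (Multiplicative (ZMod 3 × ZMod 3) ≃* U) := by
  constructor
  · exact exists_D8 (⟨c[0, 1, 2, 3] * c[4, 5], Equiv.Perm.mem_alternatingGroup.2 (by decide)⟩ : alternatingGroup (Fin 7))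
      ⟨c[0, 2] * c[4, 5], Equiv.Perm.mem_alternatingGroup.2 (by decide)⟩ (by decide) (by decide) (by decide) (by decide)
  · exact exists_nine (⟨c[0, 1, 2], Equiv.Perm.mem_alternatingGroup.2 (by decide)⟩ : alternatingGroup (Fin 7))
      ⟨c[3, 4, 5], Equiv.Perm.mem_alternatingGroup.2 (by decide)⟩ (by decide +kernel) (by decide +kernel)

/-- Exceptional Schur multipliers of the alternating groups: for n = 6 and n = 7 the Schur multiplier of the alternating group of degree n is cyclic of order 6 (here the Schur multiplier is described through stem extensions, as in the definitions). -/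
theorem result (n : ℕ) (hn : n = 6 ∨ n = 7) : Cfsg.HasCyclicSchurMultiplier (alternatingGroup (Fin n)) 6 := by
  obtain ⟨A, _, hfA, hA⟩ := exists_mult (alternatingGroup (Fin n))
  have h2 : 2 ∣ Nat.card A := Cfsg.Agent.Lib.Helper69Cliff.two_dvd n (by omega) hA
  have h3 : 3 ∣ Nat.card A := Cfsg.Agent.Lib.Helper69TripleA7.three_dvd n (by omega) (by omega) hA
  have h6 : 6 ∣ Nat.card A :=
    Nat.Coprime.mul_dvd_of_dvd_of_dvd (by decide : Nat.Coprime 2 3) h2 h3
  have hup : Nat.card A ∣ 6 := by
    rcases hn with rfl | rfl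
    · exact upper hA (r := 5) (by rw [nat_card_alternatingGroup]; simp; decide) (by decide) (by decide)
        (Nat.prime_five.squarefree) data6.1 data6.2
    · exact upper hA (r := 35) (by rw [nat_card_alternatingGroup]; simp; decide) (by decide) (by decide)
        (by
          rw [show (35 : ℕ) = 5 * 7 by norm_num, Nat.squarefree_mul (by decide)]
          exact ⟨Nat.prime_five.squarefree, (by norm_num : Nat.Prime 7).squarefree⟩)
        data7.1 data7.2
  have hcard : Nat.card A = 6 := Nat.dvd_antisymm hup h6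
  have := isCyclic_of_card_six hcard
  exact hasCyclic_of_card hA hcard

end Cfsg.Agent.S2116
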