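import Cfsg.Statements.S2118
import Cfsg.Agent.Lib.Helper69TripleA7
import Cfsg.Agent.S2117
import Cfsg.Agent.S0254
import Cfsg.Agent.S3951

set_option autoImplicit false
open Cfsg

namespace Cfsg.Agent.S2118

open Cfsg.Agent.Lib.Helper69Syl Matrix
open scoped commutatorElement

/-- pulling back a central extension with a commutator of order three -/
theorem dvd_of_pullback {G Q Y : Type*} [Group G] [Finite G] [Group Q] [Group Y] (π : G →* Q)
    (hπ : Function.Surjective π) (hπ2 : ∀ g ∈ π.ker, g ^ 2 = 1) (ξ : Y →* Q)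
    (hξ : Function.Surjective ξ) (hc : ξ.ker ≤ Subgroup.center Y) (a b : Y)
    (hab : ⁅a, b⁆ ∈ ξ.ker) (ho : orderOf ⁅a, b⁆ = 3) {A : Type*} [CommGroup A]
    (hA : HasSchurMultiplier G A) : 3 ∣ Nat.card A := by
  let P : Subgroup (G × Y) :=
    (π.comp (MonoidHom.fst G Y)).eqLocus (ξ.comp (MonoidHom.snd G Y))
  have hP : ∀ x : G × Y, x ∈ P ↔ π x.1 = ξ x.2 := fun x => Iff.rfl
  let pr : P →* G := (MonoidHom.fst G Y).comp P.subtype
  have hpr : Function.Surjective pr := by
    intro g
    obtain ⟨y, hy⟩ := hξ (π g)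
    exact ⟨⟨(g, y), hy.symm⟩, rfl⟩
  have hcen : pr.ker ≤ Subgroup.center P := by
    rintro ⟨⟨g, y⟩, hgy⟩ hk
    have hg : g = 1 := hk
    subst hg
    have hy : y ∈ ξ.ker := by
      have := (hP _).1 hgy
      rw [MonoidHom.mem_ker]
      simpa using this.symm
    have hyc := Subgroup.mem_center_iff.1 (hc hy)
    rw [Subgroup.mem_center_iff]
    rintro ⟨⟨g', y'⟩, hgy'⟩
    apply Subtype.ext
    exact Prod.ext (by simp) (hyc y')
  obtain ⟨ga, hga⟩ := hπ (ξ a)
  obtain ⟨gb, hgb⟩ := hπ (ξ b)
  let pa : P := ⟨(ga, a), hga⟩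
  let pb : P := ⟨(gb, b), hgb⟩
  have hw1 : ((⁅pa, pb⁆ ^ 2 : P) : G × Y) = (1, ⁅a, b⁆ ^ 2) := by
    have h1 : ⁅ga, gb⁆ ∈ π.ker := by
      rw [MonoidHom.mem_ker, map_commutatorElement, hga, hgb, ← map_commutatorElement]
      exact hab
    have h2 := hπ2 _ h1
    exact Prod.ext h2 rfl
  have hmem : (⁅pa, pb⁆ ^ 2 : P) ∈ pr.ker ⊓ commutator P := by
    refine ⟨?_, Subgroup.pow_mem _
      (Subgroup.commutator_mem_commutator (Subgroup.mem_top _) (Subgroup.mem_top _)) 2⟩
    exact MonoidHom.mem_ker.2 (congrArg Prod.fst hw1)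
  obtain ⟨f, hf⟩ := Cfsg.Agent.Lib.Helper69Schur.exists_surj_of_hasSchurMultiplier hA pr hpr hcen
  have h5 : orderOf (⟨_, hmem⟩ : ↥(pr.ker ⊓ commutator P)) = 3 := by
    rw [Subgroup.orderOf_mk, ← Subgroup.orderOf_coe, hw1, Prod.orderOf_mk, orderOf_one,
      Nat.lcm_one_left, (Nat.Coprime.orderOf_pow (by rw [ho]; decide)), ho]
  rw [← h5]
  exact (orderOf_dvd_natCard _).trans (Subgroup.card_dvd_of_surjective f hf)

/-- the additive group of the field with nine elements -/
theorem exists_addEquiv {F : Type*} [Field F] [Fintype F] (hF : Fintype.card F = 9) :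
    Nonempty (Multiplicative (ZMod 3 × ZMod 3) ≃* Multiplicative F) := by
  obtain ⟨p, hchar⟩ := CharP.exists F
  have hpp : Fact p.Prime := ⟨CharP.char_is_prime F p⟩
  obtain ⟨n, -, hn⟩ := FiniteField.card F p
  have hp3 : p = 3 := by
    rw [hF] at hn
    have h1 : p ∣ 3 ^ 2 := by
      rw [show 3 ^ 2 = 9 by norm_num, hn]
      exact dvd_pow_self p n.pos.ne'
    exact (Nat.prime_dvd_prime_iff_eq hpp.out Nat.prime_three).1 (hpp.out.dvd_of_dvd_pow h1)
  subst hp3
  let _ : Algebra (ZMod 3) F := ZMod.algebra F 3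
  have hrank : Module.finrank (ZMod 3) F = 2 := by
    have h := Module.card_eq_pow_finrank (K := ZMod 3) (V := F)
    rw [hF, ZMod.card] at h
    exact (Nat.pow_right_injective (le_refl 2 |>.trans (by norm_num : 2 ≤ 3))
      (by simpa using h : 3 ^ 2 = 3 ^ Module.finrank (ZMod 3) F)).symm
  have hrank2 : Module.finrank (ZMod 3) (ZMod 3 × ZMod 3) = 2 := by
    simp
  have e : (ZMod 3 × ZMod 3) ≃ₗ[ZMod 3] F := LinearEquiv.ofFinrankEq _ _ (hrank2.trans hrank.symm)
  exact ⟨AddEquiv.toMultiplicative e.toAddEquiv⟩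

theorem dvd_three_of {n : ℕ} (hn : n ≠ 0) (h9 : ¬ 3 ^ 2 ∣ n)
    (hodd : ∀ p : ℕ, p.Prime → p ≠ 3 → ¬ p ∣ n) : n ∣ 3 := by
  rw [← Nat.factorization_le_iff_dvd hn (by norm_num)]
  intro p
  by_cases hp : p.Prime
  · by_cases h2 : p = 3
    · subst h2
      rw [Nat.Prime.factorization_self Nat.prime_three]
      by_contra hlt
      exact h9 ((pow_dvd_pow 3 (by omega)).trans (Nat.ordProj_dvd _ _))
    · rw [Nat.factorization_eq_zero_of_not_dvd (hodd p hp h2)]
      exact Nat.zero_le _
  · rw [Nat.factorization_eq_zero_of_not_prime _ hp]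
    exact Nat.zero_le _

/-- For the field with 9 elements, the special linear group SL₂ has Schur multiplier cyclic of order 3 (here the Schur multiplier is described through stem extensions, as in the definitions). -/
theorem result {F : Type*} [Field F] [Fintype F] (hF : Fintype.card F = 9) : Cfsg.HasCyclicSchurMultiplier (Matrix.SpecialLinearGroup (Fin 2) F) 3 := by
  obtain ⟨p, hchar⟩ := CharP.exists F
  have hpp : Fact p.Prime := ⟨CharP.char_is_prime F p⟩
  obtain ⟨n, -, hn⟩ := FiniteField.card F p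
  have hp3 : p = 3 := by
    rw [hF] at hn
    have h1 : p ∣ 3 ^ 2 := by
      rw [show 3 ^ 2 = 9 by norm_num, hn]
      exact dvd_pow_self p n.pos.ne'
    exact (Nat.prime_dvd_prime_iff_eq hpp.out Nat.prime_three).1 (hpp.out.dvd_of_dvd_pow h1)
  subst hp3
  have hodd : Odd (Fintype.card F) := by rw [hF]; decide
  obtain ⟨A, _, hfA, hA⟩ := exists_mult (SpecialLinearGroup (Fin 2) F)
  refine hasCyclic_of_card_prime hA Nat.prime_three ?_
  apply Nat.dvd_antisymm
  · apply dvd_three_of Nat.card_pos.ne'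
    · intro h9
      obtain ⟨e0⟩ := exists_addEquiv hF
      have hinj : Function.Injective
          (Cfsg.Agent.S2117.uuHom : Multiplicative F →* SpecialLinearGroup (Fin 2) F) :=
        fun x y h => Multiplicative.toAdd.injective (Cfsg.Agent.S2117.uu_injective h)
      have hB : HasSchurMultiplier
          (Cfsg.Agent.S2117.uuHom : Multiplicative F →* SpecialLinearGroup (Fin 2) F).range
          (Multiplicative (ZMod 3)) :=
        hasSchurMultiplier_of_mulEquiv (e0.trans (MonoidHom.ofInjective hinj))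
          (Cfsg.Agent.S3951.result 3 3 dvd_rfl)
      have := pow_dvd_of_index _ hA hB Nat.prime_three (by
        rw [Cfsg.Agent.S2117.index_range, hF]; decide) h9
      have h5 : Nat.card (Multiplicative (ZMod 3)) = 3 := by
        rw [Nat.card_eq_fintype_card, Fintype.card_multiplicative, ZMod.card]
      rw [h5] at this
      revert this
      decide
    · intro r hr hr3 hdvd
      have hfr : Fact r.Prime := ⟨hr⟩
      by_cases h2 : r = 2
      · subst h2
        let P : Sylow 2 (SpecialLinearGroup (Fin 2) F) := default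
        obtain ⟨k, hk, ⟨e⟩⟩ := Cfsg.Agent.S0261.result hodd P
        have hB : HasSchurMultiplier (P : Subgroup (SpecialLinearGroup (Fin 2) F))
            (Multiplicative (ZMod 1)) :=
          hasSchurMultiplier_of_mulEquiv e.symm (Cfsg.Agent.S3963.result (2 ^ k))
        have := pow_dvd_of_index (P : Subgroup (SpecialLinearGroup (Fin 2) F)) hA hB Nat.prime_two
          P.not_dvd_index (k := 1) (by simpa using hdvd)
        have h5 : Nat.card (Multiplicative (ZMod 1)) = 1 := Nat.card_unique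
        rw [h5] at this
        revert this
        decide
      · let R : Sylow r (SpecialLinearGroup (Fin 2) F) := default
        have hcyc := Cfsg.Agent.S0262.result 3 r h2 hr3 R
        exact not_dvd_of_cyclic (R : Subgroup (SpecialLinearGroup (Fin 2) F)) hA hr
          R.not_dvd_index hdvd
  · obtain ⟨e⟩ := Cfsg.Agent.S0254.result hF
    obtain ⟨Y, _, ξ, hξ, hc, a, b, hab, ho⟩ :=
      Cfsg.Agent.Lib.Helper69TripleA7.exists_ext 6 le_rfl (by norm_num)
    let π : SpecialLinearGroup (Fin 2) F →* alternatingGroup (Fin 6) :=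
      e.toMonoidHom.comp (QuotientGroup.mk' (Subgroup.center (SpecialLinearGroup (Fin 2) F)))
    have hker : π.ker = Subgroup.center (SpecialLinearGroup (Fin 2) F) := by
      ext y
      simp [π]
    refine dvd_of_pullback π (e.surjective.comp (QuotientGroup.mk'_surjective _)) ?_ ξ hξ hc a b
      hab ho hA
    intro g hg
    rw [hker] at hg
    have h2 : (⟨g, hg⟩ : Subgroup.center (SpecialLinearGroup (Fin 2) F)) ^ 2 = 1 := by
      have h3 := pow_card_eq_one' (x := (⟨g, hg⟩ : Subgroup.center (SpecialLinearGroup (Fin 2) F)))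
      rwa [Cfsg.Agent.Lib.Helper7SL.card_center_SL_two hodd] at h3
    exact congrArg Subtype.val h2

end Cfsg.Agent.S2118
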