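import Cfsg.Statements.S2131
import Mathlib
import Cfsg.Agent.Lib.Helper47AltHom
import Cfsg.Agent.Lib.Helper64J1Spec

set_option autoImplicit false
open Cfsg

namespace Cfsg.Agent.S2131



section aux
open Cfsg.Spor Cfsg.Agent.Helper64J1

def wt : List Bool := [false, true, false, true, false, true, false, true, false, true]
def w1 : List Bool := [false, true, false, false, false, true, true, false, true, false, true, false, true, true, false, false]
def w2 : List Bool := [true, true, false, true, true, true, false, true, true, true, false, true]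
def w3 : List Bool := [false, false, false, true, false, false, false, true, true, true, true]
def wa : Fin 4 → List Bool := ![[], w1, w2, w3]
def wi : Fin 4 → List Bool := ![[], w1 ++ w1, w2, w3]

set_option maxRecDepth 100000 in
theorem comm_codes : ∀ i, mulC (evC (wa i)) (evC wt) = mulC (evC wt) (evC (wa i)) := by decide +kernel
set_option maxRecDepth 100000 in
theorem inv_codes : ∀ i, mulC (evC (wi i)) (evC (wa i)) = cOne := by decide +kernel
set_option maxRecDepth 100000 in
theorem rel_codes : ∀ i j, powC (mulC (evC (wi i)) (evC (wa j))) (CoxeterMatrix.A 4 i j) = cOne := by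
  decide +kernel

def t : J1 := evJ wt

theorem orderOf_t : orderOf t = 2 := by
  rw [t, orderOf_evJ]; exact orderOf_evW (by norm_num) (by decide +kernel)

abbrev C : Subgroup J1 := Subgroup.centralizer ({t} : Set J1)

theorem wa_mem (i : Fin 4) : evJ (wa i) ∈ C := by
  rw [Subgroup.mem_centralizer_singleton_iff]
  apply Subtype.ext
  exact mul_eq_of_codes (comm_codes i)

def a (i : Fin 4) : C := ⟨evJ (wa i), wa_mem i⟩

theorem evW_wi (i : Fin 4) : evW (wi i) = (evW (wa i))⁻¹ := by
  rw [eq_inv_iff_mul_eq_one]
  exact ((rep_evW _).mul (rep_evW _)).ext (Rep.one.cast (inv_codes i).symm)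

theorem a_rel (i j : Fin 4) : ((a i)⁻¹ * a j) ^ (CoxeterMatrix.A 4 i j) = 1 := by
  apply Subtype.ext
  apply Subtype.ext
  show ((evW (wa i))⁻¹ * evW (wa j)) ^ (CoxeterMatrix.A 4 i j) = 1
  rw [← evW_wi]
  exact (((rep_evW _).mul (rep_evW _)).pow _).ext (Rep.one.cast (rel_codes i j).symm)

theorem a_zero : a 0 = 1 := by
  apply Subtype.ext
  apply Subtype.ext
  show evW (wa 0) = 1
  rw [show wa 0 = [] from rfl]
  rfl

theorem a_one_ne : a 1 ≠ 1 := by
  intro h
  have h0 := congrArg (fun x : C => ((x : J1) : GL7)) h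
  simp only [Subgroup.coe_one] at h0
  have h1 : evW w1 = 1 := h0
  exact Rep.ne (rep_evW w1) Rep.one (by decide +kernel) h1

theorem t_mem : t ∈ C := by
  rw [Subgroup.mem_centralizer_singleton_iff]

def tc : C := ⟨t, t_mem⟩

theorem tc_sq : tc ^ 2 = 1 := by
  apply Subtype.ext
  show t ^ 2 = 1
  rw [← orderOf_t]; exact pow_orderOf_eq_one t

theorem tc_ne : tc ≠ 1 := by
  intro h
  have h0 := congrArg (fun x : C => (x : J1)) h
  simp only [Subgroup.coe_one] at h0
  have h1 : t = 1 := h0
  have := orderOf_t
  rw [h1, orderOf_one] at this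
  omega

theorem tc_comm (x : C) : Commute tc x := by
  apply Subtype.ext
  have := Subgroup.mem_centralizer_singleton_iff.1 x.2
  exact this.symm

theorem not_dvd_card (p : ℕ) (hp : p.Prime) (hp2 : p ≠ 2)
    (hmem : 2 * p ∉ ({1, 2, 3, 5, 6, 7, 10, 11, 15, 19} : Finset ℕ)) : ¬ p ∣ Nat.card C := by
  intro hdvd
  have : Fact p.Prime := ⟨hp⟩
  have : Finite J1 := Nat.finite_of_card_ne_zero (by rw [card_J1]; norm_num)
  obtain ⟨g, hg⟩ := exists_prime_orderOf_dvd_card' p hdvd
  have hc : Commute tc g := tc_comm g
  have h2 : orderOf tc = 2 := by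
    rw [← orderOf_t]; exact (Subgroup.orderOf_coe tc).symm
  have hcop : Nat.Coprime (orderOf tc) (orderOf g) := by
    rw [h2, hg]
    exact (Nat.coprime_primes Nat.prime_two hp).2 (Ne.symm hp2)
  have h3 := hc.orderOf_mul_eq_mul_orderOf_of_coprime hcop
  rw [h2, hg] at h3
  have h4 := orderOf_mem ((tc * g : C) : J1)
  rw [Subgroup.orderOf_coe, h3] at h4
  exact hmem h4

theorem card_C_dvd : Nat.card C ∣ 120 := by
  have h1 : Nat.card C ∣ 120 * 1463 := by
    have := Subgroup.card_subgroup_dvd_card C
    rw [card_J1] at this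
    exact this
  have h7 := not_dvd_card 7 (by norm_num) (by norm_num) (by decide)
  have h11 := not_dvd_card 11 (by norm_num) (by norm_num) (by decide)
  have h19 := not_dvd_card 19 (by norm_num) (by norm_num) (by decide)
  have hc : Nat.Coprime (Nat.card C) 1463 := by
    rw [show 1463 = 7 * 11 * 19 by norm_num]
    refine Nat.Coprime.mul_right (Nat.Coprime.mul_right ?_ ?_) ?_
    · exact ((Nat.Prime.coprime_iff_not_dvd (by norm_num)).2 h7).symm
    · exact ((Nat.Prime.coprime_iff_not_dvd (by norm_num)).2 h11).symm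
    · exact ((Nat.Prime.coprime_iff_not_dvd (by norm_num)).2 h19).symm
  exact hc.dvd_of_dvd_mul_right h1

def f : Multiplicative (ZMod 2) →* C :=
  MonoidHom.mk' (fun x => tc ^ (Multiplicative.toAdd x).val) (by
    have h : ∀ x y : ZMod 2, tc ^ (x + y).val = tc ^ x.val * tc ^ y.val := by
      intro x y
      fin_cases x <;> fin_cases y
      · show tc ^ 0 = tc ^ 0 * tc ^ 0
        simp
      · show tc ^ 1 = tc ^ 0 * tc ^ 1
        simp
      · show tc ^ 1 = tc ^ 1 * tc ^ 0
        simp
      · show tc ^ 0 = tc ^ 1 * tc ^ 1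
        rw [← pow_add, tc_sq, pow_zero]
    intro x y
    exact h _ _)

theorem main : Nonempty (C ≃* Multiplicative (ZMod 2) × ↥(alternatingGroup (Fin 5))) := by
  obtain ⟨φ, hφ⟩ : ∃ φ : alternatingGroup (Fin 5) →* C, ∀ (i : Fin 4)
      (h : Equiv.swap (0 : Fin 5) 1 * Equiv.swap i.castSucc i.succ ∈ alternatingGroup (Fin 5)),
      φ ⟨Equiv.swap (0 : Fin 5) 1 * Equiv.swap i.castSucc i.succ, h⟩ = a i :=
    Cfsg.Agent.Lib.Helper47AltHom.exists_altHom 3 a a_zero a_rel
  have : Finite J1 := Nat.finite_of_card_ne_zero (by rw [card_J1]; norm_num)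
  have hinj : Function.Injective φ := by
    rw [← MonoidHom.ker_eq_bot_iff]
    rcases (inferInstance : (φ.ker).Normal).eq_bot_or_eq_top with h | h
    · exact h
    · exfalso
      have hm : Equiv.swap (0 : Fin 5) 1 * Equiv.swap (1 : Fin 4).castSucc (1 : Fin 4).succ ∈
          alternatingGroup (Fin 5) := by
        rw [Equiv.Perm.mem_alternatingGroup]; decide
      have h1 := hφ 1 hm
      have h2 : (⟨_, hm⟩ : alternatingGroup (Fin 5)) ∈ φ.ker := by rw [h]; trivial
      rw [MonoidHom.mem_ker, h1] at h2
      exact a_one_ne h2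
  let ψ : Multiplicative (ZMod 2) × ↥(alternatingGroup (Fin 5)) →* C :=
    f.noncommCoprod φ (fun m n => by
      show Commute (tc ^ _) _
      exact (tc_comm _).pow_left _)
  have hψ : ∀ x y, ψ (x, y) = f x * φ y := fun x y => by simp [ψ]
  have hψinj : Function.Injective ψ := by
    rw [injective_iff_map_eq_one]
    rintro ⟨x, y⟩ hxy
    rw [hψ] at hxy
    have hx : ∀ x : ZMod 2, x = 0 ∨ x = 1 := by decide
    rcases hx (Multiplicative.toAdd x) with h0 | h1
    · have hx1 : x = 1 := h0
      subst hx1
      rw [map_one, one_mul] at hxy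
      have : y = 1 := hinj (by rw [hxy, map_one])
      rw [this]; rfl
    · exfalso
      have hfx : f x = tc := by
        show tc ^ (Multiplicative.toAdd x).val = tc
        rw [h1]; exact pow_one tc
      rw [hfx] at hxy
      have hy : φ y = tc := by
        have h3 : tc * tc = 1 := by rw [← pow_two, tc_sq]
        have : tc * φ y = tc * tc := by rw [hxy, h3]
        exact mul_left_cancel this
      have hyc : y ∈ Subgroup.center (alternatingGroup (Fin 5)) := by
        rw [Subgroup.mem_center_iff]
        intro z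
        apply hinj
        rw [map_mul, map_mul, hy]
        exact ((tc_comm (φ z)).eq).symm
      rw [alternatingGroup.center_eq_bot (by simp), Subgroup.mem_bot] at hyc
      rw [hyc, map_one] at hy
      exact tc_ne hy.symm
  have hcard : Nat.card (Multiplicative (ZMod 2) × ↥(alternatingGroup (Fin 5))) = 120 := by
    rw [Nat.card_prod, nat_card_alternatingGroup]
    simp [Nat.factorial]
  have hle : 120 ≤ Nat.card C := by
    rw [← hcard]; exact Nat.card_le_card_of_injective ψ hψinj
  have hC : Nat.card C = 120 := le_antisymm (Nat.le_of_dvd (by norm_num) card_C_dvd) hle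
  have hbij : Function.Bijective ψ :=
    (Nat.bijective_iff_injective_and_card ψ).2 ⟨hψinj, by rw [hcard, hC]⟩
  exact ⟨(MulEquiv.ofBijective ψ hbij).symm⟩

end aux

/-- The Janko group J₁ (the group generated by two explicit 7 × 7 matrices over the integers modulo 11) has an involution whose centraliser is isomorphic to the direct product of a group of order 2 with the alternating group of degree 5. -/
theorem result : ∃ t : ↥Cfsg.Spor.J1, orderOf t = 2 ∧ Nonempty (↥(Subgroup.centralizer ({t} : Set ↥Cfsg.Spor.J1)) ≃* Multiplicative (ZMod 2) × ↥(alternatingGroup (Fin 5))) := by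
  exact ⟨t, orderOf_t, main⟩

end Cfsg.Agent.S2131
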