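import Cfsg.Statements.S2177
import Cfsg.Agent.Lib.H46GCMainB
import Cfsg.Agent.Lib.H46GCNotConj
-- import your own Cfsg.Agent.* helpers here

set_option autoImplicit false
open Cfsg

namespace Cfsg.Agent.S2177

open Cfsg.Lie Cfsg.Agent.Lib.Helper22ChevBasic Cfsg.Agent.Lib.H46GCRel in
theorem eqX {F : Type*} [Field F] (y : GL chevG2.Idx F)
    (h : (y : Matrix chevG2.Idx chevG2.Idx F) ∈ [chevG2.x F 11 1, chevG2.x F 9 1]) : y = X 11 1 ∨ y = X 9 1 := by
  simp only [List.mem_cons, List.not_mem_nil, or_false] at h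
  rcases h with h | h
  · exact Or.inl (Units.ext (by rw [h]; rfl))
  · exact Or.inr (Units.ext (by rw [h]; rfl))

/-- Conjugacy classes of involutions in the Chevalley group of type G₂ over a finite field F of characteristic two with at least four elements (the matrix group generated by the root elements x_r(t)). In this problem's root numbering for type G₂ (the Chevalley data module; p₁ = a short, p₂ = b long; roots indexed by coefficient vectors in increasing order) let 11 be the highest root 3a + 2b (long) and 9 the short root 2a + b; consider x_{3a+2b}(1) and x_{2a+b}(1). Then: each invertible matrix equal to one of these two products lies in the group and has order 2; every element of order 2 of the group is conjugate in the group to one of them; and no two of them are conjugate in the group (so, the two matrices being distinct, the group has exactly two conjugacy classes of involutions). -/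
theorem result {F : Type*} [Field F] [Fintype F] [CharP F 2] (hF : 4 ≤ Fintype.card F) :
    (∀ y : GL Cfsg.Lie.chevG2.Idx F, ((y : GL Cfsg.Lie.chevG2.Idx F) : Matrix Cfsg.Lie.chevG2.Idx Cfsg.Lie.chevG2.Idx F) ∈ [Cfsg.Lie.chevG2.x F 11 1, Cfsg.Lie.chevG2.x F 9 1] → y ∈ Cfsg.Lie.chevG2.group F ∧ orderOf y = 2) ∧
    (∀ g ∈ Cfsg.Lie.chevG2.group F, orderOf g = 2 → ∃ y ∈ Cfsg.Lie.chevG2.group F, ((y : GL Cfsg.Lie.chevG2.Idx F) : Matrix Cfsg.Lie.chevG2.Idx Cfsg.Lie.chevG2.Idx F) ∈ [Cfsg.Lie.chevG2.x F 11 1, Cfsg.Lie.chevG2.x F 9 1] ∧ ∃ h ∈ Cfsg.Lie.chevG2.group F, h * g * h⁻¹ = y) ∧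
    (∀ y₁ ∈ Cfsg.Lie.chevG2.group F, ∀ y₂ ∈ Cfsg.Lie.chevG2.group F, ((y₁ : GL Cfsg.Lie.chevG2.Idx F) : Matrix Cfsg.Lie.chevG2.Idx Cfsg.Lie.chevG2.Idx F) ∈ [Cfsg.Lie.chevG2.x F 11 1, Cfsg.Lie.chevG2.x F 9 1] → ((y₂ : GL Cfsg.Lie.chevG2.Idx F) : Matrix Cfsg.Lie.chevG2.Idx Cfsg.Lie.chevG2.Idx F) ∈ [Cfsg.Lie.chevG2.x F 11 1, Cfsg.Lie.chevG2.x F 9 1] →
      (∃ h ∈ Cfsg.Lie.chevG2.group F, h * y₁ * h⁻¹ = y₂) → ((y₁ : GL Cfsg.Lie.chevG2.Idx F) : Matrix Cfsg.Lie.chevG2.Idx Cfsg.Lie.chevG2.Idx F) = ((y₂ : GL Cfsg.Lie.chevG2.Idx F) : Matrix Cfsg.Lie.chevG2.Idx Cfsg.Lie.chevG2.Idx F)) := by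
  have hnc : ¬ Cfsg.Agent.Lib.H46GCRel.Cj (Cfsg.Agent.Lib.H46GCRel.X 11 (1 : F)) (Cfsg.Agent.Lib.H46GCRel.X 9 1) :=
    Cfsg.Agent.Lib.H46GCNotConj.not_conj
  refine ⟨?_, ?_, ?_⟩
  · intro y hy
    rcases eqX y hy with rfl | rfl
    · exact ⟨Cfsg.Agent.Lib.H46GCRel.X_mem _ _, Cfsg.Agent.Lib.H46GCSyl.ordX (by norm_num)⟩
    · exact ⟨Cfsg.Agent.Lib.H46GCRel.X_mem _ _, Cfsg.Agent.Lib.H46GCSyl.ordX (by norm_num)⟩
  · intro g hg ho
    rcases Cfsg.Agent.Lib.H46GCMainB.mainB g hg ho with h | h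
    · exact ⟨_, Cfsg.Agent.Lib.H46GCRel.X_mem 11 1, List.mem_cons_self, h⟩
    · exact ⟨_, Cfsg.Agent.Lib.H46GCRel.X_mem 9 1, List.mem_cons_of_mem _ List.mem_cons_self, h⟩
  · intro y₁ _ y₂ _ h1 h2 hc
    rcases eqX y₁ h1 with rfl | rfl <;> rcases eqX y₂ h2 with rfl | rfl
    · rfl
    · exact absurd hc hnc
    · exfalso
      obtain ⟨k, hk, e⟩ := hc
      apply hnc
      refine ⟨k⁻¹, inv_mem hk, ?_⟩
      rw [← e]; group
    · rfl

end Cfsg.Agent.S2177
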