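import Cfsg.Statements.S2179
import Cfsg.Agent.Lib.H46FCMain
-- import your own Cfsg.Agent.* helpers here

set_option autoImplicit false
open Cfsg

namespace Cfsg.Agent.S2179

open Subgroup Cfsg.Lie Cfsg.Agent.Lib.Helper22ChevBasic Cfsg.Agent.Lib.Helper22ChevU Cfsg.Agent.Lib.H46FCRel
  Cfsg.Agent.Lib.H46FCMain in
theorem shapeK {F : Type*} [Field F] : KK F = chevF4.rootSubgroup F 33 ⊔ chevF4.rootSubgroup F 14 ⊔
    chevF4.rootSubgroup F 24 ⊔ chevF4.rootSubgroup F 23 ⊔
      closure {g : GL chevF4.Idx F | ∃ (r : ℕ) (c : F), chevF4.IsPosRoot r ∧ r ∉ [27, 25, 34, 26] ∧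
        (g : Matrix chevF4.Idx chevF4.Idx F) = chevF4.x F r c} := by
  have hP := Cfsg.Agent.Lib.Helper22ChevTabs.posFacts hD
  have hn48 : chevF4.nroots = 48 := by decide
  apply le_antisymm
  · unfold KK
    rw [closure_le]
    rintro _ ⟨r, t, hr, rfl⟩
    have pos : ∀ r : ℕ, 24 ≤ r → r < 48 → r ∉ [27, 25, 34, 26] → X r t ∈ closure {g : GL chevF4.Idx F |
        ∃ (r : ℕ) (c : F), chevF4.IsPosRoot r ∧ r ∉ [27, 25, 34, 26] ∧
        (g : Matrix chevF4.Idx chevF4.Idx F) = chevF4.x F r c} := by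
      intro r h1 h2 h3
      exact subset_closure ⟨r, t, (hP.pos_iff r).2 ⟨by rw [hn48]; omega, by rw [hn48]; exact h2⟩, h3, rfl⟩
    rcases hr with hr | ⟨h1, h2, h3⟩
    · simp only [List.mem_cons, List.not_mem_nil, or_false] at hr
      rcases hr with rfl | rfl | rfl | rfl
      · exact mem_sup_left (mem_sup_left (mem_sup_left (mem_sup_left (xG_mem_rootSubgroup hD 33 t))))
      · exact mem_sup_left (mem_sup_left (mem_sup_left (mem_sup_right (xG_mem_rootSubgroup hD 14 t))))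
      · exact mem_sup_left (mem_sup_left (mem_sup_right (xG_mem_rootSubgroup hD 24 t)))
      · exact mem_sup_left (mem_sup_right (xG_mem_rootSubgroup hD 23 t))
    · exact mem_sup_right (pos r h1 h2 h3)
  · have hr : ∀ r ∈ [33, 14, 24, 23], chevF4.rootSubgroup F r ≤ KK F := by
      intro r hr x hx
      obtain ⟨a, rfl⟩ := (mem_rootSubgroup_iff hD r x).1 hx
      exact subset_closure ⟨r, a, Or.inl hr, rfl⟩
    refine sup_le (sup_le (sup_le (sup_le (hr 33 (by simp)) (hr 14 (by simp))) (hr 24 (by simp)))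
      (hr 23 (by simp))) ?_
    rw [closure_le]
    rintro g ⟨r, c, h1, h2, h3⟩
    obtain ⟨a1, a2⟩ := (hP.pos_iff r).1 h1
    rw [hn48] at a1 a2
    have e : g = X r c := Units.ext (by rw [h3]; rfl)
    rw [e]
    exact subset_closure ⟨r, c, Or.inr ⟨by omega, a2, h2⟩, rfl⟩

open Subgroup Cfsg.Lie Cfsg.Agent.Lib.Helper22ChevBasic Cfsg.Agent.Lib.Helper22ChevU Cfsg.Agent.Lib.H46FCRel
  Cfsg.Agent.Lib.H46FCMain in
theorem shapeW {F : Type*} [Field F] : PW F = chevF4.posUnipotent F ⊔ chevF4.rootSubgroup F 20 ⊔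
    chevF4.rootSubgroup F 22 := by
  have hn48 : chevF4.nroots = 48 := by decide
  apply le_antisymm
  · unfold PW
    rw [closure_le]
    rintro _ ⟨r, t, hr, rfl⟩
    rcases hr with ⟨h1, h2⟩ | rfl | rfl
    · apply mem_sup_left
      apply mem_sup_left
      rw [posUnipotent_eq_Uk hD]
      exact xG_mem_Uk hD (by rw [hn48]; omega) t
    · exact mem_sup_left (mem_sup_right (xG_mem_rootSubgroup hD 20 t))
    · exact mem_sup_right (xG_mem_rootSubgroup hD 22 t)
  · have hr : ∀ r, r = 20 ∨ r = 22 → chevF4.rootSubgroup F r ≤ PW F := by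
      intro r hr x hx
      obtain ⟨a, rfl⟩ := (mem_rootSubgroup_iff hD r x).1 hx
      exact subset_closure ⟨r, a, Or.inr hr, rfl⟩
    refine sup_le (sup_le ?_ (hr 20 (by simp))) (hr 22 (by simp))
    rw [posUnipotent_eq_Uk hD]
    unfold Uk
    rw [closure_le]
    rintro _ ⟨r, t, h1, rfl⟩
    rw [hn48] at h1
    by_cases h2 : r < 48
    · exact subset_closure ⟨r, t, Or.inl ⟨by omega, h2⟩, rfl⟩
    · rw [xG_eq_one hD (by rw [hn48]; exact h2)]
      exact one_mem _

/-- Centralizers of the two remaining classes of involutions in the Chevalley group G of type F₄ over a finite field F of characteristic two (this problem's root numbering for type F₄, from the Chevalley data module: p₁, p₂ short, p₃, p₄ long with indices 33, 27, 25, 24 and negatives 14, 20, 22, 23; U generated by the positive root subgroups). For an element of G with matrix x_47(1)x_44(1) (highest root times highest short root): its centralizer in G is generated by U, X_{−p₂}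 and X_{−p₃}. For an element of G with matrix x_39(1)x_45(1) (roots (1,2,2,1) and (2,4,2,1), an orthogonal short/long pair): its centralizer in G is generated by X_{p₁}, X_{−p₁}, X_{p₄}, X_{−p₄} and the root subgroups of all positive roots other than p₂ (27), p₃ (25), p₁ + p₂ (34) and p₃ + p₄ (26). -/
theorem result {F : Type*} [Field F] [Fintype F] [CharP F 2] (w v : GL Cfsg.Lie.chevF4.Idx F) (hw : (w : Matrix Cfsg.Lie.chevF4.Idx Cfsg.Lie.chevF4.Idx F) = Cfsg.Lie.chevF4.x F 47 1 * Cfsg.Lie.chevF4.x F 44 1) (hv : (v : Matrix Cfsg.Lie.chevF4.Idx Cfsg.Lie.chevF4.Idx F) = Cfsg.Lie.chevF4.x F 39 1 * Cfsg.Lie.chevF4.x F 45 1) :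
    Cfsg.Lie.chevF4.group F ⊓ Subgroup.centralizer {w} = Cfsg.Lie.chevF4.posUnipotent F ⊔ Cfsg.Lie.chevF4.rootSubgroup F 20 ⊔ Cfsg.Lie.chevF4.rootSubgroup F 22 ∧
    Cfsg.Lie.chevF4.group F ⊓ Subgroup.centralizer {v} = Cfsg.Lie.chevF4.rootSubgroup F 33 ⊔ Cfsg.Lie.chevF4.rootSubgroup F 14 ⊔ Cfsg.Lie.chevF4.rootSubgroup F 24 ⊔ Cfsg.Lie.chevF4.rootSubgroup F 23 ⊔
      Subgroup.closure {g : GL Cfsg.Lie.chevF4.Idx F | ∃ (r : ℕ) (c : F), Cfsg.Lie.chevF4.IsPosRoot r ∧ r ∉ [27, 25, 34, 26] ∧ (g : Matrix Cfsg.Lie.chevF4.Idx Cfsg.Lie.chevF4.Idx F) = Cfsg.Lie.chevF4.x F r c} := by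
  constructor
  · have e : w = Cfsg.Agent.Lib.H46FCRel.X 47 1 * Cfsg.Agent.Lib.H46FCRel.X 44 1 := Units.ext (by rw [hw]; rfl)
    rw [e, Cfsg.Agent.Lib.H46FCMain.first, shapeW]
  · have e : v = Cfsg.Agent.Lib.H46FCRel.X 39 1 * Cfsg.Agent.Lib.H46FCRel.X 45 1 := Units.ext (by rw [hv]; rfl)
    rw [e, Cfsg.Agent.Lib.H46FCMain.second, shapeK]

end Cfsg.Agent.S2179
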