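import Cfsg.Statements.S2180
import Cfsg.Agent.Lib.LeadChevCent
import Cfsg.Agent.Lib.H46GCInN9
import Cfsg.Agent.Lib.H46GCInP
import Cfsg.Agent.Lib.H46GCVCent
import Cfsg.Agent.Lib.H46GCHCent
-- import your own Cfsg.Agent.* helpers here

set_option autoImplicit false
open Cfsg

namespace Cfsg.Agent.S2180

set_option maxRecDepth 100000

theorem cLong {F : Type*} [Field F] : Cfsg.Agent.Lib.LeadChevCent.CData Cfsg.Lie.chevG2 F 11 1 where
  hr0 := by decide +kernel
  hi0 := by decide +kernel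
  comm_pos := by
    have h : ∀ r < 12, Cfsg.Lie.chevG2.IsPosRoot r → Cfsg.Lie.chevG2.commTerms r 11 = [] := by decide +kernel
    intro r hr _ c hc
    rw [h r hr.1 hr] at hc
    simp at hc
  neg_ne := by decide +kernel
  comm_neg := by
    have h : ∀ i < 2, i ≠ 1 → Cfsg.Lie.chevG2.commTerms (Cfsg.Lie.chevG2.neg (Cfsg.Lie.chevG2.simple i)) 11 = [] := by
      decide +kernel
    intro i hi hne c hc
    rw [h i hi hne] at hc
    simp at hc
  cart0 := by decide +kernel
  cart := by decide +kernel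
  refl0 := by decide +kernel
  ne0 := by decide +kernel

open Subgroup Cfsg.Lie Cfsg.Agent.Lib.Helper22ChevBasic Cfsg.Agent.Lib.Helper22ChevU Cfsg.Agent.Lib.H46GCRel
  Cfsg.Agent.Lib.H46GCL in
theorem second {F : Type*} [Field F] [CharP F 2] :
    chevG2.group F ⊓ centralizer {X 9 (1 : F)} = chevG2.rootSubgroup F 9 ⊔ chevG2.rootSubgroup F 10 ⊔
      chevG2.rootSubgroup F 11 ⊔ chevG2.rootSubgroup F 6 ⊔ chevG2.rootSubgroup F 5 := by
  set K := chevG2.rootSubgroup F 9 ⊔ chevG2.rootSubgroup F 10 ⊔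
      chevG2.rootSubgroup F 11 ⊔ chevG2.rootSubgroup F 6 ⊔ chevG2.rootSubgroup F 5 with hK
  have k9 : ∀ s : F, X 9 s ∈ K := fun s =>
    mem_sup_left (mem_sup_left (mem_sup_left (mem_sup_left (xG_mem_rootSubgroup hD 9 s))))
  have k10 : ∀ s : F, X 10 s ∈ K := fun s =>
    mem_sup_left (mem_sup_left (mem_sup_left (mem_sup_right (xG_mem_rootSubgroup hD 10 s))))
  have k11 : ∀ s : F, X 11 s ∈ K := fun s =>
    mem_sup_left (mem_sup_left (mem_sup_right (xG_mem_rootSubgroup hD 11 s)))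
  have k6 : ∀ s : F, X 6 s ∈ K := fun s => mem_sup_left (mem_sup_right (xG_mem_rootSubgroup hD 6 s))
  have k5 : ∀ s : F, X 5 s ∈ K := fun s => mem_sup_right (xG_mem_rootSubgroup hD 5 s)
  have hLK : L F ≤ K := by
    unfold L
    rw [closure_le]
    rintro _ ⟨s, rfl | rfl⟩
    · exact k6 s
    · exact k5 s
  have hUK : Uk (F := F) hD 9 ≤ K := by
    unfold Uk
    rw [closure_le]
    rintro _ ⟨r, s, hr, rfl⟩
    by_cases h12 : r < 12
    · have : r = 9 ∨ r = 10 ∨ r = 11 := by omega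
      rcases this with rfl | rfl | rfl
      · exact k9 s
      · exact k10 s
      · exact k11 s
    · rw [xG_eq_one hD (by
        have : chevG2.nroots = 12 := by decide
        omega)]
      exact one_mem _
  have hLC : ∀ l ∈ L F, ∀ s : F, l * X 9 s = X 9 s * l := by
    intro l hl s
    have : L F ≤ centralizer {X 9 s} := by
      unfold L
      rw [closure_le]
      rintro _ ⟨a, rfl | rfl⟩
      · rw [SetLike.mem_coe, mem_centralizer_singleton_iff]
        exact C0 (by simp) a s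
      · rw [SetLike.mem_coe, mem_centralizer_singleton_iff]
        exact C0 (by simp) a s
    exact mem_centralizer_singleton_iff.1 (this hl)
  apply le_antisymm
  · rintro g ⟨hgG, hgC⟩
    have hgt : g * X 9 1 = X 9 1 * g := mem_centralizer_singleton_iff.1 hgC
    have hgt' : g⁻¹ * X 9 1 = X 9 1 * g⁻¹ := by
      rw [inv_mul_eq_iff_eq_mul, ← mul_assoc, hgt, mul_inv_cancel_right]
    have h1 := Cfsg.Agent.Lib.H46GCInN9.inN9 g hgG hgt
    have h2 := Cfsg.Agent.Lib.H46GCInN9.inN9 g⁻¹ (inv_mem hgG) hgt'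
    simp only [inv_inv] at h2
    obtain ⟨v, hv, l, hl, h, hh, rfl⟩ := Cfsg.Agent.Lib.H46GCInP.inP g hgG h1 h2
    obtain ⟨χ, hχ, hχL⟩ := Cfsg.Agent.Lib.H46GCHCent.hcent h hh
    have e1 : v * X 9 χ * v⁻¹ = X 9 1 := by
      have a1 : v * l * h * X 9 1 * (v * l * h)⁻¹ = X 9 1 := by rw [hgt]; group
      have a2 : v * l * h * X 9 1 * (v * l * h)⁻¹ = v * (l * (h * X 9 1 * h⁻¹) * l⁻¹) * v⁻¹ := by group
      rw [a2, hχ, mul_one, hLC l hl, mul_inv_cancel_right] at a1
      exact a1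
    obtain ⟨hχ1, hv9⟩ := Cfsg.Agent.Lib.H46GCVCent.vcent v hv χ e1
    exact mul_mem (mul_mem (hUK hv9) (hLK hl)) (hLK (hχL hχ1))
  · have hc : ∀ r, r = 9 ∨ r = 10 ∨ r = 11 ∨ r = 6 ∨ r = 5 →
        chevG2.rootSubgroup F r ≤ chevG2.group F ⊓ centralizer {X 9 (1 : F)} := by
      intro r hr x hx
      obtain ⟨a, rfl⟩ := (mem_rootSubgroup_iff hD r x).1 hx
      refine ⟨xG_mem_group hD r a, mem_centralizer_singleton_iff.2 ?_⟩
      rcases hr with rfl | rfl | rfl | rfl | rfl
      · show X 9 a * X 9 1 = X 9 1 * X 9 a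
        rw [X_add, X_add, add_comm]
      · exact C0 (by simp) a 1
      · exact C0 (by simp) a 1
      · exact C0 (by simp) a 1
      · exact C0 (by simp) a 1
    exact sup_le (sup_le (sup_le (sup_le (hc 9 (by simp)) (hc 10 (by simp))) (hc 11 (by simp))) (hc 6 (by simp)))
      (hc 5 (by simp))

/-- Centralizers of involutions in the Chevalley group G of type G₂ over a finite field F of characteristic two with at least four elements (this problem's root numbering for type G₂, from the Chevalley data module: a = p₁ short with index 7, b = p₂ long with index 6, −a = 4, −b = 5, 2a + b = 9, 3a + b = 10, 3a + 2b = 11; U generated by the positive root subgroups). For an element z of G with matrix x_{3a+2b}(1): the centralizer of z in G is generated by U and X_{−a}. For an element t of G with matrix x_{2a+b}(1): the centralizer of t in G is generated by X_{2a+b}, X_{3a+b}, X_{3a+2b}, X_b and X_{−b}. -/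
theorem result {F : Type*} [Field F] [Fintype F] [CharP F 2] (hF : 4 ≤ Fintype.card F) (z t : GL Cfsg.Lie.chevG2.Idx F) (hz : (z : Matrix Cfsg.Lie.chevG2.Idx Cfsg.Lie.chevG2.Idx F) = Cfsg.Lie.chevG2.x F 11 1) (ht : (t : Matrix Cfsg.Lie.chevG2.Idx Cfsg.Lie.chevG2.Idx F) = Cfsg.Lie.chevG2.x F 9 1) :
    Cfsg.Lie.chevG2.group F ⊓ Subgroup.centralizer {z} = Cfsg.Lie.chevG2.posUnipotent F ⊔ Cfsg.Lie.chevG2.rootSubgroup F 4 ∧
    Cfsg.Lie.chevG2.group F ⊓ Subgroup.centralizer {t} = Cfsg.Lie.chevG2.rootSubgroup F 9 ⊔ Cfsg.Lie.chevG2.rootSubgroup F 10 ⊔ Cfsg.Lie.chevG2.rootSubgroup F 11 ⊔ Cfsg.Lie.chevG2.rootSubgroup F 6 ⊔ Cfsg.Lie.chevG2.rootSubgroup F 5 := by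
  constructor
  · rw [Cfsg.Agent.Lib.LeadChevCent.cent_concrete (by simp) cLong z hz,
      Cfsg.Agent.Lib.LeadChevCent.Rc_eq 1 [4]
        (Cfsg.Agent.Lib.LeadChevCent.hL_of_eq 1 _ (by decide +kernel)),
      Cfsg.Agent.Lib.LeadChevCent.closure_list_cons, Cfsg.Agent.Lib.LeadChevCent.closure_list_nil,
      sup_bot_eq]
  · have e : t = Cfsg.Agent.Lib.H46GCRel.X 9 1 := Units.ext (by rw [ht]; rfl)
    rw [e]
    exact second

end Cfsg.Agent.S2180
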