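import Cfsg.Statements.S2244
import Cfsg.Agent.Lib.H46WCRed
import Cfsg.Agent.Lib.H46WCGen
import Cfsg.Agent.Lib.H46WCG2C
import Cfsg.Agent.Lib.H46WCReach
import Cfsg.Agent.Lib.H46WCSep
-- import your own Cfsg.Agent.* helpers here

set_option autoImplicit false
open Cfsg

namespace Cfsg.Agent.S2244

/-- Weakly closed unipotent subgroups of Chevalley groups: let G be the Chevalley group of type G₂, B₂, D₄, F₄, E₆, E₇ or E₈ over a finite field F (the matrix group generated by the root elements), with |F| ≠ 2, and |F| ≠ 3 as well for the types G₂, B₂, D₄, F₄. Let U be the subgroup generated by the positive root subgroups. If X ≤ U is weakly closed in U with respect to G (every G-conjugate of X lying in U equals X), then X is the unipotent radical U_J of a standard parabolic subgroup for some set J of fundamental roots. -/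
theorem result {F : Type*} [Field F] [Fintype F] (D : Cfsg.Lie.ChevalleyDatum) (hD : D ∈ [Cfsg.Lie.chevG2, Cfsg.Lie.chevB2, Cfsg.Lie.chevD4, Cfsg.Lie.chevF4, Cfsg.Lie.chevE6, Cfsg.Lie.chevE7, Cfsg.Lie.chevE8])
    (h2 : Fintype.card F ≠ 2) (h3 : D ∈ [Cfsg.Lie.chevG2, Cfsg.Lie.chevB2, Cfsg.Lie.chevD4, Cfsg.Lie.chevF4] → Fintype.card F ≠ 3)
    (X : Subgroup (GL D.Idx F)) (hXU : X ≤ D.posUnipotent F)
    (hwc : ∀ g ∈ D.group F, X.map (MulAut.conj g).toMonoidHom ≤ D.posUnipotent F → X.map (MulAut.conj g).toMonoidHom = X) :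
    ∃ J : Set ℕ, (∀ j ∈ J, j < D.rank) ∧ X = D.unipotentRadical F J := by
  classical
  have hT := Cfsg.Agent.Lib.Helper23Tab.tableOK_of_mem hD
  have hR : Cfsg.Agent.Lib.Helper23Chev.Rel D F := Cfsg.Agent.Lib.Helper22ChevRel.rel_of_mem hD
  by_cases hne : X = ⊥
  · refine ⟨{j | j < D.rank}, fun j hj => hj, ?_⟩
    rw [hne]
    symm
    unfold Cfsg.Lie.ChevalleyDatum.unipotentRadical
    rw [Subgroup.closure_eq_bot_iff]
    rintro g ⟨r, t, hp, hn, _⟩
    exact absurd ⟨hp.1, fun i hi hiJ => absurd hi hiJ⟩ hn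
  · obtain ⟨hNB, J, hJr, hXJ, hJ⟩ := Cfsg.Agent.Lib.H46WCRed.red hT hR hD X hXU hwc hne
    refine ⟨J, hJr, le_antisymm hXJ ?_⟩
    have h1 : 1 < Fintype.card F := Fintype.one_lt_card
    have hq2 : 2 < Fintype.card F := by omega
    have hD' := hD
    simp only [List.mem_cons, List.mem_nil_iff, or_false] at hD'
    rcases hD' with rfl | rfl | rfl | rfl | rfl | rfl | rfl
    · have h3' := h3 (by simp)
      exact Cfsg.Agent.Lib.H46WCG2C.g2 hT hR (by omega) hD X hXU hNB J hJ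
    · have h3' := h3 (by simp)
      exact Cfsg.Agent.Lib.H46WCGen.gen hT hR hD Cfsg.Agent.Lib.H46WCSep.sepB2 (by omega) hq2
        Cfsg.Agent.Lib.H46WCReach.reachB2 X hXU hNB J hJ
    · have h3' := h3 (by simp)
      exact Cfsg.Agent.Lib.H46WCGen.gen hT hR hD Cfsg.Agent.Lib.H46WCSep.sepD4 (by omega) hq2
        Cfsg.Agent.Lib.H46WCReach.reachD4 X hXU hNB J hJ
    · have h3' := h3 (by simp)
      exact Cfsg.Agent.Lib.H46WCGen.gen hT hR hD Cfsg.Agent.Lib.H46WCSep.sepF4 (by omega) hq2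
        Cfsg.Agent.Lib.H46WCReach.reachF4 X hXU hNB J hJ
    · exact Cfsg.Agent.Lib.H46WCGen.gen hT hR hD Cfsg.Agent.Lib.H46WCSep.sepE6 (by omega) hq2
        Cfsg.Agent.Lib.H46WCReach.reachE6 X hXU hNB J hJ
    · exact Cfsg.Agent.Lib.H46WCGen.gen hT hR hD Cfsg.Agent.Lib.H46WCSep.sepE7 (by omega) hq2
        Cfsg.Agent.Lib.H46WCReach.reachE7 X hXU hNB J hJ
    · exact Cfsg.Agent.Lib.H46WCGen.gen hT hR hD Cfsg.Agent.Lib.H46WCSep.sepE8 (by omega) hq2
        Cfsg.Agent.Lib.H46WCReach.reachE8 X hXU hNB J hJ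

end Cfsg.Agent.S2244
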