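import Cfsg.Statements.S2247
import Cfsg.Agent.Lib.Helper8Sz5

set_option autoImplicit false
open Cfsg

namespace Cfsg.Agent.S2247

open Cfsg.Agent.Lib.Helper8Sz Cfsg.Agent.Lib.Helper8Sz2 Cfsg.Agent.Lib.Helper8Sz3
  Cfsg.Agent.Lib.Helper8Sz4 Cfsg.Agent.Lib.Helper8Sz5

/-- In the Suzuki group with q = 2^(2m+1), m ≥ 1 (realised as the stabiliser in SL₄ of the Suzuki–Tits ovoid), the normalizer of a Sylow 2-subgroup P is a maximal subgroup and is the only maximal subgroup containing P. -/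
theorem result {F : Type*} [Field F] [Fintype F] {m : ℕ} (hm : 1 ≤ m) (hF : Fintype.card F = 2 ^ (2 * m + 1)) (P : Sylow 2 ↥(Cfsg.Sz F m)) :
    IsCoatom (Subgroup.normalizer ((P : Subgroup ↥(Cfsg.Sz F m)) : Set ↥(Cfsg.Sz F m))) ∧
    ∀ M : Subgroup ↥(Cfsg.Sz F m), IsCoatom M → (P : Subgroup ↥(Cfsg.Sz F m)) ≤ M → M = Subgroup.normalizer ((P : Subgroup ↥(Cfsg.Sz F m)) : Set ↥(Cfsg.Sz F m)) := by
  obtain ⟨k, hk⟩ := sylow_conj hF hm P
  have hN : Subgroup.normalizer ((P : Subgroup ↥(Cfsg.Sz F m)) : Set ↥(Cfsg.Sz F m))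
      = MulAction.stabilizer (Cfsg.Sz F m) (k • oInf F m) := by
    ext g
    have h1 : g ∈ MulAction.stabilizer (Cfsg.Sz F m) (k • oInf F m) ↔
        k⁻¹ * g * k ∈ MulAction.stabilizer (Cfsg.Sz F m) (oInf F m) := by
      rw [MulAction.mem_stabilizer_iff, MulAction.mem_stabilizer_iff, mul_smul, mul_smul,
        inv_smul_eq_iff]
    rw [h1, ← normalizer_Q hF hm, Subgroup.mem_normalizer_iff, Subgroup.mem_normalizer_iff]
    constructor
    · intro h y
      have h2 := h (k * y * k⁻¹)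
      have e1 : k⁻¹ * (k * y * k⁻¹) * k = y := by group
      have e2 : k⁻¹ * (g * (k * y * k⁻¹) * g⁻¹) * k = k⁻¹ * g * k * y * (k⁻¹ * g * k)⁻¹ := by group
      have h3 := hk (k * y * k⁻¹)
      have h4 := hk (g * (k * y * k⁻¹) * g⁻¹)
      rw [e1] at h3
      rw [e2] at h4
      exact h3.symm.trans (h2.trans h4)
    · intro h x
      have h2 := h (k⁻¹ * x * k)
      have e2 : k⁻¹ * g * k * (k⁻¹ * x * k) * (k⁻¹ * g * k)⁻¹ = k⁻¹ * (g * x * g⁻¹) * k := by group
      rw [e2] at h2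
      exact (hk x).trans (h2.trans (hk _).symm)
  have hprim : MulAction.IsPreprimitive (Cfsg.Sz F m) (Cfsg.suzukiOvoid F m) :=
    MulAction.isPreprimitive_of_is_two_pretransitive (two_trans hF)
  have hnt : Nontrivial (Cfsg.suzukiOvoid F m) := ⟨⟨oPt m 0 0, oInf F m, oPt_ne_oInf 0 0⟩⟩
  have hco : IsCoatom (MulAction.stabilizer (Cfsg.Sz F m) (k • oInf F m)) :=
    MulAction.IsPreprimitive.isCoatom_stabilizer_of_isPreprimitive _ _
  rw [hN]
  refine ⟨hco, ?_⟩
  intro M hM hPM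
  by_cases hle : M ≤ MulAction.stabilizer (Cfsg.Sz F m) (k • oInf F m)
  · by_contra hne
    exact hco.1 (hM.2 _ (lt_of_le_of_ne hle hne))
  · exfalso
    obtain ⟨g, hgM, hg⟩ := SetLike.not_le_iff_exists.1 hle
    apply hM.1
    -- conjugate M back
    let M' : Subgroup (Cfsg.Sz F m) := M.comap (MulAut.conj k).toMonoidHom
    have hmem : ∀ x, x ∈ M' ↔ k * x * k⁻¹ ∈ M := fun x => Iff.rfl
    have hQ : Q hF hm ≤ M' := by
      intro x hx
      rw [hmem]
      apply hPM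
      show k * x * k⁻¹ ∈ P
      rw [hk]
      have e : k⁻¹ * (k * x * k⁻¹) * k = x := by group
      rwa [e]
    have hg' : k⁻¹ * g * k ∈ M' := by
      rw [hmem]
      have e : k * (k⁻¹ * g * k) * k⁻¹ = g := by group
      rwa [e]
    have hmove : (k⁻¹ * g * k) • oInf F m ≠ oInf F m := by
      intro h
      apply hg
      rw [MulAction.mem_stabilizer_iff]
      rw [mul_smul, mul_smul, inv_smul_eq_iff] at h
      exact h
    have htop := eq_top_of_Q_le hF hm M' hQ hg' hmove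
    rw [eq_top_iff]
    intro x _
    have : k⁻¹ * x * k ∈ M' := by rw [htop]; trivial
    rw [hmem] at this
    have e : k * (k⁻¹ * x * k) * k⁻¹ = x := by group
    rwa [e] at this

end Cfsg.Agent.S2247
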