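import Cfsg.Statements.S2271
import Cfsg.Agent.Lib.H98FixMain

set_option autoImplicit false
open Cfsg

namespace Cfsg.Agent.S2271

open Cfsg.Agent.Lib.Helper98FixDefs Cfsg.Agent.Lib.H98FixMain Cfsg.Agent.Lib.H98FixBas

/-- Let n ≥ 5 and let a, b be non-identity permutations in the symmetric group S_n. Then the number of fixed points is not constant on the set of products a′b′ with a′ conjugate to a and b′ conjugate to b under the alternating group: there are even permutations g₁, h₁, g₂, h₂ such that (g₁ a g₁⁻¹)(h₁ b h₁⁻¹) and (g₂ a g₂⁻¹)(h₂ b h₂⁻¹) have different numbers of fixed points. -/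
theorem result (n : ℕ) (hn : 5 ≤ n) (a b : Equiv.Perm (Fin n)) (ha : a ≠ 1) (hb : b ≠ 1) :
    ∃ g₁ h₁ g₂ h₂ : Equiv.Perm (Fin n), g₁ ∈ alternatingGroup (Fin n) ∧ h₁ ∈ alternatingGroup (Fin n) ∧ g₂ ∈ alternatingGroup (Fin n) ∧ h₂ ∈ alternatingGroup (Fin n) ∧
      Nat.card (Function.fixedPoints ⇑(g₁ * a * g₁⁻¹ * (h₁ * b * h₁⁻¹))) ≠
        Nat.card (Function.fixedPoints ⇑(g₂ * a * g₂⁻¹ * (h₂ * b * h₂⁻¹))) := by
  by_contra hcon
  push Not at hcon
  refine core n hn a b ha hb (fx (a * (1 * b * 1⁻¹))) ?_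
  intro h hh
  have := hcon 1 h 1 1 (one_mem _) (mem_AF.1 hh) (one_mem _) (one_mem _)
  rw [natCard_fixedPoints, natCard_fixedPoints] at this
  simpa using this

end Cfsg.Agent.S2271
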