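import Cfsg.Statements.S2272
import Cfsg.Agent.Lib.Helper44ClsProd
-- import your own Cfsg.Agent.* helpers here

set_option autoImplicit false
open Cfsg

namespace Cfsg.Agent.S2272


/-- Let F be a finite field and d ≥ 3, and let a, b be non-identity elements of PSL_d(F). Then the product of the conjugacy classes of a and b is not a single conjugacy class: there are conjugates a′ of a and b′ of b such that a′b′ is not conjugate to ab. -/
theorem result {F : Type*} [Field F] [Fintype F] (d : ℕ) (hd : 3 ≤ d)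
    (a b : Matrix.ProjectiveSpecialLinearGroup (Fin d) F) (ha : a ≠ 1) (hb : b ≠ 1) :
    ∃ g h : Matrix.ProjectiveSpecialLinearGroup (Fin d) F, ¬ IsConj (a * b) (g * a * g⁻¹ * (h * b * h⁻¹)) := by
  classical
  obtain ⟨A, rfl⟩ := QuotientGroup.mk_surjective a
  obtain ⟨B, rfl⟩ := QuotientGroup.mk_surjective b
  have hns : ∀ X : Matrix.SpecialLinearGroup (Fin d) F,
      (QuotientGroup.mk X : Matrix.ProjectiveSpecialLinearGroup (Fin d) F) ≠ 1 →
      ¬ ∃ c : F, (X : Matrix (Fin d) (Fin d) F) = Matrix.scalar (Fin d) c := by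
    rintro X hX ⟨c, hc⟩
    apply hX
    rw [QuotientGroup.eq_one_iff, Matrix.SpecialLinearGroup.mem_center_iff]
    refine ⟨c, ?_, hc.symm⟩
    have := X.2
    rw [hc] at this
    simpa using this
  obtain ⟨G, H₁, H₂, h1, h2⟩ := Cfsg.Agent.Lib.Helper44ClsProd.exists_traces
    (by rw [Fintype.card_fin]; exact hd) A B (hns A ha) (hns B hb)
  by_contra hcon
  push Not at hcon
  have c1 := hcon (QuotientGroup.mk G) (QuotientGroup.mk H₁)
  have c2 := hcon (QuotientGroup.mk G) (QuotientGroup.mk H₂)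
  have c3 := c1.symm.trans c2
  exact h2 ((Cfsg.Agent.Lib.Helper44ClsProd.trace_zero_iff_of_isConj
    (G * A * G⁻¹ * (H₁ * B * H₁⁻¹)) (G * A * G⁻¹ * (H₂ * B * H₂⁻¹)) c3).1 h1)

end Cfsg.Agent.S2272
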