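import Cfsg.Statements.S2277
import Mathlib

set_option autoImplicit false
set_option linter.style.haveILetI false
open Cfsg

namespace Cfsg.Agent.S2277

section abstract
variable {A : Type*} [CommGroup A]

/-- the norm of an automorphism of order dividing `p` is fixed -/
lemma norm_fixed (p : ℕ) (τ : MulAut A) (hτ : τ ^ p = 1) (w : A) :
    τ (∏ k ∈ Finset.range p, (τ ^ k) w) = ∏ k ∈ Finset.range p, (τ ^ k) w := by
  rw [map_prod]
  have h1 := Finset.prod_range_succ (fun k => (τ ^ k) w) p
  have h2 := Finset.prod_range_succ' (fun k => (τ ^ k) w) p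
  rw [h1] at h2
  simp only [hτ, pow_zero, MulAut.one_apply] at h2
  have h3 := mul_right_cancel h2
  rw [h3]
  apply Finset.prod_congr rfl
  intro k _
  rw [pow_succ', MulAut.mul_apply]

lemma key [Finite A] (p : ℕ) (hcop : (Nat.card A).Coprime p) (γ ζ : MulAut A)
    (hγζ : Commute γ ζ) (hζp : ζ ^ p = 1)
    (hfix : ∀ l : ℤ, ¬ (p : ℤ) ∣ l → ∀ a, (ζ ^ l) a = a → a = 1)
    (w : ℕ → A) (hw : ∀ i, γ (w i) = (ζ ^ (-(i : ℤ))) (w i))
    (hprod : ∏ i ∈ Finset.range p, w i = 1) (j : ℕ) (hj : j < p) : w j = 1 := by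
  set σ : MulAut A := ζ ^ (j : ℤ) * γ with hσ
  have hcomm : ∀ l : ℤ, Commute σ (ζ ^ l) := by
    intro l
    apply Commute.mul_left
    · exact (Commute.refl ζ).zpow_zpow _ _
    · exact hγζ.zpow_right l
  have h1 : ∀ i k : ℕ, (σ ^ k) (w i) = ((ζ ^ ((j : ℤ) - i)) ^ k) (w i) := by
    intro i k
    induction k with
    | zero => simp
    | succ k ih =>
      rw [pow_succ, MulAut.mul_apply]
      have e : σ (w i) = (ζ ^ ((j : ℤ) - i)) (w i) := by
        rw [hσ, MulAut.mul_apply, hw, ← MulAut.mul_apply, ← zpow_add, sub_eq_add_neg]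
      rw [e, ← MulAut.mul_apply, ((hcomm _).pow_left k).eq, MulAut.mul_apply, ih, ← MulAut.mul_apply,
        ← pow_succ']
  have h2 : ∏ k ∈ Finset.range p, (σ ^ k) (∏ i ∈ Finset.range p, w i) = 1 := by
    rw [hprod]
    simp
  simp only [map_prod] at h2
  rw [Finset.prod_comm] at h2
  rw [Finset.prod_eq_single j] at h2
  · simp only [h1, sub_self, zpow_zero, one_pow, MulAut.one_apply, Finset.prod_const,
      Finset.card_range] at h2
    have h3 : orderOf (w j) ∣ p := orderOf_dvd_of_pow_eq_one h2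
    have h4 : orderOf (w j) ∣ Nat.card A := orderOf_dvd_natCard _
    have h5 : orderOf (w j) = 1 := Nat.eq_one_of_dvd_coprimes hcop h4 h3
    exact orderOf_eq_one_iff.mp h5
  · intro i hi hij
    simp only [h1]
    apply hfix ((j : ℤ) - i)
    · intro hd
      rw [Finset.mem_range] at hi
      apply hij
      obtain ⟨t, ht⟩ := hd
      have ht0 : t = 0 := by
        by_contra ht0
        have hp : (0 : ℤ) < p := by omega
        rcases lt_or_gt_of_ne ht0 with h | h
        · have : (p : ℤ) * t ≤ p * (-1) := by nlinarith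
          omega
        · have : (p : ℤ) * 1 ≤ p * t := by nlinarith
          omega
      rw [ht0] at ht
      omega
    · apply norm_fixed
      rw [← zpow_natCast, ← zpow_mul, mul_comm, zpow_mul, zpow_natCast, hζp, one_zpow]
  · intro h
    exact absurd (Finset.mem_range.mpr hj) h

/-- the main counting lemma -/
lemma card_fix_pow_le [Finite A] (p : ℕ) (hcop : (Nat.card A).Coprime p) (γ ζ ε : MulAut A)
    (hγζ : Commute γ ζ) (hεζ : Commute ε ζ) (hε : ε * γ * ε⁻¹ = ζ * γ) (hζp : ζ ^ p = 1)
    (hfix : ∀ l : ℤ, ¬ (p : ℤ) ∣ l → ∀ a, (ζ ^ l) a = a → a = 1) :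
    (Nat.card {a : A // γ a = a}) ^ p ≤ Nat.card A := by
  have hconj : ∀ i : ℕ, γ * ε ^ i = ζ ^ (-(i : ℤ)) * (ε ^ i * γ) := by
    intro i
    induction i with
    | zero => simp
    | succ i ih =>
      have e1 : ε * γ = ζ * γ * ε := by rw [← hε]; group
      have e2 : γ * ε = ζ⁻¹ * (ε * γ) := by rw [e1]; group
      rw [pow_succ, ← mul_assoc, ih, mul_assoc, mul_assoc, e2, ← mul_assoc (ε ^ i),
        ((hεζ.pow_left i).inv_right).eq]
      push_cast
      rw [neg_add, zpow_add, zpow_neg_one]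
      group
  let f : (Fin p → {a : A // γ a = a}) → A := fun v => ∏ i ∈ Finset.range p,
    (ε ^ i) (if h : i < p then (v ⟨i, h⟩ : A) else 1)
  have hf : Function.Injective f := by
    intro v v' hvv
    funext j
    apply Subtype.ext
    have := key p hcop γ ζ hγζ hζp hfix
      (fun i => (ε ^ i) ((if h : i < p then (v ⟨i, h⟩ : A) else 1) /
        (if h : i < p then (v' ⟨i, h⟩ : A) else 1))) ?_ ?_ j j.2
    · simp only [j.2, dite_true, Fin.eta] at this
      have h2 : ((v j : A) / (v' j : A)) = 1 := by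
        apply (ε ^ (j : ℕ)).injective
        rw [this, map_one]
      exact div_eq_one.mp h2
    · intro i
      rw [← MulAut.mul_apply, hconj, MulAut.mul_apply, MulAut.mul_apply]
      congr 2
      rw [map_div]
      by_cases h : i < p
      · simp only [h, dite_true]
        rw [(v ⟨i, h⟩).2, (v' ⟨i, h⟩).2]
      · simp [h]
    · simp only [map_div]
      rw [Finset.prod_div_distrib]
      exact div_eq_one.mpr hvv
  have := Nat.card_le_card_of_injective f hf
  rwa [Nat.card_fun, Nat.card_eq_fintype_card (α := Fin p), Fintype.card_fin] at this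

end abstract

structure Hyp (p : ℕ) {G : Type*} [Group G] (P N : Subgroup G) (C D : Set G) : Prop where
  pP : IsPGroup p P
  nN : N.Normal
  cop : (Nat.card N).Coprime p
  sup : N ⊔ P = ⊤
  hC : Subgroup.closure C = P
  hD : Subgroup.closure D = P
  h : ∀ x ∈ N, ∀ c ∈ C, ∀ d ∈ D, IsPGroup p ↥(Subgroup.closure ({x * c * x⁻¹, d} : Set G))

variable {p : ℕ} {G : Type*} [Group G] {P N : Subgroup G} {C D : Set G}

lemma eq_one_of_pow {x : G} (hN : (Nat.card N).Coprime p) (hx : x ∈ N) {k : ℕ}
    (hk : x ^ (p ^ k) = 1) : x = 1 := by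
  have h1 : orderOf x ∣ Nat.card N := Subgroup.orderOf_dvd_natCard N hx
  have h2 : orderOf x ∣ p ^ k := orderOf_dvd_of_pow_eq_one hk
  exact orderOf_eq_one_iff.mp (Nat.eq_one_of_dvd_coprimes (hN.pow_right k) h1 h2)

lemma Hyp.disj (H : Hyp p P N C D) {y : G} (hN : y ∈ N) (hP : y ∈ P) : y = 1 := by
  obtain ⟨k, hk⟩ := H.pP ⟨y, hP⟩
  have hk' : y ^ (p ^ k) = 1 := by
    have := congrArg Subtype.val hk
    simpa using this
  exact eq_one_of_pow H.cop hN hk'

lemma Hyp.quot (H : Hyp p P N C D) (L : Subgroup G) [L.Normal] :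
    Hyp p (P.map (QuotientGroup.mk' L)) (N.map (QuotientGroup.mk' L))
      (QuotientGroup.mk' L '' C) (QuotientGroup.mk' L '' D) where
  pP := H.pP.map _
  nN := H.nN.map _ (QuotientGroup.mk'_surjective L)
  cop := Nat.Coprime.coprime_dvd_left (Subgroup.card_map_dvd _ _) H.cop
  sup := by
    rw [← Subgroup.map_sup, H.sup, ← MonoidHom.range_eq_map, MonoidHom.range_eq_top]
    exact QuotientGroup.mk'_surjective L
  hC := by rw [← MonoidHom.map_closure, H.hC]
  hD := by rw [← MonoidHom.map_closure, H.hD]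
  h := by
    rintro _ ⟨x, hx, rfl⟩ _ ⟨c, hc, rfl⟩ _ ⟨d, hd, rfl⟩
    have := (H.h x hx c hc d hd).map (QuotientGroup.mk' L)
    rw [MonoidHom.map_closure, Set.image_pair, map_mul, map_mul, map_inv] at this
    exact this

lemma Hyp.sub (H : Hyp p P N C D) (K : Subgroup G) (hPK : P ≤ K) :
    Hyp p (P.subgroupOf K) (N.subgroupOf K) (K.subtype ⁻¹' C) (K.subtype ⁻¹' D) where
  pP := H.pP.comap_subtype
  nN := H.nN.subgroupOf K
  cop := Nat.Coprime.coprime_dvd_left
    (Subgroup.card_comap_dvd_of_injective N K.subtype K.subtype_injective) H.cop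
  sup := by
    rw [eq_top_iff]
    intro k _
    have hk : (k : G) ∈ N ⊔ P := by rw [H.sup]; trivial
    have := H.nN
    obtain ⟨n, hn, g, hg, hng⟩ := Subgroup.mem_sup_of_normal_left.mp hk
    have hnK : n ∈ K := by
      have : n = k * g⁻¹ := by rw [← hng]; group
      rw [this]
      exact K.mul_mem k.2 (K.inv_mem (hPK hg))
    have : k = (⟨n, hnK⟩ : K) * (⟨g, hPK hg⟩ : K) := Subtype.ext hng.symm
    rw [this]
    exact Subgroup.mul_mem_sup (Subgroup.mem_subgroupOf.mpr hn) (Subgroup.mem_subgroupOf.mpr hg)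
  hC := by
    apply Subgroup.map_injective K.subtype_injective
    rw [MonoidHom.map_closure, Subgroup.subgroupOf_map_subtype, inf_of_le_left hPK,
      Set.image_preimage_eq_of_subset, H.hC]
    intro c hc
    have : c ∈ K := hPK (by rw [← H.hC]; exact Subgroup.subset_closure hc)
    exact ⟨⟨c, this⟩, rfl⟩
  hD := by
    apply Subgroup.map_injective K.subtype_injective
    rw [MonoidHom.map_closure, Subgroup.subgroupOf_map_subtype, inf_of_le_left hPK,
      Set.image_preimage_eq_of_subset, H.hD]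
    intro c hc
    have : c ∈ K := hPK (by rw [← H.hD]; exact Subgroup.subset_closure hc)
    exact ⟨⟨c, this⟩, rfl⟩
  h := by
    intro x hx c hc d hd
    have h1 := (H.h x.1 (Subgroup.mem_subgroupOf.mp hx) c.1 hc d.1 hd).comap_of_injective K.subtype
      K.subtype_injective
    apply h1.to_le
    rw [Subgroup.closure_le]
    rintro y (rfl | rfl)
    · exact Subgroup.subset_closure (by left; rfl)
    · exact Subgroup.subset_closure (by right; rfl)

lemma conj_pow {g x : G} (hc : g * (g * x * g⁻¹ * x⁻¹) = (g * x * g⁻¹ * x⁻¹) * g) (n : ℕ) :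
    g ^ n * x * (g ^ n)⁻¹ = (g * x * g⁻¹ * x⁻¹) ^ n * x := by
  set u := g * x * g⁻¹ * x⁻¹ with hu_def
  induction n with
  | zero => simp
  | succ n ih =>
    have e : g ^ (n + 1) * x * (g ^ (n + 1))⁻¹ = g * (g ^ n * x * (g ^ n)⁻¹) * g⁻¹ := by
      rw [pow_succ']; group
    have hc' : g * u ^ n = u ^ n * g := ((show Commute g u from hc).pow_right n).eq
    rw [e, ih, ← mul_assoc, hc', pow_succ, mul_assoc, mul_assoc, mul_assoc]
    congr 1
    rw [hu_def]; group

/-- an element of `N` of the form `[g, x]` commuting with the `p`-element `g` is trivial -/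
lemma comm_eq_one (hN : (Nat.card N).Coprime p) {g x : G} {k : ℕ} (hg : g ^ (p ^ k) = 1)
    (hu : g * x * g⁻¹ * x⁻¹ ∈ N) (hc : g * (g * x * g⁻¹ * x⁻¹) = (g * x * g⁻¹ * x⁻¹) * g) :
    g * x * g⁻¹ * x⁻¹ = 1 := by
  set u := g * x * g⁻¹ * x⁻¹ with hu_def
  have h1 : ∀ n : ℕ, g ^ n * x * (g ^ n)⁻¹ = u ^ n * x := by
    intro n
    induction n with
    | zero => simp
    | succ n ih =>
      have e : g ^ (n + 1) * x * (g ^ (n + 1))⁻¹ = g * (g ^ n * x * (g ^ n)⁻¹) * g⁻¹ := by
        rw [pow_succ']; group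
      have hc' : g * u ^ n = u ^ n * g := ((show Commute g u from hc).pow_right n).eq
      rw [e, ih, ← mul_assoc, hc', pow_succ, mul_assoc, mul_assoc, mul_assoc]
      congr 1
      rw [hu_def]; group
  have h2 := h1 (p ^ k)
  rw [hg] at h2
  simp only [one_mul, inv_one, mul_one] at h2
  apply eq_one_of_pow hN hu (k := k)
  exact (mul_eq_right.mp h2.symm)


lemma card_fix_group [Finite G] [N.Normal] (habel : ∀ a ∈ N, ∀ b ∈ N, a * b = b * a)
    (hcop : (Nat.card N).Coprime p) (c z e : G) (hcz : Commute c z) (hez : Commute e z)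
    (he : e * c * e⁻¹ = z * c) (hzp : z ^ p = 1)
    (hfix : ∀ l : ℤ, ¬ (p : ℤ) ∣ l → ∀ a ∈ N, z ^ l * a = a * z ^ l → a = 1) :
    (Nat.card {a : N // c * (a : G) = a * c}) ^ p ≤ Nat.card N := by
  letI : CommGroup N := { (inferInstance : Group N) with
    mul_comm := fun a b => Subtype.ext (habel a a.2 b b.2) }
  have key := card_fix_pow_le (A := N) p hcop (MulAut.conjNormal c) (MulAut.conjNormal z)
    (MulAut.conjNormal e) (hcz.map _) (hez.map _)
    (by rw [← map_inv, ← map_mul, ← map_mul, ← map_mul, he])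
    (by rw [← map_pow, hzp, map_one])
    (by
      intro l hl a ha
      rw [← map_zpow] at ha
      have h1 := congrArg Subtype.val ha
      rw [MulAut.conjNormal_apply] at h1
      apply Subtype.ext
      apply hfix l hl a a.2
      conv_rhs => rw [← h1]
      group)
  have e1 : Nat.card {a : N // c * (a : G) = a * c} =
      Nat.card {a : N // (MulAut.conjNormal c) a = a} := by
    apply Nat.card_congr
    apply Equiv.subtypeEquivRight
    intro a
    constructor
    · intro h
      apply Subtype.ext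
      rw [MulAut.conjNormal_apply, h]
      group
    · intro h
      have h1 := congrArg Subtype.val h
      rw [MulAut.conjNormal_apply] at h1
      conv_rhs => rw [← h1]
      group
  rw [e1]
  exact key

lemma Hyp.not_dvd_index [Finite G] (H : Hyp p P N C D) (hp : p.Prime) : ¬ p ∣ P.index := by
  intro hd
  have := H.nN
  have h1 : Nat.card (N ⊔ P : Subgroup G) ∣ Nat.card N * Nat.card P := by
    have h1 := Subgroup.relIndex_mul_relIndex ⊥ N (N ⊔ P) bot_le le_sup_left
    rw [Subgroup.relIndex_bot_left, Subgroup.relIndex_bot_left, Subgroup.relIndex_sup_left] at h1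
    rw [← h1]
    exact Nat.mul_dvd_mul_left _ (Subgroup.relIndex_dvd_card N P)
  rw [H.sup, Subgroup.card_top, ← Subgroup.index_mul_card P] at h1
  have h2 : P.index ∣ Nat.card N := Nat.dvd_of_mul_dvd_mul_right Nat.card_pos h1
  have h3 : p ∣ Nat.card N := hd.trans h2
  have h4 := Nat.eq_one_of_dvd_coprimes H.cop h3 dvd_rfl
  exact hp.one_lt.ne' h4

lemma Hyp.comm_of_conj_mem (H : Hyp p P N C D) {a y : G} (ha : a ∈ P) (hy : y ∈ N)
    (h : y⁻¹ * a * y ∈ P) : a * y = y * a := by
  have h1 : a⁻¹ * (y⁻¹ * a * y) ∈ P := P.mul_mem (P.inv_mem ha) h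
  have h2 : a⁻¹ * (y⁻¹ * a * y) ∈ N := by
    have e : a⁻¹ * (y⁻¹ * a * y) = (a⁻¹ * y⁻¹ * a⁻¹⁻¹) * y := by group
    rw [e]
    exact N.mul_mem (H.nN.conj_mem _ (N.inv_mem hy) _) hy
  have h3 := H.disj h2 h1
  have : y⁻¹ * a * y = a := by
    have := congrArg (fun t => a * t) h3
    simpa using this
  calc a * y = y * (y⁻¹ * a * y) := by group
    _ = y * a := by rw [this]

lemma Hyp.fact [Finite G] [hp : Fact p.Prime] (H : Hyp p P N C D) {x c d : G} (hx : x ∈ N)
    (hc : c ∈ C) (hd : d ∈ D) :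
    ∃ y ∈ N, ∃ t ∈ N, x = y * t ∧ d * y = y * d ∧ c * t = t * c := by
  have hcP : c ∈ P := by rw [← H.hC]; exact Subgroup.subset_closure hc
  have hdP : d ∈ P := by rw [← H.hD]; exact Subgroup.subset_closure hd
  obtain ⟨Q, hQ⟩ := (H.h x hx c hc d hd).exists_le_sylow
  obtain ⟨g, hg⟩ := MulAction.exists_smul_eq G (H.pP.toSylow (H.not_dvd_index hp.out)) Q
  have hgm : g ∈ N ⊔ P := by rw [H.sup]; trivial
  have := H.nN
  obtain ⟨y, hy, h, hh, rfl⟩ := Subgroup.mem_sup_of_normal_left.mp hgm
  have hmem : ∀ s ∈ (Q : Subgroup G), y⁻¹ * s * y ∈ P := by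
    intro s hs
    rw [← hg, Sylow.coe_subgroup_smul, Subgroup.mem_pointwise_smul_iff_inv_smul_mem,
      IsPGroup.toSylow_coe, MulAut.smul_def, ← map_inv, MulAut.conj_apply] at hs
    have e : y⁻¹ * s * y = h * ((y * h)⁻¹ * s * (y * h)⁻¹⁻¹) * h⁻¹ := by group
    rw [e]
    exact P.mul_mem (P.mul_mem hh hs) (P.inv_mem hh)
  have h1 := hmem d (hQ (Subgroup.subset_closure (by right; rfl)))
  have h2 := hmem _ (hQ (Subgroup.subset_closure (by left; rfl)))
  refine ⟨y, hy, y⁻¹ * x, N.mul_mem (N.inv_mem hy) hx, by group, H.comm_of_conj_mem hdP hy h1, ?_⟩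
  have h3 : ((y⁻¹ * x)⁻¹)⁻¹ * c * (y⁻¹ * x)⁻¹ ∈ P := by
    have e : ((y⁻¹ * x)⁻¹)⁻¹ * c * (y⁻¹ * x)⁻¹ = y⁻¹ * (x * c * x⁻¹) * y := by group
    rw [e]; exact h2
  have h4 := H.comm_of_conj_mem hcP (N.inv_mem (N.mul_mem (N.inv_mem hy) hx)) h3
  have h5 := ((show Commute c (y⁻¹ * x)⁻¹ from h4).inv_right).eq
  rwa [inv_inv] at h5

/-- a non-abelian `p`-group has a non-central element `e` with `e ^ p` and all `[e, g]` central -/
lemma exists_second_center {R : Type*} [Group R] [Finite R] [hp : Fact p.Prime] (hR : IsPGroup p R)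
    (hnc : ¬ ∀ a b : R, a * b = b * a) :
    ∃ e : R, e ∉ Subgroup.center R ∧ e ^ p ∈ Subgroup.center R ∧
      ∀ g : R, e * g * e⁻¹ * g⁻¹ ∈ Subgroup.center R := by
  have hnt : Nontrivial (R ⧸ Subgroup.center R) := by
    by_contra hcon
    rw [not_nontrivial_iff_subsingleton] at hcon
    apply hnc
    intro a b
    have : a ∈ Subgroup.center R := by
      rw [← QuotientGroup.eq_one_iff]
      exact Subsingleton.elim _ _
    exact (Subgroup.mem_center_iff.mp this b).symm
  have hq := hR.to_quotient (Subgroup.center R)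
  have hnt2 := hq.center_nontrivial
  have hpc : IsPGroup p (Subgroup.center (R ⧸ Subgroup.center R)) := hq.to_subgroup _
  have hdvd : p ∣ Nat.card (Subgroup.center (R ⧸ Subgroup.center R)) := by
    obtain ⟨k, hk⟩ := hpc.exists_card_eq
    rw [hk]
    have : k ≠ 0 := by
      rintro rfl
      rw [pow_zero] at hk
      have := Finite.one_lt_card (α := Subgroup.center (R ⧸ Subgroup.center R))
      omega
    exact dvd_pow_self p this
  obtain ⟨⟨eb, heb⟩, ho⟩ := exists_prime_orderOf_dvd_card' p hdvd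
  obtain ⟨e, rfl⟩ := QuotientGroup.mk_surjective eb
  have ho' : orderOf (e : R ⧸ Subgroup.center R) = p := by
    rw [← ho]
    exact (Subgroup.orderOf_mk _ _).symm
  refine ⟨e, ?_, ?_, ?_⟩
  · intro he
    rw [← QuotientGroup.eq_one_iff] at he
    rw [he, orderOf_one] at ho'
    exact hp.out.one_lt.ne ho'
  · rw [← QuotientGroup.eq_one_iff, QuotientGroup.mk_pow, ← ho']
    exact pow_orderOf_eq_one _
  · intro g
    rw [← QuotientGroup.eq_one_iff, QuotientGroup.mk_mul, QuotientGroup.mk_mul, QuotientGroup.mk_mul,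
      QuotientGroup.mk_inv, QuotientGroup.mk_inv, ← Subgroup.mem_center_iff.mp heb (g : R ⧸ _)]
    group


open scoped Pointwise in
lemma exists_invariant_sylow [Finite G] {q : ℕ} [Fact p.Prime] [Fact q.Prime] (P : Subgroup G)
    (hP : IsPGroup p P) (K : Subgroup G) [K.Normal] (hK : ¬ p ∣ Nat.card K) :
    ∃ Q' : Sylow q K, ∀ u ∈ P, ∀ y : K, y ∈ Q' → MulAut.conjNormal u y ∈ Q' := by
  letI : MulAction P (Sylow q K) :=
    MulAction.compHom (Sylow q K) ((MulAut.conjNormal (H := K)).comp P.subtype)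
  have hnd : ¬ p ∣ Nat.card (Sylow q K) := by
    intro hd
    obtain ⟨Q0⟩ : Nonempty (Sylow q K) := inferInstance
    exact hK ((hd.trans Q0.card_dvd_index).trans (Subgroup.index_dvd_card _))
  obtain ⟨Q', hQ'⟩ := hP.nonempty_fixed_point_of_prime_not_dvd_card (Sylow q K) hnd
  refine ⟨Q', fun u hu y hy => ?_⟩
  have h1 : (MulAut.conjNormal u : MulAut K) • Q' = Q' := hQ' ⟨u, hu⟩
  have h2 : (MulAut.conjNormal u : MulAut K) • y ∈
      (MulAut.conjNormal u : MulAut K) • (Q' : Subgroup K) :=
    Subgroup.smul_mem_pointwise_smul y _ _ hy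
  rw [← Sylow.pointwise_smul_def, h1] at h2
  exact h2

lemma arith {p a b m : ℕ} (hp3 : 3 ≤ p) (ha : a ^ p ≤ m) (hb : b ^ p ≤ m) (hm : m ≤ a * b) :
    m ≤ 1 := by
  by_contra hcon
  have h2 : 2 ≤ m := by omega
  have h1 : m ^ p ≤ m * m := by
    calc m ^ p ≤ (a * b) ^ p := Nat.pow_le_pow_left hm p
      _ = a ^ p * b ^ p := mul_pow a b p
      _ ≤ m * m := Nat.mul_le_mul ha hb
  have h3 : m ^ 3 ≤ m ^ p := Nat.pow_le_pow_right (by omega) hp3
  have h4 : m ^ 3 = m * m * m := by ring
  have h5 : m * m * 2 ≤ m * m * m := Nat.mul_le_mul_left _ h2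
  have h6 : 0 < m * m := Nat.mul_pos (by omega) (by omega)
  omega

universe u

theorem main (p : ℕ) [hp : Fact p.Prime] (hp3 : 3 ≤ p) (n : ℕ) :
    ∀ (G : Type u) [Group G] [Finite G], Nat.card G ≤ n → ∀ (P N : Subgroup G) (C D : Set G),
      Hyp p P N C D → ∀ g ∈ P, ∀ x ∈ N, g * x * g⁻¹ * x⁻¹ = 1 := by
  induction n with
  | zero =>
    intro G _ _ hn
    have := Nat.card_pos (α := G)
    omega
  | succ n ih =>
    intro G _ _ hn P N C D H
    by_contra hcon
    push Not at hcon
    obtain ⟨g₀, hg₀, x₀, hx₀, hne⟩ := hcon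
    have hNn := H.nN
    -- (A)
    have hA : ∀ L : Subgroup G, L.Normal → L ≠ ⊥ → ∀ g ∈ P, ∀ x ∈ N, g * x * g⁻¹ * x⁻¹ ∈ L := by
      intro L hL hL0 g hg x hx
      have hcard : Nat.card (G ⧸ L) ≤ n := by
        have h1 := Subgroup.card_eq_card_quotient_mul_card_subgroup L
        have h2 := (Subgroup.one_lt_card_iff_ne_bot L).mpr hL0
        have h3 : 0 < Nat.card (G ⧸ L) := Nat.card_pos
        have h4 : Nat.card (G ⧸ L) * 2 ≤ Nat.card (G ⧸ L) * Nat.card L := Nat.mul_le_mul_left _ h2
        omega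
      have := ih (G ⧸ L) hcard _ _ _ _ (H.quot L) _ (Subgroup.mem_map_of_mem _ hg) _
        (Subgroup.mem_map_of_mem _ hx)
      rw [← map_inv, ← map_inv, ← map_mul, ← map_mul, ← map_mul] at this
      exact (QuotientGroup.eq_one_iff _).mp this
    -- (B)
    have hB : ∀ K : Subgroup G, P ≤ K → K ≠ ⊤ → ∀ g ∈ P, ∀ x ∈ N, x ∈ K →
        g * x * g⁻¹ * x⁻¹ = 1 := by
      intro K hPK hK g hg x hx hxK
      have hcard : Nat.card K ≤ n := by
        have h1 := Subgroup.card_le_card_group K
        have h2 : Nat.card K ≠ Nat.card G := fun h => hK (Subgroup.eq_top_of_card_eq K h)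
        omega
      have := ih K hcard _ _ _ _ (H.sub K hPK) ⟨g, hPK hg⟩ (Subgroup.mem_subgroupOf.mpr hg)
        ⟨x, hxK⟩ (Subgroup.mem_subgroupOf.mpr hx)
      exact congrArg Subtype.val this
    have hu₀N : g₀ * x₀ * g₀⁻¹ * x₀⁻¹ ∈ N :=
      N.mul_mem (hNn.conj_mem _ hx₀ _) (N.inv_mem hx₀)
    obtain ⟨k₀, hk₀⟩ : ∃ k, g₀ ^ (p ^ k) = 1 := by
      obtain ⟨k, hk⟩ := H.pP ⟨g₀, hg₀⟩
      exact ⟨k, by simpa using congrArg Subtype.val hk⟩
    -- Step 1 : N is a minimal normal subgroup
    have hmin : ∀ L : Subgroup G, L.Normal → L ≠ ⊥ → L ≤ N → N ≤ L := by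
      intro L hL hL0 hLN
      by_cases hT : L ⊔ P = ⊤
      · intro x hx
        have hx' : x ∈ L ⊔ P := by rw [hT]; trivial
        obtain ⟨l, hl, g, hg, rfl⟩ := Subgroup.mem_sup_of_normal_left.mp hx'
        have hgN : g ∈ N := by
          have e : g = l⁻¹ * (l * g) := by group
          rw [e]
          exact N.mul_mem (N.inv_mem (hLN hl)) hx
        rw [H.disj hgN hg, mul_one]
        exact hl
      · exfalso
        apply hne
        have hu := hA L hL hL0 g₀ hg₀ x₀ hx₀
        have h1 := hB (L ⊔ P) le_sup_right hT g₀ hg₀ _ hu₀N (Subgroup.mem_sup_left hu)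
        apply comm_eq_one H.cop hk₀ hu₀N
        have h2 := mul_inv_eq_one.mp h1
        exact mul_inv_eq_iff_eq_mul.mp h2
    have hx₀1 : x₀ ≠ 1 := by
      rintro rfl
      apply hne
      group
    have hpN : ¬ p ∣ Nat.card N := by
      intro h3
      exact hp.out.one_lt.ne' (Nat.eq_one_of_dvd_coprimes H.cop h3 dvd_rfl)
    -- Step 2 : N is abelian
    have habel : ∀ a ∈ N, ∀ b ∈ N, a * b = b * a := by
      set Kc : Subgroup N := (Subgroup.centralizer (P : Set G)).subgroupOf N with hKc
      have hKc1 : Kc.index ≠ 1 := by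
        intro h1
        rw [Subgroup.index_eq_one] at h1
        have h2 : (⟨x₀, hx₀⟩ : N) ∈ Kc := by rw [h1]; trivial
        rw [hKc, Subgroup.mem_subgroupOf, Subgroup.mem_centralizer_iff] at h2
        apply hne
        rw [h2 g₀ hg₀]
        group
      have hq : Fact (Nat.minFac Kc.index).Prime := ⟨Nat.minFac_prime hKc1⟩
      set q := Nat.minFac Kc.index with hqdef
      obtain ⟨Q, hQ⟩ := exists_invariant_sylow (q := q) P H.pP N hpN
      have hQK : ¬ (Q : Subgroup N) ≤ Kc := by
        intro hle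
        exact Q.not_dvd_index ((Nat.minFac_dvd _).trans (Subgroup.index_dvd_of_le hle))
      obtain ⟨y, hyQ, hyK⟩ := SetLike.not_le_iff_exists.mp hQK
      set Q' : Subgroup G := (Q : Subgroup N).map N.subtype with hQ'
      have hQ'N : Q' ≤ N := by
        rintro _ ⟨a, _, rfl⟩
        exact a.2
      have hyQ' : (y : G) ∈ Q' := ⟨y, hyQ, rfl⟩
      have hconj : ∀ u ∈ P, ∀ s ∈ Q', u * s * u⁻¹ ∈ Q' := by
        rintro u hu _ ⟨a, ha, rfl⟩
        exact ⟨_, hQ u hu a ha, rfl⟩
      have hPn : P ≤ Subgroup.normalizer (Q' : Set G) := by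
        intro u hu
        rw [Subgroup.mem_normalizer_iff]
        intro s
        refine ⟨hconj u hu s, fun h => ?_⟩
        have := hconj u⁻¹ (P.inv_mem hu) _ h
        simpa [mul_assoc] using this
      by_cases hT : Subgroup.normalizer (Q' : Set G) = ⊤
      · have hQn : Q'.Normal := Subgroup.normalizer_eq_top_iff.mp hT
        have hQ0 : Q' ≠ ⊥ := by
          intro h0
          rw [h0, Subgroup.mem_bot] at hyQ'
          apply hyK
          have : y = 1 := Subtype.ext hyQ'
          rw [this]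
          exact Kc.one_mem
        have hNQ := hmin Q' hQn hQ0 hQ'N
        have hNq : IsPGroup q N := by
          intro a
          obtain ⟨b, hb, hba⟩ := hNQ a.2
          have hab : b = a := Subtype.ext hba
          obtain ⟨k, hk⟩ := Q.isPGroup' ⟨b, hb⟩
          refine ⟨k, ?_⟩
          rw [← hab]
          exact congrArg Subtype.val hk
        have hnt : Nontrivial N := ⟨⟨⟨x₀, hx₀⟩, 1, fun h => hx₀1 (congrArg Subtype.val h)⟩⟩
        have hcn := hNq.center_nontrivial
        have hLn : ((Subgroup.center N).map N.subtype).Normal :=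
          ConjAct.normal_of_characteristic_of_normal
        have hL0 : (Subgroup.center N).map N.subtype ≠ ⊥ := by
          intro h0
          rw [Subgroup.map_eq_bot_iff_of_injective _ N.subtype_injective] at h0
          rw [h0] at hcn
          exact not_subsingleton _ (inferInstance : Subsingleton (⊥ : Subgroup N))
        have hLN : (Subgroup.center N).map N.subtype ≤ N := by
          rintro _ ⟨a, _, rfl⟩
          exact a.2
        have hle := hmin _ hLn hL0 hLN
        intro a ha b hb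
        obtain ⟨a', ha', rfl⟩ := hle ha
        have := Subgroup.mem_center_iff.mp ha' ⟨b, hb⟩
        exact (congrArg Subtype.val this).symm
      · exfalso
        apply hyK
        rw [hKc, Subgroup.mem_subgroupOf, Subgroup.mem_centralizer_iff]
        intro g hg
        have h1 := hB _ hPn hT g hg y y.2 (Subgroup.le_normalizer hyQ')
        have h2 := mul_inv_eq_one.mp h1
        exact mul_inv_eq_iff_eq_mul.mp h2
    have hdecomp : ∀ t : G, ∃ a ∈ N, ∃ b ∈ P, t = a * b := by
      intro t
      have ht : t ∈ N ⊔ P := by rw [H.sup]; trivial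
      obtain ⟨a, ha, b, hb, rfl⟩ := Subgroup.mem_sup_of_normal_left.mp ht
      exact ⟨a, ha, b, hb, rfl⟩
    -- Step 3 : non-trivial central elements of P act fixed point freely
    have hZ : ∀ z ∈ P, (∀ g ∈ P, g * z = z * g) → z ≠ 1 → ∀ x ∈ N, z * x = x * z → x = 1 := by
      intro z hz hzc hz1 x hx hzx
      by_contra hx1
      have hL1n : (N ⊓ Subgroup.centralizer {z}).Normal := by
        constructor
        intro a ha t
        obtain ⟨haN, haz⟩ := Subgroup.mem_inf.mp ha
        rw [Subgroup.mem_centralizer_singleton_iff] at haz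
        refine Subgroup.mem_inf.mpr ⟨hNn.conj_mem a haN t, ?_⟩
        rw [Subgroup.mem_centralizer_singleton_iff]
        obtain ⟨m, hm, b, hb, rfl⟩ := hdecomp t
        have h1 : b * a * b⁻¹ ∈ N := hNn.conj_mem a haN b
        have e : m * b * a * (m * b)⁻¹ = b * a * b⁻¹ := by
          have : m * b * a * (m * b)⁻¹ = m * (b * a * b⁻¹) * m⁻¹ := by group
          rw [this, habel m hm _ h1]
          group
        rw [e]
        have hbz := hzc b hb
        have hbz' : b⁻¹ * z = z * b⁻¹ := hzc _ (P.inv_mem hb)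
        calc b * a * b⁻¹ * z = b * a * (b⁻¹ * z) := by group
          _ = b * (a * z) * b⁻¹ := by rw [hbz']; group
          _ = (b * z) * a * b⁻¹ := by rw [haz]; group
          _ = z * (b * a * b⁻¹) := by rw [hbz]; group
      have hL10 : N ⊓ Subgroup.centralizer {z} ≠ ⊥ := by
        intro h0
        have : x ∈ N ⊓ Subgroup.centralizer {z} :=
          ⟨hx, Subgroup.mem_centralizer_singleton_iff.mpr hzx.symm⟩
        rw [h0] at this
        exact hx1 this
      have hle := hmin _ hL1n hL10 inf_le_left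
      have hzG : ∀ t : G, t * z = z * t := by
        intro t
        obtain ⟨m, hm, b, hb, rfl⟩ := hdecomp t
        have h1 : m * z = z * m := Subgroup.mem_centralizer_singleton_iff.mp (hle hm).2
        rw [mul_assoc, hzc b hb, ← mul_assoc, h1, mul_assoc]
      have hL2n : (Subgroup.zpowers z).Normal := by
        constructor
        intro a ha t
        obtain ⟨k, rfl⟩ := Subgroup.mem_zpowers_iff.mp ha
        have : t * z ^ k * t⁻¹ = z ^ k := by
          rw [((show Commute t z from hzG t).zpow_right k).eq]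
          group
        rw [this]
        exact Subgroup.zpow_mem_zpowers z k
      have hL20 : Subgroup.zpowers z ≠ ⊥ := by
        intro h0
        exact hz1 (Subgroup.zpowers_eq_bot.mp h0)
      have h1 := hA _ hL2n hL20 g₀ hg₀ x₀ hx₀
      have h2 : Subgroup.zpowers z ≤ P := by
        rw [Subgroup.zpowers_le]; exact hz
      exact hne (H.disj hu₀N (h2 h1))
    -- Step 4
    have hex : ∀ S : Set G, Subgroup.closure S = P →
        ∃ c ∈ S, (Nat.card {a : N // c * (a : G) = a * c}) ^ p ≤ Nat.card N := by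
      intro S hS
      have hSP : ∀ c ∈ S, c ∈ P := fun c hc => by rw [← hS]; exact Subgroup.subset_closure hc
      by_cases hab : ∀ a b : P, a * b = b * a
      · obtain ⟨c, hc, hc1⟩ : ∃ c ∈ S, c ≠ 1 := by
          by_contra hcon
          push Not at hcon
          have h1 : Subgroup.closure S ≤ ⊥ := by
            rw [Subgroup.closure_le]
            intro c hc
            exact hcon c hc
          rw [hS] at h1
          have h2 : g₀ = 1 := h1 hg₀
          apply hne
          rw [h2]
          group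
        refine ⟨c, hc, ?_⟩
        have hcc : ∀ g ∈ P, g * c = c * g := fun g hg =>
          congrArg Subtype.val (hab ⟨g, hg⟩ ⟨c, hSP c hc⟩)
        have hsub : Subsingleton {a : N // c * (a : G) = a * c} := ⟨fun a b => by
          apply Subtype.ext
          apply Subtype.ext
          rw [hZ c (hSP c hc) hcc hc1 a.1 a.1.2 a.2, hZ c (hSP c hc) hcc hc1 b.1 b.1.2 b.2]⟩
        have h1 : Nat.card {a : N // c * (a : G) = a * c} ≤ 1 :=
          Finite.card_le_one_iff_subsingleton.mpr hsub
        calc (Nat.card {a : N // c * (a : G) = a * c}) ^ p ≤ 1 ^ p := Nat.pow_le_pow_left h1 p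
          _ = 1 := one_pow p
          _ ≤ Nat.card N := Nat.card_pos
      · obtain ⟨e, he1, he2, he3⟩ := exists_second_center H.pP hab
        obtain ⟨c, hc, hce⟩ : ∃ c ∈ S, c * (e : G) ≠ e * c := by
          by_contra hcon
          push Not at hcon
          apply he1
          have h1 : Subgroup.closure S ≤ Subgroup.centralizer {(e : G)} := by
            rw [Subgroup.closure_le]
            intro c hc
            exact Subgroup.mem_centralizer_singleton_iff.mpr (hcon c hc)
          rw [Subgroup.mem_center_iff]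
          intro g
          apply Subtype.ext
          have h2 : (g : G) ∈ Subgroup.closure S := by rw [hS]; exact g.2
          exact Subgroup.mem_centralizer_singleton_iff.mp (h1 h2)
        refine ⟨c, hc, ?_⟩
        have hcP := hSP c hc
        have hz' := he3 ⟨c, hcP⟩
        have hzP : (e : G) * c * (e : G)⁻¹ * c⁻¹ ∈ P :=
          P.mul_mem (P.mul_mem (P.mul_mem e.2 hcP) (P.inv_mem e.2)) (P.inv_mem hcP)
        have hzc : ∀ g ∈ P, g * ((e : G) * c * (e : G)⁻¹ * c⁻¹) =
            ((e : G) * c * (e : G)⁻¹ * c⁻¹) * g := by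
          intro g hg
          exact congrArg Subtype.val (Subgroup.mem_center_iff.mp hz' ⟨g, hg⟩)
        have hz1 : (e : G) * c * (e : G)⁻¹ * c⁻¹ ≠ 1 := by
          intro h1
          apply hce
          have h2 := mul_inv_eq_one.mp h1
          exact (mul_inv_eq_iff_eq_mul.mp h2).symm
        have hzp : ((e : G) * c * (e : G)⁻¹ * c⁻¹) ^ p = 1 := by
          have h1 := conj_pow (hzc e e.2) p
          have h2 : c * (e : G) ^ p = (e : G) ^ p * c :=
            congrArg Subtype.val (Subgroup.mem_center_iff.mp he2 ⟨c, hcP⟩)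
          rw [← h2] at h1
          have h3 : c * (e : G) ^ p * ((e : G) ^ p)⁻¹ = c := by group
          rw [h3] at h1
          exact mul_eq_right.mp h1.symm
        have hord : orderOf ((e : G) * c * (e : G)⁻¹ * c⁻¹) = p := orderOf_eq_prime hzp hz1
        apply card_fix_group habel H.cop c _ e (hzc c hcP) (hzc e e.2) (by group) hzp
        intro l hl a ha hcomm
        apply hZ _ (P.zpow_mem hzP l) _ _ a ha hcomm
        · intro g hg
          exact ((show Commute g _ from hzc g hg).zpow_right l).eq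
        · intro h1
          apply hl
          rw [← hord]
          exact orderOf_dvd_iff_zpow_eq_one.mpr h1
    -- Step 5
    obtain ⟨c, hc, hcb⟩ := hex C H.hC
    obtain ⟨d, hd, hdb⟩ := hex D H.hD
    have hsurj : Nat.card N ≤ Nat.card {a : N // c * (a : G) = a * c} *
        Nat.card {a : N // d * (a : G) = a * d} := by
      rw [← Nat.card_prod]
      apply Nat.card_le_card_of_surjective
        (fun ab : {a : N // c * (a : G) = a * c} × {a : N // d * (a : G) = a * d} => ab.2.1 * ab.1.1)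
      intro x
      obtain ⟨y, hy, t, ht, hxy, hdy, hct⟩ := H.fact x.2 hc hd
      exact ⟨(⟨⟨t, ht⟩, hct⟩, ⟨⟨y, hy⟩, hdy⟩), Subtype.ext hxy.symm⟩
    have hle1 := arith hp3 hcb hdb hsurj
    have hsub : Subsingleton N := Finite.card_le_one_iff_subsingleton.mp hle1
    apply hx₀1
    exact congrArg Subtype.val (Subsingleton.elim (⟨x₀, hx₀⟩ : N) 1)

/-- Let p ≥ 3 be prime and G a finite group with a Sylow p-subgroup P and a normal p-complement N (N normal, of order prime to p, with NP = G). Suppose P is generated by a subset C and also by a subset D, and that ⟨x c x⁻¹, d⟩ is a p-group for all x ∈ N, c ∈ C, d ∈ D. Then P centralizes N, so that G = N × P. -/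
theorem result {G : Type*} [Group G] [Finite G] (p : ℕ) [Fact p.Prime] (hp3 : 3 ≤ p) (P : Sylow p G)
    (N : Subgroup G) [N.Normal] (hN : (Nat.card N).Coprime p) (hNP : N ⊔ (P : Subgroup G) = ⊤)
    (C D : Set G) (hC : Subgroup.closure C = (P : Subgroup G)) (hD : Subgroup.closure D = (P : Subgroup G))
    (h : ∀ x ∈ N, ∀ c ∈ C, ∀ d ∈ D, IsPGroup p ↥(Subgroup.closure ({x * c * x⁻¹, d} : Set G))) :
    ⁅(P : Subgroup G), N⁆ = ⊥ := by
  rw [Subgroup.commutator_eq_bot_iff_le_centralizer]
  intro g hg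
  rw [Subgroup.mem_centralizer_iff]
  intro x hx
  have H : Hyp p (P : Subgroup G) N C D := ⟨P.isPGroup', inferInstance, hN, hNP, hC, hD, h⟩
  have h1 := main p hp3 (Nat.card G) G le_rfl _ _ _ _ H g hg x hx
  have h2 := mul_inv_eq_one.mp h1
  exact (mul_inv_eq_iff_eq_mul.mp h2).symm

end Cfsg.Agent.S2277
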