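import Cfsg.Statements.S2278
import Cfsg.Agent.Lib.Helper43SL3

set_option autoImplicit false
open Cfsg

namespace Cfsg.Agent.S2278

open Matrix Cfsg.Agent.Lib.Helper43Transv Cfsg.Agent.Lib.Helper43SL3

theorem exists_gen (F : Type*) [Field F] [Fintype F] (h24 : ¬ (Fintype.card F = 2 ∨ Fintype.card F = 4)) :
    ∃ γ : F, γ ≠ 0 ∧ γ ^ 3 ≠ 1 ∧ ∀ x : F, x ≠ 0 → ∃ k : ℕ, x = γ ^ (k + 1) := by
  classical
  obtain ⟨γ, hγ⟩ := IsCyclic.exists_generator (α := Fˣ)
  refine ⟨γ, γ.ne_zero, ?_, fun x hx => ?_⟩
  · intro h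
    have h1 : γ ^ 3 = 1 := by
      apply Units.ext
      simpa using h
    have h2 : orderOf γ ∣ 3 := orderOf_dvd_of_pow_eq_one h1
    have h3 : orderOf γ = Nat.card Fˣ := orderOf_eq_card_of_forall_mem_zpowers hγ
    have h4 : Nat.card Fˣ = Fintype.card F - 1 := by
      rw [Nat.card_eq_fintype_card, Fintype.card_units]
    rw [h3, h4] at h2
    have h5 : Fintype.card F - 1 = 1 ∨ Fintype.card F - 1 = 3 := (Nat.dvd_prime Nat.prime_three).1 h2
    apply h24
    rcases h5 with h5 | h5
    · left; omega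
    · right; omega
  · have h1 := hγ (Units.mk0 x hx)
    rw [← mem_powers_iff_mem_zpowers] at h1
    obtain ⟨k, hk⟩ := h1
    have hpos : 0 < orderOf γ := orderOf_pos γ
    refine ⟨k + orderOf γ - 1, ?_⟩
    have h2 : k + orderOf γ - 1 + 1 = k + orderOf γ := by omega
    rw [h2]
    have h3 : γ ^ (k + orderOf γ) = Units.mk0 x hx := by
      rw [pow_add, pow_orderOf_eq_one, mul_one]; exact hk
    have := congrArg Units.val h3
    simpa using this.symm

theorem small (F : Type*) [Field F] [Fintype F] (h24 : Fintype.card F = 2 ∨ Fintype.card F = 4) :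
    (2 : F) = 0 ∧ ∃ a : F, ∀ y : F, y = 0 ∨ y = 1 ∨ y = a ∨ y = a + 1 := by
  classical
  have hc := FiniteField.cast_card_eq_zero F
  rcases h24 with h | h
  · rw [h] at hc
    have h2 : (2 : F) = 0 := by exact_mod_cast hc
    refine ⟨h2, 0, fun y => ?_⟩
    have hy := FiniteField.pow_card y
    rw [h] at hy
    have : y * (y - 1) = 0 := by linear_combination hy
    rcases mul_eq_zero.1 this with h1 | h1
    · left; exact h1
    · right; left; exact sub_eq_zero.1 h1
  · rw [h] at hc
    have h4 : (4 : F) = 0 := by exact_mod_cast hc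
    have h2 : (2 : F) = 0 := by
      have : (2 : F) * 2 = 0 := by linear_combination h4
      exact mul_self_eq_zero.1 this
    refine ⟨h2, ?_⟩
    obtain ⟨a, -, ha⟩ : ∃ a ∈ (Finset.univ : Finset F), a ∉ ({0, 1} : Finset F) := by
      apply Finset.exists_mem_notMem_of_card_lt_card
      rw [Finset.card_univ, h]
      exact lt_of_le_of_lt (Finset.card_le_two) (by norm_num)
    have ha0 : a ≠ 0 := fun h0 => ha (by simp [h0])
    have ha1 : a - 1 ≠ 0 := fun h0 => ha (by simp [sub_eq_zero.1 h0])
    have hroot : ∀ y : F, y * (y - 1) * (y ^ 2 + y + 1) = 0 := by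
      intro y
      have hy := FiniteField.pow_card y
      rw [h] at hy
      linear_combination hy
    have haa : a ^ 2 + a + 1 = 0 :=
      (mul_eq_zero.1 (hroot a)).resolve_left (mul_ne_zero ha0 ha1)
    refine ⟨a, fun y => ?_⟩
    have : y * (y - 1) * ((y - a) * (y - (a + 1))) = 0 := by
      linear_combination hroot y + y * (y - 1) * haa + y * (y - 1) * (-(a + 1) * y - 1) * h2
    rcases mul_eq_zero.1 this with h1 | h1
    · rcases mul_eq_zero.1 h1 with h1 | h1
      · left; exact h1
      · right; left; exact sub_eq_zero.1 h1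
    · rcases mul_eq_zero.1 h1 with h1 | h1
      · right; right; left; exact sub_eq_zero.1 h1
      · right; right; right; exact sub_eq_zero.1 h1

/-- Let F be a finite field. Then SL_3(F) is generated by two conjugate regular unipotent elements: there are u with u − 1 nilpotent and (u − 1)² ≠ 0, and g, such that u and g u g⁻¹ generate SL_3(F). -/
theorem result {F : Type*} [Field F] [Fintype F] :
    ∃ u g : Matrix.SpecialLinearGroup (Fin 3) F, IsNilpotent ((u : Matrix (Fin 3) (Fin 3) F) - 1) ∧ ((u : Matrix (Fin 3) (Fin 3) F) - 1) ^ (3 - 1) ≠ 0 ∧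
      Subgroup.closure ({u, g * u * g⁻¹} : Set (Matrix.SpecialLinearGroup (Fin 3) F)) = ⊤ := by
  by_cases h24 : Fintype.card F = 2 ∨ Fintype.card F = 4
  · obtain ⟨h2, a, ha⟩ := small F h24
    refine ⟨uS F, gS2 h2 a, uM_nilpotent, uM_sq_ne_zero, ?_⟩
    rw [g_conj2]
    set H := Subgroup.closure ({uS F, vS a} : Set (Matrix.SpecialLinearGroup (Fin 3) F)) with hH
    have hu : uS F ∈ H := Subgroup.subset_closure (by simp)
    have hv : vS a ∈ H := Subgroup.subset_closure (by simp)
    apply top_of_root hu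
    intro y
    have r1 := root_one h2 a hv
    have ra := root_a h2 a hu hv
    rcases ha y with rfl | rfl | rfl | rfl
    · have := InH.zero (H := H) (b3 0 : Fin 3 → F)
      simpa using this
    · exact r1
    · have r := ra.add r1 (b0_dot 0 1)
      have e : ((0 : F) • b3 1 + (y + 1) • b3 2 : Fin 3 → F) + ((0 : F) • b3 1 + (1 : F) • b3 2)
          = (0 : F) • b3 1 + y • b3 2 := by
        ext i; fin_cases i <;> simp [Pi.single_apply]
        linear_combination h2
      rwa [e] at r
    · exact ra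
  · obtain ⟨μ, hμ, h3, hgen⟩ := exists_gen F h24
    refine ⟨uS F, gS hμ, uM_nilpotent, uM_sq_ne_zero, ?_⟩
    set H := Subgroup.closure ({uS F, gS hμ * uS F * (gS hμ)⁻¹} :
      Set (Matrix.SpecialLinearGroup (Fin 3) F)) with hH
    have hu : uS F ∈ H := Subgroup.subset_closure (by simp)
    have hv : gS hμ * uS F * (gS hμ)⁻¹ ∈ H := Subgroup.subset_closure (by simp)
    have hs : sS hμ ∈ H := by
      rw [← u_conj hμ]; exact H.mul_mem hu hv
    exact caseA_gen hμ hgen h3 hu hs

end Cfsg.Agent.S2278
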