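import Cfsg.Statements.S2279
import Cfsg.Agent.Lib.Helper43TwoA
import Cfsg.Agent.Lib.Helper43TwoB
import Cfsg.Agent.Lib.Helper43TwoC

set_option autoImplicit false
open Cfsg

namespace Cfsg.Agent.S2279

open Matrix Cfsg.Agent.Lib.Helper43Transv Cfsg.Agent.Lib.Helper43RegUnip Cfsg.Agent.Lib.Helper43Two
  Cfsg.Agent.Lib.Helper43TwoA Cfsg.Agent.Lib.Helper43TwoB Cfsg.Agent.Lib.Helper43TwoC

theorem exists_sq_add_sq {F : Type*} [Field F] [Fintype F] (x : F) : ∃ a b : F, a ^ 2 + b ^ 2 = x := by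
  classical
  by_cases h : Fintype.card F % 2 = 0
  · obtain ⟨a, ha⟩ := FiniteField.isSquare_of_char_two (FiniteField.even_card_iff_char_two.2 h) x
    exact ⟨a, 0, by rw [ha]; ring⟩
  · have hodd : Fintype.card F % 2 = 1 := by omega
    obtain ⟨a, b, hab⟩ : ∃ a b, (Polynomial.X ^ 2 : Polynomial F).eval a +
        (Polynomial.X ^ 2 - Polynomial.C x : Polynomial F).eval b = 0 :=
      FiniteField.exists_root_sum_quadratic (Polynomial.degree_X_pow 2)
        (Polynomial.degree_X_pow_sub_C (by decide) _) hodd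
    refine ⟨a, b, ?_⟩
    simp only [Polynomial.eval_pow, Polynomial.eval_X, Polynomial.eval_sub, Polynomial.eval_C] at hab
    linear_combination hab

/-- a generator of the multiplicative group -/
theorem exists_gen (F : Type*) [Field F] [Fintype F] :
    ∃ μ : F, μ ≠ 0 ∧ (∀ k : ℕ, μ ^ k = 1 → Fintype.card F - 1 ∣ k) ∧ ∀ x : F, x ≠ 0 → ∃ k : ℕ, x = μ ^ k := by
  classical
  obtain ⟨γ, hγ⟩ := IsCyclic.exists_generator (α := Fˣ)
  refine ⟨γ, γ.ne_zero, fun k hk => ?_, fun x hx => ?_⟩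
  · have h1 : γ ^ k = 1 := by
      apply Units.ext
      simpa using hk
    have h2 : orderOf γ ∣ k := orderOf_dvd_of_pow_eq_one h1
    have h3 : orderOf γ = Nat.card Fˣ := orderOf_eq_card_of_forall_mem_zpowers hγ
    have h4 : Nat.card Fˣ = Fintype.card F - 1 := by
      rw [Nat.card_eq_fintype_card, Fintype.card_units]
    rwa [h3, h4] at h2
  · have h1 := hγ (Units.mk0 x hx)
    rw [← mem_powers_iff_mem_zpowers] at h1
    obtain ⟨k, hk⟩ := h1
    refine ⟨k, ?_⟩
    have := congrArg Units.val hk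
    simpa using this.symm

theorem hgen_of_gen {F : Type*} [Field F] [Fintype F] {μ : F}
    (hgen : ∀ x : F, x ≠ 0 → ∃ k : ℕ, x = μ ^ k) (A : AddSubgroup F)
    (hA : ∀ x ∈ A, μ * (μ⁻¹)⁻¹ * x ∈ A) (hne : ∃ x ∈ A, x ≠ 0) (z : F) : z ∈ A := by
  obtain ⟨y, hy, hy0⟩ := hne
  have hpow : ∀ (k : ℕ) (x : F), x ∈ A → (μ ^ k) ^ 2 * x ∈ A := by
    intro k
    induction k with
    | zero => intro x hx; simpa using hx
    | succ k ih =>
      intro x hx
      have := hA _ (ih x hx)
      rw [inv_inv] at this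
      rwa [show (μ ^ (k + 1)) ^ 2 * x = μ * μ * ((μ ^ k) ^ 2 * x) by ring]
  have hsq : ∀ a x : F, x ∈ A → a ^ 2 * x ∈ A := by
    intro a x hx
    by_cases ha : a = 0
    · subst ha; simpa using A.zero_mem
    · obtain ⟨k, rfl⟩ := hgen a ha
      exact hpow k x hx
  obtain ⟨a, b, hab⟩ := exists_sq_add_sq (z / y)
  have : z = a ^ 2 * y + b ^ 2 * y := by
    rw [← add_mul, hab, div_mul_cancel₀ _ hy0]
  rw [this]
  exact A.add_mem (hsq a y hy) (hsq b y hy)

theorem cast_ne_zero_of_three {F : Type*} [Field F] (h3 : (3 : F) = 0) (N : ℕ) (hN : ¬ 3 ∣ N) :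
    (N : F) ≠ 0 := by
  have h1 : (N : F) = ((N % 3 : ℕ) : F) := by
    conv_lhs => rw [← Nat.div_add_mod N 3]
    push_cast
    rw [h3, zero_mul, zero_add]
  rw [h1]
  have h2 : N % 3 = 1 ∨ N % 3 = 2 := by omega
  rcases h2 with h2 | h2 <;> rw [h2]
  · simp
  · intro h
    have : (1 : F) = 0 := by
      push_cast at h
      linear_combination h3 - h
    exact one_ne_zero this

theorem main {F : Type*} [Field F] [Fintype F] (m : ℕ) (hm1 : 1 ≤ m) :
    ∃ g : SpecialLinearGroup (Fin (m + 3)) F,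
      Subgroup.closure ({vS F m, g * vS F m * g⁻¹} : Set (SpecialLinearGroup (Fin (m + 3)) F)) = ⊤ := by
  classical
  have hq0 := FiniteField.cast_card_eq_zero F
  have hq1 : 1 < Fintype.card F := Fintype.one_lt_card
  by_cases hq2 : Fintype.card F = 2
  · -- two elements
    have hp : (Fintype.card F).Prime := by rw [hq2]; exact Nat.prime_two
    have h2 : (2 : F) = 0 := by rw [hq2] at hq0; exact_mod_cast hq0
    rcases Nat.even_or_odd m with hm | hm
    · obtain ⟨k, hk⟩ := hm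
      exact ⟨_, main_C (h := k + 1) (by omega) (by omega) h2 hp⟩
    · have hsq : ∀ x : F, x ≠ 0 → x ^ 2 = 1 := by
        intro x hx
        have := FiniteField.pow_card_sub_one_eq_one x hx
        rw [hq2] at this
        have h1 : x = 1 := by simpa using this
        rw [h1, one_pow]
      obtain ⟨c, hc, hdet⟩ := exists_c hm1 hm (1 : F) one_ne_zero hsq
      refine ⟨_, main_B 1 c hdet hm1 hp hm hc (m + 2) ?_ (one_mid_two c hm1 hm hdet h2)⟩
      obtain ⟨k, hk⟩ := hm
      have : ((m + 2 : ℕ) : F) = 1 := by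
        rw [hk]; push_cast; linear_combination (k + 1 : F) * h2
      rw [this]; exact one_ne_zero
  by_cases hq3 : Fintype.card F = 3
  · have hp : (Fintype.card F).Prime := by rw [hq3]; exact Nat.prime_three
    have h3 : (3 : F) = 0 := by rw [hq3] at hq0; exact_mod_cast hq0
    have h2 : (2 : F) ≠ 0 := by
      have := cast_ne_zero_of_three h3 2 (by decide)
      exact_mod_cast this
    rcases Nat.even_or_odd m with hm | hm
    · have hε : ((-1 : F) * 1) ^ (m + 2) = 1 := by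
        rw [mul_one]
        exact Even.neg_one_pow (by obtain ⟨k, hk⟩ := hm; exact ⟨k + 1, by omega⟩)
      have hne : (-1 : F) ≠ 1 := by
        intro h
        apply h2
        linear_combination -h
      refine ⟨_, main_A_prime (-1) 1 hε (by simp) one_ne_zero hm1 hp (by simp [inv_neg]) hne hne 2
        (by simp) (by simp) (by exact_mod_cast h2)⟩
    · have hsq : ∀ x : F, x ≠ 0 → x ^ 2 = 1 := by
        intro x hx
        have := FiniteField.pow_card_sub_one_eq_one x hx
        rwa [hq3] at this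
      by_cases h3m : 3 ∣ m + 2
      · obtain ⟨c, hc, hdet⟩ := exists_c hm1 hm (2 : F) h2 hsq
        exact ⟨_, main_B 2 c hdet hm1 hp hm hc (2 * (m + 1))
          (cast_ne_zero_of_three h3 _ (by omega)) (two_mid c hm1 hm hdet)⟩
      · obtain ⟨c, hc, hdet⟩ := exists_c hm1 hm (1 : F) one_ne_zero hsq
        exact ⟨_, main_B 1 c hdet hm1 hp hm hc (2 * (m + 2))
          (cast_ne_zero_of_three h3 _ (by omega)) (one_mid_odd c hm1 hm hdet)⟩
  -- at least four elements
  have hq4 : 4 ≤ Fintype.card F := by omega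
  obtain ⟨μ, hμ, hord, hgen⟩ := exists_gen F
  have hν : μ⁻¹ ≠ 0 := inv_ne_zero hμ
  have hε : (μ * μ⁻¹) ^ (m + 2) = 1 := by rw [mul_inv_cancel₀ hμ, one_pow]
  have hrel : μ⁻¹ * (μ⁻¹)⁻¹ * (μ⁻¹)⁻¹ = μ := by field_simp
  have h1 : μ ≠ 1 := by
    intro h
    have := hord 1 (by rw [h, one_pow])
    have := Nat.le_of_dvd one_pos this
    omega
  have hμν : μ ≠ μ⁻¹ := by
    intro h
    have h2 : μ ^ 2 = 1 := by
      rw [pow_two]; nth_rewrite 2 [h]; exact mul_inv_cancel₀ hμ
    have := Nat.le_of_dvd two_pos (hord 2 h2)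
    omega
  have hNμ : μ ^ (Fintype.card F - 1) = 1 := FiniteField.pow_card_sub_one_eq_one μ hμ
  have hNν : μ⁻¹ ^ (Fintype.card F - 1) = 1 := FiniteField.pow_card_sub_one_eq_one _ hν
  have hN : ((Fintype.card F - 1 : ℕ) : F) ≠ 0 := by
    rw [Nat.cast_sub hq1.le, hq0]; simp
  by_cases hp : (Fintype.card F).Prime
  · exact ⟨_, main_A_prime μ μ⁻¹ hε hμ hν hm1 hp hrel h1 hμν _ hNμ hNν hN⟩
  · refine ⟨_, main_A_field μ μ⁻¹ hε hμ hν hm1 hrel h1 hμν _ hNμ hNν hN ?_ (hgen_of_gen hgen)⟩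
    intro h
    have h3 : (μ - 1) * (μ - 3) = 0 := by
      field_simp at h
      linear_combination -h
    have hμ3 : μ = ((3 : ℕ) : F) := by
      rcases mul_eq_zero.1 h3 with h4 | h4
      · exact absurd (sub_eq_zero.1 h4) h1
      · push_cast; exact sub_eq_zero.1 h4
    obtain ⟨p, hchar, k, hpp, hcard⟩ := FiniteField.card' F
    haveI := hchar
    haveI : Fact p.Prime := ⟨hpp⟩
    have hfrob : μ ^ p = μ := by
      have := map_natCast (frobenius F p) 3
      rw [frobenius_def] at this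
      rw [hμ3]; exact this
    have h5 : μ ^ (p - 1) = 1 := by
      have h6 : μ ^ (p - 1) * μ = 1 * μ := by
        rw [← pow_succ, Nat.sub_add_cancel hpp.one_lt.le, hfrob, one_mul]
      exact mul_right_cancel₀ hμ h6
    have h7 := Nat.le_of_dvd (by have := hpp.two_le; omega) (hord _ h5)
    apply hp
    have h8 : Fintype.card F = p := by
      have h9 : p ≤ Fintype.card F := by
        rw [hcard]
        calc p = p ^ 1 := (pow_one p).symm
          _ ≤ p ^ (k : ℕ) := Nat.pow_le_pow_right hpp.pos k.pos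
      omega
    rw [h8]; exact hpp

/-- Let F be a finite field with q elements and n ≥ 4. Then SL_n(F) is generated by two regular unipotent elements (elements u with u − 1 nilpotent and (u − 1)^(n−1) ≠ 0); if q is prime, the two can be taken conjugate in SL_n(F). -/
theorem result {F : Type*} [Field F] [Fintype F] (n : ℕ) (hn : 4 ≤ n) :
    (∃ u v : Matrix.SpecialLinearGroup (Fin n) F, (IsNilpotent ((u : Matrix (Fin n) (Fin n) F) - 1) ∧ ((u : Matrix (Fin n) (Fin n) F) - 1) ^ (n - 1) ≠ 0) ∧ (IsNilpotent ((v : Matrix (Fin n) (Fin n) F) - 1) ∧ ((v : Matrix (Fin n) (Fin n) F) - 1) ^ (n - 1) ≠ 0) ∧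
      Subgroup.closure ({u, v} : Set (Matrix.SpecialLinearGroup (Fin n) F)) = ⊤) ∧
    ((Fintype.card F).Prime → ∃ u g : Matrix.SpecialLinearGroup (Fin n) F, (IsNilpotent ((u : Matrix (Fin n) (Fin n) F) - 1) ∧ ((u : Matrix (Fin n) (Fin n) F) - 1) ^ (n - 1) ≠ 0) ∧
      Subgroup.closure ({u, g * u * g⁻¹} : Set (Matrix.SpecialLinearGroup (Fin n) F)) = ⊤) := by
  obtain ⟨m, rfl⟩ : ∃ m, n = m + 3 := ⟨n - 3, by omega⟩
  obtain ⟨g, hg⟩ := main (F := F) m (by omega)
  exact ⟨⟨vS F m, g * vS F m * g⁻¹, vS_isRU, vS_isRU.conj g, hg⟩, fun _ => ⟨vS F m, g, vS_isRU, hg⟩⟩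

end Cfsg.Agent.S2279
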