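import Cfsg.Statements.S2290
import Cfsg.Agent.Lib.Helper43BPHubA
import Cfsg.Agent.Lib.Helper43GlHubG
import Cfsg.Agent.Lib.Helper36BPCenter1
import Cfsg.Agent.Lib.Helper36BPSl2gen
import Cfsg.Agent.S2286
import Cfsg.Agent.S2287
import Cfsg.Agent.S2278
import Cfsg.Agent.S2279

set_option autoImplicit false
open Cfsg

namespace Cfsg.Agent.S2290

open Matrix Cfsg.Agent.Lib.Helper43BP Cfsg.Agent.Lib.Helper43St Cfsg.Agent.Lib.Helper43Gl
  Cfsg.Agent.Lib.Helper43BPHubA Cfsg.Agent.Lib.Helper43GlHubG Cfsg.Agent.Lib.Helper36BPCenter1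
  Cfsg.Agent.Lib.Helper36BPSl2gen

/-! assembly -/

theorem BP_of_fin {G : Type*} [Group G] {k r : ℕ}
    (h : ∃ rels : Finset (FreeGroup (Fin k)), rels.card ≤ r ∧
      Nonempty (PresentedGroup (↑rels : Set (FreeGroup (Fin k))) ≃* G)) : BP G r := by
  obtain ⟨rels, h1, h2⟩ := h
  exact ⟨Fin k, rels, h1, h2⟩

open Cfsg.Agent.Lib.Helper43Pres Cfsg.Agent.Lib.Helper43P3 Cfsg.Agent.S2287 in
theorem sl3_pres (F : Type*) [Field F] [Fintype F] :
    ∃ rels : Finset (FreeGroup (Fin 4)), rels.card ≤ 14 ∧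
      Nonempty (PresentedGroup (↑rels : Set (FreeGroup (Fin 4))) ≃*
        Matrix.SpecialLinearGroup (Fin 3) F) := by
  obtain ⟨p, hp⟩ := CharP.exists F
  haveI : Fact p.Prime := ⟨CharP.char_is_prime F p⟩
  letI : Algebra (ZMod p) F := ZMod.algebra F p
  obtain ⟨ζ, hζ, hgenζ, hord⟩ := exists_zeta (F := F)
  have ha : Algebra.adjoin (ZMod p) {ζ} = ⊤ := by
    rw [eq_top_iff, ← adjoin_zeta_sq p hζ hord]
    apply Algebra.adjoin_le
    intro y hy
    rw [Set.mem_singleton_iff] at hy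
    subst hy
    exact pow_mem (Algebra.subset_adjoin (Set.mem_singleton _)) 2
  by_cases h1 : 1 + ζ = 0
  · have hp1 : 1 ≤ p := (Fact.out : p.Prime).one_lt.le
    refine assemble p hζ hgenζ ha (k := 1) (c0 := p - 1) (d0 := 0) ?_
      (fun Γ _ u g _ r3 => rC_exc r3)
    rw [Nat.cast_sub hp1, CharP.cast_eq_zero, Nat.cast_one, zero_sub, pow_one, Nat.cast_zero,
      zero_mul, add_zero]
    exact eq_neg_of_add_eq_zero_right h1
  · obtain ⟨k, hk⟩ := hgenζ _ h1
    exact assemble p hζ hgenζ ha (k := k) (c0 := 1) (d0 := 1) (by simpa using hk)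
      (fun Γ _ u g r2 r3 => rC_gen r2 r3)

theorem BP_sl (F : Type*) [Field F] [Fintype F] (n : ℕ) (hn : 3 ≤ n) :
    BP (SpecialLinearGroup (Fin n) F) 53 := by
  rcases Nat.lt_or_ge n 4 with h | h
  · obtain rfl : n = 3 := by omega
    exact BP_mono (BP_of_fin (sl3_pres F)) (by norm_num)
  · obtain ⟨m, rfl⟩ : ∃ m, n = m + 4 := ⟨n - 4, by omega⟩
    obtain ⟨T, f, hT, hf, hker⟩ := sl_glue m F
    exact BP_glue (BP_alt (m + 4) (by omega)) (BP_of_fin (sl3_pres F)) T hT f hf hker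

theorem BP_psl (F : Type*) [Field F] [Fintype F] (n : ℕ) {r : ℕ}
    (h : BP (SpecialLinearGroup (Fin n) F) r) :
    BP (ProjectiveSpecialLinearGroup (Fin n) F) (r + 1) := by
  classical
  obtain ⟨c, hc⟩ := center_eq_normalClosure n F
  have h1 := BP_quot h {c}
  have e : (SpecialLinearGroup (Fin n) F ⧸
      Subgroup.normalClosure (↑({c} : Finset (SpecialLinearGroup (Fin n) F)) : Set _)) ≃*
      (SpecialLinearGroup (Fin n) F ⧸ Subgroup.center (SpecialLinearGroup (Fin n) F)) :=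
    QuotientGroup.quotientMulEquivOfEq (by rw [hc]; simp)
  simpa using BP_congr e h1

theorem two_gen_quot {G : Type*} [Group G] (N : Subgroup G) [N.Normal] (a b : G)
    (h : Subgroup.closure ({a, b} : Set G) = ⊤) :
    Subgroup.closure ({(QuotientGroup.mk a : G ⧸ N), (QuotientGroup.mk b : G ⧸ N)} : Set (G ⧸ N))
      = ⊤ := by
  have h1 := congrArg (Subgroup.map (QuotientGroup.mk' N)) h
  rw [MonoidHom.map_closure, ← MonoidHom.range_eq_map,
    MonoidHom.range_eq_top.2 (QuotientGroup.mk'_surjective N), Set.image_pair] at h1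
  exact h1

theorem sl_two_gen (F : Type*) [Field F] [Fintype F] (n : ℕ) (hn : 2 ≤ n)
    (h2 : n = 2 → 4 ≤ Fintype.card F) :
    ∃ a b : SpecialLinearGroup (Fin n) F,
      Subgroup.closure ({a, b} : Set (SpecialLinearGroup (Fin n) F)) = ⊤ := by
  rcases Nat.lt_or_ge n 3 with h | h
  · obtain rfl : n = 2 := by omega
    exact sl2_two_gen F (h2 rfl)
  rcases Nat.lt_or_ge n 4 with h' | h'
  · obtain rfl : n = 3 := by omega
    obtain ⟨u, g, _, _, h3⟩ := Cfsg.Agent.S2278.result (F := F)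
    exact ⟨u, _, h3⟩
  · obtain ⟨⟨u, v, _, _, h3⟩, _⟩ := Cfsg.Agent.S2279.result (F := F) n h'
    exact ⟨u, v, h3⟩

/-- For every finite field F with q elements and n ≥ 2, with q ≥ 4 when n = 2, the simple group PSL_n(F) has a presentation with 2 generators and at most 80 relations. -/
theorem result {F : Type*} [Field F] [Fintype F] (n : ℕ) (hn : 2 ≤ n) (h2 : n = 2 → 4 ≤ Fintype.card F) :
    ∃ rels : Finset (FreeGroup (Fin 2)), rels.card ≤ 80 ∧ Nonempty (PresentedGroup (↑rels : Set (FreeGroup (Fin 2))) ≃* Matrix.ProjectiveSpecialLinearGroup (Fin n) F) := by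
  obtain ⟨a, b, hab⟩ := sl_two_gen F n hn h2
  have hab' := two_gen_quot (Subgroup.center (SpecialLinearGroup (Fin n) F)) a b hab
  have hBP : BP (ProjectiveSpecialLinearGroup (Fin n) F) 54 := by
    rcases Nat.lt_or_ge n 3 with h | h
    · obtain rfl : n = 2 := by omega
      exact BP_mono (BP_of_fin (Cfsg.Agent.S2286.result (F := F)).2.1) (by norm_num)
    · exact BP_psl F n (BP_sl F n h)
  obtain ⟨rels, h1, h3⟩ := BP_two_gen hBP _ _ hab'
  exact ⟨rels, h1.trans (by norm_num), h3⟩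

end Cfsg.Agent.S2290
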