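import Cfsg.Statements.S2292
import Cfsg.Agent.Lib.Helper43SpDefs2
import Cfsg.Agent.Lib.Helper43BPHubA
import Cfsg.Agent.S2293
import Cfsg.Agent.Lib.Helper43SpWire
import Cfsg.Agent.Lib.Helper84SpSpcenter
import Cfsg.Agent.Lib.Helper36SpTWire
import Cfsg.Agent.Lib.Helper93SpAlt3

set_option autoImplicit false
open Cfsg

namespace Cfsg.Agent.S2292

open Matrix Cfsg.Agent.Lib.Helper43BP Cfsg.Agent.Lib.Helper43Sp Cfsg.Agent.Lib.Helper43BPHubA

/-! assembly (piece `S2292row`) -/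

theorem BP_of_fin {G : Type*} [Group G] {k r : ℕ}
    (h : ∃ rels : Finset (FreeGroup (Fin k)), rels.card ≤ r ∧
      Nonempty (PresentedGroup (↑rels : Set (FreeGroup (Fin k))) ≃* G)) : BP G r := by
  obtain ⟨rels, h1, h2⟩ := h
  exact ⟨Fin k, rels, h1, h2⟩

theorem BP_altm (m : ℕ) : BP (Am m) 20 := by
  rcases Nat.eq_zero_or_pos m with rfl | h
  · exact Cfsg.Agent.Lib.Helper93SpAlt3.BP_alt3
  · exact BP_alt (m + 3) (by omega)

theorem BP_sp (F : Type*) [Field F] [Fintype F] (m : ℕ) : BP (Sp (m + 3) F) 71 := by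
  obtain ⟨T, f, hT, hf, hker⟩ := Cfsg.Agent.Lib.Helper43SpWire.sp_glue m F
  exact BP_glue (BP_altm m) (BP_of_fin (Cfsg.Agent.S2293.result (F := F)).1) T hT f hf hker

theorem BP_psp (F : Type*) [Field F] (n : ℕ) {r : ℕ} (h : BP (Sp n F) r) : BP (Cfsg.PSp n F) (r + 1) := by
  classical
  obtain ⟨c, hc⟩ := Cfsg.Agent.Lib.Helper84SpSpcenter.sp_center n F
  have h1 := BP_quot h {c}
  have e : (Sp n F ⧸ Subgroup.normalClosure (↑({c} : Finset (Sp n F)) : Set _)) ≃*
      (Sp n F ⧸ Subgroup.center (Sp n F)) :=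
    QuotientGroup.quotientMulEquivOfEq (by rw [hc]; simp)
  simpa using BP_congr e h1

theorem two_gen_quot {G : Type*} [Group G] (N : Subgroup G) [N.Normal] (a b : G)
    (h : Subgroup.closure ({a, b} : Set G) = ⊤) :
    Subgroup.closure ({(QuotientGroup.mk a : G ⧸ N), (QuotientGroup.mk b : G ⧸ N)} : Set (G ⧸ N))
      = ⊤ := by
  have h1 := congrArg (Subgroup.map (QuotientGroup.mk' N)) h
  rw [MonoidHom.map_closure, ← MonoidHom.range_eq_map,
    MonoidHom.range_eq_top.2 (QuotientGroup.mk'_surjective N), Set.image_pair] at h1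
  exact h1

/-- Let F be a finite field with q elements and m ≥ 2 with (m, q) ≠ (2, 2). Then the simple group PSp_2m(F) has a presentation with 2 generators and at most 80 relations. -/
theorem result {F : Type*} [Field F] [Fintype F] (m : ℕ) (hm : 2 ≤ m) (h22 : ¬ (m = 2 ∧ Fintype.card F = 2)) :
    ∃ rels : Finset (FreeGroup (Fin 2)), rels.card ≤ 80 ∧ Nonempty (PresentedGroup (↑rels : Set (FreeGroup (Fin 2))) ≃* Cfsg.PSp m F) := by
  have hF : m = 2 → 2 < Fintype.card F := by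
    intro h
    have h1 : 1 < Fintype.card F := Fintype.one_lt_card
    have h2 : Fintype.card F ≠ 2 := fun h' => h22 ⟨h, h'⟩
    omega
  obtain ⟨a, b, hab⟩ := Cfsg.Agent.Lib.Helper36SpTWire.sp_two_gen (F := F) m hm hF
  have hab' := two_gen_quot (Subgroup.center (Sp m F)) a b hab
  have hBP : BP (Cfsg.PSp m F) 72 := by
    rcases Nat.lt_or_ge m 3 with h | h
    · obtain rfl : m = 2 := by omega
      exact BP_mono (BP_of_fin (Cfsg.Agent.S2293.result (F := F)).2) (by norm_num)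
    · obtain ⟨k, rfl⟩ : ∃ k, m = k + 3 := ⟨m - 3, by omega⟩
      exact BP_psp F (k + 3) (BP_sp F k)
  obtain ⟨rels, h1, h3⟩ := BP_two_gen hBP _ _ hab'
  exact ⟨rels, h1.trans (by norm_num), h3⟩

end Cfsg.Agent.S2292
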