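import Cfsg.Statements.S2381
import Mathlib
import Cfsg.Agent.S0245
import Cfsg.Agent.Lib.H45SyHom
import Cfsg.Agent.Lib.H45SyPow
import Cfsg.Agent.Lib.H45SyPiE
import Cfsg.Agent.Lib.H45SySyl
import Cfsg.Agent.Lib.H45SyCyc
import Cfsg.Agent.Lib.H45SyLte
import Cfsg.Agent.Lib.H45SyProd
import Cfsg.Agent.Lib.H45SyCnt
import Cfsg.Agent.Lib.H45SyDiv
import Cfsg.Agent.Lib.Helper45GkD
import Cfsg.Agent.Lib.Helper45TrA
-- import your own Cfsg.Agent.* helpers here

set_option autoImplicit false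
open Cfsg

namespace Cfsg.Agent.S2381

open Cfsg.Agent.Lib Cfsg.Agent.Lib.H45SyDefs in
/-- the embedding of the homocyclic group -/
theorem embed {F : Type*} [Field F] [Fintype F] (n a η M : ℕ) [NeZero M] (haη : a * η ≤ n) (hη1 : 1 ≤ η)
    (l : ℕ) (h : (Odd l ∧ η = l ∧ M ∣ Fintype.card F ^ l - 1) ∨
      (Even l ∧ 2 * η = l ∧ M ∣ Fintype.card F ^ η + 1)) :
    ∃ ψ : (Fin a → Multiplicative (ZMod M)) →* Matrix.symplecticGroup (Fin n) F,
      Function.Injective ψ := by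
  have hp : Fact (ringChar F).Prime := ⟨CharP.char_is_prime F (ringChar F)⟩
  obtain ⟨W₀, _, _, _, β₀, y, hA₀, hB₀, hW₀, hiso, hord⟩ :=
    Helper45GkD.model (F := F) (ringChar F) M l η hη1 h
  let k := n - a * η
  let W₁ := (Fin k → F) × (Fin k → F)
  have hW₁ : Module.finrank F W₁ = 2 * k := by
    show Module.finrank F ((Fin k → F) × (Fin k → F)) = 2 * k
    rw [Module.finrank_prod, Module.finrank_fin_fun]; ring
  refine H45SyHom.exists_hom n (piB a β₀ (Helper45TrA.altB F k))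
    (H45SyPiB.piB_alt a β₀ _ hA₀ (Helper45TrA.altB_self F k))
    (H45SyPiB.piB_nd a β₀ _ hB₀ (Helper45TrA.altB_nd F k)) ?_
    (fun z => piE a W₁ (fun i => Th y M (z i))) ?_ ?_ ?_
  · rw [H45SyPiB.finrank_pi, hW₀, hW₁]
    show a * (2 * η) + 2 * (n - a * η) = 2 * n
    have : a * (2 * η) = 2 * (a * η) := by ring
    omega
  · intro z z'
    rw [← H45SyPiE.piE_mul]
    congr 1
    funext i
    exact H45SyPow.th_mul y M hord (z i) (z' i)
  · intro z u v
    exact H45SyPiE.piE_iso a β₀ _ _ (fun i u v => H45SyPow.th_iso β₀ y M hiso (z i) u v) u v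
  · intro z z' hzz
    have := H45SyPiE.piE_injective a hzz
    funext i
    exact H45SyPow.th_injective y M hord (congrFun this i)

/-- Sylow subgroups of `Sp_{2n}(q)` for large primes. Let `F` be a field with `q` elements and `r` an odd prime with `r > n` and `r ∤ q` (so `r` does not divide the order `2^n n!` of the Weyl group). Let `d` be the multiplicative order of `q` modulo `r`, `a` the number of `i` with `1 ≤ i ≤ n` and `d ∣ 2i` (the degrees being `2, 4, …, 2n`), and `m` the `r`-part of the value at `q` of the `d`-th cyclotomic polynomial. Then every Sylow `r`-subgroup of the symplectic group `Sp_{2n}(q)` is a direct product of `a` cyclic groups of order `m`. -/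
theorem result {F : Type*} [Field F] [Fintype F] {q : ℕ} (hq : Fintype.card F = q) (n : ℕ)
    (r : ℕ) [Fact r.Prime] (hr2 : r ≠ 2) (hrn : n < r) (hrq : ¬ r ∣ q) (P : Sylow r ↥(Matrix.symplecticGroup (Fin n) F)) :
    Nonempty (↥(P : Subgroup ↥(Matrix.symplecticGroup (Fin n) F)) ≃*
      (Fin ((Finset.Icc 1 n).filter (fun i => orderOf (q : ZMod r) ∣ 2 * i)).card →
        Multiplicative (ZMod (r ^ padicValNat r ((Polynomial.cyclotomic (orderOf (q : ZMod r)) ℤ).eval (q : ℤ)).natAbs)))) := by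
  classical
  subst hq
  have hr : r.Prime := Fact.out
  have hq2 : 2 ≤ Fintype.card F := Fintype.one_lt_card
  set q := Fintype.card F with hqdef
  set d := orderOf (q : ZMod r) with hd
  have hd1 : 1 ≤ d := Cfsg.Agent.Lib.Helper45GkD.orderOf_zmod_pos q r hr hrq
  rw [← Cfsg.Agent.Lib.H45SyCyc.val_cyc q r hq2 hrq]
  set e := padicValNat r (q ^ d - 1) with he
  set a := ((Finset.Icc 1 n).filter (fun i => d ∣ 2 * i)).card with ha
  have hM : NeZero (r ^ e) := ⟨pow_ne_zero _ hr.ne_zero⟩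
  obtain ⟨η, hη⟩ : ∃ η, (Odd d ∧ η = d) ∨ (Even d ∧ 2 * η = d) := by
    rcases Nat.even_or_odd d with h | h
    · obtain ⟨η, hη⟩ := h
      exact ⟨η, Or.inr ⟨⟨η, hη⟩, by omega⟩⟩
    · exact ⟨d, Or.inl ⟨h, rfl⟩⟩
  have hη1 : 1 ≤ η := by rcases hη with ⟨-, h⟩ | ⟨-, h⟩ <;> omega
  have hcnt : a * η ≤ n := Cfsg.Agent.Lib.H45SyCnt.cnt n d η hd1 hη
  obtain ⟨ψ, hψ⟩ := embed (F := F) n a η (r ^ e) hcnt hη1 d (by
    rcases hη with ⟨h1, h2⟩ | ⟨h1, h2⟩
    · exact Or.inl ⟨h1, h2, pow_padicValNat_dvd⟩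
    · exact Or.inr ⟨h1, h2, Cfsg.Agent.Lib.H45SyDiv.dvd_torus q r η hq2 hrq h2⟩)
  refine Cfsg.Agent.Lib.H45SySyl.sylow_iso r ψ hψ ?_ P
  rw [Cfsg.Agent.S0245.result (F := F) rfl n,
    Cfsg.Agent.Lib.H45SyProd.val_card q r n e hq2 hrq (fun i => d ∣ 2 * i)
      (fun i h1 h2 => Cfsg.Agent.Lib.H45SyLte.val_pow q r n i hr2 hq2 hrq hrn h1 h2)]
  rw [Nat.card_pi]
  simp only [Nat.card_eq_fintype_card, Fintype.card_multiplicative, ZMod.card, Finset.prod_const,
    Finset.card_univ, Fintype.card_fin]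
  rw [← pow_mul, mul_comm]

end Cfsg.Agent.S2381
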