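import Cfsg.Statements.S2432
import Cfsg.Agent.Lib.Helper46Borel

set_option autoImplicit false
open Cfsg

namespace Cfsg.Agent.S2432

open scoped ComplexConjugate

theorem indFun_conj {G : Type*} [Group G] [Fintype G] (H : Subgroup G) (θ : H → ℂ) (x h : G) :
    Cfsg.indFun H θ (x * h * x⁻¹) = Cfsg.indFun H θ h := by
  unfold Cfsg.indFun
  congr 1
  apply Fintype.sum_equiv (Equiv.mulLeft x⁻¹)
  intro y
  congr 1
  simp only [Equiv.coe_mulLeft]
  group

theorem frob {G : Type*} [Group G] [Fintype G] (H : Subgroup G) (θ : H → ℂ) (Φ : G → ℂ)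
    (hΦ : ∀ x h, Φ (x * h * x⁻¹) = Φ h) :
    ∑ g, Φ g * conj (Cfsg.indFun H θ g) =
      (Nat.card H : ℂ)⁻¹ * (Nat.card G : ℂ) * ∑ h, Φ h * conj (Cfsg.extendByZero H θ h) := by
  unfold Cfsg.indFun
  simp only [map_mul, map_inv₀, map_natCast, map_sum]
  have h1 : ∀ g : G, Φ g * ((Nat.card H : ℂ)⁻¹ * ∑ x, conj (Cfsg.extendByZero H θ (x⁻¹ * g * x))) =
      (Nat.card H : ℂ)⁻¹ * ∑ x, Φ g * conj (Cfsg.extendByZero H θ (x⁻¹ * g * x)) := by
    intro g
    rw [Finset.mul_sum, Finset.mul_sum, Finset.mul_sum]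
    apply Finset.sum_congr rfl
    intro x _
    ring
  simp_rw [h1]
  rw [← Finset.mul_sum, Finset.sum_comm, mul_assoc]
  congr 1
  have h2 : ∀ x : G, ∑ g, Φ g * conj (Cfsg.extendByZero H θ (x⁻¹ * g * x)) =
      ∑ h, Φ h * conj (Cfsg.extendByZero H θ h) := by
    intro x
    apply Fintype.sum_equiv (MulAut.conj x⁻¹).toEquiv
    intro g
    simp only [MulEquiv.toEquiv_eq_coe, EquivLike.coe_coe, MulAut.conj_apply, inv_inv]
    rw [show Φ (x⁻¹ * g * x) = Φ g from by
      have := hΦ x⁻¹ g
      rwa [inv_inv] at this]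
  simp_rw [h2]
  rw [Finset.sum_const, Finset.card_univ, nsmul_eq_mul, Nat.card_eq_fintype_card]

theorem sum_units {F : Type*} [Field F] [Fintype F] [DecidableEq F] (χ : MulChar F ℂ) :
    ∑ a : Fˣ, χ (a : F) = ∑ a : F, χ a := by
  apply Finset.sum_of_injOn (fun u : Fˣ => (u : F))
  · intro a _ b _ h
    exact Units.ext h
  · intro a _
    exact Finset.mem_coe.mpr (Finset.mem_univ _)
  · intro i _ hi
    apply MulChar.map_nonunit
    rintro ⟨u, rfl⟩
    exact hi ⟨u, Finset.mem_coe.mpr (Finset.mem_univ _), rfl⟩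
  · intro i _
    rfl

theorem orth {F : Type*} [Field F] [Fintype F] [DecidableEq F] (α β : MulChar F ℂ) [Decidable (α = β)] :
    ∑ a : Fˣ, α (a : F) * conj (β (a : F)) = if α = β then ((Fintype.card F : ℂ) - 1) else 0 := by
  have h1 : ∀ a : Fˣ, α (a : F) * conj (β (a : F)) = (α * β⁻¹) (a : F) := by
    intro a
    rw [MulChar.mul_apply, ← MulChar.star_apply']
    rfl
  simp_rw [h1]
  rw [sum_units]
  split_ifs with h
  · subst h
    rw [mul_inv_cancel, MulChar.sum_one_eq_card_units, Fintype.card_units, Nat.cast_sub Fintype.card_pos]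
    simp
  · apply MulChar.sum_eq_zero_of_ne_one
    intro h'
    exact h (mul_inv_eq_one.mp h')

theorem sum_ext {G : Type*} [Group G] [Fintype G] (H : Subgroup G) [Fintype H] (θ : H → ℂ) (Φ : G → ℂ) :
    ∑ h, Φ h * conj (Cfsg.extendByZero H θ h) = ∑ b : H, Φ (b : G) * conj (θ b) := by
  symm
  apply Finset.sum_of_injOn (fun b : H => (b : G))
  · intro a _ b _ h
    exact Subtype.ext h
  · intro a _
    exact Finset.mem_coe.mpr (Finset.mem_univ _)
  · intro i _ hi
    rw [Lib.Helper46Borel.extendByZero_apply_not_mem, map_zero, mul_zero]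
    intro hmem
    exact hi ⟨⟨i, hmem⟩, Finset.mem_coe.mpr (Finset.mem_univ _), rfl⟩
  · intro b _
    rw [Lib.Helper46Borel.extendByZero_apply_mem H θ (b : G) b.2]

/-- Parametrisation of the Borel subgroup. -/
def mB {F : Type*} [Field F] (p : Fˣ × F) : Lib.Helper46Borel.B F :=
  ⟨Lib.Helper46SL2.mk2 (p.1 : F) p.2 0 (p.1 : F)⁻¹ (by rw [mul_inv_cancel₀ p.1.ne_zero]; ring),
    Lib.Helper46Borel.mem_B.mpr rfl⟩

theorem mB_bijective {F : Type*} [Field F] : Function.Bijective (mB (F := F)) := by
  constructor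
  · rintro ⟨a, e⟩ ⟨a', e'⟩ h
    have h' := congrArg Subtype.val h
    have h00 := congrArg (fun A : Matrix.SpecialLinearGroup (Fin 2) F => A 0 0) h'
    have h01 := congrArg (fun A : Matrix.SpecialLinearGroup (Fin 2) F => A 0 1) h'
    simp only [mB, Lib.Helper46SL2.mk2_00, Lib.Helper46SL2.mk2_01] at h00 h01
    rw [Units.ext h00, h01]
  · rintro ⟨b, hb⟩
    have hb' := Lib.Helper46Borel.mem_B.mp hb
    have hdet := Lib.Helper46SL2.det2 b
    rw [hb'] at hdet
    have h0 : b 0 0 ≠ 0 := by
      intro h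
      rw [h] at hdet
      simp at hdet
    refine ⟨(Units.mk0 (b 0 0) h0, b 0 1), ?_⟩
    apply Subtype.ext
    apply Lib.Helper46SL2.ext2
    · rfl
    · rfl
    · exact hb'.symm
    · change (b 0 0)⁻¹ = _
      apply inv_eq_of_mul_eq_one_right
      linear_combination hdet

theorem sum_ite_zero {F : Type*} [Field F] [Fintype F] [DecidableEq F] (X Y : ℂ) :
    ∑ c : F, (if c = 0 then X else Y) = X + ((Fintype.card F : ℂ) - 1) * Y := by
  have h : ∀ c : F, (if c = 0 then X else Y) = (if c = 0 then X - Y else 0) + Y := by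
    intro c
    split_ifs <;> ring
  simp_rw [h]
  rw [Finset.sum_add_distrib, Finset.sum_ite_eq' Finset.univ (0 : F), Finset.sum_const, Finset.card_univ,
    nsmul_eq_mul]
  simp
  ring

theorem inner_sum {F : Type*} [Field F] [Fintype F] [DecidableEq F] (α : MulChar F ℂ) (a : Fˣ) :
    ∑ e : F, Cfsg.indFun (Lib.Helper46Borel.B F)
      (fun b => α (((b : Matrix.SpecialLinearGroup (Fin 2) F) : Matrix (Fin 2) (Fin 2) F) 0 0))
        (mB (a, e) : Matrix.SpecialLinearGroup (Fin 2) F) =
      (Fintype.card F : ℂ) * (α (a : F) + α (a : F)⁻¹) := by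
  have hform : ∀ e : F, Cfsg.indFun (Lib.Helper46Borel.B F)
      (fun b => α (((b : Matrix.SpecialLinearGroup (Fin 2) F) : Matrix (Fin 2) (Fin 2) F) 0 0))
        (mB (a, e) : Matrix.SpecialLinearGroup (Fin 2) F) =
      (∑ c : F, if 0 + ((a : F)⁻¹ - (a : F)) * c - e * c ^ 2 = 0 then α ((a : F) + e * c) else 0) +
        (if e = 0 then α (a : F)⁻¹ else 0) := fun e : F =>
    Lib.Helper46Borel.indFun_formula (fun x => α x)
      (mB (a, e) : Matrix.SpecialLinearGroup (Fin 2) F)
  simp_rw [hform]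
  rw [Finset.sum_add_distrib, Finset.sum_comm]
  have hS : (∑ e : F, if e = 0 then α (a : F)⁻¹ else 0) = α (a : F)⁻¹ := by
    rw [Finset.sum_eq_single (0 : F)]
    · rw [if_pos rfl]
    · intro e _ he
      rw [if_neg he]
    · intro h0
      exact absurd (Finset.mem_univ _) h0
  rw [hS]
  have hT : ∀ c : F, (∑ e : F, if 0 + ((a : F)⁻¹ - (a : F)) * c - e * c ^ 2 = 0 then α ((a : F) + e * c) else 0) =
      if c = 0 then (Fintype.card F : ℂ) * α (a : F) else α (a : F)⁻¹ := by
    intro c
    split_ifs with hc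
    · subst hc
      simp
    · rw [Finset.sum_eq_single (((a : F)⁻¹ - (a : F)) / c)]
      · rw [if_pos (by field_simp; ring)]
        congr 1
        field_simp
        ring
      · intro e _ he
        rw [if_neg]
        intro h
        apply he
        field_simp
        have : c * (((a : F)⁻¹ - (a : F)) - e * c) = 0 := by linear_combination h
        have h2 := (mul_eq_zero.mp this).resolve_left hc
        have ha := a.ne_zero
        field_simp at h2
        linear_combination (-1 : F) * h2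
      · intro h0
        exact absurd (Finset.mem_univ _) h0
  simp_rw [hT]
  rw [sum_ite_zero]
  ring

/-- Let F be a finite field with q elements, q odd, and for a multiplicative character α of F let R(α) be the function on SL₂ induced from the linear character b ↦ α(b₁₁) of the upper triangular subgroup. For multiplicative characters α, β the inner product of R(α) and R(β) equals the number of true statements among 'α = β' and 'α = β⁻¹' (the Mackey formula for the upper triangular subgroup, whose intersection with a conjugate by the Weyl element is the diagonal subgroup). -/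
theorem result {F : Type*} [Field F] [Fintype F] [DecidableEq F] (hodd : Odd (Fintype.card F))
    (α β : MulChar F ℂ) [Decidable (α = β)] [Decidable (α = β⁻¹)] :
    Cfsg.classInner (Cfsg.indFun ((Cfsg.upperTriangularGL 2 F).comap Matrix.SpecialLinearGroup.toGL) (fun b => α (((b : Matrix.SpecialLinearGroup (Fin 2) F) : Matrix (Fin 2) (Fin 2) F) 0 0))) (Cfsg.indFun ((Cfsg.upperTriangularGL 2 F).comap Matrix.SpecialLinearGroup.toGL) (fun b => β (((b : Matrix.SpecialLinearGroup (Fin 2) F) : Matrix (Fin 2) (Fin 2) F) 0 0))) =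
      (if α = β then 1 else 0) + (if α = β⁻¹ then 1 else 0) := by
  let _ : Fintype (Lib.Helper46Borel.B F) := Fintype.ofFinite _
  have hq : (Fintype.card F : ℂ) ≠ 0 := by exact_mod_cast Fintype.card_ne_zero
  have hq1 : (Fintype.card F : ℂ) - 1 ≠ 0 := by
    have : 1 < Fintype.card F := Fintype.one_lt_card
    intro h
    have h2 : (Fintype.card F : ℂ) = ((1 : ℕ) : ℂ) := by
      rw [Nat.cast_one]
      linear_combination h
    have := Nat.cast_injective h2
    omega
  have hG : (Nat.card (Matrix.SpecialLinearGroup (Fin 2) F) : ℂ) ≠ 0 := by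
    exact_mod_cast Nat.card_pos.ne'
  have hB : (Nat.card (Lib.Helper46Borel.B F) : ℂ) = ((Fintype.card F : ℂ) - 1) * (Fintype.card F : ℂ) := by
    rw [← Nat.card_congr (Equiv.ofBijective _ (mB_bijective (F := F))), Nat.card_prod,
      Nat.card_eq_fintype_card, Nat.card_eq_fintype_card, Fintype.card_units, Nat.cast_mul,
      Nat.cast_sub Fintype.card_pos]
    simp
  rw [Cfsg.classInner, frob _ _ _ (indFun_conj _ _), sum_ext,
    ← Fintype.sum_bijective _ (mB_bijective (F := F)) _ _ (fun _ => rfl), Fintype.sum_prod_type]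
  have h1 : ∀ a : Fˣ, (∑ e : F, Cfsg.indFun (Lib.Helper46Borel.B F)
      (fun b => α (((b : Matrix.SpecialLinearGroup (Fin 2) F) : Matrix (Fin 2) (Fin 2) F) 0 0))
        (mB (a, e) : Matrix.SpecialLinearGroup (Fin 2) F) *
        conj (β ((((mB (a, e) : Lib.Helper46Borel.B F) : Matrix.SpecialLinearGroup (Fin 2) F) :
          Matrix (Fin 2) (Fin 2) F) 0 0))) =
      (Fintype.card F : ℂ) * (α (a : F) * conj (β (a : F)) + α⁻¹ (a : F) * conj (β (a : F))) := by
    intro a
    have h2 : ∀ e : F, β ((((mB (a, e) : Lib.Helper46Borel.B F) : Matrix.SpecialLinearGroup (Fin 2) F) :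
          Matrix (Fin 2) (Fin 2) F) 0 0) = β (a : F) := fun e => rfl
    simp_rw [h2]
    rw [← Finset.sum_mul, inner_sum, MulChar.inv_apply']
    ring
  rw [Finset.sum_congr rfl (fun a _ => h1 a), ← Finset.mul_sum, Finset.sum_add_distrib]
  have d2 : Decidable (α⁻¹ = β) := Classical.dec _
  rw [orth α β, orth α⁻¹ β, hB]
  have hiff : α⁻¹ = β ↔ α = β⁻¹ := inv_eq_iff_eq_inv
  by_cases h1 : α = β <;> by_cases h2 : α = β⁻¹
  · rw [if_pos h1, if_pos h2, if_pos h1, if_pos (hiff.mpr h2)]
    field_simp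
  · rw [if_pos h1, if_neg h2, if_pos h1, if_neg (fun h => h2 (hiff.mp h))]
    field_simp
    ring
  · rw [if_neg h1, if_pos h2, if_neg h1, if_pos (hiff.mpr h2)]
    field_simp
    ring
  · rw [if_neg h1, if_neg h2, if_neg h1, if_neg (fun h => h2 (hiff.mp h))]
    simp

end Cfsg.Agent.S2432
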