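import Mathlib
import Cfsg.Statements.S2468
import Cfsg.Agent.Lib.Helper45PSL

set_option autoImplicit false
open Cfsg

namespace Cfsg.Agent.S2468

open Cfsg.Agent.Lib.Helper45PSL Cfsg.Agent.Lib.Helper45ProjOrder Module

/-- Adjacency of two odd primes in the prime graph of PSL(n,q): let F be a finite field of characteristic p with q elements, n ≥ 2 with PSL(n,F) simple, and let r ≠ s be odd primes different from p dividing the order of PSL(n,F). Let k and l be the multiplicative orders of q modulo r and modulo s, and suppose 2 ≤ k ≤ l. Then PSL(n,F) has NO element of order r·s if and only if k + l > n and k does not divide l. -/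
theorem result {F : Type*} [Field F] [Fintype F] (p : ℕ) [Fact p.Prime] [CharP F p] (n : ℕ) (hn : 2 ≤ n) (hsmall : n = 2 → 4 ≤ Fintype.card F)
    (r s : ℕ) (hr : r.Prime) (hs : s.Prime) (hr2 : r ≠ 2) (hs2 : s ≠ 2) (hrp : r ≠ p) (hsp : s ≠ p) (hrs : r ≠ s)
    (hrG : r ∣ Nat.card (Matrix.ProjectiveSpecialLinearGroup (Fin n) F)) (hsG : s ∣ Nat.card (Matrix.ProjectiveSpecialLinearGroup (Fin n) F))
    (k l : ℕ) (hk : k = orderOf ((Fintype.card F : ℕ) : ZMod r)) (hl : l = orderOf ((Fintype.card F : ℕ) : ZMod s))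
    (h2k : 2 ≤ k) (hkl : k ≤ l) :
    (r * s ∉ Set.range (orderOf : Matrix.ProjectiveSpecialLinearGroup (Fin n) F → ℕ)) ↔ (n < k + l ∧ ¬ k ∣ l) := by
  have hq1 : 1 ≤ Fintype.card F := Fintype.card_pos
  have hcard : Nat.card F = Fintype.card F := Nat.card_eq_fintype_card
  have hkd : ∀ d, k ∣ d ↔ r ∣ Fintype.card F ^ d - 1 := fun d => by
    rw [hk]; exact orderOf_zmod_dvd_iff r _ d hq1
  have hld : ∀ d, l ∣ d ↔ s ∣ Fintype.card F ^ d - 1 := fun d => by
    rw [hl]; exact orderOf_zmod_dvd_iff s _ d hq1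
  have hr1 : ¬ r ∣ Fintype.card F - 1 := by
    intro h
    have := (hkd 1).2 (by rwa [pow_one])
    have := Nat.le_of_dvd one_pos this
    omega
  have hs1 : ¬ s ∣ Fintype.card F - 1 := by
    intro h
    have := (hld 1).2 (by rwa [pow_one])
    have := Nat.le_of_dvd one_pos this
    omega
  have hco : Nat.Coprime (r * s) (Nat.card F - 1) := by
    rw [hcard]
    exact Nat.Coprime.mul_left ((Nat.Prime.coprime_iff_not_dvd hr).2 hr1)
      ((Nat.Prime.coprime_iff_not_dvd hs).2 hs1)
  have hrs0 : r * s ≠ 0 := mul_ne_zero hr.ne_zero hs.ne_zero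
  have hcors : Nat.Coprime r s := (Nat.coprime_primes hr hs).2 hrs
  have : NeZero k := ⟨by omega⟩
  have : NeZero l := ⟨by omega⟩
  rw [not_iff_comm]
  constructor
  · intro h
    have h' : k + l ≤ n ∨ k ∣ l := by
      by_contra hc
      push Not at hc
      exact h ⟨by omega, hc.2⟩
    rcases h' with h' | h'
    · obtain ⟨β1, hβ1⟩ := exists_ext_element (F := F) p k r (by rw [hcard]; exact (hkd k).1 dvd_rfl)
      obtain ⟨β2, hβ2⟩ := exists_ext_element (F := F) p l s (by rw [hcard]; exact (hld l).1 dvd_rfl)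
      exact exists_orderOf_of_coprime (n := n)
        (A := FiniteField.Extension F p k × FiniteField.Extension F p l)
        (by rw [Module.finrank_prod, FiniteField.finrank_extension, FiniteField.finrank_extension])
        h' (β1, β2) (r * s) hco
        (by rw [Prod.orderOf_mk, hβ1, hβ2, Nat.Coprime.lcm_eq_mul hcors]) hrs0
    · obtain ⟨d, hd1, hdn, hd⟩ := exists_dvd_of_dvd_card_psl p n s hs hsp hsG
      have hln : l ≤ n := (Nat.le_of_dvd (by omega) ((hld d).2 hd)).trans hdn
      obtain ⟨β, hβ⟩ := exists_ext_element (F := F) p l (r * s) (by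
        rw [hcard]
        exact Nat.Coprime.mul_dvd_of_dvd_of_dvd hcors ((hkd l).1 h') ((hld l).1 dvd_rfl))
      exact exists_orderOf_of_coprime (n := n) (A := FiniteField.Extension F p l)
        (FiniteField.finrank_extension F p l) hln β (r * s) hco hβ hrs0
  · rintro ⟨x, hx⟩
    obtain ⟨g, rfl⟩ := QuotientGroup.mk_surjective x
    change orderOf (QuotientGroup.mk g : Matrix.ProjectiveSpecialLinearGroup (Fin n) F) = r * s at hx
    set x : Matrix.ProjectiveSpecialLinearGroup (Fin n) F := QuotientGroup.mk g with hxdef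
    have : Nontrivial (Fin n → F) := by
      have : Nonempty (Fin n) := ⟨⟨0, by omega⟩⟩
      infer_instance
    set G : End F (Fin n → F) := Matrix.toLin' (g : Matrix (Fin n) (Fin n) F) with hG
    obtain ⟨c, hc⟩ := (proj_pow_eq_one_iff_lin g (r * s)).1 (by rw [← hx]; exact pow_orderOf_eq_one _)
    have hc0 : c ≠ 0 := scalar_ne_zero G (det_toLin'_sl g) _ c hc
    set N := Fintype.card F - 1 with hN
    set h : End F (Fin n → F) := G ^ N with hh
    have hne : ∀ j, h ^ j = 1 → r * s ∣ N * j := by
      intro j hj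
      rw [← hx]
      apply orderOf_dvd_of_pow_eq_one
      rw [proj_pow_eq_one_iff_lin]
      exact ⟨1, by rw [pow_mul, hj, one_smul]⟩
    have h1 : h ^ (r * s) = 1 := by
      rw [hh, ← pow_mul, mul_comm, pow_mul, hc, _root_.smul_pow, one_pow,
        FiniteField.pow_card_sub_one_eq_one c hc0, one_smul]
    have h2 : h ^ s ≠ 1 := by
      intro hj
      have h3 := hne s hj
      rw [mul_comm N s, mul_comm r s] at h3
      exact hr1 (Nat.dvd_of_mul_dvd_mul_left hs.pos h3)
    have h3 : h ^ r ≠ 1 := by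
      intro hj
      have h3 := hne r hj
      rw [mul_comm N r] at h3
      exact hs1 (Nat.dvd_of_mul_dvd_mul_left hr.pos h3)
    have key := adj_lower p h r s hr hs hrp hsp h1 h2 h3 k l
      (fun d hd => (hkd d).2 (by rwa [hcard] at hd)) (fun d hd => (hld d).2 (by rwa [hcard] at hd)) hkl
    rw [Module.finrank_fin_fun] at key
    rintro ⟨h4, h5⟩
    rcases key with h6 | h6
    · omega
    · exact h5 h6

end Cfsg.Agent.S2468
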