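import Mathlib
import Cfsg.Statements.S2469
import Cfsg.Agent.Lib.Helper45GkE
-- import your own Cfsg.Agent.* helpers here

set_option autoImplicit false
open Cfsg

namespace Cfsg.Agent.S2469

open Module Polynomial Cfsg.Agent.Lib.Helper45Form Cfsg.Agent.Lib.Helper45Sp
  Cfsg.Agent.Lib.Helper45PSL Cfsg.Agent.Lib.Helper17Symp
  Cfsg.Agent.Lib.Helper45TrA Cfsg.Agent.Lib.Helper45TrB Cfsg.Agent.Lib.Helper45TrD
  Cfsg.Agent.Lib.Helper45GkA Cfsg.Agent.Lib.Helper45GkB Cfsg.Agent.Lib.Helper45GkC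
  Cfsg.Agent.Lib.Helper45GkD Cfsg.Agent.Lib.Helper45GkE

theorem real_of_model {F : Type*} [Field F] (n : ℕ) (hn : 1 ≤ n) (M η : ℕ) (hM : Odd M)
    (hle : η ≤ n) {W : Type*} [AddCommGroup W] [Module F W] [Module.Finite F W]
    (β : W →ₗ[F] W →ₗ[F] F) (y : End F W)
    (hA : ∀ x, β x x = 0) (hnd : ∀ u, (∀ v, β u v = 0) → u = 0) (hdim : finrank F W = 2 * η)
    (hpres : ∀ a b, β (y a) (y b) = β a b) (hord : ∀ j, y ^ j = 1 ↔ M ∣ j) :
    M ∈ Set.range (orderOf : Cfsg.PSp n F → ℕ) := by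
  obtain ⟨t, rfl⟩ : ∃ t, n = η + t := ⟨n - η, by omega⟩
  have hfin : finrank F (W × ((Fin t → F) × (Fin t → F))) = 2 * (η + t) := by
    rw [Module.finrank_prod, Module.finrank_prod, Module.finrank_fin_fun, hdim]
    ring
  have : Nontrivial (W × ((Fin t → F) × (Fin t → F))) :=
    Module.nontrivial_of_finrank_pos (R := F) (by omega)
  apply real_sp (prodB β (altB F t))
    (fun x => by rw [prodB_apply, hA, altB_self, add_zero])
    (prodB_nd hnd (altB_nd F t)) hn hfin
    (LinearMap.prodMap y 1) (prodMap_pres hpres (fun _ _ => rfl)) M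
  apply proj_of_exact _ _ (Or.inr hM)
  intro j
  rw [prodMap_pow, prodMap_eq_one_iff, hord, one_pow]
  simp

theorem eta_le {F : Type*} [Field F] [Fintype F] (p : ℕ) [Fact p.Prime] [CharP F p] (n : ℕ)
    (hn : 1 ≤ n) (s : ℕ) (hs : s.Prime) (hs2 : s ≠ 2) (hsp : s ≠ p)
    (hsG : s ∣ Nat.card (Cfsg.PSp n F)) (l ηl : ℕ)
    (hl : l = orderOf ((Fintype.card F : ℕ) : ZMod s))
    (hηl : (Odd l ∧ ηl = l) ∨ (Even l ∧ 2 * ηl = l)) : ηl ≤ n := by
  have : Fact s.Prime := ⟨hs⟩
  have : Finite (Cfsg.PSp n F) := inferInstance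
  obtain ⟨x, hx⟩ := exists_prime_orderOf_dvd_card' s hsG
  obtain ⟨h, h', hh, hj⟩ := sp_exact n hn x (Or.inr (by rw [hx]; exact hs.odd_of_ne_two hs2))
  rw [hx] at hj
  have hA : ∀ v, sB (F := F) n v v = 0 := fun v => by rw [sB_apply, sympForm_self]
  have hrefl : ∀ a b, sB (F := F) n a b = 0 → sB n b a = 0 := by
    intro x z h0
    have h1 := hA (x + z)
    simp only [map_add, LinearMap.add_apply, hA] at h1
    linear_combination h1 - h0
  have := (two_eta_le p (sB n) hrefl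
    (fun u hu => sympForm_nondeg n u (fun v => by rw [← sB_apply]; exact hu v)) hh s hs hs2 hsp
    ((hj s).2 dvd_rfl) (by
      intro h1
      have := (hj 1).1 (by rw [pow_one, h1])
      exact hs.one_lt.ne' (Nat.dvd_one.1 this)) l ηl hl hηl).2
  rw [Module.finrank_fintype_fun_eq_card, Fintype.card_sum, Fintype.card_fin] at this
  omega

/-- Adjacency of two odd primes in the prime graph of PSp(2n,q): let F be a finite field of characteristic p with q elements, n ≥ 2 with PSp(2n,F) simple, and let r ≠ s be odd primes different from p dividing the order of PSp(2n,F). Let k, l be the multiplicative orders of q modulo r and s, put η(m) = m for odd m and η(m) = m/2 for even m, and suppose η(k) ≤ η(l). Then PSp(2n,F) has NO element of order r·s if and only if η(k) + η(l) > n and l/k is not an odd integer. -/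
theorem result {F : Type*} [Field F] [Fintype F] (p : ℕ) [Fact p.Prime] [CharP F p] (n : ℕ) (hn : 2 ≤ n) (hsmall : n = 2 → 3 ≤ Fintype.card F)
    (r s : ℕ) (hr : r.Prime) (hs : s.Prime) (hr2 : r ≠ 2) (hs2 : s ≠ 2) (hrp : r ≠ p) (hsp : s ≠ p) (hrs : r ≠ s)
    (hrG : r ∣ Nat.card (Cfsg.PSp n F)) (hsG : s ∣ Nat.card (Cfsg.PSp n F))
    (k l ηk ηl : ℕ) (hk : k = orderOf ((Fintype.card F : ℕ) : ZMod r)) (hl : l = orderOf ((Fintype.card F : ℕ) : ZMod s))
    (hηk : (Odd k ∧ ηk = k) ∨ (Even k ∧ 2 * ηk = k)) (hηl : (Odd l ∧ ηl = l) ∨ (Even l ∧ 2 * ηl = l)) (hkl : ηk ≤ ηl) :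
    (r * s ∉ Set.range (orderOf : Cfsg.PSp n F → ℕ)) ↔ (n < ηk + ηl ∧ ¬ ∃ t : ℕ, Odd t ∧ l = k * t) := by
  have hodd : Odd (r * s) := (hr.odd_of_ne_two hr2).mul (hs.odd_of_ne_two hs2)
  have hcop : Nat.Coprime r s := (Nat.coprime_primes hr hs).2 hrs
  have hq : 1 ≤ Fintype.card F := Fintype.card_pos
  obtain ⟨hηk1, hck⟩ := prime_cond r hr (not_dvd_card p r hr hrp) k ηk hk hηk
  obtain ⟨hηl1, hcl⟩ := prime_cond s hs (not_dvd_card p s hs hsp) l ηl hl hηl
  constructor
  · intro hno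
    refine ⟨?_, ?_⟩
    · by_contra hle
      apply hno
      obtain ⟨W1, _, _, _, β1, y1, hA1, hnd1, hdim1, hpres1, hord1⟩ := model p r k ηk hηk1 hck
      obtain ⟨W2, _, _, _, β2, y2, hA2, hnd2, hdim2, hpres2, hord2⟩ := model p s l ηl hηl1 hcl
      apply real_of_model n (by omega) (r * s) (ηk + ηl) hodd (by omega) (prodB β1 β2)
        (LinearMap.prodMap y1 y2) (fun x => by rw [prodB_apply, hA1, hA2, add_zero])
        (prodB_nd hnd1 hnd2) (by rw [Module.finrank_prod, hdim1, hdim2]; ring)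
        (prodMap_pres hpres1 hpres2)
      intro j
      rw [prodMap_pow, prodMap_eq_one_iff, hord1, hord2]
      constructor
      · rintro ⟨h1, h2⟩
        exact hcop.mul_dvd_of_dvd_of_dvd h1 h2
      · intro h
        exact ⟨(Dvd.intro _ rfl).trans h, (Dvd.intro_left _ rfl).trans h⟩
    · rintro ⟨t, ht, hlt⟩
      apply hno
      have hle : ηl ≤ n := eta_le p n (by omega) s hs hs2 hsp hsG l ηl hl hηl
      have hcond : (Odd l ∧ ηl = l ∧ r * s ∣ Fintype.card F ^ l - 1) ∨
          (Even l ∧ 2 * ηl = l ∧ r * s ∣ Fintype.card F ^ ηl + 1) := by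
        rcases hcl with ⟨h1, h2, h3⟩ | ⟨h1, h2, h3⟩
        · refine Or.inl ⟨h1, h2, hcop.mul_dvd_of_dvd_of_dvd ?_ h3⟩
          apply (orderOf_zmod_dvd_iff r _ l hq).1
          rw [← hk, hlt]
          exact Dvd.intro _ rfl
        · refine Or.inr ⟨h1, h2, hcop.mul_dvd_of_dvd_of_dvd ?_ h3⟩
          rcases hck with ⟨g1, g2, g3⟩ | ⟨g1, g2, g3⟩
          · exfalso
            rw [hlt] at h1
            exact (Nat.not_even_iff_odd.2 (g1.mul ht)) h1
          · have e1 : ηl = ηk * t := by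
              have : 2 * ηl = 2 * (ηk * t) := by rw [h2, hlt, ← g2, mul_assoc]
              omega
            rw [e1, pow_mul]
            apply g3.trans
            have := Odd.nat_add_dvd_pow_add_pow (Fintype.card F ^ ηk) 1 ht
            rwa [one_pow] at this
      obtain ⟨W, _, _, _, β, y, hA, hnd, hdim, hpres, hord⟩ := model p (r * s) l ηl hηl1 hcond
      exact real_of_model n (by omega) (r * s) ηl hodd hle β y hA hnd hdim hpres hord
  · rintro ⟨h1, h2⟩ ⟨x, hx⟩
    obtain ⟨h, h', hh, hj⟩ := sp_exact n (by omega) x (Or.inr (by rw [hx]; exact hodd))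
    rw [hx] at hj
    rcases rs_bound (n := n) p (sB n) (fun v => by rw [sB_apply, sympForm_self])
      (fun u hu => sympForm_nondeg n u (fun v => by rw [← sB_apply]; exact hu v))
      (by rw [Module.finrank_fintype_fun_eq_card, Fintype.card_sum, Fintype.card_fin]; omega)
      hh r s hr hs hr2 hs2 hrp hsp hrs hj k l ηk ηl hk hl hηk hηl hkl with h3 | h3
    · omega
    · exact h2 h3

end Cfsg.Agent.S2469
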