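import Mathlib
import Cfsg.Statements.S2470
import Cfsg.Agent.Lib.Helper45PSL2

set_option autoImplicit false
open Cfsg

namespace Cfsg.Agent.S2470

open Cfsg.Agent.Lib.Helper45PSL Cfsg.Agent.Lib.Helper45PSL2 Cfsg.Agent.Lib.Helper45ProjOrder Module

/-- Adjacency of an odd prime and the characteristic in the prime graph of PSL(n,q): let F be a finite field of characteristic p with q elements, n ≥ 2 with PSL(n,F) simple, and let r ≠ p be an odd prime dividing the order of PSL(n,F), with k the multiplicative order of q modulo r. Then PSL(n,F) has NO element of order r·p if and only if either k > n − 2, or n = 3, r = 3 and 3 divides q − 1 exactly once. -/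
theorem result {F : Type*} [Field F] [Fintype F] (p : ℕ) [Fact p.Prime] [CharP F p] (n : ℕ) (hn : 2 ≤ n) (hsmall : n = 2 → 4 ≤ Fintype.card F)
    (r : ℕ) (hr : r.Prime) (hr2 : r ≠ 2) (hrp : r ≠ p) (hrG : r ∣ Nat.card (Matrix.ProjectiveSpecialLinearGroup (Fin n) F))
    (k : ℕ) (hk : k = orderOf ((Fintype.card F : ℕ) : ZMod r)) :
    (r * p ∉ Set.range (orderOf : Matrix.ProjectiveSpecialLinearGroup (Fin n) F → ℕ)) ↔
      (n - 2 < k ∨ (n = 3 ∧ r = 3 ∧ 3 ∣ Fintype.card F - 1 ∧ ¬ 9 ∣ Fintype.card F - 1)) := by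
  have hp : p.Prime := Fact.out
  have hq1 : 1 ≤ Fintype.card F := Fintype.card_pos
  have hkd : ∀ d, k ∣ d ↔ r ∣ Fintype.card F ^ d - 1 := fun d => by
    rw [hk]; exact orderOf_zmod_dvd_iff r _ d hq1
  have hk0 : k ≠ 0 := by
    obtain ⟨d, hd1, -, hd⟩ := exists_dvd_of_dvd_card_psl p n r hr hrp hrG
    rintro rfl
    have := (hkd d).2 hd
    rw [zero_dvd_iff] at this
    omega
  rw [not_iff_comm]
  constructor
  · intro h
    push Not at h
    obtain ⟨h1, h2⟩ := h
    have hkn : k + 2 ≤ n := by omega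
    by_cases hr1 : r ∣ Fintype.card F - 1
    · by_cases hn4 : 4 ≤ n
      · exact exists_rp_two p n r hr hrp hr1 hn4
      · have hn3 : n = 3 := by omega
        subst hn3
        exact exists_rp_three p r hr hrp hr1 (fun h3 => by
          by_contra h9
          exact h9 (h2 rfl h3 (h3 ▸ hr1)))
    · exact exists_rp_one p n r k hr hrp hk0 ((hkd k).1 dvd_rfl) hr1 hkn
  · rintro ⟨x, hx⟩
    obtain ⟨g, rfl⟩ := QuotientGroup.mk_surjective x
    change orderOf (QuotientGroup.mk g : Matrix.ProjectiveSpecialLinearGroup (Fin n) F) = r * p at hx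
    have : Nontrivial (Fin n → F) := by
      have : Nonempty (Fin n) := ⟨⟨0, by omega⟩⟩
      infer_instance
    set G : End F (Fin n → F) := Matrix.toLin' (g : Matrix (Fin n) (Fin n) F) with hG
    obtain ⟨c, hc⟩ := (proj_pow_eq_one_iff_lin g (r * p)).1 (by rw [← hx]; exact pow_orderOf_eq_one _)
    have hc0 : c ≠ 0 := scalar_ne_zero G (det_toLin'_sl g) _ c hc
    have hne : ∀ j, (∃ a : F, G ^ j = a • 1) → r * p ∣ j := by
      intro j hj
      rw [← hx]
      apply orderOf_dvd_of_pow_eq_one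
      rw [proj_pow_eq_one_iff_lin]
      exact hj
    have key := adjp_lower p G (det_toLin'_sl g) r hr hrp c hc0 hc
      (fun a ha => by
        have h3 := hne r ⟨a, ha⟩
        have h4 : p ∣ 1 := Nat.dvd_of_mul_dvd_mul_left hr.pos (by rwa [mul_one])
        exact hp.one_lt.ne' (Nat.dvd_one.1 h4))
      (fun a ha => by
        have h3 := hne p ⟨a, ha⟩
        have h4 : r ∣ 1 := Nat.dvd_of_mul_dvd_mul_right hp.pos (by rwa [one_mul])
        exact hr.one_lt.ne' (Nat.dvd_one.1 h4))
      k (fun d hd => (hkd d).2 hd)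
    rw [Module.finrank_fin_fun] at key
    rintro (h4 | h4)
    · omega
    · exact key.2 h4

end Cfsg.Agent.S2470
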