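import Cfsg.Statements.S2477
import Cfsg.Agent.Lib.Helper46Alt

set_option autoImplicit false
open Cfsg

namespace Cfsg.Agent.S2477

/-- Exhaustive search over multisets of parts at least 2 with bounded sum. -/
def chk (good : ℕ → Bool) : ℕ → ℕ → ℕ → ℕ → Bool
  | 0, _, _, _ => false
  | (f + 1), budget, L, par =>
    (if par % 2 = 0 then good L else true) &&
      (List.range (budget + 1)).all
        (fun a => if 2 ≤ a then chk good f (budget - a) (Nat.lcm L a) (par + a + 1) else true)

theorem chk_sound (good : ℕ → Bool) (m : Multiset ℕ) :
    ∀ (f budget L par : ℕ), chk good f budget L par = true → (∀ a ∈ m, 2 ≤ a) → m.sum ≤ budget →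
      Even (par + (m.sum + Multiset.card m)) → good (Nat.lcm L m.lcm) = true := by
  induction m using Multiset.induction_on with
  | empty =>
    intro f budget L par h _ _ hev
    cases f with
    | zero => simp [chk] at h
    | succ f =>
      simp only [chk, Bool.and_eq_true] at h
      have h1 := h.1
      have : par % 2 = 0 := by
        simp at hev
        exact Nat.even_iff.mp hev
      simp only [this, if_true] at h1
      simpa using h1
  | cons a s ih =>
    intro f budget L par h h2 hsum hev
    cases f with
    | zero => simp [chk] at h
    | succ f =>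
      simp only [chk, Bool.and_eq_true, List.all_eq_true, List.mem_range] at h
      rw [Multiset.sum_cons] at hsum
      have ha2 : 2 ≤ a := h2 a (Multiset.mem_cons_self a s)
      have h1 := h.2 a (by omega)
      simp only [ha2, if_true] at h1
      have := ih f (budget - a) (Nat.lcm L a) (par + a + 1) h1
        (fun b hb => h2 b (Multiset.mem_cons_of_mem hb)) (by omega)
        (by
          rw [Multiset.sum_cons, Multiset.card_cons] at hev
          have e : par + a + 1 + (s.sum + Multiset.card s) = par + (a + s.sum + (Multiset.card s + 1)) := by
            omega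
          rw [e]; exact hev)
      rw [Multiset.lcm_cons, lcm_eq_nat_lcm, ← Nat.lcm_assoc]
      exact this

/-- The set of element orders of the alternating group of degree 10 is {1, 2, 3, 4, 5, 6, 7, 8, 9, 10, 12, 15, 21}. -/
theorem result : Set.range (orderOf : alternatingGroup (Fin 10) → ℕ) = {1, 2, 3, 4, 5, 6, 7, 8, 9, 10, 12, 15, 21} := by
  ext k
  rw [Lib.Helper46Alt.mem_range_orderOf_alt_iff]
  constructor
  · rintro ⟨m, hsum, h2, hev, rfl⟩
    have h := chk_sound (fun k => decide (k ∈ [1, 2, 3, 4, 5, 6, 7, 8, 9, 10, 12, 15, 21])) m 7 10 1 0
      (by decide) h2 hsum (by simpa using hev)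
    simp only [Nat.lcm_one_left, decide_eq_true_eq] at h
    simpa using h
  · intro hk
    simp only [Set.mem_insert_iff, Set.mem_singleton_iff] at hk
    rcases hk with rfl | rfl | rfl | rfl | rfl | rfl | rfl | rfl | rfl | rfl | rfl | rfl | rfl
    · exact ⟨∅, by decide, by decide, by decide, by decide⟩
    · exact ⟨{2, 2}, by decide, by decide, by decide, by decide⟩
    · exact ⟨{3}, by decide, by decide, by decide, by decide⟩
    · exact ⟨{4, 2}, by decide, by decide, by decide, by decide⟩
    · exact ⟨{5}, by decide, by decide, by decide, by decide⟩
    · exact ⟨{3, 2, 2}, by decide, by decide, by decide, by decide⟩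
    · exact ⟨{7}, by decide, by decide, by decide, by decide⟩
    · exact ⟨{8, 2}, by decide, by decide, by decide, by decide⟩
    · exact ⟨{9}, by decide, by decide, by decide, by decide⟩
    · exact ⟨{5, 2, 2}, by decide, by decide, by decide, by decide⟩
    · exact ⟨{4, 3, 2}, by decide, by decide, by decide, by decide⟩
    · exact ⟨{5, 3}, by decide, by decide, by decide, by decide⟩
    · exact ⟨{7, 3}, by decide, by decide, by decide, by decide⟩

end Cfsg.Agent.S2477
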