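import Mathlib
import Cfsg.Statements.S2495
import Cfsg.Agent.Lib.Helper45PSL4
import Cfsg.Agent.S2904

set_option autoImplicit false
open Cfsg

namespace Cfsg.Agent.S2495

open Cfsg.Agent.Lib.Helper45PSL Cfsg.Agent.Lib.Helper45PSL2 Cfsg.Agent.Lib.Helper45PSL4
  Cfsg.Agent.Lib.Helper45ProjOrder Module

/-- Let q be an odd prime power, n ≥ 4 even, and L = PSL(n,q). Then L has an element of order q^(n/2) + 1 if and only if the 2-part of n exceeds the 2-part of q − 1. -/
theorem result {F : Type*} [Field F] [Fintype F] {q : ℕ} (hF : Fintype.card F = q) (hodd : Odd q)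
    {n : ℕ} (hn : 4 ≤ n) (heven : Even n) :
    (∃ g : Matrix.ProjectiveSpecialLinearGroup (Fin n) F, orderOf g = q ^ (n / 2) + 1) ↔
      padicValNat 2 (q - 1) < padicValNat 2 n := by
  subst hF
  obtain ⟨p, hchar⟩ := CharP.exists F
  have hp : p.Prime := (CharP.char_is_prime_or_zero F p).resolve_right (by
    rintro rfl
    have := CharP.charP_to_charZero F
    exact not_finite F)
  have : Fact p.Prime := ⟨hp⟩
  obtain ⟨m, hm⟩ := heven
  have hnm : n = 2 * m := by omega
  subst hnm
  have hm2 : 2 ≤ m := by omega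
  have hq2 : 2 ≤ Fintype.card F := Fintype.one_lt_card
  rw [Nat.mul_div_cancel_left m (by norm_num), ← core_iff (Fintype.card F) m hq2 (by omega)]
  have : Finite (Matrix.ProjectiveSpecialLinearGroup (Fin (2 * m)) F) := by
    unfold Matrix.ProjectiveSpecialLinearGroup
    infer_instance
  constructor
  · rintro ⟨x, hx⟩
    obtain ⟨g, rfl⟩ := QuotientGroup.mk_surjective x
    change orderOf (QuotientGroup.mk g : Matrix.ProjectiveSpecialLinearGroup (Fin (2 * m)) F) = _ at hx
    have : Nontrivial (Fin (2 * m) → F) := by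
      have : Nonempty (Fin (2 * m)) := ⟨⟨0, by omega⟩⟩
      infer_instance
    set G : End F (Fin (2 * m) → F) := Matrix.toLin' (g : Matrix (Fin (2 * m)) (Fin (2 * m)) F) with hG
    have hfr : finrank F (Fin (2 * m) → F) = 2 * m := Module.finrank_fin_fun F
    have hdet : LinearMap.det G = 1 := det_toLin'_sl g
    obtain ⟨r, hr, hrd, hprim⟩ := Cfsg.Agent.S2904.result (Fintype.card F) (2 * m) (by omega)
      (by omega) (by
        rintro ⟨h2, -⟩
        rw [h2] at hodd
        exact absurd hodd (by decide)) (by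
        rintro ⟨h2, -⟩
        omega)
    have hrp : r ≠ p := by
      rintro rfl
      obtain ⟨e, -, he⟩ := FiniteField.card F r
      have h1 : r ∣ Fintype.card F ^ (2 * m) :=
        dvd_pow (by rw [he]; exact dvd_pow_self r e.ne_zero) (by omega)
      have h2 : 1 ≤ Fintype.card F ^ (2 * m) := Nat.one_le_pow _ _ (by omega)
      have h3 : r ∣ 1 := by
        have := Nat.dvd_sub h1 hrd
        rwa [Nat.sub_sub_self h2] at this
      exact hr.one_lt.ne' (Nat.dvd_one.1 h3)
    have hrN : r ∣ Fintype.card F ^ m + 1 := by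
      have h1 : Fintype.card F ^ (2 * m) - 1 = (Fintype.card F ^ m + 1) * (Fintype.card F ^ m - 1) := by
        rw [← Nat.sq_sub_sq, one_pow, ← pow_mul, mul_comm m 2]
      rw [h1] at hrd
      rcases (Nat.Prime.dvd_mul hr).1 hrd with h | h
      · exact h
      · exact absurd h (hprim m (by omega) (by omega))
    obtain ⟨N', hN'⟩ := hrN
    obtain ⟨c, hc⟩ := (proj_pow_eq_one_iff_lin g (Fintype.card F ^ m + 1)).1
      (by rw [← hx]; exact pow_orderOf_eq_one _)
    have hc0 : c ≠ 0 := scalar_ne_zero G hdet _ c hc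
    have hirr : Irreducible G.charpoly := by
      apply irreducible_charpoly_of_ppd p G r hr hrp (by rw [hfr]; exact hprim)
        (N' * (Fintype.card F - 1))
      · rw [show N' * (Fintype.card F - 1) * r = (r * N') * (Fintype.card F - 1) by ring, ← hN',
          pow_mul, hc, _root_.smul_pow, one_pow, FiniteField.pow_card_sub_one_eq_one c hc0, one_smul]
      · intro h
        have h1 : Fintype.card F ^ m + 1 ∣ N' * (Fintype.card F - 1) := by
          rw [← hx]
          apply orderOf_dvd_of_pow_eq_one
          rw [proj_pow_eq_one_iff_lin]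
          exact ⟨1, by rw [h, one_smul]⟩
        rw [hN', mul_comm r N'] at h1
        have hN'0 : 0 < N' := by
          rcases Nat.eq_zero_or_pos N' with h0 | h0
          · rw [h0, mul_zero] at hN'
            omega
          · exact h0
        have h2 := Nat.dvd_of_mul_dvd_mul_left hN'0 h1
        exact hprim 1 one_pos (by omega) (by rwa [pow_one])
    obtain ⟨μ, hμ⟩ := pow_eq_smul_of_irreducible G hdet hirr
    rw [hfr] at hμ
    rw [← hx]
    apply orderOf_dvd_of_pow_eq_one
    rw [proj_pow_eq_one_iff_lin]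
    exact ⟨μ, hμ⟩
  · intro h
    obtain ⟨y, hy⟩ := exists_singer (F := F) p (2 * m) (by omega)
    exact exists_orderOf_eq_of_dvd y _ (h.trans hy)

end Cfsg.Agent.S2495
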