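import Mathlib
import Cfsg.Statements.S2496
import Cfsg.Agent.Lib.Helper45PSUHalf

set_option autoImplicit false
open Cfsg

namespace Cfsg.Agent.S2496

open Cfsg.Agent.Lib.Helper45PSUHalf Cfsg.Agent.Lib.Helper45Form Cfsg.Agent.Lib.Helper45SU
  Cfsg.Agent.Lib.Helper45ProjOrder Module

/-- Let q be an odd prime power, n ≥ 4 even, and U = PSU(n,q) (realised over the field with q² elements). Then U has an element of order q^(n/2) + (−1)^(n/2) — that is, q^(n/2) + 1 when n/2 is even and q^(n/2) − 1 when n/2 is odd — if and only if the 2-part of n exceeds the 2-part of q + 1. -/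
theorem result {F : Type*} [Field F] [Fintype F] {q : ℕ} (hF : Fintype.card F = q ^ 2) (hodd : Odd q)
    {n : ℕ} (hn : 4 ≤ n) (heven : Even n) :
    (∃ g : Cfsg.PSU n F q, orderOf g = if Even (n / 2) then q ^ (n / 2) + 1 else q ^ (n / 2) - 1) ↔
      padicValNat 2 (q + 1) < padicValNat 2 n := by
  obtain ⟨p, hchar⟩ := CharP.exists F
  have hpp : p.Prime := (CharP.char_is_prime_or_zero F p).resolve_right (by
    rintro rfl
    have := CharP.charP_to_charZero F
    exact not_finite F)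
  have : Fact p.Prime := ⟨hpp⟩
  obtain ⟨σ, hσ⟩ := Cfsg.Agent.Lib.Helper7Herm.exists_sigma hF
  have hq2 := Cfsg.Agent.Lib.Helper7Herm.two_le_q hF
  obtain ⟨a, hq⟩ : ∃ a, q = p ^ a := by
    obtain ⟨n, -, hn⟩ := FiniteField.card F p
    have h1 : q ∣ p ^ (n : ℕ) := by
      rw [← hn, hF]
      exact Dvd.intro_left (q ^ 1) (by ring)
    obtain ⟨a, -, ha⟩ := (Nat.dvd_prime_pow hpp).1 h1
    exact ⟨a, ha⟩
  obtain ⟨m, hm⟩ := heven
  have hnm : n = 2 * m := by omega
  subst hnm
  have hm2 : 2 ≤ m := by omega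
  rw [Nat.mul_div_cancel_left m (by norm_num), ← core_iff' q m hq2 (by omega)]
  change (∃ g : Cfsg.PSU (2 * m) F q, orderOf g = NN q m) ↔ _
  have : Finite (Cfsg.PSU (2 * m) F q) := by
    unfold Cfsg.PSU
    infer_instance
  constructor
  · rintro ⟨x, hx⟩
    obtain ⟨A, rfl⟩ := QuotientGroup.mk_surjective x
    change orderOf (QuotientGroup.mk A : Cfsg.PSU (2 * m) F q) = _ at hx
    let g : End F (Fin (2 * m) → F) := Matrix.toLin' (A.1 : Matrix (Fin (2 * m)) (Fin (2 * m)) F)
    let g' : End F (Fin (2 * m) → F) :=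
      Matrix.toLin' ((A⁻¹ : Cfsg.SU (2 * m) F q).1 : Matrix (Fin (2 * m)) (Fin (2 * m)) F)
    have hgg' : g * g' = 1 := by
      show (Matrix.toLin' _).comp (Matrix.toLin' _) = 1
      rw [← Matrix.toLin'_mul, ← Matrix.SpecialLinearGroup.coe_mul, ← Subgroup.coe_mul,
        mul_inv_cancel]
      exact Matrix.toLin'_one
    have hg'g : g' * g = 1 := by
      show (Matrix.toLin' _).comp (Matrix.toLin' _) = 1
      rw [← Matrix.toLin'_mul, ← Matrix.SpecialLinearGroup.coe_mul, ← Subgroup.coe_mul,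
        inv_mul_cancel]
      exact Matrix.toLin'_one
    have hg : Isom (stdB hF hσ (2 * m)) g g' := Isom.of_preserves hgg' hg'g (fun u v => by
      rw [stdB_apply, stdB_apply]
      exact A.2 v u)
    have hdet : LinearMap.det g = 1 := by
      show LinearMap.det (Matrix.toLin' (A.1 : Matrix (Fin (2 * m)) (Fin (2 * m)) F)) = 1
      rw [LinearMap.det_toLin']
      exact A.1.2
    have hiff : ∀ j, (∃ μ : F, g ^ j = μ • 1) ↔
        (QuotientGroup.mk A : Cfsg.PSU (2 * m) F q) ^ j = 1 := by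
      intro j
      rw [Cfsg.Agent.Lib.Helper45SU.proj_pow_eq_one_iff hF (by omega)]
      have h1 : (1 : End F (Fin (2 * m) → F)) = Matrix.toLin' 1 := Matrix.toLin'_one.symm
      constructor
      · rintro ⟨μ, hμ⟩
        refine ⟨μ, ?_⟩
        have h2 : Matrix.toLin' (A.1 : Matrix (Fin (2 * m)) (Fin (2 * m)) F) ^ j = μ • 1 := hμ
        rw [← Matrix.toLin'_pow, h1, ← map_smul] at h2
        exact Matrix.toLin'.injective h2
      · rintro ⟨μ, hμ⟩
        refine ⟨μ, ?_⟩
        show Matrix.toLin' (A.1 : Matrix (Fin (2 * m)) (Fin (2 * m)) F) ^ j = μ • 1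
        rw [← Matrix.toLin'_pow, h1, ← map_smul, hμ]
    obtain ⟨c, hc⟩ := (hiff (NN q m)).2 (by rw [← hx]; exact pow_orderOf_eq_one _)
    exact dvd_of_orderOf hF hσ p hodd (stdB hF hσ (2 * m)) (stdB_symm hF hσ (2 * m))
      (stdB_nd hF hσ (2 * m)) m hm2 (by rw [Module.finrank_fin_fun]) g g' hg hdet c hc
      (fun j hj => by
        rw [← hx]
        exact orderOf_dvd_of_pow_eq_one ((hiff j).1 hj))
  · intro h
    obtain ⟨y, hy⟩ := exists_half hF hσ p a hq m (by omega)
    exact exists_orderOf_eq_of_dvd y _ (h.trans hy)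

end Cfsg.Agent.S2496
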