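import Cfsg.Statements.S2518
import Mathlib
import Cfsg.Prelude
import Cfsg.Agent.Lib.Helper62G2e
import Cfsg.Agent.Lib.Helper62ChevTransport
import Cfsg.Agent.Lib.Helper7SL
import Cfsg.Agent.S2475

set_option autoImplicit false
open Cfsg

namespace Cfsg.Agent.S2518

open Cfsg.Agent.Lib.Helper62G2e Cfsg.Agent.Lib.Helper62G2d

theorem exists_order_congr {G H : Type*} [Group G] [Group H] (e : G ≃* H) (n : ℕ) :
    (∃ x : G, orderOf x = n) ↔ ∃ y : H, orderOf y = n := by
  constructor
  · rintro ⟨x, hx⟩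
    exact ⟨e x, by rw [e.orderOf_eq, hx]⟩
  · rintro ⟨x, hx⟩
    exact ⟨e.symm x, by rw [e.symm.orderOf_eq, hx]⟩

theorem psl_iff {E : Type*} [Field E] [Fintype E] (hE : Fintype.card E = 13) (r s : ℕ)
    (hr : r.Prime) (hs : s.Prime) (hrs : r ≠ s) :
    (∃ y : (Matrix.ProjectiveSpecialLinearGroup (Fin 2) E), orderOf y = r * s) ↔ r * s = 6 := by
  have : Fact (Nat.Prime 13) := ⟨by norm_num⟩
  have : CharP E 13 := charP_of_card_eq_prime_pow (p := 13) (f := 1) (by rw [hE]; norm_num)
  have h := Cfsg.Agent.S2475.result (F := E) 13 (by rw [hE]; norm_num)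
  have h1 : (∃ y : (Matrix.ProjectiveSpecialLinearGroup (Fin 2) E), orderOf y = r * s) ↔
      r * s ∈ Set.range (orderOf : Matrix.ProjectiveSpecialLinearGroup (Fin 2) E → ℕ) := Iff.rfl
  rw [h1, h, hE]
  have e1 : (13 - 1) / Nat.gcd 2 (13 - 1) = 6 := by norm_num
  have e2 : (13 + 1) / Nat.gcd 2 (13 - 1) = 7 := by norm_num
  rw [Set.mem_ofPred_eq, e1, e2]
  constructor
  · rintro (h | h | h)
    · exfalso
      have a1 := (Nat.prime_dvd_prime_iff_eq hr (by norm_num)).1 (Dvd.dvd.trans (Dvd.intro _ rfl) h)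
      have a2 := (Nat.prime_dvd_prime_iff_eq hs (by norm_num)).1
        (Dvd.dvd.trans (Dvd.intro_left _ rfl) h)
      exact hrs (a1.trans a2.symm)
    · have key : ∀ t : ℕ, t.Prime → t ∣ 6 → t = 2 ∨ t = 3 := by
        intro t ht hd
        have : t ∣ 2 * 3 := hd
        rcases (Nat.Prime.dvd_mul ht).1 this with h | h
        · left; exact (Nat.prime_dvd_prime_iff_eq ht (by norm_num)).1 h
        · right; exact (Nat.prime_dvd_prime_iff_eq ht (by norm_num)).1 h
      have a1 := key r hr (Dvd.dvd.trans (Dvd.intro _ rfl) h)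
      have a2 := key s hs (Dvd.dvd.trans (Dvd.intro_left _ rfl) h)
      rcases a1 with rfl | rfl <;> rcases a2 with rfl | rfl <;>
        first
        | exact absurd rfl hrs
        | rfl
    · exfalso
      have a1 := (Nat.prime_dvd_prime_iff_eq hr (by norm_num)).1 (Dvd.dvd.trans (Dvd.intro _ rfl) h)
      have a2 := (Nat.prime_dvd_prime_iff_eq hs (by norm_num)).1
        (Dvd.dvd.trans (Dvd.intro_left _ rfl) h)
      exact hrs (a1.trans a2.symm)
  · intro h
    right; left
    rw [h]

/-- Let F₃ be the field with 3 elements and F₁₃ the field with 13 elements. The Chevalley group G₂(F₃) and PSL(2, F₁₃) have the same prime graph: the same prime divisors of their orders, and for distinct primes r, s an element of order rs in one iff in the other. -/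
theorem result {F : Type*} [Field F] [Fintype F] (hF : Fintype.card F = 3) {E : Type*} [Field E] [Fintype E] (hE : Fintype.card E = 13) :
    ((∀ r : ℕ, r.Prime → (r ∣ Nat.card ↥(Cfsg.Lie.chevG2.group F) ↔ r ∣ Nat.card (Matrix.ProjectiveSpecialLinearGroup (Fin 2) E))) ∧
      (∀ r s : ℕ, r.Prime → s.Prime → r ≠ s → ((∃ x : ↥(Cfsg.Lie.chevG2.group F), orderOf x = r * s) ↔ (∃ y : (Matrix.ProjectiveSpecialLinearGroup (Fin 2) E), orderOf y = r * s)))) := by
  constructor
  · intro r hr
    have c1 : Nat.card ↥(Cfsg.Lie.chevG2.group F) = 4245696 := by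
      rw [Cfsg.Agent.S1059.result (F := F) (q := 3) hF]; norm_num
    have c2 : Nat.card (Matrix.ProjectiveSpecialLinearGroup (Fin 2) E) = 1092 := by
      have := Cfsg.Agent.Lib.Helper7SL.card_PSL_two_mul_two (F := E) (by rw [hE]; decide)
      rw [hE] at this
      omega
    rw [c1, c2]
    constructor
    · intro h
      rcases prime_dvd hr h with rfl | rfl | rfl | rfl <;> norm_num
    · intro h
      exact h.trans (by norm_num)
  · intro r s hr hs hrs
    rw [psl_iff hE r s hr hs hrs, ← model_iff r s hr hs hrs]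
    obtain ⟨e⟩ : Nonempty (↥(Cfsg.Lie.chevG2.group F) ≃* ↥(Cfsg.Lie.chevG2.group K)) :=
      ⟨Cfsg.Agent.Lib.Helper62ChevTransport.groupEquiv Cfsg.Lie.chevG2
        (FiniteField.ringEquivOfCardEq (by rw [hF, ZMod.card]))⟩
    exact exists_order_congr e _

end Cfsg.Agent.S2518
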