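import Cfsg.Statements.S2537
import Mathlib
import Cfsg.Agent.Lib.Helper41Hall
import Cfsg.Agent.S0802
import Cfsg.Agent.S0803

set_option autoImplicit false
open Cfsg

namespace Cfsg.Agent.S2537

open Cfsg.Agent.Lib.Helper41Dk Cfsg.Agent.Lib.Helper41Hall

theorem sq_sub_one' (q : ℕ) (hq : 1 ≤ q) : q ^ 2 - 1 = (q - 1) * (q + 1) := by
  obtain ⟨t, rfl⟩ : ∃ t, q = t + 1 := ⟨q - 1, by omega⟩
  rw [Nat.add_sub_cancel]
  have : (t + 1) ^ 2 = t * (t + 1 + 1) + 1 := by ring
  rw [this, Nat.add_sub_cancel]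

theorem eight_dvd' {q : ℕ} (hodd : Odd q) : 8 ∣ q ^ 2 - 1 := by
  have h1 : q % 8 = 1 ∨ q % 8 = 3 ∨ q % 8 = 5 ∨ q % 8 = 7 := by
    have := Nat.odd_iff.mp hodd
    omega
  have h2 : q ^ 2 % 8 = 1 := by
    rw [Nat.pow_mod]
    rcases h1 with h | h | h | h <;> rw [h]
  omega

theorem three_dvd' {q : ℕ} (h3 : ¬ 3 ∣ q) : 3 ∣ q ^ 2 - 1 := by
  have h1 : q % 3 = 1 ∨ q % 3 = 2 := by omega
  have h2 : q ^ 2 % 3 = 1 := by
    rw [Nat.pow_mod]
    rcases h1 with h | h <;> rw [h]
  omega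

/-- existence of a subgroup of the right order inside the dihedral group -/
theorem exists_of_dvd {F : Type*} [Field F] [Fintype F] (hodd : Odd (Fintype.card F))
    {x : Matrix.SpecialLinearGroup (Fin 2) F} (ht : Cfsg.Agent.Lib.Helper46SL2.tr x ^ 2 ≠ 4) {n m : ℕ}
    (hc : Nat.card (Subgroup.centralizer {x} : Subgroup (Matrix.SpecialLinearGroup (Fin 2) F)) = n * m)
    (hco : n.Coprime m) :
    ∃ H : Subgroup (Matrix.ProjectiveSpecialLinearGroup (Fin 2) F), Nat.card H = n := by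
  have := isSolvable_Dbar ht
  obtain ⟨H0, hH0⟩ := Cfsg.Agent.Lib.Helper12Hall.hall_exists (G := Dbar x) n m
    (by rw [card_Dbar hodd ht, hc]) hco
  exact ⟨H0.map (Dbar x).subtype, by
    rw [Subgroup.card_map_of_injective (Subgroup.subtype_injective _), hH0]⟩

/-- the arithmetic of the dihedral case: `A` is the factor containing the `{2,3}`-part -/
theorem arith_split {A B M n : ℕ} (hM : M ≠ 0) (hAB : M = A * B) (hn : 2 * n = P23 M) {u : ℕ}
    (hB : B = 2 * u) (hu2 : ¬ 2 ∣ u) (hu3 : ¬ 3 ∣ u) : ∃ m', A = n * m' ∧ n.Coprime m' := by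
  obtain ⟨m, hm, hm2, hm3⟩ := P23_spec hM
  have hnP : n ∣ P23 M := ⟨2, by rw [← hn]; ring⟩
  have h1 : A * u = n * m := by
    have : 2 * (A * u) = 2 * (n * m) := by
      calc 2 * (A * u) = A * (2 * u) := by ring
        _ = M := by rw [← hB, hAB]
        _ = P23 M * m := hm
        _ = 2 * (n * m) := by rw [← hn]; ring
    omega
  have h2 : n ∣ A := (coprime_of_dvd_P23 hnP hu2 hu3).dvd_of_dvd_mul_right ⟨m, h1⟩
  obtain ⟨m', rfl⟩ := h2
  have hn0 : 0 < n := by
    have := P23_pos M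
    omega
  have h3 : m' * u = m := by
    apply Nat.eq_of_mul_eq_mul_left hn0
    rw [← h1]; ring
  refine ⟨m', rfl, coprime_of_dvd_P23 hnP ?_ ?_⟩
  · intro h; exact hm2 (h3 ▸ Dvd.dvd.mul_right h u)
  · intro h; exact hm3 (h3 ▸ Dvd.dvd.mul_right h u)

/-- Let `F` be a finite field with `q` elements of characteristic `p ≥ 5`, and `ε = 1` if `q ≡ 1 (mod 4)`, `ε = -1` otherwise. Then `PSL(2, F)` has a Hall `{2, 3}`-subgroup if and only if `3` divides `q − ε`, or the `{2,3}`-part of `q² − 1` is 24, or the `{2,3}`-part of `q² − 1` is 48 (the `{2,3}`-part of `m` being the largest divisor of `m` with no prime factor other than 2 and 3). -/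
theorem result {F : Type*} [Field F] [Fintype F] {p : ℕ} [Fact p.Prime] [CharP F p]
    (hp : 5 ≤ p) (q : ℕ) (hq : Fintype.card F = q) :
    (∃ H : Subgroup (Matrix.ProjectiveSpecialLinearGroup (Fin 2) F), Cfsg.IsPiHall ({2, 3} : Set ℕ) H) ↔
      (3 ∣ q - 1 ∧ q % 4 = 1) ∨ (3 ∣ q + 1 ∧ q % 4 = 3) ∨
        2 ^ (q ^ 2 - 1).factorization 2 * 3 ^ (q ^ 2 - 1).factorization 3 = 24 ∨
        2 ^ (q ^ 2 - 1).factorization 2 * 3 ^ (q ^ 2 - 1).factorization 3 = 48 := by
  subst hq
  set q := Fintype.card F with hqdef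
  have hpp : p.Prime := Fact.out
  have h2F : (2 : F) ≠ 0 := by
    intro h
    have h' : ((2 : ℕ) : F) = 0 := by exact_mod_cast h
    have := Nat.le_of_dvd (by norm_num) ((CharP.cast_eq_zero_iff F p 2).mp h')
    omega
  have hodd : Odd q := odd_card_of_two_ne_zero h2F
  obtain ⟨n0, -, hn0⟩ := FiniteField.card F p
  have hq2 : ¬ 2 ∣ q := by
    have := Nat.odd_iff.mp hodd
    omega
  have hq3 : ¬ 3 ∣ q := by
    intro h
    rw [hqdef, hn0] at h
    have := (Nat.prime_dvd_prime_iff_eq Nat.prime_three hpp).mp (Nat.prime_three.dvd_of_dvd_pow h)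
    omega
  have hq5 : 5 ≤ q := by
    rw [hqdef, hn0]
    calc 5 ≤ p := hp
      _ = p ^ 1 := (pow_one p).symm
      _ ≤ p ^ (n0 : ℕ) := Nat.pow_le_pow_right hpp.pos n0.pos
  have hMfac := sq_sub_one' q (by omega)
  have hM : q ^ 2 - 1 ≠ 0 := by
    rw [hMfac]
    have : 0 < (q - 1) * (q + 1) := Nat.mul_pos (by omega) (by omega)
    omega
  have hG : 2 * Nat.card (Matrix.ProjectiveSpecialLinearGroup (Fin 2) F) = q * (q ^ 2 - 1) := by
    rw [mul_comm]; exact Cfsg.Agent.Lib.Helper7SL.card_PSL_two_mul_two hodd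
  have hiff := hall_iff hG hq2 hq3 hM
  change _ ↔ _ ∨ _ ∨ P23 (q ^ 2 - 1) = 24 ∨ P23 (q ^ 2 - 1) = 48
  obtain ⟨m, hm, hm2, hm3⟩ := P23_spec hM
  set P := P23 (q ^ 2 - 1) with hP
  have h8P : 8 ∣ P := by
    have hco : Nat.Coprime 8 m :=
      Nat.Coprime.pow_left 3 ((Nat.Prime.coprime_iff_not_dvd Nat.prime_two).mpr hm2)
    exact hco.dvd_of_dvd_mul_right (hm ▸ eight_dvd' hodd)
  have h3P : 3 ∣ P := by
    have hco : Nat.Coprime 3 m := (Nat.Prime.coprime_iff_not_dvd Nat.prime_three).mpr hm3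
    exact hco.dvd_of_dvd_mul_right (hm ▸ three_dvd' hq3)
  have hPpos : 0 < P := P23_pos _
  have hno1 : ¬ P ∣ q - 1 := by
    rintro ⟨c, hc⟩
    apply hm2
    have h1 : P * m = P * (c * (q + 1)) := by rw [← hm, hMfac, hc]; ring
    rw [Nat.eq_of_mul_eq_mul_left hPpos h1]
    apply Dvd.dvd.mul_left
    have := Nat.odd_iff.mp hodd
    omega
  have hno2 : ¬ P ∣ q + 1 := by
    rintro ⟨c, hc⟩
    apply hm2
    have h1 : P * m = P * (c * (q - 1)) := by rw [← hm, hMfac, hc]; ring
    rw [Nat.eq_of_mul_eq_mul_left hPpos h1]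
    apply Dvd.dvd.mul_left
    have := Nat.odd_iff.mp hodd
    omega
  have he : ee F = 2 := ee_eq_two hodd
  constructor
  · rintro ⟨H, hH⟩
    have hH2 := (hiff H).mp hH
    obtain ⟨φ, -, hout⟩ := dickson_PSL2' H
    have hcard : Nat.card (H.map (barEquiv φ).toMonoidHom) = Nat.card H :=
      Subgroup.card_map_of_injective (barEquiv φ).injective
    set H' := H.map (barEquiv φ).toMonoidHom with hH'
    have hpre := card_pre H'
    rw [he, hcard, hH2] at hpre
    rcases hout with h | ⟨x, -, ht, h⟩ | ⟨x, hx, ht, h, y, hy, hyx⟩ | ⟨-, h, -⟩ | ⟨-, -, h, -⟩ |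
      ⟨-, -, h, -⟩ | h | ⟨K, -, -, -, h⟩
    · exfalso
      rw [h] at hpre
      have : Nat.card (Subgroup.center (Matrix.SpecialLinearGroup (Fin 2) F)) = 2 := he
      rw [this] at hpre
      rw [← hpre] at h8P
      omega
    · exfalso
      obtain ⟨-, h1⟩ := cyclic_of_AA ht h
      rw [he, hcard] at h1
      have := Nat.odd_iff.mp hodd
      rcases h1 with ⟨c, hc⟩ | ⟨c, hc⟩
      · apply hno2
        refine ⟨c, ?_⟩
        rw [← hH2]
        have : q + 1 = 2 * ((q + 1) / 2) := by omega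
        rw [this, hc]; ring
      · apply hno1
        refine ⟨c, ?_⟩
        rw [← hH2]
        have : q - 1 = 2 * ((q - 1) / 2) := by omega
        rw [this, hc]; ring
    · obtain ⟨a, -, h1, h2, -⟩ := dihedral_of_NN ht hx h hy hyx
      rw [he] at h1
      rw [hcard] at h2
      have hmod := Nat.odd_iff.mp hodd
      have h4n : 4 ∣ Nat.card H := by
        obtain ⟨c, hc⟩ := h8P
        exact ⟨c, by omega⟩
      have h3n : 3 ∣ Nat.card H := by
        have : 3 ∣ 2 * Nat.card H := hH2 ▸ h3P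
        exact (Nat.Coprime.dvd_of_dvd_mul_left (by norm_num) this)
      rcases h1 with ⟨c, hc⟩ | ⟨c, hc⟩
      · right; left
        have h5 : Nat.card H ∣ q + 1 := by
          refine ⟨c, ?_⟩
          have : q + 1 = 2 * ((q + 1) / 2) := by omega
          rw [this, hc, h2]; ring
        refine ⟨h3n.trans h5, ?_⟩
        have := h4n.trans h5
        omega
      · left
        have h5 : Nat.card H ∣ q - 1 := by
          refine ⟨c, ?_⟩
          have : q - 1 = 2 * ((q - 1) / 2) := by omega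
          rw [this, hc, h2]; ring
        refine ⟨h3n.trans h5, ?_⟩
        have := h4n.trans h5
        omega
    · right; right; left
      rw [← hpre, h, he]
    · right; right; right
      rw [← hpre, h, he]
    · exfalso
      rw [h, he] at hpre
      have h5 : 5 ∣ P := by rw [← hpre]; norm_num
      rcases prime_dvd_P23 Nat.prime_five h5 with h | h <;> omega
    · exfalso
      have h1 := Subgroup.card_dvd_of_le h
      rw [hpre, card_Bor] at h1
      exact hno1 ((coprime_of_dvd_P23 dvd_rfl hq2 hq3).dvd_of_dvd_mul_left h1)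
    · exfalso
      have hpK : p ∣ Nat.card K := (CharP.cast_eq_zero_iff F p _).mp (cast_card_subfield K)
      have hKP : Nat.card K ∣ P := by
        rw [hpre, he] at h
        rcases h with h | h
        · rw [h]
          exact Dvd.dvd.mul_left (Dvd.dvd.mul_right (Dvd.intro _ rfl) _) _
        · have : P = Nat.card K * (Nat.card K - 1) * (Nat.card K + 1) := by omega
          rw [this]
          exact Dvd.dvd.mul_right (Dvd.intro _ rfl) _
      rcases prime_dvd_P23 hpp (hpK.trans hKP) with h | h <;> omega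
  · have hmod := Nat.odd_iff.mp hodd
    obtain ⟨n, hn⟩ : ∃ n, 2 * n = P := by
      obtain ⟨c, hc⟩ := h8P
      exact ⟨4 * c, by omega⟩
    rintro (⟨h3, h4⟩ | ⟨h3, h4⟩ | h | h)
    · obtain ⟨x, ht, hc⟩ := exists_split (F := F) (by omega)
      obtain ⟨m', hm', hco⟩ := arith_split (A := q - 1) (B := q + 1) (u := (q + 1) / 2) hM hMfac hn
        (by omega) (by omega) (by omega)
      obtain ⟨H, hH⟩ := exists_of_dvd hodd ht (hc.trans hm') hco
      exact ⟨H, (hiff H).mpr (by rw [hH, hn])⟩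
    · obtain ⟨x, ht, hc⟩ := exists_nonsplit' (F := F)
      obtain ⟨m', hm', hco⟩ := arith_split (A := q + 1) (B := q - 1) (u := (q - 1) / 2) hM
        (by rw [hMfac, mul_comm]) hn (by omega) (by omega) (by omega)
      obtain ⟨H, hH⟩ := exists_of_dvd hodd ht (hc.trans hm') hco
      exact ⟨H, (hiff H).mpr (by rw [hH, hn])⟩
    · obtain ⟨H, ⟨e⟩⟩ := (Cfsg.Agent.S0802.result p n0 hn0).mpr (by omega)
      refine ⟨H, (hiff H).mpr ?_⟩
      rw [Nat.card_congr e.toEquiv, h]
      have : Nat.card (alternatingGroup (Fin 4)) = 12 := by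
        rw [Nat.card_eq_fintype_card]; rfl
      rw [this]
    · obtain ⟨H, ⟨e⟩⟩ := (Cfsg.Agent.S0803.result (F := F) rfl).mpr (by
        have h16 : 16 ∣ q ^ 2 - 1 := by
          rw [hm, h]
          exact Dvd.dvd.mul_right (by norm_num) _
        have : 1 ≤ q ^ 2 := Nat.one_le_pow _ _ (by omega)
        change q ^ 2 % 16 = 1
        omega)
      refine ⟨H, (hiff H).mpr ?_⟩
      rw [Nat.card_congr e.toEquiv, h, Nat.card_eq_fintype_card, Fintype.card_perm, Fintype.card_fin]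
      rfl

end Cfsg.Agent.S2537
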