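import Cfsg.Statements.S2542
import Mathlib
import Cfsg.Agent.Lib.Helper47AltHom
import Cfsg.Agent.S0243

set_option autoImplicit false
open Cfsg

namespace Cfsg.Agent.S2542



section aux
open Cfsg.Agent.Lib.Helper47AltHom

/-- `SL₂(𝔽₁₁)`. -/
abbrev SS := Matrix.SpecialLinearGroup (Fin 2) (ZMod 11)

/-- constructor. -/
def mkS (a b c d : ZMod 11) (h : a * d - b * c = 1) : SS :=
  ⟨!![a, b; c, d], by rw [Matrix.det_fin_two_of]; exact h⟩

def A1 : SS := mkS 3 1 9 7 (by decide)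
def A2 : SS := mkS 3 8 7 8 (by decide)
def A3 : SS := mkS 8 5 9 3 (by decide)
def DD : SS := mkS 2 0 0 6 (by decide)
def UU (c : ZMod 11) : SS := mkS 1 c 0 1 (by ring)

/-- the generators. -/
def AA : Fin 4 → SS := ![1, A1, A2, A3]

theorem rels : ∀ i j : Fin 4, ((AA i)⁻¹ * AA j) ^ (CoxeterMatrix.A 4 i j) = 1 ∨
    ((AA i)⁻¹ * AA j) ^ (CoxeterMatrix.A 4 i j) = -1 := by
  decide

theorem r2 : A1 * A2⁻¹ * A3 = DD := by decide

theorem r3 : A3 * UU 1 = UU 8 * (A3 * A1 * A2) ∨ A3 * UU 1 = -(UU 8 * (A3 * A1 * A2)) := by decide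

theorem r4 : ∀ c, DD * UU c * DD⁻¹ = UU (4 * c) := by decide

theorem r5 : ∀ c : ZMod 11, c ≠ 0 → ∃ i : Fin 5, c = 4 ^ (i : ℕ) * 1 ∨ c = 4 ^ (i : ℕ) * 8 := by decide

theorem r6 : ∀ a b, (UU a)⁻¹ * UU b = UU (b - a) := by decide

theorem r7 : ∀ c, (UU c) ^ 11 = 1 := by decide

theorem r8 : UU 0 = 1 := by decide

theorem two_trans_of_double_coset {G : Type*} [Group G] (H : Subgroup G) (g0 : G)
    (h : ∀ g, g ∉ H → ∃ a ∈ H, ∃ b ∈ H, g = a * g0 * b) :
    MulAction.IsMultiplyPretransitive G (G ⧸ H) 2 := by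
  rw [MulAction.is_two_pretransitive_iff]
  intro a b c d hab hcd
  induction a using QuotientGroup.induction_on with
  | H a =>
  induction b using QuotientGroup.induction_on with
  | H b =>
  induction c using QuotientGroup.induction_on with
  | H c =>
  induction d using QuotientGroup.induction_on with
  | H d =>
  have h1 : a⁻¹ * b ∉ H := fun hh => hab (QuotientGroup.eq.mpr hh)
  have h2 : c⁻¹ * d ∉ H := fun hh => hcd (QuotientGroup.eq.mpr hh)
  obtain ⟨x, hx, y, hy, e1⟩ := h _ h1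
  obtain ⟨x', hx', y', hy', e2⟩ := h _ h2
  refine ⟨c * x' * x⁻¹ * a⁻¹, ?_, ?_⟩
  · change ((c * x' * x⁻¹ * a⁻¹ * a : G) : G ⧸ H) = (c : G ⧸ H)
    rw [QuotientGroup.eq]
    have : (c * x' * x⁻¹ * a⁻¹ * a)⁻¹ * c = x * x'⁻¹ := by group
    rw [this]
    exact H.mul_mem hx (H.inv_mem hx')
  · change ((c * x' * x⁻¹ * a⁻¹ * b : G) : G ⧸ H) = (d : G ⧸ H)
    rw [QuotientGroup.eq]
    have hb : b = a * (x * g0 * y) := by rw [← e1]; group
    have hd : d = c * (x' * g0 * y') := by rw [← e2]; group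
    have : (c * x' * x⁻¹ * a⁻¹ * b)⁻¹ * d = y⁻¹ * y' := by
      rw [hb, hd]; group
    rw [this]
    exact H.mul_mem (H.inv_mem hy) hy'

theorem main {G : Type*} [Group G] [Finite G] (hG : Nat.card G = 660) (Φ : SS →* G)
    (hneg : Φ (-1) = 1) (hU : ∀ c, Φ (UU c) = 1 → c = 0) :
    ∃ H : Subgroup G, H.index = 11 ∧ Nonempty (H ≃* alternatingGroup (Fin 5)) ∧
      MulAction.IsMultiplyPretransitive G (G ⧸ H) 2 := by
  have hnegx : ∀ x : SS, Φ (-x) = Φ x := by
    intro x
    rw [← neg_one_mul, map_mul, hneg, one_mul]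
  obtain ⟨φ, hφ⟩ : ∃ φ : alternatingGroup (Fin 5) →* G, ∀ (i : Fin 4)
      (h : Equiv.swap (0 : Fin 5) 1 * Equiv.swap i.castSucc i.succ ∈ alternatingGroup (Fin 5)),
      φ ⟨Equiv.swap (0 : Fin 5) 1 * Equiv.swap i.castSucc i.succ, h⟩ = Φ (AA i) :=
    exists_altHom 3 (fun i => Φ (AA i)) (by simp [AA]) (by
    intro i j
    rw [← map_inv, ← map_mul, ← map_pow]
    rcases rels i j with h | h
    · rw [h, map_one]
    · rw [h, hneg])
  have hmem : ∀ i : Fin 4, Φ (AA i) ∈ φ.range := by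
    intro i
    have hs : Equiv.swap (0 : Fin 5) 1 * Equiv.swap i.castSucc i.succ ∈ alternatingGroup (Fin 5) := by
      rw [Equiv.Perm.mem_alternatingGroup]
      revert i
      decide
    exact ⟨_, hφ i hs⟩
  have hA1 : Φ A1 ∈ φ.range := hmem 1
  have hA2 : Φ A2 ∈ φ.range := hmem 2
  have hA3 : Φ A3 ∈ φ.range := hmem 3
  have hD : Φ DD ∈ φ.range := by
    rw [← r2, map_mul, map_mul, map_inv]
    exact mul_mem (mul_mem hA1 (inv_mem hA2)) hA3
  have hr3 : Φ A3 * Φ (UU 1) = Φ (UU 8) * (Φ A3 * Φ A1 * Φ A2) := by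
    simp only [← map_mul]
    rcases r3 with h | h
    · rw [h]
    · rw [h, hnegx]
  have hinj : Function.Injective φ := by
    rcases (MonoidHom.normal_ker φ).eq_bot_or_eq_top with h | h
    · exact (MonoidHom.ker_eq_bot_iff φ).mp h
    · exfalso
      have htriv : ∀ x ∈ φ.range, x = 1 := by
        rintro _ ⟨w, rfl⟩
        have : w ∈ φ.ker := by rw [h]; trivial
        exact this
      rw [htriv _ hA1, htriv _ hA2, htriv _ hA3] at hr3
      simp only [one_mul, mul_one] at hr3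
      have h7 : Φ (UU (8 - 1)) = 1 := by
        rw [← r6, map_mul, map_inv, hr3]
        simp
      exact absurd (hU _ h7) (by decide)
  have hcardH : Nat.card φ.range = 60 := by
    rw [← Nat.card_congr (MonoidHom.ofInjective hinj).toEquiv]
    have := two_mul_nat_card_alternatingGroup (α := Fin 5)
    rw [Nat.card_eq_fintype_card (α := Equiv.Perm (Fin 5)), Fintype.card_perm, Fintype.card_fin] at this
    have h5 : Nat.factorial 5 = 120 := by decide
    omega
  have hidx : φ.range.index = 11 := by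
    have := φ.range.card_mul_index
    rw [hcardH, hG] at this
    omega
  refine ⟨φ.range, hidx, ⟨(MonoidHom.ofInjective hinj).symm⟩, ?_⟩
  apply two_trans_of_double_coset φ.range (Φ (UU 1))
  -- cosets are represented by the `UU c`
  have hinjU : Function.Injective (fun c : ZMod 11 => (Φ (UU c) : G ⧸ φ.range)) := by
    intro a b hab
    have h1 : (Φ (UU a))⁻¹ * Φ (UU b) ∈ φ.range := QuotientGroup.eq.mp hab
    rw [← map_inv, ← map_mul, r6] at h1
    have h60 : (Φ (UU (b - a))) ^ 60 = 1 := by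
      have := pow_card_eq_one' (G := φ.range) (x := ⟨_, h1⟩)
      rw [hcardH] at this
      exact congrArg Subtype.val this
    have h11 : (Φ (UU (b - a))) ^ 11 = 1 := by
      rw [← map_pow, r7, map_one]
    have h1' : Φ (UU (b - a)) = 1 := by
      have e : (Φ (UU (b - a))) ^ 121 = (Φ (UU (b - a))) ^ 120 * Φ (UU (b - a)) := pow_succ _ _
      rw [show 121 = 11 * 11 by norm_num, show 120 = 60 * 2 by norm_num, pow_mul, pow_mul, h11, h60] at e
      simpa using e.symm
    have := hU _ h1'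
    exact (sub_eq_zero.mp this).symm
  have hsurjU : Function.Surjective (fun c : ZMod 11 => (Φ (UU c) : G ⧸ φ.range)) := by
    have : Finite (G ⧸ φ.range) := inferInstance
    have : Fintype (G ⧸ φ.range) := Fintype.ofFinite _
    have hb := (Fintype.bijective_iff_injective_and_card _).mpr ⟨hinjU, by
      rw [ZMod.card, ← Nat.card_eq_fintype_card]
      exact hidx.symm⟩
    exact hb.2
  have hconj : ∀ (i : ℕ) (c : ZMod 11), Φ (UU (4 ^ i * c)) = Φ DD ^ i * Φ (UU c) * (Φ DD ^ i)⁻¹ := by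
    intro i
    induction i with
    | zero => intro c; simp
    | succ i ih =>
      intro c
      rw [pow_succ', mul_assoc, ← r4, map_mul, map_mul, ih, map_inv, pow_succ']
      group
  intro g hg
  obtain ⟨c, hc⟩ := hsurjU (g : G ⧸ φ.range)
  have hc' : (Φ (UU c))⁻¹ * g ∈ φ.range := QuotientGroup.eq.mp hc
  have hc0 : c ≠ 0 := by
    rintro rfl
    rw [r8, map_one, inv_one, one_mul] at hc'
    exact hg hc'
  obtain ⟨i, hi⟩ := r5 c hc0
  have hDi : Φ DD ^ (i : ℕ) ∈ φ.range := pow_mem hD _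
  rcases hi with hi | hi
  · refine ⟨Φ DD ^ (i : ℕ), hDi, (Φ DD ^ (i : ℕ))⁻¹ * ((Φ (UU c))⁻¹ * g),
      mul_mem (inv_mem hDi) hc', ?_⟩
    have := hconj i 1
    rw [← hi] at this
    rw [this]
    group
  · have h8 : Φ (UU 8) = Φ A3 * Φ (UU 1) * (Φ A3 * Φ A1 * Φ A2)⁻¹ := by
      rw [hr3]; group
    refine ⟨Φ DD ^ (i : ℕ) * Φ A3, mul_mem hDi hA3,
      (Φ A3 * Φ A1 * Φ A2)⁻¹ * (Φ DD ^ (i : ℕ))⁻¹ * ((Φ (UU c))⁻¹ * g),
      mul_mem (mul_mem (inv_mem (mul_mem (mul_mem hA3 hA1) hA2)) (inv_mem hDi)) hc', ?_⟩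
    have := hconj i 8
    rw [← hi, h8] at this
    rw [this]
    group

end aux

/-- Let F be a field with 11 elements. PSL_2(F) has a subgroup H of index 11 isomorphic to the alternating group A_5, and the action of PSL_2(F) on the cosets of H is 2-transitive (of degree 11). -/
theorem result {F : Type*} [Field F] [Fintype F] (hF : Fintype.card F = 11) : ∃ H : Subgroup (Matrix.ProjectiveSpecialLinearGroup (Fin 2) F), H.index = 11 ∧ Nonempty (H ≃* alternatingGroup (Fin 5)) ∧ MulAction.IsMultiplyPretransitive (Matrix.ProjectiveSpecialLinearGroup (Fin 2) F) ((Matrix.ProjectiveSpecialLinearGroup (Fin 2) F) ⧸ H) 2 := by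
  let e : ZMod 11 ≃+* F := ZMod.ringEquivOfPrime F (by norm_num) hF
  let Φ : SS →* Matrix.ProjectiveSpecialLinearGroup (Fin 2) F :=
    (QuotientGroup.mk' _).comp (Matrix.SpecialLinearGroup.map (e : ZMod 11 →+* F))
  have hcard : Nat.card (Matrix.ProjectiveSpecialLinearGroup (Fin 2) F) = 660 := by
    have := Cfsg.Agent.S0243.result hF 2 (le_refl 2)
    simp [Fin.prod_univ_two] at this
    omega
  apply main hcard Φ
  · change ((Matrix.SpecialLinearGroup.map (e : ZMod 11 →+* F) (-1) : Matrix.SpecialLinearGroup (Fin 2) F) :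
      Matrix.ProjectiveSpecialLinearGroup (Fin 2) F) = 1
    rw [QuotientGroup.eq_one_iff, Matrix.SpecialLinearGroup.mem_center_iff]
    refine ⟨-1, by norm_num, ?_⟩
    ext i j
    rw [Matrix.SpecialLinearGroup.map_apply_coe]
    fin_cases i <;> fin_cases j <;> simp
  · intro c hc
    change ((Matrix.SpecialLinearGroup.map (e : ZMod 11 →+* F) (UU c) : Matrix.SpecialLinearGroup (Fin 2) F) :
      Matrix.ProjectiveSpecialLinearGroup (Fin 2) F) = 1 at hc
    rw [QuotientGroup.eq_one_iff, Matrix.SpecialLinearGroup.mem_center_iff] at hc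
    obtain ⟨r, _, hr⟩ := hc
    have h01 := congrFun (congrFun hr 0) 1
    rw [Matrix.SpecialLinearGroup.map_apply_coe] at h01
    simp [UU, mkS] at h01
    exact (map_eq_zero_iff e e.injective).mp h01.symm

end Cfsg.Agent.S2542
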