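import Cfsg.Statements.S2543
import Mathlib
import Cfsg.Agent.Lib.Helper41A5b
import Cfsg.Agent.Lib.Helper41Max
import Cfsg.Agent.S0804

set_option autoImplicit false
open scoped Pointwise
open Cfsg

namespace Cfsg.Agent.S2543

/-- Let F be a field with 11 elements. PSL_2(F) has exactly 22 subgroups isomorphic to the alternating group A_5, and they form two conjugacy classes: there are two such subgroups that are not conjugate, and every such subgroup is conjugate to one of these two. -/
theorem result {F : Type*} [Field F] [Fintype F] (hF : Fintype.card F = 11) : Nat.card {H : Subgroup (Matrix.ProjectiveSpecialLinearGroup (Fin 2) F) // Nonempty (H ≃* alternatingGroup (Fin 5))} = 22 ∧ ∃ H K : Subgroup (Matrix.ProjectiveSpecialLinearGroup (Fin 2) F), Nonempty (H ≃* alternatingGroup (Fin 5)) ∧ Nonempty (K ≃* alternatingGroup (Fin 5)) ∧ (∀ g : Matrix.ProjectiveSpecialLinearGroup (Fin 2) F, MulAut.conj g • H ≠ K) ∧ ∀ L : Subgroup (Matrix.ProjectiveSpecialLinearGroup (Fin 2) F), Nonempty (L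 ≃* alternatingGroup (Fin 5)) → ∃ g : Matrix.ProjectiveSpecialLinearGroup (Fin 2) F, MulAut.conj g • L = H ∨ MulAut.conj g • L = K := by
  have natne : ∀ n : ℕ, 0 < n → n < 11 → ((n : ℕ) : F) ≠ 0 := by
    intro n h0 h1 h
    obtain ⟨p, hp⟩ := CharP.exists F
    have hpp : p.Prime := by
      rcases CharP.char_is_prime_or_zero F p with h | h
      · exact h
      · subst h
        have := CharP.charP_to_charZero F
        exact absurd (inferInstance : Finite F) (not_finite_iff_infinite.mpr inferInstance)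
    have h11 : ((11 : ℕ) : F) = 0 := by rw [← hF]; exact Nat.cast_card_eq_zero F
    have d1 : p ∣ 11 := (CharP.cast_eq_zero_iff F p 11).mp h11
    have d2 : p ∣ n := (CharP.cast_eq_zero_iff F p n).mp h
    have : p = 11 := ((Nat.dvd_prime (by norm_num)).mp d1).resolve_left hpp.one_lt.ne'
    subst this
    exact absurd (Nat.le_of_dvd h0 d2) (by omega)
  have h2 : (2 : F) ≠ 0 := by exact_mod_cast natne 2 (by norm_num) (by norm_num)
  have h3 : (3 : F) ≠ 0 := by exact_mod_cast natne 3 (by norm_num) (by norm_num)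
  have h5 : (5 : F) ≠ 0 := by exact_mod_cast natne 5 (by norm_num) (by norm_num)
  obtain ⟨L0, ⟨e0⟩⟩ := (Cfsg.Agent.S0804.result hF).mpr (by norm_num)
  have hc := Cfsg.Agent.Lib.Helper41A5.card_A5_subgroups h2 h3 h5 e0
  have hP := Cfsg.Agent.Lib.Helper41Max.two_card_PSL2 (F := F) (by rw [hF]; decide)
  rw [hF] at hP
  refine ⟨by omega, ?_⟩
  obtain ⟨K, hK, hnc, hall⟩ := Cfsg.Agent.Lib.Helper41A5.A5_two_classes h2 h3 h5 e0
  refine ⟨L0, K, ⟨e0⟩, hK, ?_, ?_⟩
  · intro g hg
    exact hnc ⟨g, hg.symm⟩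
  · intro L hL
    rcases hall L hL with ⟨g, hg⟩ | ⟨g, hg⟩
    · refine ⟨g⁻¹, Or.inl ?_⟩
      have : L = MulAut.conj g • L0 := hg
      rw [this, smul_smul, ← map_mul, inv_mul_cancel, map_one, one_smul]
    · refine ⟨g⁻¹, Or.inr ?_⟩
      have : L = MulAut.conj g • K := hg
      rw [this, smul_smul, ← map_mul, inv_mul_cancel, map_one, one_smul]

end Cfsg.Agent.S2543
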