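import Cfsg.Statements.S2794
import Cfsg.Agent.Lib.Helper14QdFus
import Cfsg.Agent.Lib.Helper14Transport

set_option autoImplicit false
open Cfsg

namespace Cfsg.Agent.S2794

open Cfsg.Agent.Lib.Helper24Section Cfsg.Agent.Lib.Helper14QdFus

/-- For an odd prime p and a finite group G, the group Qd(p) is not involved in G if and only if in every section K/R of G, for every Sylow p-subgroup S* of K/R, the centre of J(S*) (J generated by the abelian subgroups of largest order) controls strong fusion in K/R. -/
theorem result {G : Type*} [Group G] [Finite G] {p : ℕ} [Fact p.Prime] (hp : p ≠ 2) : ¬ Cfsg.Involves ↥(Cfsg.qd p) G ↔ ∀ (K R : Subgroup G) [hR : (R.subgroupOf K).Normal], ∀ T : Sylow p (K ⧸ R.subgroupOf K), Cfsg.ControlsStrongFusion p (Cfsg.centerThompsonAOf (T : Subgroup (K ⧸ R.subgroupOf K))) := by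
  constructor
  · intro hfree K R hR T
    apply controls_ZJA hp
    intro h
    exact hfree (Involves.trans h ⟨K, R, hR, ⟨MulEquiv.refl _⟩⟩)
  · rintro h ⟨K, R, hR, ⟨e⟩⟩
    obtain ⟨T₀⟩ : Nonempty (Sylow p ↥(Cfsg.qd p)) := inferInstance
    have hes : Function.Surjective e.symm.toMonoidHom := e.symm.surjective
    have h1 := controls_map e _ (h K R (T₀.mapSurjective hes))
    rw [Sylow.coe_mapSurjective,
      ← Cfsg.Agent.Lib.Helper14Transport.centerThompsonAOf_map e.toMonoidHom e.injective.injOn,
      Cfsg.Agent.Lib.Helper39SecTransport.map_symm_map] at h1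
    exact not_controls T₀ h1

end Cfsg.Agent.S2794
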