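import Cfsg.Statements.S2801
import Cfsg.Agent.Lib.Helper52PReduced

set_option autoImplicit false
open Cfsg

namespace Cfsg.Agent.S2801

open Cfsg.Agent.Lib.Helper52Basic Cfsg.Agent.Lib.Helper52PReduced

/-- Let L be a finite group and p a prime with C_L(O_p(L)) ≤ O_p(L). Then L has a unique largest p-reduced normal subgroup: some normal elementary abelian p-subgroup Y with O_p(L/C_L(Y)) = 1 contains every other such subgroup. -/
theorem result {L : Type*} [Group L] [Finite L] {p : ℕ} [Fact p.Prime] (hchar : Subgroup.centralizer (Cfsg.pCore p L : Set L) ≤ Cfsg.pCore p L) : ∃ Y : Subgroup L, (Cfsg.IsPReducedNormal p Y ∧ ∀ V : Subgroup L, Cfsg.IsPReducedNormal p V → V ≤ Y) := by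
  set Q := Cfsg.pCore p L with hQ
  have hQc : ∀ V : Subgroup L, Cfsg.IsPReducedNormal p V → Q ≤ Subgroup.centralizer (V : Set L) := by
    intro V hV
    obtain ⟨_, _, h3⟩ := (isPReducedNormal_iff V).1 hV
    apply h3 Q inferInstance
    intro d hd
    obtain ⟨k, hk⟩ := (pCore_isPGroup (G := L) (p := p)) ⟨d, hd⟩
    refine ⟨k, ?_⟩
    have : d ^ (p ^ k) = 1 := by simpa using congrArg Subtype.val hk
    rw [this]
    exact Subgroup.one_mem _
  have hZc : ∀ a ∈ Q ⊓ Subgroup.centralizer (Q : Set L), ∀ b ∈ Q ⊓ Subgroup.centralizer (Q : Set L),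
      a * b = b * a := by
    intro a ha b hb
    exact (Subgroup.mem_centralizer_iff.1 hb.2 a ha.1)
  refine ⟨sSup {V : Subgroup L | Cfsg.IsPReducedNormal p V}, ?_, fun V hV => le_sSup hV⟩
  set Y := sSup {V : Subgroup L | Cfsg.IsPReducedNormal p V} with hY
  have hYE : Y ≤ Cfsg.omegaOne p (Q ⊓ Subgroup.centralizer (Q : Set L)) := by
    apply sSup_le
    intro V hV v hv
    apply Subgroup.subset_closure
    refine ⟨⟨?_, ?_⟩, hV.2.1.2 v hv⟩
    · exact le_pCore hV.1 (isPGroup_of_elemAb hV.2.1) hv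
    · exact (Subgroup.le_centralizer_iff.1 (hQc V hV)) hv
  rw [isPReducedNormal_iff]
  refine ⟨Subgroup.sSup_normal _ (fun _ h => h.1), ⟨?_, ?_⟩, ?_⟩
  · rw [← Subgroup.le_centralizer_iff_isMulCommutative]
    intro a ha
    rw [Subgroup.mem_centralizer_iff]
    intro b hb
    exact hZc b (mem_omegaOne_of_comm hZc (hYE hb)).1 a (mem_omegaOne_of_comm hZc (hYE ha)).1
  · intro a ha
    exact (mem_omegaOne_of_comm hZc (hYE ha)).2
  · intro D hD hp
    rw [Subgroup.le_centralizer_iff]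
    apply sSup_le
    intro V hV
    rw [← Subgroup.le_centralizer_iff]
    obtain ⟨_, _, h3⟩ := (isPReducedNormal_iff V).1 hV
    apply h3 D hD
    intro d hd
    obtain ⟨k, hk⟩ := hp d hd
    exact ⟨k, Subgroup.centralizer_le (le_sSup hV : V ≤ Y) hk⟩

end Cfsg.Agent.S2801
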