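import Cfsg.Statements.S2802
import Cfsg.Agent.Lib.Helper52PReduced

set_option autoImplicit false
open Cfsg

namespace Cfsg.Agent.S2802

open Cfsg.Agent.Lib.Helper52Basic Cfsg.Agent.Lib.Helper52PReduced

/-- Let L be a finite group and p a prime with C_L(O_p(L)) ≤ O_p(L), T a Sylow p-subgroup of L and R a subgroup with T ≤ R. If X is a p-reduced normal subgroup of R (normal in R, elementary abelian, O_p(R/C_R(X)) = 1), then the normal closure of X in L is a p-reduced normal subgroup of L. -/
theorem result {L : Type*} [Group L] [Finite L] {p : ℕ} [Fact p.Prime] (hchar : Subgroup.centralizer (Cfsg.pCore p L : Set L) ≤ Cfsg.pCore p L) (T : Sylow p L) (R : Subgroup L) (hTR : (T : Subgroup L) ≤ R) (X : Subgroup ↥R) (hX : Cfsg.IsPReducedNormal p X) : Cfsg.IsPReducedNormal p (Subgroup.normalClosure ((X.map R.subtype : Subgroup L) : Set L)) := by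
  set Q := Cfsg.pCore p L with hQ
  set X' : Subgroup L := X.map R.subtype with hX'
  set V := Subgroup.normalClosure (X' : Set L) with hV
  obtain ⟨hXn, hXe, hXr⟩ := (isPReducedNormal_iff X).1 hX
  have hQR : Q ≤ R := (pCore_le_sylow T).trans hTR
  have h1 : Q.subgroupOf R ≤ Subgroup.centralizer (X : Set ↥R) := by
    apply hXr (Q.subgroupOf R) inferInstance
    intro d hd
    obtain ⟨k, hk⟩ := (pCore_isPGroup (G := L) (p := p)) ⟨d, hd⟩
    refine ⟨k, ?_⟩
    have : d ^ (p ^ k) = 1 := by
      apply Subtype.ext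
      simpa using congrArg Subtype.val hk
    rw [this]
    exact Subgroup.one_mem _
  have h2 : X' ≤ Subgroup.centralizer (Q : Set L) := by
    rintro _ ⟨x, hx, rfl⟩
    rw [Subgroup.mem_centralizer_iff]
    intro q hq
    have h := Subgroup.mem_centralizer_iff.1 (h1 (show (⟨q, hQR hq⟩ : ↥R) ∈ Q.subgroupOf R from hq)) x hx
    exact (congrArg Subtype.val h).symm
  have h3 : X' ≤ Q := h2.trans hchar
  have hZc : ∀ a ∈ Q ⊓ Subgroup.centralizer (Q : Set L), ∀ b ∈ Q ⊓ Subgroup.centralizer (Q : Set L),
      a * b = b * a := by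
    intro a ha b hb
    exact (Subgroup.mem_centralizer_iff.1 hb.2 a ha.1)
  have hZn : (Q ⊓ Subgroup.centralizer (Q : Set L)).Normal := Subgroup.normal_inf_normal _ _
  have hXV : X' ≤ V := Subgroup.le_normalClosure
  have hVE : V ≤ Cfsg.omegaOne p (Q ⊓ Subgroup.centralizer (Q : Set L)) := by
    rw [hV, Subgroup.normalClosure, Subgroup.closure_le]
    intro c hc
    obtain ⟨a, ha, hac⟩ := Group.mem_conjugatesOfSet_iff.1 hc
    obtain ⟨g, rfl⟩ := isConj_iff.1 hac
    apply Subgroup.subset_closure
    refine ⟨hZn.conj_mem a ⟨h3 ha, h2 ha⟩ g, ?_⟩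
    obtain ⟨x, hx, rfl⟩ := ha
    have : (R.subtype x) ^ p = 1 := by
      rw [← map_pow, hXe.2 x hx, map_one]
    rw [conj_pow, this]; group
  rw [isPReducedNormal_iff]
  refine ⟨Subgroup.normalClosure_normal, ⟨?_, ?_⟩, ?_⟩
  · rw [← Subgroup.le_centralizer_iff_isMulCommutative]
    intro a ha
    rw [Subgroup.mem_centralizer_iff]
    intro b hb
    exact hZc b (mem_omegaOne_of_comm hZc (hVE hb)).1 a (mem_omegaOne_of_comm hZc (hVE ha)).1
  · intro a ha
    exact (mem_omegaOne_of_comm hZc (hVE ha)).2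
  · intro D hD hp
    have hVn : V.Normal := Subgroup.normalClosure_normal
    have hDR : D.subgroupOf R ≤ Subgroup.centralizer (X : Set ↥R) := by
      apply hXr (D.subgroupOf R) inferInstance
      intro d hd
      obtain ⟨k, hk⟩ := hp d hd
      refine ⟨k, ?_⟩
      rw [Subgroup.mem_centralizer_iff]
      intro x hx
      apply Subtype.ext
      have := Subgroup.mem_centralizer_iff.1 hk (x : L) (hXV ⟨x, hx, rfl⟩)
      simpa using this
    have hDR' : D ⊓ R ≤ Subgroup.centralizer (X' : Set L) := by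
      intro d hd
      rw [Subgroup.mem_centralizer_iff]
      rintro _ ⟨x, hx, rfl⟩
      have h := Subgroup.mem_centralizer_iff.1
        (hDR (show (⟨d, hd.2⟩ : ↥R) ∈ D.subgroupOf R from hd.1)) x hx
      exact congrArg Subtype.val h
    have hCn : (D ⊓ Subgroup.centralizer (V : Set L)).Normal := Subgroup.normal_inf_normal _ _
    have hfac := le_sup_inf_sylow T D (D ⊓ Subgroup.centralizer (V : Set L))
      (by rw [Subgroup.normalizer_eq_top]; exact le_top)
      (by
        intro d hd
        obtain ⟨k, hk⟩ := hp d hd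
        exact ⟨k, D.pow_mem hd _, hk⟩)
    have hDX : D ≤ Subgroup.centralizer (X' : Set L) :=
      hfac.trans (sup_le (inf_le_right.trans (Subgroup.centralizer_le hXV))
        ((inf_le_inf_left D hTR).trans hDR'))
    rw [Subgroup.le_centralizer_iff]
    exact Subgroup.normalClosure_le_normal (Subgroup.le_centralizer_iff.1 hDX)

end Cfsg.Agent.S2802
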