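import Cfsg.Statements.S2803
import Cfsg.Agent.Lib.Helper52PReduced
import Cfsg.Agent.S2802

set_option autoImplicit false
open Cfsg

namespace Cfsg.Agent.S2803

open Cfsg.Agent.Lib.Helper52Basic Cfsg.Agent.Lib.Helper52PReduced

/-- Let L be a finite group and p a prime with C_L(O_p(L)) ≤ O_p(L), T a Sylow p-subgroup, and Y the largest p-reduced normal subgroup of L. Put T_L = C_T(Y) and L_T = N_L(T_L). Then L = L_T · C_L(Y) (elementwise), T_L = O_p(L_T), and Y = Ω₁(Z(T_L)). -/
theorem result {L : Type*} [Group L] [Finite L] {p : ℕ} [Fact p.Prime] (hchar : Subgroup.centralizer (Cfsg.pCore p L : Set L) ≤ Cfsg.pCore p L) (T : Sylow p L) (Y : Subgroup L) (hY : (Cfsg.IsPReducedNormal p Y ∧ ∀ V : Subgroup L, Cfsg.IsPReducedNormal p V → V ≤ Y)) (TL : Subgroup L) (hTL : TL = (T : Subgroup L) ⊓ Subgroup.centralizer (Y : Set L)) : (∀ g : L, ∃ a ∈ Subgroup.normalizer (TL : Set L), ∃ c ∈ Subgroup.centralizer (Y : Set L), g = a * c) ∧ (Cfsg.pCore p ↥(Subgroup.normalizer (TL : Set L))).map (Subgroup.normalizer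 (TL : Set L)).subtype = TL ∧ Y = Cfsg.omegaOne p (TL ⊓ Subgroup.centralizer (TL : Set L)) := by
  obtain ⟨hYred, hYmax⟩ := hY
  obtain ⟨hYn, hYe, hYr⟩ := (isPReducedNormal_iff Y).1 hYred
  set C := Subgroup.centralizer (Y : Set L) with hC
  set M := Subgroup.normalizer (TL : Set L) with hM
  have hCn : C.Normal := Subgroup.normal_centralizer
  have hMC : M ⊔ C = ⊤ := by
    have hF := Sylow.normalizer_sup_eq_top (sylowInfNormal T C)
    rw [coe_sylowInfNormal, Subgroup.subgroupOf_map_subtype, ← hTL] at hF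
    exact hF
  have part1 : ∀ g : L, ∃ a ∈ M, ∃ c ∈ C, g = a * c := by
    intro g
    have hg : g ∈ ((M ⊔ C : Subgroup L) : Set L) := by rw [hMC]; trivial
    rw [Subgroup.mul_normal] at hg
    obtain ⟨a, ha, c, hc, rfl⟩ := hg
    exact ⟨a, ha, c, hc, rfl⟩
  have star : ∀ A : Subgroup L, M ≤ Subgroup.normalizer (A : Set L) →
      (∀ a ∈ A, ∃ k : ℕ, a ^ (p ^ k) ∈ C) → A ≤ C := by
    intro A hMA hA
    have hn : (A ⊔ C).Normal := by
      rw [← Subgroup.normalizer_eq_top_iff, eq_top_iff, ← hMC]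
      apply sup_le
      · refine le_trans (le_inf hMA ?_) (inf_normalizer_le_normalizer_sup A C)
        rw [Subgroup.normalizer_eq_top]; exact le_top
      · exact le_sup_right.trans Subgroup.le_normalizer
    exact le_sup_left.trans (hYr (A ⊔ C) hn (pow_mem_of_mem_sup_normal A C hA))
  have hTM : (T : Subgroup L) ≤ M := by
    rw [hM, hTL]
    refine le_trans (le_inf Subgroup.le_normalizer ?_) Subgroup.inf_normalizer_le_normalizer_inf
    rw [Subgroup.normalizer_eq_top]; exact le_top
  have hTLM : TL ≤ M := Subgroup.le_normalizer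
  have hTLp : IsPGroup p TL := by
    rw [hTL]; exact T.isPGroup'.to_le inf_le_left
  have part2 : (Cfsg.pCore p ↥M).map M.subtype = TL := by
    apply le_antisymm
    · have hOT : (Cfsg.pCore p ↥M).map M.subtype ≤ T := by
        rintro _ ⟨x, hx, rfl⟩
        have := pCore_le_sylow (T.subtype hTM) hx
        exact this
      have hOC : (Cfsg.pCore p ↥M).map M.subtype ≤ C := by
        apply star
        · rw [Subgroup.le_normalizer_iff]
          rintro m hm _ ⟨x, hx, rfl⟩
          exact ⟨⟨m, hm⟩ * x * ⟨m, hm⟩⁻¹, (Cfsg.pCore_normal p ↥M).conj_mem x hx _, rfl⟩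
        · rintro _ ⟨x, hx, rfl⟩
          obtain ⟨k, hk⟩ := (pCore_isPGroup (G := ↥M) (p := p)) ⟨x, hx⟩
          refine ⟨k, ?_⟩
          have : x ^ (p ^ k) = 1 := by simpa using congrArg Subtype.val hk
          rw [← map_pow, this, map_one]
          exact C.one_mem
      rw [hTL]
      exact le_inf hOT hOC
    · have h1 : TL.subgroupOf M ≤ Cfsg.pCore p ↥M :=
        le_pCore Subgroup.normal_in_normalizer
          (hTLp.comap_of_injective M.subtype M.subtype_injective)
      have h2 := Subgroup.map_mono (f := M.subtype) h1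
      rwa [Subgroup.map_subgroupOf_eq_of_le hTLM] at h2
  have hZc : ∀ a ∈ TL ⊓ Subgroup.centralizer (TL : Set L), ∀ b ∈ TL ⊓ Subgroup.centralizer (TL : Set L),
      a * b = b * a := by
    intro a ha b hb
    exact (Subgroup.mem_centralizer_iff.1 hb.2 a ha.1)
  set X' := Cfsg.omegaOne p (TL ⊓ Subgroup.centralizer (TL : Set L)) with hX'
  have hYT : Y ≤ T := (isPGroup_of_elemAb hYe).le_sylow_of_normal T
  have hYC : Y ≤ C := by
    have := hYe.1
    exact Subgroup.le_centralizer Y
  have hYX : Y ≤ X' := by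
    intro y hy
    apply Subgroup.subset_closure
    refine ⟨⟨?_, ?_⟩, hYe.2 y hy⟩
    · rw [hTL]; exact ⟨hYT hy, hYC hy⟩
    · have h1 : TL ≤ C := by rw [hTL]; exact inf_le_right
      exact (Subgroup.le_centralizer_iff.1 h1) hy
  have hX'TL : X' ≤ TL := fun x hx => (mem_omegaOne_of_comm hZc hx).1.1
  have hX'M : X' ≤ M := hX'TL.trans hTLM
  have hMX' : M ≤ Subgroup.normalizer (X' : Set L) := by
    refine le_trans ?_ (normalizer_le_normalizer_omegaOne p _)
    exact le_trans (le_inf le_rfl (normalizer_le_normalizer_centralizer TL))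
      Subgroup.inf_normalizer_le_normalizer_inf
  have hXred : Cfsg.IsPReducedNormal p (X'.subgroupOf M) := by
    rw [isPReducedNormal_iff]
    have hXn : (X'.subgroupOf M).Normal := Subgroup.normal_subgroupOf_of_le_normalizer hMX'
    refine ⟨hXn, ⟨?_, ?_⟩, ?_⟩
    · rw [← Subgroup.le_centralizer_iff_isMulCommutative]
      intro a ha
      rw [Subgroup.mem_centralizer_iff]
      intro b hb
      apply Subtype.ext
      exact hZc b (mem_omegaOne_of_comm hZc hb).1 a (mem_omegaOne_of_comm hZc ha).1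
    · intro a ha
      apply Subtype.ext
      simpa using (mem_omegaOne_of_comm hZc ha).2
    · intro D hD hp
      have hD'C : D.map M.subtype ≤ C := by
        apply star
        · rw [Subgroup.le_normalizer_iff]
          rintro m hm _ ⟨x, hx, rfl⟩
          exact ⟨⟨m, hm⟩ * x * ⟨m, hm⟩⁻¹, hD.conj_mem x hx _, rfl⟩
        · rintro _ ⟨d, hd, rfl⟩
          obtain ⟨k, hk⟩ := hp d hd
          refine ⟨k, ?_⟩
          rw [hC, Subgroup.mem_centralizer_iff]
          intro y hy
          have h1 := Subgroup.mem_centralizer_iff.1 hk ⟨y, hX'M (hYX hy)⟩ (hYX hy)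
          simpa using congrArg Subtype.val h1
      have hfac := le_sup_inf_sylow (T.subtype hTM) D (Subgroup.centralizer ((X'.subgroupOf M : Subgroup ↥M) : Set ↥M))
        (by rw [Subgroup.normalizer_eq_top]; exact le_top) hp
      refine hfac.trans (sup_le le_rfl ?_)
      intro d hd
      have hdT : (d : L) ∈ T := hd.2
      have hdC : (d : L) ∈ C := hD'C ⟨d, hd.1, rfl⟩
      have hdTL : (d : L) ∈ TL := by rw [hTL]; exact ⟨hdT, hdC⟩
      rw [Subgroup.mem_centralizer_iff]
      intro x hx
      apply Subtype.ext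
      have h2 := (mem_omegaOne_of_comm hZc hx).1.2
      exact (Subgroup.mem_centralizer_iff.1 h2 d hdTL).symm
  refine ⟨part1, part2, le_antisymm hYX ?_⟩
  have h5 := hYmax _ (Cfsg.Agent.S2802.result hchar T M hTM _ hXred)
  rw [Subgroup.map_subgroupOf_eq_of_le hX'M] at h5
  exact Subgroup.le_normalClosure.trans h5

end Cfsg.Agent.S2803
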