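import Cfsg.Statements.S2804
import Cfsg.Agent.Lib.Helper52Subnormal
import Cfsg.Agent.Lib.Helper52PReduced

set_option autoImplicit false
open Cfsg

namespace Cfsg.Agent.S2804

open scoped commutatorElement
open Cfsg.Agent.Lib.Helper52Basic Cfsg.Agent.Lib.Helper52Subnormal Cfsg.Agent.Lib.Helper52PReduced

theorem inf_normalizer_le_normalizer_commutator {G : Type*} [Group G] (A B : Subgroup G) :
    Subgroup.normalizer (A : Set G) ⊓ Subgroup.normalizer (B : Set G)
      ≤ Subgroup.normalizer ((⁅A, B⁆ : Subgroup G) : Set G) := by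
  intro g hg
  have ha : g ∈ Subgroup.normalizer (A : Set G) := hg.1
  have hb : g ∈ Subgroup.normalizer (B : Set G) := hg.2
  rw [Subgroup.mem_normalizer_iff_map_conj_eq] at ha hb ⊢
  rw [Subgroup.map_commutator, ha, hb]

/-- Let L be a finite group and p a prime with C_L(O_p(L)) ≤ O_p(L), V a p-reduced normal subgroup of L and K a subnormal subgroup of L. Then [V, O^p(K)] is contained in K and is a p-reduced normal subgroup of K, where O^p(K) is the subgroup of K generated by its elements of order prime to p. -/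
theorem result {L : Type*} [Group L] [Finite L] {p : ℕ} [Fact p.Prime] (hchar : Subgroup.centralizer (Cfsg.pCore p L : Set L) ≤ Cfsg.pCore p L) (V : Subgroup L) (hV : Cfsg.IsPReducedNormal p V) (K : Subgroup L) (hK : K.IsSubnormal) : ⁅V, (Cfsg.pResidual p ↥K).map K.subtype⁆ ≤ K ∧ Cfsg.IsPReducedNormal p ((⁅V, (Cfsg.pResidual p ↥K).map K.subtype⁆).subgroupOf K) := by
  rw [map_pResidual_eq]
  obtain ⟨hVn, hVe, hCn, hcore⟩ := hV
  set R := res p K with hR
  set W := ⁅V, R⁆ with hW
  have hVp : IsPGroup p V := isPGroup_of_elemAb hVe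
  have hVR : V ≤ Subgroup.normalizer (R : Set L) := normal_pGroup_le_normalizer_res V hVp hK
  have hWR : W ≤ R := Subgroup.le_normalizer_iff_commutator_le_right.1 hVR
  have hWK : W ≤ K := hWR.trans (res_le p K)
  have hWV : W ≤ V := Subgroup.commutator_le_left V R
  have hKW : K ≤ Subgroup.normalizer (W : Set L) := by
    refine le_trans (le_inf ?_ ?_) (inf_normalizer_le_normalizer_commutator V R)
    · rw [Subgroup.normalizer_eq_top]; exact le_top
    · exact Subgroup.le_normalizer.trans (normalizer_le_normalizer_res p K)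
  refine ⟨hWK, ?_⟩
  rw [isPReducedNormal_iff]
  refine ⟨Subgroup.normal_subgroupOf_of_le_normalizer hKW, ⟨?_, ?_⟩, ?_⟩
  · rw [← Subgroup.le_centralizer_iff_isMulCommutative]
    intro a ha
    rw [Subgroup.mem_centralizer_iff]
    intro b hb
    apply Subtype.ext
    have hc := hVe.1
    have h1 := Subgroup.le_centralizer V (hWV ha)
    exact Subgroup.mem_centralizer_iff.1 h1 b (hWV hb)
  · intro a ha
    apply Subtype.ext
    simpa using hVe.2 a (hWV ha)
  · intro D hD hp
    set D' : Subgroup L := D.map K.subtype with hD'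
    have hD'sn : D'.IsSubnormal := hD.isSubnormal.trans' hK
    have hD'K : D' ≤ K := Subgroup.map_subtype_le D
    have h1 : res p D' ≤ Subgroup.centralizer (W : Set L) := by
      apply res_le_of_pow_mem
      rintro _ ⟨d, hd, rfl⟩
      obtain ⟨k, hk⟩ := hp d hd
      refine ⟨k, ?_⟩
      rw [Subgroup.mem_centralizer_iff]
      intro w hw
      have h2 := Subgroup.mem_centralizer_iff.1 hk ⟨w, hWK hw⟩ hw
      simpa using congrArg Subtype.val h2
    have h2 : res p D' ≤ R := res_mono p hD'K
    have h3 : res p D' ≤ Subgroup.centralizer (V : Set L) := by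
      conv_lhs => unfold res
      rw [Subgroup.closure_le]
      intro x hx
      have hxr : x ∈ res p D' := mem_res hx.1 hx.2
      rw [SetLike.mem_coe, Subgroup.mem_centralizer_iff]
      intro v hv
      have hcW : ⁅x, v⁆ ∈ W := by
        rw [hW, Subgroup.commutator_comm]
        exact Subgroup.commutator_mem_commutator (h2 hxr) hv
      have e1 : x * v * x⁻¹ = ⁅x, v⁆ * v := by rw [commutatorElement_def]; group
      have e2 : Commute x ⁅x, v⁆ := (Subgroup.mem_centralizer_iff.1 (h1 hxr) _ hcW).symm
      have e3 := conj_pow_of_commute e1 e2 (orderOf x)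
      rw [pow_orderOf_eq_one] at e3
      have e4 : ⁅x, v⁆ ^ (orderOf x) = 1 := by
        have : v = ⁅x, v⁆ ^ (orderOf x) * v := by simpa using e3
        exact mul_eq_right.1 this.symm
      have e5 : ⁅x, v⁆ ^ p = 1 := hVe.2 _ (hWV hcW)
      have e6 := pow_gcd_eq_one.2 ⟨e4, e5⟩
      rw [Nat.Coprime.gcd_eq_one hx.2, pow_one] at e6
      exact (commutatorElement_eq_one_iff_mul_comm.1 e6).symm
    have h4 : D' ≤ Subgroup.centralizer (V : Set L) := by
      have hs : (D'.map (QuotientGroup.mk' (Subgroup.centralizer (V : Set L)))).IsSubnormal :=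
        hD'sn.map (QuotientGroup.mk'_surjective _)
      have hpg : IsPGroup p (D'.map (QuotientGroup.mk' (Subgroup.centralizer (V : Set L)))) := by
        rintro ⟨q, d, hd, rfl⟩
        obtain ⟨j, hj⟩ := exists_pow_mem_res (p := p) D' hd
        refine ⟨j, Subtype.ext ?_⟩
        show (QuotientGroup.mk' _ d) ^ (p ^ j) = 1
        rw [← map_pow]
        exact (QuotientGroup.eq_one_iff _).2 (h3 hj)
      have h5 := subnormal_pGroup_le_pCore hs hpg
      rw [hcore, le_bot_iff, (Subgroup.map_eq_bot_iff _), QuotientGroup.ker_mk'] at h5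
      exact h5
    intro d hd
    rw [Subgroup.mem_centralizer_iff]
    intro w hw
    apply Subtype.ext
    exact Subgroup.mem_centralizer_iff.1 (h4 ⟨d, hd, rfl⟩) w (hWV hw)

end Cfsg.Agent.S2804
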