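import Cfsg.Statements.S3028
import Cfsg.Agent.Lib.Helper56SylJoin
import Cfsg.Agent.Lib.Helper56CD3
import Cfsg.Agent.Lib.Helper66Subnormal

set_option autoImplicit false
open Cfsg

namespace Cfsg.Agent.S3028


open scoped Pointwise
open Cfsg.Agent.Lib.Helper56SylJoin Cfsg.Agent.Lib.Helper58Subnormal
  Cfsg.Agent.Lib.Helper52Subnormal Cfsg.Agent.Lib.Helper66Subnormal

universe u

theorem isSubnormal_conj {G : Type*} [Group G] {B : Subgroup G} (hB : B.IsSubnormal) (x : G) :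
    (B.map (MulAut.conj x).toMonoidHom).IsSubnormal :=
  hB.map (MulAut.conj x).surjective

theorem isSubnormal_cl {G : Type*} [Group G] [Finite G] (T : Subgroup G) {B : Subgroup G}
    (hB : B.IsSubnormal) : (cl T B).IsSubnormal := by
  rw [cl_eq_sSup]
  apply sn_top_iff.1
  apply Sn.sSup
  rintro _ ⟨x, -, rfl⟩
  exact sn_top_iff.2 (isSubnormal_conj hB x)

/-- Dedekind-type step -/
theorem le_sup_inf_of_le {G : Type*} [Group G] {S T R : Subgroup G} (hTS : T ≤ S)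
    (hTR : T ≤ Subgroup.normalizer (R : Set G)) (hle : S ≤ T ⊔ R) : S ≤ T ⊔ (R ⊓ S) := by
  intro s hs
  have h1 : s ∈ ((T ⊔ R : Subgroup G) : Set G) := hle hs
  rw [Subgroup.coe_mul_of_left_le_normalizer_right T R hTR] at h1
  obtain ⟨t, ht, r, hr, rfl⟩ := Set.mem_mul.1 h1
  have hrS : r ∈ S := by
    have : r = t⁻¹ * (t * r) := by group
    rw [this]
    exact mul_mem (inv_mem (hTS ht)) hs
  exact mul_mem ((le_sup_left : T ≤ T ⊔ (R ⊓ S)) ht)
    ((le_sup_right : R ⊓ S ≤ T ⊔ (R ⊓ S)) (Subgroup.mem_inf.2 ⟨hr, hrS⟩))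

theorem le_of_sup_eq_top {G : Type*} [Group G] {S T R : Subgroup G} (hTS : T ≤ S)
    (hTR : T ≤ Subgroup.normalizer (R : Set G)) (hle : S ≤ T ⊔ R) (hRS : R ⊓ S ≤ T) : S ≤ T :=
  (le_sup_inf_of_le hTS hTR hle).trans (sup_le le_rfl hRS)

theorem comm_mem_inf {G : Type*} [Group G] {N A : Subgroup G} [hN : N.Normal]
    (h : N ≤ Subgroup.normalizer (A : Set G)) {a d : G} (ha : a ∈ A) (hd : d ∈ N) :
    a * d * a⁻¹ * d⁻¹ ∈ N ⊓ A := by
  refine Subgroup.mem_inf.2 ⟨mul_mem (hN.conj_mem d hd a) (inv_mem hd), ?_⟩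
  have h1 : d * a⁻¹ * d⁻¹ ∈ A := (Subgroup.mem_normalizer_iff.1 (h hd) a⁻¹).1 (inv_mem ha)
  have : a * d * a⁻¹ * d⁻¹ = a * (d * a⁻¹ * d⁻¹) := by group
  rw [this]
  exact mul_mem ha h1

theorem normalizes_sup_inf {G : Type*} [Group G] {N A₁ A₂ : Subgroup G} [hN : N.Normal]
    (h : N ≤ Subgroup.normalizer (A₂ : Set G)) :
    A₂ ≤ Subgroup.normalizer (((N ⊓ A₁) ⊔ (N ⊓ A₂) : Subgroup G) : Set G) := by
  apply le_normalizer_of
  intro a ha w hw
  have hle : ((N ⊓ A₁) ⊔ (N ⊓ A₂)).map (MulAut.conj a).toMonoidHom ≤ (N ⊓ A₁) ⊔ (N ⊓ A₂) := by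
    rw [Subgroup.map_sup]
    refine sup_le ?_ ?_
    · rintro _ ⟨d, hd, rfl⟩
      have hdN : d ∈ N := (Subgroup.mem_inf.1 hd).1
      have h1 := comm_mem_inf h ha hdN
      have : (MulAut.conj a).toMonoidHom d = (a * d * a⁻¹ * d⁻¹) * d := by
        simp [MulAut.conj_apply]
      rw [this]
      exact mul_mem ((le_sup_right : N ⊓ A₂ ≤ (N ⊓ A₁) ⊔ (N ⊓ A₂)) h1)
        ((le_sup_left : N ⊓ A₁ ≤ (N ⊓ A₁) ⊔ (N ⊓ A₂)) hd)
    · rintro _ ⟨d, hd, rfl⟩
      apply (le_sup_right : N ⊓ A₂ ≤ (N ⊓ A₁) ⊔ (N ⊓ A₂))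
      obtain ⟨hdN, hdA⟩ := Subgroup.mem_inf.1 hd
      exact Subgroup.mem_inf.2 ⟨hN.conj_mem d hdN a, mul_mem (mul_mem ha hdA) (inv_mem ha)⟩
  exact hle ⟨w, hw, rfl⟩

theorem le_centralizer_of_inf_eq_bot {G : Type*} [Group G] {N A : Subgroup G} [hN : N.Normal]
    (h : N ≤ Subgroup.normalizer (A : Set G)) (hb : N ⊓ A = ⊥) :
    A ≤ Subgroup.centralizer (N : Set G) := by
  intro a ha
  rw [Subgroup.mem_centralizer_iff]
  intro d hd
  have h1 := comm_mem_inf h ha hd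
  rw [hb, Subgroup.mem_bot] at h1
  have : a * d = (a * d * a⁻¹ * d⁻¹) * (d * a) := by group
  rw [this, h1, one_mul]

theorem pp_all (p : ℕ) [Fact p.Prime] : ∀ (n : ℕ) (G : Type u) [Group G] [Finite G],
    Nat.card G = n → PP p G := by
  intro n
  induction n using Nat.strong_induction_on with
  | _ n ih =>
  intro G _ _ hn S A₁ A₂ h₁ h₂
  by_cases htop : A₁ ⊔ A₂ = ⊤
  swap
  · -- Step 1
    have hJ : (A₁ ⊔ A₂).IsSubnormal := isSubnormal_sup h₁ h₂
    have hlt : Nat.card ↥(A₁ ⊔ A₂) < n := by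
      rw [← hn, ← Subgroup.card_top (G := G)]
      exact card_lt_of_ne le_top htop
    exact pp_rel S hJ (ih _ hlt ↥(A₁ ⊔ A₂) rfl) h₁ h₂ le_sup_left le_sup_right
  rw [htop, top_inf_eq]
  set T := (A₁ ⊓ (S : Subgroup G)) ⊔ (A₂ ⊓ (S : Subgroup G)) with hT
  have hTS : T ≤ (S : Subgroup G) := sup_le inf_le_right inf_le_right
  set R₀ := cl T (res p A₁) ⊔ cl T (res p A₂) with hR₀
  have hR₀s : R₀.IsSubnormal :=
    isSubnormal_sup (isSubnormal_cl T (isSubnormal_res p h₁)) (isSubnormal_cl T (isSubnormal_res p h₂))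
  have hTR : T ≤ Subgroup.normalizer (R₀ : Set G) :=
    (le_inf (le_normalizer_cl T _) (le_normalizer_cl T _)).trans
      (Subgroup.normalizer_inf_normalizer_le_normalizer_sup _ _)
  have hTR₀ : T ⊔ R₀ = ⊤ := by
    rw [eq_top_iff, ← htop]
    refine sup_le ?_ ?_
    · refine (le_res_sup_inf S h₁).trans (sup_le ?_ ?_)
      · exact (le_cl T _).trans (le_sup_left.trans le_sup_right)
      · exact le_sup_left.trans le_sup_left
    · refine (le_res_sup_inf S h₂).trans (sup_le ?_ ?_)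
      · exact (le_cl T _).trans (le_sup_right.trans le_sup_right)
      · exact le_sup_right.trans le_sup_left
  by_cases hR₀top : R₀ = ⊤
  swap
  · -- Step 2
    have hlt : Nat.card ↥R₀ < n := by
      rw [← hn, ← Subgroup.card_top (G := G)]
      exact card_lt_of_ne le_top hR₀top
    have hP := ih _ hlt ↥R₀ rfl
    have aux : ∀ A : Subgroup G, A.IsSubnormal → A ⊓ (S : Subgroup G) ≤ T → cl T (res p A) ≤ R₀ →
        ∀ U ∈ {U | ∃ x ∈ T, U = (res p A).map (MulAut.conj x).toMonoidHom},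
          U.IsSubnormal ∧ U ≤ R₀ ∧ U ⊓ (S : Subgroup G) ≤ T := by
      rintro A hA hAT hAR _ ⟨x, hx, rfl⟩
      refine ⟨isSubnormal_conj (isSubnormal_res p hA) x, ?_, ?_⟩
      · refine le_trans ?_ hAR
        rintro _ ⟨b, hb, rfl⟩
        exact conj_mem_cl hx hb
      · rintro y hy
        obtain ⟨⟨b, hb, rfl⟩, hyS⟩ := Subgroup.mem_inf.1 hy
        have hyS' : x * b * x⁻¹ ∈ (S : Subgroup G) := hyS
        have hbS : b ∈ (S : Subgroup G) := by
          have : b = x⁻¹ * (x * b * x⁻¹) * x := by group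
          rw [this]
          exact mul_mem (mul_mem (inv_mem (hTS hx)) hyS') (hTS hx)
        have hbT : b ∈ T := hAT (Subgroup.mem_inf.2 ⟨res_le p A hb, hbS⟩)
        exact mul_mem (mul_mem hx hbT) (inv_mem hx)
    have hRS : R₀ ⊓ (S : Subgroup G) ≤ T := by
      have := pp_rel_sSup S hR₀s hP T
        ({U | ∃ x ∈ T, U = (res p A₁).map (MulAut.conj x).toMonoidHom} ∪
          {U | ∃ x ∈ T, U = (res p A₂).map (MulAut.conj x).toMonoidHom}) (by
          rintro U (hU | hU)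
          · exact aux A₁ h₁ le_sup_left le_sup_left U hU
          · exact aux A₂ h₂ le_sup_right le_sup_right U hU)
      rwa [sSup_union, ← cl_eq_sSup, ← cl_eq_sSup] at this
    exact le_of_sup_eq_top hTS hTR (by rw [hTR₀]; exact le_top) hRS
  -- Step 3
  have hres : res p (⊤ : Subgroup G) = ⊤ := by
    have hTn : T ≤ Subgroup.normalizer ((res p (⊤ : Subgroup G) : Subgroup G) : Set G) :=
      le_trans (by rw [Subgroup.normalizer_eq_top]; exact le_top) (normalizer_le_normalizer_res p ⊤)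
    have hle : R₀ ≤ res p (⊤ : Subgroup G) :=
      sup_le (cl_le (res_mono p le_top) hTn) (cl_le (res_mono p le_top) hTn)
    rw [eq_top_iff]
    exact hR₀top.ge.trans hle
  by_cases hbt : (⊤ : Subgroup G) = ⊥
  · intro s _
    have : s ∈ (⊥ : Subgroup G) := by rw [← hbt]; trivial
    rw [Subgroup.mem_bot.1 this]
    exact one_mem _
  obtain ⟨N, -, hNmin⟩ := exists_isMinNormal_le (⊤ : Subgroup G) hbt
  obtain ⟨hNn, hN0, hNm⟩ := hNmin
  have hNmin : IsMinNormal N := ⟨hNn, hN0, hNm⟩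
  have hlt : Nat.card (G ⧸ N) < n := by
    rw [← hn, Subgroup.card_eq_card_quotient_mul_card_subgroup N]
    have h1 : 1 < Nat.card N := (Subgroup.one_lt_card_iff_ne_bot N).2 hN0
    have h2 : 0 < Nat.card (G ⧸ N) := Nat.card_pos
    nlinarith
  have hSTN : (S : Subgroup G) ≤ T ⊔ N :=
    le_sup_of_pp_quotient S N (ih _ hlt (G ⧸ N) rfl) h₁ h₂ htop
  have hTN : T ≤ Subgroup.normalizer (N : Set G) := Subgroup.le_normalizer_of_normal
  have hNA₁ : N ≤ Subgroup.normalizer (A₁ : Set G) := hNmin.le_normalizer_of_isSubnormal h₁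
  have hNA₂ : N ≤ Subgroup.normalizer (A₂ : Set G) := hNmin.le_normalizer_of_isSubnormal h₂
  have hDn : ((N ⊓ A₁) ⊔ (N ⊓ A₂)).Normal := by
    rw [← Subgroup.normalizer_eq_top_iff, eq_top_iff, ← htop]
    refine sup_le ?_ (normalizes_sup_inf hNA₂)
    have := normalizes_sup_inf (A₁ := A₂) hNA₁
    rwa [sup_comm] at this
  apply le_of_sup_eq_top hTS hTN hSTN
  rcases hNm _ hDn (sup_le inf_le_left inf_le_left) with hD | hD
  · -- central case
    have hb₁ : N ⊓ A₁ = ⊥ := by rw [eq_bot_iff, ← hD]; exact le_sup_left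
    have hb₂ : N ⊓ A₂ = ⊥ := by rw [eq_bot_iff, ← hD]; exact le_sup_right
    have hcen : (⊤ : Subgroup G) ≤ Subgroup.centralizer (N : Set G) := by
      rw [← htop]
      exact sup_le (le_centralizer_of_inf_eq_bot hNA₁ hb₁) (le_centralizer_of_inf_eq_bot hNA₂ hb₂)
    have hNZ : N ≤ Subgroup.center G := by
      intro z hz
      rw [Subgroup.mem_center_iff]
      intro g
      exact ((Subgroup.mem_centralizer_iff.1 (hcen (Subgroup.mem_top g))) z hz).symm
    have hSeq : T ⊔ (N ⊓ (S : Subgroup G)) = (S : Subgroup G) :=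
      le_antisymm (sup_le hTS inf_le_right) (le_sup_inf_of_le hTS hTN hSTN)
    have hZc : N ⊓ (S : Subgroup G) ≤ Subgroup.centralizer ((S : Subgroup G) : Set G) := by
      refine inf_le_left.trans (hNZ.trans ?_)
      exact Subgroup.center_le_centralizer _
    have hcomm := Cfsg.Agent.Lib.Helper56CD3.commutator_eq_of_sup_central hSeq hZc
    intro z hz
    obtain ⟨hzN, hzS⟩ := Subgroup.mem_inf.1 hz
    have h1 := mem_commutator_of_central S hres (hNZ hzN) hzS
    rw [hcomm] at h1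
    exact (Subgroup.commutator_le.2 fun a ha b hb =>
      mul_mem (mul_mem (mul_mem ha hb) (inv_mem ha)) (inv_mem hb)) h1
  · have hn : N ⊓ A₁ ≤ Subgroup.normalizer ((N ⊓ A₂ : Subgroup G) : Set G) :=
      inf_le_left.trans ((le_inf Subgroup.le_normalizer hNA₂).trans
        Subgroup.inf_normalizer_le_normalizer_inf)
    have := inf_sylow_le_of_normalizes S (hNn.isSubnormal.inf h₁) (hNn.isSubnormal.inf h₂) hn
    rw [hD] at this
    refine this.trans (sup_le_sup ?_ ?_)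
    · exact inf_le_inf_right _ inf_le_right
    · exact inf_le_inf_right _ inf_le_right

/-- Let G be a finite group, p a prime, S a Sylow p-subgroup of G and A₁, A₂ subnormal subgroups of G. Then the join of S ∩ A₁ and S ∩ A₂ is a Sylow p-subgroup of the join of A₁ and A₂; equivalently ⟨A₁, A₂⟩ ∩ S = ⟨A₁ ∩ S, A₂ ∩ S⟩. -/
theorem result {G : Type*} [Group G] [Finite G] {p : ℕ} [Fact p.Prime] (S : Sylow p G) (A₁ A₂ : Subgroup G)
    (h₁ : A₁.IsSubnormal) (h₂ : A₂.IsSubnormal) :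
    (A₁ ⊔ A₂) ⊓ (S : Subgroup G) = (A₁ ⊓ (S : Subgroup G)) ⊔ (A₂ ⊓ (S : Subgroup G)) := by
  apply le_antisymm
  · exact pp_all p _ G rfl S A₁ A₂ h₁ h₂
  · exact sup_le (inf_le_inf_right _ le_sup_left) (inf_le_inf_right _ le_sup_right)

end Cfsg.Agent.S3028
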