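import Cfsg.Statements.S2806
import Cfsg.Agent.Lib.Helper56Kieler2
import Cfsg.Agent.S3028

set_option autoImplicit false
open Cfsg

namespace Cfsg.Agent.S2806


open Cfsg.Agent.Lib.Helper56Kieler Cfsg.Agent.Lib.Helper56Kieler2 Cfsg.Agent.Lib.Helper58Subnormal

/-- the subgroup generated by the `p`-elements of `X` -/
def PE {H : Type*} [Group H] (p : ℕ) (X : Subgroup H) : Subgroup H :=
  Subgroup.closure {x : H | x ∈ X ∧ ∃ k : ℕ, orderOf x = p ^ k}

theorem PE_le {H : Type*} [Group H] (p : ℕ) (X : Subgroup H) : PE p X ≤ X := by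
  unfold PE
  rw [Subgroup.closure_le]
  exact fun x hx => hx.1

theorem PE_mono {H : Type*} [Group H] (p : ℕ) {X Y : Subgroup H} (h : X ≤ Y) : PE p X ≤ PE p Y :=
  Subgroup.closure_mono fun _ hx => ⟨h hx.1, hx.2⟩

theorem normIn_PE {H : Type*} [Group H] (p : ℕ) (X : Subgroup H) : NormIn (PE p X) X := by
  refine ⟨PE_le p X, ?_⟩
  apply le_normalizer_of
  intro g hg w hw
  unfold PE at hw ⊢
  refine conj_mem_closure ?_ w hw
  rintro s ⟨hs, k, hk⟩
  apply Subgroup.subset_closure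
  refine ⟨mul_mem (mul_mem hg hs) (inv_mem hg), k, ?_⟩
  rw [← hk]
  exact Cfsg.Agent.Lib.Helper52Subnormal.orderOf_conj g s

/-- a subnormal subgroup containing a Sylow `p`-subgroup contains all `p`-elements -/
theorem mem_of_sn {H : Type*} [Group H] [Finite H] {p : ℕ} [Fact p.Prime] {E X : Subgroup H}
    (h : Sn E X) : ∀ S : Subgroup H, S ≤ E → ¬ p ∣ S.relIndex X →
      ∀ x ∈ X, (∃ k : ℕ, orderOf x = p ^ k) → x ∈ E := by
  have hp : p.Prime := Fact.out
  induction h with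
  | refl => exact fun _ _ _ x hx _ => hx
  | @tail M X h1 h2 ih =>
    intro S hSE hSi x hx hxk
    have hSM : S ≤ M := hSE.trans (Sn.le h1)
    have hmul := Subgroup.relIndex_mul_relIndex S M X hSM h2.1
    have hi1 : ¬ p ∣ S.relIndex M := fun hd => hSi (hmul ▸ hd.mul_right _)
    have hi2 : ¬ p ∣ M.relIndex X := fun hd => hSi (hmul ▸ hd.mul_left _)
    refine ih S hSE hi1 x ?_ hxk
    have hN : (M.subgroupOf X).Normal := (Subgroup.normal_subgroupOf_iff_le_normalizer h2.1).2 h2.2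
    have h3 : x ^ M.relIndex X ∈ M := by
      have := Subgroup.pow_index_mem (M.subgroupOf X) ⟨x, hx⟩
      exact this
    obtain ⟨k, hk⟩ := hxk
    have hcop : Nat.Coprime (M.relIndex X) (orderOf x) := by
      rw [hk]
      exact Nat.Coprime.pow_right k ((Nat.Prime.coprime_iff_not_dvd hp).2 hi2).symm
    obtain ⟨m, hm⟩ := exists_pow_eq_self_of_coprime hcop
    rw [← hm]
    exact pow_mem h3 m

theorem pointStabilizer_eq {H : Type*} [Group H] [Finite H] {p : ℕ} [Fact p.Prime]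
    (hH : Cfsg.IsOfLocalCharacteristic p H) (T : Sylow p H) {X : Subgroup H} (hX : X.IsSubnormal) :
    Cfsg.pointStabilizer p X ((T : Subgroup H) ⊓ X) =
      PE p (X ⊓ Subgroup.centralizer ((Om p (T : Subgroup H) : Subgroup H) : Set H)) := by
  have hp : p.Prime := Fact.out
  by_cases hne : (T : Subgroup H) ⊓ X = ⊥
  · have hcard : ¬ p ∣ Nat.card X := by
      have := Cfsg.Agent.S0542.not_dvd_relIndex p X hX T
      rwa [← Subgroup.inf_relIndex_right, hne, Subgroup.relIndex_bot_left] at this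
    have h1 : ∀ x ∈ X, (∃ k : ℕ, orderOf x = p ^ k) → x = 1 := by
      rintro x hx ⟨k, hk⟩
      have hd : orderOf x ∣ Nat.card X := Subgroup.orderOf_dvd_natCard X hx
      rcases Nat.eq_zero_or_pos k with rfl | hk0
      · rwa [pow_zero, orderOf_eq_one_iff] at hk
      · exact absurd ((hk ▸ dvd_pow_self p hk0.ne').trans hd) hcard
    have h2 : ∀ Y : Subgroup H, PE p (X ⊓ Y) = ⊥ := by
      intro Y
      rw [eq_bot_iff]
      unfold PE
      rw [Subgroup.closure_le]
      rintro x ⟨hx, hk⟩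
      exact Subgroup.mem_bot.2 (h1 x (Subgroup.mem_inf.1 hx).1 hk)
    rw [h2]
    exact h2 _
  · have key := kieler_loc_rel T (sn_top_iff.2 hX) hne Subgroup.IsSubnormal.top (locCharP_top hH)
    rw [inf_top_eq] at key
    rw [key]
    rfl

/-- Let H be a finite group of local characteristic p, T a Sylow p-subgroup, and L₁, L₂ subnormal subgroups of H generating the subgroup L. Then the point stabilizer of L with respect to T ∩ L is generated by the point stabilizers of L₁ and L₂ with respect to T ∩ L₁ and T ∩ L₂ (point stabilizer of X w.r.t. R: the subgroup generated by the p-elements of X centralizing Ω₁(Z(R))). -/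
theorem result {H : Type*} [Group H] [Finite H] {p : ℕ} [Fact p.Prime] (hH : Cfsg.IsOfLocalCharacteristic p H) (T : Sylow p H) (L₁ L₂ : Subgroup H) (h₁ : L₁.IsSubnormal) (h₂ : L₂.IsSubnormal) : Cfsg.pointStabilizer p (L₁ ⊔ L₂) ((T : Subgroup H) ⊓ (L₁ ⊔ L₂)) = Cfsg.pointStabilizer p L₁ ((T : Subgroup H) ⊓ L₁) ⊔ Cfsg.pointStabilizer p L₂ ((T : Subgroup H) ⊓ L₂) := by
  rw [pointStabilizer_eq hH T (isSubnormal_sup h₁ h₂), pointStabilizer_eq hH T h₁,
    pointStabilizer_eq hH T h₂]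
  set C := Subgroup.centralizer ((Om p (T : Subgroup H) : Subgroup H) : Set H) with hC
  have hTC : (T : Subgroup H) ≤ C := le_centralizer_Om p _
  apply le_antisymm
  swap
  · exact sup_le (PE_mono p (inf_le_inf_right _ le_sup_left)) (PE_mono p (inf_le_inf_right _ le_sup_right))
  have hsn : ∀ X : Subgroup H, X.IsSubnormal → Sn (PE p (X ⊓ C)) C := by
    intro X hX
    have h := (sn_top_iff.2 hX).inf_right C
    rw [top_inf_eq] at h
    exact (normIn_PE p _).sn.trans h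
  have hE : Sn (PE p (L₁ ⊓ C) ⊔ PE p (L₂ ⊓ C)) ((L₁ ⊔ L₂) ⊓ C) := by
    refine ((hsn L₁ h₁).sup (hsn L₂ h₂)).of_le ?_ inf_le_right
    exact sup_le ((PE_le p _).trans (inf_le_inf_right _ le_sup_left))
      ((PE_le p _).trans (inf_le_inf_right _ le_sup_right))
  have hT : ∀ X : Subgroup H, X ⊓ (T : Subgroup H) ≤ PE p (X ⊓ C) := by
    intro X x hx
    obtain ⟨h1, h2⟩ := Subgroup.mem_inf.1 hx
    apply Subgroup.subset_closure
    refine ⟨Subgroup.mem_inf.2 ⟨h1, hTC h2⟩, ?_⟩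
    obtain ⟨k, hk⟩ := (IsPGroup.iff_orderOf.1 T.2) ⟨x, h2⟩
    exact ⟨k, by rw [← hk]; exact (Subgroup.orderOf_mk x h2).symm⟩
  have hS : (L₁ ⊔ L₂) ⊓ (T : Subgroup H) ≤ PE p (L₁ ⊓ C) ⊔ PE p (L₂ ⊓ C) := by
    rw [Cfsg.Agent.S3028.result T L₁ L₂ h₁ h₂]
    exact sup_le_sup (hT L₁) (hT L₂)
  have hi : ¬ p ∣ ((L₁ ⊔ L₂) ⊓ (T : Subgroup H)).relIndex ((L₁ ⊔ L₂) ⊓ C) := by
    apply not_dvd_relIndex_of_le (inf_le_inf_left _ hTC) inf_le_left
    rw [Subgroup.inf_relIndex_left]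
    exact Cfsg.Agent.S0542.not_dvd_relIndex p _ (isSubnormal_sup h₁ h₂) T
  unfold PE
  rw [Subgroup.closure_le]
  rintro x ⟨hx, hk⟩
  exact mem_of_sn hE _ hS hi x hx hk

end Cfsg.Agent.S2806
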