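import Cfsg.Statements.S2809
import Cfsg.Agent.Lib.Helper52Basic

set_option autoImplicit false
open Cfsg

namespace Cfsg.Agent.S2809

open scoped commutatorElement

/-- Let H be a finite group, p a prime, R a p-subgroup of H with C_H(R) ≤ R, and L a subgroup of N_H(R) acting nilpotently on R (some iterated commutator [R, L, …, L] is trivial). Then L is a p-group. -/
theorem result {H : Type*} [Group H] [Finite H] {p : ℕ} [Fact p.Prime] (R : Subgroup H) (hR : IsPGroup p ↥R) (hC : Subgroup.centralizer (R : Set H) ≤ R) (L : Subgroup H) (hL : L ≤ Subgroup.normalizer (R : Set H)) (hnil : ∃ n : ℕ, Cfsg.iterCommutator R L n = ⊥) : IsPGroup p ↥L := by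
  obtain ⟨n, hn⟩ := hnil
  have hle : ∀ i, Cfsg.iterCommutator R L i ≤ R := by
    intro i
    induction i with
    | zero => exact le_rfl
    | succ i ih =>
      show ⁅Cfsg.iterCommutator R L i, L⁆ ≤ R
      rw [Subgroup.commutator_le]
      intro a ha l hl
      have h1 : l * a⁻¹ * l⁻¹ ∈ R := by
        have := (Subgroup.mem_normalizer_iff.1 (hL hl) a⁻¹).1 (R.inv_mem (ih ha))
        exact this
      have h2 : ⁅a, l⁆ = a * (l * a⁻¹ * l⁻¹) := by
        rw [commutatorElement_def]; group
      rw [h2]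
      exact R.mul_mem (ih ha) h1
  have key := Cfsg.Agent.Lib.Helper52Basic.stab_chain (p := p) L n (Cfsg.iterCommutator R L)
    (fun i => hR.to_le (hle i)) hn (by
      intro i l hl r hr
      show l * r * l⁻¹ * r⁻¹ ∈ ⁅Cfsg.iterCommutator R L i, L⁆
      rw [Subgroup.commutator_comm]
      exact Subgroup.commutator_mem_commutator hl hr)
  intro x
  obtain ⟨k, hk⟩ := key x x.2
  have hxR : (x : H) ^ (p ^ k) ∈ R := hC hk
  obtain ⟨j, hj⟩ := hR ⟨_, hxR⟩
  refine ⟨k + j, ?_⟩
  have h3 : ((x : H) ^ (p ^ k)) ^ (p ^ j) = 1 := by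
    simpa using congrArg Subtype.val hj
  apply Subtype.ext
  rw [pow_add, pow_mul]
  simpa using h3

end Cfsg.Agent.S2809
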