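import Cfsg.Statements.S2810
import Cfsg.Agent.Lib.Helper52Basic

set_option autoImplicit false
open Cfsg

namespace Cfsg.Agent.S2810

open scoped commutatorElement
open Cfsg.Agent.Lib.Helper52Basic

/-- Let H be a finite group of characteristic p and L a subgroup of H centralizing every factor of some H-invariant chain 1 = A₀ ≤ A₁ ≤ … ≤ Aₙ = O_p(H) of normal subgroups (that is, [A_{i+1}, L] ≤ Aᵢ for each i). Then L ≤ O_p(H). -/
theorem result {H : Type*} [Group H] [Finite H] {p : ℕ} [Fact p.Prime] (hchar : Subgroup.centralizer (Cfsg.pCore p H : Set H) ≤ Cfsg.pCore p H) (L : Subgroup H) (n : ℕ) (A : Fin (n + 1) → Subgroup H) (h0 : A 0 = ⊥) (hn : A (Fin.last n) = Cfsg.pCore p H) (hmono : Monotone A) (hnorm : ∀ i, (A i).Normal) (hcent : ∀ i : Fin n, ⁅A i.succ, L⁆ ≤ A i.castSucc) : L ≤ Cfsg.pCore p H := by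
  let D : Subgroup H :=
    { carrier := {x | ∀ i : Fin n, ∀ a ∈ A i.succ, x * a * x⁻¹ * a⁻¹ ∈ A i.castSucc}
      one_mem' := by
        intro i a _
        simp
      mul_mem' := by
        intro x y hx hy i a ha
        have h1 : (x * y) * a * (x * y)⁻¹ * a⁻¹ = x * (y * a * y⁻¹ * a⁻¹) * x⁻¹ * (x * a * x⁻¹ * a⁻¹) := by
          group
        rw [h1]
        exact (A i.castSucc).mul_mem ((hnorm _).conj_mem _ (hy i a ha) x) (hx i a ha)
      inv_mem' := by
        intro x hx i a ha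
        have h1 : x⁻¹ * a * x⁻¹⁻¹ * a⁻¹ = x⁻¹ * (x * a * x⁻¹ * a⁻¹)⁻¹ * x⁻¹⁻¹ := by group
        rw [h1]
        exact (hnorm _).conj_mem _ ((A i.castSucc).inv_mem (hx i a ha)) x⁻¹ }
  have hDmem : ∀ x, x ∈ D ↔ ∀ i : Fin n, ∀ a ∈ A i.succ, x * a * x⁻¹ * a⁻¹ ∈ A i.castSucc :=
    fun x => Iff.rfl
  have hDn : D.Normal := by
    constructor
    intro x hx g
    rw [hDmem] at hx ⊢
    intro i a ha
    have h1 : g * x * g⁻¹ * a * (g * x * g⁻¹)⁻¹ * a⁻¹
        = g * (x * (g⁻¹ * a * g⁻¹⁻¹) * x⁻¹ * (g⁻¹ * a * g⁻¹⁻¹)⁻¹) * g⁻¹ := by group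
    rw [h1]
    exact (hnorm _).conj_mem _ (hx i _ ((hnorm _).conj_mem _ ha g⁻¹)) g
  have hAp : ∀ i, IsPGroup p (A i) := by
    intro i
    have : A i ≤ Cfsg.pCore p H := by
      rw [← hn]
      exact hmono (Fin.le_last i)
    exact pCore_isPGroup.to_le this
  have hDp : IsPGroup p D := by
    intro x
    obtain ⟨k, hk⟩ := stab_chain_fin (p := p) D n A hAp h0 (fun i l hl r hr => hl i r hr) x x.2
      (Fin.last n)
    rw [hn] at hk
    have hxR : (x : H) ^ (p ^ k) ∈ Cfsg.pCore p H := hchar hk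
    obtain ⟨j, hj⟩ := (pCore_isPGroup (G := H) (p := p)) ⟨_, hxR⟩
    refine ⟨k + j, ?_⟩
    have h3 : ((x : H) ^ (p ^ k)) ^ (p ^ j) = 1 := by
      simpa using congrArg Subtype.val hj
    apply Subtype.ext
    rw [pow_add, pow_mul]
    simpa using h3
  refine le_trans ?_ (le_pCore hDn hDp)
  intro l hl
  rw [hDmem]
  intro i a ha
  apply hcent i
  rw [Subgroup.commutator_comm]
  exact Subgroup.commutator_mem_commutator hl ha

end Cfsg.Agent.S2810
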