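import Cfsg.Statements.S2813
import Cfsg.Agent.Lib.Helper52Basic

set_option autoImplicit false
open Cfsg

namespace Cfsg.Agent.S2813

open scoped commutatorElement
open Cfsg.Agent.Lib.Helper52Basic

theorem isPGroup_closure_of_commute {G : Type*} [Group G] {p : ℕ} (S : Set G)
    (hcomm : ∀ a ∈ S, ∀ b ∈ S, Commute a b) (hp : ∀ a ∈ S, ∃ k : ℕ, a ^ (p ^ k) = 1) :
    IsPGroup p (Subgroup.closure S) := by
  have h1 : Subgroup.closure S ≤ Subgroup.centralizer S := by
    rw [Subgroup.closure_le]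
    intro a ha
    rw [SetLike.mem_coe, Subgroup.mem_centralizer_iff]
    intro b hb
    exact (hcomm b hb a ha).eq
  have h2 : ∀ x ∈ Subgroup.closure S, ∀ y ∈ Subgroup.closure S, Commute x y := by
    intro x hx y hy
    have h3 := Subgroup.closure_le_centralizer_centralizer S hx
    rw [Subgroup.mem_centralizer_iff] at h3
    exact (h3 y (h1 hy)).symm
  have h4 : ∀ x ∈ Subgroup.closure S, ∃ k : ℕ, x ^ (p ^ k) = 1 := by
    intro x hx
    induction hx using Subgroup.closure_induction with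
    | mem x hx => exact hp x hx
    | one => exact ⟨0, by simp⟩
    | mul x y hx hy ihx ihy =>
      obtain ⟨a, ha⟩ := ihx
      obtain ⟨b, hb⟩ := ihy
      refine ⟨a + b, ?_⟩
      rw [(h2 x hx y hy).mul_pow, pow_add, pow_mul, ha, one_pow, mul_comm (p ^ a), pow_mul, hb,
        one_pow, one_mul]
    | inv x hx ih =>
      obtain ⟨a, ha⟩ := ih
      exact ⟨a, by rw [inv_pow, ha, inv_one]⟩
  intro x
  obtain ⟨k, hk⟩ := h4 x x.2
  exact ⟨k, Subtype.ext (by simpa using hk)⟩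

/-- Let K be a subgroup of the finite group H with O_p(K) = 1 and Y a p-subgroup of N_H(K) with [K, Y, Y] = 1. Then [K, Y] = 1. -/
theorem result {H : Type*} [Group H] [Finite H] {p : ℕ} [Fact p.Prime] (K : Subgroup H) (hO : Cfsg.pCore p ↥K = ⊥) (Y : Subgroup H) (hY : IsPGroup p ↥Y) (hYK : Y ≤ Subgroup.normalizer (K : Set H)) (hq : ⁅⁅K, Y⁆, Y⁆ = ⊥) : ⁅K, Y⁆ = ⊥ := by
  set W := ⁅K, Y⁆ with hWdef
  have hWK : W ≤ K := Subgroup.le_normalizer_iff_commutator_le_left.1 hYK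
  have hKW : K ≤ Subgroup.normalizer (W : Set H) := Subgroup.normalizer_commutator_ge_left K Y
  have hWY : W ≤ Subgroup.centralizer (Y : Set H) :=
    Subgroup.commutator_eq_bot_iff_le_centralizer.1 hq
  have hcy : ∀ w ∈ W, ∀ y ∈ Y, y * w = w * y := by
    intro w hw y hy
    exact (Subgroup.mem_centralizer_iff.1 (hWY hw)) y hy
  have hgen : ∀ w ∈ W, ∀ k ∈ K, ∀ y ∈ Y, Commute w ⁅k, y⁆ := by
    intro w hw k hk y hy
    have h1 : k⁻¹ * w * k⁻¹⁻¹ ∈ W :=
      (Subgroup.mem_normalizer_iff.1 (hKW (K.inv_mem hk)) w).1 hw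
    have h2 := hcy _ h1 y hy
    have h3 := hcy w hw y hy
    have h3' : w * y⁻¹ = y⁻¹ * w := by
      calc w * y⁻¹ = y⁻¹ * (y * w) * y⁻¹ := by group
        _ = y⁻¹ * (w * y) * y⁻¹ := by rw [h3]
        _ = y⁻¹ * w := by group
    show w * ⁅k, y⁆ = ⁅k, y⁆ * w
    rw [commutatorElement_def]
    calc w * (k * y * k⁻¹ * y⁻¹) = k * ((k⁻¹ * w * k⁻¹⁻¹) * y) * k⁻¹ * y⁻¹ := by group
      _ = k * (y * (k⁻¹ * w * k⁻¹⁻¹)) * k⁻¹ * y⁻¹ := by rw [h2]
      _ = k * y * k⁻¹ * (w * y⁻¹) := by group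
      _ = k * y * k⁻¹ * (y⁻¹ * w) := by rw [h3']
      _ = k * y * k⁻¹ * y⁻¹ * w := by group
  have hWp : IsPGroup p W := by
    rw [hWdef, Subgroup.commutator_def]
    apply isPGroup_closure_of_commute
    · rintro a ⟨k, hk, y, hy, rfl⟩ b ⟨k', hk', y', hy', rfl⟩
      exact hgen _ (Subgroup.commutator_mem_commutator hk hy) k' hk' y' hy'
    · rintro a ⟨k, hk, y, hy, rfl⟩
      obtain ⟨j, hj⟩ := hY ⟨y, hy⟩
      have hj' : y ^ (p ^ j) = 1 := by simpa using congrArg Subtype.val hj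
      refine ⟨j, ?_⟩
      have hc : ⁅y, k⁆ ∈ W := by
        rw [hWdef, Subgroup.commutator_comm]
        exact Subgroup.commutator_mem_commutator hy hk
      have h1 : y * k * y⁻¹ = ⁅y, k⁆ * k := by rw [commutatorElement_def]; group
      have h2 : Commute y ⁅y, k⁆ := hcy _ hc y hy
      have h3 := conj_pow_of_commute h1 h2 (p ^ j)
      rw [hj'] at h3
      have h4 : ⁅y, k⁆ ^ (p ^ j) = 1 := by
        have : k = ⁅y, k⁆ ^ (p ^ j) * k := by simpa using h3
        exact (mul_eq_right.1 this.symm)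
      rw [← commutatorElement_inv, inv_pow, h4, inv_one]
  have hn : (W.subgroupOf K).Normal := Subgroup.normal_subgroupOf_of_le_normalizer hKW
  have hp' : IsPGroup p (W.subgroupOf K) :=
    hWp.comap_of_injective K.subtype K.subtype_injective
  have h5 : W.subgroupOf K ≤ Cfsg.pCore p ↥K := le_pCore hn hp'
  rw [hO, le_bot_iff, Subgroup.subgroupOf_eq_bot] at h5
  exact (disjoint_of_le_iff_left_eq_bot hWK).1 h5

end Cfsg.Agent.S2813
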