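import Cfsg.Statements.S2814
import Cfsg.Agent.Lib.Helper52Subnormal

set_option autoImplicit false
open Cfsg

namespace Cfsg.Agent.S2814

open scoped commutatorElement
open Cfsg.Agent.Lib.Helper52Basic Cfsg.Agent.Lib.Helper52Subnormal

/-- Let A be a subgroup of the finite group H and K the subnormal closure of A (intersection of the subnormal subgroups containing A). Then K is the normal closure of A inside K and N_H(A) ≤ N_H(K); K = A·O^p(K), O^p(K) being generated by the elements of K of order prime to p; and if A is a p-group, O^p(K) = [O^p(K), A]. -/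
theorem result {H : Type*} [Group H] [Finite H] {p : ℕ} [Fact p.Prime] (A : Subgroup H) (K : Subgroup H) (hK : K = Cfsg.subnormalClosure A) : (Subgroup.normalClosure ((A.subgroupOf K : Subgroup ↥K) : Set ↥K)).map K.subtype = K ∧ Subgroup.normalizer (A : Set H) ≤ Subgroup.normalizer (K : Set H) ∧ A ⊔ (Cfsg.pResidual p ↥K).map K.subtype = K ∧ (IsPGroup p ↥A → ⁅(Cfsg.pResidual p ↥K).map K.subtype, A⁆ = (Cfsg.pResidual p ↥K).map K.subtype) := by
  have hKsn : K.IsSubnormal := hK ▸ subnormalClosure_isSubnormal A
  have hAK : A ≤ K := hK ▸ le_subnormalClosure A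
  have hmin : ∀ K' : Subgroup H, A ≤ K' → K'.IsSubnormal → K ≤ K' := by
    intro K' h1 h2
    rw [hK]; exact subnormalClosure_le h1 h2
  rw [map_pResidual_eq]
  set R := res p K with hR
  have hRK : R ≤ K := res_le p K
  have hKR : K ≤ Subgroup.normalizer (R : Set H) :=
    Subgroup.le_normalizer.trans (normalizer_le_normalizer_res p K)
  have part3 : A ⊔ R = K := by
    apply le_antisymm (sup_le hAK hRK)
    apply hmin _ le_sup_left
    have h1 : ((A.subgroupOf K).map (QuotientGroup.mk' (Cfsg.pResidual p ↥K))).IsSubnormal :=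
      isSubnormal_of_isPGroup (isPGroup_quotient_pResidual p) _
    have h2 := h1.comap (QuotientGroup.mk' (Cfsg.pResidual p ↥K))
    rw [Subgroup.comap_map_eq, QuotientGroup.ker_mk'] at h2
    have h3 := h2.trans' hKsn
    rwa [Subgroup.map_sup, Subgroup.map_subgroupOf_eq_of_le hAK, map_pResidual_eq] at h3
  refine ⟨?_, ?_, part3, ?_⟩
  · apply le_antisymm (Subgroup.map_subtype_le _)
    apply hmin
    · have h1 : A.subgroupOf K ≤ Subgroup.normalClosure ((A.subgroupOf K : Subgroup ↥K) : Set ↥K) :=
        Subgroup.le_normalClosure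
      have h2 := Subgroup.map_mono (f := K.subtype) h1
      rwa [Subgroup.map_subgroupOf_eq_of_le hAK] at h2
    · exact (Subgroup.normalClosure_normal.isSubnormal).trans' hKsn
  · rw [Subgroup.le_normalizer_iff]
    intro g hg k hk
    have hg' : g⁻¹ ∈ Subgroup.normalizer (A : Set H) := inv_mem hg
    have h1 : K ≤ K.map (MulAut.conj g⁻¹).toMonoidHom := by
      apply hmin
      · have := Subgroup.mem_normalizer_iff_map_conj_eq.1 hg'
        conv_lhs => rw [← this]
        exact Subgroup.map_mono hAK
      · exact hKsn.map (MulAut.conj g⁻¹).surjective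
    obtain ⟨k', hk', hkk⟩ := h1 hk
    have : g * k * g⁻¹ = k' := by
      rw [← hkk]
      simp [MulAut.conj_apply, mul_assoc]
    rw [this]
    exact hk'
  · intro hAp
    have hAR : A ≤ Subgroup.normalizer (R : Set H) := hAK.trans hKR
    apply le_antisymm (Subgroup.le_normalizer_iff_commutator_le_left.1 hAR)
    set U := ⁅R, A⁆ with hU
    have hRU : R ≤ Subgroup.normalizer (U : Set H) := Subgroup.normalizer_commutator_ge_left R A
    have hAU : A ≤ Subgroup.normalizer (U : Set H) := Subgroup.normalizer_commutator_ge_right R A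
    have hUK : U ≤ K := (Subgroup.le_normalizer_iff_commutator_le_left.1 hAR).trans hRK
    have hn : K ≤ Subgroup.normalizer ((A ⊔ U : Subgroup H) : Set H) := by
      rw [← part3]
      apply sup_le
      · exact le_sup_left.trans Subgroup.le_normalizer
      · rw [Subgroup.sup_eq_closure, Subgroup.le_normalizer_closure_iff]
        intro r hr x hx
        rw [← Subgroup.sup_eq_closure]
        rcases hx with hx | hx
        · have : r * x * r⁻¹ = ⁅r, x⁆ * x := by rw [commutatorElement_def]; group
          rw [this]
          exact (A ⊔ U).mul_mem (le_sup_right (a := A) (Subgroup.commutator_mem_commutator hr hx))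
            (le_sup_left (b := U) hx)
        · exact le_sup_right (a := A) ((Subgroup.mem_normalizer_iff.1 (hRU hr) x).1 hx)
    have hKAU : K ≤ A ⊔ U := by
      apply hmin _ le_sup_left
      exact Subgroup.IsSubnormal.trans (sup_le hAK hUK)
        (Subgroup.normal_subgroupOf_of_le_normalizer hn).isSubnormal hKsn
    apply res_le_of_pow_mem
    intro k hk
    have hk' := hKAU hk
    rw [← SetLike.mem_coe, Subgroup.coe_mul_of_left_le_normalizer_right A U hAU] at hk'
    obtain ⟨a, ha, b, hb, rfl⟩ := hk'
    obtain ⟨j, hj⟩ := hAp ⟨a, ha⟩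
    have hj' : a ^ (p ^ j) = 1 := by simpa using congrArg Subtype.val hj
    refine ⟨j, ?_⟩
    have := pow_mul_mem_of_normalizes (hAU ha) hb (p ^ j)
    rwa [hj', inv_one, one_mul] at this

end Cfsg.Agent.S2814
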