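import Cfsg.Statements.S2815
import Cfsg.Agent.Lib.Helper52Subnormal
import Cfsg.Agent.Lib.Helper28Layer
import Cfsg.Agent.Lib.Helper53Comm

set_option autoImplicit false
open Cfsg

namespace Cfsg.Agent.S2815

open scoped commutatorElement
open Cfsg.Agent.Lib.Helper52Basic Cfsg.Agent.Lib.Helper52Subnormal
open Cfsg.Agent.Lib.Helper28Comp Cfsg.Agent.Lib.Helper28Layer

theorem le_pResidual_of_coprime {H : Type*} [Group H] [Finite H] {p : ℕ} {X : Subgroup H}
    (h : (Nat.card X).Coprime p) : X ≤ Cfsg.pResidual p H := by
  intro x hx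
  apply Subgroup.subset_closure
  have h1 : orderOf x ∣ Nat.card X := by
    have := orderOf_dvd_natCard (⟨x, hx⟩ : X)
    rwa [Subgroup.orderOf_mk] at this
  exact Nat.Coprime.coprime_dvd_left h1 h

theorem coprime_of_nilpotent {H : Type*} [Group H] [Finite H] {p : ℕ} [Fact p.Prime]
    (hO : Cfsg.pCore p H = ⊥) {N : Subgroup H} (hN : N.Normal) (hn : Group.IsNilpotent N) :
    (Nat.card N).Coprime p := by
  rw [Nat.coprime_comm, Nat.Prime.coprime_iff_not_dvd Fact.out]
  intro hdvd
  obtain ⟨x, hx⟩ := exists_prime_orderOf_dvd_card' p hdvd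
  have h1 : (Subgroup.zpowers x).IsSubnormal :=
    isSubnormal_of_normalizerCondition Group.normalizerCondition_of_isNilpotent _
  have h2 : ((Subgroup.zpowers x).map N.subtype).IsSubnormal := h1.trans' hN.isSubnormal
  have h3 : IsPGroup p ((Subgroup.zpowers x).map N.subtype) := by
    apply IsPGroup.map
    apply IsPGroup.of_card (n := 1)
    rw [Nat.card_zpowers, hx, pow_one]
  have h4 := subnormal_pGroup_le_pCore h2 h3
  rw [hO] at h4
  have h5 : (x : H) ∈ (⊥ : Subgroup H) := h4 ⟨x, Subgroup.mem_zpowers x, rfl⟩
  rw [Subgroup.mem_bot] at h5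
  have h6 : x = 1 := Subtype.ext h5
  rw [h6, orderOf_one] at hx
  exact (Fact.out : p.Prime).one_lt.ne hx

/-- Let H be a finite group and p a prime dividing its order with O_p(H) = 1, and suppose K = O^p(H) (generated by the elements of order prime to p) is quasisimple. Then K = F*(H); for every nontrivial p-subgroup Y of H, K = [K, Y] and K lies in the subgroup generated by the K-conjugates of Y; every normal subgroup of H not containing K has order prime to p; and H is p-irreducible. -/
theorem result {H : Type*} [Group H] [Finite H] {p : ℕ} [Fact p.Prime] (hp : p ∣ Nat.card H) (hO : Cfsg.pCore p H = ⊥) (hq : Cfsg.IsQuasisimple ↥(Cfsg.pResidual p H)) : Cfsg.pResidual p H = Cfsg.generalizedFittingSubgroup H ∧ (∀ Y : Subgroup H, IsPGroup p ↥Y → Y ≠ ⊥ → ⁅Cfsg.pResidual p H, Y⁆ = Cfsg.pResidual p H ∧ Cfsg.pResidual p H ≤ ⨆ k : ↥(Cfsg.pResidual p H), Y.map (MulAut.conj (k : H)).toMonoidHom) ∧ (∀ C : Subgroup H, C.Normal → ¬ Cfsg.pResidual p H ≤ C → (Nat.card ↥C).Coprime p) ∧ Cfsg.IsPIrreducible p H := by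
  set K := Cfsg.pResidual p H with hK
  have hKn : K.Normal := pResidual_normal p
  have hQS : QS K := isQuasisimple_iff_QS.mp hq
  have hKsn : Sn K ⊤ := (normIn_top_iff.mpr hKn).sn
  have hCn : (Subgroup.centralizer (K : Set H)).Normal := inferInstance
  have hCnil : Group.IsNilpotent (Subgroup.centralizer (K : Set H)) := by
    have hpq : IsPGroup p (H ⧸ K) := isPGroup_quotient_pResidual p
    have hnil : Group.IsNilpotent (H ⧸ K) := hpq.isNilpotent
    refine Subgroup.isNilpotent_of_ker_le_center
      ((QuotientGroup.mk' K).comp (Subgroup.centralizer (K : Set H)).subtype) ?_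
    intro x hx
    rw [MonoidHom.mem_ker] at hx
    have hxK : (x : H) ∈ K := by
      simpa using hx
    rw [Subgroup.mem_center_iff]
    intro g
    apply Subtype.ext
    have := g.2
    rw [Subgroup.mem_centralizer_iff] at this
    exact (this _ hxK).symm
  have hCcop : (Nat.card (Subgroup.centralizer (K : Set H))).Coprime p :=
    coprime_of_nilpotent hO hCn hCnil
  have hCK : Subgroup.centralizer (K : Set H) ≤ K := le_pResidual_of_coprime hCcop
  have partc : ∀ C : Subgroup H, C.Normal → ¬ K ≤ C → (Nat.card ↥C).Coprime p := by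
    intro C hC hKC
    rcases hQS.le_or_commute_of_normIn hKsn (normIn_top_iff.mpr hC) with h | h
    · exact absurd h hKC
    · rw [Subgroup.commutator_comm, Subgroup.commutator_eq_bot_iff_le_centralizer] at h
      exact Nat.Coprime.coprime_dvd_left (Subgroup.card_dvd_of_le h) hCcop
  refine ⟨?_, ?_, partc, ?_, ?_⟩
  · apply le_antisymm
    · refine le_trans ?_ le_sup_left
      exact le_sSup ⟨hKn.isSubnormal, hq⟩
    · apply sup_le
      · apply sSup_le
        intro X hX
        have hX' : CompIn X ⊤ := isComponent_iff.mp hX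
        rcases hX'.le_or_commute hKsn with h | h
        · exact h
        · rw [Subgroup.commutator_eq_bot_iff_le_centralizer] at h
          exact h.trans hCK
      · apply sSup_le
        intro N hN
        exact le_pResidual_of_coprime (coprime_of_nilpotent hO hN.1 hN.2)
  · intro Y hY hYne
    have h1 : ⁅K, Y⁆ = K := by
      have hle : ⁅K, Y⁆ ≤ K := Subgroup.commutator_le_left K Y
      have hnorm : NormIn ⁅K, Y⁆ K :=
        ⟨hle, Cfsg.Agent.Lib.Helper53Comm.le_normalizer_commutator_self_left K Y⟩
      rcases hQS.2.2 _ hnorm with h | h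
      · exact h
      · exfalso
        rw [← Subgroup.commutator_eq_bot_iff_le_centralizer, Subgroup.commutator_comm K Y] at h
        have h2 := perfect_three hQS.perfect h
        rw [Subgroup.commutator_eq_bot_iff_le_centralizer] at h2
        apply hYne
        have h3 : (Nat.card Y).Coprime p :=
          Nat.Coprime.coprime_dvd_left (Subgroup.card_dvd_of_le h2) hCcop
        obtain ⟨n, hn⟩ := IsPGroup.iff_card.mp hY
        rw [hn] at h3
        rcases Nat.eq_zero_or_pos n with h0 | h0
        · rw [h0, pow_zero] at hn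
          exact Subgroup.card_eq_one.mp hn
        · exfalso
          have := (Nat.coprime_pow_left_iff h0 p p).mp h3
          rw [Nat.coprime_self] at this
          exact (Fact.out : p.Prime).one_lt.ne' this
    refine ⟨h1, ?_⟩
    conv_lhs => rw [← h1]
    rw [Subgroup.commutator_le]
    intro k hk y hy
    rw [commutatorElement_def]
    apply Subgroup.mul_mem
    · refine Subgroup.mem_iSup_of_mem (⟨k, hk⟩ : K) ?_
      exact ⟨y, hy, by simp⟩
    · refine Subgroup.mem_iSup_of_mem (1 : K) ?_
      exact ⟨y⁻¹, Y.inv_mem hy, by simp⟩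
  · intro hcl
    obtain ⟨P⟩ : Nonempty (Sylow p H) := inferInstance
    have h1 : (P : Subgroup H) ≤ Cfsg.pCore p H := le_pCore (hcl P) P.2
    rw [hO, le_bot_iff] at h1
    have h2 := P.card_eq_multiplicity
    rw [h1, Subgroup.card_bot] at h2
    have h3 : 0 < (Nat.card H).factorization p :=
      (Fact.out : p.Prime).factorization_pos_of_dvd Nat.card_pos.ne' hp
    have h4 : 1 < p ^ (Nat.card H).factorization p :=
      Nat.one_lt_pow h3.ne' (Fact.out : p.Prime).one_lt
    omega
  · intro N hN hNcl
    by_contra hKN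
    apply hNcl
    intro P
    have h1 := partc N hN hKN
    have h2 : (P : Subgroup N) = ⊥ := by
      obtain ⟨n, hn⟩ := IsPGroup.iff_card.mp P.2
      have h3 : (Nat.card (P : Subgroup N)).Coprime p :=
        Nat.Coprime.coprime_dvd_left (Subgroup.card_subgroup_dvd_card _) h1
      rw [hn] at h3
      rcases Nat.eq_zero_or_pos n with h0 | h0
      · rw [h0, pow_zero] at hn
        exact Subgroup.card_eq_one.mp hn
      · exfalso
        have := (Nat.coprime_pow_left_iff h0 p p).mp h3
        rw [Nat.coprime_self] at this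
        exact (Fact.out : p.Prime).one_lt.ne' this
    rw [h2]
    infer_instance

end Cfsg.Agent.S2815
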