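import Cfsg.Statements.S2816
import Cfsg.Agent.Lib.Helper52FStar

set_option autoImplicit false
open Cfsg

namespace Cfsg.Agent.S2816

open Cfsg.Agent.Lib.Helper52FStar
open Cfsg.Agent.Lib.Helper28Comp Cfsg.Agent.Lib.Helper28Layer Cfsg.Agent.Lib.Helper28More

/-- Let H be a finite group and p a prime with O_p(H) = 1, and Y a p-subgroup of H. Then for every subnormal subgroup K of H containing Y, [F*(H), Y] = [F*(K), Y] = [F*(K), Y, Y]; and if Y₀ ≤ Y with [F*(H), Y, Y₀] = 1 then Y₀ = 1 (in particular [F*(H), Y] = 1 forces Y = 1). -/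
theorem result {H : Type*} [Group H] [Finite H] {p : ℕ} [Fact p.Prime] (hO : Cfsg.pCore p H = ⊥) (Y : Subgroup H) (hY : IsPGroup p ↥Y) : (∀ K : Subgroup H, K.IsSubnormal → Y ≤ K → ⁅Cfsg.generalizedFittingSubgroup H, Y⁆ = ⁅(Cfsg.generalizedFittingSubgroup ↥K).map K.subtype, Y⁆ ∧ ⁅(Cfsg.generalizedFittingSubgroup ↥K).map K.subtype, Y⁆ = ⁅⁅(Cfsg.generalizedFittingSubgroup ↥K).map K.subtype, Y⁆, Y⁆) ∧ (∀ Y₀ : Subgroup H, Y₀ ≤ Y → ⁅⁅Cfsg.generalizedFittingSubgroup H, Y⁆, Y₀⁆ = ⊥ → Y₀ = ⊥) := by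
  have hO' : NoP p (⊤ : Subgroup H) := noP_top_of_pCore_eq_bot hO
  rw [gfit_eq]
  refine ⟨?_, ?_⟩
  · intro K hK hYK
    rw [map_gfit]
    have hKsn : Sn K ⊤ := sn_top_iff.mpr hK
    exact ⟨fstar_commutator_sn hO' hY hKsn hYK,
      (fstar_commutator_gfitIn (hO'.of_sn hKsn) hY (hYK.trans Subgroup.le_normalizer)).2⟩
  · intro Y₀ h0 h
    exact eq_bot_of_commutator_commutator_gfitIn hO' hY le_top h0 h

end Cfsg.Agent.S2816
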