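import Cfsg.Statements.S2817
import Cfsg.Agent.Lib.Helper52FStar2

set_option autoImplicit false
open Cfsg

namespace Cfsg.Agent.S2817

open Subgroup
open Cfsg.Agent.Lib.Helper52Basic Cfsg.Agent.Lib.Helper52FStar Cfsg.Agent.Lib.Helper52FStar2
open Cfsg.Agent.Lib.Helper28Comp Cfsg.Agent.Lib.Helper28Layer Cfsg.Agent.Lib.Helper28More
open Cfsg.Agent.Lib.Helper40Sylow

/-- Let H be a finite group and p a prime with O_p(H) = 1, Q a p-subgroup of H, L = [F*(H), Q], and F the largest normal subgroup of F*(H) centralized by Q (a normal subgroup of F*(H) centralized by Q and containing every such). Then F = C_{F*(H)}(LQ); L = [L, Q]; L ∩ F ≤ Φ(L); every p-subgroup B of N_H(Q) with [L, B] ≤ F satisfies [L, B] = 1; and C_H(FL) has order prime to p. -/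
theorem result {H : Type*} [Group H] [Finite H] {p : ℕ} [Fact p.Prime] (hO : Cfsg.pCore p H = ⊥) (Q : Subgroup H) (hQ : IsPGroup p ↥Q) (L : Subgroup H) (hL : L = ⁅Cfsg.generalizedFittingSubgroup H, Q⁆) (F : Subgroup H) (hF : F ≤ Cfsg.generalizedFittingSubgroup H ∧ Cfsg.generalizedFittingSubgroup H ≤ Subgroup.normalizer (F : Set H) ∧ Q ≤ Subgroup.centralizer (F : Set H) ∧ ∀ N : Subgroup H, N ≤ Cfsg.generalizedFittingSubgroup H → Cfsg.generalizedFittingSubgroup H ≤ Subgroup.normalizer (N : Set H) → Q ≤ Subgroup.centralizer (N : Set H) → N ≤ F) : F = Cfsg.generalizedFittingSubgroup H ⊓ Subgroup.centralizer ((L ⊔ Q : Subgroup H) : Set H) ∧ ⁅L, Q⁆ = L ∧ L ⊓ F ≤ (frattini ↥L).map L.subtype ∧ (∀ B : Subgroup H, IsPGroup p ↥B → B ≤ Subgroup.normalizer (Q : Set H) → ⁅L, B⁆ ≤ F → ⁅L, B⁆ = ⊥) ∧ (Nat.card ↥(Subgroup.centralizer ((F ⊔ L : Subgroup H) : Set H))).Coprime p := by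
  have hO' : NoP p (⊤ : Subgroup H) := noP_top_of_pCore_eq_bot hO
  rw [gfit_eq] at hL hF ⊢
  set E := gfitIn (⊤ : Subgroup H) with hE
  obtain ⟨hFE, hEF, hQF, hFmax⟩ := hF
  have hEn : ∀ X : Subgroup H, X ≤ normalizer (E : Set H) := fun X => le_top.trans (gfitIn_normIn ⊤).2
  have h12 := fstar_commutator_gfitIn hO' hQ (le_top.trans le_normalizer : Q ≤ normalizer ((⊤ : Subgroup H) : Set H))
  rw [← hE, ← hL] at h12
  obtain ⟨h1, h2⟩ := h12
  have hLE : L ≤ E := by
    rw [hL]; exact Cfsg.Agent.Lib.Helper30SZ.commutator_le_of_le_normalizer (hEn Q)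
  have hELn : E ≤ normalizer (L : Set H) := by
    rw [hL]; exact Cfsg.Agent.Lib.Helper53Comm.le_normalizer_commutator_self_left E Q
  have hQLn : Q ≤ normalizer (L : Set H) := by
    rw [hL]; exact Cfsg.Agent.Lib.Helper53Comm.le_normalizer_commutator_self_right E Q
  have hQF' : ⁅Q, F⁆ = ⊥ := commutator_eq_bot_iff_le_centralizer.mpr hQF
  have hLF : ⁅L, F⁆ = ⊥ := by
    rw [hL]
    apply commutator_commutator_eq_bot_of_rotate
    · rw [hQF']; exact commutator_bot_left E
    · rw [eq_bot_iff, ← hQF', commutator_comm Q F]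
      exact commutator_mono (le_normalizer_iff_commutator_le_left.mp hEF) le_rfl
  have hLsn : Sn L E := (NormIn.sn ⟨hLE, hELn⟩)
  have hLgf : gfitIn L = L := eq_gfitIn_of_sn_gfitIn hLsn
  have hLO : NoP p L := hO'.of_sn (hLsn.trans (gfitIn_normIn ⊤).sn)
  have hZ : L ⊓ centralizer (Q : Set H) ≤ ⁅L, L⁆ :=
    inf_centralizer_le_commutator_self hLgf hLO hQ hQLn h2.symm
  have hLFL' : L ⊓ F ≤ ⁅L, L⁆ := by
    refine le_trans (le_inf inf_le_left ?_) hZ
    exact inf_le_right.trans (le_centralizer_iff.mp hQF)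
  refine ⟨?_, h2.symm, ?_, ?_, ?_⟩
  · apply le_antisymm
    · apply le_inf hFE
      rw [le_centralizer_iff]
      exact sup_le (commutator_eq_bot_iff_le_centralizer.mp hLF) hQF
    · apply hFmax _ inf_le_left
      · conv_lhs => rw [← h1]
        apply sup_le
        · refine le_trans ?_ (centralizer_le_normalizer _)
          rw [le_centralizer_iff]
          exact inf_le_right.trans (centralizer_le (le_sup_left : L ≤ L ⊔ Q))
        · refine le_trans ?_ inf_normalizer_le_normalizer_inf
          apply le_inf (hEn _)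
          refine le_trans ?_ (Cfsg.Agent.Lib.Helper52Basic.normalizer_le_normalizer_centralizer _)
          refine le_trans ?_ (inf_normalizer_le_normalizer_sup _ _)
          exact le_inf (inf_le_left.trans hELn) (inf_le_right.trans (centralizer_le_normalizer _))
      · rw [le_centralizer_iff]
        exact inf_le_right.trans (centralizer_le (le_sup_right : Q ≤ L ⊔ Q))
  · intro z hz
    have hzL : z ∈ L := hz.1
    refine ⟨⟨z, hzL⟩, ?_, rfl⟩
    apply center_inf_commutator_le_frattini
    constructor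
    · change _ ∈ center L
      rw [mem_center_iff]
      intro g
      apply Subtype.ext
      exact commute_of_commutator_eq_bot hLF g.2 hz.2
    · have h3 : ((commutator L).map L.subtype) = ⁅L, L⁆ := by
        rw [_root_.commutator_def, map_commutator, ← MonoidHom.range_eq_map, range_subtype]
      have h4 := hLFL' hz
      rw [← h3] at h4
      obtain ⟨w, hw, hwz⟩ := h4
      have : w = ⟨z, hzL⟩ := Subtype.ext hwz
      rw [← this]; exact hw
  · intro B hB hBQ hLB
    have hBL : B ≤ normalizer (L : Set H) := by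
      rw [hL]; exact Cfsg.Agent.Lib.Helper30SZ.le_normalizer_commutator (hEn B) hBQ
    have h3 := (fstar_commutator hLgf hLO hB hBL).2
    have hLBL : ⁅L, B⁆ ≤ L := Cfsg.Agent.Lib.Helper30SZ.commutator_le_of_le_normalizer hBL
    have h4 : ⁅⁅L, L⁆, B⁆ = ⊥ := by
      have h5 : ⁅⁅L, B⁆, L⁆ = ⊥ := by
        rw [eq_bot_iff, ← hLF, commutator_comm L F]
        exact commutator_mono hLB le_rfl
      apply commutator_commutator_eq_bot_of_rotate h5
      rw [commutator_comm B L]; exact h5
    rw [h3, eq_bot_iff, ← h4]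
    exact commutator_mono ((le_inf hLBL hLB).trans hLFL') le_rfl
  · set C := centralizer ((F ⊔ L : Subgroup H) : Set H) with hC
    have hQC : Q ≤ normalizer (C : Set H) := by
      refine le_trans ?_ (Cfsg.Agent.Lib.Helper52Basic.normalizer_le_normalizer_centralizer _)
      refine le_trans ?_ (inf_normalizer_le_normalizer_sup _ _)
      exact le_inf (hQF.trans (centralizer_le_normalizer _)) hQLn
    have key : ∀ B : Subgroup H, IsPGroup p B → B ≤ C → Q ≤ normalizer (B : Set H) → ⁅E, B⁆ = ⊥ := by
      intro B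
      induction B using (IsWellFounded.wf (r := ((· < ·) : Subgroup H → Subgroup H → Prop))).induction with
      | _ B ih =>
        intro hB hBC hQB
        by_cases hbot : B = ⊥
        · rw [hbot]; exact commutator_bot_right E
        have hB1le : ⁅B, Q⁆ ≤ B := Cfsg.Agent.Lib.Helper30SZ.commutator_le_of_le_normalizer hQB
        have hB1lt : ⁅B, Q⁆ < B := lt_of_le_of_ne hB1le
          (fun h => hbot (eq_bot_of_commutator_eq_self hB hQ hQB h))
        have h3 : ⁅E, ⁅B, Q⁆⁆ = ⊥ := ih _ hB1lt (hB.to_le hB1le) (hB1le.trans hBC)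
          (Cfsg.Agent.Lib.Helper53Comm.le_normalizer_commutator_self_right B Q)
        have hBL : ⁅L, B⁆ = ⊥ := by
          rw [commutator_comm, commutator_eq_bot_iff_le_centralizer]
          exact hBC.trans (centralizer_le (le_sup_right : L ≤ F ⊔ L))
        have hBF : ⁅F, B⁆ = ⊥ := by
          rw [commutator_comm, commutator_eq_bot_iff_le_centralizer]
          exact hBC.trans (centralizer_le (le_sup_left : F ≤ F ⊔ L))
        have h4 : ⁅⁅B, E⁆, Q⁆ = ⊥ := by
          apply commutator_commutator_eq_bot_of_rotate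
          · rw [← hL]; exact hBL
          · rw [commutator_comm Q B, commutator_comm]; exact h3
        have h5 : ⁅E, B⁆ ≤ F := by
          apply hFmax
          · exact Cfsg.Agent.Lib.Helper30SZ.commutator_le_of_le_normalizer (hEn B)
          · exact Cfsg.Agent.Lib.Helper53Comm.le_normalizer_commutator_self_left E B
          · rw [le_centralizer_iff, ← commutator_eq_bot_iff_le_centralizer, commutator_comm E B]
            exact h4
        have h6 := (fstar_commutator_gfitIn hO' hB
          (le_top.trans le_normalizer : B ≤ normalizer ((⊤ : Subgroup H) : Set H))).2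
        rw [← hE] at h6
        rw [h6, eq_bot_iff, ← hBF]
        exact commutator_mono h5 le_rfl
    obtain ⟨P, hP, hQP⟩ := exists_isSylowIn_ge (p := p) (Q := Q) (H := normalizer (C : Set H)) hQ hQC
    have hPC : IsSylowIn p (P ⊓ C) C := hP.inf_normal le_normalizer le_rfl
    have hQn : Q ≤ normalizer ((P ⊓ C : Subgroup H) : Set H) := by
      refine le_trans ?_ inf_normalizer_le_normalizer_inf
      exact le_inf (hQP.trans le_normalizer) hQC
    have h7 := key (P ⊓ C) hPC.2.1 inf_le_right hQn
    have h8 : P ⊓ C = ⊥ := eq_bot_of_commutator_gfitIn hO' hPC.2.1 le_top h7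
    have h9 := hPC.2.2
    rw [h8, relIndex_bot_left] at h9
    rw [Nat.coprime_comm]
    exact (Nat.Prime.coprime_iff_not_dvd Fact.out).mpr h9

end Cfsg.Agent.S2817
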