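import Cfsg.Statements.S2818
import Cfsg.Agent.Lib.Helper52Basic

set_option autoImplicit false
open Cfsg

namespace Cfsg.Agent.S2818

open scoped commutatorElement
open Cfsg.Agent.Lib.Helper52Basic

theorem aux {G : Type*} [Group G] (a b z w : G) (c1 : b * z = z * b) (c2 : a * w = w * a)
    (c5 : z * w = w * z) : a * z * (b * w) * (a * z)⁻¹ * (b * w)⁻¹ = a * b * a⁻¹ * b⁻¹ := by
  calc a * z * (b * w) * (a * z)⁻¹ * (b * w)⁻¹
      = a * (z * b) * w * z⁻¹ * a⁻¹ * w⁻¹ * b⁻¹ := by group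
    _ = a * (b * z) * w * z⁻¹ * a⁻¹ * w⁻¹ * b⁻¹ := by rw [c1]
    _ = a * b * (z * w) * z⁻¹ * (w * a)⁻¹ * b⁻¹ := by group
    _ = a * b * (w * z) * z⁻¹ * (a * w)⁻¹ * b⁻¹ := by rw [c5, c2]
    _ = a * b * a⁻¹ * b⁻¹ := by group

/-- Let P be a finite p-subgroup of a group G and H a subgroup of N_G(P) with [P, H] ≤ Ω₁(Z(P)) (the elements of order dividing p in the centre of P). Then H centralizes the Frattini subgroup of P. -/
theorem result {G : Type*} [Group G] [Finite G] {p : ℕ} [Fact p.Prime] (P : Subgroup G) (hP : IsPGroup p ↥P) (H : Subgroup G) (hH : H ≤ Subgroup.normalizer (P : Set G)) (h : ⁅P, H⁆ ≤ Cfsg.omegaOne p (P ⊓ Subgroup.centralizer (P : Set G))) : ⁅(frattini ↥P).map P.subtype, H⁆ = ⊥ := by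
  have hZc : ∀ a ∈ P ⊓ Subgroup.centralizer (P : Set G), ∀ b ∈ P ⊓ Subgroup.centralizer (P : Set G),
      a * b = b * a := by
    intro a ha b hb
    exact (Subgroup.mem_centralizer_iff.1 hb.2 a ha.1)
  have hact : ∀ h' ∈ H, ∀ x ∈ P, ∃ z : G, z ∈ P ∧ z ^ p = 1 ∧ (∀ y ∈ P, y * z = z * y) ∧
      h' * x * h'⁻¹ = x * z := by
    intro h' hh x hx
    have h1 : ⁅x⁻¹, h'⁆ ∈ Cfsg.omegaOne p (P ⊓ Subgroup.centralizer (P : Set G)) :=
      h (Subgroup.commutator_mem_commutator (P.inv_mem hx) hh)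
    obtain ⟨h2, h3⟩ := mem_omegaOne_of_comm hZc h1
    refine ⟨⁅x⁻¹, h'⁆, h2.1, h3, fun y hy => Subgroup.mem_centralizer_iff.1 h2.2 y hy, ?_⟩
    rw [commutatorElement_def]; group
  have hle : frattini ↥P ≤ (Subgroup.centralizer (H : Set G)).subgroupOf P := by
    apply frattini_le_of_elem (p := p)
    · intro a b
      rw [Subgroup.mem_subgroupOf, Subgroup.mem_centralizer_iff]
      intro h' hh
      obtain ⟨z, hzP, _, hz, hza⟩ := hact h' hh a a.2
      obtain ⟨w, _, _, hw, hwb⟩ := hact h' hh b b.2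
      have e0 : ((a * b * a⁻¹ * b⁻¹ : ↥P) : G) = (a : G) * b * (a : G)⁻¹ * (b : G)⁻¹ := by
        simp only [Subgroup.coe_mul, Subgroup.coe_inv]
      rw [e0]
      have e1 : h' * ((a : G) * b * (a : G)⁻¹ * (b : G)⁻¹) * h'⁻¹ = (a : G) * b * (a : G)⁻¹ * (b : G)⁻¹ := by
        have : h' * ((a : G) * b * (a : G)⁻¹ * (b : G)⁻¹) * h'⁻¹
            = (h' * a * h'⁻¹) * (h' * b * h'⁻¹) * (h' * a * h'⁻¹)⁻¹ * (h' * b * h'⁻¹)⁻¹ := by
          group
        rw [this, hza, hwb]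
        exact aux _ _ _ _ (hz b b.2) (hw a a.2) (hw z hzP)
      calc h' * ((a : G) * b * (a : G)⁻¹ * (b : G)⁻¹)
          = (h' * ((a : G) * b * (a : G)⁻¹ * (b : G)⁻¹) * h'⁻¹) * h' := by group
        _ = ((a : G) * b * (a : G)⁻¹ * (b : G)⁻¹) * h' := by rw [e1]
    · intro a
      rw [Subgroup.mem_subgroupOf, Subgroup.mem_centralizer_iff]
      intro h' hh
      obtain ⟨z, _, hzp, hz, hza⟩ := hact h' hh a a.2
      rw [Subgroup.coe_pow]
      have e1 : h' * (a : G) ^ p * h'⁻¹ = (a : G) ^ p := by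
        have : h' * (a : G) ^ p * h'⁻¹ = (h' * a * h'⁻¹) ^ p := by
          rw [conj_pow]
        rw [this, hza]
        have c : Commute (a : G) z := hz a a.2
        rw [c.mul_pow, hzp, mul_one]
      calc h' * (a : G) ^ p = (h' * (a : G) ^ p * h'⁻¹) * h' := by group
        _ = (a : G) ^ p * h' := by rw [e1]
  rw [Subgroup.commutator_eq_bot_iff_le_centralizer]
  rintro _ ⟨x, hx, rfl⟩
  exact hle hx

end Cfsg.Agent.S2818
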