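import Cfsg.Statements.S2819
import Cfsg.Agent.Lib.Helper52Basic

set_option autoImplicit false
open Cfsg

namespace Cfsg.Agent.S2819

open scoped commutatorElement
open Cfsg.Agent.Lib.Helper52Basic

theorem mul_pow_mod_comm {G : Type*} [Group G] (P : Subgroup G) (u v : G) (hu : u ∈ P) (hv : v ∈ P)
    (n : ℕ) : (u * v) ^ n * (u ^ n * v ^ n)⁻¹ ∈ ⁅P, P⁆ := by
  rw [← Subgroup.map_subtype_commutator]
  refine ⟨((⟨u, hu⟩ : P) * ⟨v, hv⟩) ^ n * ((⟨u, hu⟩ : P) ^ n * (⟨v, hv⟩ : P) ^ n)⁻¹, ?_, by simp⟩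
  rw [SetLike.mem_coe, ← Abelianization.ker_of, MonoidHom.mem_ker]
  simp only [map_mul, map_pow, map_inv]
  rw [mul_pow, mul_inv_cancel]

/-- Let P be a finite p-subgroup of a group G, H a subgroup of N_G(P), and Y a subgroup of H centralizing the derived subgroup P' such that [P, Y] is elementary abelian. Then O^p(⟨Y^H⟩), the subgroup of the normal closure of Y in H generated by its elements of order prime to p, centralizes the Frattini subgroup of P. -/
theorem result {G : Type*} [Group G] [Finite G] {p : ℕ} [Fact p.Prime] (P : Subgroup G) (hP : IsPGroup p ↥P) (H : Subgroup G) (hH : H ≤ Subgroup.normalizer (P : Set G)) (Y : Subgroup G) (hYH : Y ≤ H) (hYc : Y ≤ Subgroup.centralizer ((⁅P, P⁆ : Subgroup G) : Set G)) (hel : Cfsg.IsElementaryAbelian p ⁅P, Y⁆) (NY : Subgroup G) (hNY : NY = (Subgroup.normalClosure ((Y.subgroupOf H : Subgroup ↥H) : Set ↥H)).map H.subtype) : (Cfsg.pResidual p ↥NY).map NY.subtype ≤ Subgroup.centralizer (((frattini ↥P).map P.subtype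 : Subgroup G) : Set G) := by
  set Φ : Subgroup G := (frattini ↥P).map P.subtype with hΦ
  set P' : Subgroup G := ⁅P, P⁆ with hP'
  have hNP' : Subgroup.normalizer (P : Set G) ≤ Subgroup.normalizer (P' : Set G) := by
    rw [hP', ← Subgroup.map_subtype_commutator]
    exact normalizer_le_normalizer_map_of_char P (commutator ↥P)
  have hHΦ : H ≤ Subgroup.normalizer (Φ : Set G) :=
    hH.trans (normalizer_le_normalizer_map_of_char P (frattini ↥P))
  have hHP' : H ≤ Subgroup.normalizer (P' : Set G) := hH.trans hNP'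
  have hHbot : H ≤ Subgroup.normalizer ((⊥ : Subgroup G) : Set G) := by
    intro x _
    rw [Subgroup.mem_normalizer_iff]
    intro y
    simp
  have hPP' : P ≤ Subgroup.normalizer (P' : Set G) := Subgroup.le_normalizer.trans hNP'
  have hP'P : P' ≤ P := Subgroup.commutator_le_self P
  have hWP : ⁅P, Y⁆ ≤ P := Subgroup.le_normalizer_iff_commutator_le_left.1 (hYH.trans hH)
  have hfr : frattini ↥P ≤ stabSec P Y P' hPP' := by
    apply frattini_le_of_elem (p := p)
    · intro a b
      rw [mem_stabSec]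
      intro y hy
      have hc : ((a * b * a⁻¹ * b⁻¹ : ↥P) : G) ∈ P' := by
        have : ((a * b * a⁻¹ * b⁻¹ : ↥P) : G) = ⁅(a : G), (b : G)⁆ := by
          simp only [Subgroup.coe_mul, Subgroup.coe_inv, commutatorElement_def]
        rw [this]
        exact Subgroup.commutator_mem_commutator a.2 b.2
      have h1 := Subgroup.mem_centralizer_iff.1 (hYc hy) _ hc
      have : ((a * b * a⁻¹ * b⁻¹ : ↥P) : G) * y * ((a * b * a⁻¹ * b⁻¹ : ↥P) : G)⁻¹ * y⁻¹ = 1 := by
        rw [h1]; group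
      rw [this]
      exact P'.one_mem
    · intro a
      rw [mem_stabSec]
      intro y hy
      rw [Subgroup.coe_pow]
      have hw : ⁅y, (a : G)⁆ ∈ ⁅P, Y⁆ := by
        rw [Subgroup.commutator_comm]
        exact Subgroup.commutator_mem_commutator hy a.2
      have hwp : ⁅y, (a : G)⁆ ^ p = 1 := hel.2 _ hw
      have h1 : y * (a : G) * y⁻¹ = ⁅y, (a : G)⁆ * a := by rw [commutatorElement_def]; group
      have h2 := mul_pow_mod_comm P _ _ (hWP hw) a.2 p
      rw [hwp, one_mul, ← h1, conj_pow] at h2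
      have h3 : (a : G) ^ p * y * ((a : G) ^ p)⁻¹ * y⁻¹ = (y * (a : G) ^ p * y⁻¹ * ((a : G) ^ p)⁻¹)⁻¹ := by
        group
      rw [h3]
      exact P'.inv_mem h2
  set D : Subgroup ↥H := stabSec H Φ P' hHP' ⊓ stabSec H P' ⊥ hHbot with hD
  have hDn : D.Normal := by
    have := stabSec_normal H Φ P' hHP' hHΦ
    have := stabSec_normal H P' ⊥ hHbot hHP'
    exact Subgroup.normal_inf_normal _ _
  have hYD : ((Y.subgroupOf H : Subgroup ↥H) : Set ↥H) ⊆ D := by
    intro y hy
    have hy' : (y : G) ∈ Y := hy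
    refine ⟨?_, ?_⟩
    · show y ∈ stabSec H Φ P' hHP'
      rw [mem_stabSec]
      rintro _ ⟨x, hx, rfl⟩
      have h1 := mem_stabSec.1 (hfr hx) y hy'
      have h2 : (y : G) * P.subtype x * (y : G)⁻¹ * (P.subtype x)⁻¹
          = ((x : G) * y * (x : G)⁻¹ * (y : G)⁻¹)⁻¹ := by
        simp only [Subgroup.coe_subtype]; group
      rw [h2]
      exact P'.inv_mem h1
    · show y ∈ stabSec H P' ⊥ hHbot
      rw [mem_stabSec]
      intro c hc
      have h1 := Subgroup.mem_centralizer_iff.1 (hYc hy') _ hc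
      rw [Subgroup.mem_bot, ← h1]; group
  have hNYD : NY ≤ D.map H.subtype := by
    rw [hNY]
    exact Subgroup.map_mono (Subgroup.normalClosure_le_normal hYD)
  have hL1 : ∀ l ∈ D.map H.subtype, ∀ r ∈ Φ, l * r * l⁻¹ * r⁻¹ ∈ P' := by
    rintro _ ⟨d, hd, rfl⟩ r hr
    exact mem_stabSec.1 hd.1 r hr
  have hL2 : ∀ l ∈ D.map H.subtype, l ∈ Subgroup.centralizer (P' : Set G) := by
    rintro _ ⟨d, hd, rfl⟩
    rw [Subgroup.mem_centralizer_iff]
    intro r hr
    have := mem_stabSec.1 hd.2 r hr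
    rw [Subgroup.mem_bot] at this
    have h2 : (H.subtype d) * r = ((H.subtype d) * r * (H.subtype d)⁻¹ * r⁻¹) * (r * H.subtype d) := by
      group
    rw [h2]
    simp only [Subgroup.coe_subtype]
    rw [this, one_mul]
  rw [Subgroup.map_le_iff_le_comap]
  unfold Cfsg.pResidual
  rw [Subgroup.closure_le]
  intro g hg
  have hg' : (orderOf (g : G)).Coprime p := by
    rw [Subgroup.orderOf_coe]; exact hg
  have hgD : (g : G) ∈ D.map H.subtype := hNYD g.2
  obtain ⟨k, hk⟩ := stab_step (p := p) (D.map H.subtype) Φ P' (hP.to_le hP'P) hL1 g hgD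
    ⟨0, by simpa using hL2 _ hgD⟩
  show (g : G) ∈ Subgroup.centralizer (Φ : Set G)
  exact mem_of_pow_mem_of_coprime hg' hk

end Cfsg.Agent.S2819
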