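import Cfsg.Statements.S2820
import Cfsg.Agent.Lib.Helper52Subnormal

set_option autoImplicit false
open Cfsg

namespace Cfsg.Agent.S2820

open Cfsg.Agent.Lib.Helper52Basic Cfsg.Agent.Lib.Helper52Subnormal

/-- Let A and B be subnormal subgroups of the finite group H with A a p-group and B = O^p(B) (B generated by its elements of order prime to p). Then A normalizes B and B = O^p(AB), the subgroup of ⟨A, B⟩ generated by its elements of order prime to p. -/
theorem result {H : Type*} [Group H] [Finite H] {p : ℕ} [Fact p.Prime] (A B : Subgroup H) (hA : A.IsSubnormal) (hB : B.IsSubnormal) (hAp : IsPGroup p ↥A) (hBres : (Cfsg.pResidual p ↥B).map B.subtype = B) : A ≤ Subgroup.normalizer (B : Set H) ∧ (Cfsg.pResidual p ↥(A ⊔ B)).map (A ⊔ B).subtype = B := by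
  rw [map_pResidual_eq] at hBres ⊢
  have hAN : A ≤ Subgroup.normalizer (B : Set H) := by
    refine (subnormal_pGroup_le_pCore hA hAp).trans ?_
    have := normal_pGroup_le_normalizer_res (Cfsg.pCore p H) pCore_isPGroup hB
    rwa [hBres] at this
  refine ⟨hAN, le_antisymm (res_le_of_pow_mem ?_) ?_⟩
  · intro k hk
    rw [← SetLike.mem_coe, Subgroup.coe_mul_of_left_le_normalizer_right A B hAN] at hk
    obtain ⟨a, ha, b, hb, rfl⟩ := hk
    obtain ⟨j, hj⟩ := hAp ⟨a, ha⟩
    have hj' : a ^ (p ^ j) = 1 := by simpa using congrArg Subtype.val hj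
    refine ⟨j, ?_⟩
    have := pow_mul_mem_of_normalizes (hAN ha) hb (p ^ j)
    rwa [hj', inv_one, one_mul] at this
  · conv_lhs => rw [← hBres]
    exact res_mono p le_sup_right

end Cfsg.Agent.S2820
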