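import Cfsg.Statements.S2824
import Cfsg.Agent.Lib.Helper53PRed3

set_option autoImplicit false
open Cfsg

namespace Cfsg.Agent.S2824

open Subgroup Cfsg.Agent.Lib.Helper53Basic Cfsg.Agent.Lib.Helper53Rel Cfsg.Agent.Lib.Helper53Syl
open Cfsg.Agent.Lib.Helper53CharP
open Cfsg.Agent.Lib.Helper53PRed Cfsg.Agent.Lib.Helper53PRed2 Cfsg.Agent.Lib.Helper53PRed3

/-- Let H be a finite group, p a prime, T a Sylow p-subgroup, L and M subgroups of characteristic p containing T, Y_L the largest p-reduced normal subgroup of L and T₀ = C_T(Y_L). If M·C_H(Y_L) = L·C_H(Y_L), then L* := N_M(T₀) has Y_{L*} = Y_L and L·C_H(Y_L) = L*·C_H(Y_L). -/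
theorem result {H : Type*} [Group H] [Finite H] {p : ℕ} [Fact p.Prime] (T : Sylow p H) (L M : Subgroup H) (hTL : (T : Subgroup H) ≤ L) (hTM : (T : Subgroup H) ≤ M) (hL : Subgroup.centralizer (Cfsg.pCore p ↥L : Set ↥L) ≤ Cfsg.pCore p ↥L) (hM : Subgroup.centralizer (Cfsg.pCore p ↥M : Set ↥M) ≤ Cfsg.pCore p ↥M) (T₀ : Subgroup H) (hT₀ : T₀ = (T : Subgroup H) ⊓ Subgroup.centralizer (((Cfsg.largestPReducedOf p L) : Subgroup H) : Set H)) (hfac : M ⊔ Subgroup.centralizer (((Cfsg.largestPReducedOf p L) : Subgroup H) : Set H) = L ⊔ Subgroup.centralizer (((Cfsg.largestPReducedOf p L) : Subgroup H) : Set H)) (Ls : Subgroup H) (hLs : Ls = M ⊓ Subgroup.normalizer ((T₀ : Subgroup H) : Set H)) : (Cfsg.largestPReducedOf p Ls) = (Cfsg.largestPReducedOf p L) ∧ L ⊔ Subgroup.centralizer (((Cfsg.largestPReducedOf p L) : Subgroup H) : Set H) = Ls ⊔ Subgroup.centralizer (((Cfsg.largestPReducedOf p L) : Subgroup H) : Set H) := by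
  have hY := pRed_largest (p := p) L
  have hLc : CharP p L := (charP_iff' L).mp hL
  have hTs : IsSyl p (T : Subgroup H) L := isSyl_of_sylow_le T hTL
  have hom := omZ_le_largest hLc hTs
  set Y := Cfsg.largestPReducedOf p L with hYdef
  set C := Subgroup.centralizer ((Y : Subgroup H) : Set H) with hC
  have hMY : M ≤ normalizer (Y : Set H) := by
    have h1 : M ≤ L ⊔ C := hfac ▸ le_sup_left
    exact h1.trans (sup_le hY.2.1 (centralizer_le_normalizer' Y))
  have hMC : M ≤ normalizer (C : Set H) := le_normalizer_centralizer hMY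
  have hT₀s : IsSyl p T₀ (M ⊓ C) := by
    have h1 := (isSyl_of_sylow_le T hTM).inf_normal (N := M ⊓ C) inf_le_left
      (le_normalizer_inf le_normalizer hMC)
    rwa [← inf_assoc, inf_eq_left.mpr hTM, ← hT₀] at h1
  have hfr := frattini_sup (L := M) inf_le_left (le_normalizer_inf le_normalizer hMC) hT₀s
  rw [← hLs] at hfr
  have hLsM : Ls ≤ M := hLs ▸ inf_le_left
  have h2 : L ⊔ C = Ls ⊔ C := by
    rw [← hfac]
    apply le_antisymm
    · apply sup_le _ le_sup_right
      conv_lhs => rw [← hfr]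
      exact sup_le (inf_le_right.trans le_sup_right) le_sup_left
    · exact sup_le_sup_right hLsM _
  have hTLs : (T : Subgroup H) ≤ Ls := by
    rw [hLs]
    refine le_inf hTM ?_
    rw [hT₀]
    exact le_normalizer_inf le_normalizer (le_normalizer_centralizer (hTL.trans hY.2.1))
  have hYT : Y ≤ (T : Subgroup H) := (PRed.le_pCoreOf hY).trans (pCoreOf_le_isSyl hTs)
  have hYLs : PRed p Y Ls := PRed.of_sup_eq hY (hYT.trans hTLs) h2.symm
  refine ⟨?_, h2⟩
  apply le_antisymm _ (PRed.le_largest hYLs)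
  have hW := pRed_largest (p := p) Ls
  have hYW := PRed.le_largest hYLs
  set W := Cfsg.largestPReducedOf p Ls with hWdef
  have hWel := isElementaryAbelian_iff.mp hW.2.2.1
  refine le_trans ?_ hom
  rw [← hT₀]
  intro w hw
  apply mem_omegaOne _ (hWel.2 w hw)
  have hT₀O : T₀ ≤ pCoreOf p Ls := by
    apply le_pCoreOf _ (hLs ▸ inf_le_right) hT₀s.isPGroup
    rw [hT₀]; exact inf_le_left.trans hTLs
  refine Subgroup.mem_inf.mpr ⟨?_, ?_⟩
  · rw [hT₀]
    refine Subgroup.mem_inf.mpr ⟨?_, ?_⟩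
    · exact pCoreOf_le_isSyl (isSyl_of_sylow_le T hTLs) (PRed.le_pCoreOf hW hw)
    · exact centralizer_le hYW (hWel.1 hw)
  · exact (le_centralizer_iff.mp (hT₀O.trans (PRed.pCoreOf_le_centralizer hW))) hw

end Cfsg.Agent.S2824
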