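import Cfsg.Statements.S2825
import Cfsg.Agent.Lib.Helper53Subn

set_option autoImplicit false
open Cfsg

namespace Cfsg.Agent.S2825

open Subgroup Cfsg.Agent.Lib.Helper53Basic Cfsg.Agent.Lib.Helper53Rel Cfsg.Agent.Lib.Helper53Syl
open Cfsg.Agent.Lib.Helper53PRed Cfsg.Agent.Lib.Helper53PRed2 Cfsg.Agent.Lib.Helper53Subn

/-- Let L be a subnormal subgroup of the finite group H, p a prime, Y_H and Y_L the largest p-reduced normal subgroups. Then Y_H ∩ L = Y_H ∩ Y_L and this subgroup is a p-reduced normal subgroup of L; C_L(Y_L) = C_L(Y_H) = C_L(Y_H ∩ L); and if O^p(H) ≤ L, then [Y_L, L] = 1 if and only if [Y_H, H] = 1. -/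
theorem result {H : Type*} [Group H] [Finite H] {p : ℕ} [Fact p.Prime] (L : Subgroup H) (hL : L.IsSubnormal) : Cfsg.largestPReduced p H ⊓ L = Cfsg.largestPReduced p H ⊓ (Cfsg.largestPReducedOf p L) ∧ Cfsg.IsPReducedNormal p ((Cfsg.largestPReduced p H ⊓ L).subgroupOf L) ∧ L ⊓ Subgroup.centralizer ((Cfsg.largestPReducedOf p L : Subgroup H) : Set H) = L ⊓ Subgroup.centralizer (Cfsg.largestPReduced p H : Set H) ∧ L ⊓ Subgroup.centralizer (Cfsg.largestPReduced p H : Set H) = L ⊓ Subgroup.centralizer ((Cfsg.largestPReduced p H ⊓ L : Subgroup H) : Set H) ∧ (Cfsg.pResidual p H ≤ L → (⁅(Cfsg.largestPReducedOf p L), L⁆ = ⊥ ↔ ⁅Cfsg.largestPReduced p H, (⊤ : Subgroup H)⁆ = ⊥)) := by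
  obtain ⟨hA, hB, hC⟩ := subnormal_main (p := p) hL
  rw [largestPReducedOf_top] at hC
  have hY : PRed p (Cfsg.largestPReduced p H) ⊤ := by
    rw [← largestPReducedOf_top]; exact pRed_largest ⊤
  set Y := Cfsg.largestPReduced p H with hYdef
  have hYL := pRed_largest (p := p) L
  refine ⟨?_, ?_, hC, (hB Y hY).symm, ?_⟩
  · apply le_antisymm
    · exact le_inf inf_le_left (PRed.le_largest (hA Y hY))
    · exact inf_le_inf_left _ hYL.1
  · rw [isPReducedNormal_iff, map_subgroupOf_eq_of_le inf_le_right]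
    exact hA Y hY
  · intro hres
    rw [commutator_eq_bot_iff_le_centralizer, commutator_eq_bot_iff_le_centralizer,
      le_centralizer_iff, le_centralizer_iff (H := Y)]
    constructor
    · intro h1
      have h2 : L ≤ centralizer (Y : Set H) := by
        have : L ≤ L ⊓ centralizer ((Cfsg.largestPReducedOf p L : Subgroup H) : Set H) :=
          le_inf le_rfl h1
        rw [hC] at this
        exact this.trans inf_le_right
      apply hY.2.2.2 ⊤ le_rfl (by rw [normalizer_eq_top])
      intro d _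
      obtain ⟨k, hk⟩ := exists_pow_mem_pResidual (p := p) d
      exact ⟨k, h2 (hres hk)⟩
    · intro h1
      have : L ≤ L ⊓ centralizer (Y : Set H) := le_inf le_rfl (le_top.trans h1)
      rw [← hC] at this
      exact this.trans inf_le_right

end Cfsg.Agent.S2825
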