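import Cfsg.Statements.S2826
import Cfsg.Agent.Lib.Helper53ZL

set_option autoImplicit false
open Cfsg

namespace Cfsg.Agent.S2826

open Subgroup Cfsg.Agent.Lib.Helper53Basic Cfsg.Agent.Lib.Helper53Rel Cfsg.Agent.Lib.Helper53Syl
open Cfsg.Agent.Lib.Helper53CharP Cfsg.Agent.Lib.Helper53ZL Cfsg.Agent.Lib.Helper53Comm
open Cfsg.Agent.Lib.Helper53PRed Cfsg.Agent.Lib.Helper53PRed2 Cfsg.Agent.Lib.Helper53PRed3

local notation "⟪" Q ", " g "⟫" => Subgroup.map (MulEquiv.toMonoidHom (MulAut.conj g)) Q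

/-- Let H be a finite group of characteristic p, T a Sylow p-subgroup, and V a normal elementary abelian p-subgroup of H containing Ω₁(Z(T)). Then C_H(Ω₁(Z(T))) = C_H([V, O^p(H)] ∩ Ω₁(Z(T))), O^p(H) being generated by the elements of order prime to p. -/
theorem result {H : Type*} [Group H] [Finite H] {p : ℕ} [Fact p.Prime] (hH : Subgroup.centralizer (Cfsg.pCore p H : Set H) ≤ Cfsg.pCore p H) (T : Sylow p H) (V : Subgroup H) [V.Normal] (hV : Cfsg.IsElementaryAbelian p V) (hZV : (Cfsg.omegaOne p ((T : Subgroup H) ⊓ Subgroup.centralizer (((T : Subgroup H) : Subgroup H) : Set H))) ≤ V) : Subgroup.centralizer ((Cfsg.omegaOne p ((T : Subgroup H) ⊓ Subgroup.centralizer (((T : Subgroup H) : Subgroup H) : Set H))) : Set H) = Subgroup.centralizer (((⁅V, Cfsg.pResidual p H⁆ ⊓ (Cfsg.omegaOne p ((T : Subgroup H) ⊓ Subgroup.centralizer (((T : Subgroup H) : Subgroup H) : Set H)))) : Subgroup H) : Set H) := by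
  have hTs : IsSyl p (T : Subgroup H) ⊤ := isSyl_of_sylow_le T le_top
  have hc : CharP p (⊤ : Subgroup H) := charP_top_iff.mp hH
  obtain ⟨h1, -⟩ := zl_struct hTs hc
  have hZ₀Z := omZ_le_sylowCenterClosure hTs
  have hΩ := omegaOne_center_le_omZ hTs
  have heq := sylowCenterClosure_eq (p := p) (⊤ : Subgroup H)
  rw [pRes_top] at h1
  set Z := sylowCenterClosure p (⊤ : Subgroup H) with hZdef
  set Z₀ := Cfsg.omegaOne p ((T : Subgroup H) ⊓ Subgroup.centralizer (((T : Subgroup H) : Subgroup H) : Set H)) with hZ₀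
  set Ω := omegaOne p ((⊤ : Subgroup H) ⊓ centralizer ((⊤ : Subgroup H) : Set H)) with hΩdef
  have hZleV : Z ≤ V := by
    rw [heq]
    apply sSup_le
    rintro X ⟨S, hS, rfl⟩
    obtain ⟨l, -, rfl⟩ := hTs.conj hS
    rw [inf_top_eq, ← omZ_cj]
    have h5 : ⟪Z₀, l⟫ ≤ ⟪V, l⟫ := cj_mono l hZV
    rw [cj_eq_of_le_normalizer (A := V) (K := ⊤) le_normalizer_of_normal (mem_top l)] at h5
    exact h5
  apply le_antisymm (centralizer_le inf_le_right)
  have h2 : Z₀ ≤ Ω ⊔ (⁅Z, pResidual p H⁆ ⊓ Z₀) := by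
    have h3 : Z₀ ≤ (Ω ⊔ ⁅Z, pResidual p H⁆) ⊓ Z₀ := le_inf (h1 ▸ hZ₀Z) le_rfl
    rwa [dedekind hΩ] at h3
    have hΩc : Ω ≤ centralizer ((⊤ : Subgroup H) : Set H) := (omegaOne_le _).trans inf_le_right
    have h4 : (⊤ : Subgroup H) ≤ centralizer (Ω : Set H) := le_centralizer_iff.mp hΩc
    exact (le_top.trans h4).trans (centralizer_le_normalizer' Ω)
  rw [le_centralizer_iff]
  refine h2.trans (sup_le ?_ ?_)
  · have hΩc : Ω ≤ centralizer ((⊤ : Subgroup H) : Set H) := (omegaOne_le _).trans inf_le_right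
    exact hΩc.trans (centralizer_le le_top)
  · rw [le_centralizer_iff]
    exact centralizer_le (inf_le_inf_right _ (commutator_mono hZleV le_rfl))

end Cfsg.Agent.S2826
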