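import Cfsg.Statements.S2827
import Cfsg.Agent.Lib.Helper53Min

set_option autoImplicit false
open Cfsg

namespace Cfsg.Agent.S2827

open Subgroup Cfsg.Agent.Lib.Helper53Basic Cfsg.Agent.Lib.Helper53Rel Cfsg.Agent.Lib.Helper53Syl
open Cfsg.Agent.Lib.Helper53Comm Cfsg.Agent.Lib.Helper53Min
open scoped commutatorElement

theorem isPClosed_of_normal_sylow {H : Type*} [Group H] [Finite H] {p : ℕ} [Fact p.Prime]
    (T : Sylow p H) (h : (T : Subgroup H).Normal) : IsPClosed p H := by
  intro P
  have := Sylow.unique_of_normal T h
  rw [Subsingleton.elim P T]; exact h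

/-- Let H be a finite p-irreducible group (not p-closed, and O^p(H) lies in every normal subgroup that is not p-closed) and T a Sylow p-subgroup. Then H is generated by the conjugates of T and H = H'·T; O^p(H) ≤ H'; and for every normal subgroup Y of T not contained in O_p(H), O^p(H) = [O^p(H), Y] and O^p(H) is contained in the normal closure of Y in H. -/
theorem result {H : Type*} [Group H] [Finite H] {p : ℕ} [Fact p.Prime] (hH : Cfsg.IsPIrreducible p H) (T : Sylow p H) : Subgroup.normalClosure ((T : Subgroup H) : Set H) = ⊤ ∧ commutator H ⊔ (T : Subgroup H) = ⊤ ∧ Cfsg.pResidual p H ≤ commutator H ∧ ∀ Y : Subgroup H, Y ≤ (T : Subgroup H) → (T : Subgroup H) ≤ Subgroup.normalizer (Y : Set H) → ¬ Y ≤ Cfsg.pCore p H → ⁅Cfsg.pResidual p H, Y⁆ = Cfsg.pResidual p H ∧ Cfsg.pResidual p H ≤ Subgroup.normalClosure (Y : Set H) := by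
  have ha : Subgroup.normalClosure ((T : Subgroup H) : Set H) = ⊤ := by
    set N := Subgroup.normalClosure ((T : Subgroup H) : Set H) with hN
    have hTN : (T : Subgroup H) ≤ N := le_normalClosure
    have hnc : ¬ IsPClosed p ↥N := by
      intro hc
      apply hH.1
      apply isPClosed_of_normal_sylow T
      have h1 := (isSyl_of_sylow_le T hTN).eq_pCoreOf_of_isPClosed hc
      rw [← normalizer_eq_top_iff, h1, ← top_le_iff]
      exact le_trans (by rw [normalizer_eq_top]) (normalizer_le_normalizer_pCoreOf N)
    have h2 := hH.2 N normalClosure_normal hnc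
    rw [← top_le_iff, ← pResidual_sup_sylow T]
    exact sup_le h2 hTN
  have hb : commutator H ⊔ (T : Subgroup H) = ⊤ := by
    have hn : (commutator H ⊔ (T : Subgroup H)).Normal := by
      constructor
      intro k hk g
      have h1 : ⁅g, k⁆ ∈ commutator H := commutator_mem_commutator (mem_top g) (mem_top k)
      have h2 : g * k * g⁻¹ = ⁅g, k⁆ * k := by simp only [commutatorElement_def]; group
      rw [h2]
      exact Subgroup.mul_mem _ (le_sup_left (a := commutator H) h1) hk
    rw [← top_le_iff, ← ha]
    exact normalClosure_le_normal (SetLike.coe_subset_coe.mpr le_sup_right)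
  refine ⟨ha, hb, ?_, ?_⟩
  · apply pResidual_le_of_forall_pow_mem
    intro g
    apply exists_pow_mem_of_mem_sup (T := (T : Subgroup H)) le_normalizer_of_normal T.2
    rw [sup_comm, hb]; exact mem_top g
  · intro Y hYT hTY hY
    have hYp : IsPGroup p Y := T.2.to_le hYT
    have h1 : pResidual p H ≤ Subgroup.normalClosure (Y : Set H) := by
      apply hH.2 _ normalClosure_normal
      intro hc
      apply hY
      have h2 := isPGroup_le_pCoreOf_of_isPClosed hc hYp le_normalClosure
      have h3 := pCoreOf_le_of_normal (p := p) (N := Subgroup.normalClosure (Y : Set H)) (L := ⊤)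
        le_top le_normalizer_of_normal
      rw [pCoreOf_top] at h3
      exact h2.trans h3
    refine ⟨?_, h1⟩
    set R₀ := pResidual p H with hR₀
    set R := ⁅R₀, Y⁆ with hR
    have hRn : (⊤ : Subgroup H) ≤ normalizer (R : Set H) := by
      rw [← pResidual_sup_sylow T]
      exact sup_le (le_normalizer_commutator_self_left _ _)
        (le_normalizer_commutator le_normalizer_of_normal hTY)
    have hRYn : (⊤ : Subgroup H) ≤ normalizer ((R ⊔ Y : Subgroup H) : Set H) := by
      rw [← pResidual_sup_sylow T]
      apply sup_le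
      · intro x hx
        rw [← cj_eq_iff_mem_normalizer]
        apply cj_eq_of_le
        rw [cj_sup, cj_eq_of_le_normalizer hRn (mem_top x)]
        apply sup_le le_sup_left
        rintro _ ⟨y, hy, rfl⟩
        have h2 : ⁅x, y⁆ ∈ R := commutator_mem_commutator hx hy
        have h3 : (MulAut.conj x).toMonoidHom y = ⁅x, y⁆ * y := by
          simp only [commutatorElement_def, MulEquiv.coe_toMonoidHom, MulAut.conj_apply]; group
        rw [h3]
        exact Subgroup.mul_mem _ (le_sup_left (a := R) h2) (le_sup_right (b := Y) hy)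
      · exact le_normalizer_sup (le_top.trans hRn) hTY
    have hRYnorm : (R ⊔ Y).Normal := normalizer_eq_top_iff.mp (top_le_iff.mp hRYn)
    have h4 : R₀ ≤ Y ⊔ R := by
      rw [sup_comm]
      exact h1.trans (normalClosure_le_normal (SetLike.coe_subset_coe.mpr le_sup_right))
    apply le_antisymm
    · exact commutator_le_of_le_normalizer' le_normalizer_of_normal
    · apply pResidual_le_of_forall_pow_mem
      intro g
      obtain ⟨a, ha'⟩ := exists_pow_mem_pResidual (p := p) g
      obtain ⟨b, hb'⟩ := exists_pow_mem_of_mem_sup (le_top.trans hRn) hYp (h4 ha')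
      exact ⟨a + b, by rw [pow_add, pow_mul]; exact hb'⟩

end Cfsg.Agent.S2827
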