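import Cfsg.Statements.S2828
import Cfsg.Agent.Lib.Helper53PIrr

set_option autoImplicit false
open Cfsg

namespace Cfsg.Agent.S2828

open Subgroup Cfsg.Agent.Lib.Helper53Basic Cfsg.Agent.Lib.Helper53Rel Cfsg.Agent.Lib.Helper53Syl
open Cfsg.Agent.Lib.Helper53Min Cfsg.Agent.Lib.Helper53PIrr

/-- Let H be a finite group, p a prime and D a normal p-subgroup of H. Then H is p-irreducible if and only if H/D is p-irreducible, and H is strongly p-irreducible if and only if H/D is strongly p-irreducible. -/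
theorem result {H : Type*} [Group H] [Finite H] {p : ℕ} [Fact p.Prime] (D : Subgroup H) [D.Normal] (hD : IsPGroup p ↥D) : (Cfsg.IsPIrreducible p H ↔ Cfsg.IsPIrreducible p (H ⧸ D)) ∧ (Cfsg.IsStronglyPIrreducible p H ↔ Cfsg.IsStronglyPIrreducible p (H ⧸ D)) := by
  set π := QuotientGroup.mk' D with hπ
  have hsurj : Function.Surjective π := QuotientGroup.mk'_surjective D
  have hker : π.ker = D := QuotientGroup.ker_mk' D
  have hkp : IsPGroup p π.ker := by rw [hker]; exact hD
  have ha : Cfsg.IsPClosed p H ↔ Cfsg.IsPClosed p (H ⧸ D) := isPClosed_iff_of_surjective hsurj hkp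
  have hb : ∀ N : Subgroup H, Cfsg.IsPClosed p ↥N ↔ Cfsg.IsPClosed p ↥(N.map π) :=
    isPClosed_map_iff π hkp
  have hc : Cfsg.pResidual p (H ⧸ D) ≤ (Cfsg.pResidual p H).map π := by
    apply pResidual_le_of_forall_pow_mem
    intro x
    obtain ⟨g, rfl⟩ := hsurj x
    obtain ⟨k, hk⟩ := exists_pow_mem_pResidual (p := p) g
    exact ⟨k, ⟨_, hk, map_pow _ _ _⟩⟩
  have hc' : (Cfsg.pResidual p H).map π ≤ Cfsg.pResidual p (H ⧸ D) := pResidual_map_le π
  have hd : (Cfsg.pCore p H).map π ≤ Cfsg.pCore p (H ⧸ D) :=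
    le_pCore ((pCore_normal p H).map π hsurj) ((pCore_isPGroup p H).map π)
  have hd' : (Cfsg.pCore p (H ⧸ D)).comap π ≤ Cfsg.pCore p H :=
    le_pCore ((pCore_normal p (H ⧸ D)).comap π) ((pCore_isPGroup p (H ⧸ D)).comap_of_ker_isPGroup π hkp)
  -- from `O^p(H/D) ≤ ND/D` to `O^p(H) ≤ N`
  have he : ∀ N : Subgroup H, N.Normal → Cfsg.pResidual p (H ⧸ D) ≤ N.map π →
      Cfsg.pResidual p H ≤ N := by
    intro N hN h
    have h1 : Cfsg.pResidual p H ≤ D ⊔ N := by
      have := (map_le_iff_le_comap.mp (hc'.trans h))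
      rwa [comap_map_eq, hker, sup_comm] at this
    apply pResidual_le_of_forall_pow_mem
    intro g
    obtain ⟨a, ha'⟩ := exists_pow_mem_pResidual (p := p) g
    obtain ⟨b, hb'⟩ := exists_pow_mem_of_mem_sup le_normalizer_of_normal hD (h1 ha')
    exact ⟨a + b, by rw [pow_add, pow_mul]; exact hb'⟩
  have hf : ∀ N : Subgroup (H ⧸ D), Cfsg.pResidual p H ≤ N.comap π →
      Cfsg.pResidual p (H ⧸ D) ≤ N := by
    intro N h
    exact hc.trans (map_le_iff_le_comap.mpr h)
  constructor
  · unfold Cfsg.IsPIrreducible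
    constructor
    · rintro ⟨h1, h2⟩
      refine ⟨fun h => h1 (ha.mpr h), fun N hN hNc => hf N (h2 _ (hN.comap π) ?_)⟩
      rw [hb, map_comap_eq_self_of_surjective hsurj]
      exact hNc
    · rintro ⟨h1, h2⟩
      refine ⟨fun h => h1 (ha.mp h), fun N hN hNc => he N hN (h2 _ (hN.map π hsurj) ?_)⟩
      rw [← hb]
      exact hNc
  · unfold Cfsg.IsStronglyPIrreducible
    constructor
    · rintro ⟨h1, h2⟩
      refine ⟨fun h => h1 (ha.mpr h), fun N hN hNc => hf N (h2 _ (hN.comap π) ?_)⟩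
      intro h3
      apply hNc
      have h4 := (map_mono (f := π) h3).trans hd
      rwa [map_commutator, map_comap_eq_self_of_surjective hsurj, map_top_of_surjective π hsurj] at h4
    · rintro ⟨h1, h2⟩
      refine ⟨fun h => h1 (ha.mp h), fun N hN hNc => he N hN (h2 _ (hN.map π hsurj) ?_)⟩
      intro h3
      apply hNc
      rw [← map_top_of_surjective π hsurj, ← map_commutator, map_le_iff_le_comap] at h3
      exact h3.trans hd'

end Cfsg.Agent.S2828
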