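import Cfsg.Statements.S2829
import Cfsg.Agent.Lib.Helper53Syl

set_option autoImplicit false
open Cfsg

namespace Cfsg.Agent.S2829

open Subgroup Cfsg.Agent.Lib.Helper53Basic Cfsg.Agent.Lib.Helper53Rel Cfsg.Agent.Lib.Helper53Syl
open scoped commutatorElement

/-- Every strongly p-irreducible finite group is p-irreducible. -/
theorem result {H : Type*} [Group H] [Finite H] {p : ℕ} [Fact p.Prime] (hH : Cfsg.IsStronglyPIrreducible p H) : Cfsg.IsPIrreducible p H := by
  refine ⟨hH.1, fun N hN hNc => hH.2 N hN fun hle => hNc ?_⟩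
  obtain ⟨S, hS⟩ := exists_isSyl (p := p) N
  apply isPClosed_of_isSyl hS
  rw [le_normalizer_iff]
  intro n hn x hx
  have h1 : ⁅n, x⁆ ∈ pCore p H ⊓ N := by
    refine Subgroup.mem_inf.mpr ⟨hle (commutator_mem_commutator hn (mem_top x)), ?_⟩
    rw [commutatorElement_def]
    exact N.mul_mem (N.mul_mem (N.mul_mem hn (hS.le hx)) (N.inv_mem hn)) (N.inv_mem (hS.le hx))
  have h2 : pCore p H ⊓ N ≤ pCoreOf p N :=
    le_pCoreOf inf_le_right (le_normalizer_inf le_normalizer_of_normal le_normalizer)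
      (pCore_isPGroup p H).to_inf_left
  have h3 := S.mul_mem (pCoreOf_le_isSyl hS (h2 h1)) hx
  rw [commutatorElement_def] at h3
  simpa using h3

end Cfsg.Agent.S2829
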