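import Cfsg.Statements.S2830
import Cfsg.Agent.Lib.Helper53PIrr
import Cfsg.Agent.Lib.Helper53PRed

set_option autoImplicit false
open Cfsg

namespace Cfsg.Agent.S2830

open Subgroup Cfsg.Agent.Lib.Helper53Basic Cfsg.Agent.Lib.Helper53Rel Cfsg.Agent.Lib.Helper53Syl
open Cfsg.Agent.Lib.Helper53Min Cfsg.Agent.Lib.Helper53PIrr Cfsg.Agent.Lib.Helper53PRed

/-- Let H act by conjugation on the elementary abelian p-subgroup V of a finite group G (H ≤ N(V)), with H p-irreducible and O^p(H) not centralizing V. Then C_H(V) is p-closed and C_T(V) ≤ O_p(H) for every p-subgroup T of H. If in addition O_p(H) centralizes V, then C_T(V) = T ∩ O_p(H) for every p-subgroup T of H, and V is p-reduced for H: O_p(H/C_H(V)) = 1. -/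
theorem result {G : Type*} [Group G] [Finite G] {p : ℕ} [Fact p.Prime] (V H : Subgroup G) (hV : Cfsg.IsElementaryAbelian p V) (hHV : H ≤ Subgroup.normalizer (V : Set G)) (hH : Cfsg.IsPIrreducible p ↥H) (hnc : ¬ (Cfsg.pResidual p ↥H).map H.subtype ≤ Subgroup.centralizer (V : Set G)) [hn : ((Subgroup.centralizer (V : Set G)).subgroupOf H).Normal] : Cfsg.IsPClosed p ↥(H ⊓ Subgroup.centralizer (V : Set G)) ∧ (∀ T : Subgroup G, T ≤ H → IsPGroup p ↥T → T ⊓ Subgroup.centralizer (V : Set G) ≤ Cfsg.pCoreOf p H) ∧ (Cfsg.pCoreOf p H ≤ Subgroup.centralizer (V : Set G) → (∀ T : Subgroup G, T ≤ H → IsPGroup p ↥T → T ⊓ Subgroup.centralizer (V : Set G) = T ⊓ Cfsg.pCoreOf p H) ∧ Cfsg.pCore p (↥H ⧸ (Subgroup.centralizer (V : Set G)).subgroupOf H) = ⊥) := by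
  rw [isPIrreducible_iff] at hH
  obtain ⟨hH1, hH2⟩ := hH
  set C := Subgroup.centralizer (V : Set G) with hC
  have hCn : H ≤ normalizer ((H ⊓ C : Subgroup G) : Set G) :=
    le_normalizer_inf le_normalizer (le_normalizer_centralizer hHV)
  have h1 : Cfsg.IsPClosed p ↥(H ⊓ C) := by
    by_contra hc
    exact hnc ((hH2 _ inf_le_left hCn hc).trans inf_le_right)
  have h2 : ∀ T : Subgroup G, T ≤ H → IsPGroup p ↥T → T ⊓ C ≤ Cfsg.pCoreOf p H := by
    intro T hTH hT
    exact (isPGroup_le_pCoreOf_of_isPClosed h1 hT.to_inf_left (inf_le_inf_right _ hTH)).trans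
      (pCoreOf_le_of_normal inf_le_left hCn)
  refine ⟨h1, h2, fun hO => ⟨fun T hTH hT => ?_, ?_⟩⟩
  · exact le_antisymm (le_inf inf_le_left (h2 T hTH hT)) (inf_le_inf_left _ hO)
  · rw [pCore_quotient_eq_bot_iff]
    intro D hD hpow
    set D' := D.map H.subtype with hD'
    have hD'H : D' ≤ H := map_subtype_le D
    have hD'n : H ≤ normalizer (D' : Set G) := by
      rw [← normal_subgroupOf_iff_le_normalizer hD'H, subgroupOf_map_subtype']
      exact hD
    have hpow' : ∀ d ∈ D', ∃ k : ℕ, d ^ (p ^ k) ∈ C := by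
      rintro _ ⟨d, hd, rfl⟩
      obtain ⟨k, hk⟩ := hpow d hd
      exact ⟨k, by simpa [mem_subgroupOf] using hk⟩
    have hcl : Cfsg.IsPClosed p ↥D' := by
      by_contra hc
      apply hnc
      have h3 := hH2 _ hD'H hD'n hc
      apply pRes_le_of_forall_pow_mem
      intro g hg
      obtain ⟨a, ha⟩ := exists_pow_mem_pRes (p := p) hg
      obtain ⟨b, hb⟩ := hpow' _ (h3 ha)
      exact ⟨a + b, by rw [pow_add, pow_mul]; exact hb⟩
    have hS := (isPClosed_iff D').mp hcl
    have h4 : (D' ⊓ C) ⊔ pCoreOf p D' = D' := by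
      apply hS.sup_eq inf_le_left
      · exact le_normalizer_inf le_normalizer (le_normalizer_centralizer (hD'H.trans hHV))
      · intro l hl
        obtain ⟨k, hk⟩ := hpow' l hl
        exact ⟨k, D'.pow_mem hl _, hk⟩
    have h5 : D' ≤ C := by
      rw [← h4]
      exact sup_le inf_le_right ((pCoreOf_le_of_normal hD'H hD'n).trans hO)
    intro d hd
    rw [mem_subgroupOf]
    exact h5 (mem_map_of_mem _ hd)

end Cfsg.Agent.S2830
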