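import Cfsg.Statements.S2831
import Cfsg.Agent.Lib.Helper53Min

set_option autoImplicit false
open Cfsg

namespace Cfsg.Agent.S2831

open Subgroup Cfsg.Agent.Lib.Helper53Basic Cfsg.Agent.Lib.Helper53Rel Cfsg.Agent.Lib.Helper53Syl
open Cfsg.Agent.Lib.Helper53Comm Cfsg.Agent.Lib.Helper53Min

/-- Let H be a finite group with Sylow p-subgroup T such that H is T-minimal (H is generated by the conjugates of T and T lies in exactly one maximal subgroup of H). Then H is p-irreducible: H is not p-closed and O^p(H) lies in every normal subgroup of H that is not p-closed. -/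
theorem result {H : Type*} [Group H] [Finite H] {p : ℕ} [Fact p.Prime] (T : Sylow p H) (hmin : Cfsg.IsMinimalOver (T : Subgroup H)) : Cfsg.IsPIrreducible p H := by
  obtain ⟨M, ⟨hM, hTM⟩, -⟩ := hmin.2
  constructor
  · intro hc
    exact IsMinimalOver.not_normal_le hmin hM (hc T) le_rfl hTM
  · intro N hN hNc
    have hS : IsSyl p ((T : Subgroup H) ⊓ N) N :=
      (isSyl_of_sylow_le T le_top).inf_normal le_top le_normalizer_of_normal
    have h1 : normalizer (((T : Subgroup H) ⊓ N : Subgroup H) : Set H) ≠ ⊤ := by
      intro h
      apply hNc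
      apply isPClosed_of_isSyl hS
      rw [h]; exact le_top
    have h2 : normalizer (((T : Subgroup H) ⊓ N : Subgroup H) : Set H) ≤ M :=
      IsMinimalOver.le_of_ne_top hmin hM hTM
        (le_normalizer_inf le_normalizer le_normalizer_of_normal) h1
    have h3 := frattini_sup (L := ⊤) le_top le_normalizer_of_normal hS
    have h4 : ¬ N ≤ M := by
      intro hNM
      apply hM.1
      rw [← top_le_iff, ← h3]
      exact sup_le hNM (inf_le_right.trans h2)
    have h5 : (T : Subgroup H) ⊔ N = ⊤ := by
      by_contra hne
      exact h4 (le_sup_right.trans (IsMinimalOver.le_of_ne_top hmin hM hTM le_sup_left hne))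
    apply pResidual_le_of_forall_pow_mem
    intro g
    exact exists_pow_mem_of_mem_sup le_normalizer_of_normal T.2 (h5 ▸ mem_top g)

end Cfsg.Agent.S2831
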