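import Cfsg.Statements.S2832
import Cfsg.Agent.Lib.Helper53Min

set_option autoImplicit false
open Cfsg

namespace Cfsg.Agent.S2832

open Subgroup Cfsg.Agent.Lib.Helper53Basic Cfsg.Agent.Lib.Helper53Rel Cfsg.Agent.Lib.Helper53Syl
open Cfsg.Agent.Lib.Helper53Comm Cfsg.Agent.Lib.Helper53Min

/-- Let H be a finite group with Sylow p-subgroup T such that H is T-minimal (generated by the conjugates of T, with T in exactly one maximal subgroup), and let N be a normal subgroup of H. Then either H/N is a p-group or H/N is minimal over the image of T in the same sense. -/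
theorem result {H : Type*} [Group H] [Finite H] {p : ℕ} [Fact p.Prime] (T : Sylow p H) (hmin : Cfsg.IsMinimalOver (T : Subgroup H)) (N : Subgroup H) [N.Normal] : IsPGroup p (H ⧸ N) ∨ Cfsg.IsMinimalOver ((T : Subgroup H).map (QuotientGroup.mk' N)) := by
  obtain ⟨M, ⟨hM, hTM⟩, huniq⟩ := hmin.2
  have hsurj := QuotientGroup.mk'_surjective N
  by_cases h5 : (T : Subgroup H) ⊔ N = ⊤
  · left
    rw [isPGroup_quotient_iff]
    intro g
    exact exists_pow_mem_of_mem_sup le_normalizer_of_normal T.2 (h5 ▸ mem_top g)
  · right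
    have hNM : N ≤ M := le_sup_right.trans (IsMinimalOver.le_of_ne_top hmin hM hTM le_sup_left h5)
    constructor
    · have := map_normalClosure ((T : Subgroup H) : Set H) (QuotientGroup.mk' N) hsurj
      rw [hmin.1, map_top_of_surjective _ hsurj] at this
      rw [this]; rfl
    · refine ⟨M.map (QuotientGroup.mk' N), ⟨isCoatom_map_mk' hM hNM, map_mono hTM⟩, ?_⟩
      rintro K ⟨hK, hTK⟩
      have h1 : K.comap (QuotientGroup.mk' N) = M :=
        huniq _ ⟨isCoatom_comap_of_surjective hsurj hK, map_le_iff_le_comap.mp hTK⟩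
      rw [← h1, map_comap_eq_self_of_surjective hsurj]

end Cfsg.Agent.S2832
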