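import Cfsg.Statements.S2833
import Cfsg.Agent.Lib.Helper53Comm

set_option autoImplicit false
open Cfsg

namespace Cfsg.Agent.S2833

open Subgroup Cfsg.Agent.Lib.Helper53Basic Cfsg.Agent.Lib.Helper53Rel Cfsg.Agent.Lib.Helper53Syl
open Cfsg.Agent.Lib.Helper53Comm
open scoped commutatorElement

/-- Let V be a subgroup of a finite group G normalized by the subgroup L, let X ≤ L and g ∈ L with [V, X, X] = 1 and L generated by X and gXg⁻¹. Put W = [V, L]. Then W = [V, X]·[V, gXg⁻¹], C_W(X) = [V, X], and C_W(L) = [V, X] ∩ [V, gXg⁻¹]. -/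
theorem result {G : Type*} [Group G] [Finite G] (V L : Subgroup G) (hLV : L ≤ Subgroup.normalizer (V : Set G)) (X : Subgroup G) (hX : X ≤ L) (g : G) (hg : g ∈ L) (hq : ⁅⁅V, X⁆, X⁆ = ⊥) (hgen : X ⊔ X.map (MulAut.conj g).toMonoidHom = L) (W : Subgroup G) (hW : W = ⁅V, L⁆) : ⁅V, X⁆ ⊔ ⁅V, X.map (MulAut.conj g).toMonoidHom⁆ = W ∧ W ⊓ Subgroup.centralizer (X : Set G) = ⁅V, X⁆ ∧ W ⊓ Subgroup.centralizer (L : Set G) = ⁅V, X⁆ ⊓ ⁅V, X.map (MulAut.conj g).toMonoidHom⁆ := by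
  subst hW
  set Xg := X.map (MulAut.conj g).toMonoidHom with hXg
  have hXgL : Xg ≤ L := cj_le_of_mem hg hX
  have hVg : V.map (MulAut.conj g).toMonoidHom = V := cj_eq_of_le_normalizer hLV hg
  have hB : ⁅V, Xg⁆ = (⁅V, X⁆).map (MulAut.conj g).toMonoidHom := by
    rw [cj_commutator, hVg]
  have hAV : ⁅V, X⁆ ≤ V := commutator_le_of_le_normalizer' (hX.trans hLV)
  have hBV : ⁅V, Xg⁆ ≤ V := commutator_le_of_le_normalizer' (hXgL.trans hLV)
  have hAc : ⁅V, X⁆ ≤ centralizer (X : Set G) := commutator_eq_bot_iff_le_centralizer.mp hq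
  have hBc : ⁅V, Xg⁆ ≤ centralizer (Xg : Set G) := by
    rw [hB, hXg, centralizer_cj]; exact cj_mono g hAc
  have h1 : ⁅V, X⁆ ⊔ ⁅V, Xg⁆ = ⁅V, L⁆ := by
    apply le_antisymm
    · exact sup_le (commutator_mono le_rfl hX) (commutator_mono le_rfl hXgL)
    · rw [← hgen]
      apply commutator_sup_le le_sup_left le_sup_right
      · exact le_normalizer_of_commutator_le_of_le le_sup_left (sup_le hAV hBV)
      · exact le_normalizer_of_commutator_le_of_le le_sup_right (sup_le hAV hBV)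
  have hcL : centralizer (X : Set G) ⊓ centralizer (Xg : Set G) ≤ centralizer (L : Set G) := by
    rw [← hgen]; exact centralizer_inf_le_centralizer_sup X Xg
  have key : ∀ b, b ∈ ⁅V, Xg⁆ → b ∈ centralizer (L : Set G) → b ∈ ⁅V, X⁆ := by
    intro b hb hbL
    rw [hB, mem_cj] at hb
    have : g * b = b * g := (mem_centralizer_iff.mp hbL) g hg
    have h2 : g⁻¹ * b * g = b := by rw [mul_assoc, ← this]; group
    rwa [h2] at hb
  have h2 : ⁅V, L⁆ ⊓ centralizer (X : Set G) = ⁅V, X⁆ := by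
    apply le_antisymm
    · intro w hw
      obtain ⟨hw1, hw2⟩ := Subgroup.mem_inf.mp hw
      rw [← h1, sup_comm, mem_sup_of_le_normalizer
        (hBV.trans (le_normalizer_commutator_self_left V X))] at hw1
      obtain ⟨b, hb, a, ha, rfl⟩ := hw1
      have hbX : b ∈ centralizer (X : Set G) := by
        have := Subgroup.mul_mem _ hw2 (Subgroup.inv_mem _ (hAc ha))
        simpa using this
      exact Subgroup.mul_mem _ (key b hb (hcL ⟨hbX, hBc hb⟩)) ha
    · exact le_inf (commutator_mono le_rfl hX) hAc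
  refine ⟨h1, h2, ?_⟩
  apply le_antisymm
  · intro z hz
    obtain ⟨hz1, hz2⟩ := Subgroup.mem_inf.mp hz
    have hzA : z ∈ ⁅V, X⁆ := by
      rw [← h2]; exact ⟨hz1, centralizer_le hX hz2⟩
    refine Subgroup.mem_inf.mpr ⟨hzA, ?_⟩
    rw [hB, mem_cj]
    have : g * z = z * g := (mem_centralizer_iff.mp hz2) g hg
    have h3 : g⁻¹ * z * g = z := by rw [mul_assoc, ← this]; group
    rwa [h3]
  · intro z hz
    obtain ⟨hz1, hz2⟩ := Subgroup.mem_inf.mp hz
    exact Subgroup.mem_inf.mpr ⟨commutator_mono le_rfl hX hz1, hcL ⟨hAc hz1, hBc hz2⟩⟩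

end Cfsg.Agent.S2833
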