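import Cfsg.Statements.S2834
import Cfsg.Agent.Lib.Helper53LLemma

set_option autoImplicit false
open Cfsg

namespace Cfsg.Agent.S2834

open Subgroup Cfsg.Agent.Lib.Helper53Basic Cfsg.Agent.Lib.Helper53Rel Cfsg.Agent.Lib.Helper53Syl
open Cfsg.Agent.Lib.Helper53Min Cfsg.Agent.Lib.Helper53LLemma

/-- The L-Lemma: let H be a finite group with Sylow p-subgroup T such that H is T-minimal (generated by the conjugates of T, T in exactly one maximal subgroup M), and let A ≤ T with A not contained in O_p(H). Then there is a subgroup L of H containing A·O_p(H) such that (a) A·O_p(L) lies in exactly one maximal subgroup L₀ of L, and L₀ = L ∩ gMg⁻¹ for some g ∈ H; (b) L = ⟨A, xAx⁻¹⟩·O_p(L) for every x ∈ L outside L₀. -/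
theorem result {H : Type*} [Group H] [Finite H] {p : ℕ} [Fact p.Prime] (T : Sylow p H) (hmin : Cfsg.IsMinimalOver (T : Subgroup H)) (M : Subgroup H) (hM : IsCoatom M ∧ (T : Subgroup H) ≤ M) (A : Subgroup H) (hAT : A ≤ (T : Subgroup H)) (hA : ¬ A ≤ Cfsg.pCore p H) : ∃ L : Subgroup H, A ⊔ Cfsg.pCore p H ≤ L ∧ ∃ L₀ : Subgroup H, A ⊔ (Cfsg.pCoreOf p L) ≤ L₀ ∧ L₀ < L ∧ (∀ X : Subgroup H, A ⊔ (Cfsg.pCoreOf p L) ≤ X → X < L → X ≤ L₀) ∧ (∃ g : H, L₀ = L ⊓ ((M : Subgroup H).map (MulAut.conj (g : H)).toMonoidHom)) ∧ ∀ x ∈ L, x ∉ L₀ → (A ⊔ ((A : Subgroup H).map (MulAut.conj (x : H)).toMonoidHom)) ⊔ (Cfsg.pCoreOf p L) = L := by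
  have hs : MinSet p (⊤ : Subgroup H) (T : Subgroup H) M := by
    refine ⟨isSyl_of_sylow_le T le_top, hM.2, hM.1.lt_top, ?_, ?_⟩
    · intro X hX hlt
      exact IsMinimalOver.le_of_ne_top hmin hM.1 hM.2 hX hlt.ne
    · intro hn
      have hMn : M.Normal := normalizer_eq_top_iff.mp (top_le_iff.mp hn)
      exact IsMinimalOver.not_normal_le hmin hM.1 hMn hM.2 le_rfl
  obtain ⟨L, -, hAL, L₀, hAL₀, hlt, hu, ⟨g, -, hL₀⟩, hb⟩ :=
    main_aux ⊤ T M A hs le_top (T.2.to_le hAT) (by rw [pCoreOf_top]; exact hA)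
  rw [pCoreOf_top] at hAL
  exact ⟨L, hAL, L₀, hAL₀, hlt, hu, ⟨g, hL₀⟩, hb⟩

end Cfsg.Agent.S2834
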