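import Cfsg.Statements.S2835
import Cfsg.Agent.Lib.Helper53Min

set_option autoImplicit false
open Cfsg

namespace Cfsg.Agent.S2835

open Subgroup Cfsg.Agent.Lib.Helper53Basic Cfsg.Agent.Lib.Helper53Rel Cfsg.Agent.Lib.Helper53Syl
open Cfsg.Agent.Lib.Helper53Comm Cfsg.Agent.Lib.Helper53Min

/-- Let L be a finite group, L₀ a maximal subgroup, T a Sylow p-subgroup of L₀ and Y ≤ T, and suppose L is Y-minimal (generated by the conjugates of Y, with Y in exactly one maximal subgroup, necessarily L₀). Then N_L(T) ≤ L₀, O_p(L) ≤ L₀ and T is a Sylow p-subgroup of L; N_L(L₀) = L₀; L = ⟨Y, gYg⁻¹⟩ for each g ∈ L outside L₀; and if Y is abelian then Y ∩ gYg⁻¹ = C_Y(L) for each such g. -/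
theorem result {L : Type*} [Group L] [Finite L] {p : ℕ} [Fact p.Prime] (L₀ : Subgroup L) (hL₀ : IsCoatom L₀) (T : Sylow p ↥L₀) (Y : Subgroup L) (hYT : Y ≤ (T : Subgroup ↥L₀).map L₀.subtype) (hmin : Cfsg.IsMinimalOver Y) : Subgroup.normalizer (((T : Subgroup ↥L₀).map L₀.subtype : Subgroup L) : Set L) ≤ L₀ ∧ Cfsg.pCore p L ≤ L₀ ∧ (∃ P : Sylow p L, (P : Subgroup L) = (T : Subgroup ↥L₀).map L₀.subtype) ∧ Subgroup.normalizer (L₀ : Set L) = L₀ ∧ (∀ g : L, g ∉ L₀ → Y ⊔ Y.map (MulAut.conj g).toMonoidHom = ⊤) ∧ (IsMulCommutative ↥Y → ∀ g : L, g ∉ L₀ → Y ⊓ Y.map (MulAut.conj g).toMonoidHom = Y ⊓ Subgroup.center L) := by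
  set T' : Subgroup L := (T : Subgroup ↥L₀).map L₀.subtype with hT'
  have hTs : IsSyl p T' L₀ := isSyl_of_sylow T
  have hYL₀ : Y ≤ L₀ := hYT.trans hTs.le
  have h1 : normalizer (T' : Set L) ≤ L₀ := by
    apply IsMinimalOver.le_of_ne_top hmin hL₀ hYL₀ (hYT.trans le_normalizer)
    intro h
    exact IsMinimalOver.not_normal_le hmin hL₀ (normalizer_eq_top_iff.mp h) hYT hTs.le
  have h3 : ∃ P : Sylow p L, (P : Subgroup L) = T' := by
    obtain ⟨P, hP⟩ := hTs.isPGroup.exists_le_sylow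
    refine ⟨P, ?_⟩
    by_contra hne
    have hlt : T' < (P : Subgroup L) := lt_of_le_of_ne hP (Ne.symm hne)
    have h4 := isPGroup_lt_normalizer_inf P.2 hlt
    have h5 := hTs.eq_of_le (P.2.to_inf_left (K := normalizer (T' : Set L)))
      (inf_le_right.trans h1) h4.le
    exact h4.ne h5.symm
  have h4 : normalizer (L₀ : Set L) = L₀ := by
    by_contra hne
    have hlt : L₀ < normalizer (L₀ : Set L) := lt_of_le_of_ne le_normalizer (Ne.symm hne)
    exact IsMinimalOver.not_normal_le hmin hL₀ (normalizer_eq_top_iff.mp (hL₀.2 _ hlt)) hYL₀ le_rfl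
  have h5 : ∀ g : L, g ∉ L₀ → Y ⊔ Y.map (MulAut.conj g).toMonoidHom = ⊤ := by
    intro g hg
    by_contra hne
    have h6 := IsMinimalOver.le_of_ne_top hmin hL₀ hYL₀ le_sup_left hne
    have h7 : Y ≤ L₀.map (MulAut.conj g⁻¹).toMonoidHom := cj_le_iff.mp (le_sup_right.trans h6)
    obtain ⟨M, -, huniq⟩ := hmin.2
    have h8 : L₀.map (MulAut.conj g⁻¹).toMonoidHom = L₀ :=
      (huniq _ ⟨isCoatom_cj hL₀ g⁻¹, h7⟩).trans (huniq _ ⟨hL₀, hYL₀⟩).symm
    have h9 : g⁻¹ ∈ L₀ := by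
      rw [← h4]; exact cj_eq_iff_mem_normalizer.mp h8
    exact hg (by simpa using L₀.inv_mem h9)
  refine ⟨h1, ?_, h3, h4, h5, ?_⟩
  · obtain ⟨P, hP⟩ := h3
    exact ((pCore_le_sylow P).trans hP.le).trans hTs.le
  · intro hc g hg
    apply le_antisymm
    · intro z hz
      obtain ⟨hz1, hz2⟩ := Subgroup.mem_inf.mp hz
      refine Subgroup.mem_inf.mpr ⟨hz1, ?_⟩
      have h6 : Y ⊔ Y.map (MulAut.conj g).toMonoidHom ≤ centralizer ({z} : Set L) := by
        apply sup_le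
        · intro y hy
          rw [mem_centralizer_singleton_iff]
          have := hc.is_comm.comm ⟨y, hy⟩ ⟨z, hz1⟩
          exact congrArg Subtype.val this
        · intro y hy
          rw [mem_centralizer_singleton_iff]
          rw [mem_cj] at hy hz2
          have := hc.is_comm.comm ⟨_, hy⟩ ⟨_, hz2⟩
          have h7 : (g⁻¹ * y * g) * (g⁻¹ * z * g) = (g⁻¹ * z * g) * (g⁻¹ * y * g) :=
            congrArg Subtype.val this
          calc y * z = g * ((g⁻¹ * y * g) * (g⁻¹ * z * g)) * g⁻¹ := by group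
            _ = g * ((g⁻¹ * z * g) * (g⁻¹ * y * g)) * g⁻¹ := by rw [h7]
            _ = z * y := by group
      rw [h5 g hg] at h6
      rw [mem_center_iff]
      intro x
      have := mem_centralizer_singleton_iff.mp (h6 (mem_top x))
      exact this
    · intro z hz
      obtain ⟨hz1, hz2⟩ := Subgroup.mem_inf.mp hz
      refine Subgroup.mem_inf.mpr ⟨hz1, ?_⟩
      rw [mem_cj]
      have : g * z = z * g := mem_center_iff.mp hz2 g
      have h3 : g⁻¹ * z * g = z := by rw [mul_assoc, ← this]; group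
      rwa [h3]

end Cfsg.Agent.S2835
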