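import Cfsg.Statements.S2836
import Cfsg.Agent.Lib.Helper53Idx
import Cfsg.Agent.S2835

set_option autoImplicit false
open Cfsg

namespace Cfsg.Agent.S2836

open Subgroup Cfsg.Agent.Lib.Helper53Basic Cfsg.Agent.Lib.Helper53Rel Cfsg.Agent.Lib.Helper53Syl
open Cfsg.Agent.Lib.Helper53Comm Cfsg.Agent.Lib.Helper53Min Cfsg.Agent.Lib.Helper53Idx

local notation "⟪" Q ", " g "⟫" => Subgroup.map (MulEquiv.toMonoidHom (MulAut.conj g)) Q

/-- a subgroup `M` with `N ⊔ M = ⊤`, `N ≤ L₀` normal, containing a Sylow subgroup of `N`, and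
which is a normalizer, is everything. -/
theorem key {L : Type*} [Group L] [Finite L] {p : ℕ} [Fact p.Prime] {L₀ Y : Subgroup L}
    (hL₀ : IsCoatom L₀) (hYL₀ : Y ≤ L₀) (hmin : Cfsg.IsMinimalOver Y) (P : Sylow p L)
    (hYP : Y ≤ (P : Subgroup L)) {N M O : Subgroup L} [N.Normal] (hN : N ≤ L₀)
    (h : N ⊔ M = ⊤) (hO : IsSyl p O N) (hOM : O ≤ M) : M = ⊤ := by
  obtain ⟨x, hx⟩ := exists_cj_le_of_sup_eq_top h hO hOM P
  have h1 : Y ≤ ⟪M, x⁻¹⟫ := hYP.trans (cj_le_iff.mp hx)
  have h2 : N ⊔ ⟪M, x⁻¹⟫ = ⊤ := by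
    have h3 : ⟪N, x⁻¹⟫ = N := cj_eq_of_le_normalizer (K := ⊤) le_normalizer_of_normal (mem_top _)
    rw [← h3, ← cj_sup, h, ← top_le_iff]
    intro y _
    rw [mem_cj]; exact mem_top _
  have h4 : ⟪M, x⁻¹⟫ = ⊤ := by
    by_contra hne
    have h5 := IsMinimalOver.le_of_ne_top hmin hL₀ hYL₀ h1 hne
    exact hL₀.1 (top_le_iff.mp (h2 ▸ sup_le hN h5))
  have h6 := congrArg (fun A => ⟪A, x⟫) h4
  simp only [cj_cj_inv] at h6
  rw [h6, ← top_le_iff]
  intro y _
  rw [mem_cj]; exact mem_top _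

/-- Let L be a finite group, L₀ a maximal subgroup, T a Sylow p-subgroup of L₀, Y ≤ T, and suppose L is Y-minimal. Let D be the intersection of the conjugates of L₀ (the core of L₀). Then D contains O_p(L) and D/O_p(L) is the Frattini subgroup of L/O_p(L), so D is p-closed; and every normal subgroup N of L contained in L₀ is p-closed with N/O_p(N) a nilpotent group of order prime to p. -/
theorem result {L : Type*} [Group L] [Finite L] {p : ℕ} [Fact p.Prime] (L₀ : Subgroup L) (hL₀ : IsCoatom L₀) (T : Sylow p ↥L₀) (Y : Subgroup L) (hYT : Y ≤ (T : Subgroup ↥L₀).map L₀.subtype) (hmin : Cfsg.IsMinimalOver Y) : (Cfsg.pCore p L ≤ L₀.normalCore ∧ (L₀.normalCore).map (QuotientGroup.mk' (Cfsg.pCore p L)) = frattini (L ⧸ Cfsg.pCore p L) ∧ Cfsg.IsPClosed p ↥(L₀.normalCore)) ∧ ∀ (N : Subgroup L) [N.Normal], N ≤ L₀ → Cfsg.IsPClosed p ↥N ∧ Group.IsNilpotent (↥N ⧸ Cfsg.pCore p ↥N) ∧ (Nat.card (↥N ⧸ Cfsg.pCore p ↥N)).Coprime p := by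
  obtain ⟨-, hOpL₀, ⟨P, hP⟩, -, -, -⟩ := Cfsg.Agent.S2835.result L₀ hL₀ T Y hYT hmin
  have hYP : Y ≤ (P : Subgroup L) := hP ▸ hYT
  have hPL₀ : (P : Subgroup L) ≤ L₀ := hP ▸ map_subtype_le _
  have hYL₀ : Y ≤ L₀ := hYP.trans hPL₀
  have hII : ∀ (N : Subgroup L) [N.Normal], N ≤ L₀ → Cfsg.IsPClosed p ↥N ∧
      Group.IsNilpotent (↥N ⧸ Cfsg.pCore p ↥N) ∧ (Nat.card (↥N ⧸ Cfsg.pCore p ↥N)).Coprime p := by
    intro N _ hN
    have hS : IsSyl p ((P : Subgroup L) ⊓ N) N :=
      (isSyl_of_sylow_le P le_top).inf_normal le_top le_normalizer_of_normal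
    have hSn : normalizer ((((P : Subgroup L) ⊓ N : Subgroup L)) : Set L) = ⊤ := by
      apply key hL₀ hYL₀ hmin P hYP hN _ hS le_normalizer
      have := frattini_sup (L := ⊤) le_top le_normalizer_of_normal hS
      rwa [top_inf_eq] at this
    have hcl : Cfsg.IsPClosed p ↥N := isPClosed_of_isSyl hS (hSn ▸ le_top)
    have hO : IsSyl p (pCoreOf p N) N := (isPClosed_iff N).mp hcl
    have hOn : (pCoreOf p N).Normal := by
      rw [← normalizer_eq_top_iff, ← top_le_iff]
      exact le_trans (by rw [normalizer_eq_top]) (normalizer_le_normalizer_pCoreOf N)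
    refine ⟨hcl, ?_, ?_⟩
    · have q := (Group.isNilpotent_of_finite_tfae (G := ↥N ⧸ Cfsg.pCore p ↥N)).out 0 3
      rw [q]
      intro q' hq' Qb
      obtain ⟨Q₁, rfl⟩ := Sylow.mapSurjective_surjective
        (QuotientGroup.mk'_surjective (Cfsg.pCore p ↥N)) q' Qb
      rw [Sylow.coe_mapSurjective]
      have hQ₁ : IsSyl q' ((Q₁ : Subgroup N).map N.subtype) N := isSyl_of_sylow Q₁
      set K := pCoreOf p N ⊔ (Q₁ : Subgroup N).map N.subtype with hK
      have hKn : normalizer (K : Set L) = ⊤ := by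
        apply key hL₀ hYL₀ hmin P hYP hN _ hO (le_sup_left.trans le_normalizer)
        have h1 := frattini_sup (L := ⊤) le_top le_normalizer_of_normal hQ₁
        rw [top_inf_eq] at h1
        rw [← top_le_iff, ← h1]
        exact sup_le_sup_left (le_normalizer_sup le_normalizer_of_normal le_rfl) _
      have hKN : K ≤ N := sup_le (pCoreOf_le N) hQ₁.le
      have h2 : (K.subgroupOf N).Normal :=
        (normal_subgroupOf_iff_le_normalizer hKN).mpr (hKn ▸ le_top)
      have h3 : K.subgroupOf N = pCore p ↥N ⊔ (Q₁ : Subgroup N) := by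
        rw [hK, subgroupOf_sup (pCoreOf_le N) hQ₁.le, subgroupOf_pCoreOf, subgroupOf_map_subtype']
      have h4 : (Q₁ : Subgroup N).map (QuotientGroup.mk' (Cfsg.pCore p ↥N)) =
          (K.subgroupOf N).map (QuotientGroup.mk' (Cfsg.pCore p ↥N)) := by
        rw [h3, Subgroup.map_sup]
        have : (pCore p ↥N).map (QuotientGroup.mk' (Cfsg.pCore p ↥N)) = ⊥ := by
          rw [← le_bot_iff, map_le_iff_le_comap, MonoidHom.comap_bot, QuotientGroup.ker_mk']
        rw [this, bot_sup_eq]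
      rw [h4]
      exact h2.map _ (QuotientGroup.mk'_surjective _)
    · rw [← index_eq_card, ← subgroupOf_pCoreOf]
      have hp : p.Prime := Fact.out
      exact ((Nat.Prime.coprime_iff_not_dvd hp).mpr hO.2.2).symm
  refine ⟨⟨normal_le_normalCore.mpr hOpL₀, ?_, (hII L₀.normalCore (normalCore_le L₀)).1⟩, hII⟩
  have hsurj := QuotientGroup.mk'_surjective (Cfsg.pCore p L)
  set D := L₀.normalCore with hD
  apply le_antisymm
  · unfold _root_.frattini Order.radical
    apply le_iInf₂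
    intro Kb hKb
    rw [map_le_iff_le_comap]
    set K := Kb.comap (QuotientGroup.mk' (Cfsg.pCore p L)) with hK
    have hKc : IsCoatom K := isCoatom_comap_of_surjective hsurj hKb
    have hOpK : pCore p L ≤ K := by
      rw [hK, ← map_le_iff_le_comap]
      have : (pCore p L).map (QuotientGroup.mk' (Cfsg.pCore p L)) = ⊥ := by
        rw [← le_bot_iff, map_le_iff_le_comap, MonoidHom.comap_bot, QuotientGroup.ker_mk']
      rw [this]; exact bot_le
    by_contra hDK
    have h1 : D ⊔ K = ⊤ := hKc.2 _ (lt_of_le_of_ne le_sup_right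
      (fun he => hDK (he ▸ le_sup_left)))
    have hO : IsSyl p (pCoreOf p D) D := (isPClosed_iff D).mp (hII D (normalCore_le L₀)).1
    have h2 : pCoreOf p D ≤ K := by
      have h3 := pCoreOf_le_of_normal (p := p) (N := D) (L := ⊤) le_top le_normalizer_of_normal
      rw [pCoreOf_top] at h3
      exact h3.trans hOpK
    exact hKc.1 (key hL₀ hYL₀ hmin P hYP (normalCore_le L₀) h1 hO h2)
  · have h1 : _root_.frattini (L ⧸ Cfsg.pCore p L) ≤ L₀.map (QuotientGroup.mk' (Cfsg.pCore p L)) :=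
      frattini_le_coatom (isCoatom_map_mk' hL₀ hOpL₀)
    have h2 : (_root_.frattini (L ⧸ Cfsg.pCore p L)).comap (QuotientGroup.mk' (Cfsg.pCore p L)) ≤ L₀ := by
      have := comap_mono (f := QuotientGroup.mk' (Cfsg.pCore p L)) h1
      rwa [comap_map_eq, QuotientGroup.ker_mk', sup_eq_left.mpr hOpL₀] at this
    have h3 : (_root_.frattini (L ⧸ Cfsg.pCore p L)).comap (QuotientGroup.mk' (Cfsg.pCore p L)) ≤ D :=
      normal_le_normalCore.mpr h2
    have h4 := Subgroup.map_mono (f := QuotientGroup.mk' (Cfsg.pCore p L)) h3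
    rwa [map_comap_eq_self_of_surjective hsurj] at h4

end Cfsg.Agent.S2836
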