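import Cfsg.Statements.S2837
import Cfsg.Agent.Lib.Helper53Min
import Cfsg.Agent.Lib.Helper53Comm
import Cfsg.Agent.Lib.Helper13Frattini
import Cfsg.Agent.Lib.Helper52Basic

set_option autoImplicit false
open Cfsg

namespace Cfsg.Agent.S2837

open Subgroup Cfsg.Agent.Lib.Helper53Basic Cfsg.Agent.Lib.Helper53Rel
open Cfsg.Agent.Lib.Helper53Min Cfsg.Agent.Lib.Helper53Comm
open scoped commutatorElement

local notation "⟪" Q ", " g "⟫" => Subgroup.map (MulEquiv.toMonoidHom (MulAut.conj g)) Q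

theorem sup_cj_eq_top {L : Type*} [Group L] [Finite L] {L₀ Y : Subgroup L} (hL₀ : IsCoatom L₀)
    (hYL₀ : Y ≤ L₀) (hmin : Cfsg.IsMinimalOver Y) {g : L} (hg : g ∉ L₀) : Y ⊔ ⟪Y, g⟫ = ⊤ := by
  by_contra hK
  have h1 : Y ⊔ ⟪Y, g⟫ ≤ L₀ := IsMinimalOver.le_of_ne_top hmin hL₀ hYL₀ le_sup_left hK
  have h2 : Y ≤ ⟪L₀, g⁻¹⟫ := cj_le_iff.mp (le_sup_right.trans h1)
  obtain ⟨M', -, huniq⟩ := hmin.2
  have h3 : ⟪L₀, g⁻¹⟫ = L₀ :=
    (huniq _ ⟨isCoatom_cj hL₀ _, h2⟩).trans (huniq _ ⟨hL₀, hYL₀⟩).symm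
  have h4 : g⁻¹ ∈ normalizer (L₀ : Set L) := cj_eq_iff_mem_normalizer.mp h3
  rcases hL₀.le_iff.mp (le_normalizer (H := L₀)) with h5 | h5
  · exact IsMinimalOver.not_normal_le hmin hL₀ (normalizer_eq_top_iff.mp h5) hYL₀ (le_refl _)
  · rw [h5] at h4
    exact hg (by simpa using L₀.inv_mem h4)

theorem pow_mem_commutator {P : Type*} [Group P] {n : ℕ} {B C : Subgroup P} (h : B ⊔ C = ⊤)
    (hB : ∀ b ∈ B, b ^ n = 1) (hC : ∀ c ∈ C, c ^ n = 1) (a : P) : a ^ n ∈ _root_.commutator P := by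
  let φ : P →* Abelianization P := (powMonoidHom n).comp Abelianization.of
  have h1 : B ⊔ C ≤ φ.ker := by
    apply sup_le
    · intro b hb
      rw [MonoidHom.mem_ker]
      show (Abelianization.of b) ^ n = 1
      rw [← map_pow, hB b hb, map_one]
    · intro b hb
      rw [MonoidHom.mem_ker]
      show (Abelianization.of b) ^ n = 1
      rw [← map_pow, hC b hb, map_one]
  rw [h] at h1
  have h2 : φ a = 1 := h1 (mem_top a)
  have h3 : Abelianization.of (a ^ n) = 1 := by rw [map_pow]; exact h2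
  rwa [← MonoidHom.mem_ker, Abelianization.ker_of] at h3

/-- Let L be a finite group of characteristic p, L₀ a maximal subgroup, Y an elementary abelian p-subgroup of L₀ with L Y-minimal and O_p(L) ≤ N_L(Y). Put A = the normal closure of O_p(L) ∩ Y in L. Then for every g ∈ L outside L₀: Φ(A) = A' = [A ∩ Y, A] = [A ∩ Y, A ∩ gYg⁻¹] ≤ C_Y(L), and Y ∩ gYg⁻¹ = (A ∩ Y) ∩ (A ∩ gYg⁻¹) = C_Y(L) = C_A(L). -/
theorem result {L : Type*} [Group L] [Finite L] {p : ℕ} [Fact p.Prime] (hchar : Subgroup.centralizer (Cfsg.pCore p L : Set L) ≤ Cfsg.pCore p L) (L₀ : Subgroup L) (hL₀ : IsCoatom L₀) (Y : Subgroup L) (hYL₀ : Y ≤ L₀) (hYel : Cfsg.IsElementaryAbelian p Y) (hmin : Cfsg.IsMinimalOver Y) (hOY : Cfsg.pCore p L ≤ Subgroup.normalizer (Y : Set L)) (A : Subgroup L) (hA : A = Subgroup.normalClosure (((Cfsg.pCore p L ⊓ Y : Subgroup L)) : Set L)) (g : L) (hg : g ∉ L₀) : (frattini ↥A).map A.subtype = ⁅A, A⁆ ∧ ⁅A, A⁆ = ⁅A ⊓ Y, A⁆ ∧ ⁅A ⊓ Y, A⁆ = ⁅A ⊓ Y, A ⊓ Y.map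 (MulAut.conj g).toMonoidHom⁆ ∧ ⁅A ⊓ Y, A⁆ ≤ Y ⊓ Subgroup.center L ∧ Y ⊓ Y.map (MulAut.conj g).toMonoidHom = Y ⊓ Subgroup.center L ∧ (A ⊓ Y) ⊓ (A ⊓ Y.map (MulAut.conj g).toMonoidHom) = Y ⊓ Subgroup.center L ∧ A ⊓ Subgroup.center L = Y ⊓ Subgroup.center L := by
  set O := Cfsg.pCore p L with hO
  set Yg := ⟪Y, g⟫ with hYg
  set Z := Subgroup.center L with hZ
  have hOn : O.Normal := inferInstance
  have hOp : IsPGroup p O := pCore_isPGroup p L
  have hYc : ∀ a ∈ Y, ∀ b ∈ Y, a * b = b * a := by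
    intro a ha b hb
    have := hYel.1.is_comm.comm ⟨a, ha⟩ ⟨b, hb⟩
    exact congrArg Subtype.val this
  have hYgc : ∀ a ∈ Yg, ∀ b ∈ Yg, a * b = b * a := by
    intro a ha b hb
    rw [hYg, mem_cj] at ha hb
    have := hYc _ ha _ hb
    have h1 : a * b = g * ((g⁻¹ * a * g) * (g⁻¹ * b * g)) * g⁻¹ := by group
    rw [h1, this]; group
  have hgen : Y ⊔ Yg = ⊤ := sup_cj_eq_top hL₀ hYL₀ hmin hg
  have hZO : Z ≤ O := (center_le_centralizer _).trans hchar
  have hcen : ∀ x, (∀ y ∈ Y, x * y = y * x) → (∀ y ∈ Yg, x * y = y * x) → x ∈ Z := by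
    intro x h1 h2
    have h3 : Y ⊔ Yg ≤ centralizer {x} := by
      apply sup_le
      · intro y hy; rw [mem_centralizer_singleton_iff]; exact (h1 y hy).symm
      · intro y hy; rw [mem_centralizer_singleton_iff]; exact (h2 y hy).symm
    rw [hgen] at h3
    rw [hZ, mem_center_iff]
    intro y
    exact mem_centralizer_singleton_iff.mp (h3 (mem_top y))
  have hZY : ∀ x ∈ Z, (x ∈ Y ↔ x ∈ Yg) := by
    intro x hx
    rw [hYg, mem_cj]
    have h1 : g⁻¹ * x * g = x := by
      rw [mul_assoc, ← (mem_center_iff.mp hx) g]; group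
    rw [h1]
  have h5 : Y ⊓ Yg = Y ⊓ Z := by
    apply le_antisymm
    · rintro x ⟨hx1, hx2⟩
      exact ⟨hx1, hcen x (fun y hy => hYc x hx1 y hy) (fun y hy => hYgc x hx2 y hy)⟩
    · rintro x ⟨hx1, hx2⟩
      exact ⟨hx1, (hZY x hx2).mp hx1⟩
  set B := O ⊓ Y with hB
  set Bg := O ⊓ Yg with hBg
  have hAn : A.Normal := by rw [hA]; exact normalClosure_normal
  have hAO : A ≤ O := by rw [hA]; exact normalClosure_le_normal (SetLike.coe_subset_coe.mpr inf_le_left)
  have hBA : B ≤ A := by rw [hA]; exact subset_normalClosure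
  have hOg : ⟪O, g⟫ = O := cj_eq_iff_mem_normalizer.mpr (by rw [normalizer_eq_top]; exact mem_top g)
  have hAg : ⟪A, g⟫ = A := cj_eq_iff_mem_normalizer.mpr (by rw [normalizer_eq_top]; exact mem_top g)
  have hBgeq : Bg = ⟪B, g⟫ := by rw [hB, cj_inf, hOg]
  have hBgA : Bg ≤ A := by rw [hBgeq, ← hAg]; exact cj_mono g hBA
  have hAY : A ⊓ Y = B := le_antisymm (inf_le_inf_right _ hAO) (le_inf hBA inf_le_right)
  have hAYg : A ⊓ Yg = Bg := le_antisymm (inf_le_inf_right _ hAO) (le_inf hBgA inf_le_right)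
  have hOYg : O ≤ normalizer (Yg : Set L) := by
    rw [hYg, normalizer_cj, ← hOg]; exact cj_mono g hOY
  have hOO : ∀ K : Subgroup L, K ≤ normalizer (O : Set L) := by
    intro K; rw [normalizer_eq_top]; exact le_top
  have hOB : O ≤ normalizer (B : Set L) := le_normalizer_inf (hOO O) hOY
  have hOBg : O ≤ normalizer (Bg : Set L) := le_normalizer_inf (hOO O) hOYg
  have hcY : ⁅O, Y⁆ ≤ B := le_inf (commutator_le_of_le_normalizer' (hOO Y)) (commutator_le_of_le_normalizer hOY)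
  have hcYg : ⁅O, Yg⁆ ≤ Bg := le_inf (commutator_le_of_le_normalizer' (hOO Yg)) (commutator_le_of_le_normalizer hOYg)
  -- `A = B Bg`
  have hE : A = B ⊔ Bg := by
    apply le_antisymm _ (sup_le hBA hBgA)
    have h1 : Y ≤ normalizer ((B ⊔ Bg : Subgroup L) : Set L) := by
      apply le_normalizer_of_commutator_le
      rw [commutator_comm]
      exact (commutator_mono (sup_le inf_le_left inf_le_left) (le_refl Y)).trans (hcY.trans le_sup_left)
    have h2 : Yg ≤ normalizer ((B ⊔ Bg : Subgroup L) : Set L) := by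
      apply le_normalizer_of_commutator_le
      rw [commutator_comm]
      exact (commutator_mono (sup_le inf_le_left inf_le_left) (le_refl Yg)).trans (hcYg.trans le_sup_right)
    have h3 : (B ⊔ Bg).Normal := by
      rw [← normalizer_eq_top_iff, ← top_le_iff, ← hgen]
      exact sup_le h1 h2
    rw [hA]
    exact normalClosure_le_normal (SetLike.coe_subset_coe.mpr le_sup_left)
  have hC : ⁅B, Bg⁆ ≤ Y ⊓ Z := by
    rw [← h5]
    apply le_inf
    · exact ((commutator_le_of_le_normalizer' (inf_le_left.trans hOB))).trans inf_le_right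
    · exact ((commutator_le_of_le_normalizer (inf_le_left.trans hOBg))).trans inf_le_right
  have hCn : ∀ K : Subgroup L, K ≤ normalizer ((⁅B, Bg⁆ : Subgroup L) : Set L) := by
    intro K
    rw [le_normalizer_iff]
    intro k _ c hc
    have h1 : c ∈ Z := (hC hc).2
    rw [(mem_center_iff.mp h1) k]
    simpa using hc
  have hBB : ⁅B, B⁆ ≤ ⁅B, Bg⁆ := by
    have : ⁅B, B⁆ = ⊥ := by
      rw [commutator_eq_bot_iff_le_centralizer]
      intro b hb
      rw [mem_centralizer_iff]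
      intro c hc
      exact hYc c hc.2 b hb.2
    rw [this]; exact bot_le
  have hBgBg : ⁅Bg, Bg⁆ ≤ ⁅B, Bg⁆ := by
    have : ⁅Bg, Bg⁆ = ⊥ := by
      rw [commutator_eq_bot_iff_le_centralizer]
      intro b hb
      rw [mem_centralizer_iff]
      intro c hc
      exact hYgc c hc.2 b hb.2
    rw [this]; exact bot_le
  have hAA : ⁅A, A⁆ = ⁅B, Bg⁆ := by
    apply le_antisymm _ (commutator_mono hBA hBgA)
    conv_lhs => rw [hE]
    apply commutator_sup_le _ _ (hCn _) (hCn _)
    · rw [commutator_comm]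
      exact commutator_sup_le hBB (le_refl _) (hCn _) (hCn _)
    · rw [commutator_comm]
      apply commutator_sup_le _ hBgBg (hCn _) (hCn _)
      rw [commutator_comm]
  have hBAc : ⁅B, A⁆ = ⁅B, Bg⁆ :=
    le_antisymm ((commutator_mono hBA (le_refl _)).trans hAA.le) (commutator_mono (le_refl _) hBgA)
  have hYZA : Y ⊓ Z ≤ A := (le_inf (inf_le_right.trans hZO) inf_le_left).trans hBA
  rw [hAY, hAYg]
  refine ⟨?_, by rw [hAA, hBAc], hBAc, hBAc.le.trans hC, h5, ?_, ?_⟩
  · -- Frattini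
    have hAp : IsPGroup p A := hOp.to_le hAO
    have hnil : Group.IsNilpotent ↥A := hAp.isNilpotent
    have hm : (_root_.commutator ↥A).map A.subtype = ⁅A, A⁆ := by
      rw [_root_.commutator_def, map_commutator, ← MonoidHom.range_eq_map, range_subtype]
    rw [← hm]
    congr 1
    apply le_antisymm _ Cfsg.Agent.Lib.Helper13Frattini.commutator_le_frattini_of_nilpotent
    apply Cfsg.Agent.Lib.Helper52Basic.frattini_le_of_elem (p := p)
    · intro a b
      rw [_root_.commutator_def]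
      exact commutator_mem_commutator (mem_top a) (mem_top b)
    · apply pow_mem_commutator (B := B.subgroupOf A) (C := Bg.subgroupOf A)
      · rw [← subgroupOf_sup hBA hBgA, ← hE, subgroupOf_self]
      · intro b hb
        exact Subtype.ext (hYel.2 _ (mem_subgroupOf.mp hb).2)
      · intro b hb
        have h1 : (b : L) ∈ Yg := (mem_subgroupOf.mp hb).2
        rw [hYg, mem_cj] at h1
        have h2 := hYel.2 _ h1
        apply Subtype.ext
        have h3 : ((b : L)) ^ p = g * (g⁻¹ * (b : L) * g) ^ p * g⁻¹ := by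
          rw [← conj_pow]; group
        show ((b : L)) ^ p = 1
        rw [h3, h2]; group
  · apply le_antisymm
    · rw [← h5]; exact inf_le_inf inf_le_right inf_le_right
    · rw [← h5]
      have : Y ⊓ Yg ≤ O := by rw [h5]; exact inf_le_right.trans hZO
      exact le_inf (le_inf this inf_le_left) (le_inf this inf_le_right)
  · apply le_antisymm _ (le_inf hYZA inf_le_right)
    rintro z ⟨hzA, hzZ⟩
    refine ⟨?_, hzZ⟩
    replace hzA : z ∈ A := hzA
    replace hzZ : z ∈ Z := hzZ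
    show z ∈ Y
    rw [hE, mem_sup_of_le_normalizer (inf_le_left.trans hOBg)] at hzA
    obtain ⟨b, hb, c, hc, rfl⟩ := hzA
    have hcZ : c ∈ Z := by
      apply hcen c _ (fun y hy => hYgc c hc.2 y hy)
      intro y hy
      have h1 := (mem_center_iff.mp hzZ) y
      have h2 := hYc b hb.2 y hy
      have h3 : b * (c * y) = b * (y * c) := by
        calc b * (c * y) = b * c * y := by group
          _ = y * (b * c) := h1.symm
          _ = (y * b) * c := by group
          _ = (b * y) * c := by rw [h2]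
          _ = b * (y * c) := by group
      exact mul_left_cancel h3
    exact Y.mul_mem hb.2 ((hZY c hcZ).mpr hc.2)

end Cfsg.Agent.S2837
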