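import Cfsg.Statements.S2838
import Cfsg.Agent.Lib.Helper53WC

set_option autoImplicit false
open Cfsg

namespace Cfsg.Agent.S2838

open Subgroup Cfsg.Agent.Lib.Helper53Basic Cfsg.Agent.Lib.Helper53Rel Cfsg.Agent.Lib.Helper53Syl
open Cfsg.Agent.Lib.Helper53Comm Cfsg.Agent.Lib.Helper53Min Cfsg.Agent.Lib.Helper53WC
open scoped commutatorElement

local notation "⟪" Q ", " g "⟫" => Subgroup.map (MulEquiv.toMonoidHom (MulAut.conj g)) Q

theorem normal_in_pgroup {H : Type*} [Group H] [Finite H] {p : ℕ} [Fact p.Prime] {Q : Subgroup H}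
    (h : ∀ g : H, ⁅Q, ⟪Q, g⟫⁆ ≤ Q ⊓ ⟪Q, g⟫ → ⟪Q, g⟫ = Q) {R : Subgroup H} (hR : IsPGroup p R)
    (hQR : Q ≤ R) : R ≤ normalizer (Q : Set H) := by
  by_contra hne
  set N := R ⊓ normalizer (Q : Set H) with hN
  have hlt : N < R := lt_of_le_of_ne inf_le_left (fun he => hne (he ▸ inf_le_right))
  have h2 := isPGroup_lt_normalizer_inf hR hlt
  obtain ⟨x, hx1, hx2⟩ := SetLike.exists_of_lt h2
  obtain ⟨hxR, hxN⟩ := Subgroup.mem_inf.mp hx1
  have hNx : ⟪N, x⟫ = N := cj_eq_iff_mem_normalizer.mpr hxN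
  have hQN : Q ≤ N := le_inf hQR le_normalizer
  have h3 : ⟪Q, x⟫ ≤ N := by rw [← hNx]; exact cj_mono x hQN
  have h4 : N ≤ normalizer (⟪Q, x⟫ : Set H) := by
    rw [normalizer_cj, ← hNx]; exact cj_mono x inf_le_right
  have h5 : ⟪Q, x⟫ = Q := by
    apply h
    apply le_inf
    · exact commutator_le_of_le_normalizer' (h3.trans inf_le_right)
    · exact commutator_le_of_le_normalizer (hQN.trans h4)
  exact hx2 ⟨hxR, cj_eq_iff_mem_normalizer.mp h5⟩

/-- For a nontrivial p-subgroup Q of a finite group H the following are equivalent: Q is a weakly closed subgroup (it is the only H-conjugate of itself inside some Sylow p-subgroup containing it); Q = P for every conjugate P of Q with [Q, P] ≤ Q ∩ P; Q is normal in N_H(R) for every p-subgroup R of H containing Q. -/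
theorem result {H : Type*} [Group H] [Finite H] {p : ℕ} [Fact p.Prime] (Q : Subgroup H) (hQp : IsPGroup p ↥Q) (hQ1 : Q ≠ ⊥) : (Cfsg.IsWeaklyClosedSubgroup p Q ↔ ∀ g : H, ⁅Q, ((Q : Subgroup H).map (MulAut.conj (g : H)).toMonoidHom)⁆ ≤ Q ⊓ ((Q : Subgroup H).map (MulAut.conj (g : H)).toMonoidHom) → ((Q : Subgroup H).map (MulAut.conj (g : H)).toMonoidHom) = Q) ∧ (Cfsg.IsWeaklyClosedSubgroup p Q ↔ ∀ R : Subgroup H, IsPGroup p ↥R → Q ≤ R → Subgroup.normalizer ((R : Subgroup H) : Set H) ≤ Subgroup.normalizer ((Q : Subgroup H) : Set H)) := by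
  rw [isWeaklyClosedSubgroup_iff hQp]
  constructor
  · constructor
    · intro h g hg
      apply h g (mem_top g)
      apply hQp.to_sup_of_normal_left' (isPGroup_cj hQp g)
      apply le_normalizer_of_commutator_le
      rw [commutator_comm]
      exact hg.trans inf_le_left
    · intro h g _ hP
      have h1 : Q ⊔ ⟪Q, g⟫ ≤ normalizer (Q : Set H) := normal_in_pgroup h hP le_sup_left
      have h2 : ⟪Q ⊔ ⟪Q, g⟫, g⁻¹⟫ ≤ normalizer (Q : Set H) := by
        apply normal_in_pgroup h (isPGroup_cj hP _)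
        rw [cj_sup, cj_inv_cj]; exact le_sup_right
      rw [cj_le_iff, inv_inv, ← normalizer_cj] at h2
      apply h
      apply le_inf
      · exact commutator_le_of_le_normalizer' (le_sup_right.trans h1)
      · exact commutator_le_of_le_normalizer (le_sup_left.trans h2)
  · constructor
    · intro h R hR hQR
      have := h.inf_normalizer_le hR hQR
      rwa [top_inf_eq] at this
    · intro h g _ hP
      obtain ⟨T, hT⟩ := hP.exists_le_sylow
      have hQT : Q ≤ (T : Subgroup H) := le_sup_left.trans hT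
      have hgT : ⟪Q, g⟫ ≤ (T : Subgroup H) := le_sup_right.trans hT
      have h1 : normalizer ((T : Subgroup H) : Set H) ≤ normalizer (Q : Set H) := h _ T.2 hQT
      have h2 : normalizer ((T : Subgroup H) : Set H) ≤ normalizer (⟪Q, g⟫ : Set H) := by
        have := h ⟪(T : Subgroup H), g⁻¹⟫ (isPGroup_cj T.2 _) (cj_le_iff.mp hgT)
        rw [normalizer_cj, cj_le_iff, inv_inv, ← normalizer_cj] at this
        exact this
      have h3 : IsSyl p (T : Subgroup H) (normalizer (⟪Q, g⟫ : Set H)) :=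
        isSyl_of_sylow_le T (le_normalizer.trans h2)
      have h4 : IsSyl p ⟪(T : Subgroup H), g⟫ (normalizer (⟪Q, g⟫ : Set H)) := by
        have := (isSyl_of_sylow_le T (le_normalizer.trans h1)).cj g
        rwa [← normalizer_cj] at this
      obtain ⟨n, hn, hn'⟩ := h4.conj h3
      rw [cj_cj] at hn'
      have h5 : n * g ∈ normalizer (Q : Set H) := h1 (cj_eq_iff_mem_normalizer.mp hn'.symm)
      rw [← cj_eq_iff_mem_normalizer, ← cj_cj, cj_eq_iff_mem_normalizer.mpr hn] at h5
      exact h5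

end Cfsg.Agent.S2838
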