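import Cfsg.Statements.S2839
import Cfsg.Agent.Lib.Helper53WC

set_option autoImplicit false
open Cfsg

namespace Cfsg.Agent.S2839

open Subgroup Cfsg.Agent.Lib.Helper53Basic Cfsg.Agent.Lib.Helper53Rel Cfsg.Agent.Lib.Helper53Syl
open Cfsg.Agent.Lib.Helper53Comm Cfsg.Agent.Lib.Helper53Min Cfsg.Agent.Lib.Helper53WC
open scoped commutatorElement

local notation "⟪" Q ", " g "⟫" => Subgroup.map (MulEquiv.toMonoidHom (MulAut.conj g)) Q

theorem map_cj {G G' : Type*} [Group G] [Group G'] (f : G →* G') (Q : Subgroup G) (g : G) :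
    (⟪Q, g⟫).map f = ⟪Q.map f, f g⟫ := by
  rw [Subgroup.map_map, Subgroup.map_map]
  congr 1
  ext x
  simp

/-- Let Q be a nontrivial p-subgroup of the finite group H that is a weakly closed subgroup, K a subgroup containing Q and N a normal subgroup of H. Then Q is a weakly closed subgroup of K; every H-conjugate of Q contained in K is a K-conjugate of Q; N_K(Q) contains a Sylow p-subgroup of K; N = N_N(Q)·O^p(N); and QN/N is a weakly closed subgroup of H/N. -/
theorem result {H : Type*} [Group H] [Finite H] {p : ℕ} [Fact p.Prime] (Q : Subgroup H) (hQp : IsPGroup p ↥Q) (hQ1 : Q ≠ ⊥) (hwc : Cfsg.IsWeaklyClosedSubgroup p Q) (K : Subgroup H) (hQK : Q ≤ K) (N' : Subgroup H) [N'.Normal] : Cfsg.IsWeaklyClosedSubgroup p (Q.subgroupOf K) ∧ (∀ g : H, ((Q : Subgroup H).map (MulAut.conj (g : H)).toMonoidHom) ≤ K → ∃ k ∈ K, ((Q : Subgroup H).map (MulAut.conj (g : H)).toMonoidHom) = ((Q : Subgroup H).map (MulAut.conj (k : H)).toMonoidHom)) ∧ Cfsg.IsParabolic p ((Subgroup.normalizer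 ((Q : Subgroup H) : Set H)).subgroupOf K) ∧ (N' ⊓ Subgroup.normalizer ((Q : Subgroup H) : Set H)) ⊔ (Cfsg.pResidual p ↥N').map N'.subtype = N' ∧ Cfsg.IsWeaklyClosedSubgroup p (Q.map (QuotientGroup.mk' N')) := by
  have h : WC p Q ⊤ := (isWeaklyClosedSubgroup_iff hQp).mp hwc
  refine ⟨(isWeaklyClosedSubgroup_subgroupOf_iff hQp hQK).mpr (h.mono le_top),
    fun g hg => h.conj_in hQp hQK le_top (mem_top g) hg, ?_, ?_, ?_⟩
  · obtain ⟨S, hS, hQS⟩ := exists_isSyl_ge hQp hQK
    obtain ⟨P, hP⟩ := hS.exists_sylow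
    refine ⟨P, ?_⟩
    rw [hP]
    exact comap_mono (h.le_normalizer hS.isPGroup hQS le_top)
  · obtain ⟨T, hT⟩ := hQp.exists_le_sylow
    have hS : IsSyl p ((T : Subgroup H) ⊓ N') N' :=
      (isSyl_of_sylow_le T le_top).inf_normal le_top le_normalizer_of_normal
    apply le_antisymm (sup_le inf_le_left (pRes_le N'))
    rw [sup_comm]
    conv_lhs => rw [← hS.pRes_sup_eq]
    apply sup_le_sup_left
    exact le_inf inf_le_right (inf_le_left.trans (h.le_normalizer T.2 hT le_top))
  · rw [isWeaklyClosedSubgroup_iff (hQp.map _)]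
    intro gb _ hP
    obtain ⟨g, rfl⟩ := QuotientGroup.mk'_surjective N' gb
    set K' := (Q.map (QuotientGroup.mk' N') ⊔ ⟪Q.map (QuotientGroup.mk' N'), (QuotientGroup.mk' N') g⟫).comap
      (QuotientGroup.mk' N') with hK'
    have hQK' : Q ≤ K' := by
      rw [hK', ← map_le_iff_le_comap]; exact le_sup_left
    have hgK' : ⟪Q, g⟫ ≤ K' := by
      rw [hK', ← map_le_iff_le_comap, map_cj]; exact le_sup_right
    have hNK' : N' ≤ K' := by
      intro n hn
      rw [hK', mem_comap]
      have : (QuotientGroup.mk' N') n = 1 := by simpa using hn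
      rw [this]; exact Subgroup.one_mem _
    obtain ⟨S, hS, hQS⟩ := exists_isSyl_ge hQp hQK'
    have hsup : N' ⊔ S = K' := by
      apply hS.sup_eq hNK' le_normalizer_of_normal
      intro l hl
      obtain ⟨k, hk⟩ := hP ⟨_, hl⟩
      refine ⟨k, ?_⟩
      have h1 : ((QuotientGroup.mk' N') l) ^ (p ^ k) = 1 := congrArg Subtype.val hk
      rw [← map_pow] at h1
      exact (QuotientGroup.eq_one_iff _).mp h1
    obtain ⟨k, hk, hke⟩ := h.conj_in hQp hQK' le_top (mem_top g) hgK'
    rw [← hsup, sup_comm, mem_sup_of_le_normalizer' le_normalizer_of_normal] at hk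
    obtain ⟨n, hn, s, hs, rfl⟩ := hk
    rw [← cj_cj, cj_eq_iff_mem_normalizer.mpr (h.le_normalizer hS.isPGroup hQS le_top hs)] at hke
    rw [← map_cj, hke, map_cj]
    have : (QuotientGroup.mk' N') n = 1 := by simpa using hn
    rw [this, cj_one]

end Cfsg.Agent.S2839
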