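import Cfsg.Statements.S2840
import Cfsg.Agent.Lib.Helper53WC

set_option autoImplicit false
open Cfsg

namespace Cfsg.Agent.S2840

open Subgroup Cfsg.Agent.Lib.Helper53Basic Cfsg.Agent.Lib.Helper53Rel Cfsg.Agent.Lib.Helper53Syl
open Cfsg.Agent.Lib.Helper53Comm Cfsg.Agent.Lib.Helper53Min Cfsg.Agent.Lib.Helper53WC
open scoped commutatorElement

local notation "⟪" Q ", " g "⟫" => Subgroup.map (MulEquiv.toMonoidHom (MulAut.conj g)) Q

theorem cj_le_of_subnormal {G : Type*} [Group G] [Finite G] {p : ℕ} [Fact p.Prime] {Q : Subgroup G}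
    (h : WC p Q ⊤) (hQ : IsPGroup p Q) {S : Subgroup G} (hS : S.IsSubnormal) :
    Q ≤ S → ∀ g : G, ⟪Q, g⟫ ≤ S := by
  induction hS with
  | top => intro _ _; exact le_top
  | step A B hAB _ hN ih =>
    intro hQA g
    obtain ⟨k, hk, hke⟩ := h.conj_in hQ (hQA.trans hAB) le_top (mem_top g) (ih (hQA.trans hAB) g)
    rw [hke]
    have h1 := (normal_subgroupOf_iff_le_normalizer hAB).mp hN
    have h2 := cj_mono k hQA
    rwa [cj_eq_of_le_normalizer h1 hk] at h2

/-- Let Q be a nontrivial p-subgroup of the finite group H that is a weakly closed subgroup and K a subgroup containing Q; let K° be the weak closure of Q in K (generated by the H-conjugates of Q inside K). Then K° is generated by the K-conjugates of Q, and K° is the subnormal closure of Q in K. -/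
theorem result {H : Type*} [Group H] [Finite H] {p : ℕ} [Fact p.Prime] (Q : Subgroup H) (hQp : IsPGroup p ↥Q) (hQ1 : Q ≠ ⊥) (hwc : Cfsg.IsWeaklyClosedSubgroup p Q) (K : Subgroup H) (hQK : Q ≤ K) (Kc : Subgroup H) (hKc : Kc = Cfsg.weakClosure Q K) : Kc = ⨆ k : ↥K, ((Q : Subgroup H).map (MulAut.conj ((k : H) : H)).toMonoidHom) ∧ Kc = (Cfsg.subnormalClosure (Q.subgroupOf K)).map K.subtype := by
  have h : WC p Q ⊤ := (isWeaklyClosedSubgroup_iff hQp).mp hwc
  have ha : Kc = ⨆ k : ↥K, ⟪Q, (k : H)⟫ := by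
    rw [hKc]
    apply le_antisymm
    · apply iSup_le
      rintro ⟨g, hg⟩
      obtain ⟨k, hk, hke⟩ := h.conj_in hQp hQK le_top (mem_top g) hg
      show ⟪Q, g⟫ ≤ _
      rw [hke]
      exact le_iSup (fun k : ↥K => ⟪Q, (k : H)⟫) ⟨k, hk⟩
    · apply iSup_le
      intro k
      exact le_iSup (fun g : {g : H // ⟪Q, g⟫ ≤ K} => ⟪Q, (g : H)⟫) ⟨k, cj_le_of_mem k.2 hQK⟩
  refine ⟨ha, ?_⟩
  have hKcK : Kc ≤ K := by
    rw [ha]; exact iSup_le fun k => cj_le_of_mem k.2 hQK
  have hQKc : Q ≤ Kc := by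
    rw [ha]
    have := le_iSup (fun k : ↥K => ⟪Q, (k : H)⟫) 1
    have h1 : ⟪Q, ((1 : ↥K) : H)⟫ = Q := cj_one Q
    exact h1.symm.le.trans this
  have hnorm : K ≤ normalizer (Kc : Set H) := by
    intro k hk
    rw [← cj_eq_iff_mem_normalizer]
    apply cj_eq_of_le
    rw [ha, Subgroup.map_iSup]
    apply iSup_le
    intro k'
    rw [cj_cj]
    exact le_iSup (fun k : ↥K => ⟪Q, (k : H)⟫) (⟨k, hk⟩ * k')
  apply le_antisymm
  · intro x hx
    refine ⟨⟨x, hKcK hx⟩, ?_, rfl⟩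
    show _ ∈ subnormalClosure (Q.subgroupOf K)
    unfold subnormalClosure
    rw [Subgroup.mem_sInf]
    rintro S ⟨hQS, hS⟩
    have h1 : Kc ≤ S.map K.subtype := by
      rw [ha]
      apply iSup_le
      intro k
      have h2 := cj_le_of_subnormal ((wc_subgroupOf_iff hQK).mpr (h.mono le_top))
        ((isPGroup_subgroupOf_iff hQK).mpr hQp) hS hQS k
      rw [subgroupOf_cj] at h2
      have h3 := Subgroup.map_mono (f := K.subtype) h2
      rwa [map_subgroupOf_eq_of_le (cj_le_of_mem k.2 hQK)] at h3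
    obtain ⟨y, hy, hyx⟩ := h1 hx
    have : y = ⟨x, hKcK hx⟩ := Subtype.ext hyx
    rwa [← this]
  · have h1 : subnormalClosure (Q.subgroupOf K) ≤ Kc.subgroupOf K := by
      apply sInf_le
      exact ⟨comap_mono hQKc, ((normal_subgroupOf_iff_le_normalizer hKcK).mpr hnorm).isSubnormal⟩
    have h2 := Subgroup.map_mono (f := K.subtype) h1
    rwa [map_subgroupOf_eq_of_le hKcK] at h2

end Cfsg.Agent.S2840
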