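import Cfsg.Statements.S2841
import Cfsg.Agent.Lib.Helper53WC

set_option autoImplicit false
open Cfsg

namespace Cfsg.Agent.S2841

open Subgroup Cfsg.Agent.Lib.Helper53Basic Cfsg.Agent.Lib.Helper53Rel Cfsg.Agent.Lib.Helper53Syl
open Cfsg.Agent.Lib.Helper53Comm Cfsg.Agent.Lib.Helper53Min Cfsg.Agent.Lib.Helper53WC
open scoped commutatorElement

local notation "⟪" Q ", " g "⟫" => Subgroup.map (MulEquiv.toMonoidHom (MulAut.conj g)) Q

/-- Let Q be a nontrivial p-subgroup of the finite group H that is a weakly closed subgroup and N a normal subgroup of H. Then N = N_N(Q)·[N, Q] and [N, Q] = (Q ∩ [N, Q])·[N, Q, Q]. -/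
theorem result {H : Type*} [Group H] [Finite H] {p : ℕ} [Fact p.Prime] (Q : Subgroup H) (hQp : IsPGroup p ↥Q) (hQ1 : Q ≠ ⊥) (hwc : Cfsg.IsWeaklyClosedSubgroup p Q) (N' : Subgroup H) [N'.Normal] : (∀ n : H, n ∈ N' → ∃ a ∈ N' ⊓ Subgroup.normalizer ((Q : Subgroup H) : Set H), ∃ b ∈ ⁅N', Q⁆, n = a * b) ∧ (∀ c : H, c ∈ ⁅N', Q⁆ → ∃ a ∈ Q ⊓ ⁅N', Q⁆, ∃ b ∈ ⁅⁅N', Q⁆, Q⁆, c = a * b) := by
  have h : WC p Q ⊤ := (isWeaklyClosedSubgroup_iff hQp).mp hwc
  set C := ⁅N', Q⁆ with hC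
  have hCN : C ≤ N' := commutator_le_left N' Q
  have hQC : Q ≤ normalizer (C : Set H) := le_normalizer_commutator_self_right N' Q
  have h1 : ∀ n : H, n ∈ N' → ∃ a ∈ N' ⊓ Subgroup.normalizer ((Q : Subgroup H) : Set H),
      ∃ b ∈ C, n = a * b := by
    intro n hn
    have h2 : ⟪Q, n⁻¹⟫ ≤ Q ⊔ C := by
      rintro _ ⟨q, hq, rfl⟩
      have h3 : ⁅n⁻¹, q⁆ ∈ C := commutator_mem_commutator (N'.inv_mem hn) hq
      have h4 : (MulAut.conj n⁻¹).toMonoidHom q = ⁅n⁻¹, q⁆ * q := by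
        simp only [commutatorElement_def, MulEquiv.coe_toMonoidHom, MulAut.conj_apply]; group
      rw [h4]
      exact Subgroup.mul_mem _ (le_sup_right (b := C) h3) (le_sup_left (a := Q) hq)
    obtain ⟨k, hk, hke⟩ := h.conj_in hQp le_sup_left le_top (mem_top _) h2
    rw [mem_sup_of_le_normalizer' hQC] at hk
    obtain ⟨c, hc, q, hq, rfl⟩ := hk
    rw [← cj_cj, cj_eq_of_mem hq] at hke
    refine ⟨n * c, Subgroup.mem_inf.mpr ⟨N'.mul_mem hn (hCN hc), ?_⟩, c⁻¹, C.inv_mem hc, by group⟩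
    rw [← cj_eq_iff_mem_normalizer, ← cj_cj, ← hke, cj_cj_inv]
  refine ⟨h1, ?_⟩
  set D := ⁅C, Q⁆ with hD
  have hQD : Q ≤ normalizer (D : Set H) := le_normalizer_commutator_self_right C Q
  have h5 : C ≤ (Q ⊓ C) ⊔ D := by
    rw [hC, commutator_le]
    intro n hn q hq
    obtain ⟨a, ha, b, hb, rfl⟩ := h1 n hn
    obtain ⟨haN, haQ⟩ := Subgroup.mem_inf.mp ha
    have h6 : ⁅a * b, q⁆ = (a * ⁅b, q⁆ * a⁻¹) * ⁅a, q⁆ := by
      simp only [commutatorElement_def]; group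
    rw [h6]
    apply Subgroup.mul_mem
    · apply le_sup_right (b := D)
      have haz : zpowers a ≤ normalizer (Q : Set H) := by rwa [zpowers_le]
      have h7 : zpowers a ≤ normalizer (D : Set H) :=
        le_normalizer_commutator (le_normalizer_commutator le_normalizer_of_normal haz) haz
      exact (le_normalizer_iff.mp h7) a (mem_zpowers a) _ (commutator_mem_commutator hb hq)
    · apply le_sup_left (a := Q ⊓ C)
      refine Subgroup.mem_inf.mpr ⟨?_, commutator_mem_commutator haN hq⟩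
      rw [commutatorElement_def]
      exact Q.mul_mem ((mem_normalizer_iff.mp haQ q).mp hq) (Q.inv_mem hq)
  intro c hc
  exact (mem_sup_of_le_normalizer (inf_le_left.trans hQD)).mp (h5 hc)

end Cfsg.Agent.S2841
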