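import Cfsg.Statements.S2843
import Cfsg.Agent.Lib.Helper53Large2

set_option autoImplicit false
open Cfsg

namespace Cfsg.Agent.S2843

open Subgroup Cfsg.Agent.Lib.Helper53Basic Cfsg.Agent.Lib.Helper53Rel Cfsg.Agent.Lib.Helper53Syl
open Cfsg.Agent.Lib.Helper53Comm Cfsg.Agent.Lib.Helper53Min Cfsg.Agent.Lib.Helper53WC
open Cfsg.Agent.Lib.Helper53Act Cfsg.Agent.Lib.Helper53CharP Cfsg.Agent.Lib.Helper53Large
open Cfsg.Agent.Lib.Helper53Large2
open scoped commutatorElement

local notation "⟪" Q ", " g "⟫" => Subgroup.map (MulEquiv.toMonoidHom (MulAut.conj g)) Q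

/-- Let Q be a nontrivial large p-subgroup of the finite group H, Q ≤ L ≤ H, and Y a nontrivial p-subgroup of H normalized by L. Let L° be the weak closure of Q in L (generated by the conjugates of Q inside L). Then L° equals the weak closure of Q in L·C_H(Y), and [L°, C_H(Y)] ≤ O_p(L°); in particular C_H(Y) normalizes L°. -/
theorem result {H : Type*} [Group H] [Finite H] {p : ℕ} [Fact p.Prime] (Q : Subgroup H) (hQp : IsPGroup p ↥Q) (hQ1 : Q ≠ ⊥) (hL : Cfsg.IsLarge Q) (L : Subgroup H) (hQL : Q ≤ L) (Y : Subgroup H) (hYp : IsPGroup p ↥Y) (hY1 : Y ≠ ⊥) (hLY : L ≤ Subgroup.normalizer ((Y : Subgroup H) : Set H)) : Cfsg.weakClosure Q L = Cfsg.weakClosure Q (L ⊔ Subgroup.centralizer ((Y : Subgroup H) : Set H)) ∧ ⁅Cfsg.weakClosure Q L, Subgroup.centralizer ((Y : Subgroup H) : Set H)⁆ ≤ (Cfsg.pCoreOf p (Cfsg.weakClosure Q L)) ∧ Subgroup.centralizer ((Y : Subgroup H) : Set H) ≤ Subgroup.normalizer (((Cfsg.weakClosure Q L) : Subgroup H) : Set H) := by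
  set C := Subgroup.centralizer ((Y : Subgroup H) : Set H) with hC
  set Lc := Cfsg.weakClosure Q L with hLc
  have hLC : L ≤ normalizer (C : Set H) := le_normalizer_centralizer hLY
  have key : ∀ g : H, ⟪Q, g⟫ ≤ L → C ≤ normalizer (⟪Q, g⟫ : Set H) := by
    intro g hg
    obtain ⟨y, hy1, hy⟩ := exists_ne_one_mem_inf_centralizer (isPGroup_cj hQp g) hYp hY1
      (hg.trans hLY)
    obtain ⟨hyY, hyQ⟩ := Subgroup.mem_inf.mp hy
    exact (centralizer_le (by simpa using hyY)).trans
      (IsLarge.centralizer_le_normalizer (IsLarge.cj hL g) hy1 hyQ)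
  have hCQ : C ≤ normalizer (Q : Set H) := by
    have := key 1 (by rw [cj_one]; exact hQL)
    rwa [cj_one] at this
  have h3 : C ≤ normalizer (Lc : Set H) := by
    intro c hc
    rw [← cj_eq_iff_mem_normalizer]
    apply cj_eq_of_le
    rw [cj_le_iff, hLc, weakClosure_le_iff]
    intro g hg
    rw [← cj_le_iff, cj_eq_iff_mem_normalizer.mpr (key g hg hc)]
    exact le_weakClosure hg
  refine ⟨?_, ?_, h3⟩
  · apply le_antisymm (weakClosure_mono le_sup_left)
    rw [weakClosure_le_iff]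
    intro g hg
    obtain ⟨k, hk, hke⟩ := (IsLarge.wc (p := p) hQ1 hL).conj_in hQp (hQL.trans le_sup_left) le_top
      (mem_top g) hg
    rw [mem_sup_of_le_normalizer hLC] at hk
    obtain ⟨l, hl, c, hc, rfl⟩ := hk
    rw [← cj_cj, cj_eq_iff_mem_normalizer.mpr (hCQ hc)] at hke
    rw [hke]
    exact le_weakClosure (cj_le_of_mem hl hQL)
  · set O := Cfsg.pCoreOf p Lc with hO
    have hLcL : Lc ≤ L := weakClosure_le Q L
    have h4 : Lc ≤ commStab C O := by
      rw [hLc, weakClosure_le_iff]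
      intro g hg q hq
      refine ⟨le_normalizer_pCoreOf Lc (le_weakClosure hg hq), ?_⟩
      intro c hc
      have h5 : ⁅c, q⁆ ∈ ⟪Q, g⟫ ⊓ C := by
        refine Subgroup.mem_inf.mpr ⟨?_, ?_⟩
        · rw [commutatorElement_def]
          exact Subgroup.mul_mem _ ((le_normalizer_iff.mp (key g hg)) c hc q hq)
            (Subgroup.inv_mem _ hq)
        · have h6 : q * c⁻¹ * q⁻¹ ∈ C := (le_normalizer_iff.mp hLC) q (hg hq) _ (C.inv_mem hc)
          have h7 : ⁅c, q⁆ = c * (q * c⁻¹ * q⁻¹) := by simp only [commutatorElement_def]; group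
          rw [h7]; exact C.mul_mem hc h6
      have h8 : ⟪Q, g⟫ ⊓ C ≤ pCoreOf p (Lc ⊓ C) := by
        apply le_pCoreOf (inf_le_inf_right _ (le_weakClosure hg)) _
          (isPGroup_cj hQp g).to_inf_left
        exact le_normalizer_inf (inf_le_right.trans (key g hg)) (inf_le_right.trans le_normalizer)
      have h9 : pCoreOf p (Lc ⊓ C) ≤ O :=
        pCoreOf_le_of_normal inf_le_left (le_normalizer_inf le_normalizer (hLcL.trans hLC))
      exact h9 (h8 h5)
    rw [commutator_comm, commutator_le]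
    intro c hc l hl
    exact (h4 hl).2 c hc

end Cfsg.Agent.S2843
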