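import Cfsg.Statements.S2844
import Cfsg.Agent.Lib.Helper53Large

set_option autoImplicit false
open Cfsg

namespace Cfsg.Agent.S2844

open Subgroup Cfsg.Agent.Lib.Helper53Basic Cfsg.Agent.Lib.Helper53Rel Cfsg.Agent.Lib.Helper53Syl
open Cfsg.Agent.Lib.Helper53Comm Cfsg.Agent.Lib.Helper53Min Cfsg.Agent.Lib.Helper53WC
open Cfsg.Agent.Lib.Helper53Act Cfsg.Agent.Lib.Helper53CharP Cfsg.Agent.Lib.Helper53Large

/-- Let Q be a nontrivial large p-subgroup of the finite group H and Q• = O_p(N_H(Q)). Then for every g ∈ H outside N_H(Q): C_H(Q) ∩ C_H(gQg⁻¹) = 1, C_H(Q•) ∩ C_H(gQ•g⁻¹) = 1, Z(Q) ∩ Z(gQg⁻¹) = 1 and Z(Q•) ∩ Z(gQ•g⁻¹) = 1; moreover N_H(Q) = N_H(Q•) and Q• is large in H. -/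
theorem result {H : Type*} [Group H] [Finite H] {p : ℕ} [Fact p.Prime] (Q : Subgroup H) (hQp : IsPGroup p ↥Q) (hQ1 : Q ≠ ⊥) (hL : Cfsg.IsLarge Q) (Qb : Subgroup H) (hQb : Qb = Cfsg.largeBullet p Q) : (∀ g : H, g ∉ Subgroup.normalizer ((Q : Subgroup H) : Set H) → Subgroup.centralizer ((Q : Subgroup H) : Set H) ⊓ Subgroup.centralizer ((((Q : Subgroup H).map (MulAut.conj (g : H)).toMonoidHom) : Subgroup H) : Set H) = ⊥ ∧ Subgroup.centralizer ((Qb : Subgroup H) : Set H) ⊓ Subgroup.centralizer ((((Qb : Subgroup H).map (MulAut.conj (g : H)).toMonoidHom) : Subgroup H) : Set H) = ⊥ ∧ (Q ⊓ Subgroup.centralizer ((Q : Subgroup H) : Set H)) ⊓ (((Q : Subgroup H).map (MulAut.conj (g : H)).toMonoidHom) ⊓ Subgroup.centralizer ((((Q : Subgroup H).map (MulAut.conj (g : H)).toMonoidHom) : Subgroup H) : Set H)) = ⊥ ∧ (Qb ⊓ Subgroup.centralizer ((Qb : Subgroup H) : Set H)) ⊓ (((Qb : Subgroup H).map (MulAut.conj (g : H)).toMonoidHom) ⊓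 Subgroup.centralizer ((((Qb : Subgroup H).map (MulAut.conj (g : H)).toMonoidHom) : Subgroup H) : Set H)) = ⊥) ∧ Subgroup.normalizer ((Q : Subgroup H) : Set H) = Subgroup.normalizer ((Qb : Subgroup H) : Set H) ∧ Cfsg.IsLarge Qb := by
  have hQQb : Q ≤ Qb := by
    rw [hQb]; exact le_pCoreOf le_normalizer le_rfl hQp
  have hQbp : IsPGroup p Qb := by rw [hQb]; exact pCoreOf_isPGroup _
  have hQb1 : Qb ≠ ⊥ := fun hb => hQ1 (le_bot_iff.mp (hb ▸ hQQb))
  have hcc : centralizer (Qb : Set H) ≤ centralizer (Q : Set H) := centralizer_le hQQb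
  have hN : normalizer (Q : Set H) = normalizer (Qb : Set H) := by
    apply le_antisymm
    · rw [hQb]; exact le_normalizer_pCoreOf _
    · exact (normalizer_le_normalizer_center Qb).trans
        (hL.2 _ (inf_le_right.trans hcc) (inf_centralizer_ne_bot hQbp hQbp hQb1 le_normalizer))
  refine ⟨?_, hN, ?_⟩
  · intro g hg
    have h1 := IsLarge.centralizer_inf_eq_bot hQp hQ1 hL hg
    have hccg : centralizer ((Qb.map (MulAut.conj g).toMonoidHom : Subgroup H) : Set H) ≤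
        centralizer ((Q.map (MulAut.conj g).toMonoidHom : Subgroup H) : Set H) :=
      centralizer_le (cj_mono g hQQb)
    refine ⟨h1, ?_, ?_, ?_⟩
    · rw [← le_bot_iff, ← h1]; exact inf_le_inf hcc hccg
    · rw [← le_bot_iff, ← h1]; exact inf_le_inf inf_le_right inf_le_right
    · rw [← le_bot_iff, ← h1]
      exact inf_le_inf (inf_le_right.trans hcc) (inf_le_right.trans hccg)
  · refine ⟨hcc.trans (hL.1.trans hQQb), ?_⟩
    intro U hU hU1
    rw [← hN]
    exact hL.2 U (hU.trans hcc) hU1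

end Cfsg.Agent.S2844
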