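import Cfsg.Statements.S2845
import Cfsg.Agent.Lib.Helper53Large2

set_option autoImplicit false
open Cfsg

namespace Cfsg.Agent.S2845

open Subgroup Cfsg.Agent.Lib.Helper53Basic Cfsg.Agent.Lib.Helper53Rel Cfsg.Agent.Lib.Helper53Syl
open Cfsg.Agent.Lib.Helper53Comm Cfsg.Agent.Lib.Helper53Min Cfsg.Agent.Lib.Helper53WC
open Cfsg.Agent.Lib.Helper53Act Cfsg.Agent.Lib.Helper53CharP Cfsg.Agent.Lib.Helper53Large
open Cfsg.Agent.Lib.Helper53Large2

local notation "⟪" Q ", " g "⟫" => Subgroup.map (MulEquiv.toMonoidHom (MulAut.conj g)) Q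

/-- Let Q be a nontrivial large p-subgroup of the finite group H. Then for every subgroup L ≥ Q with O_p(L) ≠ 1, C_H(O_p(L)) is a p-group and L has characteristic p, and either the weak closure L° of Q in L equals Q or C_H(L°) = 1; for every subgroup R of H containing a Sylow p-subgroup of H with O_p(R) ≠ 1, C_H(O_p(R)) ≤ O_p(R); and H has parabolic characteristic p. -/
theorem result {H : Type*} [Group H] [Finite H] {p : ℕ} [Fact p.Prime] (Q : Subgroup H) (hQp : IsPGroup p ↥Q) (hQ1 : Q ≠ ⊥) (hL : Cfsg.IsLarge Q) : (∀ L : Subgroup H, Q ≤ L → Cfsg.pCore p ↥L ≠ ⊥ → IsPGroup p ↥(Subgroup.centralizer (((Cfsg.pCoreOf p L) : Subgroup H) : Set H)) ∧ Subgroup.centralizer (Cfsg.pCore p ↥L : Set ↥L) ≤ Cfsg.pCore p ↥L ∧ (Cfsg.weakClosure Q L = Q ∨ Subgroup.centralizer (((Cfsg.weakClosure Q L) : Subgroup H) : Set H) = ⊥)) ∧ (∀ R : Subgroup H, Cfsg.IsParabolic p R → Cfsg.pCore p ↥R ≠ ⊥ → Subgroup.centralizer (((Cfsg.pCoreOf p R) : Subgroup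 H) : Set H) ≤ (Cfsg.pCoreOf p R)) ∧ Cfsg.IsOfParabolicCharacteristic p H := by
  have hB : ∀ R : Subgroup H, Cfsg.IsParabolic p R → Cfsg.pCore p ↥R ≠ ⊥ →
      Subgroup.centralizer (((Cfsg.pCoreOf p R) : Subgroup H) : Set H) ≤ (Cfsg.pCoreOf p R) := by
    rintro R ⟨T, hTR⟩ hR
    obtain ⟨x, -, hx⟩ := (isSyl_of_sylow_le T le_top).exists_le_cj hQp le_top
    have hQ'T : ⟪Q, x⁻¹⟫ ≤ (T : Subgroup H) := by rw [cj_le_iff, inv_inv]; exact hx
    have h1 := (IsLarge.main (isPGroup_cj hQp x⁻¹) (cj_ne_bot hQ1 _) (IsLarge.cj hL _)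
      (hQ'T.trans hTR) ((pCore_ne_bot_iff R).mp hR)).2.2.1
    have hRD : R ≤ normalizer ((centralizer (pCoreOf p R : Set H) : Subgroup H) : Set H) :=
      le_normalizer_centralizer (le_normalizer_pCoreOf R)
    have h2 : centralizer (pCoreOf p R : Set H) ≤ (T : Subgroup H) := by
      have h3 := T.3 (h1.to_sup_of_normal_left' T.2 (hTR.trans hRD)) le_sup_right
      rw [← h3]; exact le_sup_left
    exact le_pCoreOf (h2.trans hTR) hRD h1
  refine ⟨?_, hB, ?_⟩
  · intro L hQL hLne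
    have h1 := IsLarge.main hQp hQ1 hL hQL ((pCore_ne_bot_iff L).mp hLne)
    refine ⟨h1.2.2.1, (charP_iff' L).mpr h1.2.2.2, ?_⟩
    by_cases hall : ∀ g : H, ⟪Q, g⟫ ≤ L → ⟪Q, g⟫ = Q
    · left
      apply le_antisymm _ (self_le_weakClosure hQL)
      rw [weakClosure_le_iff]
      intro g hg
      exact (hall g hg).le
    · right
      push Not at hall
      obtain ⟨g, hg, hne⟩ := hall
      have hgn : g ∉ normalizer (Q : Set H) := fun hh => hne (cj_eq_iff_mem_normalizer.mpr hh)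
      rw [← le_bot_iff, ← IsLarge.centralizer_inf_eq_bot hQp hQ1 hL hgn]
      exact le_inf (centralizer_le (self_le_weakClosure hQL)) (centralizer_le (le_weakClosure hg))
  · intro R₀ hR₀ hR₀1 hpar
    rw [charP_iff']
    apply inf_le_right.trans
    apply hB _ hpar
    rw [pCore_ne_bot_iff]
    intro hb
    apply hR₀1
    rw [← le_bot_iff, ← hb]
    exact le_pCoreOf le_normalizer le_rfl hR₀

end Cfsg.Agent.S2845
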