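import Cfsg.Statements.S2847
import Cfsg.Agent.Lib.Helper53Exist
import Cfsg.Agent.S2824

set_option autoImplicit false
open Cfsg

namespace Cfsg.Agent.S2847

open Subgroup Cfsg.Agent.Lib.Helper53Basic Cfsg.Agent.Lib.Helper53Rel Cfsg.Agent.Lib.Helper53Syl
open Cfsg.Agent.Lib.Helper53CharP Cfsg.Agent.Lib.Helper53FrakM Cfsg.Agent.Lib.Helper53Exist
open Cfsg.Agent.Lib.Helper53PRed Cfsg.Agent.Lib.Helper53PRed2 Cfsg.Agent.Lib.Helper53PRed3

theorem star {H : Type*} [Group H] [Finite H] {p : ℕ} [Fact p.Prime]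
    (hH : Cfsg.IsOfParabolicCharacteristic p H) (T : Sylow p H) (K : Subgroup H)
    (hTK : (T : Subgroup H) ≤ K) (hK1 : pCoreOf p K ≠ ⊥) : K ∈ charPSubgroups p H := by
  rw [mem_charPSubgroups_iff]
  refine ⟨hK1, ?_⟩
  set O := pCoreOf p K with hO
  set N := normalizer (O : Set H) with hN
  have hKN : K ≤ N := le_normalizer_pCoreOf K
  have hNc : CharP p N :=
    (charP_iff' N).mp (hH O (pCoreOf_isPGroup K) hK1 ⟨T, hTK.trans hKN⟩)
  have h1 : O ≤ pCoreOf p N := le_pCoreOf le_normalizer le_rfl (pCoreOf_isPGroup K)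
  have h2 : pCoreOf p N ≤ O :=
    le_pCoreOf ((pCoreOf_le_isSyl (isSyl_of_sylow_le T (hTK.trans hKN))).trans hTK)
      (hKN.trans (le_normalizer_pCoreOf N)) (pCoreOf_isPGroup N)
  have h3 : pCoreOf p N = O := le_antisymm h2 h1
  unfold Cfsg.Agent.Lib.Helper53CharP.CharP at hNc
  rw [h3] at hNc
  exact (le_inf (centralizer_le_normalizer' O) le_rfl).trans hNc

theorem exist_main {H : Type*} [Group H] [Finite H] {p : ℕ} [Fact p.Prime] (T : Sylow p H)
    (hstar : ∀ K : Subgroup H, (T : Subgroup H) ≤ K → pCoreOf p K ≠ ⊥ → K ∈ charPSubgroups p H)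
    (L : Subgroup H) (hTL : (T : Subgroup H) ≤ L) (hL : L ∈ Cfsg.charPSubgroups p H) :
    ∃ M Ls : Subgroup H, (T : Subgroup H) ≤ M ∧ Cfsg.IsInFrakM p M ∧ (T : Subgroup H) ≤ Ls ∧ Ls ≤ M ∧
      Ls ∈ Cfsg.charPSubgroups p H ∧ (Cfsg.largestPReducedOf p L) = (Cfsg.largestPReducedOf p Ls) ∧
      (Cfsg.largestPReducedOf p L) ≤ (Cfsg.largestPReducedOf p M) ∧
      L ⊔ Subgroup.centralizer (((Cfsg.largestPReducedOf p L) : Subgroup H) : Set H) =
        Ls ⊔ Subgroup.centralizer (((Cfsg.largestPReducedOf p L) : Subgroup H) : Set H) := by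
  have hsub : ∀ X K : Subgroup H, (T : Subgroup H) ≤ X → X ≤ K → K ∈ charPSubgroups p H →
      X ∈ charPSubgroups p H := by
    intro X K hTX hXK hK
    apply hstar X hTX
    intro hb
    apply (mem_charPSubgroups_iff.mp hK).1
    rw [← le_bot_iff, ← hb]
    exact le_pCoreOf ((pCoreOf_le_isSyl (isSyl_of_sylow_le T (hTX.trans hXK))).trans hTX)
      (hXK.trans (le_normalizer_pCoreOf K)) (pCoreOf_isPGroup K)
  have hmono : ∀ X K : Subgroup H, (T : Subgroup H) ≤ X → X ≤ K → K ∈ charPSubgroups p H →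
      largestPReducedOf p X ≤ largestPReducedOf p K := fun X K hTX hXK hK =>
    largest_mono (isSyl_of_sylow_le T (hTX.trans hXK)) hTX hXK (charP_of_mem hK)
  have hY₀L := pRed_largest (p := p) L
  set Y₀ := largestPReducedOf p L with hY₀
  set C₀ := centralizer (Y₀ : Set H) with hC₀
  let 𝒦 : Set (Subgroup H) := {K | (T : Subgroup H) ≤ K ∧ K ∈ charPSubgroups p H ∧
    ∃ Ls : Subgroup H, (T : Subgroup H) ≤ Ls ∧ Ls ≤ K ∧ largestPReducedOf p Ls = Y₀ ∧
      L ⊔ C₀ = Ls ⊔ C₀}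
  have hL𝒦 : L ∈ 𝒦 := ⟨hTL, hL, L, hTL, le_rfl, rfl, rfl⟩
  obtain ⟨K, hK𝒦, hKmax⟩ := Set.exists_max_image 𝒦
    (fun K => Nat.card (largestPReducedOf p K)) (Set.toFinite _) ⟨L, hL𝒦⟩
  have hKeq : ∀ X ∈ 𝒦, largestPReducedOf p K ≤ largestPReducedOf p X →
      largestPReducedOf p X = largestPReducedOf p K := fun X hX hle =>
    (Subgroup.eq_of_le_of_card_ge hle (hKmax X hX)).symm
  obtain ⟨hTK, hKc, Ls, hTLs, hLsK, hYLs, hfac⟩ := hK𝒦
  have hYK := pRed_largest (p := p) K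
  have hY1 : largestPReducedOf p K ≠ ⊥ := largest_ne_bot (isSyl_of_sylow_le T hTK)
    (charP_of_mem hKc) (mem_charPSubgroups_iff.mp hKc).1
  set Y := largestPReducedOf p K with hY
  have hYp : IsPGroup p Y := IsElementaryAbelian.isPGroup hYK.2.2.1
  set Mt := normalizer (Y : Set H) with hMt
  have hKMt : K ≤ Mt := hYK.2.1
  have hTMt : (T : Subgroup H) ≤ Mt := hTK.trans hKMt
  have hMtc : Mt ∈ charPSubgroups p H := by
    apply hstar Mt hTMt
    intro hb
    apply hY1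
    rw [← le_bot_iff, ← hb]
    exact le_pCoreOf le_normalizer le_rfl hYp
  have hMt𝒦 : Mt ∈ 𝒦 := ⟨hTMt, hMtc, Ls, hTLs, hLsK.trans hKMt, hYLs, hfac⟩
  have hYMt : largestPReducedOf p Mt = Y := hKeq Mt hMt𝒦 (hmono K Mt hTK hKMt hMtc)
  have hMtmax : Mt ∈ maxCharPSubgroups p H := by
    refine ⟨hMtc, ?_⟩
    intro X hX hle
    have hX𝒦 : X ∈ 𝒦 := ⟨hTMt.trans hle, hX, Ls, hTLs, (hLsK.trans hKMt).trans hle, hYLs, hfac⟩
    have h1 : largestPReducedOf p X = Y :=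
      hKeq X hX𝒦 (hYMt.symm.le.trans (hmono Mt X hTMt hle hX))
    apply le_antisymm _ hle
    have := (pRed_largest (p := p) X).2.1
    rwa [h1] at this
  set C := centralizer (Y : Set H) with hC
  have hCMt : C ≤ Mt := centralizer_le_normalizer' Y
  let 𝒩 : Set (Subgroup H) := {M | (T : Subgroup H) ≤ M ∧ M ⊔ C = Mt}
  obtain ⟨M, ⟨hTM, hMC⟩, hMmin⟩ :=
    (Set.toFinite 𝒩).exists_minimal ⟨Mt, hTMt, sup_eq_left.mpr hCMt⟩
  have hMMt : M ≤ Mt := hMC ▸ le_sup_left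
  have hMc : M ∈ charPSubgroups p H := hsub M Mt hTM hMMt hMtc
  have hYT : Y ≤ (T : Subgroup H) :=
    (PRed.le_pCoreOf hYK).trans (pCoreOf_le_isSyl (isSyl_of_sylow_le T hTK))
  have hYMtP : PRed p Y Mt := by
    have := pRed_largest (p := p) Mt
    rwa [hYMt] at this
  have hYMP : PRed p Y M :=
    PRed.of_sup_eq hYMtP (hYT.trans hTM) (by rw [← hC, hMC, sup_eq_left.mpr hCMt])
  have hYM : largestPReducedOf p M = Y :=
    le_antisymm ((hmono M Mt hTM hMMt hMtc).trans hYMt.le) (PRed.le_largest hYMP)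
  -- the subgroup `L*`
  have hY₀Y : Y₀ ≤ Y := hYLs.symm.le.trans (hmono Ls K hTLs hLsK hKc)
  have hCC₀ : C ≤ C₀ := centralizer_le hY₀Y
  have hMnC : M ≤ normalizer (C : Set H) := le_normalizer_centralizer hMMt
  set L2 := (Ls ⊔ C) ⊓ M with hL2
  have hTL2 : (T : Subgroup H) ≤ L2 := le_inf (hTLs.trans le_sup_left) hTM
  have hL2C : L2 ⊔ C = Ls ⊔ C := by
    have h1 := dedekind (A := C) (B := M) (C := Ls ⊔ C) le_sup_right hMnC
    rw [hL2, sup_comm, inf_comm, ← h1, sup_comm, hMC]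
    exact inf_eq_right.mpr (sup_le (hLsK.trans hKMt) hCMt)
  have hL2C₀ : L2 ⊔ C₀ = L ⊔ C₀ := by
    have h1 : L2 ⊔ C ⊔ C₀ = Ls ⊔ C ⊔ C₀ := by rw [hL2C]
    rwa [sup_assoc, sup_assoc, sup_eq_right.mpr hCC₀, ← hfac] at h1
  have hL2c : L2 ∈ charPSubgroups p H := hsub L2 M hTL2 inf_le_right hMc
  obtain ⟨hYL3, hfac3⟩ := Cfsg.Agent.S2824.result T L L2 hTL hTL2
    ((charP_iff' L).mpr (charP_of_mem hL)) ((charP_iff' L2).mpr (charP_of_mem hL2c))
    ((T : Subgroup H) ⊓ C₀) rfl hL2C₀ (L2 ⊓ normalizer (((T : Subgroup H) ⊓ C₀ : Subgroup H) : Set H)) rfl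
  set L3 := L2 ⊓ normalizer (((T : Subgroup H) ⊓ C₀ : Subgroup H) : Set H) with hL3
  have hTL3 : (T : Subgroup H) ≤ L3 := le_inf hTL2
    (le_normalizer_inf le_normalizer (le_normalizer_centralizer (hTL.trans hY₀L.2.1)))
  have hL3M : L3 ≤ M := inf_le_left.trans inf_le_right
  have hL3c := hsub L3 M hTL3 hL3M hMc
  have hM𝒦 : ∀ X : Subgroup H, M ≤ X → X ∈ charPSubgroups p H → X ∈ 𝒦 := fun X hle hX =>
    ⟨hTM.trans hle, hX, L3, hTL3, hL3M.trans hle, hYL3, hfac3⟩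
  have huniq : ∀ X ∈ maxCharPSubgroups p H, M ≤ X → X = Mt := by
    intro X hX hle
    have h1 : largestPReducedOf p X = Y :=
      hKeq X (hM𝒦 X hle hX.1) (hYM.symm.le.trans (hmono M X hTM hle hX.1))
    have h2 : X ≤ Mt := by
      have := (pRed_largest (p := p) X).2.1
      rwa [h1] at this
    exact (hX.2 Mt hMtc h2).symm
  -- `C_M(Y)` is `p`-closed
  have hnMC : M ≤ normalizer ((M ⊓ C : Subgroup H) : Set H) := le_normalizer_inf le_normalizer hMnC
  have hT₁ : IsSyl p ((T : Subgroup H) ⊓ (M ⊓ C)) (M ⊓ C) :=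
    (isSyl_of_sylow_le T hTM).inf_normal inf_le_left hnMC
  set T₁ := (T : Subgroup H) ⊓ (M ⊓ C) with hT₁def
  have hfr := frattini_sup (L := M) inf_le_left hnMC hT₁
  have hN₁ : M ⊓ normalizer (T₁ : Set H) ∈ 𝒩 := by
    refine ⟨le_inf hTM (le_normalizer_inf le_normalizer (hTM.trans hnMC)), ?_⟩
    apply le_antisymm (sup_le (inf_le_left.trans hMMt) hCMt)
    rw [← hMC]
    apply sup_le _ le_sup_right
    conv_lhs => rw [← hfr]
    exact sup_le (inf_le_right.trans le_sup_right) le_sup_left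
  have hMT₁ : M ≤ normalizer (T₁ : Set H) := (hMmin hN₁ inf_le_left).trans inf_le_right
  have hcl : IsPClosed p ↥(M ⊓ C) := isPClosed_of_isSyl hT₁ (inf_le_left.trans hMT₁)
  have hOT₁ : pCoreOf p M = T₁ :=
    le_antisymm (le_inf (pCoreOf_le_isSyl (isSyl_of_sylow_le T hTM))
      (le_inf (pCoreOf_le M) (PRed.pCoreOf_le_centralizer hYMP)))
      (le_pCoreOf (inf_le_right.trans inf_le_left) hMT₁ hT₁.isPGroup)
  have hfrat : ((M ⊓ C).subgroupOf M).map (QuotientGroup.mk' (pCore p ↥M)) ≤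
      _root_.frattini (↥M ⧸ pCore p ↥M) := by
    have hn : ((M ⊓ C).subgroupOf M).Normal :=
      (normal_subgroupOf_iff_le_normalizer inf_le_left).mpr hnMC
    obtain ⟨P, hP⟩ := (isSyl_of_sylow_le T hTM).exists_sylow
    apply frat_crit ((M ⊓ C).subgroupOf M) ?_ P ?_
    · rw [← subgroupOf_pCoreOf, hOT₁]
      refine ⟨?_, hT₁.isPGroup.comap_subtype, ?_⟩
      · intro x hx
        exact hT₁.le hx
      · rw [relIndex_subgroupOf inf_le_left]; exact hT₁.2.2
    · intro X hPX hsup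
      have hX₁ : X.map M.subtype ∈ 𝒩 := by
        constructor
        · rw [← map_subgroupOf_eq_of_le hTM, ← hP]
          exact map_mono hPX
        · have h1 : (M ⊓ C) ⊔ X.map M.subtype = M := by
            have h2 := congrArg (Subgroup.map M.subtype) hsup
            rwa [Subgroup.map_sup, map_subgroupOf_eq_of_le inf_le_left, ← MonoidHom.range_eq_map,
              range_subtype] at h2
          apply le_antisymm (sup_le ((map_subtype_le X).trans hMMt) hCMt)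
          rw [← hMC]
          apply sup_le _ le_sup_right
          conv_lhs => rw [← h1]
          exact sup_le (inf_le_right.trans le_sup_right) le_sup_left
      have h3 := hMmin hX₁ (map_subtype_le X)
      rw [eq_top_iff]
      intro m _
      obtain ⟨x, hx, hxm⟩ := h3 m.2
      have : x = m := Subtype.ext hxm
      exact this ▸ hx
  refine ⟨M, L3, hTM, ?_, hTL3, hL3M, hL3c, hYL3.symm, ?_, hfac3⟩
  · unfold IsInFrakM
    rw [hYM, ← hC, hMC]
    exact ⟨hMc, hMtmax, huniq, hYMt.symm, hcl, hfrat⟩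
  · rw [hYM]; exact hY₀Y

/-- Let H be a finite group of parabolic characteristic p, T a Sylow p-subgroup and L a subgroup containing T with O_p(L) ≠ 1 and C_H(O_p(L)) ≤ O_p(L). Then there are M ≥ T with the basic property (M ∈ 𝔐_H) and L* with T ≤ L* ≤ M, O_p(L*) ≠ 1, C_H(O_p(L*)) ≤ O_p(L*), such that Y_L = Y_{L*} ≤ Y_M and L·C_H(Y_L) = L*·C_H(Y_L), Y denoting largest p-reduced normal subgroups. -/
theorem result {H : Type*} [Group H] [Finite H] {p : ℕ} [Fact p.Prime] (hH : Cfsg.IsOfParabolicCharacteristic p H) (T : Sylow p H) (L : Subgroup H) (hTL : (T : Subgroup H) ≤ L) (hL : L ∈ Cfsg.charPSubgroups p H) : ∃ M Ls : Subgroup H, (T : Subgroup H) ≤ M ∧ Cfsg.IsInFrakM p M ∧ (T : Subgroup H) ≤ Ls ∧ Ls ≤ M ∧ Ls ∈ Cfsg.charPSubgroups p H ∧ (Cfsg.largestPReducedOf p L) = (Cfsg.largestPReducedOf p Ls) ∧ (Cfsg.largestPReducedOf p L) ≤ (Cfsg.largestPReducedOf p M) ∧ L ⊔ Subgroup.centralizer (((Cfsg.largestPReducedOf p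 L) : Subgroup H) : Set H) = Ls ⊔ Subgroup.centralizer (((Cfsg.largestPReducedOf p L) : Subgroup H) : Set H) := by
  exact exist_main T (star hH T) L hTL hL

end Cfsg.Agent.S2847
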