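import Cfsg.Statements.S2846
import Cfsg.Agent.Lib.Helper53Exist
import Cfsg.Agent.S2845
import Cfsg.Agent.S2847

set_option autoImplicit false
open Cfsg

namespace Cfsg.Agent.S2846

open Subgroup Cfsg.Agent.Lib.Helper53Basic Cfsg.Agent.Lib.Helper53Rel Cfsg.Agent.Lib.Helper53Syl
open Cfsg.Agent.Lib.Helper53CharP Cfsg.Agent.Lib.Helper53FrakM Cfsg.Agent.Lib.Helper53Exist
open Cfsg.Agent.Lib.Helper53PRed Cfsg.Agent.Lib.Helper53PRed2 Cfsg.Agent.Lib.Helper53PRed3
open Cfsg.Agent.Lib.Helper53WC Cfsg.Agent.Lib.Helper53Large Cfsg.Agent.Lib.Helper53Large2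

local notation "⟪" Q ", " g "⟫" => Subgroup.map (MulEquiv.toMonoidHom (MulAut.conj g)) Q

theorem weakClosure_sup_eq {H : Type*} [Group H] [Finite H] {p : ℕ} [Fact p.Prime]
    {Q X C : Subgroup H} (hQp : IsPGroup p Q) (hwc : WC p Q ⊤) (hQX : Q ≤ X)
    (hXC : X ≤ normalizer (C : Set H)) (hCQ : C ≤ normalizer (Q : Set H)) :
    weakClosure Q (X ⊔ C) = weakClosure Q X := by
  apply le_antisymm _ (weakClosure_mono le_sup_left)
  rw [weakClosure_le_iff]
  intro g hg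
  obtain ⟨x, hx, he⟩ := hwc.conj_in hQp (hQX.trans le_sup_left) le_top (mem_top g) hg
  rw [mem_sup_of_le_normalizer hXC] at hx
  obtain ⟨a, ha, b, hb, rfl⟩ := hx
  rw [he, ← cj_cj, cj_eq_of_le_normalizer hCQ hb]
  exact le_weakClosure (cj_le_of_mem ha hQX)

/-- Let Q be a nontrivial large p-subgroup of the finite group H, S a Sylow p-subgroup containing Q, and L a subgroup containing S with O_p(L) ≠ 1 and C_H(O_p(L)) ≤ O_p(L). Then there are a subgroup M containing S having the basic property (M ∈ 𝔐_H, writing Y_X for the largest p-reduced normal subgroup of X and 𝓛_H for the set of subgroups X with O_p(X) ≠ 1 and C_H(O_p(X)) ≤ O_p(X): M ∈ 𝓛_H, M·C_H(Y_M) is the only maximal member of 𝓛_H containing M and its largest p-reduced normal subgroup is again Y_M, C_M(Y_M) is p-closed, and the image of C_M(Y_M) in M/O_p(M) lies in the Frattini subgroup of M/O_p(M)) and a subgroup L* with S ≤ L* ≤ M, O_p(L*) ≠ 1, C_H(O_p(L*))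 ≤ O_p(L*), such that L·C_H(Y_L) = L*·C_H(Y_L), the weak closures of Q in L and in L* agree and lie in that of M, and Y_L = Y_{L*} ≤ Y_M. If moreover Q is not normal in L, then Q is normal in neither L* nor M. -/
theorem result {H : Type*} [Group H] [Finite H] {p : ℕ} [Fact p.Prime] (Q : Subgroup H) (hQp : IsPGroup p ↥Q) (hQ1 : Q ≠ ⊥) (hLg : Cfsg.IsLarge Q) (S : Sylow p H) (hQS : Q ≤ (S : Subgroup H)) (L : Subgroup H) (hSL : (S : Subgroup H) ≤ L) (hL : L ∈ Cfsg.charPSubgroups p H) : ∃ M Ls : Subgroup H, (S : Subgroup H) ≤ M ∧ Cfsg.IsInFrakM p M ∧ (S : Subgroup H) ≤ Ls ∧ Ls ≤ M ∧ Ls ∈ Cfsg.charPSubgroups p H ∧ L ⊔ Subgroup.centralizer (((Cfsg.largestPReducedOf p L) : Subgroup H) : Set H) = Ls ⊔ Subgroup.centralizer (((Cfsg.largestPReducedOf p L) : Subgroup H) : Set H) ∧ Cfsg.weakClosure Q L = Cfsg.weakClosure Q Ls ∧ Cfsg.weakClosure Q Ls ≤ Cfsg.weakClosure Q M ∧ (Cfsg.largestPReducedOf p L) = (Cfsg.largestPReducedOf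 p Ls) ∧ (Cfsg.largestPReducedOf p Ls) ≤ (Cfsg.largestPReducedOf p M) ∧ (¬ L ≤ Subgroup.normalizer ((Q : Subgroup H) : Set H) → ¬ Ls ≤ Subgroup.normalizer ((Q : Subgroup H) : Set H) ∧ ¬ M ≤ Subgroup.normalizer ((Q : Subgroup H) : Set H)) := by
  have hpar := (Cfsg.Agent.S2845.result Q hQp hQ1 hLg).2.2
  obtain ⟨M, Ls, hSM, hM, hSLs, hLsM, hLsc, hY, hYM, hfac⟩ := Cfsg.Agent.S2847.result hpar S L hSL hL
  have hwc : WC p Q ⊤ := IsLarge.wc hQ1 hLg
  have hY₀ := pRed_largest (p := p) L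
  have hS1 : (S : Subgroup H) ≠ ⊥ := fun h => hQ1 (le_bot_iff.mp (h ▸ hQS))
  have hU : omZ p (S : Subgroup H) ≤ largestPReducedOf p L :=
    (omZ_le_sylowCenterClosure (isSyl_of_sylow_le S hSL)).trans
      (PRed.le_largest (pRed_sylowCenterClosure (charP_of_mem hL)))
  set Y₀ := largestPReducedOf p L with hY₀def
  set C₀ := centralizer (Y₀ : Set H) with hC₀
  have hCQ : C₀ ≤ normalizer (Q : Set H) :=
    ((centralizer_le hU).trans (centralizer_le_normalizer' _)).trans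
      (hLg.2 _ ((omZ_le_centralizer _).trans (centralizer_le hQS)) (omZ_ne_bot S.2 hS1))
  have hLC : L ≤ normalizer (C₀ : Set H) := le_normalizer_centralizer hY₀.2.1
  have hLsC : Ls ≤ normalizer (C₀ : Set H) := by
    have h1 : Ls ≤ L ⊔ C₀ := hfac ▸ le_sup_left
    exact h1.trans (sup_le hLC le_normalizer)
  have hw : Cfsg.weakClosure Q L = Cfsg.weakClosure Q Ls := by
    rw [← weakClosure_sup_eq hQp hwc (hQS.trans hSL) hLC hCQ,
      ← weakClosure_sup_eq hQp hwc (hQS.trans hSLs) hLsC hCQ, hfac]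
  refine ⟨M, Ls, hSM, hM, hSLs, hLsM, hLsc, hfac, hw, weakClosure_mono hLsM, hY, hY ▸ hYM, ?_⟩
  intro hn
  have h1 : ¬ Ls ≤ normalizer (Q : Set H) := by
    intro h2
    apply hn
    have h3 : L ≤ Ls ⊔ C₀ := hfac ▸ le_sup_left
    exact h3.trans (sup_le h2 hCQ)
  exact ⟨h1, fun h2 => h1 (hLsM.trans h2)⟩

end Cfsg.Agent.S2846
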