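import Cfsg.Statements.S2849
import Cfsg.Agent.Lib.Helper53FrakM

set_option autoImplicit false
open Cfsg

namespace Cfsg.Agent.S2849

open Subgroup Cfsg.Agent.Lib.Helper53Basic Cfsg.Agent.Lib.Helper53Rel Cfsg.Agent.Lib.Helper53Syl
open Cfsg.Agent.Lib.Helper53WC Cfsg.Agent.Lib.Helper53FrakM
open Cfsg.Agent.Lib.Helper53PRed Cfsg.Agent.Lib.Helper53PRed2 Cfsg.Agent.Lib.Helper53PRed3

local notation "⟪" Q ", " g "⟫" => Subgroup.map (MulEquiv.toMonoidHom (MulAut.conj g)) Q

/-- the relative normal closure is contained in every normalized overgroup. -/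
theorem map_normalClosure_le {G : Type*} [Group G] {A K E : Subgroup G} (hAE : A ≤ E) (hEK : E ≤ K)
    (hn : K ≤ normalizer (E : Set G)) :
    (normalClosure ((A.subgroupOf K : Subgroup K) : Set K)).map K.subtype ≤ E := by
  have h1 : (E.subgroupOf K).Normal := (normal_subgroupOf_iff_le_normalizer hEK).mpr hn
  have h2 : normalClosure ((A.subgroupOf K : Subgroup K) : Set K) ≤ E.subgroupOf K :=
    normalClosure_le_normal (SetLike.coe_subset_coe.mpr (comap_mono hAE))
  have h3 := Subgroup.map_mono (f := K.subtype) h2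
  rwa [map_subgroupOf_eq_of_le hEK] at h3

theorem isElementaryAbelian_sSup {G : Type*} [Group G] {p : ℕ} {F : Set (Subgroup G)}
    (hc : ∀ X ∈ F, ∀ X' ∈ F, X' ≤ centralizer (X : Set G)) (hexp : ∀ X ∈ F, ∀ x ∈ X, x ^ p = 1) :
    IsElementaryAbelian p (sSup F) := by
  have hE : sSup F ≤ centralizer ((sSup F : Subgroup G) : Set G) := by
    apply sSup_le
    intro X hX
    rw [le_centralizer_iff]
    apply sSup_le
    intro X' hX'
    exact hc X hX X' hX'
  have h1 : sSup F ≤ omegaSub p (sSup F) hE :=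
    sSup_le fun X hX x hx => ⟨le_sSup hX hx, hexp X hX x hx⟩
  rw [isElementaryAbelian_iff]
  exact ⟨hE, fun a ha => (h1 ha).2⟩

/-- Standing hypotheses: G a finite group, S a Sylow p-subgroup, Q a nontrivial large p-subgroup of G contained in S (C_G(Q) ≤ Q and N_G(U) ≤ N_G(Q) for all nontrivial U ≤ C_G(Q)), and M a subgroup containing S with the basic property (M ∈ 𝔐_G(S)); Y_M denotes the largest p-reduced normal subgroup of M and M† = M·C_G(Y_M). Suppose Y_M is asymmetric in G. Then for every subgroup R with Y_M ≤ R ≤ M†, the normal closure of Y_M in N_G(R) is elementary abelian. -/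
theorem result {G : Type*} [Group G] [Finite G] {p : ℕ} [Fact p.Prime] (S : Sylow p G) (Q : Subgroup G) (hQp : IsPGroup p ↥Q) (hQ1 : Q ≠ ⊥) (hQS : Q ≤ (S : Subgroup G)) (hQ : Cfsg.IsLarge Q) (M : Subgroup G) (hSM : (S : Subgroup G) ≤ M) (hM : Cfsg.IsInFrakM p M) (hasym : ¬ Cfsg.IsSymmetricIn (Cfsg.largestPReducedOf p M)) (R : Subgroup G) (hYR : (Cfsg.largestPReducedOf p M) ≤ R) (hRM : R ≤ (M ⊔ Subgroup.centralizer (((Cfsg.largestPReducedOf p M) : Subgroup G) : Set G))) : Cfsg.IsElementaryAbelian p ((Subgroup.normalClosure ((((Cfsg.largestPReducedOf p M)).subgroupOf (Subgroup.normalizer ((R : Subgroup G) : Set G)) : Subgroup ↥(Subgroup.normalizer ((R : Subgroup G) : Set G))) : Set ↥(Subgroup.normalizer ((R : Subgroup G) : Set G)))).map (Subgroup.normalizer ((R : Subgroup G) : Set G)).subtype) := by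
  have hY := pRed_largest (p := p) M
  have hdag := dagger_le_normalizer (p := p) M
  set Y := Cfsg.largestPReducedOf p M with hYdef
  set NR := Subgroup.normalizer ((R : Subgroup G) : Set G) with hNR
  set F : Set (Subgroup G) := {X | ∃ g ∈ NR, X = ⟪Y, g⟫} with hF
  have hRN : R ≤ normalizer (Y : Set G) := hRM.trans hdag
  have key : ∀ k ∈ NR, ⟪Y, k⟫ ≤ centralizer (Y : Set G) := by
    intro k hk
    have hRk : ⟪R, k⟫ = R := cj_eq_iff_mem_normalizer.mpr hk
    have h1 : ⟪Y, k⟫ ≤ normalizer (Y : Set G) := by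
      have := cj_mono k hYR
      rw [hRk] at this
      exact this.trans hRN
    have h2 : Y ≤ normalizer (⟪Y, k⟫ : Set G) := by
      rw [normalizer_cj]
      have := cj_mono k hRN
      rw [hRk] at this
      exact hYR.trans this
    by_contra hne
    apply hasym
    refine ⟨k, ?_, le_inf (commutator_le_of_le_normalizer' h1) (commutator_le_of_le_normalizer h2)⟩
    intro hb
    apply hne
    rw [commutator_eq_bot_iff_le_centralizer, le_centralizer_iff] at hb
    exact hb
  have hel : IsElementaryAbelian p (sSup F) := by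
    apply isElementaryAbelian_sSup
    · rintro X ⟨g, hg, rfl⟩ X' ⟨g', hg', rfl⟩
      have h1 := key (g⁻¹ * g') (NR.mul_mem (NR.inv_mem hg) hg')
      have h2 := cj_mono g h1
      rwa [cj_cj, mul_inv_cancel_left, ← centralizer_cj] at h2
    · rintro X ⟨g, hg, rfl⟩ _ ⟨y, hy, rfl⟩
      rw [← map_pow, hY.2.2.1.2 y hy, map_one]
  apply IsElementaryAbelian.mono hel
  apply map_normalClosure_le
  · apply le_sSup
    exact ⟨1, NR.one_mem, (cj_one Y).symm⟩
  · apply sSup_le
    rintro X ⟨g, hg, rfl⟩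
    exact cj_le_of_mem hg (hYR.trans le_normalizer)
  · intro k hk
    rw [← cj_eq_iff_mem_normalizer]
    apply cj_eq_of_le
    rw [cj_le_iff]
    apply sSup_le
    rintro X ⟨g, hg, rfl⟩
    rw [← cj_le_iff, cj_cj]
    exact le_sSup ⟨k * g, NR.mul_mem hk hg, rfl⟩

end Cfsg.Agent.S2849
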