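import Cfsg.Statements.S2850
import Cfsg.Agent.Lib.Helper53Asym

set_option autoImplicit false
open Cfsg

namespace Cfsg.Agent.S2850

open Subgroup Cfsg.Agent.Lib.Helper53Basic Cfsg.Agent.Lib.Helper53Rel Cfsg.Agent.Lib.Helper53Syl
open Cfsg.Agent.Lib.Helper53CharP Cfsg.Agent.Lib.Helper53FrakM Cfsg.Agent.Lib.Helper53Exist
open Cfsg.Agent.Lib.Helper53PRed Cfsg.Agent.Lib.Helper53PRed2 Cfsg.Agent.Lib.Helper53PRed3
open Cfsg.Agent.Lib.Helper53WC Cfsg.Agent.Lib.Helper53Large Cfsg.Agent.Lib.Helper53Large2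
open Cfsg.Agent.Lib.Helper53Asym

local notation "⟪" Q ", " g "⟫" => Subgroup.map (MulEquiv.toMonoidHom (MulAut.conj g)) Q

/-- Standing hypotheses: G a finite group, S a Sylow p-subgroup, Q a nontrivial large p-subgroup of G contained in S (C_G(Q) ≤ Q and N_G(U) ≤ N_G(Q) for all nontrivial U ≤ C_G(Q)), and M a subgroup containing S with the basic property (M ∈ 𝔐_G(S)); Y_M denotes the largest p-reduced normal subgroup of M and M† = M·C_G(Y_M). Suppose Y_M is asymmetric in G. Then N_G(L) ≤ N_G(O_p(M)) ≤ M† for every p-subgroup L containing O_p(M); O_p(M) is a weakly closed subgroup of G; for every subgroup L containing O_p(M), L ∩ M† contains a Sylow p-subgroup of L; and two elements of Y_M conjugate in G are conjugate in M. -/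
theorem result {G : Type*} [Group G] [Finite G] {p : ℕ} [Fact p.Prime] (S : Sylow p G) (Q : Subgroup G) (hQp : IsPGroup p ↥Q) (hQ1 : Q ≠ ⊥) (hQS : Q ≤ (S : Subgroup G)) (hQ : Cfsg.IsLarge Q) (M : Subgroup G) (hSM : (S : Subgroup G) ≤ M) (hM : Cfsg.IsInFrakM p M) (hasym : ¬ Cfsg.IsSymmetricIn (Cfsg.largestPReducedOf p M)) : (∀ L : Subgroup G, IsPGroup p ↥L → (Cfsg.pCoreOf p M) ≤ L → Subgroup.normalizer ((L : Subgroup G) : Set G) ≤ Subgroup.normalizer (((Cfsg.pCoreOf p M) : Subgroup G) : Set G) ∧ Subgroup.normalizer (((Cfsg.pCoreOf p M) : Subgroup G) : Set G) ≤ (M ⊔ Subgroup.centralizer (((Cfsg.largestPReducedOf p M) : Subgroup G) : Set G))) ∧ Cfsg.IsWeaklyClosedSubgroup p (Cfsg.pCoreOf p M) ∧ (∀ L : Subgroup G, (Cfsg.pCoreOf p M) ≤ L → Cfsg.IsParabolic p ((L ⊓ (M ⊔ Subgroup.centralizer (((Cfsg.largestPReducedOf p M) : Subgroup G) : Set G))).subgroupOf L)) ∧ (∀ x ∈ (Cfsg.largestPReducedOf p M), ∀ g : G, g * x * g⁻¹ ∈ (Cfsg.largestPReducedOf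 p M) → ∃ m ∈ M, m * x * m⁻¹ = g * x * g⁻¹) := by
  have h : Std p S Q M := ⟨hQp, hQ1, hQS, hQ, hSM, hM⟩
  have hwc := h.asym_wc hasym
  have hNO : Subgroup.normalizer (((Cfsg.pCoreOf p M) : Subgroup G) : Set G) ≤
      (M ⊔ Subgroup.centralizer (((Cfsg.largestPReducedOf p M) : Subgroup G) : Set G)) :=
    h.normalizer_pCoreOf_le.trans h.normalizer_largest_eq.le
  have hY := pRed_largest (p := p) M
  refine ⟨fun L hL hOL => ⟨h.asym_normalizer_le hasym hL hOL, hNO⟩,
    (isWeaklyClosedSubgroup_iff (pCoreOf_isPGroup M)).mpr hwc, ?_, ?_⟩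
  · intro L hOL
    obtain ⟨T, hT, hOT⟩ := exists_isSyl_ge (pCoreOf_isPGroup (p := p) M) hOL
    obtain ⟨P, hP⟩ := hT.exists_sylow
    refine ⟨P, ?_⟩
    rw [hP]
    intro x hx
    exact ⟨hT.le hx, hNO (h.asym_normal hasym hT.isPGroup hOT hx)⟩
  · intro x hx g hgx
    set O := pCoreOf p M with hO
    set Y := largestPReducedOf p M with hYdef
    have hOY : O ≤ centralizer (Y : Set G) := h.isSyl_pCoreOf.le
    set x' := g * x * g⁻¹ with hx'
    have h1 : O ≤ centralizer ({x'} : Set G) := hOY.trans (centralizer_le (by simpa using hgx))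
    have h2 : ⟪O, g⟫ ≤ centralizer ({x'} : Set G) := by
      rintro _ ⟨o, ho, rfl⟩
      rw [mem_centralizer_singleton_iff]
      have h3 : o * x = x * o := ((mem_centralizer_iff.mp (hOY ho)) x hx).symm
      simp only [MulEquiv.coe_toMonoidHom, MulAut.conj_apply, hx']
      calc g * o * g⁻¹ * (g * x * g⁻¹) = g * (o * x) * g⁻¹ := by group
        _ = g * (x * o) * g⁻¹ := by rw [h3]
        _ = g * x * g⁻¹ * (g * o * g⁻¹) := by group
    obtain ⟨k, hk, he⟩ := hwc.conj_in (pCoreOf_isPGroup M) h1 le_top (mem_top g) h2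
    have h4 : k⁻¹ * g ∈ normalizer (O : Set G) := by
      rw [← cj_eq_iff_mem_normalizer, ← cj_cj, he, cj_inv_cj]
    have h5 := hNO h4
    rw [mem_sup_of_le_normalizer (le_normalizer_centralizer hY.2.1)] at h5
    obtain ⟨m, hm, c, hc, hmc⟩ := h5
    refine ⟨m, hm, ?_⟩
    have h6 : c * x = x * c := ((mem_centralizer_iff.mp hc) x hx).symm
    have h7 : k * x' = x' * k := mem_centralizer_singleton_iff.mp hk
    have h8 : g = k * (m * c) := by rw [← hmc]; group
    have h9 : x' = k * (m * x * m⁻¹) * k⁻¹ := by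
      rw [hx', h8]
      calc k * (m * c) * x * (k * (m * c))⁻¹ = k * (m * (c * x) * c⁻¹ * m⁻¹) * k⁻¹ := by group
        _ = k * (m * (x * c) * c⁻¹ * m⁻¹) * k⁻¹ := by rw [h6]
        _ = k * (m * x * m⁻¹) * k⁻¹ := by group
    calc m * x * m⁻¹ = k⁻¹ * (k * (m * x * m⁻¹) * k⁻¹) * k := by group
      _ = k⁻¹ * x' * k := by rw [← h9]
      _ = k⁻¹ * (x' * k) := by group
      _ = k⁻¹ * (k * x') := by rw [h7]
      _ = x' := by group

end Cfsg.Agent.S2850
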