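import Cfsg.Statements.S2851
import Cfsg.Agent.Lib.Helper53FStar

set_option autoImplicit false
open Cfsg

namespace Cfsg.Agent.S2851

open Subgroup Cfsg.Agent.Lib.Helper53Basic Cfsg.Agent.Lib.Helper53Rel Cfsg.Agent.Lib.Helper53Syl
open Cfsg.Agent.Lib.Helper53CharP Cfsg.Agent.Lib.Helper53PRed Cfsg.Agent.Lib.Helper53PRed2
open Cfsg.Agent.Lib.Helper53Asym Cfsg.Agent.Lib.Helper53FStar

/-- Standing hypotheses: G a finite group, S a Sylow p-subgroup, Q a nontrivial large p-subgroup of G contained in S, M a subgroup containing S with the basic property (M ∈ 𝔐_G(S)); Y_M the largest p-reduced normal subgroup of M and M† = M·C_G(Y_M). Let F be the preimage in M† of the generalized Fitting subgroup of M†/C_{M†}(Y_M). If Y_M is asymmetric in G and H is a subgroup of characteristic p containing F, then Y_M ≤ Y_H. -/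
theorem result {G : Type*} [Group G] [Finite G] {p : ℕ} [Fact p.Prime] (S : Sylow p G) (Q : Subgroup G) (hQp : IsPGroup p ↥Q) (hQ1 : Q ≠ ⊥) (hQS : Q ≤ (S : Subgroup G)) (hQ : Cfsg.IsLarge Q) (M : Subgroup G) (hSM : (S : Subgroup G) ≤ M) (hM : Cfsg.IsInFrakM p M) (hasym : ¬ Cfsg.IsSymmetricIn (Cfsg.largestPReducedOf p M)) [hn : ((Subgroup.centralizer (((Cfsg.largestPReducedOf p M) : Subgroup G) : Set G)).subgroupOf (M ⊔ Subgroup.centralizer (((Cfsg.largestPReducedOf p M) : Subgroup G) : Set G))).Normal] (F : Subgroup G) (hF : F = ((Cfsg.generalizedFittingSubgroup (↥(M ⊔ Subgroup.centralizer (((Cfsg.largestPReducedOf p M) : Subgroup G) : Set G)) ⧸ (Subgroup.centralizer (((Cfsg.largestPReducedOf p M) : Subgroup G) : Set G)).subgroupOf (M ⊔ Subgroup.centralizer (((Cfsg.largestPReducedOf p M) : Subgroup G) : Set G)))).comap (QuotientGroup.mk' ((Subgroup.centralizer (((Cfsg.largestPReducedOf p M) : Subgroup G) : Set G)).subgroupOf (M ⊔ Subgroup.centralizer (((Cfsg.largestPReducedOf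 p M) : Subgroup G) : Set G))))).map ((M ⊔ Subgroup.centralizer (((Cfsg.largestPReducedOf p M) : Subgroup G) : Set G))).subtype) (H : Subgroup G) (hFH : F ≤ H) (hH : Subgroup.centralizer (Cfsg.pCore p ↥H : Set ↥H) ≤ Cfsg.pCore p ↥H) : (Cfsg.largestPReducedOf p M) ≤ Cfsg.largestPReducedOf p H := by
  have h : Std p S Q M := ⟨hQp, hQ1, hQS, hQ, hSM, hM⟩
  have hNO : Subgroup.normalizer (((Cfsg.pCoreOf p M) : Subgroup G) : Set G) ≤
      (M ⊔ Subgroup.centralizer (((Cfsg.largestPReducedOf p M) : Subgroup G) : Set G)) :=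
    h.normalizer_pCoreOf_le.trans h.normalizer_largest_eq.le
  have hYO := h.largest_le
  have hOC := h.isSyl_pCoreOf.le
  have hYM := pRed_largest (p := p) M
  have hYMd : PRed p (Cfsg.largestPReducedOf p M)
      (M ⊔ Subgroup.centralizer (((Cfsg.largestPReducedOf p M) : Subgroup G) : Set G)) := by
    have h1 := pRed_largest (p := p)
      (M ⊔ Subgroup.centralizer (((Cfsg.largestPReducedOf p M) : Subgroup G) : Set G))
    unfold Cfsg.IsInFrakM at hM
    rwa [← hM.2.2.2.1] at h1
  set Y := Cfsg.largestPReducedOf p M with hY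
  set Md := M ⊔ Subgroup.centralizer ((Y : Subgroup G) : Set G) with hMd
  have hCF : centralizer (Y : Set G) ≤ F := by
    intro c hc
    rw [hF]
    refine ⟨⟨c, le_sup_right (a := M) hc⟩, ?_, rfl⟩
    rw [SetLike.mem_coe, mem_comap]
    have h1 : QuotientGroup.mk' ((centralizer (Y : Set G)).subgroupOf Md)
        ⟨c, le_sup_right (a := M) hc⟩ = 1 := by
      rw [QuotientGroup.mk'_apply, QuotientGroup.eq_one_iff, mem_subgroupOf]
      exact hc
    rw [h1]
    exact Subgroup.one_mem _
  have hFMd : F ≤ Md := by rw [hF]; exact map_subtype_le _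
  have hOH : Cfsg.pCoreOf p M ≤ H := (hOC.trans hCF).trans hFH
  have hHc : CharP p H := (charP_iff' H).mp hH
  obtain ⟨T, hT, hOT⟩ := exists_isSyl_ge (pCoreOf_isPGroup (p := p) M) hOH
  have hTMd : T ≤ Md := (h.asym_normal hasym hT.isPGroup hOT).trans hNO
  have hOpH : pCoreOf p H ≤ centralizer (Y : Set G) := by
    apply le_centralizer_of_gfit hYMd hF ((pCoreOf_le_isSyl hT).trans hTMd)
      (hFH.trans (le_normalizer_pCoreOf H))
    intro d hd
    obtain ⟨k, hk⟩ := pCoreOf_isPGroup (p := p) H ⟨d, hd⟩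
    refine ⟨k, ?_⟩
    have : d ^ p ^ k = 1 := by simpa using congrArg Subtype.val hk
    rw [this]; exact Subgroup.one_mem _
  have hYc : Y ≤ centralizer (pCoreOf p H : Set G) := le_centralizer_iff.mp hOpH
  apply le_largest_of hT (le_inf ((le_inf (hYO.trans hOH) hYc).trans hHc) hYc) hYM.2.2.1.2
  intro D hDH hHD hpow
  have h1 : D ⊓ Md ≤ centralizer (Y : Set G) := by
    apply le_centralizer_of_gfit hYMd hF inf_le_right
      (le_normalizer_inf (hFH.trans hHD) (hFMd.trans le_normalizer))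
    intro d hd
    exact hpow d hd.1
  exact (le_inf inf_le_right (inf_le_left.trans hTMd)).trans h1

end Cfsg.Agent.S2851
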