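import Cfsg.Statements.S2853
import Cfsg.Agent.Lib.Helper53FrakH

set_option autoImplicit false
open Cfsg

namespace Cfsg.Agent.S2853

open Subgroup Cfsg.Agent.Lib.Helper53Basic Cfsg.Agent.Lib.Helper53Rel Cfsg.Agent.Lib.Helper53Syl
open Cfsg.Agent.Lib.Helper53Asym Cfsg.Agent.Lib.Helper53FrakH

/-- Standing hypotheses: G a finite group, S a Sylow p-subgroup, Q a nontrivial large p-subgroup of G contained in S, M a subgroup containing S with the basic property (M ∈ 𝔐_G(S)); Y_M the largest p-reduced normal subgroup of M and M† = M·C_G(Y_M). Suppose Y_M is char-p-tall and asymmetric in G and H ∈ ℌ_G(O_p(M)). Then every Sylow p-subgroup of H ∩ M† is a Sylow p-subgroup of H; O_p(H) normalizes O_p(M) and Y_M; O^p(H) = [O^p(H), Y_M] and H = O^p(H)·O_p(M); O^p(H)·Y_M is the normal closure of Y_M in H; and H is the normal closure of O_p(M) in H. Here O^p(H) is the subgroup generated by the elements of H of order prime to p. -/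
theorem result {G : Type*} [Group G] [Finite G] {p : ℕ} [Fact p.Prime] (S : Sylow p G) (Q : Subgroup G) (hQp : IsPGroup p ↥Q) (hQ1 : Q ≠ ⊥) (hQS : Q ≤ (S : Subgroup G)) (hQ : Cfsg.IsLarge Q) (M : Subgroup G) (hSM : (S : Subgroup G) ≤ M) (hM : Cfsg.IsInFrakM p M) (htall : Cfsg.IsCharPTall p (Cfsg.largestPReducedOf p M)) (hasym : ¬ Cfsg.IsSymmetricIn (Cfsg.largestPReducedOf p M)) (H : Subgroup G) (hH : Cfsg.IsInFrakH p M H) (R : Subgroup G) (hR : R = (Cfsg.pResidual p ↥H).map H.subtype) : (∀ T : Sylow p ↥(H ⊓ (M ⊔ Subgroup.centralizer (((Cfsg.largestPReducedOf p M) : Subgroup G) : Set G))), ∃ P : Sylow p ↥H, ((P : Subgroup ↥H).map H.subtype) = (T : Subgroup ↥(H ⊓ (M ⊔ Subgroup.centralizer (((Cfsg.largestPReducedOf p M) : Subgroup G) : Set G)))).map (H ⊓ (M ⊔ Subgroup.centralizer (((Cfsg.largestPReducedOf p M) : Subgroup G) : Set G))).subtype) ∧ Cfsg.pCoreOf p H ≤ Subgroup.normalizer (((Cfsg.pCoreOf p M) : Subgroup G) : Set G) ⊓ Subgroup.normalizer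 (((Cfsg.largestPReducedOf p M) : Subgroup G) : Set G) ∧ ⁅R, (Cfsg.largestPReducedOf p M)⁆ = R ∧ R ⊔ (Cfsg.pCoreOf p M) = H ∧ R ⊔ (Cfsg.largestPReducedOf p M) = (Subgroup.normalClosure ((((Cfsg.largestPReducedOf p M)).subgroupOf H : Subgroup ↥H) : Set ↥H)).map H.subtype ∧ (Subgroup.normalClosure ((((Cfsg.pCoreOf p M)).subgroupOf H : Subgroup ↥H) : Set ↥H)).map H.subtype = H := by
  have h : Std p S Q M := ⟨hQp, hQ1, hQS, hQ, hSM, hM⟩
  have hNO : Subgroup.normalizer (((Cfsg.pCoreOf p M) : Subgroup G) : Set G) ≤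
      (M ⊔ Subgroup.centralizer (((Cfsg.largestPReducedOf p M) : Subgroup G) : Set G)) :=
    h.normalizer_pCoreOf_le.trans h.normalizer_largest_eq.le
  have hOH := hH.2.1
  subst hR
  refine ⟨?_, ?_, frakH_commutator h hH, frakH_pRes_sup hH, ?_, ?_⟩
  · intro T
    have hT := isSyl_of_sylow T
    obtain ⟨T₂, hT₂, hOT₂⟩ := exists_isSyl_ge (pCoreOf_isPGroup (p := p) M) hOH
    have hT₂M := (h.asym_normal hasym hT₂.isPGroup hOT₂).trans hNO
    obtain ⟨x, hx, he⟩ := (hT₂.mono (le_inf hT₂.le hT₂M) inf_le_left).conj hT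
    have hTH := hT₂.cj_mem (inf_le_left (a := H) hx)
    rw [← he] at hTH
    obtain ⟨P, hP⟩ := hTH.exists_sylow
    exact ⟨P, by rw [hP, map_subgroupOf_eq_of_le hTH.le]⟩
  · have h1 : IsPGroup p ↥(Cfsg.pCoreOf p H ⊔ Cfsg.pCoreOf p M) :=
      (pCoreOf_isPGroup H).to_sup_of_normal_left' (pCoreOf_isPGroup M)
        (hOH.trans (le_normalizer_pCoreOf H))
    have h2 := le_sup_left.trans (h.asym_normal hasym h1 le_sup_right)
    exact le_inf h2 (h2.trans h.normalizer_pCoreOf_le)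
  · rw [map_normalClosure_eq_ncl (h.largest_le.trans hOH), frakH_ncl_largest h hH]
  · rw [map_normalClosure_eq_ncl hOH, frakH_ncl_eq hH]

end Cfsg.Agent.S2853
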