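import Cfsg.Statements.S2854
import Cfsg.Agent.Lib.Helper53FrakH2

set_option autoImplicit false
open Cfsg

namespace Cfsg.Agent.S2854

open Subgroup Cfsg.Agent.Lib.Helper53Basic Cfsg.Agent.Lib.Helper53Rel Cfsg.Agent.Lib.Helper53Syl
open Cfsg.Agent.Lib.Helper53Min Cfsg.Agent.Lib.Helper53PIrr
open Cfsg.Agent.Lib.Helper53Asym Cfsg.Agent.Lib.Helper53FrakH Cfsg.Agent.Lib.Helper53FrakH2

local notation "⟪" Q ", " g "⟫" => Subgroup.map (MulEquiv.toMonoidHom (MulAut.conj g)) Q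

/-- Standing hypotheses: G a finite group, S a Sylow p-subgroup, Q a nontrivial large p-subgroup of G contained in S, M a subgroup containing S with the basic property (M ∈ 𝔐_G(S)); Y_M the largest p-reduced normal subgroup of M and M† = M·C_G(Y_M). Suppose Y_M is asymmetric in G, H ∈ ℌ_G(O_p(M)), and H ≤ N_G(gQg⁻¹) for some g ∈ G. Then gQg⁻¹ ≤ O_p(H·gQg⁻¹) ≤ N_G(O_p(M)) ≤ N_G(Y_M) = M†; H is normal in H·gQg⁻¹ with O^p(H) = O^p(H·gQg⁻¹); and H·gQg⁻¹ is p-irreducible. -/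
theorem result {G : Type*} [Group G] [Finite G] {p : ℕ} [Fact p.Prime] (S : Sylow p G) (Q : Subgroup G) (hQp : IsPGroup p ↥Q) (hQ1 : Q ≠ ⊥) (hQS : Q ≤ (S : Subgroup G)) (hQ : Cfsg.IsLarge Q) (M : Subgroup G) (hSM : (S : Subgroup G) ≤ M) (hM : Cfsg.IsInFrakM p M) (hasym : ¬ Cfsg.IsSymmetricIn (Cfsg.largestPReducedOf p M)) (H : Subgroup G) (hH : Cfsg.IsInFrakH p M H) (g : G) (hHQ : H ≤ Subgroup.normalizer ((((Q : Subgroup G).map (MulAut.conj (g : G)).toMonoidHom) : Subgroup G) : Set G)) : ((Q : Subgroup G).map (MulAut.conj (g : G)).toMonoidHom) ≤ Cfsg.pCoreOf p (H ⊔ ((Q : Subgroup G).map (MulAut.conj (g : G)).toMonoidHom)) ∧ Cfsg.pCoreOf p (H ⊔ ((Q : Subgroup G).map (MulAut.conj (g : G)).toMonoidHom)) ≤ Subgroup.normalizer (((Cfsg.pCoreOf p M) : Subgroup G) : Set G) ∧ Subgroup.normalizer (((Cfsg.pCoreOf p M) : Subgroup G) : Set G) ≤ Subgroup.normalizer (((Cfsg.largestPReducedOf p M) : Subgroup G) : Set G) ∧ Subgroup.normalizer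 (((Cfsg.largestPReducedOf p M) : Subgroup G) : Set G) = (M ⊔ Subgroup.centralizer (((Cfsg.largestPReducedOf p M) : Subgroup G) : Set G)) ∧ (H.subgroupOf (H ⊔ ((Q : Subgroup G).map (MulAut.conj (g : G)).toMonoidHom))).Normal ∧ (Cfsg.pResidual p ↥H).map H.subtype = (Cfsg.pResidual p ↥(H ⊔ ((Q : Subgroup G).map (MulAut.conj (g : G)).toMonoidHom))).map (H ⊔ ((Q : Subgroup G).map (MulAut.conj (g : G)).toMonoidHom)).subtype ∧ Cfsg.IsPIrreducible p ↥(H ⊔ ((Q : Subgroup G).map (MulAut.conj (g : G)).toMonoidHom)) := by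
  have h : Std p S Q M := ⟨hQp, hQ1, hQS, hQ, hSM, hM⟩
  have hOH := hH.2.1
  have hYO := h.largest_le
  have hQgp : IsPGroup p ⟪Q, g⟫ := isPGroup_cj hQp g
  set Qg := ⟪Q, g⟫ with hQg
  set X := H ⊔ Qg with hX
  set O := Cfsg.pCoreOf p M with hO
  set Y := Cfsg.largestPReducedOf p M with hY
  have hXQ : X ≤ normalizer (Qg : Set G) := sup_le hHQ le_normalizer
  have h1 : Qg ≤ Cfsg.pCoreOf p X := le_pCoreOf le_sup_right hXQ hQgp
  have h2 : Cfsg.pCoreOf p X ≤ normalizer (O : Set G) := by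
    have h3 : IsPGroup p ↥(Cfsg.pCoreOf p X ⊔ O) :=
      (pCoreOf_isPGroup X).to_sup_of_normal_left' (pCoreOf_isPGroup M)
        ((hOH.trans le_sup_left).trans (le_normalizer_pCoreOf X))
    exact le_sup_left.trans (h.asym_normal hasym h3 le_sup_right)
  have hQH : Qg ≤ normalizer (H : Set G) := by
    intro x hx
    rw [← cj_eq_iff_mem_normalizer]
    apply cj_eq_of_le
    conv_lhs => rw [← frakH_ncl_eq hH]
    rw [cj_le_iff]
    apply sSup_le
    rintro _ ⟨u, hu, rfl⟩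
    rw [← cj_le_iff, cj_cj]
    have hx' : u⁻¹ * x * u ∈ Qg := by
      have := cj_eq_of_le_normalizer hHQ (H.inv_mem hu)
      rw [← this, mem_cj]
      simpa [mul_assoc] using hx
    have he : x * u = u * (u⁻¹ * x * u) := by group
    rw [he, ← cj_cj, cj_eq_of_le_normalizer (h1.trans h2) hx']
    exact cj_le_of_mem hu hOH
  have hXH : X ≤ normalizer (H : Set G) := sup_le le_normalizer hQH
  have hres : (Cfsg.pResidual p ↥H).map H.subtype = (Cfsg.pResidual p ↥X).map X.subtype := by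
    apply le_antisymm (pRes_mono le_sup_left)
    rw [pRes_eq_closure, closure_le]
    rintro x ⟨hx, hc⟩
    apply mem_pRes _ hc
    rw [sup_comm] at hx
    obtain ⟨k, hk⟩ := exists_pow_mem_of_mem_sup hQH hQgp hx
    exact mem_of_pow_mem_of_coprime (Nat.Coprime.pow_right k hc) hk
  refine ⟨h1, h2, h.normalizer_pCoreOf_le, h.normalizer_largest_eq,
    (normal_subgroupOf_iff_le_normalizer le_sup_left).mpr hXH, hres, ?_⟩
  rw [isPIrreducible_iff]
  constructor
  · intro hc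
    apply hH.2.2.1
    have h3 := isPGroup_le_pCoreOf_of_isPClosed hc ((pCoreOf_isPGroup M).to_le hYO)
      ((hYO.trans hOH).trans le_sup_left)
    exact (le_inf h3 (hYO.trans hOH)).trans (pCoreOf_inf_le le_sup_left)
  · intro N hNX hXN hNc
    rw [← hres]
    have hW : N ⊔ Qg ≤ X := sup_le hNX le_sup_right
    have hded : Qg ⊔ (H ⊓ (N ⊔ Qg)) = N ⊔ Qg := by
      rw [← dedekind (A := Qg) (B := H) (C := N ⊔ Qg) le_sup_right hHQ, sup_comm, ← hX]
      exact inf_eq_right.mpr hW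
    have hHN₂ : H ≤ normalizer ((H ⊓ (N ⊔ Qg) : Subgroup G) : Set G) :=
      le_normalizer_inf le_normalizer (le_normalizer_sup (le_sup_left.trans hXN) hHQ)
    rcases frakH_normal h hH (N₂ := H ⊓ (N ⊔ Qg)) inf_le_left hHN₂ with h3 | h3
    · apply pRes_le_of_forall_pow_mem
      intro x hx
      obtain ⟨a, ha⟩ := exists_pow_mem_pRes (p := p) hx
      have h4 : x ^ p ^ a ∈ Qg ⊔ N := by
        rw [sup_comm]; exact inf_le_right (a := H) (h3 ha)
      obtain ⟨b, hb⟩ := exists_pow_mem_of_mem_sup (le_sup_right.trans hXN) hQgp h4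
      exact ⟨a + b, by rw [pow_add, pow_mul]; exact hb⟩
    · exfalso
      apply hNc
      have h4 := isPClosed_sup h3 hQgp (inf_le_left.trans hHQ)
      rw [sup_comm, hded] at h4
      exact isPClosed_of_normal_le le_sup_left (hW.trans hXN) h4

end Cfsg.Agent.S2854
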