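import Cfsg.Statements.S2855
import Cfsg.Agent.Lib.Helper53SPI
import Cfsg.Agent.Lib.Helper53WCl

set_option autoImplicit false
open Cfsg

namespace Cfsg.Agent.S2855

open Subgroup Cfsg.Agent.Lib.Helper53Basic Cfsg.Agent.Lib.Helper53Rel Cfsg.Agent.Lib.Helper53Syl
open Cfsg.Agent.Lib.Helper53Min Cfsg.Agent.Lib.Helper53Comm Cfsg.Agent.Lib.Helper53PIrr
open Cfsg.Agent.Lib.Helper53Subn Cfsg.Agent.Lib.Helper53PMin Cfsg.Agent.Lib.Helper53SPI
open Cfsg.Agent.Lib.Helper53WCl
open scoped commutatorElement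

local notation "⟪" Q ", " g "⟫" => Subgroup.map (MulEquiv.toMonoidHom (MulAut.conj g)) Q

/-- Let H be a finite group, p a prime, and 𝒦 a nonempty set of subgroups of H permuted transitively by conjugation, with R the subgroup generated by the members of 𝒦. Suppose O^p(H) ≤ R, each E ∈ 𝒦 has E·O_p(H) normal in R·O_p(H), and each E ∈ 𝒦 is p-minimal (generated by the conjugates of a Sylow p-subgroup T_E of E, with T_E in exactly one maximal subgroup of E). Then H is p-minimal in the same sense. If instead each E ∈ 𝒦 is strongly p-irreducible, then H is p-irreducible and, for E, K ∈ 𝒦, either O^p(E·O_p(H)) = O^p(K·O_p(H)) or [E, K] ≤ O_p(H). -/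
theorem result {H : Type*} [Group H] [Finite H] {p : ℕ} [Fact p.Prime] (𝒦 : Set (Subgroup H)) (hne : 𝒦.Nonempty) (hinv : ∀ h : H, ∀ E ∈ 𝒦, E.map (MulAut.conj h).toMonoidHom ∈ 𝒦) (htr : ∀ E ∈ 𝒦, ∀ K ∈ 𝒦, ∃ h : H, K = E.map (MulAut.conj h).toMonoidHom) (hres : Cfsg.pResidual p H ≤ sSup 𝒦) (hnorm : ∀ E ∈ 𝒦, sSup 𝒦 ⊔ Cfsg.pCore p H ≤ Subgroup.normalizer ((E ⊔ Cfsg.pCore p H : Subgroup H) : Set H)) : ((∀ E ∈ 𝒦, ∀ T : Sylow p ↥E, Cfsg.IsMinimalOver (T : Subgroup ↥E)) → ∀ T : Sylow p H, Cfsg.IsMinimalOver (T : Subgroup H)) ∧ ((∀ E ∈ 𝒦, Cfsg.IsStronglyPIrreducible p ↥E) → Cfsg.IsPIrreducible p H ∧ ∀ E ∈ 𝒦, ∀ K ∈ 𝒦, (Cfsg.pResidual p ↥(E ⊔ Cfsg.pCore p H)).map (E ⊔ Cfsg.pCore p H).subtype = (Cfsg.pResidual p ↥(K ⊔ Cfsg.pCore p H)).map (K ⊔ Cfsg.pCore p H).subtype ∨ ⁅E, K⁆ ≤ Cfsg.pCore p H) := by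
  set P := Cfsg.pCore p H with hP
  set R := sSup 𝒦 with hR
  have hPn : P.Normal := inferInstance
  have hPp : IsPGroup p P := pCore_isPGroup p H
  have hNP : ∀ K : Subgroup H, K ≤ normalizer (P : Set H) := by
    intro K; rw [normalizer_eq_top]; exact le_top
  have hRinv : ∀ K : Subgroup H, K ≤ normalizer (R : Set H) := by
    intro K h _
    rw [← cj_eq_iff_mem_normalizer]
    apply cj_eq_of_le
    rw [cj_le_iff]
    apply sSup_le
    intro E hE
    rw [← cj_le_iff]
    exact le_sSup (hinv h E hE)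
  have hRhn : ∀ K : Subgroup H, K ≤ normalizer ((R ⊔ P : Subgroup H) : Set H) :=
    fun K => le_normalizer_sup (hRinv K) (hNP K)
  have hER : ∀ E ∈ 𝒦, E ⊔ P ≤ R ⊔ P := fun E hE => sup_le_sup_right (le_sSup hE) P
  have hcoreR : Cfsg.pCoreOf p (R ⊔ P) = P := by
    apply le_antisymm
    · have := pCoreOf_le_of_normal (p := p) (le_top : R ⊔ P ≤ ⊤) (hRhn ⊤)
      rwa [pCoreOf_top] at this
    · exact le_pCoreOf le_sup_right (hNP _) hPp
  have hcoreE : ∀ E ∈ 𝒦, Cfsg.pCoreOf p (E ⊔ P) = P := by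
    intro E hE
    apply le_antisymm
    · have := pCoreOf_le_of_normal (p := p) (hER E hE) (hnorm E hE)
      rwa [hcoreR] at this
    · exact le_pCoreOf le_sup_right (hNP _) hPp
  have hhat : ∀ (E : Subgroup H) (h : H), ⟪E, h⟫ ⊔ P = ⟪E ⊔ P, h⟫ := by
    intro E h
    rw [cj_sup, cj_eq_of_le_normalizer (hNP ⊤) (mem_top h)]
  obtain ⟨E₀, hE₀⟩ := hne
  have hRT : ∀ T : Sylow p H, (R ⊔ P) ⊔ (T : Subgroup H) = ⊤ := by
    intro T
    rw [← top_le_iff, ← pResidual_sup_sylow T]
    exact sup_le_sup_right (hres.trans le_sup_left) _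
  constructor
  · intro hmin T
    have hT : IsSyl p (T : Subgroup H) ⊤ := isSyl_of_sylow_le T le_top
    have hsyl : IsSyl p ((T : Subgroup H) ⊓ (E₀ ⊔ P)) (E₀ ⊔ P) := by
      have := (hT.inf_normal le_top (hRhn ⊤)).inf_normal (hER E₀ hE₀) (hnorm E₀ hE₀)
      rwa [inf_assoc, inf_eq_right.mpr (hER E₀ hE₀)] at this
    obtain ⟨M₀, hM₀⟩ := exists_relMin_sup (hmin E₀ hE₀) hPp (hNP E₀) hsyl
    have hgen : ∀ M : Subgroup H, (T : Subgroup H) ≤ M → E₀ ⊔ P ≤ M → M = ⊤ := by
      intro M hTM hFM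
      rw [← top_le_iff, ← pResidual_sup_sylow T]
      apply sup_le _ hTM
      apply hres.trans
      apply sSup_le
      intro E hE
      obtain ⟨h, rfl⟩ := htr E₀ hE₀ E hE
      have hh : h ∈ (T : Subgroup H) ⊔ (R ⊔ P) := by rw [sup_comm, hRT T]; exact mem_top h
      rw [mem_sup_of_le_normalizer (hRhn _)] at hh
      obtain ⟨t, ht, r, hr, rfl⟩ := hh
      calc ⟪E₀, t * r⟫ ≤ ⟪E₀ ⊔ P, t * r⟫ := cj_mono _ le_sup_left
        _ = ⟪E₀ ⊔ P, t⟫ := by rw [← cj_cj, cj_eq_of_le_normalizer (hnorm E₀ hE₀) hr]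
        _ ≤ M := cj_le_of_mem (hTM ht) hFM
    obtain ⟨M, hM⟩ := relMin_top_of hRhn (hRT T) (hER E₀ hE₀) (hnorm E₀ hE₀) hgen hsyl hM₀
    exact isMinimalOver_of_relMin_top hM
  · intro hspi
    have hS : ∀ E ∈ 𝒦, SPI p (E ⊔ P) := fun E hE =>
      (spi_of (hspi E hE)).sup hPp (hNP E) (hcoreE E hE)
    have hG : ∀ E ∈ 𝒦, GenP p (E ⊔ P) := fun E hE => (hS E hE).genP
    have hGR : GenP p (R ⊔ P) := by
      intro C hC
      have h1 : ∀ E ∈ 𝒦, E ⊔ P ≤ C := fun E hE =>
        hG E hE C (fun S hS hp => hC S (hS.trans (hER E hE)) hp)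
      exact sup_le (sSup_le fun E hE => le_sup_left.trans (h1 E hE)) (le_sup_right.trans (h1 E₀ hE₀))
    refine ⟨⟨?_, ?_⟩, ?_⟩
    · intro hc
      apply (hspi E₀ hE₀).1
      have h1 : Cfsg.IsPClosed p ↥(⊤ : Subgroup H) := (isPClosed_congr Subgroup.topEquiv).mpr hc
      exact isPClosed_of_le le_top h1
    · intro N hNn hNc
      by_contra hno
      apply hNc
      have hNN : ∀ K : Subgroup H, K ≤ normalizer (N : Set H) := by
        intro K; rw [normalizer_eq_top]; exact le_top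
      -- Step A
      have hA : ∀ E ∈ 𝒦, ¬ (Cfsg.pResidual p ↥(E ⊔ P)).map (E ⊔ P).subtype ≤ N := by
        intro E hE hle
        apply hno
        have h1 : ∀ E' ∈ 𝒦, (Cfsg.pResidual p ↥(E' ⊔ P)).map (E' ⊔ P).subtype ≤ N := by
          intro E' hE'
          obtain ⟨h, rfl⟩ := htr E hE E' hE'
          rw [hhat, pRes_cj, ← cj_eq_of_le_normalizer (hNN ⊤) (mem_top h)]
          exact cj_mono h hle
        have h2 := pow_mem_of_sSup (p := p) (𝒮 := {D | ∃ E ∈ 𝒦, D = E ⊔ P}) (L := R ⊔ P) (C := N)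
          (hNN _) (by
            rintro _ ⟨E', hE', rfl⟩
            refine ⟨hER E' hE', hnorm E' hE', fun d hd => ?_⟩
            obtain ⟨k, hk⟩ := exists_pow_mem_pRes (p := p) hd
            exact ⟨k, h1 E' hE' hk⟩)
        have h3 : R ≤ sSup {D | ∃ E ∈ 𝒦, D = E ⊔ P} :=
          sSup_le fun E' hE' => le_sup_left.trans (le_sSup ⟨E', hE', rfl⟩)
        rw [← pRes_top, pRes_eq_closure, closure_le]
        rintro g ⟨-, hg⟩
        have h4 : g ∈ Cfsg.pResidual p H := by
          rw [← pRes_top]; exact mem_pRes (mem_top g) hg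
        obtain ⟨k, hk⟩ := h2 g (h3 (hres h4))
        exact mem_of_pow_mem_of_coprime (Nat.Coprime.pow_right k hg) hk
      -- Step B
      set N₁ := N ⊓ (R ⊔ P) with hN₁
      have hB : ∀ E ∈ 𝒦, ⁅E ⊔ P, N₁⁆ ≤ P := by
        intro E hE
        have h1 : N₁ ≤ normalizer ((E ⊔ P : Subgroup H) : Set H) := inf_le_right.trans (hnorm E hE)
        have h2 := comm_le_of_genP (hG E hE) h1
        rw [hcoreE E hE] at h2
        apply h2
        have h3 : ⁅E ⊔ P, N₁⁆ ≤ N ⊓ (E ⊔ P) :=
          le_inf ((commutator_mono le_rfl inf_le_left).trans (commutator_le_of_le_normalizer (hNN _)))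
            (commutator_le_of_le_normalizer' h1)
        refine (commutator_mono h3 le_rfl).trans ?_
        by_contra hc
        apply hA E hE
        refine ((hS E hE).2 (N ⊓ (E ⊔ P)) inf_le_right (le_normalizer_inf (hNN _) le_normalizer) ?_).trans
          inf_le_left
        rwa [hcoreE E hE]
      have hB' : ⁅N₁, R ⊔ P⁆ ≤ P := by
        have h1 : R ⊔ P ≤ commStab N₁ P := by
          have h2 : ∀ E ∈ 𝒦, E ⊔ P ≤ commStab N₁ P := by
            intro E hE f hf
            refine ⟨hNP ⊤ (mem_top f), fun n hn => ?_⟩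
            apply hB E hE
            rw [commutator_comm]
            exact commutator_mem_commutator hn hf
          exact sup_le (sSup_le fun E hE => le_sup_left.trans (h2 E hE))
            (le_sup_right.trans (h2 E₀ hE₀))
        rw [commutator_le]
        intro n hn f hf
        exact (h1 hf).2 n hn
      -- Step C
      have hC : ⁅R ⊔ P, N⁆ ≤ P := by
        have h2 := comm_le_of_genP hGR (hRhn N)
        rw [hcoreR] at h2
        apply h2
        have h3 : ⁅R ⊔ P, N⁆ ≤ N₁ :=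
          le_inf (commutator_le_of_le_normalizer (hNN _)) (commutator_le_of_le_normalizer' (hRhn _))
        exact (commutator_mono h3 le_rfl).trans hB'
      -- Step D
      obtain ⟨T⟩ : Nonempty (Sylow p H) := inferInstance
      have hT : IsSyl p (T : Subgroup H) ⊤ := isSyl_of_sylow_le T le_top
      have hY : IsSyl p ((T : Subgroup H) ⊓ N) N := hT.inf_normal le_top (hNN ⊤)
      set Y := (T : Subgroup H) ⊓ N with hYdef
      have hYP : Y ⊔ P ≤ P := by
        apply le_pCore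
        · rw [← normalizer_eq_top_iff, ← top_le_iff, ← hRT T]
          apply sup_le
          · apply le_normalizer_of_commutator_le
            apply commutator_sup_le _ _ (le_sup_left.trans le_normalizer)
              (le_sup_right.trans le_normalizer)
            · exact ((commutator_mono le_rfl inf_le_right).trans hC).trans le_sup_right
            · exact (commutator_le_of_le_normalizer (hNP _)).trans le_sup_right
          · exact le_normalizer_sup (le_normalizer_inf le_normalizer (hNN _)) (hNP _)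
        · exact hY.isPGroup.to_sup_of_normal_right' hPp (hNP _)
      have hYe : N ⊓ P = Y :=
        hY.eq_of_le (hPp.to_le inf_le_right) inf_le_left (le_inf hY.le (le_sup_left.trans hYP))
      apply isPClosed_of_isSyl hY
      rw [← hYe]
      exact le_normalizer_inf le_normalizer (hNP _)
    · intro E hE K hK
      have hKE : K ⊔ P ≤ normalizer ((E ⊔ P : Subgroup H) : Set H) := (hER K hK).trans (hnorm E hE)
      have hEK : E ⊔ P ≤ normalizer ((K ⊔ P : Subgroup H) : Set H) := (hER E hE).trans (hnorm K hK)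
      by_cases hc : ⁅(E ⊔ P) ⊓ (K ⊔ P), E ⊔ P⁆ ≤ P
      · right
        have h2 := comm_le_of_genP (hG E hE) hKE
        rw [hcoreE E hE] at h2
        refine (commutator_mono le_sup_left le_sup_left).trans (h2 ?_)
        refine (commutator_mono ?_ le_rfl).trans hc
        exact le_inf (commutator_le_of_le_normalizer' hKE) (commutator_le_of_le_normalizer hEK)
      · left
        have h1 := (hS E hE).2 ((E ⊔ P) ⊓ (K ⊔ P)) inf_le_left
          (le_normalizer_inf le_normalizer hEK) (by rwa [hcoreE E hE])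
        have h2 : (Cfsg.pResidual p ↥(E ⊔ P)).map (E ⊔ P).subtype ≤
            (Cfsg.pResidual p ↥(K ⊔ P)).map (K ⊔ P).subtype := by
          rw [← pRes_pRes (E ⊔ P)]
          exact pRes_mono (h1.trans inf_le_right)
        apply Subgroup.eq_of_le_of_card_ge h2
        obtain ⟨h, rfl⟩ := htr E hE K hK
        rw [hhat, pRes_cj, card_cj]

end Cfsg.Agent.S2855
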