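import Cfsg.Statements.S2859
import Cfsg.Agent.Lib.Helper53WCl

set_option autoImplicit false
open Cfsg

namespace Cfsg.Agent.S2859

open Subgroup Cfsg.Agent.Lib.Helper53Basic Cfsg.Agent.Lib.Helper53Rel Cfsg.Agent.Lib.Helper53Syl
open Cfsg.Agent.Lib.Helper53Min Cfsg.Agent.Lib.Helper53WC Cfsg.Agent.Lib.Helper53Large2
open Cfsg.Agent.Lib.Helper53FrakH Cfsg.Agent.Lib.Helper53WCl

local notation "⟪" Q ", " g "⟫" => Subgroup.map (MulEquiv.toMonoidHom (MulAut.conj g)) Q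

/-- Let Q be a nontrivial p-subgroup of the finite group H that is a weakly closed subgroup, H° the weak closure of Q in H (generated by the conjugates of Q) and H_∘ = O^p(H°). Suppose H₁, H₂ are normal subgroups of H° with H° = H₁H₂ and [H₁, H₂] ≤ N_H(Q), and put Kᵢ = O^p of the weak closure of Q in HᵢQ. Then for i = 1, 2: Kᵢ = [Kᵢ, Q] = [Kᵢ, Hᵢ] ≤ Hᵢ′ and Kᵢ is normal in H°; H_∘ = K₁K₂; and [K₁, K₂] ≤ O_p(H°). -/
theorem result {G : Type*} [Group G] [Finite G] {p : ℕ} [Fact p.Prime] (Q : Subgroup G) (hQp : IsPGroup p ↥Q) (hQ1 : Q ≠ ⊥) (hwc : Cfsg.IsWeaklyClosedSubgroup p Q) (Hc : Subgroup G) (hHc : Hc = Cfsg.weakClosure Q ⊤) (H₁ H₂ : Subgroup G) (hn₁ : H₁ ≤ Hc ∧ Hc ≤ Subgroup.normalizer ((H₁ : Subgroup G) : Set G)) (hn₂ : H₂ ≤ Hc ∧ Hc ≤ Subgroup.normalizer ((H₂ : Subgroup G) : Set G)) (hprod : H₁ ⊔ H₂ = Hc) (hcomm : ⁅H₁, H₂⁆ ≤ Subgroup.normalizer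 ((Q : Subgroup G) : Set G)) (K₁ K₂ : Subgroup G) (hK₁ : K₁ = ((Cfsg.pResidual p ↥(Cfsg.weakClosure Q (H₁ ⊔ Q))).map ((Cfsg.weakClosure Q (H₁ ⊔ Q))).subtype)) (hK₂ : K₂ = ((Cfsg.pResidual p ↥(Cfsg.weakClosure Q (H₂ ⊔ Q))).map ((Cfsg.weakClosure Q (H₂ ⊔ Q))).subtype)) : (⁅K₁, Q⁆ = K₁ ∧ ⁅K₁, H₁⁆ = K₁ ∧ K₁ ≤ ⁅H₁, H₁⁆ ∧ Hc ≤ Subgroup.normalizer ((K₁ : Subgroup G) : Set G)) ∧ (⁅K₂, Q⁆ = K₂ ∧ ⁅K₂, H₂⁆ = K₂ ∧ K₂ ≤ ⁅H₂, H₂⁆ ∧ Hc ≤ Subgroup.normalizer ((K₂ : Subgroup G) : Set G)) ∧ K₁ ⊔ K₂ = ((Cfsg.pResidual p ↥Hc).map (Hc).subtype) ∧ ⁅K₁, K₂⁆ ≤ (Cfsg.pCoreOf p Hc) := by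
  have h : WC p Q ⊤ := (isWeaklyClosedSubgroup_iff hQp).mp hwc
  obtain ⟨a1, a2, a3, a4, a5, a6, a7⟩ := prod_half h hQp hHc hn₁ hn₂ hprod hcomm hK₁
  obtain ⟨b1, b2, b3, b4, b5, b6, b7⟩ := prod_half h hQp hHc hn₂ hn₁ (by rw [sup_comm]; exact hprod)
    (by rw [commutator_comm]; exact hcomm) hK₂
  have hQHc : Q ≤ Hc := by rw [hHc]; exact self_le_weakClosure le_top
  have hHncl : Hc = ncl Q Hc := by
    have := weakClosure_eq_ncl_self h hQp (le_top : Q ≤ ⊤)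
    rwa [← hHc] at this
  refine ⟨⟨a1, a2, a3, a4⟩, ⟨b1, b2, b3, b4⟩, ?_, ?_⟩
  · apply le_antisymm
    · apply sup_le
      · rw [hK₁, hHc]; exact pRes_mono (weakClosure_mono le_top)
      · rw [hK₂, hHc]; exact pRes_mono (weakClosure_mono le_top)
    · have hHK : Hc ≤ normalizer ((K₁ ⊔ K₂ : Subgroup G) : Set G) := le_normalizer_sup a4 b4
      have key : ∀ (Hi Ki : Subgroup G), Hi ≤ Hc → Ki ≤ K₁ ⊔ K₂ →
          Cfsg.weakClosure Q (Hi ⊔ Q) = Ki ⊔ Q →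
          Hi ≤ normalizer ((K₁ ⊔ K₂ ⊔ Q : Subgroup G) : Set G) := by
        intro Hi Ki hHi hKi hw x hx
        rw [← cj_eq_iff_mem_normalizer]
        apply cj_eq_of_le
        rw [cj_sup, cj_eq_of_le_normalizer hHK (hHi hx)]
        apply sup_le le_sup_left
        have h1 : ⟪Q, x⟫ ≤ Hi ⊔ Q := cj_le_of_mem (le_sup_left (a := Hi) hx) le_sup_right
        have h2 := le_weakClosure h1
        rw [hw] at h2
        exact h2.trans (sup_le_sup_right hKi Q)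
      have h1 : Hc ≤ normalizer ((K₁ ⊔ K₂ ⊔ Q : Subgroup G) : Set G) := by
        rw [← hprod]
        exact sup_le (key H₁ K₁ hn₁.1 le_sup_left a6) (key H₂ K₂ hn₂.1 le_sup_right b6)
      have h2 : Hc ≤ Q ⊔ (K₁ ⊔ K₂) := by
        rw [sup_comm]
        calc Hc = ncl Q Hc := hHncl
          _ ≤ K₁ ⊔ K₂ ⊔ Q := ncl_le le_sup_right h1
      apply pRes_le_of_forall_pow_mem
      intro g hg
      exact exists_pow_mem_of_mem_sup (hQHc.trans hHK) hQp (h2 hg)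
  · refine ((commutator_mono le_rfl b7).trans a5).trans ?_
    apply pCoreOf_le_of_normal
    · exact (commutator_le_of_le_normalizer' (hn₂.1.trans hn₁.2)).trans hn₁.1
    · exact le_normalizer_commutator hn₁.2 hn₂.2

end Cfsg.Agent.S2859
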