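import Cfsg.Statements.S2860
import Cfsg.Agent.Lib.Helper53QSec
import Cfsg.Agent.Lib.Helper53PRed
import Cfsg.Agent.Lib.Helper53PMin
import Cfsg.Agent.S2843

set_option autoImplicit false
open Cfsg

namespace Cfsg.Agent.S2860

open Subgroup Cfsg.Agent.Lib.Helper53Basic Cfsg.Agent.Lib.Helper53Rel Cfsg.Agent.Lib.Helper53Syl
open Cfsg.Agent.Lib.Helper53Comm Cfsg.Agent.Lib.Helper53Min Cfsg.Agent.Lib.Helper53WC
open Cfsg.Agent.Lib.Helper53Large Cfsg.Agent.Lib.Helper53Large2 Cfsg.Agent.Lib.Helper53PRed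
open Cfsg.Agent.Lib.Helper53FrakH Cfsg.Agent.Lib.Helper53WCl Cfsg.Agent.Lib.Helper53QSec
open Cfsg.Agent.Lib.Helper53PMin
open scoped commutatorElement

local notation "⟪" Q ", " g "⟫" => Subgroup.map (MulEquiv.toMonoidHom (MulAut.conj g)) Q

/-- Let Q be a nontrivial large p-subgroup of the finite group H, U a nontrivial elementary abelian p-subgroup of H, and Q ≤ E ≤ N_H(U) with Q not normal in E. Suppose O_p(E/C_E(U)) = 1 and O^p(E)·C_E(U)/C_E(U) is quasisimple. Let E° be the weak closure of Q in E (generated by the conjugates of Q inside E) and E_∘ = O^p(E°). Then O^p(E)·C_E(U) = E_∘·C_E(U); E_∘ is perfect and equals O^p(E_∘); E_∘/C_{E_∘}(U) and E_∘/O_p(E_∘) are quasisimple; and E_∘ = [E_∘, Y] for every p-subgroup Y of E not centralizing U. -/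
theorem result {G : Type*} [Group G] [Finite G] {p : ℕ} [Fact p.Prime] (Q : Subgroup G) (hQp : IsPGroup p ↥Q) (hQ1 : Q ≠ ⊥) (hQ : Cfsg.IsLarge Q) (U : Subgroup G) (hU : Cfsg.IsElementaryAbelian p U) (hU1 : U ≠ ⊥) (E : Subgroup G) (hQE : Q ≤ E) (hEU : E ≤ Subgroup.normalizer ((U : Subgroup G) : Set G)) (hQn : ¬ E ≤ Subgroup.normalizer ((Q : Subgroup G) : Set G)) [hn : ((Subgroup.centralizer ((U : Subgroup G) : Set G)).subgroupOf E).Normal] (hred : Cfsg.pCore p (↥E ⧸ (Subgroup.centralizer ((U : Subgroup G) : Set G)).subgroupOf E) = ⊥) (hqs : Cfsg.IsQuasisimple ↥(((Cfsg.pResidual p ↥E) ⊔ (Subgroup.centralizer ((U : Subgroup G) : Set G)).subgroupOf E).map (QuotientGroup.mk' ((Subgroup.centralizer ((U : Subgroup G) : Set G)).subgroupOf E)))) (Er : Subgroup G) (hEr : Er = ((Cfsg.pResidual p ↥(Cfsg.weakClosure Q E)).map ((Cfsg.weakClosure Q E)).subtype)) [hn2 : ((Subgroup.centralizer ((U : Subgroup G) : Set G)).subgroupOf Er).Normal] : ((Cfsg.pResidual p ↥E).map (E).subtype) ⊔ (E ⊓ Subgroup.centralizer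 ((U : Subgroup G) : Set G)) = Er ⊔ (E ⊓ Subgroup.centralizer ((U : Subgroup G) : Set G)) ∧ ⁅Er, Er⁆ = Er ∧ ((Cfsg.pResidual p ↥Er).map (Er).subtype) = Er ∧ Cfsg.IsQuasisimple (↥Er ⧸ (Subgroup.centralizer ((U : Subgroup G) : Set G)).subgroupOf Er) ∧ Cfsg.IsQuasisimple (↥Er ⧸ Cfsg.pCore p ↥Er) ∧ ∀ Y : Subgroup G, Y ≤ E → IsPGroup p ↥Y → ¬ Y ≤ Subgroup.centralizer ((U : Subgroup G) : Set G) → ⁅Er, Y⁆ = Er := by
  have hwc : WC p Q ⊤ := IsLarge.wc hQ1 hQ
  have hUp : IsPGroup p U := IsElementaryAbelian.isPGroup hU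
  obtain ⟨-, hcomm, hCUEc⟩ := Cfsg.Agent.S2843.result Q hQp hQ1 hQ E hQE U hUp hU1 hEU
  have hK0 := qSec_of_isQuasisimple_map _ _ hqs
  rw [Subgroup.map_sup, subgroupOf_map_subtype] at hK0
  have hred' : ∀ D : Subgroup G, D ≤ E → E ≤ normalizer (D : Set G) →
      (∀ d ∈ D, ∃ k : ℕ, d ^ (p ^ k) ∈ Subgroup.centralizer ((U : Subgroup G) : Set G)) →
      D ≤ Subgroup.centralizer ((U : Subgroup G) : Set G) := by
    intro D hDE hED hpow
    have h1 := pCore_quotient_eq_bot_iff.mp hred (D.subgroupOf E)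
      ((normal_subgroupOf_iff_le_normalizer hDE).mpr hED) (by
        intro d hd
        obtain ⟨k, hk⟩ := hpow d hd
        exact ⟨k, hk⟩)
    intro d hd
    exact h1 (show (⟨d, hDE hd⟩ : E) ∈ D.subgroupOf E from hd)
  have hsup := pRes_weakClosure_sup hwc hQp hQE
  have hcq := commutator_pRes_weakClosure hwc hQp hQE
  have hpp := pRes_pRes (p := p) (Cfsg.weakClosure Q E)
  rw [← hEr] at hsup hcq hpp
  set CU := Subgroup.centralizer ((U : Subgroup G) : Set G) with hCU
  set Ec := Cfsg.weakClosure Q E with hEc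
  set R := (Cfsg.pResidual p ↥E).map E.subtype with hR
  rw [inf_comm] at hK0
  set C := E ⊓ CU with hC
  set K := R ⊔ C with hK
  have hEcE : Ec ≤ E := weakClosure_le Q E
  have hQEc : Q ≤ Ec := self_le_weakClosure hQE
  have hErEc : Er ≤ Ec := by rw [hEr]; exact pRes_le Ec
  have hErE : Er ≤ E := hErEc.trans hEcE
  have hEEc : E ≤ normalizer (Ec : Set G) := le_normalizer_weakClosure Q E
  have hEEr : E ≤ normalizer (Er : Set G) := by
    rw [hEr]; exact hEEc.trans (normalizer_le_normalizer_pRes Ec)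
  have hECU : E ≤ normalizer (CU : Set G) := le_normalizer_centralizer hEU
  have hEC : E ≤ normalizer (C : Set G) := le_normalizer_inf le_normalizer hECU
  have hER : E ≤ normalizer (R : Set G) := le_normalizer_pRes E
  have hRE : R ≤ E := pRes_le E
  have hCE : C ≤ E := inf_le_left
  have hCCU : C ≤ CU := inf_le_right
  have hKE : K ≤ E := sup_le hRE hCE
  have hEK : E ≤ normalizer (K : Set G) := le_normalizer_sup hER hEC
  have hErR : Er ≤ R := by rw [hEr]; exact pRes_mono hEcE
  have hErK : Er ≤ K := hErR.trans le_sup_left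
  have hCK : C ≤ K := le_sup_right
  have hleC : ∀ D : Subgroup G, D ≤ E → E ≤ normalizer (D : Set G) →
      (∀ d ∈ D, ∃ k : ℕ, d ^ (p ^ k) ∈ C) → D ≤ C := by
    intro D hDE hED hpow
    refine le_inf hDE (hred' D hDE hED ?_)
    intro d hd
    obtain ⟨k, hk⟩ := hpow d hd
    exact ⟨k, hCCU hk⟩
  -- (d) Er is not contained in C
  have hd : ¬ Er ≤ C := by
    intro hle
    have h1 : Ec ≤ C := by
      apply hleC Ec hEcE hEEc
      intro d hd
      obtain ⟨k, hk⟩ := exists_pow_mem_pRes (p := p) hd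
      rw [← hEr] at hk
      exact ⟨k, hle hk⟩
    apply hQn
    intro e he
    rw [← cj_eq_iff_mem_normalizer]
    have h2 : ⟪Q, e⟫ ≤ Ec := le_weakClosure (cj_le_of_mem he hQE)
    have h3 : CU ≤ normalizer (Q : Set G) := by
      obtain ⟨y, hy1, hy⟩ := Cfsg.Agent.Lib.Helper53Act.exists_ne_one_mem_inf_centralizer hQp hUp hU1
        (hQE.trans hEU)
      obtain ⟨hyY, hyQ⟩ := Subgroup.mem_inf.mp hy
      exact (centralizer_le (by simpa using hyY)).trans
        (IsLarge.centralizer_le_normalizer hQ hy1 hyQ)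
    have h4 : ⟪Q, e⟫ ≤ normalizer (Q : Set G) := h2.trans (h1.trans (hCCU.trans h3))
    apply hwc e (mem_top e)
    exact hQp.to_sup_of_normal_left' (isPGroup_cj hQp e) h4
  obtain ⟨hKperf, hKnC, hKdich⟩ := hK0
  have hQK : Q ≤ normalizer (K : Set G) := hQE.trans hEK
  have hQC : Q ≤ normalizer (C : Set G) := hQE.trans hEC
  have hKC : K ≤ normalizer (C : Set G) := hKE.trans hEC
  have h1 : K ≤ Er ⊔ C := by
    rcases hKdich ⁅K, Q⁆ (commutator_le_of_le_normalizer' hQK)
      (le_normalizer_commutator_self_left K Q) with h | h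
    · have h2 : ⁅K, Q⁆ ≤ Ec :=
        (commutator_mono hKE hQEc).trans (commutator_le_of_le_normalizer hEEc)
      have h3 : K ≤ Q ⊔ (Er ⊔ C) := by
        refine h.trans (sup_le (h2.trans ?_) (le_sup_right.trans le_sup_right))
        rw [← hsup]
        exact sup_le (le_sup_left.trans le_sup_right) le_sup_left
      have h4 : Q ≤ normalizer ((Er ⊔ C : Subgroup G) : Set G) :=
        le_normalizer_sup (hQE.trans hEEr) hQC
      have h5 : (pResidual p ↥K).map K.subtype ≤ Er ⊔ C := by
        apply pRes_le_of_forall_pow_mem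
        intro g hg
        exact exists_pow_mem_of_mem_sup h4 hQp (h3 hg)
      have h6 : R ≤ (pResidual p ↥K).map K.subtype := by
        have h7 := pRes_mono (p := p) (le_sup_left : R ≤ K)
        have h8 := pRes_pRes (p := p) E
        rw [← hR] at h8
        rwa [h8] at h7
      exact sup_le (h6.trans h5) le_sup_right
    · exfalso
      apply hd
      have h2 : ⁅⁅K, K⁆, Q⁆ ≤ C := by
        apply three_rel hKC hKC hQC h
        rw [commutator_comm Q K]; exact h
      have h3 : ⁅K, Q⁆ ≤ C := by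
        refine (commutator_mono hKperf le_rfl).trans ?_
        rw [commutator_comm]
        apply commutator_sup_le _ (commutator_le_of_le_normalizer hQC)
          ((commutator_le_self K).trans hKC) le_normalizer
        rw [commutator_comm]; exact h2
      rw [← hcq]
      exact (commutator_mono hErK le_rfl).trans h3
  have hKeq : K = Er ⊔ C := le_antisymm h1 (sup_le hErK hCK)
  set O := pCoreOf p Er with hO
  have hOEr : O ≤ Er := pCoreOf_le Er
  have hEO : E ≤ normalizer (O : Set G) := hEEr.trans (normalizer_le_normalizer_pCoreOf Er)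
  have hOp : IsPGroup p O := pCoreOf_isPGroup Er
  have hOC : O ≤ C := by
    apply hleC O (hOEr.trans hErE) hEO
    intro d hd
    obtain ⟨k, hk⟩ := hOp ⟨d, hd⟩
    refine ⟨k, ?_⟩
    have h2 : d ^ (p ^ k) = 1 := by simpa using congrArg Subtype.val hk
    rw [h2]; exact C.one_mem
  have hZ : ⁅Er ⊓ CU, Ec⁆ ≤ O := by
    have h2 : ⁅Er ⊓ CU, Ec⁆ ≤ pCoreOf p Ec := by
      rw [commutator_comm]; exact (commutator_mono le_rfl inf_le_right).trans hcomm
    have h3 : ⁅Er ⊓ CU, Ec⁆ ≤ Er :=
      (commutator_mono inf_le_left le_rfl).trans (commutator_le_of_le_normalizer' (hEcE.trans hEEr))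
    exact (le_inf h2 h3).trans (pCoreOf_inf_le hErEc)
  have hpowle : ∀ X : Subgroup G, Er ≤ normalizer (X : Set G) → Er ≤ X ⊔ O → Er ≤ X := by
    intro X hX hle
    calc Er = (pResidual p ↥Er).map Er.subtype := hpp.symm
      _ ≤ X := by
        apply pRes_le_of_forall_pow_mem
        intro g hg
        have h2 := hle hg
        rw [sup_comm] at h2
        exact exists_pow_mem_of_mem_sup (hOEr.trans hX) hOp h2
  have hperf : Er ≤ ⁅Er, Er⁆ := by
    have hED : E ≤ normalizer ((⁅Er, Er⁆ : Subgroup G) : Set G) := le_normalizer_commutator hEEr hEEr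
    apply hpowle _ (hErE.trans hED)
    have hEDC : E ≤ normalizer ((⁅Er, Er⁆ ⊔ C : Subgroup G) : Set G) := le_normalizer_sup hED hEC
    have h2 : ⁅K, K⁆ ≤ ⁅Er, Er⁆ ⊔ C := by
      conv_lhs => rw [hKeq]
      apply commutator_sup_le _ _ (hErE.trans hEDC) (hCE.trans hEDC)
      · rw [commutator_comm]
        apply commutator_sup_le le_sup_left _ (hErE.trans hEDC) (hCE.trans hEDC)
        exact (commutator_le_of_le_normalizer (hErE.trans hEC)).trans le_sup_right
      · rw [← hKeq]
        exact (commutator_le_of_le_normalizer hKC).trans le_sup_right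
    have h3 : Er ≤ ⁅Er, Er⁆ ⊔ C := hErK.trans (hKperf.trans (sup_le h2 le_sup_right))
    have h4 : Er ≤ ⁅Er, Er⁆ ⊔ (C ⊓ Er) := by
      rw [← dedekind (commutator_le_self Er) (hCE.trans hED)]
      exact le_inf h3 le_rfl
    have hEDO : E ≤ normalizer ((⁅Er, Er⁆ ⊔ O : Subgroup G) : Set G) := le_normalizer_sup hED hEO
    calc Er = ⁅Er, Q⁆ := hcq.symm
      _ ≤ ⁅⁅Er, Er⁆ ⊔ (C ⊓ Er), Q⁆ := commutator_mono h4 le_rfl
      _ ≤ ⁅Er, Er⁆ ⊔ O := by
        rw [commutator_comm]
        apply commutator_sup_le _ _ (le_sup_left.trans le_normalizer)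
          ((inf_le_right.trans hErE).trans hEDO)
        · exact (commutator_le_of_le_normalizer (hQE.trans hED)).trans le_sup_left
        · rw [commutator_comm]
          exact ((commutator_mono (le_inf inf_le_right (inf_le_left.trans hCCU)) hQEc).trans hZ).trans
            le_sup_right
  have hperf' : ⁅Er, Er⁆ = Er := le_antisymm (commutator_le_self Er) hperf
  have hq4 : QSec Er (Er ⊓ CU) := by
    refine ⟨hperf.trans le_sup_left, fun h => hd (le_inf hErE (h.trans inf_le_right)), ?_⟩
    intro X hXEr hErX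
    have hXC : K ≤ normalizer ((X ⊔ C : Subgroup G) : Set G) := by
      rw [hKeq]
      exact sup_le (le_normalizer_sup hErX (hErE.trans hEC)) (le_sup_right.trans le_normalizer)
    rcases hKdich (X ⊔ C) (sup_le (hXEr.trans hErK) hCK) hXC with h | h
    · left
      have h2 : Er ≤ X ⊔ C := hErK.trans (h.trans (sup_le le_rfl le_sup_right))
      have h3 : Er ≤ X ⊔ (C ⊓ Er) := by
        rw [← dedekind' hXEr ((hXEr.trans hErE).trans hEC)]
        exact le_inf h2 le_rfl
      exact h3.trans (sup_le_sup_left (le_inf inf_le_right (inf_le_left.trans hCCU)) X)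
    · right
      refine le_inf ((commutator_mono hXEr le_rfl).trans (commutator_le_self Er)) ?_
      exact ((commutator_mono le_sup_left hErK).trans h).trans hCCU
  have hq5 : QSec Er O := by
    refine ⟨hperf.trans le_sup_left, fun h => hd (h.trans hOC), ?_⟩
    intro X hXEr hErX
    have hZ' : ⁅Er ⊓ CU, Er⁆ ≤ O := (commutator_mono le_rfl hErEc).trans hZ
    have hErO : Er ≤ normalizer (O : Set G) := hErE.trans hEO
    rcases hq4.2.2 X hXEr hErX with h | h
    · left
      calc Er ≤ ⁅Er, Er⁆ := hperf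
        _ ≤ ⁅Er, X ⊔ (Er ⊓ CU)⁆ := commutator_mono le_rfl h
        _ ≤ X ⊔ O := by
          have hn : Er ≤ normalizer ((X ⊔ O : Subgroup G) : Set G) := le_normalizer_sup hErX hErO
          apply commutator_sup_le _ _ (hXEr.trans hn) (inf_le_left.trans hn)
          · exact (commutator_le_of_le_normalizer hErX).trans le_sup_left
          · rw [commutator_comm]; exact hZ'.trans le_sup_right
    · right
      have h2 : ⁅⁅X, Er⁆, Er⁆ ≤ O := (commutator_mono h le_rfl).trans hZ'
      have h3 : ⁅⁅Er, Er⁆, X⁆ ≤ O := by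
        apply three_rel hErO hErO (hXEr.trans hErO) _ h2
        rw [commutator_comm Er X]; exact h2
      rw [hperf', commutator_comm] at h3
      exact h3
  refine ⟨hKeq, hperf', hpp, ?_, ?_, ?_⟩
  · apply isQuasisimple_quotient_of_qSec
    rw [subgroupOf_map_subtype, inf_comm]; exact hq4
  · apply isQuasisimple_quotient_of_qSec
    exact hq5
  · intro Y hYE hYp hYCU
    have hYEr : Y ≤ normalizer (Er : Set G) := hYE.trans hEEr
    have hX1 : ⁅Er, Y⁆ ≤ Er := commutator_le_of_le_normalizer' hYEr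
    apply le_antisymm hX1
    have hX2 : Er ≤ normalizer ((⁅Er, Y⁆ : Subgroup G) : Set G) :=
      le_normalizer_commutator_self_left Er Y
    rcases hq5.2.2 ⁅Er, Y⁆ hX1 hX2 with h | h
    · exact hpowle _ hX2 h
    · exfalso
      apply hYCU
      have hErO : Er ≤ normalizer (O : Set G) := hErE.trans hEO
      have h2 : ⁅⁅Er, Er⁆, Y⁆ ≤ O := by
        apply three_rel hErO hErO (hYE.trans hEO) h
        rw [commutator_comm Y Er]; exact h
      rw [hperf'] at h2
      have hKW : K ≤ normalizer ((Y ⊔ C : Subgroup G) : Set G) := by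
        rw [hKeq]
        apply sup_le _ (le_sup_right.trans le_normalizer)
        apply le_normalizer_of_commutator_le
        apply commutator_sup_le _ _ (le_sup_left.trans le_normalizer)
          (le_sup_right.trans le_normalizer)
        · exact (h2.trans hOC).trans le_sup_right
        · exact (commutator_le_of_le_normalizer (hErE.trans hEC)).trans le_sup_right
      obtain ⟨S, hS, hYS⟩ := exists_isSyl_ge hYp hYE
      have hE : E ≤ S ⊔ K := by
        conv_lhs => rw [← hS.pRes_sup_eq]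
        exact sup_le ((le_sup_left : R ≤ K).trans le_sup_right) le_sup_left
      have hncl : ncl (Y ⊔ C) E ≤ S ⊔ C := by
        unfold ncl
        apply sSup_le
        rintro _ ⟨e, he, rfl⟩
        have he' := hE he
        rw [mem_sup_of_le_normalizer (hS.le.trans hEK)] at he'
        obtain ⟨s, hs, k, hk, rfl⟩ := he'
        rw [← cj_cj, cj_eq_iff_mem_normalizer.mpr (hKW hk)]
        exact cj_le_of_mem (le_sup_left (a := S) hs) (sup_le (hYS.trans le_sup_left) le_sup_right)
      have h3 : ncl (Y ⊔ C) E ≤ C := by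
        apply hleC _ (ncl_le_self (sup_le hYE hCE)) (le_normalizer_ncl _ _)
        intro d hd
        exact exists_pow_mem_of_mem_sup (hS.le.trans hEC) hS.isPGroup (hncl hd)
      exact ((le_sup_left.trans (le_ncl _ _)).trans h3).trans hCCU

end Cfsg.Agent.S2860
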