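import Cfsg.Statements.S2864
import Cfsg.Agent.Lib.Helper53FrakH2
import Cfsg.Agent.Lib.Helper53Stab

set_option autoImplicit false
open Cfsg

namespace Cfsg.Agent.S2864

open Subgroup Cfsg.Agent.Lib.Helper53Basic Cfsg.Agent.Lib.Helper53Rel Cfsg.Agent.Lib.Helper53Syl
open Cfsg.Agent.Lib.Helper53Min Cfsg.Agent.Lib.Helper53PIrr Cfsg.Agent.Lib.Helper53Comm
open Cfsg.Agent.Lib.Helper53Act
open Cfsg.Agent.Lib.Helper53Asym Cfsg.Agent.Lib.Helper53FrakH Cfsg.Agent.Lib.Helper53FrakH2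
open Cfsg.Agent.Lib.Helper53Stab
open scoped commutatorElement

local notation "⟪" Q ", " g "⟫" => Subgroup.map (MulEquiv.toMonoidHom (MulAut.conj g)) Q

/-- Standing hypotheses: G a finite group, S a Sylow p-subgroup, Q a nontrivial large p-subgroup of G contained in S, M a subgroup containing S with the basic property (M ∈ 𝔐_G(S)); Y_M the largest p-reduced normal subgroup of M and M† = M·C_G(Y_M). Let I be a nontrivial normal p-subgroup of M and Y ≤ O_p(M†); let L be a subgroup of G containing Y and A a normal p-subgroup of L with I ≤ A ≤ M. If [Y, A] ≤ [I, A], then Y ≤ O_p(L). -/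
theorem result {G : Type*} [Group G] [Finite G] {p : ℕ} [Fact p.Prime] (S : Sylow p G) (Q : Subgroup G) (hQp : IsPGroup p ↥Q) (hQ1 : Q ≠ ⊥) (hQS : Q ≤ (S : Subgroup G)) (hQ : Cfsg.IsLarge Q) (M : Subgroup G) (hSM : (S : Subgroup G) ≤ M) (hM : Cfsg.IsInFrakM p M) (I : Subgroup G) (hI1 : I ≠ ⊥) (hIp : IsPGroup p ↥I) (hIM : I ≤ M ∧ M ≤ Subgroup.normalizer ((I : Subgroup G) : Set G)) (Y : Subgroup G) (hY : Y ≤ (Cfsg.pCoreOf p (M ⊔ Subgroup.centralizer (((Cfsg.largestPReducedOf p M) : Subgroup G) : Set G)))) (L : Subgroup G) (hYL : Y ≤ L) (A : Subgroup G) (hAp : IsPGroup p ↥A) (hAL : A ≤ L ∧ L ≤ Subgroup.normalizer ((A : Subgroup G) : Set G)) (hIA : I ≤ A) (hAM : A ≤ M) (hc : ⁅Y, A⁆ ≤ ⁅I, A⁆) : Y ≤ (Cfsg.pCoreOf p L) := by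
  have h : Std p S Q M := ⟨hQp, hQ1, hQS, hQ, hSM, hM⟩
  set Md := M ⊔ Subgroup.centralizer (((Cfsg.largestPReducedOf p M) : Subgroup G) : Set G) with hMd
  set D := Cfsg.pCoreOf p Md with hD
  have hYp : IsPGroup p Y := (pCoreOf_isPGroup Md).to_le hY
  set K := ncl Y L with hK
  have hKL : K ≤ L := ncl_le_self hYL
  have hLK : L ≤ normalizer (K : Set G) := le_normalizer_ncl Y L
  have hYK : Y ≤ K := le_ncl Y L
  -- `K` acts trivially on `A/A'`
  have hLA' : L ≤ normalizer ((⁅A, A⁆ : Subgroup G) : Set G) := by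
    rw [le_normalizer_iff]
    intro x hx c hc
    have h1 : ⟪⁅A, A⁆, x⟫ = ⁅A, A⁆ := by
      rw [map_commutator, cj_eq_of_le_normalizer hAL.2 hx]
    rw [← h1, mem_cj]
    simpa [mul_assoc] using hc
  have h1 : K ≤ commStab A ⁅A, A⁆ := by
    apply ncl_le _ (le_normalizer_commStab hAL.2 hLA')
    intro y hy
    refine ⟨hLA' (hYL hy), fun a ha => ?_⟩
    have h2 : ⁅a, y⁆ ∈ ⁅A, Y⁆ := commutator_mem_commutator ha hy
    rw [commutator_comm] at h2
    exact commutator_mono hIA (le_refl _) (hc h2)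
  set R := (pResidual p ↥K).map K.subtype with hR
  have hRK : R ≤ K := pRes_le K
  have hKR : K ≤ normalizer (R : Set G) := le_normalizer_pRes K
  have hLR : L ≤ normalizer (R : Set G) := hLK.trans (normalizer_le_normalizer_pRes K)
  have hRA : R ≤ centralizer (A : Set G) := by
    rw [hR, pRes_eq_closure, closure_le]
    rintro x ⟨hx, hxc⟩
    have h2 := comm_of_commutator_le_rel hAp (hAL.2 (hKL hx)) hxc (h1 hx).2
    rw [SetLike.mem_coe, mem_centralizer_iff]
    intro a ha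
    exact (h2 a ha).symm
  have hRM : R ≤ Md := by
    refine hRA.trans (((centralizer_le (SetLike.coe_subset_coe.mpr hIA)).trans ?_).trans
      (h.normalizer_le_dagger hI1 hIp hIM.2))
    exact centralizer_le_normalizer _
  set P := Cfsg.pCoreOf p R with hP
  have hLP : L ≤ normalizer (P : Set G) := hLR.trans (normalizer_le_normalizer_pCoreOf R)
  have h2 : K ≤ commStab R P := by
    apply ncl_le _ (le_normalizer_commStab hLR hLP)
    intro y hy
    refine ⟨hLP (hYL hy), fun r hr => ?_⟩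
    apply pCoreOf_inf_le hRM
    constructor
    · have h3 : r * y * r⁻¹ ∈ D := (le_normalizer_iff.mp (le_normalizer_pCoreOf Md)) r (hRM hr) y (hY hy)
      have h4 : ⁅r, y⁆ = (r * y * r⁻¹) * y⁻¹ := by simp only [commutatorElement_def]
      rw [h4]
      exact D.mul_mem h3 (D.inv_mem (hY hy))
    · have h3 : y * r⁻¹ * y⁻¹ ∈ R := (le_normalizer_iff.mp hKR) y (hYK hy) _ (R.inv_mem hr)
      have h4 : ⁅r, y⁆ = r * (y * r⁻¹ * y⁻¹) := by simp only [commutatorElement_def]; group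
      rw [h4]
      exact R.mul_mem hr h3
  obtain ⟨T, hT⟩ := exists_isSyl (p := p) K
  have hPT : P ≤ T := (pCoreOf_le_of_normal hRK hKR).trans (pCoreOf_le_isSyl hT)
  have hRT : R ≤ normalizer (T : Set G) := by
    rw [le_normalizer_iff]
    intro r hr t ht
    have h3 : ⁅r, t⁆ ∈ P := (h2 (hT.le ht)).2 r hr
    have h4 : r * t * r⁻¹ = ⁅r, t⁆ * t := by simp only [commutatorElement_def]; group
    rw [h4]
    exact T.mul_mem (hPT h3) ht
  have hKT : K ≤ normalizer (T : Set G) := by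
    rw [← hT.pRes_sup_eq]
    exact sup_le hRT le_normalizer
  have hcl : Cfsg.IsPClosed p ↥K := isPClosed_of_isSyl hT hKT
  exact (isPGroup_le_pCoreOf_of_isPClosed hcl hYp hYK).trans (pCoreOf_le_of_normal hKL hLK)

end Cfsg.Agent.S2864
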