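import Cfsg.Statements.S2879
import Cfsg.Agent.S0017
import Cfsg.Agent.Lib.Helper39Core
import Cfsg.Agent.Lib.Helper3MetaAut
import Cfsg.Agent.Lib.H78SdGen
import Cfsg.Agent.Lib.H78SdMeta
import Cfsg.Agent.Lib.H78SdAut
import Cfsg.Agent.Lib.H78SdHom
import Cfsg.Agent.Lib.H78SdSmall
import Cfsg.Agent.Lib.H78SdIdx
import Cfsg.Agent.Lib.H78SdK
import Cfsg.Agent.Lib.H78SdFin
import Cfsg.Agent.Lib.H78SdOdd

set_option autoImplicit false
open Cfsg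

namespace Cfsg.Agent.S2879

/-- Let G be a finite solvable group with O(G) = 1 whose Sylow 2-subgroup T is dihedral of order at least 8 or semidihedral, with G ≠ T and Z(T) normal in G. Then G has a normal subgroup isomorphic to SL₂(3). -/
theorem result {G : Type*} [Group G] [Finite G] (hsol : IsSolvable G) (hO : Cfsg.oddCore G = ⊥) (T : Sylow 2 G) (hT : (∃ n : ℕ, 4 ≤ n ∧ Nonempty (↥(T : Subgroup G) ≃* DihedralGroup n)) ∨ Cfsg.IsQuasiDihedral ↥(T : Subgroup G)) (hne : (T : Subgroup G) ≠ ⊤) (hZ : ((T : Subgroup G) ⊓ Subgroup.centralizer ((T : Subgroup G) : Set G)).Normal) : ∃ U : Subgroup G, U.Normal ∧ Nonempty (↥U ≃* Matrix.SpecialLinearGroup (Fin 2) (ZMod 3)) := by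
  haveI : Fact (Nat.Prime 2) := ⟨Nat.prime_two⟩
  haveI : Group.IsSolvable G := hsol
  have hQn : (pCore 2 G).Normal := Cfsg.Agent.Lib.Helper39Core.pCore_normal 2
  have hQp : IsPGroup 2 (pCore 2 G) := Cfsg.Agent.Lib.Helper39Core.pCore_isPGroup 2
  have hQT : pCore 2 G ≤ (T : Subgroup G) := Cfsg.Agent.Lib.Helper39Core.pCore_le_sylow T
  have hCQ : Subgroup.centralizer (pCore 2 G : Set G) ≤ pCore 2 G := Cfsg.Agent.S0017.result 2 hO
  obtain ⟨c, hc, hT8⟩ := Cfsg.Agent.Lib.H78SdGen.exists_gen hT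
  obtain ⟨hmeta, d, hdQ, hd⟩ := Cfsg.Agent.Lib.H78SdMeta.metacyclic_of_le (T : Subgroup G) (pCore 2 G)
    hQT (c : G) c.2 (by rw [← hc, Subgroup.orderOf_coe])
  obtain ⟨hG2, y, hy, hy1⟩ := Cfsg.Agent.Lib.H78SdOdd.exists_odd T hne
  have hyC : y ∉ Subgroup.centralizer (pCore 2 G : Set G) := by
    intro h
    obtain ⟨k, hk⟩ := hQp ⟨y, hCQ h⟩
    have hk' : y ^ 2 ^ k = 1 := by simpa using congrArg Subtype.val hk
    have h1 : orderOf y ∣ 2 ^ k := orderOf_dvd_of_pow_eq_one hk'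
    have h2 : Nat.Coprime (orderOf y) (2 ^ k) :=
      Nat.Coprime.pow_right k (Nat.Coprime.symm (Nat.coprime_two_left.2 hy))
    have h3 : orderOf y = 1 := Nat.Coprime.eq_one_of_dvd h2 h1
    exact hy1 (orderOf_eq_one_iff.1 h3)
  have hAut := Cfsg.Agent.Lib.H78SdAut.not_isPGroup_mulAut (pCore 2 G) y hy hyC
  rcases Cfsg.Agent.Lib.Helper3MetaAut.main hQp hmeta hAut with ⟨⟨e⟩⟩ | ⟨n, ⟨e⟩⟩
  · obtain ⟨h8, hidx⟩ := Cfsg.Agent.Lib.H78SdIdx.index_eq (pCore 2 G) hQn e hCQ hG2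
    obtain ⟨K, hKn, hQK, h24⟩ := Cfsg.Agent.Lib.H78SdK.exists_K (pCore 2 G) hQn h8 hidx
    exact ⟨K, hKn, Cfsg.Agent.Lib.H78SdFin.sl23_of_K (pCore 2 G) K hQn e hCQ hQK h24⟩
  · exfalso
    have h4 := Cfsg.Agent.Lib.H78SdHom.card_dvd_four n e ⟨d, hdQ⟩
      (by rw [Subgroup.orderOf_mk]; exact hd)
    exact hyC (Cfsg.Agent.Lib.H78SdSmall.mem_centralizer_of_small T (pCore 2 G) hQn hQT hCQ h4 hT8 hZ
      y hy)

end Cfsg.Agent.S2879
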