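import Cfsg.Statements.S2880
import Mathlib

set_option autoImplicit false
open Cfsg
open scoped commutatorElement

namespace Cfsg.Agent.S2880

theorem sum_card_comm {X Y : Type*} [Fintype X] [Fintype Y] (R : X → Y → Prop) :
    ∑ x, Nat.card {y // R x y} = ∑ y, Nat.card {x // R x y} := by
  classical
  simp only [Nat.card_eq_fintype_card, Fintype.card_subtype, Finset.card_filter]
  exact Finset.sum_comm

theorem two_mul_card_fiber {K Z : Type*} [Group K] [Finite K] [Group Z] (hZ : Nat.card Z = 2)
    (χ : K →* Z) (a₀ : K) (ha₀ : χ a₀ ≠ 1) (w : Z) : 2 * Nat.card {a : K // χ a = w} = Nat.card K := by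
  classical
  obtain ⟨t, -, ht⟩ := (Nat.card_eq_two_iff' (1 : Z)).mp hZ
  have ht0 : χ a₀ = t := ht _ ha₀
  have e : {a : K // ¬ χ a = w} ≃ {a : K // χ a = w} := by
    refine Equiv.subtypeEquiv (Equiv.mulRight a₀) ?_
    intro a
    simp only [Equiv.coe_mulRight, map_mul]
    constructor
    · intro h
      have h1 : (χ a)⁻¹ * w ≠ 1 := by
        intro h2
        apply h
        rw [inv_mul_eq_one] at h2
        exact h2
      have h2 := ht _ h1
      rw [ht0, ← h2]; group
    · intro h h2
      rw [h2] at h
      exact ha₀ (by simpa using h)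
  have h1 := Nat.card_congr (Equiv.sumCompl (fun a : K => χ a = w))
  rw [Nat.card_sum, Nat.card_congr e] at h1
  omega

section
open scoped commutatorElement
variable {E : Type*} [Group E]

/-- `y ↦ [y, g]` as a homomorphism to the centre when all commutators are central. -/
def commHom (hc : ∀ x y : E, ⁅x, y⁆ ∈ Subgroup.center E) (g : E) : E →* Subgroup.center E where
  toFun y := ⟨⁅y, g⁆, hc y g⟩
  map_one' := by
    apply Subtype.ext
    simp
  map_mul' := fun a b => by
    apply Subtype.ext
    have h1 := Subgroup.mem_center_iff.mp (hc b g)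
    show ⁅a * b, g⁆ = ⁅a, g⁆ * ⁅b, g⁆
    have e1 : ⁅a * b, g⁆ = a * ⁅b, g⁆ * (g * a⁻¹ * g⁻¹) := by
      simp only [commutatorElement_def]; group
    rw [e1, h1 a, h1 ⁅a, g⁆]
    simp only [commutatorElement_def]; group

theorem commHom_eq_one_iff (hc : ∀ x y : E, ⁅x, y⁆ ∈ Subgroup.center E) (g y : E) :
    commHom hc g y = 1 ↔ Commute y g := by
  rw [← commutatorElement_eq_one_iff_commute]
  constructor
  · intro h
    exact congrArg Subtype.val h
  · intro h
    exact Subtype.ext h

/-- `|A| |C_E(A)| = |E| |A ∩ Z(E)|`. -/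
theorem card_mul_card_centralizer [Finite E] (hc : ∀ x y : E, ⁅x, y⁆ ∈ Subgroup.center E)
    (hZ : Nat.card (Subgroup.center E) = 2) (A : Subgroup E) :
    Nat.card A * Nat.card (Subgroup.centralizer (A : Set E)) =
      Nat.card E * Nat.card (A ⊓ Subgroup.center E : Subgroup E) := by
  classical
  have := Fintype.ofFinite E
  have := Fintype.ofFinite A
  have hswap := sum_card_comm (fun (x : E) (a : A) => Commute (a : E) x)
  -- left side
  have hL : ∀ x : E, 2 * Nat.card {a : A // Commute (a : E) x} =
      Nat.card A + if x ∈ Subgroup.centralizer (A : Set E) then Nat.card A else 0 := by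
    intro x
    by_cases hx : x ∈ Subgroup.centralizer (A : Set E)
    · rw [if_pos hx]
      have : Nat.card {a : A // Commute (a : E) x} = Nat.card A := by
        apply Nat.card_congr
        exact Equiv.subtypeUnivEquiv (fun a => (Subgroup.mem_centralizer_iff.mp hx a a.2))
      omega
    · rw [if_neg hx, add_zero]
      have hx' : ∃ a : A, ¬ Commute (a : E) x := by
        by_contra hcon
        push Not at hcon
        apply hx
        rw [Subgroup.mem_centralizer_iff]
        intro a ha
        exact hcon ⟨a, ha⟩
      obtain ⟨a₀, ha₀⟩ := hx'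
      have := two_mul_card_fiber hZ ((commHom hc x).comp A.subtype) a₀
        (by simpa [commHom_eq_one_iff] using ha₀) 1
      rw [← this]
      congr 1
      apply Nat.card_congr
      exact Equiv.subtypeEquivRight (fun a => by simp [commHom_eq_one_iff])
  have hR : ∀ a : A, 2 * Nat.card {x : E // Commute (a : E) x} =
      Nat.card E + if (a : E) ∈ Subgroup.center E then Nat.card E else 0 := by
    intro a
    by_cases ha : (a : E) ∈ Subgroup.center E
    · rw [if_pos ha]
      have : Nat.card {x : E // Commute (a : E) x} = Nat.card E := by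
        apply Nat.card_congr
        exact Equiv.subtypeUnivEquiv (fun x => (Subgroup.mem_center_iff.mp ha x).symm)
      omega
    · rw [if_neg ha, add_zero]
      have ha' : ∃ x : E, ¬ Commute x (a : E) := by
        by_contra hcon
        push Not at hcon
        apply ha
        rw [Subgroup.mem_center_iff]
        intro x
        exact hcon x
      obtain ⟨x₀, hx₀⟩ := ha'
      have := two_mul_card_fiber hZ (commHom hc (a : E)) x₀
        (by simpa [commHom_eq_one_iff] using hx₀) 1
      rw [← this]
      congr 1
      apply Nat.card_congr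
      exact Equiv.subtypeEquivRight (fun x => by rw [commHom_eq_one_iff]; exact ⟨Commute.symm, Commute.symm⟩)
  have h2 : ∑ x : E, 2 * Nat.card {a : A // Commute (a : E) x} =
      ∑ a : A, 2 * Nat.card {x : E // Commute (a : E) x} := by
    rw [← Finset.mul_sum, ← Finset.mul_sum, hswap]
  simp only [hL, hR] at h2
  rw [Finset.sum_add_distrib, Finset.sum_add_distrib] at h2
  simp only [Finset.sum_const, Finset.card_univ, smul_eq_mul, ← Finset.sum_filter] at h2
  have e1 : (Finset.univ.filter (fun x : E => x ∈ Subgroup.centralizer (A : Set E))).card =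
      Nat.card (Subgroup.centralizer (A : Set E)) := by
    rw [Nat.card_eq_fintype_card, Fintype.card_subtype]
  have e2 : (Finset.univ.filter (fun a : A => (a : E) ∈ Subgroup.center E)).card =
      Nat.card (A ⊓ Subgroup.center E : Subgroup E) := by
    rw [← Fintype.card_subtype, ← Nat.card_eq_fintype_card]
    apply Nat.card_congr
    exact {
      toFun := fun a => ⟨a.1.1, a.1.2, a.2⟩
      invFun := fun a => ⟨⟨a.1, a.2.1⟩, a.2.2⟩
      left_inv := fun _ => rfl
      right_inv := fun _ => rfl }
  rw [e1, e2, ← Nat.card_eq_fintype_card, ← Nat.card_eq_fintype_card] at h2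
  nlinarith [h2]

end

/-- Let E be an extraspecial 2-group of order 2^(2m+1) of plus type, that is, containing an elementary abelian subgroup of order 2^(m+1) (equivalently, a central product of m dihedral groups of order 8). Then E has exactly 2^(2m) − 2^m elements of order 4. -/
theorem result {E : Type*} [Group E] [Finite E] (m : ℕ) (hm : 1 ≤ m) (hE : Cfsg.IsExtraspecial 2 E) (hcard : Nat.card E = 2 ^ (2 * m + 1)) (hplus : ∃ A : Subgroup E, Cfsg.IsElementaryAbelian 2 A ∧ Nat.card A = 2 ^ (m + 1)) : Nat.card {x : E // orderOf x = 4} = 2 ^ (2 * m) - 2 ^ m := by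
  classical
  obtain ⟨⟨-, -, hcomm⟩, hZ⟩ := hE
  obtain ⟨A, ⟨hAc, hA2⟩, hAcard⟩ := hplus
  have := Fintype.ofFinite E
  have := Fintype.ofFinite A
  have hc : ∀ x y : E, ⁅x, y⁆ ∈ Subgroup.center E := by
    intro x y
    rw [← hcomm]
    exact Subgroup.commutator_mem_commutator (Subgroup.mem_top x) (Subgroup.mem_top y)
  have hZsq : ∀ w ∈ Subgroup.center E, w * w = 1 := by
    intro w hw
    have h1 := pow_card_eq_one' (G := Subgroup.center E) (x := ⟨w, hw⟩)
    rw [hZ] at h1
    have h2 := congrArg Subtype.val h1
    simpa [pow_two] using h2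
  -- squares are central
  have hsq : ∀ x : E, x * x ∈ Subgroup.center E := by
    intro x
    rw [Subgroup.mem_center_iff]
    intro y
    have h1 := Subgroup.mem_center_iff.mp (hc y x)
    have h2 := hZsq _ (hc y x)
    have e1 : y * x = ⁅y, x⁆ * (x * y) := by simp only [commutatorElement_def]; group
    calc y * (x * x) = (y * x) * x := by group
      _ = ⁅y, x⁆ * (x * y) * x := by rw [e1]
      _ = ⁅y, x⁆ * x * (y * x) := by group
      _ = ⁅y, x⁆ * x * (⁅y, x⁆ * (x * y)) := by rw [← e1]
      _ = ⁅y, x⁆ * (x * ⁅y, x⁆) * (x * y) := by group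
      _ = ⁅y, x⁆ * (⁅y, x⁆ * x) * (x * y) := by rw [h1 x]
      _ = (⁅y, x⁆ * ⁅y, x⁆) * (x * x * y) := by group
      _ = x * x * y := by rw [h2, one_mul]
  -- C_E(A) = A
  have hAle : A ≤ Subgroup.centralizer (A : Set E) := by
    intro a ha
    rw [Subgroup.mem_centralizer_iff]
    intro b hb
    have := hAc.is_comm.comm ⟨b, hb⟩ ⟨a, ha⟩
    exact congrArg Subtype.val this
  have hCA : Subgroup.centralizer (A : Set E) = A := by
    symm
    apply Subgroup.eq_of_le_of_card_ge hAle
    have h1 := card_mul_card_centralizer hc hZ A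
    have h2 : Nat.card (A ⊓ Subgroup.center E : Subgroup E) ≤ 2 := by
      rw [← hZ]; exact Subgroup.card_le_of_le inf_le_right
    rw [hAcard, hcard] at h1
    have h3 : 2 ^ (m + 1) * Nat.card (Subgroup.centralizer (A : Set E)) ≤ 2 ^ (m + 1) * 2 ^ (m + 1) := by
      calc 2 ^ (m + 1) * Nat.card (Subgroup.centralizer (A : Set E))
          = 2 ^ (2 * m + 1) * Nat.card (A ⊓ Subgroup.center E : Subgroup E) := h1
        _ ≤ 2 ^ (2 * m + 1) * 2 := Nat.mul_le_mul_left _ h2
        _ = 2 ^ (m + 1) * 2 ^ (m + 1) := by ring
    rw [hAcard]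
    exact Nat.le_of_mul_le_mul_left h3 (by positivity)
  -- the count of solutions of x^2 = 1
  have hswap := sum_card_comm (fun (x : E) (a : A) => (x * a) * (x * a) = 1)
  have hR : ∀ a : A, Nat.card {x : E // (x * a) * (x * a) = 1} = Nat.card {x : E // x * x = 1} := by
    intro a
    apply Nat.card_congr
    exact Equiv.subtypeEquiv (Equiv.mulRight (a : E)) (fun x => by simp)
  have hL : ∀ x : E, 2 * Nat.card {a : A // (x * a) * (x * a) = 1} =
      Nat.card A + if x ∈ A then Nat.card A else 0 := by
    intro x
    by_cases hx : x ∈ A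
    · rw [if_pos hx]
      have : Nat.card {a : A // (x * a) * (x * a) = 1} = Nat.card A := by
        apply Nat.card_congr
        refine Equiv.subtypeUnivEquiv (fun a => ?_)
        have := hA2 (x * a) (A.mul_mem hx a.2)
        simpa [pow_two] using this
      omega
    · rw [if_neg hx, add_zero]
      have hx' : ∃ a : A, ¬ Commute (a : E) x := by
        by_contra hcon
        push Not at hcon
        apply hx
        rw [← hCA, Subgroup.mem_centralizer_iff]
        intro a ha
        exact hcon ⟨a, ha⟩
      obtain ⟨a₀, ha₀⟩ := hx'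
      have := two_mul_card_fiber hZ ((commHom hc x).comp A.subtype) a₀
        (by simpa [commHom_eq_one_iff] using ha₀) (⟨x * x, hsq x⟩)⁻¹
      rw [← this]
      congr 1
      apply Nat.card_congr
      refine Equiv.subtypeEquivRight (fun a => ?_)
      have ha2 : (a : E) * a = 1 := by
        have := hA2 a a.2
        simpa [pow_two] using this
      have h1 := Subgroup.mem_center_iff.mp (hc a x)
      have e1 : (a : E) * x = ⁅(a : E), x⁆ * (x * a) := by simp only [commutatorElement_def]; group
      have e2 : (x * a) * (x * a) = ⁅(a : E), x⁆ * (x * x) := by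
        calc (x * a) * (x * a) = x * (a * x) * a := by group
          _ = x * (⁅(a : E), x⁆ * (x * a)) * a := by rw [← e1]
          _ = (x * ⁅(a : E), x⁆) * x * (a * a) := by group
          _ = (⁅(a : E), x⁆ * x) * x * (a * a) := by rw [h1 x]
          _ = ⁅(a : E), x⁆ * (x * x) := by rw [ha2]; group
      rw [e2, eq_inv_iff_mul_eq_one]
      constructor
      · intro h
        exact Subtype.ext h
      · intro h
        exact congrArg Subtype.val h
  have h2 : ∑ x : E, 2 * Nat.card {a : A // (x * a) * (x * a) = 1} =
      ∑ a : A, 2 * Nat.card {x : E // (x * a) * (x * a) = 1} := by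
    rw [← Finset.mul_sum, ← Finset.mul_sum, hswap]
  simp only [hL, hR] at h2
  rw [Finset.sum_add_distrib] at h2
  simp only [Finset.sum_const, Finset.card_univ, smul_eq_mul, ← Finset.sum_filter] at h2
  have e1 : (Finset.univ.filter (fun x : E => x ∈ A)).card = Nat.card A := by
    rw [Nat.card_eq_fintype_card, Fintype.card_subtype]
  rw [e1, ← Nat.card_eq_fintype_card, ← Nat.card_eq_fintype_card, hAcard, hcard] at h2
  -- order 4 iff square nontrivial
  have hord : ∀ x : E, orderOf x = 4 ↔ ¬ x * x = 1 := by
    intro x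
    constructor
    · intro h h1
      have := orderOf_dvd_of_pow_eq_one (x := x) (n := 2) (by rw [pow_two]; exact h1)
      rw [h] at this
      omega
    · intro h
      have := orderOf_eq_prime_pow (p := 2) (n := 1) (x := x) (by simpa [pow_two] using h)
        (by
          have := hZsq _ (hsq x)
          calc x ^ 2 ^ (1 + 1) = (x * x) * (x * x) := by
                have : (2 : ℕ) ^ (1 + 1) = 4 := by norm_num
                rw [this]; simp only [pow_succ, pow_zero, one_mul, mul_assoc]
            _ = 1 := this)
      simpa using this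
  have h3 : Nat.card {x : E // orderOf x = 4} = Nat.card {x : E // ¬ x * x = 1} :=
    Nat.card_congr (Equiv.subtypeEquivRight hord)
  have h4 := Nat.card_congr (Equiv.sumCompl (fun x : E => x * x = 1))
  rw [Nat.card_sum, hcard] at h4
  rw [h3]
  have h5 : 2 ^ (m + 1) * (2 ^ (2 * m + 1) + 2 ^ (m + 1)) =
      2 ^ (m + 1) * (2 * Nat.card {x : E // x * x = 1}) := by
    nlinarith [h2]
  have h6 := Nat.eq_of_mul_eq_mul_left (by positivity) h5
  have e3 : 2 ^ (2 * m + 1) = 2 * 2 ^ (2 * m) := by ring
  have e4 : 2 ^ (m + 1) = 2 * 2 ^ m := by ring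
  omega

end Cfsg.Agent.S2880
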