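import Cfsg.Statements.S2881
import Mathlib
import Cfsg.Agent.S2880

set_option autoImplicit false
open Cfsg

namespace Cfsg.Agent.S2881

/-- Let E be an extraspecial 2-group of order 2^(2m+1) of plus type (containing an elementary abelian subgroup of order 2^(m+1)), and let ω be an automorphism of E of order 5 whose fixed points are exactly the centre of E. Then m is divisible by 4. -/
theorem result {E : Type*} [Group E] [Finite E] (m : ℕ) (hm : 1 ≤ m) (hE : Cfsg.IsExtraspecial 2 E) (hcard : Nat.card E = 2 ^ (2 * m + 1)) (hplus : ∃ A : Subgroup E, Cfsg.IsElementaryAbelian 2 A ∧ Nat.card A = 2 ^ (m + 1)) (ω : E ≃* E) (hω : orderOf ω = 5) (hfix : ∀ x : E, ω x = x ↔ x ∈ Subgroup.center E) : 4 ∣ m := by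
  classical
  have hcount := Cfsg.Agent.S2880.result m hm hE hcard hplus
  have hZ := hE.2
  have := Fintype.ofFinite E
  let σ : Equiv.Perm {x : E // orderOf x = 4} :=
    ω.toEquiv.subtypeEquiv (fun a => by
      show orderOf a = 4 ↔ orderOf (ω a) = 4
      rw [MulEquiv.orderOf_eq])
  have hσk : ∀ (k : ℕ) (x : {x : E // orderOf x = 4}), ((σ ^ k) x : E) = (ω ^ k) (x : E) := by
    intro k
    induction k with
    | zero => intro x; simp
    | succ k ih =>
      intro x
      rw [pow_succ', pow_succ', Equiv.Perm.mul_apply, MulAut.mul_apply, ← ih x]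
      rfl
  have hσ5 : σ ^ 5 ^ 1 = 1 := by
    ext x
    rw [pow_one, hσk, ← hω, pow_orderOf_eq_one]
    rfl
  have : Fact (Nat.Prime 5) := ⟨by norm_num⟩
  have hdvd : 5 ∣ Fintype.card {x : E // orderOf x = 4} := by
    by_contra hnd
    obtain ⟨x, hx⟩ := Equiv.Perm.exists_fixed_point_of_prime hnd hσ5
    have h1 : ω (x : E) = x := congrArg Subtype.val hx
    have h2 := (hfix x).mp h1
    have h3 := pow_card_eq_one' (G := Subgroup.center E) (x := ⟨x, h2⟩)
    rw [hZ] at h3
    have h4 : (x : E) ^ 2 = 1 := by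
      have := congrArg Subtype.val h3
      simpa using this
    have h5 := orderOf_dvd_of_pow_eq_one h4
    rw [x.2] at h5
    omega
  rw [← Nat.card_eq_fintype_card, hcount] at hdvd
  have e : 2 ^ (2 * m) - 2 ^ m = 2 ^ m * (2 ^ m - 1) := by
    rw [Nat.mul_sub, mul_one, two_mul, pow_add]
  rw [e] at hdvd
  have h5 : 5 ∣ 2 ^ m - 1 := by
    apply Nat.Coprime.dvd_of_dvd_mul_left _ hdvd
    apply Nat.Coprime.pow_right
    norm_num
  have h6 : 2 ^ m % 5 = 1 := by
    have : 1 ≤ 2 ^ m := Nat.one_le_two_pow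
    omega
  have h7 : 2 ^ m % 5 = 2 ^ (m % 4) % 5 := by
    conv_lhs => rw [← Nat.div_add_mod m 4, pow_add, pow_mul]
    rw [Nat.mul_mod, Nat.pow_mod]
    norm_num
  rw [h7] at h6
  have h8 : m % 4 < 4 := Nat.mod_lt _ (by norm_num)
  apply Nat.dvd_of_mod_eq_zero
  interval_cases h : m % 4 <;> simp_all

end Cfsg.Agent.S2881
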