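import Cfsg.Statements.S5170
import Cfsg.Agent.Lib.Helper88Mathieu

set_option autoImplicit false
open Cfsg

namespace Cfsg.Agent.S5170

open Cfsg.Agent.Lib.Helper88PC Cfsg.Agent.Lib.Helper88NormCalc Cfsg.Agent.Lib.Helper88FusCert
  Cfsg.Agent.Lib.Helper88Mathieu

/-- polycyclic generating sequence of a Sylow 2-subgroup: `(x, x⁻¹, B)` -/
def pcData : List (ℕ × ℕ × ℕ) := [(799188698501590373784162406880098895, 799188698501590373784162406880098895, 8658945), (549435938549513098626511792949541362, 549435938549513098626511792949541362, 8193), (777113540796870285752992478210165293, 777113540796870285752992478210165293, 1), (757641318918563829785217202181549088, 757641318918563829785217202181549088, 262144), (984806756521764575121331939741940192, 984806756521764575121331939741940192, 524290), (966071514333656841610845049996053088, 966071514333656841610845049996053088, 2), (958359841193275559058527489894996000, 958359841193275559058527489894996000, 21116), (964814718068974595068575295767492640, 964814718068974595068575295767492640, 4620), (981778418385515084080897070847012896, 981778418385515084080897070847012896,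 12), (969202056781860934635753244362607648, 969202056781860934635753244362607648, 4)]

def stages : List (ℕ × List (ℕ × ℕ × ℕ)) := [(2, [(3, 99999, 8), (1, 1, 0)]), (3, [(1, 0, 1), (3, 99999, 8), (1, 1, 0), (3, 4, 8), (0, 1, 0), (1, 2, 0), (3, 7, 1), (0, 1, 0), (1, 2, 0), (3, 10, 2), (1, 1, 0)]), (0, [(1, 0, 1), (1, 0, 3), (3, 99999, 8), (1, 1, 0)])]

def finProg : List (ℕ × ℕ × ℕ) := [(1, 0, 1), (1, 0, 3), (1, 0, 5), (3, 99999, 8), (0, 1, 0), (1, 2, 0), (3, 7, 1), (0, 2, 0), (1, 3, 0), (3, 10, 4), (1, 1, 0), (3, 13, 8), (0, 6, 0), (1, 7, 0), (3, 16, 1), (0, 1, 0), (1, 2, 0), (3, 19, 2), (1, 1, 0), (3, 22, 1), (0, 7, 0), (1, 8, 0), (3, 25, 2), (1, 1, 0), (1, 25, 1), (1, 0, 7), (2, 8524371, 0), (0, 17, 0), (1, 18, 0), (0, 18, 2), (1, 19, 0), (1, 33, 20), (1, 0, 9), (2, 12849992, 0), (0, 16, 0), (1, 17, 0), (0, 17, 2), (1, 18, 0), (1, 41, 27), (1, 0, 21), (2, 8721940, 0), (0, 18, 0), (1, 19, 0), (0, 19, 2), (1, 20, 0), (1, 46, 1), (1, 0, 9), (2, 4924673, 0), (0, 20, 0), (1, 21, 0), (0, 21, 2), (1, 22, 0), (1, 54, 24), (1, 0, 9), (2, 198058, 0), (0, 18, 0), (1, 19, 0), (0, 19, 2), (1, 20, 0),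 (1, 62, 31), (1, 0, 23), (2, 4409606, 0), (0, 18, 0), (1, 19, 0), (0, 19, 2), (1, 20, 0)]

def zc : ℕ := 964814718068974595068575295767492640

def fusProg : List (ℕ × ℕ × ℕ) := [(1, 975689143262737985128774114714130130, 984806756521764575121331939741940192), (2, 974422238081544939122441376219924512, 958359841193275559058527489894996000), (3, 543418429457238227056832688834654784, 963746088592452898125099198249967648), (4, 23626521920469480065933015101687172, 757641318918563829785217202181549088), (5, 930783958921599675149087939475548437, 777113540796870285752992478210165293), (6, 189832084473951344013585362587198821, 549435938549513098626511792949541362), (7, 154651286411837529495799674915412134, 799188698501590373784162406880098895), (0, 2, 3), (0, 0, 3), (0, 0, 5), (0, 0, 7), (0, 0, 9), (0, 8, 9), (0, 0, 9), (0, 10, 12), (0, 0, 11)]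

set_option maxRecDepth 100000 in
theorem pc_ok : pcOK pcData = true := by decide +kernel

set_option maxRecDepth 100000 in
theorem gens_ok : (gensOf pcData).all in24 = true := by decide +kernel

set_option maxRecDepth 100000 in
theorem chain_ok : chainOK (elems (gensOf pcData)) [16777215] [] stages finProg = true := by
  decide +kernel

set_option maxRecDepth 100000 in
theorem closure_ok : closureOK in24 (elems (gensOf pcData)) (gensOf pcData) zc fusProg = true := by
  decide +kernel

/-- The 2-fusion system of the Mathieu group M₂₄ (as the explicit permutation group of the 24 points preserving the binary Golay code) on a Sylow 2-subgroup is simple: saturated, over a nontrivial 2-group, with no normal subsystem other than the trivial one and itself. -/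
theorem result (S : Sylow 2 Cfsg.M24) : (Cfsg.groupFusionSystem (S : Subgroup Cfsg.M24)).IsSimple 2 := by
  exact master gdata24 pcData pc_ok gens_ok fact24 (by decide) stages finProg chain_ok zc fusProg closure_ok S

end Cfsg.Agent.S5170
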