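import Cfsg.Statements.S2929
import Cfsg.Agent.Lib.H16AltDefs
import Cfsg.Agent.Lib.H16AltTr
import Cfsg.Agent.Lib.H16AltQ
import Cfsg.Agent.Lib.H16AltP1
import Cfsg.Agent.Lib.H16AltConj
import Cfsg.Agent.Lib.H16AltP3
import Cfsg.Agent.Lib.H16AltIso
import Cfsg.Agent.Lib.H16AltSolv
import Cfsg.Agent.Lib.H16AltSimple
import Cfsg.Agent.Lib.H16AltInj
import Cfsg.Agent.Lib.H16AltP5
import Cfsg.Agent.Lib.H16AltCard

set_option autoImplicit false
open Cfsg

namespace Cfsg.Agent.S2929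

open Subgroup Equiv Equiv.Perm Cfsg.Agent.Lib.H16AltDefs Cfsg.Agent.Lib

/-- one 3-cycle of `H` not centralizing `K` identifies `K`. -/
theorem one_cycle {n : ℕ} {H K : Subgroup (Perm (Fin n))} (hQS : QS H K) (c : Perm (Fin n))
    (hcH : c ∈ H) (h3 : c.IsThreeCycle) (hnc : ¬ ∀ k ∈ K, c * k = k * c) :
    ∃ Δ : Finset (Fin n), 5 ≤ Δ.card ∧ K = A Δ ∧ c ∈ A Δ := by
  set C : Set (Perm (Fin n)) := {g | ∃ h ∈ H, g = h * c * h⁻¹} with hC
  have hcC : c ∈ C := ⟨1, H.one_mem, by simp⟩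
  have hC3 : ∀ g ∈ C, g.IsThreeCycle := by
    rintro g ⟨h, _, rfl⟩
    unfold IsThreeCycle at h3 ⊢
    rw [cycleType_conj]
    exact h3
  have hNH : closure C ≤ H := by
    rw [closure_le]
    rintro g ⟨h, hh, rfl⟩
    exact H.mul_mem (H.mul_mem hh hcH) (H.inv_mem hh)
  have hNnorm : ∀ h ∈ H, ∀ x ∈ closure C, h * x * h⁻¹ ∈ closure C := by
    intro h hh x hx
    induction hx using closure_induction with
    | mem y hy =>
      obtain ⟨h', hh', rfl⟩ := hy
      exact subset_closure ⟨h * h', H.mul_mem hh hh', by group⟩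
    | one => simp
    | mul a b _ _ ha hb =>
      have : h * (a * b) * h⁻¹ = (h * a * h⁻¹) * (h * b * h⁻¹) := by group
      rw [this]; exact mul_mem ha hb
    | inv a _ ha =>
      have : h * a⁻¹ * h⁻¹ = (h * a * h⁻¹)⁻¹ := by group
      rw [this]; exact inv_mem ha
  have hKN : K ≤ closure C := by
    rcases H16AltQ.q_lemma hQS (closure C) hNH (fun k hk => hNnorm k (hQS.le hk)) with h | h
    · exact h
    · exact absurd (h.2 c (subset_closure hcC)) hnc
  obtain ⟨x, hx⟩ : ∃ x, c x ≠ x := by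
    by_contra hcon
    push Not at hcon
    have : c = 1 := Equiv.ext hcon
    rw [this] at h3
    exact absurd h3 (by
      intro h
      have := h.card_support
      simp at this)
  obtain ⟨Δ, hΔ, hAle, hcA⟩ := H16AltP1.key C hC3 c hcC x hx
  have hKA : K ≤ A Δ := by
    rcases H16AltQ.q_lemma hQS (A Δ) (hAle.trans hNH)
      (fun k hk a ha => H16AltConj.conj_mem (hΔ k (hKN hk)) ha) with h | h
    · exact h
    · exact absurd (h.2 c hcA) hnc
  have h5 : 5 ≤ Δ.card := H16AltSolv.card_ge K hQS.perf hQS.ne hKA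
  refine ⟨Δ, h5, ?_, hcA⟩
  exact H16AltSimple.eq_A h5 K hKA hQS.ne (fun a ha k hk => hQS.norm a (hNH (hAle ha)) k hk)

/-- Let n ≥ 5 and let H be a subgroup of the symmetric group of degree n whose generalized Fitting subgroup F*(H) is quasisimple. If H contains a Sylow 3-subgroup of the symmetric group, then F*(H) is isomorphic to an alternating group of degree m for some m ∈ {n − 2, n − 1, n}. -/
theorem result (n : ℕ) (hn : 5 ≤ n) (H : Subgroup (Equiv.Perm (Fin n))) (hF : Cfsg.IsQuasisimple ↥(Cfsg.generalizedFittingSubgroup ↥H)) (hS : ∃ P : Sylow 3 (Equiv.Perm (Fin n)), (P : Subgroup (Equiv.Perm (Fin n))) ≤ H) : ∃ m : ℕ, (m = n - 2 ∨ m = n - 1 ∨ m = n) ∧ Nonempty (↥(Cfsg.generalizedFittingSubgroup ↥H) ≃* ↥(alternatingGroup (Fin m))) := by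
  obtain ⟨K, hQS, ⟨e⟩⟩ := H16AltTr.transfer H hF
  obtain ⟨t, c, hcH, h3, hd, hnt⟩ := H16AltP3.three_cycles n H hS
  obtain ⟨j, hj⟩ : ∃ j, ¬ ∀ k ∈ K, c j * k = k * c j := by
    by_contra hcon
    push Not at hcon
    exact H16AltP5.not_all_central K hQS.perf hQS.ne t c h3 hd hnt hcon
  obtain ⟨Δ, h5, hK, _⟩ := one_cycle hQS (c j) (hcH j) (h3 j) hj
  have hall : ∀ i, c i ∈ A Δ := by
    intro i
    have hi : ¬ ∀ k ∈ K, c i * k = k * c i := by
      intro hcen
      have hiK : c i ∈ K := hQS.cent (c i) (hcH i) hcen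
      have h1 : c i = 1 := H16AltSimple.center_trivial h5 (c i) (hK ▸ hiK) (hK ▸ hcen)
      have h3i := h3 i
      rw [h1] at h3i
      have := h3i.card_support
      simp at this
    obtain ⟨Δ', h5', hK', hc'⟩ := one_cycle hQS (c i) (hcH i) (h3 i) hi
    have hsub : Δ' ⊆ Δ := H16AltInj.subset_of_le (by omega) (by rw [← hK', hK])
    refine ⟨hc'.1, fun x hx => hc'.2 x (fun hx' => hx (hsub hx'))⟩
  have hcard : 3 * t ≤ Δ.card := H16AltCard.card_le t c h3 hd hall
  have hle : Δ.card ≤ n := by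
    have := Finset.card_le_univ Δ
    simpa using this
  obtain ⟨f⟩ := H16AltIso.iso Δ
  refine ⟨Δ.card, by omega, ⟨e.trans ((MulEquiv.subgroupCongr hK).trans f)⟩⟩

end Cfsg.Agent.S2929
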