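import Cfsg.Statements.S2928
import Cfsg.Agent.S2929
import Cfsg.Agent.Lib.H16A2Ex3
import Cfsg.Agent.Lib.H16A2Cen3
import Cfsg.Agent.Lib.H16A2Fin
import Cfsg.Agent.Lib.H16A2SylE
import Cfsg.Agent.Lib.H16A2SylV

set_option autoImplicit false
open Cfsg

namespace Cfsg.Agent.S2928

open Subgroup Equiv Equiv.Perm Cfsg.Agent.Lib.H16AltDefs Cfsg.Agent.Lib.H16A2Defs Cfsg.Agent.Lib

/-- Let n ≥ 8 and let H be a subgroup of the symmetric group of degree n whose generalized Fitting subgroup F*(H) is quasisimple. If H contains a Sylow 2-subgroup of the alternating group of degree n, then F*(H) is isomorphic to an alternating group of degree m for some m ∈ {n − 3, n − 2, n − 1, n}. -/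
theorem result (n : ℕ) (hn : 8 ≤ n) (H : Subgroup (Equiv.Perm (Fin n))) (hF : Cfsg.IsQuasisimple ↥(Cfsg.generalizedFittingSubgroup ↥H)) (hS : ∃ P : Sylow 2 ↥(alternatingGroup (Fin n)), ((P : Subgroup ↥(alternatingGroup (Fin n))).map (alternatingGroup (Fin n)).subtype) ≤ H) : ∃ m : ℕ, (m = n - 3 ∨ m = n - 2 ∨ m = n - 1 ∨ m = n) ∧ Nonempty (↥(Cfsg.generalizedFittingSubgroup ↥H) ≃* ↥(alternatingGroup (Fin m))) := by
  obtain ⟨K, hQS, ⟨e⟩⟩ := H16AltTr.transfer H hF
  obtain ⟨k, a, b, hk, hP⟩ := H16A2SylE.exists_pairs n hn H hS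
  have hV := H16A2SylV.exists_vset n (by omega) H hS
  obtain ⟨c, hcH, h3⟩ := H16A2Ex3.exists_three hQS hP hk hV
  obtain ⟨Δ, h5, hK, _⟩ := Cfsg.Agent.S2929.one_cycle hQS c hcH h3
    (H16A2Cen3.three_not_central hQS c hcH h3)
  have hb := H16A2Fin.card_bound hQS hK h5 hP
  have hle : Δ.card ≤ n := by
    have := Finset.card_le_univ Δ
    simpa using this
  obtain ⟨f⟩ := H16AltIso.iso Δ
  refine ⟨Δ.card, by omega, ⟨e.trans ((MulEquiv.subgroupCongr hK).trans f)⟩⟩

end Cfsg.Agent.S2928
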