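import Cfsg.Statements.S2934
import Cfsg.Agent.Lib.Helper68QEDefs
import Cfsg.Agent.Lib.H68QESetup
import Cfsg.Agent.Lib.H68QECenter
import Cfsg.Agent.Lib.H68QESq
import Cfsg.Agent.Lib.H68QECardE
import Cfsg.Agent.Lib.H68QEMod3
import Cfsg.Agent.Lib.H68QEUpper
import Cfsg.Agent.Lib.H68QEAr
import Cfsg.Agent.Lib.H33I2Extra

set_option autoImplicit false
open Cfsg

namespace Cfsg.Agent.S2934

open Cfsg.Agent.Lib Cfsg.Agent.Lib.Helper68QEDefs

/-- Let p be an odd prime, W a finite 2-group and E a non-cyclic abelian p-subgroup of Aut(W) such that, for every nontrivial e ∈ E, the fixed points of e in W contain at most one involution. Then E has order 9, W is extraspecial of order 2⁵, 2⁷ or 2⁹, and the common fixed points of E in W form exactly the centre Z(W). -/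
theorem result {W : Type*} [Group W] [Finite W] (hW : IsPGroup 2 W) {p : ℕ} [Fact p.Prime] (hp : p ≠ 2) (E : Subgroup (MulAut W)) (hE : IsPGroup p ↥E) (hab : IsMulCommutative ↥E) (hnc : ¬ IsCyclic ↥E) (hfix : ∀ e ∈ E, e ≠ 1 → ∀ x y : W, orderOf x = 2 → orderOf y = 2 → e x = x → e y = y → x = y) : Nat.card ↥E = 9 ∧ Cfsg.IsExtraspecial 2 W ∧ (Nat.card W = 2 ^ 5 ∨ Nat.card W = 2 ^ 7 ∨ Nat.card W = 2 ^ 9) ∧ {x : W | ∀ e ∈ E, e x = x} = (Subgroup.center W : Set W) := by
  have h : Hyp p E :=
    { pW := hW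
      podd := hp
      pE := hE
      comm := fun e he f hf => by
        have := hab.is_comm.comm ⟨e, he⟩ ⟨f, hf⟩
        exact congrArg Subtype.val this
      nc := hnc
      fix := fun e he hne x hx y hy hox hoy => hfix e he hne x y hox hoy hx hy }
  obtain ⟨hp3, z, c⟩ := H68QESetup.setup h
  subst hp3
  obtain ⟨hzc, hcen⟩ := H68QECenter.center h c
  have hsq := H68QESq.sq h c
  have hcE := H68QECardE.cardE h c
  have hmod := H68QEMod3.card_mod3 h c
  have hup := H68QEUpper.card_le h c hcE hzc hsq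
  haveI : Fact (Nat.Prime 2) := ⟨Nat.prime_two⟩
  obtain ⟨a, ha⟩ := IsPGroup.iff_card.mp hW
  have hlo : 8 < Nat.card W := by
    obtain ⟨e, he, he1, hq⟩ := c.big
    rw [← hq.card]
    have hne : Fx1 e ≠ ⊤ := by
      intro htop
      apply he1
      ext w
      have hw : w ∈ Fx1 e := htop ▸ Subgroup.mem_top w
      exact hw
    by_contra hcon
    exact hne (Subgroup.eq_top_of_le_card _ (not_lt.mp hcon))
  have hz1 : z ≠ 1 := by
    intro h1
    have := c.z_ord
    rw [h1, orderOf_one] at this
    norm_num at this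
  rw [ha] at hmod hlo hup
  have haa := H68QEAr.ar a hmod hlo hup
  refine ⟨hcE, ?_, ?_, ?_⟩
  · exact H33I2Extra.extraspecial_of_elts z a (by omega) ha hz1 hzc hcen hsq
  · rw [ha]
    rcases haa with h1 | h1 | h1 <;> simp [h1]
  · ext x
    simp only [Set.mem_setOf_eq, SetLike.mem_coe]
    constructor
    · intro hx
      rw [Subgroup.mem_center_iff]
      rcases (c.fxE x).mp hx with h1 | h1
      · intro g
        rw [h1]
        simp
      · intro g
        rw [h1]
        exact (hzc g).symm
    · intro hx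
      rw [Subgroup.mem_center_iff] at hx
      exact (c.fxE x).mpr (hcen x hx)

end Cfsg.Agent.S2934
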