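import Cfsg.Statements.S2968
import Cfsg.Agent.Lib.Helper55Isolated

set_option autoImplicit false
open Cfsg

namespace Cfsg.Agent.S2968

open Cfsg.Agent.Lib.Helper55Isolated

/-- Let G be a finite group, p a prime, P a Sylow p-subgroup of G and x ∈ P an element of p-power order which is isolated in G (the only conjugate of x commuting with x is x itself). Then x lies in the centre of P, and the subgroup generated by x is both strongly closed and weakly closed in P with respect to G. -/
theorem result {G : Type*} [Group G] [Finite G] {p : ℕ} [Fact p.Prime] (P : Sylow p G) (x : G) (hxP : x ∈ (P : Subgroup G)) (hx : ∃ k : ℕ, orderOf x = p ^ k) (hiso : Cfsg.IsIsolated x) : x ∈ (P : Subgroup G) ⊓ Subgroup.centralizer ((P : Subgroup G) : Set G) ∧ Cfsg.IsStronglyClosed (Subgroup.zpowers x) (P : Subgroup G) ∧ Cfsg.IsWeaklyClosed (Subgroup.zpowers x) (P : Subgroup G) := by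
  have hcomm : ∀ y ∈ (P : Subgroup G), y * x = x * y := by
    intro y hy
    have := conj_eq_of_mem hiso (P : Subgroup G) P.2 hxP hy
    calc y * x = y * x * y⁻¹ * y := by group
      _ = x * y := by rw [this]
  have hle : Subgroup.zpowers x ≤ (P : Subgroup G) := by
    rw [Subgroup.zpowers_le]; exact hxP
  refine ⟨Subgroup.mem_inf.2 ⟨hxP, ?_⟩, ⟨hle, ?_⟩, ⟨hle, ?_⟩⟩
  · rw [Subgroup.mem_centralizer_iff]
    exact fun y hy => hcomm y hy
  · rintro u ⟨k, rfl⟩ g hg
    simp only at hg ⊢
    set v := g * x ^ k * g⁻¹ with hv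
    have hvy : v = (g * x * g⁻¹) ^ k := by rw [hv, conj_zpow]
    have hxH : x ∈ Subgroup.centralizer ({v} : Set G) := by
      rw [Subgroup.mem_centralizer_singleton_iff]
      exact (hcomm v hg).symm
    have hyH : g * x * g⁻¹ ∈ Subgroup.centralizer ({v} : Set G) := by
      rw [Subgroup.mem_centralizer_singleton_iff, hvy]
      exact ((Commute.refl (g * x * g⁻¹)).zpow_right k).eq
    obtain ⟨a, ha, hax⟩ := exists_conj_in_subgroup hx hiso _ hxH g hyH
    rw [Subgroup.mem_centralizer_singleton_iff] at ha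
    have h1 : a * v * a⁻¹ = v := by rw [ha, mul_inv_cancel_right]
    have h2 : a * v * a⁻¹ = x ^ k := by rw [hvy, ← conj_zpow, hax]
    rw [← h1, h2]
    exact Subgroup.zpow_mem_zpowers x k
  · intro g hg
    have hgx : g * x * g⁻¹ ∈ (P : Subgroup G) := hg ⟨x, Subgroup.mem_zpowers x, rfl⟩
    have := conj_eq_of_conj_mem hiso (P : Subgroup G) P.2 hxP hgx
    rw [MonoidHom.map_zpowers]
    simp [this]

end Cfsg.Agent.S2968
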