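import Cfsg.Statements.S2969
import Cfsg.Agent.Lib.Helper55Isolated

set_option autoImplicit false
open Cfsg

namespace Cfsg.Agent.S2969

open Cfsg.Agent.Lib.Helper55Isolated

/-- Let G be a finite group, p a prime and x ∈ G an element of p-power order which is isolated in G. If R is a p-subgroup of G containing x, then N_G(R) ≤ C_G(x); in particular x lies in the centre of R. Moreover, if x lies in a normal subgroup N of a subgroup H of G, then H = N·C_H(x). -/
theorem result {G : Type*} [Group G] [Finite G] {p : ℕ} [Fact p.Prime] (x : G) (hx : ∃ k : ℕ, orderOf x = p ^ k) (hiso : Cfsg.IsIsolated x) : (∀ R : Subgroup G, IsPGroup p ↥R → x ∈ R → Subgroup.normalizer (R : Set G) ≤ Subgroup.centralizer ({x} : Set G)) ∧ (∀ H N : Subgroup G, N ≤ H → H ≤ Subgroup.normalizer (N : Set G) → x ∈ N → N ⊔ (H ⊓ Subgroup.centralizer ({x} : Set G)) = H) := by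
  constructor
  · intro R hR hxR n hn
    have h1 : n * x * n⁻¹ ∈ R := (Subgroup.mem_normalizer_iff.1 hn x).1 hxR
    have h2 := conj_eq_of_conj_mem hiso R hR hxR h1
    rw [Subgroup.mem_centralizer_singleton_iff]
    calc n * x = n * x * n⁻¹ * n := by group
      _ = x * n := by rw [h2]
  · intro H N hNH hHN hxN
    apply le_antisymm
    · exact sup_le hNH inf_le_left
    · intro h hh
      have h1 : h * x * h⁻¹ ∈ N := (Subgroup.mem_normalizer_iff.1 (hHN hh) x).1 hxN
      obtain ⟨a, ha, hax⟩ := exists_conj_in_subgroup hx hiso N hxN h h1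
      have h2 : a * h ∈ H ⊓ Subgroup.centralizer ({x} : Set G) := by
        refine Subgroup.mem_inf.2 ⟨H.mul_mem (hNH ha) hh, ?_⟩
        rw [Subgroup.mem_centralizer_singleton_iff]
        calc a * h * x = (a * (h * x * h⁻¹) * a⁻¹) * (a * h) := by group
          _ = x * (a * h) := by rw [hax]
      have h3 : h = a⁻¹ * (a * h) := by group
      rw [h3]
      exact Subgroup.mul_mem_sup (N.inv_mem ha) h2

end Cfsg.Agent.S2969
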