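import Cfsg.Statements.S2970
import Cfsg.Agent.Lib.Helper55Isolated
import Mathlib.GroupTheory.Transfer
import Mathlib.NumberTheory.Basic
import Mathlib.Data.Nat.Prime.Int
import Mathlib.Algebra.Prime.Lemmas

set_option autoImplicit false
open Cfsg

namespace Cfsg.Agent.S2970

open Cfsg.Agent.Lib.Helper55Isolated Cfsg.Agent.Lib.Helper55Sylow

theorem mem_of_coprime_pow {G : Type*} [Group G] (H : Subgroup G) (n : G) (a b : ℕ) (hab : Nat.Coprime a b)
    (ha : n ^ a ∈ H) (hb : n ^ b ∈ H) : n ∈ H := by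
  have h1 : (1 : ℤ) = a * Nat.gcdA a b + b * Nat.gcdB a b := by
    have := Nat.gcd_eq_gcd_ab a b
    rw [hab.gcd_eq_one] at this
    exact_mod_cast this
  have h2 : n = (n ^ a) ^ (Nat.gcdA a b) * (n ^ b) ^ (Nat.gcdB a b) := by
    rw [← zpow_natCast, ← zpow_natCast, ← zpow_mul, ← zpow_mul, ← zpow_add, ← h1, zpow_one]
  rw [h2]
  exact H.mul_mem (H.zpow_mem ha _) (H.zpow_mem hb _)

theorem normalizer_le_centralizer_of_fixed {G : Type*} [Group G] [Finite G] {p : ℕ} [Fact p.Prime]
    (P : Sylow p G) (hcyc : IsCyclic ↥(P : Subgroup G)) (x : G) (hxP : x ∈ (P : Subgroup G)) (hx1 : x ≠ 1)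
    (hN : Subgroup.normalizer ((P : Subgroup G) : Set G) ≤ Subgroup.centralizer ({x} : Set G)) :
    Subgroup.normalizer ((P : Subgroup G) : Set G) ≤ Subgroup.centralizer ((P : Subgroup G) : Set G) := by
  have hp : p.Prime := Fact.out
  obtain ⟨⟨g, hgP⟩, hg⟩ := hcyc.exists_generator
  have hgen : ∀ y ∈ (P : Subgroup G), ∃ j : ℤ, g ^ j = y := by
    intro y hy
    obtain ⟨j, hj⟩ := hg ⟨y, hy⟩
    exact ⟨j, by simpa using congrArg Subtype.val hj⟩
  intro n hn
  obtain ⟨k, hk⟩ := hgen (n * g * n⁻¹) ((Subgroup.mem_normalizer_iff.1 hn g).1 hgP)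
  have hpow : ∀ t : ℕ, n ^ t * g * (n ^ t)⁻¹ = g ^ (k ^ t) := by
    intro t
    induction t with
    | zero => simp
    | succ t ih =>
      calc n ^ (t + 1) * g * (n ^ (t + 1))⁻¹ = n * (n ^ t * g * (n ^ t)⁻¹) * n⁻¹ := by
            rw [pow_succ']; group
        _ = n * g ^ (k ^ t) * n⁻¹ := by rw [ih]
        _ = (n * g * n⁻¹) ^ (k ^ t) := by rw [conj_zpow]
        _ = g ^ (k ^ (t + 1)) := by rw [← hk, ← zpow_mul, pow_succ']
  obtain ⟨j, hj⟩ := hgen x hxP
  obtain ⟨m, hm⟩ := (IsPGroup.iff_orderOf.1 P.2) ⟨g, hgP⟩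
  have hm' : orderOf g = p ^ m := by rw [← hm]; exact (Subgroup.orderOf_mk g hgP).symm
  have hnx : n * x * n⁻¹ = x := by
    have := hN hn
    rw [Subgroup.mem_centralizer_singleton_iff] at this
    rw [this, mul_inv_cancel_right]
  have h1 : g ^ ((k - 1) * j) = 1 := by
    have h2 : n * x * n⁻¹ = g ^ (k * j) := by
      rw [← hj, ← conj_zpow, ← hk, ← zpow_mul]
    rw [hnx, ← hj] at h2
    rw [sub_mul, one_mul, zpow_sub, ← h2, mul_inv_cancel]
  have h3 : ((p ^ m : ℕ) : ℤ) ∣ (k - 1) * j := by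
    rw [← hm']; exact orderOf_dvd_iff_zpow_eq_one.2 h1
  have h4 : ¬ ((p ^ m : ℕ) : ℤ) ∣ j := by
    intro h
    apply hx1
    rw [← hj]
    rw [← hm'] at h
    exact orderOf_dvd_iff_zpow_eq_one.1 h
  have hpk : (p : ℤ) ∣ k - 1 := by
    by_contra hnd
    apply h4
    have h3' : (p : ℤ) ^ m ∣ (k - 1) * j := by exact_mod_cast h3
    have := (Nat.prime_iff_prime_int.mp hp).pow_dvd_of_dvd_mul_left m hnd h3'
    exact_mod_cast this
  have hm1 : 1 ≤ m := by
    by_contra h
    have : m = 0 := by omega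
    apply h4
    rw [this]; simp
  have h5 := dvd_sub_pow_of_dvd_sub hpk (m - 1)
  rw [Nat.sub_add_cancel hm1, one_pow] at h5
  have h6 : g ^ (k ^ p ^ (m - 1)) = g := by
    have : g ^ (k ^ p ^ (m - 1) - 1) = 1 := by
      apply orderOf_dvd_iff_zpow_eq_one.1
      rw [hm']; exact_mod_cast h5
    rw [zpow_sub, zpow_one, mul_inv_eq_one] at this
    exact this
  -- n ^ (p^(m-1)) commutes with g
  have h7 : n ^ (p ^ (m - 1)) ∈ Subgroup.centralizer ({g} : Set G) := by
    rw [Subgroup.mem_centralizer_singleton_iff]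
    have := hpow (p ^ (m - 1))
    rw [h6] at this
    calc n ^ p ^ (m - 1) * g = n ^ p ^ (m - 1) * g * (n ^ p ^ (m - 1))⁻¹ * n ^ p ^ (m - 1) := by group
      _ = g * n ^ p ^ (m - 1) := by rw [this]
  -- n ^ r in P
  set N := Subgroup.normalizer ((P : Subgroup G) : Set G) with hNdef
  set r := (P : Subgroup G).relIndex N with hr
  have h8 : n ^ r ∈ (P : Subgroup G) := by
    have := ((P : Subgroup G).subgroupOf N).pow_index_mem (⟨n, hn⟩ : ↥N)
    have h' : n ^ ((P : Subgroup G).subgroupOf N).index ∈ (P : Subgroup G) := by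
      simpa [Subgroup.mem_subgroupOf] using this
    exact h'
  have h9 : n ^ r ∈ Subgroup.centralizer ({g} : Set G) := by
    rw [Subgroup.mem_centralizer_singleton_iff]
    obtain ⟨i, hi⟩ := hgen _ h8
    rw [← hi]
    exact ((Commute.refl g).zpow_left i).eq
  have hcop : Nat.Coprime (p ^ (m - 1)) r := by
    apply Nat.Coprime.pow_left
    rw [hp.coprime_iff_not_dvd]
    intro hd
    exact P.not_dvd_index (hd.trans (Subgroup.relIndex_dvd_index_of_le Subgroup.le_normalizer))
  have h10 := mem_of_coprime_pow _ n _ _ hcop h7 h9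
  rw [Subgroup.mem_centralizer_singleton_iff] at h10
  rw [Subgroup.mem_centralizer_iff]
  intro y hy
  obtain ⟨i, hi⟩ := hgen y hy
  rw [← hi]
  have : Commute g n := h10.symm
  exact (this.zpow_left i).eq

/-- Let G be a finite group, p a prime and x ∈ G an element of p-power order which is isolated in G. Then the image of x in any quotient G ⧸ N is isolated in G ⧸ N; and if x ≠ 1 and the Sylow p-subgroups of G are cyclic, then G has a normal p-complement. -/
theorem result {G : Type*} [Group G] [Finite G] {p : ℕ} [Fact p.Prime] (x : G) (hx : ∃ k : ℕ, orderOf x = p ^ k) (hiso : Cfsg.IsIsolated x) : (∀ (N : Subgroup G) [N.Normal], Cfsg.IsIsolated (QuotientGroup.mk x : G ⧸ N)) ∧ (x ≠ 1 → (∀ P : Sylow p G, IsCyclic ↥(P : Subgroup G)) → Cfsg.HasNormalPComplement p G) := by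
  constructor
  · intro N _ gbar hcomm
    obtain ⟨g, rfl⟩ := QuotientGroup.mk_surjective gbar
    set y := g * x * g⁻¹ with hy
    have hy' : (QuotientGroup.mk g : G ⧸ N) * QuotientGroup.mk x * (QuotientGroup.mk g)⁻¹ = QuotientGroup.mk y := by
      simp [hy]
    rw [hy'] at hcomm ⊢
    set H : Subgroup G := (Subgroup.centralizer ({(QuotientGroup.mk y : G ⧸ N)} : Set (G ⧸ N))).comap (QuotientGroup.mk' N) with hH
    have hxH : x ∈ H := by
      rw [hH, Subgroup.mem_comap, Subgroup.mem_centralizer_singleton_iff]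
      exact hcomm.eq
    have hyH : g * x * g⁻¹ ∈ H := by
      rw [hH, Subgroup.mem_comap, Subgroup.mem_centralizer_singleton_iff]
      rfl
    obtain ⟨a, ha, hax⟩ := exists_conj_in_subgroup hx hiso H hxH g hyH
    rw [hH, Subgroup.mem_comap, Subgroup.mem_centralizer_singleton_iff] at ha
    have h1 : (QuotientGroup.mk x : G ⧸ N) = QuotientGroup.mk' N a * QuotientGroup.mk y * (QuotientGroup.mk' N a)⁻¹ := by
      rw [← hax]; simp [hy]
    rw [h1, ha, mul_inv_cancel_right]
  · intro hx1 hcyc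
    obtain ⟨P, hP⟩ := (isPGroup_zpowers hx).exists_le_sylow
    have hxP : x ∈ (P : Subgroup G) := hP (Subgroup.mem_zpowers x)
    have hN : Subgroup.normalizer ((P : Subgroup G) : Set G) ≤ Subgroup.centralizer ({x} : Set G) := by
      intro n hn
      have h1 : n * x * n⁻¹ ∈ (P : Subgroup G) := (Subgroup.mem_normalizer_iff.1 hn x).1 hxP
      have h2 := conj_eq_of_conj_mem hiso (P : Subgroup G) P.2 hxP h1
      rw [Subgroup.mem_centralizer_singleton_iff]
      calc n * x = n * x * n⁻¹ * n := by group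
        _ = x * n := by rw [h2]
    have hNC := normalizer_le_centralizer_of_fixed P (hcyc P) x hxP hx1 hN
    exact ⟨P, _, inferInstance, MonoidHom.ker_transferSylow_isComplement' P hNC⟩

end Cfsg.Agent.S2970
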