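import Cfsg.Statements.S2971
import Cfsg.Agent.S2970
import Cfsg.Agent.Lib.Helper3RankTwo
import Cfsg.Agent.Lib.Helper37Cores

set_option autoImplicit false
open Cfsg

namespace Cfsg.Agent.S2971

open Cfsg.Agent.Lib.Helper37Cores

theorem isCyclic_sylow {G : Type*} [Group G] [Finite G] {p : ℕ} [Fact p.Prime] (hp : p ≠ 2)
    (hrk : Cfsg.PRankLE p 1 G) (P : Sylow p G) : IsCyclic ↥(P : Subgroup G) := by
  have hpp : p.Prime := Fact.out
  by_contra hnc
  obtain ⟨A, -, ⟨hA1, hA2⟩, hA3⟩ := Cfsg.Agent.Lib.Helper3RankTwo.main hp (Nat.card ↥(P : Subgroup G))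
    ↥(P : Subgroup G) le_rfl P.2 hnc
  have h1 := hrk (A.map (P : Subgroup G).subtype) ?_ ?_
  · rw [Subgroup.card_map_of_injective (Subgroup.subtype_injective _), hA3] at h1
    exact absurd h1 (not_le.2 (Nat.pow_lt_pow_right hpp.one_lt (by norm_num)))
  · rw [isMulCommutative_iff]
    rintro ⟨_, a, ha, rfl⟩ ⟨_, b, hb, rfl⟩
    have := (isMulCommutative_iff.1 hA1) ⟨a, ha⟩ ⟨b, hb⟩
    apply Subtype.ext
    have h2 : a * b = b * a := congrArg Subtype.val this
    exact congrArg (Subtype.val : ↥(P : Subgroup G) → G) h2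
  · rintro _ ⟨a, ha, rfl⟩
    have := hA2 a ha
    rw [← map_pow, this, map_one]

/-- Let G be a finite group and p an odd prime such that G has p-rank at most 1 (no elementary abelian subgroup of order p²). If x ∈ G is an isolated element of order p, then x is central modulo the largest normal subgroup of G of order prime to p. -/
theorem result {G : Type*} [Group G] [Finite G] {p : ℕ} [Fact p.Prime] (hp : p ≠ 2) (hrk : Cfsg.PRankLE p 1 G) (x : G) (hx : orderOf x = p) (hiso : Cfsg.IsIsolated x) : Cfsg.InZStar p x := by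
  have hpp : p.Prime := Fact.out
  have hx1 : x ≠ 1 := by
    intro h
    rw [h, orderOf_one] at hx
    exact hpp.one_lt.ne hx
  obtain ⟨P, N, hN, hc⟩ := (Cfsg.Agent.S2970.result x ⟨1, by rw [hx, pow_one]⟩ hiso).2 hx1
    (isCyclic_sylow hp hrk)
  have hcard := hc.card_mul_card
  have hNp : (Nat.card N).Coprime p := by
    rw [Nat.coprime_comm, hpp.coprime_iff_not_dvd]
    intro hd
    apply P.not_dvd_index
    have h2 := (P : Subgroup G).card_mul_index
    rw [← hcard, mul_comm] at h2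
    have h3 : (P : Subgroup G).index = Nat.card N := Nat.eq_of_mul_eq_mul_right Nat.card_pos h2
    rw [h3]; exact hd
  have hle : N ≤ pPrimeCore p G := le_pPrimeCore hN hNp
  have hcyc := isCyclic_sylow hp hrk P
  have hdec : ∀ g : G, ∃ n ∈ N, ∃ u ∈ (P : Subgroup G), g = n * u := by
    intro g
    have hg : g ∈ ((N ⊔ (P : Subgroup G) : Subgroup G) : Set G) := by rw [hc.sup_eq_top]; trivial
    rw [Subgroup.normal_mul] at hg
    obtain ⟨n, hn, u, hu, rfl⟩ := Set.mem_mul.1 hg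
    exact ⟨n, hn, u, hu, rfl⟩
  intro g
  apply hle
  obtain ⟨n₁, hn₁, u₁, hu₁, rfl⟩ := hdec g
  obtain ⟨n₂, hn₂, u₂, hu₂, rfl⟩ := hdec x
  rw [← QuotientGroup.eq_one_iff]
  have e1 : ((n₁ : G) : G ⧸ N) = 1 := (QuotientGroup.eq_one_iff n₁).2 hn₁
  have e2 : ((n₂ : G) : G ⧸ N) = 1 := (QuotientGroup.eq_one_iff n₂).2 hn₂
  simp only [QuotientGroup.mk_mul, QuotientGroup.mk_inv, e1, e2, one_mul]
  have hcomm : u₁ * u₂ = u₂ * u₁ := by
    have := (isMulCommutative_iff.1 (IsCyclic.isMulCommutative (α := ↥(P : Subgroup G)))) ⟨u₁, hu₁⟩ ⟨u₂, hu₂⟩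
    exact congrArg Subtype.val this
  rw [← QuotientGroup.mk_mul, hcomm]
  simp

end Cfsg.Agent.S2971
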