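import Cfsg.Statements.S2972
import Cfsg.Agent.Lib.Helper55ZStar
import Cfsg.Agent.Lib.Helper55Core
import Cfsg.Agent.Lib.Helper40Sylow
import Cfsg.Agent.Lib.Helper37StrEmb
import Mathlib.GroupTheory.Transfer

set_option autoImplicit false
open Cfsg

namespace Cfsg.Agent.S2972

open Cfsg.Agent.Lib.Helper55Isolated Cfsg.Agent.Lib.Helper55ZStar Cfsg.Agent.Lib.Helper55Sylow
  Cfsg.Agent.Lib.Helper37Cores Cfsg.Agent.Lib.Helper40Sylow
open scoped commutatorElement

section
variable {G : Type*} [Group G] [Finite G] {p : ℕ} [Fact p.Prime] (x : G) (hx : orderOf x = p)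
  (hiso : Cfsg.IsIsolated x) (hnz : ¬ Cfsg.InZStar p x)
  (hmin : ∀ (H : Subgroup G) (hxH : x ∈ H), H ≠ ⊤ → Cfsg.InZStar p (⟨x, hxH⟩ : ↥H))
  (hquot : ∀ (N : Subgroup G) [N.Normal], N ≠ ⊥ → Cfsg.InZStar p (QuotientGroup.mk x : G ⧸ N))

include hnz in
theorem not_central : ¬ ∀ g : G, g * x * g⁻¹ = x := by
  intro h
  apply hnz
  intro g
  rw [h g, mul_inv_cancel]
  exact Subgroup.one_mem _

include hiso hnz hmin hquot in
/-- every normal subgroup containing `x` is everything -/
theorem normal_eq_top (H : Subgroup G) (hH : H.Normal) (hxH : x ∈ H) : H = ⊤ := by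
  by_contra hne
  have hcore : pPrimeCore p G = ⊥ := pPrimeCore_eq_bot x hnz hquot
  have hZ := inZStar_subgroup hxH (hmin H hxH hne)
  have h1 : coreOf p H ≤ ⊥ := by
    rw [← hcore]; exact coreOf_le_pPrimeCore_of_isSubnormal p hH.isSubnormal
  apply not_central x hnz
  intro g
  apply hiso
  have h2 := h1 (hZ _ (hH.conj_mem x hxH g))
  rw [Subgroup.mem_bot] at h2
  show x * (g * x * g⁻¹) = (g * x * g⁻¹) * x
  have h3 : (g * x * g⁻¹) * x * (g * x * g⁻¹)⁻¹ = x := by
    rw [mul_inv_eq_one] at h2; exact h2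
  calc x * (g * x * g⁻¹) = ((g * x * g⁻¹) * x * (g * x * g⁻¹)⁻¹) * (g * x * g⁻¹) := by rw [h3]
    _ = (g * x * g⁻¹) * x := by group

theorem sup_zpowers_normal (M : Subgroup G) (hM : M.Normal) (h : ∀ g : G, g * x * g⁻¹ ∈ M ⊔ Subgroup.zpowers x) :
    (M ⊔ Subgroup.zpowers x).Normal := by
  refine ⟨fun a ha g => ?_⟩
  have h1 : (M ⊔ Subgroup.zpowers x).map (MulAut.conj g).toMonoidHom ≤ M ⊔ Subgroup.zpowers x := by
    rw [Subgroup.map_sup]
    apply sup_le
    · rintro _ ⟨m, hm, rfl⟩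
      exact le_sup_left (b := Subgroup.zpowers x) (hM.conj_mem m hm g)
    · rw [MonoidHom.map_zpowers, Subgroup.zpowers_le]
      exact h g
  exact h1 ⟨a, ha, rfl⟩

include hx hiso hnz hmin hquot in
theorem center_eq_bot : Subgroup.center G = ⊥ := by
  have hp : p.Prime := Fact.out
  have hcore : pPrimeCore p G = ⊥ := pPrimeCore_eq_bot x hnz hquot
  have hx' : ∃ k : ℕ, orderOf x = p ^ k := ⟨1, by rw [hx, pow_one]⟩
  by_contra hZ
  by_cases hd : p ∣ Nat.card ↥(Subgroup.center G)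
  swap
  · apply hZ
    rw [eq_bot_iff, ← hcore]
    exact le_pPrimeCore inferInstance (Nat.coprime_comm.1 (hp.coprime_iff_not_dvd.2 hd))
  obtain ⟨z, hzZ, hz⟩ := Cfsg.Agent.Lib.Helper37StrEmb.exists_orderOf_of_dvd _ hd
  set N₀ := Subgroup.zpowers z with hN₀
  have hN₀Z : N₀ ≤ Subgroup.center G := by rw [hN₀, Subgroup.zpowers_le]; exact hzZ
  have hN₀n : N₀.Normal := by
    refine ⟨fun n hn g => ?_⟩
    have := Subgroup.mem_center_iff.1 (hN₀Z hn) g
    rw [this, mul_inv_cancel_right]; exact hn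
  have hN₀1 : N₀ ≠ ⊥ := by
    intro h
    have : z = 1 := by rw [← Subgroup.zpowers_eq_bot]; exact h
    rw [this, orderOf_one] at hz
    exact hp.one_lt.ne hz
  have hq := hquot N₀ hN₀1
  set M : Subgroup G := (pPrimeCore p (G ⧸ N₀)).comap (QuotientGroup.mk' N₀) with hM
  have hMn : M.Normal := by rw [hM]; infer_instance
  have hxM : ∀ g : G, g * x * g⁻¹ * x⁻¹ ∈ M := by
    intro g
    rw [hM, Subgroup.mem_comap]
    simpa using hq (QuotientGroup.mk g)
  have htop : M ⊔ Subgroup.zpowers x = ⊤ := by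
    apply normal_eq_top x hiso hnz hmin hquot
    · apply sup_zpowers_normal x M hMn
      intro g
      have e : g * x * g⁻¹ = (g * x * g⁻¹ * x⁻¹) * x := by group
      rw [e]
      exact Subgroup.mul_mem_sup (hxM g) (Subgroup.mem_zpowers x)
    · exact le_sup_right (a := M) (Subgroup.mem_zpowers x)
  obtain ⟨P, hP⟩ := (isPGroup_zpowers hx').exists_le_sylow
  have hxP : x ∈ (P : Subgroup G) := hP (Subgroup.mem_zpowers x)
  have hdec : ∀ u ∈ (P : Subgroup G), ∃ n ∈ N₀, ∃ w ∈ Subgroup.zpowers x, u = n * w := by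
    intro u hu
    have hu' : u ∈ ((M ⊔ Subgroup.zpowers x : Subgroup G) : Set G) := by rw [htop]; trivial
    rw [Subgroup.normal_mul] at hu'
    obtain ⟨m, hm, w, hw, rfl⟩ := Set.mem_mul.1 hu'
    refine ⟨m, ?_, w, hw, rfl⟩
    have hmP : m ∈ (P : Subgroup G) := by
      have := (P : Subgroup G).mul_mem hu ((P : Subgroup G).inv_mem (hP hw))
      simpa using this
    obtain ⟨k, hk⟩ := P.2 ⟨m, hmP⟩
    have hk' : m ^ (p ^ k) = 1 := by simpa using congrArg Subtype.val hk
    have hm' : (QuotientGroup.mk' N₀ m) ∈ pPrimeCore p (G ⧸ N₀) := hm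
    have h1 : (QuotientGroup.mk' N₀ m) ^ (Nat.card ↥(pPrimeCore p (G ⧸ N₀))) = 1 := by
      have h0 := pow_card_eq_one' (x := (⟨_, hm'⟩ : ↥(pPrimeCore p (G ⧸ N₀))))
      have h00 := congrArg Subtype.val h0
      rw [Subgroup.coe_pow] at h00
      exact h00
    have h2 : (QuotientGroup.mk' N₀ m) ^ (p ^ k) = 1 := by rw [← map_pow, hk', map_one]
    have h3 := Cfsg.Agent.Lib.Helper55Core.eq_one_of_coprime_pow
      (Nat.Coprime.pow_right k (card_pPrimeCore_coprime p)) h1 h2
    exact (QuotientGroup.eq_one_iff m).1 h3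
  have hNC : Subgroup.normalizer ((P : Subgroup G) : Set G) ≤ Subgroup.centralizer ((P : Subgroup G) : Set G) := by
    intro n hn
    have h1 : n * x * n⁻¹ ∈ (P : Subgroup G) := (Subgroup.mem_normalizer_iff.1 hn x).1 hxP
    have h2 := conj_eq_of_conj_mem hiso (P : Subgroup G) P.2 hxP h1
    have h3 : Commute n x := by
      show n * x = x * n
      calc n * x = n * x * n⁻¹ * n := by group
        _ = x * n := by rw [h2]
    rw [Subgroup.mem_centralizer_iff]
    intro u hu
    obtain ⟨c, hc, w, hw, rfl⟩ := hdec u hu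
    obtain ⟨i, rfl⟩ := hw
    have h4 : Commute n c := (Subgroup.mem_center_iff.1 (hN₀Z hc) n)
    exact ((h4.mul_right (h3.zpow_right i)).eq).symm
  have hK := MonoidHom.ker_transferSylow_isComplement' P hNC
  have hKc := MonoidHom.not_dvd_card_ker_transferSylow P hNC
  have hKbot : (MonoidHom.transferSylow P hNC).ker = ⊥ := by
    rw [eq_bot_iff, ← hcore]
    exact le_pPrimeCore inferInstance (Nat.coprime_comm.1 (hp.coprime_iff_not_dvd.2 hKc))
  rw [hKbot, Subgroup.isComplement'_bot_left] at hK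
  apply not_central x hnz
  intro g
  exact conj_eq_of_mem hiso (P : Subgroup G) P.2 hxP (by rw [hK]; trivial)

include hnz hquot in
theorem subnormal_pprime_bot (T N : Subgroup G) (hN : N.Normal) (hTN : T ≤ N)
    (hn : N ≤ Subgroup.normalizer (T : Set G)) (hc : (Nat.card T).Coprime p) : T = ⊥ := by
  have hcore : pPrimeCore p G = ⊥ := pPrimeCore_eq_bot x hnz hquot
  rw [eq_bot_iff, ← hcore]
  exact (le_coreOf hTN hn hc).trans (coreOf_le_pPrimeCore_of_isSubnormal p hN.isSubnormal)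

theorem coprime_of_isSylowIn_bot {N : Subgroup G} (h : IsSylowIn p (⊥ : Subgroup G) N) :
    (Nat.card N).Coprime p := by
  have hp : p.Prime := Fact.out
  have h2 := h.2.2
  rw [Subgroup.relIndex_bot_left] at h2
  exact Nat.coprime_comm.1 (hp.coprime_iff_not_dvd.2 h2)

include hx hiso hnz hmin hquot in
theorem sup_eq_top (N : Subgroup G) (hN : N.Normal) (hN1 : N ≠ ⊥) : N ⊔ Subgroup.zpowers x = ⊤ := by
  by_contra hne
  set H := N ⊔ Subgroup.zpowers x with hH
  have hxH : x ∈ H := le_sup_right (a := N) (Subgroup.mem_zpowers x)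
  have hNH : N ≤ H := le_sup_left
  have hZ := inZStar_subgroup hxH (hmin H hxH hne)
  have hT : N ⊓ coreOf p H = ⊥ := by
    apply subnormal_pprime_bot x hnz hquot _ N hN inf_le_left
    · rw [Subgroup.le_normalizer_iff]
      intro n hn t ht
      refine ⟨hN.conj_mem t ht.1 n, ?_⟩
      exact (Subgroup.le_normalizer_iff.1 (le_normalizer_coreOf p H)) n (hNH hn) t ht.2
    · exact Nat.Coprime.coprime_dvd_left (Subgroup.card_dvd_of_le inf_le_right) (card_coreOf_coprime p H)
  have hcen : x ∈ Subgroup.centralizer (N : Set G) := by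
    rw [Subgroup.mem_centralizer_iff]
    intro a ha
    have h1 : a * x * a⁻¹ * x⁻¹ ∈ N ⊓ coreOf p H := by
      refine ⟨?_, hZ a (hNH ha)⟩
      have e : a * x * a⁻¹ * x⁻¹ = a * (x * a⁻¹ * x⁻¹) := by group
      rw [e]
      exact N.mul_mem ha (hN.conj_mem _ (N.inv_mem ha) x)
    rw [hT, Subgroup.mem_bot] at h1
    calc a * x = (a * x * a⁻¹ * x⁻¹) * (x * a) := by group
      _ = x * a := by rw [h1, one_mul]
  have htop := normal_eq_top x hiso hnz hmin hquot (Subgroup.centralizer (N : Set G)) inferInstance hcen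
  apply hN1
  rw [eq_bot_iff, ← center_eq_bot x hx hiso hnz hmin hquot]
  intro n hn
  rw [Subgroup.mem_center_iff]
  intro g
  have hg : g ∈ Subgroup.centralizer (N : Set G) := by rw [htop]; trivial
  exact ((Subgroup.mem_centralizer_iff.1 hg) n hn).symm

include hx hiso hnz hmin hquot in
theorem exists_decomp (N : Subgroup G) (hN : N.Normal) (hN1 : N ≠ ⊥) (g : G) :
    ∃ n ∈ N, ∃ i : ℤ, g = n * x ^ i := by
  have hg : g ∈ ((N ⊔ Subgroup.zpowers x : Subgroup G) : Set G) := by
    rw [sup_eq_top x hx hiso hnz hmin hquot N hN hN1]; trivial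
  rw [Subgroup.normal_mul] at hg
  obtain ⟨m, hm, w, ⟨i, rfl⟩, rfl⟩ := Set.mem_mul.1 hg
  exact ⟨m, hm, i, rfl⟩

include hx hiso hnz hmin hquot in
theorem commutator_le (N : Subgroup G) (hN : N.Normal) (hN1 : N ≠ ⊥) : commutator G ≤ N := by
  rw [commutator_def, Subgroup.commutator_le]
  intro g₁ _ g₂ _
  obtain ⟨n₁, hn₁, i, rfl⟩ := exists_decomp x hx hiso hnz hmin hquot N hN hN1 g₁
  obtain ⟨n₂, hn₂, j, rfl⟩ := exists_decomp x hx hiso hnz hmin hquot N hN hN1 g₂
  rw [← QuotientGroup.eq_one_iff, commutatorElement_def]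
  have e1 : ((n₁ : G) : G ⧸ N) = 1 := (QuotientGroup.eq_one_iff n₁).2 hn₁
  have e2 : ((n₂ : G) : G ⧸ N) = 1 := (QuotientGroup.eq_one_iff n₂).2 hn₂
  simp only [QuotientGroup.mk_mul, QuotientGroup.mk_inv, e1, e2, one_mul, QuotientGroup.mk_zpow]
  have hc : Commute ((x : G ⧸ N) ^ i) ((x : G ⧸ N) ^ j) := (Commute.refl _).zpow_zpow i j
  rw [hc.eq]
  group

include hnz in
theorem commutator_ne_bot : commutator G ≠ ⊥ := by
  intro h
  apply not_central x hnz
  intro g
  have h1 : ⁅g, x⁆ ∈ commutator G := by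
    rw [commutator_def]
    exact Subgroup.commutator_mem_commutator (Subgroup.mem_top g) (Subgroup.mem_top x)
  rw [h, Subgroup.mem_bot, commutatorElement_def] at h1
  exact mul_inv_eq_one.1 h1

end

theorem result {G : Type*} [Group G] [Finite G] {p : ℕ} [Fact p.Prime] (x : G) (hx : orderOf x = p) (hiso : Cfsg.IsIsolated x) (hnz : ¬ Cfsg.InZStar p x) (hmin : ∀ (H : Subgroup G) (hxH : x ∈ H), H ≠ ⊤ → Cfsg.InZStar p (⟨x, hxH⟩ : ↥H)) (hquot : ∀ (N : Subgroup G) [N.Normal], N ≠ ⊥ → Cfsg.InZStar p (QuotientGroup.mk x : G ⧸ N)) : IsSimpleGroup ↥(commutator G) ∧ ¬ IsMulCommutative ↥(commutator G) ∧ commutator G ⊔ Subgroup.zpowers x = ⊤ := by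
  have hp : p.Prime := Fact.out
  have hx' : ∃ k : ℕ, orderOf x = p ^ k := ⟨1, by rw [hx, pow_one]⟩
  set D := commutator G with hD
  have hDn : D.Normal := by rw [hD]; infer_instance
  have hD1 : D ≠ ⊥ := commutator_ne_bot x hnz
  obtain ⟨P, hP⟩ := (isPGroup_zpowers hx').exists_le_sylow
  have hxP : x ∈ (P : Subgroup G) := hP (Subgroup.mem_zpowers x)
  have hxc : ∀ u ∈ (P : Subgroup G), Commute x u := by
    intro u hu
    have := conj_eq_of_mem hiso (P : Subgroup G) P.2 hxP hu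
    show x * u = u * x
    calc x * u = (u * x * u⁻¹) * u := by rw [this]
      _ = u * x := by group
  have hPD : IsSylowIn p ((P : Subgroup G) ⊓ D) D :=
    (isSylowIn_top P).inf_normal le_top (by rw [Subgroup.normalizer_eq_top]) 
  refine ⟨?_, ?_, sup_eq_top x hx hiso hnz hmin hquot D hDn hD1⟩
  · have : Nontrivial ↥D := (Subgroup.nontrivial_iff_ne_bot D).2 hD1
    refine ⟨fun N₁ hN₁ => ?_⟩
    by_contra hcon
    rw [not_or] at hcon
    obtain ⟨hb, ht⟩ := hcon
    set N := N₁.map D.subtype with hN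
    have hND : N ≤ D := Subgroup.map_subtype_le _
    have hDN : D ≤ Subgroup.normalizer (N : Set G) := le_normalizer_map_subtype N₁
    have hcore : N.normalCore = ⊥ := by
      by_contra hne
      have h1 := commutator_le x hx hiso hnz hmin hquot N.normalCore inferInstance hne
      apply ht
      rw [eq_top_iff]
      intro d _
      obtain ⟨d', hd', e⟩ := (Subgroup.normalCore_le N) (h1 d.2)
      have : d' = d := Subtype.ext e
      rw [← this]; exact hd'
    have hPN : (P : Subgroup G) ⊓ D ⊓ N = ⊥ := by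
      rw [eq_bot_iff, ← hcore]
      intro u hu
      intro g
      obtain ⟨d, hd, i, rfl⟩ := exists_decomp x hx hiso hnz hmin hquot D hDn hD1 g
      have h1 : Commute (x ^ i) u := (hxc u hu.1.1).zpow_left i
      have e : d * x ^ i * u * (d * x ^ i)⁻¹ = d * u * d⁻¹ := by
        calc d * x ^ i * u * (d * x ^ i)⁻¹ = d * (x ^ i * u) * (x ^ i)⁻¹ * d⁻¹ := by group
          _ = d * (u * x ^ i) * (x ^ i)⁻¹ * d⁻¹ := by rw [h1.eq]
          _ = d * u * d⁻¹ := by group
      rw [e]
      exact (Subgroup.le_normalizer_iff.1 hDN) d hd u hu.2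
    have hS := hPD.inf_normal hND hDN
    rw [hPN] at hS
    have hNbot := subnormal_pprime_bot x hnz hquot N D hDn hND hDN (coprime_of_isSylowIn_bot hS)
    apply hb
    rw [hN] at hNbot
    exact (Subgroup.map_eq_bot_iff_of_injective _ D.subtype_injective).1 hNbot
  · intro hcomm
    have hPD0 : (P : Subgroup G) ⊓ D = ⊥ := by
      rw [eq_bot_iff, ← center_eq_bot x hx hiso hnz hmin hquot]
      intro u hu
      rw [Subgroup.mem_center_iff]
      intro g
      obtain ⟨d, hd, i, rfl⟩ := exists_decomp x hx hiso hnz hmin hquot D hDn hD1 g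
      have h1 : Commute d u := by
        have := (isMulCommutative_iff.1 hcomm) (⟨d, hd⟩ : ↥D) ⟨u, hu.2⟩
        exact congrArg Subtype.val this
      exact (h1.mul_left ((hxc u hu.1).zpow_left i)).eq
    rw [hPD0] at hPD
    exact hD1 (subnormal_pprime_bot x hnz hquot D D hDn le_rfl Subgroup.le_normalizer (coprime_of_isSylowIn_bot hPD))

end Cfsg.Agent.S2972
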