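import Cfsg.Statements.S2975
import Cfsg.Agent.Lib.Helper55ZStar
import Cfsg.Agent.Lib.Helper55JComp
import Cfsg.Agent.Lib.Helper1SylowInv
import Cfsg.Agent.Lib.Helper40Sylow
import Cfsg.Agent.Lib.Helper37StrEmb

set_option autoImplicit false
open Cfsg

namespace Cfsg.Agent.S2975

open Cfsg.Agent.Lib.Helper55Isolated Cfsg.Agent.Lib.Helper55ZStar Cfsg.Agent.Lib.Helper55Sylow
  Cfsg.Agent.Lib.Helper37Cores Cfsg.Agent.Lib.Helper40Sylow

/-- Let G be a finite group, p a prime and x ∈ G an isolated element of order p (the only conjugate of x commuting with x is x) which is not central modulo the largest normal subgroup of order prime to p, while x is central modulo the largest normal subgroup of order prime to p in every proper subgroup containing x, and the image of x is so in every quotient of G by a nontrivial normal subgroup (a minimal counterexample to the Z*_p statement). Then for every prime q, every q-subgroup of G that is normalized by x and maximal among the q-subgroups normalized by x is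 either trivial or a Sylow q-subgroup of G; and C_G(x) permutes the x-invariant Sylow q-subgroups of G transitively by conjugation. -/
theorem result {G : Type*} [Group G] [Finite G] {p : ℕ} [Fact p.Prime] (x : G) (hx : orderOf x = p) (hiso : Cfsg.IsIsolated x) (hnz : ¬ Cfsg.InZStar p x) (hmin : ∀ (H : Subgroup G) (hxH : x ∈ H), H ≠ ⊤ → Cfsg.InZStar p (⟨x, hxH⟩ : ↥H)) (hquot : ∀ (N : Subgroup G) [N.Normal], N ≠ ⊥ → Cfsg.InZStar p (QuotientGroup.mk x : G ⧸ N)) (q : ℕ) [Fact q.Prime] : (∀ Q : Subgroup G, IsPGroup q ↥Q → x ∈ Subgroup.normalizer (Q : Set G) → (∀ R : Subgroup G, IsPGroup q ↥R → x ∈ Subgroup.normalizer (R : Set G) → Q ≤ R → R = Q) → Q = ⊥ ∨ ∃ S : Sylow q G, (S : Subgroup G) = Q) ∧ (∀ S₁ S₂ : Sylow q G, x ∈ Subgroup.normalizer ((S₁ : Subgroup G) : Set G) → x ∈ Subgroup.normalizer ((S₂ : Subgroup G) : Set G) → ∃ c ∈ Subgroup.centralizer ({x} : Set G), (S₁ : Subgroup G).map (MulAut.conj c).toMonoidHom = (S₂ : Subgroup G)) := by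
  have hp : p.Prime := Fact.out
  have hq : q.Prime := Fact.out
  have hx' : ∃ k : ℕ, orderOf x = p ^ k := ⟨1, by rw [hx, pow_one]⟩
  have hcore : pPrimeCore p G = ⊥ := pPrimeCore_eq_bot x hnz hquot
  constructor
  · intro Q hQ hxQ hmax
    by_cases hQ1 : Q = ⊥
    · exact Or.inl hQ1
    right
    by_cases hqp : q = p
    · subst hqp
      have hzQ : Subgroup.zpowers x ≤ Subgroup.normalizer (Q : Set G) := by
        rw [Subgroup.zpowers_le]; exact hxQ
      have h1 : IsPGroup q ↥(Subgroup.zpowers x ⊔ Q : Subgroup G) :=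
        (isPGroup_zpowers hx').to_sup_of_normal_right' hQ hzQ
      have hxmem : x ∈ Subgroup.zpowers x ⊔ Q := le_sup_left (b := Q) (Subgroup.mem_zpowers x)
      have h2 := hmax _ h1 (Subgroup.le_normalizer hxmem) le_sup_right
      have hxQ' : x ∈ Q := by rw [← h2]; exact hxmem
      obtain ⟨P, hP⟩ := hQ.exists_le_sylow
      exact ⟨P, hmax _ P.2 (Subgroup.le_normalizer (hP hxQ')) hP⟩
    · set H := Subgroup.normalizer (Q : Set G) with hH
      have hqp' : Nat.Coprime q p := (Nat.coprime_primes hq hp).2 hqp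
      have hHtop : H ≠ ⊤ := by
        intro htop
        apply hQ1
        rw [eq_bot_iff, ← hcore]
        apply le_pPrimeCore (Subgroup.normalizer_eq_top_iff.1 htop)
        obtain ⟨k, hk⟩ := IsPGroup.iff_card.1 hQ
        rw [hk]
        exact Nat.Coprime.pow_left k hqp'
      have hZ := inZStar_subgroup hxQ (hmin H hxQ hHtop)
      set R := coreOf p H with hR
      obtain ⟨Q₃, hQ₃, hQQ₃⟩ := exists_isSylowIn_ge (p := q) (Q := Q) (H := H) hQ Subgroup.le_normalizer
      set K := R ⊔ Q₃ with hK
      have hRH : R ≤ H := coreOf_le p H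
      have hKH : K ≤ H := sup_le hRH hQ₃.1
      have hQ₃R : Q₃ ≤ Subgroup.normalizer (R : Set G) := hQ₃.1.trans (le_normalizer_coreOf p H)
      have hcardK : (Nat.card ↥(Subgroup.zpowers x)).Coprime (Nat.card ↥K) := by
        rw [Nat.card_zpowers, hx, hp.coprime_iff_not_dvd]
        intro hd
        obtain ⟨k, hkK, hk⟩ := Cfsg.Agent.Lib.Helper37StrEmb.exists_orderOf_of_dvd K hd
        have hkR : k ∈ R := Cfsg.Agent.Lib.Helper55JComp.mem_of_mem_sup_of_coprime hQ₃R hQ₃.2.1 hkK
          (Nat.coprime_comm.1 hqp') (by rw [← hk, pow_orderOf_eq_one])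
        have h3 := Cfsg.Agent.Lib.Helper37StrEmb.dvd_card_of_orderOf R hkR hk
        have h4 := card_coreOf_coprime p H
        exact (hp.coprime_iff_not_dvd.1 (Nat.coprime_comm.1 h4)) h3
      have hxK : Subgroup.zpowers x ≤ Subgroup.normalizer (K : Set G) := by
        rw [Subgroup.le_normalizer_iff]
        have h5 : ∀ k ∈ K, x * k * x⁻¹ ∈ K := by
          intro k hk
          have h6 := hZ k (hKH hk)
          have e : x * k * x⁻¹ = (k * x * k⁻¹ * x⁻¹)⁻¹ * k := by group
          rw [e]
          exact K.mul_mem (K.inv_mem (le_sup_left (b := Q₃) h6)) hk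
        have h7 : x ∈ Subgroup.normalizer (K : Set G) := by
          have h8 : cj x K ≤ K := by
            rintro _ ⟨k, hk, rfl⟩
            exact h5 k hk
          exact mem_normalizer_iff_cj.2 (cj_eq_of_le h8)
        intro a ha
        have h9 : a ∈ Subgroup.normalizer (K : Set G) := (Subgroup.zpowers_le.2 h7) ha
        intro k hk
        exact (Subgroup.mem_normalizer_iff.1 h9 k).1 hk
      have hzQ : Subgroup.zpowers x ≤ Subgroup.normalizer (Q : Set G) := by
        rw [Subgroup.zpowers_le]; exact hxQ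
      obtain ⟨P, hQP, hxP⟩ := Cfsg.Agent.Lib.Helper1SylowInv.exists_invariant_sylow_ge (Subgroup.zpowers x) K hxK hcardK
        (Or.inl inferInstance) q Q (hQQ₃.trans le_sup_right) hQ hzQ
      have hPs := isSylowIn_of_sylow P
      have hPQ := hmax _ hPs.2.1 (hxP (Subgroup.mem_zpowers x)) hQP
      rw [hPQ] at hPs
      have hQeq : Q = Q₃ := hPs.eq_of_le hQ₃.2.1 le_sup_right hQQ₃
      rw [← hQeq] at hQ₃
      obtain ⟨S, hS⟩ := hQ.exists_le_sylow
      refine ⟨S, ?_⟩
      by_contra hne
      have hlt : Q < (S : Subgroup G) := lt_of_le_of_ne hS (Ne.symm hne)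
      obtain ⟨y, hyS, hyQ, hyN⟩ := exists_mem_normalizer_not_mem (S : Subgroup G) Q S.2 hlt
      have hzy : Subgroup.zpowers y ≤ (S : Subgroup G) := by rw [Subgroup.zpowers_le]; exact hyS
      have h10 : IsPGroup q ↥(Q ⊔ Subgroup.zpowers y : Subgroup G) := S.2.to_le (sup_le hS hzy)
      have h11 : Q ⊔ Subgroup.zpowers y ≤ H := sup_le Subgroup.le_normalizer (by rw [Subgroup.zpowers_le]; exact hyN)
      have h12 := hQ₃.eq_of_le h10 h11 le_sup_left
      apply hyQ
      rw [h12]
      exact le_sup_right (a := Q) (Subgroup.mem_zpowers y)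
  · intro S₁ S₂ h1 h2
    obtain ⟨g, hg⟩ := MulAction.exists_smul_eq G S₁ S₂
    have hg' : cj g (S₁ : Subgroup G) = (S₂ : Subgroup G) := by rw [← hg, sylow_smul_eq_cj]
    have h3 : g * x * g⁻¹ ∈ Subgroup.normalizer ((S₂ : Subgroup G) : Set G) := by
      rw [← hg', normalizer_cj]
      exact conj_mem_cj h1
    obtain ⟨a, ha, hax⟩ := exists_conj_in_subgroup hx' hiso _ h2 g h3
    refine ⟨a * g, ?_, ?_⟩
    · rw [Subgroup.mem_centralizer_singleton_iff]
      calc a * g * x = (a * (g * x * g⁻¹) * a⁻¹) * (a * g) := by group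
        _ = x * (a * g) := by rw [hax]
    · show cj (a * g) (S₁ : Subgroup G) = S₂
      rw [cj_mul, hg']
      exact mem_normalizer_iff_cj.1 ha

end Cfsg.Agent.S2975
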