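import Cfsg.Statements.S3014
import Cfsg.Agent.Lib.Helper56Basic
import Cfsg.Agent.Lib.Helper56Sylow
import Cfsg.Agent.Lib.Helper56Transfer

set_option autoImplicit false
open Cfsg

namespace Cfsg.Agent.S3014

open Cfsg.Agent.Lib.Helper56Basic Cfsg.Agent.Lib.Helper56Sylow Cfsg.Agent.Lib.Helper56Transfer

theorem le_sup_zpowers {G : Type*} [Group G] {H M : Subgroup G} (hHM : H ≤ M)
    (hmaxH : IsCoatom (H.subgroupOf M)) {y : G} (hyM : y ∈ M) (hyH : y ∉ H) :
    M ≤ H ⊔ Subgroup.zpowers y := by
  rw [← Subgroup.subgroupOf_eq_top]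
  apply hmaxH.2
  refine lt_of_le_of_ne ?_ ?_
  · intro x hx
    exact Subgroup.mem_subgroupOf.2 ((le_sup_left : H ≤ _) (Subgroup.mem_subgroupOf.1 hx))
  · intro h
    apply hyH
    have h1 : (⟨y, hyM⟩ : M) ∈ (H ⊔ Subgroup.zpowers y).subgroupOf M :=
      Subgroup.mem_subgroupOf.2 ((le_sup_right : Subgroup.zpowers y ≤ _) (Subgroup.mem_zpowers y))
    rw [← h] at h1
    exact Subgroup.mem_subgroupOf.1 h1

theorem quot_comm {M : Type*} [Group M] {H : Subgroup M} [H.Normal] (hmax : IsCoatom H)
    (a b : M ⧸ H) : a * b = b * a := by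
  obtain ⟨a', rfl⟩ := QuotientGroup.mk'_surjective H a
  obtain ⟨b', rfl⟩ := QuotientGroup.mk'_surjective H b
  by_cases ha : a' ∈ H
  · have : (QuotientGroup.mk' H) a' = 1 := by
      rw [← MonoidHom.mem_ker, QuotientGroup.ker_mk']; exact ha
    rw [this, one_mul, mul_one]
  · have htop : (Subgroup.zpowers ((QuotientGroup.mk' H) a')).comap (QuotientGroup.mk' H) = ⊤ := by
      apply hmax.2
      refine lt_of_le_of_ne ?_ ?_
      · intro x hx
        have : (QuotientGroup.mk' H) x = 1 := by
          rw [← MonoidHom.mem_ker, QuotientGroup.ker_mk']; exact hx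
        rw [Subgroup.mem_comap, this]; exact Subgroup.one_mem _
      · intro h
        apply ha
        rw [h]
        exact Subgroup.mem_zpowers _
    have hb : b' ∈ (Subgroup.zpowers ((QuotientGroup.mk' H) a')).comap (QuotientGroup.mk' H) := by
      rw [htop]; trivial
    obtain ⟨k, hk⟩ := Subgroup.mem_zpowers_iff.1 (Subgroup.mem_comap.1 hb)
    rw [← hk]
    exact ((Commute.refl _).zpow_right k).eq


/-- Let G be a finite group and H ≤ M ≤ G subgroups such that for every g ∈ G the subgroup generated by H and g H g⁻¹ meets M exactly in H. If H is a maximal subgroup of M and M is a maximal subgroup of G, then the normal closure of H in G meets M exactly in H. -/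
theorem result {G : Type*} [Group G] [Finite G] (H M : Subgroup G) (hHM : H ≤ M) (hcl : ∀ g : G, (H ⊔ H.map (MulAut.conj g).toMonoidHom) ⊓ M = H) (hmaxH : IsCoatom (H.subgroupOf M)) (hmaxM : IsCoatom M) : Subgroup.normalClosure (H : Set G) ⊓ M = H := by
  have hMN : M ≤ Subgroup.normalizer (H : Set G) := by
    intro m hm
    apply mem_normalizer_of_cj_le
    have h1 : H.map (MulAut.conj m).toMonoidHom ≤ M := by
      rintro _ ⟨x, hx, rfl⟩
      exact M.mul_mem (M.mul_mem hm (hHM hx)) (M.inv_mem hm)
    calc H.map (MulAut.conj m).toMonoidHom ≤ (H ⊔ H.map (MulAut.conj m).toMonoidHom) ⊓ M :=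
          le_inf le_sup_right h1
      _ = H := hcl m
  have hle : H ≤ Subgroup.normalClosure (H : Set G) ⊓ M := le_inf Subgroup.le_normalClosure hHM
  apply le_antisymm _ hle
  by_cases hI : ∃ g y : G, g ∉ M ∧ y ∈ M ∧ g⁻¹ * y * g ∈ M ∧ y ∉ H
  · obtain ⟨g, y, hg, hyM, hyMg, hyH⟩ := hI
    set T : Subgroup G := H ⊔ H.map (MulAut.conj g).toMonoidHom with hT
    have hTM : T ⊓ M = H := hcl g
    have hy'H : g⁻¹ * y * g ∉ H := by
      intro h
      apply hyH
      have : y ∈ T ⊓ M := ⟨(le_sup_right : _ ≤ T) (mem_cj.2 h), hyM⟩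
      rwa [hTM] at this
    have h1 : M ≤ T ⊔ Subgroup.zpowers y :=
      (le_sup_zpowers hHM hmaxH hyM hyH).trans (sup_le_sup_right le_sup_left _)
    have h2 : M.map (MulAut.conj g).toMonoidHom ≤ T ⊔ Subgroup.zpowers y := by
      have h3 := cj_mono (g := g) (le_sup_zpowers hHM hmaxH hyMg hy'H)
      refine h3.trans ?_
      rw [Subgroup.map_sup]
      apply sup_le_sup le_sup_right
      rw [MonoidHom.map_zpowers]
      apply le_of_eq
      congr 1
      simp [MulAut.conj_apply, mul_assoc]
    rcases hmaxM.le_iff.1 h1 with htop | hS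
    · -- `T` is normal
      have hyN : y ∈ Subgroup.normalizer (T : Set G) := by
        apply Subgroup.normalizer_inf_normalizer_le_normalizer_sup
        refine Subgroup.mem_inf.2 ⟨hMN hyM, ?_⟩
        rw [mem_normalizer_iff_cj, cj_cj]
        have e : y * g = g * (g⁻¹ * y * g) := by group
        rw [e, ← cj_cj, mem_normalizer_iff_cj.1 (hMN hyMg)]
      have hTn : T.Normal := by
        rw [← Subgroup.normalizer_eq_top_iff, eq_top_iff, ← htop]
        exact sup_le Subgroup.le_normalizer (Subgroup.zpowers_le.2 hyN)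
      calc Subgroup.normalClosure (H : Set G) ⊓ M ≤ T ⊓ M :=
            inf_le_inf_right _ (Subgroup.normalClosure_le_normal
              (SetLike.coe_subset_coe.2 (le_sup_left : H ≤ T)))
        _ = H := hTM
    · -- `g` normalizes `H`, so `H` is normal
      have h4 : H.map (MulAut.conj g).toMonoidHom ≤ H := by
        calc H.map (MulAut.conj g).toMonoidHom ≤ T ⊓ M :=
              le_inf le_sup_right ((le_sup_right.trans le_sup_left).trans (le_of_eq hS))
          _ = H := hTM
      have hgN : g ∈ Subgroup.normalizer (H : Set G) := mem_normalizer_of_cj_le h4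
      have hNtop : Subgroup.normalizer (H : Set G) = ⊤ := by
        rcases hmaxM.le_iff.1 hMN with h | h
        · exact h
        · exact absurd (h ▸ hgN) hg
      have hHn : H.Normal := Subgroup.normalizer_eq_top_iff.1 hNtop
      exact inf_le_left.trans (Subgroup.normalClosure_le_normal (le_refl _))
  · push Not at hI
    have hn : (H.subgroupOf M).Normal := (Subgroup.normal_subgroupOf_iff_le_normalizer hHM).2 hMN
    let _ : CommGroup (M ⧸ H.subgroupOf M) :=
      { (inferInstance : Group (M ⧸ H.subgroupOf M)) with mul_comm := quot_comm hmaxH }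
    have key := transfer_eq_self (QuotientGroup.mk' (H.subgroupOf M)) (by
      intro c hc w hw hy
      rw [← MonoidHom.mem_ker, QuotientGroup.ker_mk', Subgroup.mem_subgroupOf]
      have hc' : c⁻¹ ∉ M := fun h => hc (by simpa using M.inv_mem h)
      apply hI c⁻¹ _ hc' hy
      have e : c⁻¹⁻¹ * (c⁻¹ * w * c) * c⁻¹ = w := by group
      rw [e]; exact hw)
    set V := MonoidHom.transfer (QuotientGroup.mk' (H.subgroupOf M)) with hV
    have hHker : (H : Set G) ⊆ V.ker := by
      intro h hh
      show h ∈ V.ker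
      rw [MonoidHom.mem_ker]
      have := key ⟨h, hHM hh⟩
      rw [this, ← MonoidHom.mem_ker, QuotientGroup.ker_mk', Subgroup.mem_subgroupOf]
      exact hh
    have hncl : Subgroup.normalClosure (H : Set G) ≤ V.ker := Subgroup.normalClosure_le_normal hHker
    intro x hx
    have h1 : V x = 1 := MonoidHom.mem_ker.1 (hncl hx.1)
    have h2 := key ⟨x, hx.2⟩
    rw [show V ((⟨x, hx.2⟩ : M) : G) = V x from rfl, h1] at h2
    have h3 : (⟨x, hx.2⟩ : M) ∈ (QuotientGroup.mk' (H.subgroupOf M)).ker := MonoidHom.mem_ker.2 h2.symm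
    rw [QuotientGroup.ker_mk', Subgroup.mem_subgroupOf] at h3
    exact h3

end Cfsg.Agent.S3014
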