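import Cfsg.Statements.S3015
import Cfsg.Agent.Lib.Helper56Basic
import Cfsg.Agent.Lib.Helper56Core
import Cfsg.Agent.Lib.Helper56Sylow
import Cfsg.Agent.S3014

set_option autoImplicit false
open Cfsg

namespace Cfsg.Agent.S3015

open Cfsg.Agent.Lib.Helper56Basic Cfsg.Agent.Lib.Helper56Core Cfsg.Agent.Lib.Helper56Sylow

theorem coatom_of_prime_index {M : Type*} [Group M] (H : Subgroup M) (hp : H.index.Prime) :
    IsCoatom H := by
  constructor
  · rintro rfl
    rw [Subgroup.index_top] at hp
    exact Nat.not_prime_one hp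
  · intro U hU
    have h1 := Subgroup.relIndex_mul_index hU.le
    have h2 : U.index ∣ H.index := Dvd.intro_left _ h1
    rcases (Nat.dvd_prime hp).1 h2 with h | h
    · exact Subgroup.index_eq_one.1 h
    · exfalso
      rw [h] at h1
      have h3 : H.relIndex U = 1 := by
        have hpos := hp.pos
        exact Nat.eq_of_mul_eq_mul_right hpos (by rw [h1, one_mul])
      exact (not_le_of_gt hU) (Subgroup.relIndex_eq_one.1 h3)

/-- in a simple group a proper nontrivial subgroup that is maximal is self-normalizing, and so is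
every nontrivial normal subgroup of it -/
theorem normalizer_eq_of_coatom {G : Type*} [Group G] [IsSimpleGroup G] {M L : Subgroup G}
    (hM : IsCoatom M) (hL : L ≠ ⊥) (hLM : L ≤ M) (hn : M ≤ Subgroup.normalizer (L : Set G)) :
    Subgroup.normalizer (L : Set G) = M := by
  rcases hM.le_iff.1 hn with h | h
  · exfalso
    have hLn : L.Normal := Subgroup.normalizer_eq_top_iff.1 h
    rcases hLn.eq_bot_or_eq_top with h1 | h1
    · exact hL h1
    · apply hM.1
      rw [eq_top_iff, ← h1]; exact hLM
  · exact h

/-- a nonabelian (indeed any) finite simple group has no maximal subgroup of prime order, unless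
the group is abelian -/
theorem no_prime_coatom {G : Type*} [Group G] [Finite G] [IsSimpleGroup G] {M : Subgroup G}
    (hM : IsCoatom M) {p : ℕ} (hp : p.Prime) (hcard : Nat.card M = p) : False := by
  haveI : Fact p.Prime := ⟨hp⟩
  have hMne : M ≠ ⊥ := by
    rintro rfl
    rw [Subgroup.card_bot] at hcard
    exact hp.one_lt.ne hcard
  have hN : Subgroup.normalizer (M : Set G) = M :=
    normalizer_eq_of_coatom hM hMne le_rfl Subgroup.le_normalizer
  have hMp : IsPGroup p M := IsPGroup.of_card (n := 1) (by rw [hcard, pow_one])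
  obtain ⟨P, hP⟩ := exists_sylow_eq_of_normalizer_eq hMp hN
  haveI : IsCyclic M := isCyclic_of_prime_card hcard
  have hcomm : ∀ a ∈ M, ∀ b ∈ M, a * b = b * a := by
    intro a ha b hb
    have := (IsCyclic.commGroup (α := M)).mul_comm ⟨a, ha⟩ ⟨b, hb⟩
    exact congrArg Subtype.val this
  have hPc : Subgroup.normalizer (P : Set G) ≤ Subgroup.centralizer (P : Set G) := by
    have e1 : Subgroup.normalizer (P : Set G) = M := by
      rw [← hN, ← hP]; rfl
    rw [e1]
    intro x hx
    rw [Subgroup.mem_centralizer_iff]
    intro y hy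
    have hy' : y ∈ M := by rw [← hP]; exact hy
    exact hcomm y hy' x hx
  have hcompl := MonoidHom.ker_transferSylow_isComplement' P hPc
  have hKn : (MonoidHom.transferSylow P hPc).ker.Normal := inferInstance
  generalize (MonoidHom.transferSylow P hPc).ker = K at hcompl hKn
  rcases hKn.eq_bot_or_eq_top with h | h
  · have := hcompl.sup_eq_top
    rw [h, bot_sup_eq, hP] at this
    exact hM.1 this
  · have := hcompl.disjoint.eq_bot
    rw [h, top_inf_eq, hP] at this
    exact hMne this


/-- Let G be a finite non-abelian simple group, M a maximal subgroup of G and H a normal subgroup of M of prime index in M. Then G is generated by H together with one of its conjugates. -/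
theorem result {G : Type*} [Group G] [Finite G] [IsSimpleGroup G] (hG : ¬ IsMulCommutative G) (M H : Subgroup G) (hmaxM : IsCoatom M) (hHM : H ≤ M) (hHn : (H.subgroupOf M).Normal) (hidx : (H.relIndex M).Prime) : ∃ g : G, H ⊔ H.map (MulAut.conj g).toMonoidHom = ⊤ := by
  by_contra hcon
  push Not at hcon
  set p := H.relIndex M with hp
  have hmaxH : IsCoatom (H.subgroupOf M) := coatom_of_prime_index _ hidx
  have hMN : M ≤ Subgroup.normalizer (H : Set G) :=
    (Subgroup.normal_subgroupOf_iff_le_normalizer hHM).1 hHn
  have hcardM : Nat.card H * p = Nat.card M := card_mul_relIndex hHM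
  by_cases hH : H = ⊥
  · rw [hH, Subgroup.card_bot, one_mul] at hcardM
    exact no_prime_coatom hmaxM hidx hcardM.symm
  have hMne : M ≠ ⊥ := fun h => hH (eq_bot_iff.2 (h ▸ hHM))
  have hNH : Subgroup.normalizer (H : Set G) = M := normalizer_eq_of_coatom hmaxM hH hHM hMN
  have hNM : Subgroup.normalizer (M : Set G) = M :=
    normalizer_eq_of_coatom hmaxM hMne le_rfl Subgroup.le_normalizer
  have hHneM : H ≠ M := by
    intro h
    have : p = 1 := by rw [hp, h]; exact Subgroup.relIndex_self M
    rw [this] at hidx
    exact Nat.not_prime_one hidx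
  haveI : Fact p.Prime := ⟨hidx⟩
  -- elements of `M` of order prime to `p` lie in `H`
  have hS : ∀ x ∈ M, (orderOf x).Coprime p → x ∈ H := by
    intro x hx hc
    have h1 : ((QuotientGroup.mk' (H.subgroupOf M)) ⟨x, hx⟩) ^ p = 1 := by
      have : Nat.card (M ⧸ H.subgroupOf M) = p := rfl
      rw [← this]; exact pow_card_eq_one'
    have h2 : ((QuotientGroup.mk' (H.subgroupOf M)) ⟨x, hx⟩) ^ (orderOf x) = 1 := by
      rw [← map_pow]
      have : (⟨x, hx⟩ : M) ^ orderOf x = 1 := Subtype.ext (by simp [pow_orderOf_eq_one])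
      rw [this, map_one]
    have h3 : orderOf ((QuotientGroup.mk' (H.subgroupOf M)) ⟨x, hx⟩) ∣ 1 := by
      rw [← Nat.Coprime.gcd_eq_one hc]
      exact Nat.dvd_gcd (orderOf_dvd_of_pow_eq_one h2) (orderOf_dvd_of_pow_eq_one h1)
    have h4 : (QuotientGroup.mk' (H.subgroupOf M)) ⟨x, hx⟩ = 1 :=
      orderOf_eq_one_iff.1 (Nat.dvd_one.1 h3)
    rw [← MonoidHom.mem_ker, QuotientGroup.ker_mk', Subgroup.mem_subgroupOf] at h4
    exact h4
  set L : Subgroup G := Subgroup.closure {x : G | x ∈ M ∧ (orderOf x).Coprime p} with hL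
  have hLH : L ≤ H := by
    rw [hL, Subgroup.closure_le]
    intro x hx
    exact hS x hx.1 hx.2
  have hLN : ∀ g : G, H.map (MulAut.conj g).toMonoidHom ≤ M →
      g ∈ Subgroup.normalizer (L : Set G) := by
    intro g hg
    apply mem_normalizer_of_cj_le
    rw [hL, MonoidHom.map_closure, Subgroup.closure_le]
    rintro _ ⟨x, hx, rfl⟩
    apply Subgroup.subset_closure
    refine ⟨hg (Subgroup.mem_map_of_mem _ (hS x hx.1 hx.2)), ?_⟩
    have : orderOf ((MulAut.conj g).toMonoidHom x) = orderOf x :=
      (MulAut.conj g).orderOf_eq x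
    rw [this]; exact hx.2
  -- conjugates of `H` inside `M` come from `M`
  have hkey : ∀ g : G, H.map (MulAut.conj g).toMonoidHom ≤ M → g ∈ M := by
    intro g hg
    by_cases hLbot : L = ⊥
    · -- `M` is a `p`-group
      have hMp : IsPGroup p M := by
        intro x
        obtain ⟨e, n', hn', hn⟩ := Nat.exists_eq_pow_mul_and_not_dvd (orderOf_pos (x : G)).ne' p
          hidx.one_lt.ne'
        refine ⟨e, ?_⟩
        have h1 : (x : G) ^ (p ^ e) ∈ L := by
          apply Subgroup.subset_closure
          refine ⟨M.pow_mem x.2 _, ?_⟩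
          rw [orderOf_pow_of_dvd (pow_pos hidx.pos e).ne' (by rw [hn]; exact dvd_mul_right _ _), hn,
            Nat.mul_div_cancel_left _ (pow_pos hidx.pos e)]
          exact Nat.Coprime.symm ((Nat.Prime.coprime_iff_not_dvd hidx).2 hn')
        rw [hLbot, Subgroup.mem_bot] at h1
        exact Subtype.ext h1
      set X := H.map (MulAut.conj g).toMonoidHom with hX
      have hXcard : Nat.card X = Nat.card H := card_cj g H
      have hXidx : X.relIndex M = p := by
        have h1 := card_mul_relIndex hg
        rw [hXcard, ← hcardM] at h1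
        exact Nat.eq_of_mul_eq_mul_left Nat.card_pos h1
      have hXmax : IsCoatom (X.subgroupOf M) := coatom_of_prime_index _ (by
        show (X.relIndex M).Prime
        rw [hXidx]; exact hidx)
      have hXlt : X < M := by
        refine lt_of_le_of_ne hg ?_
        intro h
        rw [h, Subgroup.relIndex_self] at hXidx
        exact hidx.one_lt.ne hXidx
      obtain ⟨m, hmM, hmX, hmN⟩ := exists_normalizing_of_lt hMp hXlt
      have hMNX : M ≤ Subgroup.normalizer (X : Set G) :=
        (Cfsg.Agent.S3014.le_sup_zpowers hg hXmax hmM hmX).trans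
          (sup_le Subgroup.le_normalizer (Subgroup.zpowers_le.2 hmN))
      have h2 : M.map (MulAut.conj g⁻¹).toMonoidHom ≤ M := by
        rintro _ ⟨m, hm, rfl⟩
        rw [← hNH, mem_normalizer_iff_cj]
        have h3 := mem_normalizer_iff_cj.1 (hMNX hm)
        rw [hX, cj_cj] at h3
        have h4 := congrArg (fun Y => Y.map (MulAut.conj g⁻¹).toMonoidHom) h3
        simp only [cj_cj] at h4
        rw [inv_mul_cancel, cj_one] at h4
        rw [← h4]
        congr 2
        simp [MulAut.conj_apply, mul_assoc]
      have h5 : g⁻¹ ∈ M := by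
        rw [← hNM]; exact mem_normalizer_of_cj_le h2
      simpa using M.inv_mem h5
    · have h1 : M ≤ Subgroup.normalizer (L : Set G) := by
        intro m hm
        apply hLN
        rw [mem_normalizer_iff_cj.1 (hMN hm)]
        exact hHM
      rw [← normalizer_eq_of_coatom hmaxM hLbot (hLH.trans hHM) h1]
      exact hLN g hg
  have hcl : ∀ g : G, (H ⊔ H.map (MulAut.conj g).toMonoidHom) ⊓ M = H := by
    intro g
    have hle : H ≤ (H ⊔ H.map (MulAut.conj g).toMonoidHom) ⊓ M := le_inf le_sup_left hHM
    by_contra hne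
    have hlt : H.subgroupOf M < ((H ⊔ H.map (MulAut.conj g).toMonoidHom) ⊓ M).subgroupOf M := by
      refine lt_of_le_of_ne ?_ ?_
      · intro x hx
        exact Subgroup.mem_subgroupOf.2 (hle (Subgroup.mem_subgroupOf.1 hx))
      · intro h
        apply hne
        apply le_antisymm _ hle
        intro x hx
        have : (⟨x, hx.2⟩ : M) ∈ ((H ⊔ H.map (MulAut.conj g).toMonoidHom) ⊓ M).subgroupOf M :=
          Subgroup.mem_subgroupOf.2 hx
        rw [← h] at this
        exact Subgroup.mem_subgroupOf.1 this
    have htop := hmaxH.2 _ hlt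
    rw [Subgroup.subgroupOf_eq_top] at htop
    have hMT : M ≤ H ⊔ H.map (MulAut.conj g).toMonoidHom := htop.trans inf_le_left
    rcases hmaxM.le_iff.1 hMT with h | h
    · exact hcon g h
    · have hgM : g ∈ M := hkey g (le_sup_right.trans (le_of_eq h))
      rw [mem_normalizer_iff_cj.1 (hMN hgM), sup_idem] at h
      exact hHneM h
  have hres := Cfsg.Agent.S3014.result H M hHM hcl hmaxH hmaxM
  have hncl : Subgroup.normalClosure (H : Set G) = ⊤ := by
    rcases (Subgroup.normalClosure_normal (s := (H : Set G))).eq_bot_or_eq_top with h | h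
    · exfalso
      apply hH
      rw [eq_bot_iff, ← h]
      exact Subgroup.le_normalClosure
    · exact h
  rw [hncl, top_inf_eq] at hres
  exact hHneM hres.symm

end Cfsg.Agent.S3015
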