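import Cfsg.Statements.S3003
import Cfsg.Agent.Lib.Helper56Core
import Cfsg.Agent.S3015
import Cfsg.Agent.S1324

set_option autoImplicit false
open Cfsg

namespace Cfsg.Agent.S3003


open Cfsg.Agent.Lib.Helper56Core

theorem part1 {G : Type*} [Group G] [Finite G] {p : ℕ} [Fact p.Prime] (Q : Subgroup G)
    (hQp : IsPGroup p ↥Q) (hlarge : Cfsg.IsLarge Q) (G₁ : Subgroup G) (hQG : Q ≤ G₁)
    (R : Subgroup G) (hR : (Nat.card ↥R).Coprime p)
    (hGR : G₁ ≤ Subgroup.normalizer (R : Set G)) (U : Subgroup G)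
    (h : ∃ x ∈ U, x ≠ 1 ∧ ∃ g ∈ G₁, g * x * g⁻¹ ∈ Q ⊓ Subgroup.centralizer (Q : Set G)) :
    R ⊓ Subgroup.centralizer (U : Set G) = ⊥ := by
  obtain ⟨x, hxU, hx1, g, hg, hz⟩ := h
  have hQR : Q ⊓ R = ⊥ := inf_eq_bot_of_pgroup_coprime hQp hR
  rw [eq_bot_iff]
  intro r hr
  have hrx : x * r = r * x := (Subgroup.mem_centralizer_iff.1 hr.2) x hxU
  set z := g * x * g⁻¹ with hzdef
  set r' := g * r * g⁻¹ with hr'
  have hr'R : r' ∈ R := (Subgroup.mem_normalizer_iff.1 (hGR hg) r).1 hr.1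
  have hcomm : z * r' = r' * z := by
    rw [hzdef, hr']
    calc g * x * g⁻¹ * (g * r * g⁻¹) = g * (x * r) * g⁻¹ := by group
      _ = g * (r * x) * g⁻¹ := by rw [hrx]
      _ = g * r * g⁻¹ * (g * x * g⁻¹) := by group
  have hz1 : z ≠ 1 := by
    intro h
    apply hx1
    have : x = g⁻¹ * z * g := by rw [hzdef]; group
    rw [this, h]; group
  have hZ : Subgroup.zpowers z ≤ Subgroup.centralizer (Q : Set G) := Subgroup.zpowers_le.2 hz.2
  have hZne : Subgroup.zpowers z ≠ ⊥ := by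
    intro h
    exact hz1 (Subgroup.zpowers_eq_bot.1 h)
  have hr'N : r' ∈ Subgroup.normalizer ((Subgroup.zpowers z : Subgroup G) : Set G) := by
    rw [Subgroup.mem_normalizer_iff]
    intro y
    have key : ∀ y ∈ Subgroup.zpowers z, r' * y * r'⁻¹ = y := by
      intro y hy
      obtain ⟨k, rfl⟩ := Subgroup.mem_zpowers_iff.1 hy
      have : Commute r' (z ^ k) := (Commute.zpow_right hcomm.symm k)
      rw [this.eq, mul_inv_cancel_right]
    constructor
    · intro hy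
      rw [key y hy]; exact hy
    · intro hy
      have h2 := key _ hy
      have h3 : r' * y * r'⁻¹ = y := by
        have : r' * (r' * y * r'⁻¹) * r'⁻¹ = r' * y * r'⁻¹ := h2
        have h4 := mul_left_cancel (mul_right_cancel this)
        exact h4
      rw [← h3]; exact hy
  have hr'Q : r' ∈ Subgroup.normalizer (Q : Set G) := hlarge.2 _ hZ hZne hr'N
  have hr'C : r' ∈ Subgroup.centralizer (Q : Set G) := by
    rw [Subgroup.mem_centralizer_iff]
    intro q hq
    have h1 : r' * q * r'⁻¹ * q⁻¹ ∈ Q :=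
      Q.mul_mem ((Subgroup.mem_normalizer_iff.1 hr'Q q).1 hq) (Q.inv_mem hq)
    have h2 : r' * q * r'⁻¹ * q⁻¹ ∈ R := by
      have h3 : q * r'⁻¹ * q⁻¹ ∈ R :=
        (Subgroup.mem_normalizer_iff.1 (hGR (hQG hq)) r'⁻¹).1 (R.inv_mem hr'R)
      have h4 := R.mul_mem hr'R h3
      have h5 : r' * (q * r'⁻¹ * q⁻¹) = r' * q * r'⁻¹ * q⁻¹ := by group
      rwa [h5] at h4
    have h3 : r' * q * r'⁻¹ * q⁻¹ ∈ Q ⊓ R := ⟨h1, h2⟩
    rw [hQR, Subgroup.mem_bot] at h3
    have h4 : r' * q = q * r' := by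
      have := congrArg (fun t => t * q * r') h3
      simpa using this
    exact h4.symm
  have h5 : r' ∈ Q ⊓ R := ⟨hlarge.1 hr'C, hr'R⟩
  rw [hQR, Subgroup.mem_bot] at h5
  rw [Subgroup.mem_bot]
  have : r = g⁻¹ * r' * g := by rw [hr']; group
  rw [this, h5]; group

/-- Let G be a finite group, p a prime and Q a large p-subgroup of G: C_G(Q) ≤ Q and N_G(U) ≤ N_G(Q) for every nontrivial subgroup U of C_G(Q). Let Q ≤ G₁ ≤ G, let R be a subgroup of order prime to p normalized by G₁, and let U ≤ G₁ be a p-subgroup. If U contains a nontrivial element which is G₁-conjugate to an element of Z(Q), then C_R(U) = 1. In particular, if U is elementary abelian of order at least p² and every maximal subgroup of U contains a nontrivial element G₁-conjugate into Z(Q), then R = 1. -/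
theorem result {G : Type*} [Group G] [Finite G] {p : ℕ} [Fact p.Prime] (Q : Subgroup G) (hQp : IsPGroup p ↥Q) (hlarge : Cfsg.IsLarge Q) (G₁ : Subgroup G) (hQG : Q ≤ G₁) (R : Subgroup G) (hR : (Nat.card ↥R).Coprime p) (hGR : G₁ ≤ Subgroup.normalizer (R : Set G)) (U : Subgroup G) (hUG : U ≤ G₁) (hUp : IsPGroup p ↥U) : ((∃ x ∈ U, x ≠ 1 ∧ ∃ g ∈ G₁, g * x * g⁻¹ ∈ Q ⊓ Subgroup.centralizer (Q : Set G)) → R ⊓ Subgroup.centralizer (U : Set G) = ⊥) ∧ (Cfsg.IsElementaryAbelian p U → p ^ 2 ≤ Nat.card ↥U → (∀ U₀ : Subgroup G, U₀ ≤ U → IsCoatom (U₀.subgroupOf U) → ∃ x ∈ U₀, x ≠ 1 ∧ ∃ g ∈ G₁, g * x * g⁻¹ ∈ Q ⊓ Subgroup.centralizer (Q : Set G)) → R = ⊥) := by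
  refine ⟨part1 Q hQp hlarge G₁ hQG R hR hGR U, ?_⟩
  intro hE hcard hco
  have hpp : p.Prime := Fact.out
  have hnd : ¬ p ∣ Nat.card ↥R := by
    intro h
    have := Nat.Coprime.eq_one_of_dvd hR.symm h
    exact hpp.one_lt.ne' this
  have hUR : U ≤ Subgroup.normalizer (R : Set G) := hUG.trans hGR
  rw [Cfsg.Agent.S1324.result p U R hE hcard hnd hUR]
  rw [iSup_eq_bot]
  rintro ⟨B, hBU, hBi⟩
  apply part1 Q hQp hlarge G₁ hQG R hR hGR B
  show ∃ x ∈ B, x ≠ 1 ∧ ∃ g ∈ G₁, g * x * g⁻¹ ∈ Q ⊓ Subgroup.centralizer (Q : Set G)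
  obtain ⟨k, hk⟩ := (IsPGroup.iff_card.1 hUp)
  have hdvd : B.relIndex U ∣ p ^ k := by
    rw [← hk]
    exact Subgroup.relIndex_dvd_card B U
  obtain ⟨j, hj, hjeq⟩ := (Nat.dvd_prime_pow hpp).1 hdvd
  have hj1 : j ≤ 1 := by
    by_contra hcon
    push Not at hcon
    have : p ^ 2 ≤ p ^ j := Nat.pow_le_pow_right hpp.pos hcon
    rw [← hjeq] at this
    have h2 : p < p ^ 2 := by
      have := hpp.one_lt
      nlinarith
    omega
  interval_cases j
  · rw [pow_zero] at hjeq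
    have hUB : U ≤ B := Subgroup.relIndex_eq_one.1 hjeq
    have hnt : Nontrivial U := by
      rw [← Finite.one_lt_card_iff_nontrivial]
      have : 1 < p ^ 2 := Nat.one_lt_pow (by norm_num) hpp.one_lt
      omega
    obtain ⟨M, hM⟩ := (IsCoatomic.exists_coatom (α := Subgroup U) : ∃ M : Subgroup U, IsCoatom M)
    have hMU : M.map U.subtype ≤ U := Subgroup.map_subtype_le M
    have hM' : IsCoatom ((M.map U.subtype).subgroupOf U) := by
      have : (M.map U.subtype).subgroupOf U = M :=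
        Subgroup.comap_map_eq_self_of_injective U.subtype_injective M
      rw [this]
      exact hM
    obtain ⟨x, hx, h⟩ := hco _ hMU hM'
    exact ⟨x, hUB (hMU hx), h⟩
  · rw [pow_one] at hjeq
    exact hco B hBU (Cfsg.Agent.S3015.coatom_of_prime_index _ (by
      show (B.relIndex U).Prime
      rw [hjeq]; exact hpp))

end Cfsg.Agent.S3003
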