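import Cfsg.Statements.S3049
import Cfsg.Agent.S1946
import Cfsg.Agent.Lib.Helper55Isolated
import Cfsg.Agent.Lib.Helper37Cores
import Cfsg.Agent.Lib.Helper28More
import Cfsg.Agent.Lib.Helper28Fitting
import Cfsg.Agent.Lib.Helper36PMin
import Cfsg.Agent.Lib.Helper52Basic

set_option autoImplicit false
open Cfsg

namespace Cfsg.Agent.S3049

open Subgroup Cfsg.Agent.Lib.Helper28Comp Cfsg.Agent.Lib.Helper28Layer Cfsg.Agent.Lib.Helper28More
  Cfsg.Agent.Lib.Helper40Sylow

theorem coprime_of_perfect_npc {K : Type*} [Group K] [Finite K] {p : ℕ} [hp : Fact p.Prime]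
    (hperf : Group.IsPerfect K) (h : Cfsg.HasNormalPComplement p K) : (Nat.card K).Coprime p := by
  obtain ⟨P, N, hN, hc⟩ := h
  have hidx : N.index = Nat.card (P : Subgroup K) := hc.symm.index_eq_card
  have hpq : IsPGroup p (K ⧸ N) := by
    obtain ⟨n, hn⟩ := IsPGroup.iff_card.mp P.2
    apply IsPGroup.of_card (n := n)
    rw [← hn, ← hidx]
    rfl
  have hsub : Subsingleton (K ⧸ N) := by
    by_contra hns
    rw [not_subsingleton_iff_nontrivial] at hns
    exact Group.IsPerfect.not_isNilpotent (K ⧸ N) hpq.isNilpotent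
  have hNtop : N = ⊤ := by
    rw [← Subgroup.index_eq_one]
    show Nat.card (K ⧸ N) = 1
    exact Nat.card_eq_one_iff_unique.mpr ⟨hsub, ⟨1⟩⟩
  have h1 : (P : Subgroup K).index = Nat.card K := by
    rw [hc.index_eq_card, hNtop, Subgroup.card_top]
  have h2 := P.not_dvd_index
  rw [h1] at h2
  exact ((Nat.Prime.coprime_iff_not_dvd hp.out).mpr h2).symm

variable {G : Type*} [Group G]

theorem mem_zpowers_swap {p : ℕ} [hp : Fact p.Prime] {a x : G} (hx : orderOf x = p)
    (ha : a ∈ zpowers x) (ha1 : a ≠ 1) : x ∈ zpowers a := by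
  have hle : zpowers a ≤ zpowers x := zpowers_le.mpr ha
  have hap : a ^ p = 1 := by
    obtain ⟨k, rfl⟩ := mem_zpowers_iff.mp ha
    rw [← zpow_natCast, ← zpow_mul, mul_comm, zpow_mul, zpow_natCast, ← hx, pow_orderOf_eq_one, one_zpow]
  have hoa : orderOf a = p := by
    rcases (Nat.dvd_prime hp.out).mp (orderOf_dvd_of_pow_eq_one hap) with h | h
    · exact absurd (orderOf_eq_one_iff.mp h) ha1
    · exact h
  have hfin : Finite (zpowers x) := by
    apply Set.Finite.to_subtype
    rw [finite_zpowers, ← orderOf_pos_iff, hx]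
    exact hp.out.pos
  have := Subgroup.eq_of_le_of_card_ge hle (by rw [Nat.card_zpowers, Nat.card_zpowers, hx, hoa])
  rw [this]
  exact mem_zpowers x

theorem elemAb_closure {S : Set G} {p : ℕ} (hc : ∀ a ∈ S, ∀ b ∈ S, a * b = b * a)
    (hp : ∀ a ∈ S, a ^ p = 1) :
    IsMulCommutative (closure S) ∧ ∀ a ∈ closure S, a ^ p = 1 := by
  have h1 : IsMulCommutative (closure S) := isMulCommutative_closure hc
  refine ⟨h1, ?_⟩
  intro a ha
  induction ha using Subgroup.closure_induction with
  | mem x hx => exact hp x hx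
  | one => exact one_pow p
  | mul x y hx hy ihx ihy =>
    have : Commute x y := setLike_mul_comm (s := closure S) hx hy
    rw [this.mul_pow, ihx, ihy, one_mul]
  | inv x hx ih => rw [inv_pow, ih, inv_one]

theorem conj_zpow' (g a : G) (k : ℤ) : g * a ^ k * g⁻¹ = (g * a * g⁻¹) ^ k :=
  (conj_zpow (a := g) (b := a) (i := k)).symm

/-- the key fusion statement -/
theorem fusion [Finite G] {p : ℕ} [hp : Fact p.Prime] (hrank : Cfsg.PRankLE p 2 G) {x u : G}
    (hx : orderOf x = p) (hiso : Cfsg.IsIsolated x) (hu : orderOf u = p) (hxu : Commute x u)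
    (hux : u ∉ zpowers x) {K : Subgroup G} (huK : u ∈ centralizer (K : Set G))
    {e g : G} (hg : g ∈ K) (hep : e ^ p = 1) (hex : Commute x e) (heu : Commute u e)
    (hex' : Commute x (g * e * g⁻¹)) (heu' : Commute u (g * e * g⁻¹)) : g * e * g⁻¹ = e := by
  have hxp : x ^ p = 1 := by rw [← hx]; exact pow_orderOf_eq_one x
  have hup : u ^ p = 1 := by rw [← hu]; exact pow_orderOf_eq_one u
  set E : Subgroup G := closure {x, u} with hE
  have hEab := elemAb_closure (S := {x, u}) (p := p)
    (by
      rintro a (rfl | rfl) b (rfl | rfl)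
      · rfl
      · exact hxu
      · exact hxu.symm
      · rfl)
    (by
      rintro a (rfl | rfl)
      · exact hxp
      · exact hup)
  have hxE : x ∈ E := Subgroup.subset_closure (by simp)
  have huE : u ∈ E := Subgroup.subset_closure (by simp)
  -- the order of `E`
  have hEcard : p ^ 2 ≤ Nat.card E := by
    have hEp : IsPGroup p E := by
      intro a
      refine ⟨1, ?_⟩
      rw [pow_one]
      exact Subtype.ext (hEab.2 a a.2)
    obtain ⟨k, hk⟩ := IsPGroup.iff_card.mp hEp
    have hlt : zpowers x < E := by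
      refine lt_of_le_of_ne (zpowers_le.mpr hxE) ?_
      intro h
      exact hux (h ▸ huE)
    have h1 : Nat.card (zpowers x) < Nat.card E := by
      refine lt_of_le_of_ne (Subgroup.card_le_of_le hlt.le) ?_
      intro h
      exact hlt.ne (Subgroup.eq_of_le_of_card_ge hlt.le h.ge)
    rw [Nat.card_zpowers, hx, hk] at h1
    rw [hk]
    apply Nat.pow_le_pow_right hp.out.pos
    by_contra h2
    have h3 : k ≤ 1 := by omega
    have := Nat.pow_le_pow_right hp.out.pos h3
    rw [pow_one] at this
    omega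
  -- elements of order `p` commuting with `x` and `u` lie in `E`
  have key : ∀ f : G, f ^ p = 1 → Commute x f → Commute u f → f ∈ E := by
    intro f hfp hxf huf
    have hAab := elemAb_closure (S := {x, u, f}) (p := p)
      (by
        rintro a (rfl | rfl | rfl) b (rfl | rfl | rfl)
        · rfl
        · exact hxu
        · exact hxf
        · exact hxu.symm
        · rfl
        · exact huf
        · exact hxf.symm
        · exact huf.symm
        · rfl)
      (by
        rintro a (rfl | rfl | rfl)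
        · exact hxp
        · exact hup
        · exact hfp)
    have hle : E ≤ closure {x, u, f} := by
      apply Subgroup.closure_mono
      rintro a (rfl | rfl)
      · simp
      · simp
    have hcard := hrank _ hAab.1 hAab.2
    have := Subgroup.eq_of_le_of_card_ge hle (hcard.trans hEcard)
    rw [this]
    exact Subgroup.subset_closure (by simp)
  have hcomm : ⁅zpowers x, zpowers u⁆ = ⊥ := by
    rw [commutator_eq_bot_iff_le_centralizer]
    intro a ha
    rw [mem_centralizer_iff]
    intro b hb
    obtain ⟨i, rfl⟩ := mem_zpowers_iff.mp ha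
    obtain ⟨j, rfl⟩ := mem_zpowers_iff.mp hb
    exact (hxu.zpow_zpow i j).symm
  have hEsup : E = zpowers x ⊔ zpowers u := by
    rw [hE, zpowers_eq_closure, zpowers_eq_closure, ← Subgroup.closure_union]
    rfl
  have heE : e ∈ E := key e hep hex heu
  have heE' : g * e * g⁻¹ ∈ E := key _ (by rw [conj_pow, hep]; group) hex' heu'
  rw [hEsup, mem_sup_of_commutator_eq_bot hcomm] at heE
  obtain ⟨a, ha, b, hb, rfl⟩ := heE
  have hgb : g * b * g⁻¹ = b := by
    have hbK : b ∈ centralizer (K : Set G) := (zpowers_le.mpr huK) hb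
    rw [(mem_centralizer_iff.mp hbK) g hg, mul_inv_cancel_right]
  have hbE : b ∈ E := (zpowers_le.mpr huE) hb
  have hsplit : g * (a * b) * g⁻¹ = (g * a * g⁻¹) * b := by
    calc g * (a * b) * g⁻¹ = (g * a * g⁻¹) * (g * b * g⁻¹) := by group
      _ = _ := by rw [hgb]
  have haE' : g * a * g⁻¹ ∈ E := by
    have : g * a * g⁻¹ = (g * (a * b) * g⁻¹) * b⁻¹ := by rw [hsplit, mul_inv_cancel_right]
    rw [this]
    exact E.mul_mem heE' (E.inv_mem hbE)
  rw [hsplit]
  congr 1
  by_cases ha1 : a = 1
  · rw [ha1]; group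
  · have hxa : x ∈ zpowers a := mem_zpowers_swap hx ha ha1
    obtain ⟨k, hk⟩ := mem_zpowers_iff.mp hxa
    have h1 : g * x * g⁻¹ ∈ E := by
      rw [← hk, conj_zpow']
      exact E.zpow_mem haE' k
    have h2 : Commute x (g * x * g⁻¹) := by
      have := hEab.1
      exact setLike_mul_comm (s := E) hxE h1
    have h3 := hiso g h2
    obtain ⟨i, rfl⟩ := mem_zpowers_iff.mp ha
    rw [conj_zpow', h3]

theorem commute_of_sylow {p : ℕ} [hp : Fact p.Prime] [Finite G] {x : G} (hiso : Cfsg.IsIsolated x)
    (T : Sylow p G) (hxT : x ∈ (T : Subgroup G)) {y : G} (hy : y ∈ (T : Subgroup G)) : Commute x y := by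
  have h := Cfsg.Agent.Lib.Helper55Isolated.conj_eq_of_mem hiso (T : Subgroup G) T.2 hxT hy
  show x * y = y * x
  calc x * y = (y * x * y⁻¹) * y := by rw [h]
    _ = y * x := by group

/-- no element of order `p` of `T` centralizes a component not centralized by `x` -/
theorem comp_contra [Finite G] {p : ℕ} [hp : Fact p.Prime] (hp2 : p ≠ 2)
    (hcore : Cfsg.pPrimeCore p G = ⊥) (hrank : Cfsg.PRankLE p 2 G) {x u : G}
    (hx : orderOf x = p) (hiso : Cfsg.IsIsolated x) (T : Sylow p G) (hxT : x ∈ (T : Subgroup G))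
    (huT : u ∈ (T : Subgroup G)) (hu : orderOf u = p)
    {K : Subgroup G} (hK : Cfsg.IsComponent K) (hKx : ¬ K ≤ centralizer {x})
    (huK : u ∈ centralizer (K : Set G)) : False := by
  have hux : u ∉ zpowers x := by
    intro h
    have hu1 : u ≠ 1 := by
      rintro rfl
      rw [orderOf_one] at hu
      exact hp.out.one_lt.ne hu
    have h1 : x ∈ zpowers u := mem_zpowers_swap hx h hu1
    have h2 : x ∈ centralizer (K : Set G) := (zpowers_le.mpr huK) h1
    apply hKx
    intro k hk
    rw [mem_centralizer_singleton_iff]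
    exact (mem_centralizer_iff.mp h2 k hk)
  have hxu : Commute x u := commute_of_sylow hiso T hxT huT
  have hsyl := Cfsg.Agent.Lib.Helper36PMin.isSylowIn_inf_of_isSubnormal T hK.1
  have hnpc : Cfsg.HasNormalPComplement p K := by
    rw [Cfsg.Agent.S1946.result hsyl.toSylow]
    intro a ha hap g hga
    refine ⟨1, one_mem _, ?_⟩
    rw [IsSylowIn.coe_toSylow, mem_subgroupOf] at ha hga
    have hap' : (a : G) ^ p = 1 := by
      rcases hap with h | h
      · exact_mod_cast congrArg Subtype.val h
      · exact absurd h.1 hp2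
    have hcu : ∀ k : G, k ∈ K → Commute u k := fun k hk => (mem_centralizer_iff.mp huK k hk).symm
    have := fusion hrank hx hiso hu hxu hux huK (e := (a : G)) (g := (g : G)) g.2 hap'
      (commute_of_sylow hiso T hxT ha.1) (hcu _ ha.2)
      (commute_of_sylow hiso T hxT hga.1) (hcu _ hga.2)
    apply Subtype.ext
    simpa using this
  have hcop := coprime_of_perfect_npc hK.2.1 hnpc
  have hle := Cfsg.Agent.Lib.Helper37Cores.le_pPrimeCore_of_isSubnormal hK.1 hcop
  rw [hcore] at hle
  exact (isQuasisimple_iff_QS.mp hK.2).ne_bot (le_bot_iff.mp hle)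

theorem gfit_normal : (Cfsg.generalizedFittingSubgroup G).Normal := by
  rw [gfit_eq]
  exact normIn_top_iff.mp (gfitIn_normIn ⊤)

theorem fitting_le_sylow [Finite G] {p : ℕ} [hp : Fact p.Prime]
    (hcore : Cfsg.pPrimeCore p G = ⊥) (T : Sylow p G) :
    Cfsg.fittingSubgroup G ≤ (T : Subgroup G) := by
  rw [Cfsg.Agent.Lib.Helper28Fitting.fitting_eq_iSup_pCore]
  apply iSup_le
  intro q
  by_cases hq : (q : ℕ) = p
  · rw [hq]
    exact Cfsg.Agent.Lib.Helper52Basic.pCore_le_sylow T
  · have : Fact (q : ℕ).Prime := ⟨q.2⟩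
    have h1 : IsPGroup (q : ℕ) (Cfsg.pCore (q : ℕ) G) := Cfsg.Agent.Lib.Helper28Fitting.pCore_isPGroup _
    obtain ⟨n, hn⟩ := IsPGroup.iff_card.mp h1
    have h2 : (Nat.card (Cfsg.pCore (q : ℕ) G)).Coprime p := by
      rw [hn]
      exact Nat.Coprime.pow_left _ ((Nat.coprime_primes q.2 hp.out).mpr hq)
    have h3 := Cfsg.Agent.Lib.Helper37Cores.le_pPrimeCore (p := p) (N := Cfsg.pCore (q : ℕ) G) inferInstance h2
    rw [hcore] at h3
    exact h3.trans bot_le

theorem exists_comp [Finite G] {p : ℕ} [hp : Fact p.Prime]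
    (hcore : Cfsg.pPrimeCore p G = ⊥) {x : G}
    (hiso : Cfsg.IsIsolated x) (hnc : x ∉ Subgroup.center G) (T : Sylow p G) (hxT : x ∈ (T : Subgroup G)) :
    ∃ K : Subgroup G, Cfsg.IsComponent K ∧ ¬ K ≤ centralizer {x} := by
  by_contra hcon
  push Not at hcon
  have h1 : Cfsg.layer G ≤ centralizer {x} := sSup_le fun K hK => hcon K hK
  have h2 : Cfsg.fittingSubgroup G ≤ centralizer {x} := by
    intro y hy
    rw [mem_centralizer_singleton_iff]
    exact (commute_of_sylow hiso T hxT (fitting_le_sylow hcore T hy)).symm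
  have h3 : Cfsg.generalizedFittingSubgroup G ≤ centralizer {x} := sup_le h1 h2
  have h4 : x ∈ centralizer (Cfsg.generalizedFittingSubgroup G : Set G) := by
    rw [mem_centralizer_iff]
    intro y hy
    have := h3 hy
    rw [mem_centralizer_singleton_iff] at this
    exact this
  have h5 : x ∈ Cfsg.generalizedFittingSubgroup G := centralizer_gfit_le h4
  have hn := gfit_normal (G := G)
  apply hnc
  rw [mem_center_iff]
  intro g
  have h6 : g * x * g⁻¹ ∈ Cfsg.generalizedFittingSubgroup G := hn.conj_mem x h5 g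
  have h7 : Commute x (g * x * g⁻¹) := (mem_centralizer_iff.mp h4 _ h6).symm
  have h8 := hiso g h7
  calc g * x = (g * x * g⁻¹) * g := by group
    _ = x * g := by rw [h8]

/-- the structural conclusion in internal form -/
theorem gfit_eq_comp [Finite G] {p : ℕ} [hp : Fact p.Prime] (hp2 : p ≠ 2)
    (hcore : Cfsg.pPrimeCore p G = ⊥) (hrank : Cfsg.PRankLE p 2 G) {x : G}
    (hx : orderOf x = p) (hiso : Cfsg.IsIsolated x) (hnc : x ∉ Subgroup.center G) :
    ∃ K : Subgroup G, Cfsg.IsComponent K ∧ Cfsg.generalizedFittingSubgroup G = K ∧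
      K ⊓ centralizer (K : Set G) = ⊥ := by
  have hxp : IsPGroup p (zpowers x) := by
    apply IsPGroup.of_card (n := 1)
    rw [Nat.card_zpowers, hx, pow_one]
  obtain ⟨T, hT⟩ := hxp.exists_le_sylow
  have hxT : x ∈ (T : Subgroup G) := hT (mem_zpowers x)
  obtain ⟨K, hK, hKx⟩ := exists_comp hcore hiso hnc T hxT
  have hKc : CompIn K ⊤ := isComponent_iff.mp hK
  set F : Subgroup G := Cfsg.generalizedFittingSubgroup G with hF
  have hFe : F = layerIn ⊤ ⊔ fittingIn ⊤ := gfit_eq
  have hKF : K ≤ F := by
    rw [hFe]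
    exact (compIn_le_layerIn hKc).trans le_sup_left
  have hfitK : fittingIn (⊤ : Subgroup G) ≤ centralizer (K : Set G) := by
    have h1 := commutator_layerIn_fittingIn (⊤ : Subgroup G)
    rw [commutator_comm, commutator_eq_bot_iff_le_centralizer] at h1
    exact h1.trans (centralizer_le (compIn_le_layerIn hKc))
  have hFN : F ≤ normalizer (K : Set G) := by
    rw [hFe]
    refine sup_le (compIn_normIn_layerIn hKc).2 ?_
    exact hfitK.trans (Subgroup.centralizer_le_normalizer _)
  set F₁ : Subgroup G := F ⊓ centralizer (K : Set G) with hF₁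
  have hF₁n : NormIn F₁ F := by
    refine ⟨inf_le_left, ?_⟩
    refine le_trans ?_ (inf_normalizer_le_normalizer_inf)
    exact le_inf le_normalizer (hFN.trans (normalizer_le_normalizer_centralizer K))
  have hFn : NormIn F ⊤ := normIn_top_iff.mpr gfit_normal
  have hF₁sn : F₁.IsSubnormal := sn_top_iff.mp (hF₁n.sn.trans hFn.sn)
  have hsyl := Cfsg.Agent.Lib.Helper36PMin.isSylowIn_inf_of_isSubnormal T hF₁sn
  have hTF : (T : Subgroup G) ⊓ F₁ = ⊥ := by
    by_contra hne
    have hpg : IsPGroup p ↥((T : Subgroup G) ⊓ F₁) := hsyl.2.1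
    have hdvd : p ∣ Nat.card ↥((T : Subgroup G) ⊓ F₁) := by
      rcases hpg.card_eq_or_dvd with h | h
      · exact absurd (Subgroup.card_eq_one.mp h) hne
      · exact h
    obtain ⟨u, hu⟩ := exists_prime_orderOf_dvd_card' p hdvd
    have hu' : orderOf (u : G) = p := by rw [Subgroup.orderOf_coe, hu]
    exact comp_contra hp2 hcore hrank hx hiso T hxT (mem_inf.mp u.2).1 hu' hK hKx
      (mem_inf.mp (mem_inf.mp u.2).2).2
  have hF₁bot : F₁ = ⊥ := by
    have h1 := hsyl.2.2
    rw [hTF, Subgroup.relIndex_bot_left] at h1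
    have h2 : (Nat.card F₁).Coprime p := ((Nat.Prime.coprime_iff_not_dvd hp.out).mpr h1).symm
    have h3 := Cfsg.Agent.Lib.Helper37Cores.le_pPrimeCore_of_isSubnormal hF₁sn h2
    rw [hcore] at h3
    exact le_bot_iff.mp h3
  refine ⟨K, hK, le_antisymm ?_ hKF, ?_⟩
  · rw [hFe]
    refine sup_le (sSup_le ?_) ?_
    · intro L hL
      rcases hKc.eq_or_commute hL with h | h
      · exact h.ge
      · have h1 : L ≤ F₁ := by
          refine le_inf ?_ ?_
          · rw [hFe]
            exact (compIn_le_layerIn hL).trans le_sup_left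
          · rw [commutator_comm, commutator_eq_bot_iff_le_centralizer] at h
            exact h
        rw [hF₁bot] at h1
        exact h1.trans bot_le
    · have h1 : fittingIn (⊤ : Subgroup G) ≤ F₁ := by
        refine le_inf ?_ hfitK
        rw [hFe]
        exact le_sup_right
      rw [hF₁bot] at h1
      exact h1.trans bot_le
  · rw [← le_bot_iff, ← hF₁bot]
    exact inf_le_inf_right _ hKF

theorem simple_of_comp {K : Subgroup G} (hK : Cfsg.IsQuasisimple K)
    (hZ : K ⊓ centralizer (K : Set G) = ⊥) : IsSimpleGroup K ∧ ¬ IsMulCommutative K := by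
  have hK' := isQuasisimple_iff.mp hK
  obtain ⟨hperf, hnt, hN⟩ := hK'
  have hcen : center K = ⊥ := by
    have h1 : (center K).map K.subtype ≤ centralizer (K : Set G) :=
      map_subtype_le_centralizer_iff.mpr le_rfl
    have h2 : (center K).map K.subtype ≤ K ⊓ centralizer (K : Set G) :=
      le_inf (map_subtype_le _) h1
    rw [hZ, le_bot_iff] at h2
    exact (Subgroup.map_eq_bot_iff_of_injective _ K.subtype_injective).mp h2
  refine ⟨?_, ?_⟩
  · refine { exists_pair_ne := hnt.exists_pair_ne, eq_bot_or_eq_top_of_normal := ?_ }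
    intro N hNn
    rcases hN N hNn with h | h
    · exact Or.inr h
    · rw [hcen, le_bot_iff] at h
      exact Or.inl h
  · exact Group.IsPerfect.not_isMulCommutative K


/-- Let G be a finite group and p an odd prime with O_{p'}(G) = 1. Suppose that G has p-rank at most 2 (no elementary abelian subgroup of order p³) and that some element x of order p is isolated in G (no G-conjugate of x other than x commutes with x) and not central. Then the generalized Fitting subgroup F*(G) is a non-abelian simple group. Since O_{p'}(G) = 1, such an x is not central modulo O_{p'}(G): the hypotheses describe a counterexample to the Z*_p statement in p-rank at most 2. -/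
theorem result {G : Type*} [Group G] [Finite G] {p : ℕ} [Fact p.Prime] (hp : p ≠ 2) (hcore : Cfsg.pPrimeCore p G = ⊥)
    (hrank : Cfsg.PRankLE p 2 G) (x : G) (hx : orderOf x = p) (hiso : Cfsg.IsIsolated x) (hnc : x ∉ Subgroup.center G) :
    IsSimpleGroup ↥(Cfsg.generalizedFittingSubgroup G) ∧ ¬ IsMulCommutative ↥(Cfsg.generalizedFittingSubgroup G) := by
  obtain ⟨K, hK, hFK, hZ⟩ := gfit_eq_comp hp hcore hrank hx hiso hnc
  rw [hFK]
  exact simple_of_comp hK.2 hZ

end Cfsg.Agent.S3049
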