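import Cfsg.Statements.S3069
-- import your own Cfsg.Agent.* helpers here
import Mathlib
import Cfsg.Agent.S2015
import Cfsg.Agent.Lib.Helper87Rel
import Cfsg.Agent.Lib.Helper30SZ
import Cfsg.Agent.Lib.Helper30Gen

set_option autoImplicit false
open Cfsg

namespace Cfsg.Agent.S3069


open Subgroup

/-- if a `p`-subgroup is not inside the derived subgroup then `O^p(G) < G` -/
theorem residual_ne_top {G : Type*} [Group G] [Finite G] {p : ℕ} [hp : Fact p.Prime]
    (S : Subgroup G) (hS : IsPGroup p S) (h : ¬ S ≤ commutator G) : Cfsg.pResidual p G ≠ ⊤ := by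
  intro htop
  apply h
  obtain ⟨k, m, hm, hkm⟩ := Nat.exists_eq_pow_mul_and_not_dvd (Nat.card_pos (α := G)).ne' p
    hp.out.ne_one
  have hmp : m.Coprime p := ((Nat.Prime.coprime_iff_not_dvd hp.out).2 hm).symm
  let K : Subgroup G := ((powMonoidHom m : Abelianization G →* Abelianization G).comp
    Abelianization.of).ker
  have hK : Cfsg.pResidual p G ≤ K := by
    unfold Cfsg.pResidual
    rw [closure_le]
    intro g hg
    have hg' : (orderOf g).Coprime p := hg
    have h1 : orderOf g ∣ p ^ k * m := hkm ▸ orderOf_dvd_natCard g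
    have h2 : orderOf g ∣ m := (hg'.pow_right k).dvd_of_dvd_mul_left h1
    show ((powMonoidHom m : Abelianization G →* Abelianization G).comp Abelianization.of) g = 1
    simp only [MonoidHom.comp_apply, powMonoidHom_apply]
    rw [← map_pow, orderOf_dvd_iff_pow_eq_one.1 h2, map_one]
  rw [htop] at hK
  intro s hs
  have h1 : s ∈ K := hK (mem_top s)
  have h2 : ((powMonoidHom m : Abelianization G →* Abelianization G).comp Abelianization.of) s = 1 :=
    h1
  simp only [MonoidHom.comp_apply, powMonoidHom_apply] at h2
  rw [← map_pow] at h2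
  have h3 : s ^ m ∈ commutator G := by
    rw [← Abelianization.ker_of]
    exact h2
  obtain ⟨j, hj⟩ := hS ⟨s, hs⟩
  have hj' : s ^ p ^ j = 1 := congrArg Subtype.val hj
  exact Cfsg.Agent.Lib.Helper30Gen.mem_of_pow_mem hj' (hmp.symm.pow_left j) h3

/-- base case: normal Sylow subgroup centralised by all `p'`-elements -/
theorem base {G : Type*} [Group G] [Finite G] {p : ℕ} [hp : Fact p.Prime] (S : Sylow p G)
    (hS : (S : Subgroup G) ≠ ⊥) (hn : (S : Subgroup G).Normal)
    (hN : ∀ g : G, (orderOf g).Coprime p → g ∈ centralizer ((S : Subgroup G) : Set G)) :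
    ¬ (S : Subgroup G) ≤ commutator G := by
  intro hle
  have hcop : Nat.Coprime (Nat.card (S : Subgroup G)) (S : Subgroup G).index := by
    obtain ⟨k, hk⟩ := IsPGroup.iff_card.1 S.isPGroup'
    rw [hk]
    exact ((Nat.Prime.coprime_iff_not_dvd hp.out).2 S.not_dvd_index).pow_left k
  obtain ⟨T, hT⟩ := Subgroup.exists_left_complement'_of_coprime hcop
  have hTcard : Nat.card T = (S : Subgroup G).index := by
    have h1 := hT.card_mul_card
    have h2 := (S : Subgroup G).card_mul_index
    have hpos : 0 < Nat.card (S : Subgroup G) := Nat.card_pos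
    nlinarith [h1, h2]
  have hTc : ∀ t ∈ T, t ∈ centralizer ((S : Subgroup G) : Set G) := by
    intro t ht
    apply hN
    have h1 : orderOf t ∣ Nat.card T := by
      have := orderOf_dvd_natCard (⟨t, ht⟩ : T)
      rwa [Subgroup.orderOf_mk] at this
    rw [hTcard] at h1
    exact (((Nat.Prime.coprime_iff_not_dvd hp.out).2 S.not_dvd_index).symm).coprime_dvd_left h1
  have hdec : ∀ g : G, ∃ t ∈ T, ∃ s ∈ (S : Subgroup G), g = t * s := by
    intro g
    obtain ⟨⟨t, s⟩, hts, _⟩ := hT.existsUnique g
    exact ⟨t, t.2, s, s.2, hts.symm⟩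
  have hTn : T.Normal := by
    constructor
    intro t ht g
    obtain ⟨t', ht', s, hs, rfl⟩ := hdec g
    have h1 : s * t = t * s := ((mem_centralizer_iff.1 (hTc t ht)) s hs)
    have : t' * s * t * (t' * s)⁻¹ = t' * t * t'⁻¹ := by
      calc t' * s * t * (t' * s)⁻¹ = t' * (s * t) * s⁻¹ * t'⁻¹ := by group
        _ = t' * (t * s) * s⁻¹ * t'⁻¹ := by rw [h1]
        _ = t' * t * t'⁻¹ := by group
    rw [this]
    exact T.mul_mem (T.mul_mem ht' ht) (T.inv_mem ht')
  have hQp : IsPGroup p (G ⧸ T) := by
    obtain ⟨k, hk⟩ := IsPGroup.iff_card.1 S.isPGroup'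
    apply IsPGroup.of_card (n := k)
    rw [← Subgroup.index_eq_card, ← hk]
    have h1 := hT.card_mul_card
    have h2 := T.card_mul_index
    have hpos : 0 < Nat.card T := Nat.card_pos
    nlinarith [h1, h2]
  have hnt : Nontrivial (G ⧸ T) := by
    by_contra hcon
    have hs : Subsingleton (G ⧸ T) := not_nontrivial_iff_subsingleton.mp hcon
    apply hS
    rw [eq_bot_iff]
    intro s hs'
    have h1 : s ∈ T := (QuotientGroup.eq_one_iff s).1 (Subsingleton.elim _ _)
    have h2 : s ∈ T ⊓ (S : Subgroup G) := Subgroup.mem_inf.2 ⟨h1, hs'⟩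
    rw [hT.isCompl.inf_eq_bot] at h2
    exact h2
  have := hQp.isNilpotent
  apply (Group.IsSolvable.commutator_lt_top_of_nontrivial (G ⧸ T)).ne
  rw [eq_top_iff]
  intro x _
  obtain ⟨g, rfl⟩ := QuotientGroup.mk'_surjective T x
  obtain ⟨t, ht, s, hs, rfl⟩ := hdec g
  have h1 : QuotientGroup.mk' T (t * s) = QuotientGroup.mk' T s := by
    have h0 : QuotientGroup.mk' T t = 1 := (QuotientGroup.eq_one_iff t).2 ht
    rw [map_mul, h0, one_mul]
  rw [h1]
  have h2 : (commutator G).map (QuotientGroup.mk' T) ≤ commutator (G ⧸ T) := by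
    rw [_root_.commutator_def, Subgroup.map_commutator]
    exact Subgroup.commutator_mono le_top le_top
  exact h2 ⟨s, hle hs, rfl⟩

theorem main.{u} (p : ℕ) [hp : Fact p.Prime] (hp5 : 5 ≤ p) : ∀ (n : ℕ) (G : Type u) [Group G]
    [Finite G], Nat.card G = n → ∀ S : Sylow p G, (S : Subgroup G) ≠ ⊥ →
    (∀ g ∈ normalizer ((S : Subgroup G) : Set G), (orderOf g).Coprime p →
      g ∈ centralizer ((S : Subgroup G) : Set G)) → ¬ (S : Subgroup G) ≤ commutator G := by
  intro n
  induction n using Nat.strong_induction_on with
  | _ n ih =>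
    intro G _ _ hn S hS hN
    obtain ⟨K, hKc, hZK, hK⟩ := Cfsg.Agent.S2015.result p hp5 ↥(S : Subgroup G) S.isPGroup'
    have hrange : (S : Subgroup G).subtype.range = (S : Subgroup G) := Subgroup.range_subtype _
    have hK' := hK G (S : Subgroup G).subtype Subtype.val_injective ⟨S, hrange.symm⟩
    rw [hrange] at hK'
    set K' : Subgroup G := K.map (S : Subgroup G).subtype with hK'def
    set H : Subgroup G := normalizer (K' : Set G) with hH
    have hSH : (S : Subgroup G) ≤ H :=
      le_normalizer.trans
        (Cfsg.Agent.Lib.Helper30SZ.normalizer_le_normalizer_map_of_characteristic K)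
    have hK'S : K' ≤ (S : Subgroup G) := by
      rintro _ ⟨k, _, rfl⟩
      exact k.2
    have hK'ne : K' ≠ ⊥ := by
      have hnt : Nontrivial ↥(S : Subgroup G) := (Subgroup.nontrivial_iff_ne_bot _).2 hS
      have := S.isPGroup'.center_nontrivial
      obtain ⟨z, hz⟩ := exists_ne (1 : center ↥(S : Subgroup G))
      intro hbot
      have h1 : ((z : ↥(S : Subgroup G)) : G) ∈ K' := ⟨z, hZK z.2, rfl⟩
      rw [hbot, mem_bot] at h1
      apply hz
      apply Subtype.ext
      apply Subtype.ext
      exact h1
    by_cases hHtop : H = ⊤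
    · -- `K'` normal
      have hK'n : K'.Normal := Subgroup.normalizer_eq_top_iff.1 hHtop
      by_cases hSK : (S : Subgroup G) ≤ K'
      · have hSn : (S : Subgroup G).Normal := by
          have : (S : Subgroup G) = K' := le_antisymm hSK hK'S
          rw [this]; exact hK'n
        apply base S hS hSn
        intro g hg
        exact hN g (by rw [Subgroup.normalizer_eq_top_iff.2 hSn]; exact mem_top g) hg
      · set f := QuotientGroup.mk' K' with hf
        have hfs : Function.Surjective f := QuotientGroup.mk'_surjective K'
        set Sb : Sylow p (G ⧸ K') := S.mapSurjective hfs with hSb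
        have hSbc : (Sb : Subgroup (G ⧸ K')) = (S : Subgroup G).map f := rfl
        have hmem : ∀ x : G, f x ∈ (Sb : Subgroup (G ⧸ K')) ↔ x ∈ (S : Subgroup G) := by
          intro x
          rw [hSbc]
          constructor
          · rintro ⟨s, hs, hsx⟩
            have h1 : s⁻¹ * x ∈ K' := by
              rw [← QuotientGroup.eq]
              exact hsx
            have : x = s * (s⁻¹ * x) := by group
            rw [this]
            exact mul_mem hs (hK'S h1)
          · intro hx
            exact ⟨x, hx, rfl⟩
        have hcard : Nat.card (G ⧸ K') < n := by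
          rw [← hn, ← Subgroup.index_eq_card, ← K'.card_mul_index]
          have h1 : 1 < Nat.card K' := by
            rw [Subgroup.one_lt_card_iff_ne_bot]; exact hK'ne
          have h2 : 0 < K'.index := Nat.pos_of_ne_zero (Subgroup.index_ne_zero_of_finite)
          nlinarith
        have hSbne : (Sb : Subgroup (G ⧸ K')) ≠ ⊥ := by
          intro hbot
          apply hSK
          intro s hs
          have h1 : f s ∈ (Sb : Subgroup (G ⧸ K')) := (hmem s).2 hs
          rw [hbot, mem_bot] at h1
          exact (QuotientGroup.eq_one_iff s).1 h1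
        have hNb : ∀ g ∈ normalizer ((Sb : Subgroup (G ⧸ K')) : Set (G ⧸ K')),
            (orderOf g).Coprime p → g ∈ centralizer ((Sb : Subgroup (G ⧸ K')) : Set (G ⧸ K')) := by
          intro gb hgb hgbp
          obtain ⟨g, rfl⟩ := hfs gb
          have hgN : g ∈ normalizer ((S : Subgroup G) : Set G) := by
            rw [Subgroup.mem_normalizer_iff]
            intro x
            rw [← hmem x, ← hmem (g * x * g⁻¹), (Subgroup.mem_normalizer_iff.1 hgb) (f x)]
            simp only [map_mul, map_inv]
          obtain ⟨k, hk1, hk2⟩ := Cfsg.Agent.Lib.Helper87Rel.exists_pow_coprime g hgbp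
          have h1 := hN (g ^ k) (pow_mem hgN k) hk1
          have h2 : f (g ^ k) = f g := by
            rw [map_pow]
            calc f g ^ k = f g ^ (k % orderOf (f g)) := (pow_mod_orderOf _ _).symm
              _ = f g ^ (1 % orderOf (f g)) := by rw [hk2]
              _ = f g ^ 1 := pow_mod_orderOf _ _
              _ = f g := pow_one _
          rw [← h2, mem_centralizer_iff]
          intro y hy
          rw [SetLike.mem_coe, hSbc] at hy
          obtain ⟨s, hs, rfl⟩ := hy
          rw [← map_mul, ← map_mul, (mem_centralizer_iff.1 h1) s hs]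
        have hIH := ih _ hcard (G ⧸ K') rfl Sb hSbne hNb
        intro hle
        apply hIH
        rw [hSbc]
        calc (S : Subgroup G).map f ≤ (commutator G).map f := Subgroup.map_mono hle
          _ ≤ commutator (G ⧸ K') := by
            rw [_root_.commutator_def, Subgroup.map_commutator]
            exact Subgroup.commutator_mono le_top le_top
    · -- proper normalizer
      have hcard : Nat.card H < n := by
        rw [← hn]
        rcases lt_or_eq_of_le (Subgroup.card_le_card_group H) with h | h
        · exact h
        · exact absurd (Subgroup.eq_top_of_card_eq H h) hHtop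
      set SH : Sylow p H := S.subtype hSH with hSHdef
      have hSHc : (SH : Subgroup H) = (S : Subgroup G).subgroupOf H := rfl
      have hSHne : (SH : Subgroup H) ≠ ⊥ := by
        intro hbot
        apply hS
        rw [eq_bot_iff]
        intro s hs
        have h1 : (⟨s, hSH hs⟩ : H) ∈ (SH : Subgroup H) := by
          rw [hSHc, Subgroup.mem_subgroupOf]; exact hs
        rw [hbot, mem_bot] at h1
        exact congrArg Subtype.val h1
      have hNH : ∀ g ∈ normalizer ((SH : Subgroup H) : Set H),
          (orderOf g).Coprime p → g ∈ centralizer ((SH : Subgroup H) : Set H) := by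
        intro g hg hgp
        have hgN : (g : G) ∈ normalizer ((S : Subgroup G) : Set G) := by
          rw [Subgroup.mem_normalizer_iff]
          intro x
          constructor
          · intro hx
            have h1 := (Subgroup.mem_normalizer_iff.1 hg ⟨x, hSH hx⟩).1
              (by rw [hSHc, Subgroup.mem_subgroupOf]; exact hx)
            rw [hSHc, Subgroup.mem_subgroupOf] at h1
            exact h1
          · intro hx
            have hxH : x ∈ H := by
              have : x = (g : G)⁻¹ * ((g : G) * x * (g : G)⁻¹) * (g : G) := by group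
              rw [this]
              exact H.mul_mem (H.mul_mem (H.inv_mem g.2) (hSH hx)) g.2
            have h1 := (Subgroup.mem_normalizer_iff.1 hg ⟨x, hxH⟩).2
              (by rw [hSHc, Subgroup.mem_subgroupOf]; exact hx)
            rw [hSHc, Subgroup.mem_subgroupOf] at h1
            exact h1
        have h1 := hN (g : G) hgN (by rwa [Subgroup.orderOf_coe])
        rw [mem_centralizer_iff]
        intro y hy
        rw [SetLike.mem_coe, hSHc, Subgroup.mem_subgroupOf] at hy
        apply Subtype.ext
        exact (mem_centralizer_iff.1 h1) y hy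
      have hIH := ih _ hcard H rfl SH hSHne hNH
      intro hle
      apply hIH
      have h1 : (S : Subgroup G) ≤ (commutator ↥H).map H.subtype := by
        have h2 : (S : Subgroup G) ⊓ commutator G = (S : Subgroup G) := inf_eq_left.2 hle
        rw [h2] at hK'
        rw [hK']
        exact inf_le_right
      intro y hy
      rw [hSHc, Subgroup.mem_subgroupOf] at hy
      obtain ⟨c, hc, hcy⟩ := h1 hy
      have : c = y := Subtype.ext hcy
      rw [← this]; exact hc


/-- Let p ≥ 7 be a prime and S a nontrivial Sylow p-subgroup of the finite group G. If N_G(S)/C_G(S) is a p-group (every element of N_G(S) of order prime to p centralizes S), then O^p(G) < G, i.e. G has a nontrivial p-factor group. -/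
theorem result {G : Type*} [Group G] [Finite G] {p : ℕ} [Fact p.Prime]
    (hp : 7 ≤ p) (S : Sylow p G) (hS : (S : Subgroup G) ≠ ⊥)
    (hN : ∀ g ∈ Subgroup.normalizer ((S : Subgroup G) : Set G), (orderOf g).Coprime p →
      g ∈ Subgroup.centralizer ((S : Subgroup G) : Set G)) :
    Cfsg.pResidual p G ≠ ⊤ := by
  exact residual_ne_top (S : Subgroup G) S.isPGroup'
    (main p (by omega) _ G rfl S hS hN)

end Cfsg.Agent.S3069
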