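import Cfsg.Statements.S3078
import Mathlib
import Cfsg.Agent.S0649
import Cfsg.Agent.S0650
import Cfsg.Agent.Lib.Helper14Family
import Cfsg.Agent.Lib.Helper57Replace

set_option autoImplicit false
open Cfsg

namespace Cfsg.Agent.S3078

open scoped commutatorElement
open Cfsg.Agent.S0650 Cfsg.Agent.Lib.Helper14Family

theorem card_le_of_coset_inj {G : Type*} [Group G] [Finite G] (I A K : Subgroup G)
    (hIA : I ≤ A) (hIK : I ≤ K) (f : G → G) (hf : ∀ a ∈ A, f a ∈ K)
    (h1 : ∀ a ∈ A, ∀ a' ∈ A, (f a)⁻¹ * f a' ∈ I → a⁻¹ * a' ∈ I) : Nat.card A ≤ Nat.card K := by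
  have h := Cfsg.Agent.Lib.Helper57Replace.card_le_of_fibres
    (fun a : A => (QuotientGroup.mk (⟨f a, hf a a.2⟩ : K) : K ⧸ I.subgroupOf K)) (I.subgroupOf A) (by
      intro u v huv
      have := QuotientGroup.eq.mp huv
      exact h1 u u.2 v v.2 this)
  rw [Subgroup.card_eq_card_quotient_mul_card_subgroup (I.subgroupOf K), card_subgroupOf hIK]
  rwa [card_subgroupOf hIA] at h

theorem mem_omegaOne_iff {G : Type*} [Group G] {p : ℕ} {X : Subgroup G} (hX : IsMulCommutative X)
    {x : G} : x ∈ Cfsg.omegaOne p X ↔ x ∈ X ∧ x ^ p = 1 := by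
  constructor
  · intro hx
    unfold Cfsg.omegaOne at hx
    induction hx using Subgroup.closure_induction with
    | mem y hy => exact hy
    | one => exact ⟨one_mem _, one_pow _⟩
    | mul y z _ _ hy hz =>
      refine ⟨mul_mem hy.1 hz.1, ?_⟩
      have hc : Commute y z := setLike_mul_comm hy.1 hz.1
      rw [hc.mul_pow, hy.2, hz.2, one_mul]
    | inv y _ hy => exact ⟨inv_mem hy.1, by rw [inv_pow, hy.2, inv_one]⟩
  · intro hx
    exact Subgroup.subset_closure hx

theorem omegaOne_map {G H : Type*} [Group G] [Group H] (p : ℕ) (f : G →* H)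
    (hf : Function.Injective f) (X : Subgroup G) :
    Cfsg.omegaOne p (X.map f) = (Cfsg.omegaOne p X).map f := by
  unfold Cfsg.omegaOne
  rw [MonoidHom.map_closure]
  congr 1
  ext y
  constructor
  · rintro ⟨⟨x, hx, rfl⟩, hy⟩
    refine ⟨x, ⟨hx, hf ?_⟩, rfl⟩
    rw [map_pow, hy, map_one]
  · rintro ⟨x, ⟨hx, hxp⟩, rfl⟩
    exact ⟨⟨x, hx, rfl⟩, by rw [← map_pow, hxp, map_one]⟩

/-- the statement when `B` is normal -/
theorem level {S : Type*} [Group S] [Finite S] {p : ℕ} [Fact p.Prime] (hS : IsPGroup p S)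
    (hp : p ≠ 2) (B : Subgroup S) [hBn : B.Normal] (A : Subgroup S) (hA : IsMulCommutative A)
    (hBA : ⁅B, B⁆ ≤ A) (hnot : ¬ B ≤ Subgroup.normalizer (A : Set S)) :
    ∃ K : Subgroup S, IsMulCommutative K ∧ Nat.card K = Nat.card A ∧ A ⊓ B < K ⊓ B ∧
      K ≤ Subgroup.normalizer (A : Set S) ∧ (∀ D : Subgroup S, D.Normal → A ≤ D → K ≤ D) ∧
      Monoid.exponent K ∣ Monoid.exponent A ∧
      Nat.card (Cfsg.omegaOne p A) ≤ Nat.card (Cfsg.omegaOne p K) := by
  have hB2 : p = 2 → IsMulCommutative B := fun h => absurd h hp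
  obtain ⟨b, hb, hbN, hbA⟩ := Cfsg.Agent.S0649.result hS B hB2 A hA hBA hnot
  obtain ⟨-, -, -, -, -, -, -, -, -, h10⟩ :=
    Cfsg.Agent.S0650.result hS B hB2 A hA hBA hnot b hb hbN hbA
  have hK : ((A ⊓ A.map (MulAut.conj (b⁻¹)).toMonoidHom) ⊔
      Subgroup.closure {g : S | ∃ a ∈ A, g = a * b⁻¹ * a⁻¹ * b}) = KK A b⁻¹ := by
    unfold KK II A1 MM
    simp only [commutatorElement_def, inv_inv]
  rw [hK] at h10
  have hc : b⁻¹ ∈ B := inv_mem hb
  have hcN := inv_mem hbN
  have hcA : b⁻¹ ∉ Subgroup.normalizer (A : Set S) := fun h => hbA (by simpa using inv_mem h)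
  have hM := MM_comm A B b⁻¹ hcN hS hB2 hA hBA hc
  generalize b⁻¹ = c at *
  have hKc := KK_comm A c hA hM
  refine ⟨KK A c, hKc, card_KK A B c hcN hA hBA hc, AB_lt A B c hBA hc hcA,
    (KK_le_HH A c).trans (HH_le_N A c hcN), ?_, h10 hp, ?_⟩
  · intro D hD hAD
    apply sup_le ((II_le_A A c).trans hAD)
    unfold MM
    rw [Subgroup.closure_le]
    rintro _ ⟨a, ha, rfl⟩
    have h6 := hD.conj_mem a⁻¹ (inv_mem (hAD ha)) c
    have h7 : ⁅a, c⁆ = a * (c * a⁻¹ * c⁻¹) := by rw [commutatorElement_def]; group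
    rw [SetLike.mem_coe, h7]
    exact mul_mem (hAD ha) h6
  · have hIc : IsMulCommutative (II A c) :=
      .of_setLike_mul_comm fun x hx y hy => setLike_mul_comm (II_le_A A c hx) (II_le_A A c hy)
    have hcomm : ∀ i ∈ II A c, ∀ h ∈ HH A c, i * h = h * i :=
      fun i hi h hh => HH_le_centralizer_II A c hA hh i hi
    apply card_le_of_coset_inj (Cfsg.omegaOne p (II A c)) _ _ ?_ ?_ (fun a => ⁅a, c⁆) ?_ ?_
    · intro x hx
      rw [mem_omegaOne_iff hIc] at hx
      exact (mem_omegaOne_iff hA).mpr ⟨II_le_A A c hx.1, hx.2⟩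
    · intro x hx
      rw [mem_omegaOne_iff hIc] at hx
      exact (mem_omegaOne_iff hKc).mpr ⟨(le_sup_left : II A c ≤ KK A c) hx.1, hx.2⟩
    · intro a ha
      rw [mem_omegaOne_iff hA] at ha
      obtain ⟨ha, hap⟩ := ha
      refine (mem_omegaOne_iff hKc).mpr ⟨(le_sup_right : MM A c ≤ KK A c) (gen_mem_MM A c ha), ?_⟩
      set y := c * a⁻¹ * c⁻¹ with hy
      have hyA1 : y ∈ A1 A c := conj_mem_A1 (inv_mem ha)
      have hz : ⁅y, a⁆ ∈ II A c := by
        rw [← commutatorElement_inv]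
        exact inv_mem (comm_A_A1 A c hcN ha hyA1)
      have e1 : ⁅a, c⁆ = a * y := by rw [hy, commutatorElement_def]; group
      have e2 : y * a = ⁅y, a⁆ * a * y := by rw [commutatorElement_def]; group
      have c1 : Commute ⁅y, a⁆ a := hcomm _ hz _ ((le_sup_left : A ≤ HH A c) ha)
      have c2 : Commute ⁅y, a⁆ y := hcomm _ hz _ ((le_sup_right : A1 A c ≤ HH A c) hyA1)
      have e3 : y ^ p = 1 := by
        rw [hy, conj_pow, inv_pow, hap]; group
      have e5 : ⁅y, a⁆ ^ p = 1 := by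
        have := pow_mul_class2 e2 c1 c2 p
        rw [e3, one_mul, mul_one] at this
        exact (mul_eq_right.mp this.symm)
      rw [e1, mul_pow_class2 e2 c1 c2 p, hap, e3]
      obtain ⟨t, ht⟩ := (Fact.out : p.Prime).odd_of_ne_two hp
      have e4 : p.choose 2 = p * t := by
        rw [Nat.choose_two_right]
        conv_lhs => rw [ht]
        have : (2 * t + 1) * (2 * t + 1 - 1) = 2 * ((2 * t + 1) * t) := by
          rw [Nat.add_sub_cancel]; ring
        rw [this, Nat.mul_div_cancel_left _ (by norm_num : 0 < 2), ← ht]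
      rw [e4, pow_mul, e5]
      simp
    · intro a ha a' ha' h
      rw [mem_omegaOne_iff hA] at ha ha'
      rw [mem_omegaOne_iff hIc] at h ⊢
      have hcm : Commute a⁻¹ a' := setLike_mul_comm (inv_mem ha.1) ha'.1
      refine ⟨Subgroup.mem_inf.mpr ⟨mul_mem (inv_mem ha.1) ha'.1, ?_⟩, ?_⟩
      · have h1 : ⁅a, c⁆⁻¹ * ⁅a', c⁆ ∈ A1 A c := II_le_A1 A c h.1
        have e : a⁻¹ * a' = (c * a⁻¹ * c⁻¹) * (⁅a, c⁆⁻¹ * ⁅a', c⁆) * (c * a' * c⁻¹) := by
          simp only [commutatorElement_def]; group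
        rw [e]
        exact mul_mem (mul_mem (conj_mem_A1 (inv_mem ha.1)) h1) (conj_mem_A1 ha'.1)
      · rw [hcm.mul_pow, inv_pow, ha.2, ha'.2]; simp


/-- A replacement Theorem for abelian subgroups of p-groups, p odd. Let G be a finite p-group with p odd, A an abelian subgroup of G, and B a subgroup of nilpotency class at most 2 with [B, B] ≤ A, such that A normalizes B but B does not normalize A. Then there is an abelian subgroup A* of G of the same order as A with A ∩ B strictly contained in A* ∩ B, A* contained in N_G(A) and in the normal closure of A, the exponent of A* dividing the exponent of A, and with the subgroup generated by the elements of order dividing p in A of order at most that of the corresponding subgroup of A* (the rank of A is at most the rank of A*). -/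
theorem result {G : Type*} [Group G] [Finite G] {p : ℕ} [Fact p.Prime] (hp : p ≠ 2) (hG : IsPGroup p G) (A B : Subgroup G) (hA : IsMulCommutative A) (hB2 : ⁅⁅B, B⁆, B⁆ = ⊥) (hBA : ⁅B, B⁆ ≤ A) (hAB : A ≤ Subgroup.normalizer (B : Set G)) (hBnA : ¬ B ≤ Subgroup.normalizer (A : Set G)) : ∃ Astar : Subgroup G, IsMulCommutative Astar ∧ Nat.card Astar = Nat.card A ∧ A ⊓ B < Astar ⊓ B ∧ Astar ≤ Subgroup.normalizer (A : Set G) ∧ Astar ≤ Subgroup.normalClosure (A : Set G) ∧ Monoid.exponent Astar ∣ Monoid.exponent A ∧ Nat.card (Cfsg.omegaOne p A) ≤ Nat.card (Cfsg.omegaOne p Astar) := by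
  set S : Subgroup G := A ⊔ B with hSdef
  have hAS : A ≤ S := le_sup_left
  have hBS : B ≤ S := le_sup_right
  have hSB : S ≤ Subgroup.normalizer (B : Set G) := sup_le hAB Subgroup.le_normalizer
  have hBn : (B.subgroupOf S).Normal := (Subgroup.normal_subgroupOf_iff_le_normalizer hBS).mpr hSB
  have hder : (⁅B.subgroupOf S, B.subgroupOf S⁆ : Subgroup S).map S.subtype = ⁅B, B⁆ := by
    rw [Subgroup.map_commutator, map_subgroupOf hBS]
  have h1 : ⁅B.subgroupOf S, B.subgroupOf S⁆ ≤ A.subgroupOf S := by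
    rw [← Subgroup.map_subtype_le_map_subtype, hder, map_subgroupOf hAS]
    exact hBA
  have h2 : ¬ B.subgroupOf S ≤ Subgroup.normalizer ((A.subgroupOf S : Subgroup S) : Set S) := by
    intro h
    apply hBnA
    rw [Subgroup.le_normalizer_iff] at h ⊢
    intro b hb a ha
    exact h ⟨b, hBS hb⟩ hb ⟨a, hAS ha⟩ ha
  obtain ⟨K, k1, k2, k3, k4, k5, k6, k7⟩ :=
    level (hG.to_subgroup S) hp (B.subgroupOf S) (A.subgroupOf S) inferInstance h1 h2
  refine ⟨K.map S.subtype, inferInstance, ?_, ?_, ?_, ?_, ?_, ?_⟩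
  · rw [card_map_subtype, k2, card_subgroupOf hAS]
  · have := (Subgroup.map_lt_map_iff_of_injective S.subtype_injective).mpr k3
    rwa [Subgroup.map_inf _ _ _ S.subtype_injective, Subgroup.map_inf _ _ _ S.subtype_injective,
      map_subgroupOf hAS, map_subgroupOf hBS] at this
  · rw [Subgroup.le_normalizer_iff] at k4 ⊢
    rintro _ ⟨k, hk, rfl⟩ a ha
    exact k4 k hk ⟨a, hAS ha⟩ ha
  · have h3 := k5 ((Subgroup.normalClosure (A : Set G)).subgroupOf S) inferInstance
      (fun x hx => Subgroup.le_normalClosure hx)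
    rintro _ ⟨k, hk, rfl⟩
    exact h3 hk
  · have e1 : Monoid.exponent ↥(K.map S.subtype) = Monoid.exponent K :=
      (Monoid.exponent_eq_of_mulEquiv (Subgroup.equivMapOfInjective K _ S.subtype_injective)).symm
    have e2 : Monoid.exponent ↥(A.subgroupOf S) = Monoid.exponent A :=
      Monoid.exponent_eq_of_mulEquiv (Subgroup.subgroupOfEquivOfLe hAS)
    rw [e1, ← e2]
    exact k6
  · rw [omegaOne_map p _ S.subtype_injective, card_map_subtype]
    have e : Cfsg.omegaOne p A = (Cfsg.omegaOne p (A.subgroupOf S)).map S.subtype := by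
      rw [← omegaOne_map p _ S.subtype_injective, map_subgroupOf hAS]
    rw [e, card_map_subtype]
    exact k7

end Cfsg.Agent.S3078
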