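import Cfsg.Statements.S3080
import Cfsg.Agent.Lib.Helper14Control2
import Cfsg.Agent.Lib.Helper14LocalZJ

set_option autoImplicit false
open Cfsg

namespace Cfsg.Agent.S3080

open Cfsg.Agent.Lib.Helper14WBasic Cfsg.Agent.Lib.Helper40Sylow Cfsg.Agent.Lib.Helper40Alperin
  Cfsg.Agent.Lib.Helper40Fusion Cfsg.Agent.Lib.Helper14Control2 Cfsg.Agent.Lib.Helper14LocalZJ
  Cfsg.Agent.Lib.Helper14Family Cfsg.Agent.Lib.Helper14FamProps Cfsg.Agent.Lib.Helper14Transport
  Cfsg.Agent.Lib.Helper14CoreB

theorem sInf_famE_ne_bot {G : Type*} [Group G] [Finite G] {p : ℕ} [Fact p.Prime] {R : Subgroup G}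
    (hR : IsPGroup p R) (hne : R ≠ ⊥) : sInf (famE p R) ≠ ⊥ := by
  have h1 := inf_centralizer_ne_bot hR hne
  set Z := R ⊓ Subgroup.centralizer (R : Set G) with hZ
  have hZp : IsPGroup p Z := hR.to_le inf_le_left
  have hdvd : p ∣ Nat.card Z := by
    rcases hZp.card_eq_or_dvd with h | h
    · exact absurd (Subgroup.card_eq_one.mp h) h1
    · exact h
  obtain ⟨z, hz⟩ := exists_prime_orderOf_dvd_card' p hdvd
  have hzp : (z : G) ^ p = 1 := by
    have := pow_orderOf_eq_one z
    rw [hz] at this
    simpa using congrArg Subtype.val this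
  have hz1 : (z : G) ≠ 1 := by
    intro h
    have : z = 1 := Subtype.ext h
    rw [this, orderOf_one] at hz
    exact (Fact.out : p.Prime).one_lt.ne hz
  intro hbot
  apply hz1
  rw [← Subgroup.mem_bot, ← hbot, Subgroup.mem_sInf]
  intro A hA
  have hzA : (z : G) ∈ Subgroup.centralizer (A : Set G) := Subgroup.centralizer_le hA.1 z.2.2
  have h2 := hA.2.2 (A ⊔ Subgroup.zpowers (z : G))
    (sup_le hA.1 (by rw [Subgroup.zpowers_le]; exact z.2.1))
    (Cfsg.Agent.Lib.Helper14ElemAb.elemAb_sup_zpowers A hA.2.1 z hzA hzp)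
  have h3 : A = A ⊔ Subgroup.zpowers (z : G) := Subgroup.eq_of_le_of_card_ge le_sup_left h2
  rw [h3]
  exact (le_sup_right : Subgroup.zpowers (z : G) ≤ A ⊔ Subgroup.zpowers (z : G))
    (Subgroup.mem_zpowers _)

/-- local control from the factorization -/
theorem local_control {G : Type*} [Group G] [Finite G] {p : ℕ} [Fact p.Prime]
    (P : Sylow p G) (D : Subgroup G)
    (W : Subgroup G → Subgroup G)
    (hWcj : ∀ (T : Subgroup G) (g : G), W (rj g T) = rj g (W T))
    (hD : Cfsg.IsStronglyClosed D (P : Subgroup G))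
    (Y : Subgroup G) (hfull : FullyNorm p (P : Subgroup G) Y)
    (hfac : ∀ h ∈ Subgroup.normalizer (Y : Set G),
      ∃ x ∈ (pPrimeCore p ↥(Subgroup.normalizer (Y : Set G))).map
          (Subgroup.normalizer (Y : Set G)).subtype, ∃ n ∈ Subgroup.normalizer (Y : Set G),
      n ∈ Subgroup.normalizer
        ((W ((P : Subgroup G) ⊓ Subgroup.normalizer (Y : Set G) ⊓ D) : Subgroup G) : Set G) ∧
        h = x * n)
    (E : Subgroup G) (hE : E ≤ (P : Subgroup G) ⊓ Subgroup.normalizer (Y : Set G))
    (h : G) (hh : h ∈ Subgroup.normalizer (Y : Set G)) (hhE : rj h E ≤ P) :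
    ∃ n ∈ Subgroup.normalizer
          ((W ((P : Subgroup G) ⊓ Subgroup.normalizer (Y : Set G) ⊓ D) : Subgroup G) : Set G),
        ∀ a ∈ E, h⁻¹ * a * h = n⁻¹ * a * n := by
  set H := Subgroup.normalizer (Y : Set G) with hH
  refine control_of_factor (H := H) (R := (P : Subgroup G) ⊓ H)
    (X := (pPrimeCore p ↥H).map H.subtype) hfull (Subgroup.map_subtype_le _)
    (le_normalizer_map_subtype _) ?_ ?_ hfac E hE h hh ?_
  · rw [Subgroup.card_map_of_injective H.subtype_injective]
    exact card_pPrimeCore_coprime p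
  · refine le_trans ?_ (normalizer_le_of_equivariant W hWcj _)
    rw [Subgroup.le_normalizer_iff]
    intro r hr d hd
    have h1 : r * d * r⁻¹ ∈ (P : Subgroup G) ⊓ H := mul_mem (mul_mem hr hd.1) (inv_mem hr)
    exact Subgroup.mem_inf.mpr ⟨h1, hD.2 d hd.2 r h1.1⟩
  · refine le_inf hhE ?_
    intro y hy
    rw [mem_rj] at hy
    have h1 := mul_mem (mul_mem (inv_mem hh) (hE hy).2) hh
    have e : h⁻¹ * (h * y * h⁻¹) * h = y := by group
    rwa [e] at h1

/-- Let p be an odd prime, G a finite group that is p-stable in the normalizer form, P a Sylow p-subgroup such that N_G(U) is p-constrained for every nontrivial subgroup U of P, and D a subgroup of P strongly closed in P with respect to G. Then N_G(Z(J(D))) controls strong G-fusion in P (for every subset A of P and every g ∈ G with gAg⁻¹ ⊆ P, some element of that normalizer acts on A exactly as g does; J(D) is generated by the abelian subgroups of D of largest order), and so does N_G(Ω₁(Z(J_e(D)))) (J_e(D) generated by the elementary abelian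 subgroups of largest order). -/
theorem result {G : Type*} [Group G] [Finite G] {p : ℕ} [Fact p.Prime] (hp : p ≠ 2) (P : Sylow p G) (D : Subgroup G) (hD : Cfsg.IsStronglyClosed D (P : Subgroup G)) (hst : Cfsg.IsNormalizerPStable p G) (hc : ∀ U : Subgroup G, U ≤ (P : Subgroup G) → U ≠ ⊥ → Cfsg.IsPConstrained p ↥(Subgroup.normalizer (U : Set G))) : (∀ A : Set G, A ⊆ (P : Subgroup G) → Cfsg.ControlsStrongFusionOf (Subgroup.normalizer ((Cfsg.centerThompsonAOf D) : Set G)) (P : Subgroup G) A) ∧ (∀ A : Set G, A ⊆ (P : Subgroup G) → Cfsg.ControlsStrongFusionOf (Subgroup.normalizer ((Cfsg.omegaOne p (Cfsg.centerThompsonOf p D)) : Set G)) (P : Subgroup G) A) := by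
  have hfac := fun (Y : Subgroup G) (hY : Y ≤ P) (hY1 : Y ≠ ⊥)
      (hfull : FullyNorm p (P : Subgroup G) Y) (h : G) (hh : h ∈ Subgroup.normalizer (Y : Set G)) =>
    local_factor hp P D hD hst (Subgroup.normalizer (Y : Set G)) (hc Y hY hY1) hfull h hh
  constructor
  · refine control_stronglyClosed P D hD (fun T => Cfsg.centerThompsonAOf T)
      centerThompsonAOf_le (fun T hT hne => centerThompsonAOf_ne_bot hT hne) ?_ ?_
    · intro T g
      exact centerThompsonAOf_map (MulAut.conj g⁻¹).toMonoidHom (MulAut.conj g⁻¹).injective.injOn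
    · intro Y hY hY1 hfull E hE h hh hhE
      exact local_control P D (fun T => Cfsg.centerThompsonAOf T)
        (fun T g => centerThompsonAOf_map (MulAut.conj g⁻¹).toMonoidHom
          (MulAut.conj g⁻¹).injective.injOn) hD Y hfull
        (fun h hh => (hfac Y hY hY1 hfull h hh).1) E hE h hh hhE
  · have hcj : ∀ (T : Subgroup G) (g : G),
        Cfsg.omegaOne p (Cfsg.centerThompsonOf p (rj g T)) =
          rj g (Cfsg.omegaOne p (Cfsg.centerThompsonOf p T)) := by
      intro T g
      rw [Cfsg.Agent.S3079.omegaOne_centerThompsonOf_eq, Cfsg.Agent.S3079.omegaOne_centerThompsonOf_eq]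
      exact sInf_famE_map (MulAut.conj g⁻¹).toMonoidHom (MulAut.conj g⁻¹).injective.injOn
    refine control_stronglyClosed P D hD (fun T => Cfsg.omegaOne p (Cfsg.centerThompsonOf p T))
      ?_ ?_ hcj ?_
    · intro T
      rw [Cfsg.Agent.S3079.omegaOne_centerThompsonOf_eq]
      obtain ⟨A, hA⟩ := famE_F4 p T
      exact (sInf_le hA).trans hA.1
    · intro T hT hne
      rw [Cfsg.Agent.S3079.omegaOne_centerThompsonOf_eq]
      exact sInf_famE_ne_bot hT hne
    · intro Y hY hY1 hfull E hE h hh hhE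
      exact local_control P D (fun T => Cfsg.omegaOne p (Cfsg.centerThompsonOf p T)) hcj hD Y hfull
        (fun h hh => (hfac Y hY hY1 hfull h hh).2) E hE h hh hhE

end Cfsg.Agent.S3080
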