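import Cfsg.Statements.S3081
import Mathlib
import Cfsg.Agent.Lib.Helper14SCFus
import Cfsg.Agent.Lib.Helper14QdStable
import Cfsg.Agent.Lib.Helper57ZJFus
import Cfsg.Agent.Lib.Helper24Thompson
import Cfsg.Agent.S3079

set_option autoImplicit false
open Cfsg

namespace Cfsg.Agent.S3081

open Cfsg.Agent.Lib.Helper24Thompson Cfsg.Agent.Lib.Helper39Sylow Cfsg.Agent.Lib.Helper39Control
  Cfsg.Agent.Lib.Helper24Section Cfsg.Agent.Lib.Helper14QdStable Cfsg.Agent.Lib.Helper14SCFus
  Cfsg.Agent.Lib.Helper39SecTransport Cfsg.Agent.Lib.Helper57ZJFus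

universe u

/-- the functor `Ω₁(Z(J_e(Q)))` -/
def fOZJE (p : ℕ) : ∀ (Q : Type u) [Group Q], Subgroup Q := fun Q _ => omegaOne p (fZJE p Q)

theorem isChar_fOZJE (p : ℕ) [Fact p.Prime] : IsCharPFunctor.{u} p (fOZJE p) := by
  apply isChar_of
  · intro Q _ _ hQ hnt h
    have hZ : fZJE p Q ≠ ⊥ := (isChar_fZJE p).1 Q hQ hnt
    have hnt' : Nontrivial (fZJE p Q) := (Subgroup.nontrivial_iff_ne_bot _).mpr hZ
    have hp' : IsPGroup p (fZJE p Q) := hQ.to_subgroup _
    obtain ⟨k, hk⟩ := hp'.exists_card_eq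
    have hdvd : p ∣ Nat.card (fZJE p Q) := by
      rw [hk]
      apply dvd_pow_self
      rintro rfl
      rw [pow_zero] at hk
      have := Finite.one_lt_card (α := fZJE p Q)
      omega
    obtain ⟨x, hx⟩ := exists_prime_orderOf_dvd_card' p hdvd
    have hx1 : (x : Q) ∈ fOZJE p Q := by
      apply Subgroup.subset_closure
      refine ⟨x.2, ?_⟩
      have := pow_orderOf_eq_one x
      rw [hx] at this
      exact congrArg Subtype.val this
    rw [h, Subgroup.mem_bot] at hx1
    have hx2 : x = 1 := Subtype.ext hx1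
    rw [hx2, orderOf_one] at hx
    exact (Fact.out : p.Prime).one_lt.ne hx
  · intro Q R _ _ e
    have hle : (fZJE p Q).map e.toMonoidHom ≤ fZJE p R := by
      rintro _ ⟨x, ⟨hx1, hx2⟩, rfl⟩
      refine ⟨Cfsg.Agent.Lib.Helper14Stable.thompson_map_le e ⟨x, hx1, rfl⟩, ?_⟩
      intro y hy
      rw [← thompson_map e] at hy
      obtain ⟨z, hz, rfl⟩ := hy
      have := hx2 z hz
      show e z * e x = e x * e z
      rw [← map_mul, ← map_mul, this]
    unfold fOZJE omegaOne
    rw [MonoidHom.map_closure, Subgroup.closure_le]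
    rintro _ ⟨x, ⟨hx1, hx2⟩, rfl⟩
    apply Subgroup.subset_closure
    refine ⟨hle ⟨x, hx1, rfl⟩, ?_⟩
    show (e x) ^ p = 1
    rw [← map_pow, hx2, map_one]

theorem ind_fOZJE {G : Type u} [Group G] (p : ℕ) (P : Subgroup G) :
    inducedFunctor (fOZJE p) P = omegaOne p (centerThompsonOf p P) := by
  rw [← ind_fZJE]
  unfold inducedFunctor fOZJE omegaOne
  rw [MonoidHom.map_closure]
  congr 1
  ext x
  constructor
  · rintro ⟨y, ⟨hy1, hy2⟩, rfl⟩
    exact ⟨⟨y, hy1, rfl⟩, congrArg Subtype.val hy2⟩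
  · rintro ⟨⟨y, hy, rfl⟩, hx⟩
    exact ⟨y, ⟨hy, Subtype.ext hx⟩, rfl⟩

theorem controls_of_csf {G : Type u} [Group G] {U S : Subgroup G} (h : CSF (fun _ => U) ⊤ S) :
    ∀ A : Set G, A ⊆ S → ControlsStrongFusionOf (Subgroup.normalizer (U : Set G)) S A := by
  intro A hA
  refine ⟨hA, fun g hg => ?_⟩
  rw [csf_iff_set] at h
  obtain ⟨x, hx, hxa⟩ := h A g (Subgroup.mem_top _) hA hg
  exact ⟨x, hx.2, fun a ha => (hxa a ha).symm⟩

/-- Let p be an odd prime, G a finite group in which Qd(p) (the natural semidirect product of an elementary abelian group of order p² by SL₂(p)) is not involved, P a Sylow p-subgroup and D a subgroup of P strongly closed in P with respect to G. Then N_G(Z(J(D))) controls strong G-fusion in P (for every subset A of P and every g ∈ G with gAg⁻¹ ⊆ P, some element of that normalizer acts on A exactly as g does; J(D) is generated by the abelian subgroups of D of largest order), and so does N_G(Ω₁(Z(J_e(D)))) (J_e(D) generated by the elementary abelian subgroups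 of largest order). -/
theorem result {G : Type*} [Group G] [Finite G] {p : ℕ} [Fact p.Prime] (hp : p ≠ 2) (P : Sylow p G) (D : Subgroup G) (hD : Cfsg.IsStronglyClosed D (P : Subgroup G)) (hqd : ¬ Cfsg.Involves ↥(Cfsg.qd p) G) : (∀ A : Set G, A ⊆ (P : Subgroup G) → Cfsg.ControlsStrongFusionOf (Subgroup.normalizer ((Cfsg.centerThompsonAOf D) : Set G)) (P : Subgroup G) A) ∧ (∀ A : Set G, A ⊆ (P : Subgroup G) → Cfsg.ControlsStrongFusionOf (Subgroup.normalizer ((Cfsg.omegaOne p (Cfsg.centerThompsonOf p D)) : Set G)) (P : Subgroup G) A) := by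
  constructor
  · apply controls_of_csf
    rw [← ind_fZJA]
    apply csu_all (p := p) (W := fZJA) (isChar_fZJA p) (fun X _ => ¬ Involves ↥(qd p) X)
      (fun X _ _ Y h h' => h (Involves.trans h' (involves_subgroup Y)))
      (fun X _ _ N _ h h' => h (Involves.trans h' (involves_quotient N))) ?_ (Nat.card G) G rfl hqd
      P D (isSyl_sylow P) (sc_top_iff.2 hD)
    intro X _ _ hX hcon T D' hT hD'
    have := (Cfsg.Agent.S3079.result hp (toSylowTop hT) D' (sc_top_iff.1 hD') (normalizerPStable hp hX) hcon).1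
    rw [ind_fZJA]
    exact this
  · apply controls_of_csf
    rw [← ind_fOZJE]
    apply csu_all (p := p) (W := fOZJE p) (isChar_fOZJE p) (fun X _ => ¬ Involves ↥(qd p) X)
      (fun X _ _ Y h h' => h (Involves.trans h' (involves_subgroup Y)))
      (fun X _ _ N _ h h' => h (Involves.trans h' (involves_quotient N))) ?_ (Nat.card G) G rfl hqd
      P D (isSyl_sylow P) (sc_top_iff.2 hD)
    intro X _ _ hX hcon T D' hT hD'
    have := (Cfsg.Agent.S3079.result hp (toSylowTop hT) D' (sc_top_iff.1 hD') (normalizerPStable hp hX) hcon).2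
    rw [ind_fOZJE]
    exact this

end Cfsg.Agent.S3081
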