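import Cfsg.Statements.S3184
import Cfsg.Agent.S0215
import Cfsg.Agent.Lib.Helper58Sylow
import Cfsg.Agent.Lib.Helper29Basic

set_option autoImplicit false
open Cfsg

namespace Cfsg.Agent.S3184

open Subgroup

theorem unique_involution_cyclic {H : Type*} [Group H] [Finite H] (C : Subgroup H) (hC : IsCyclic C)
    {a b : H} (ha : a ∈ C) (hb : b ∈ C) (ha2 : orderOf a = 2) (hb2 : orderOf b = 2) : a = b := by
  have h1 : zpowers a = zpowers b :=
    Cfsg.Agent.Lib.Helper29Basic.eq_of_card_eq_of_le_cyclic hC (zpowers_le.mpr ha)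
      (zpowers_le.mpr hb) (by rw [Nat.card_zpowers, Nat.card_zpowers, ha2, hb2])
  have h2 : b ∈ zpowers a := h1 ▸ mem_zpowers b
  obtain ⟨k, hk⟩ := mem_zpowers_iff.mp h2
  have h3 : a ^ (k % 2) = b := by
    have := zpow_mod_orderOf a k
    rw [ha2] at this
    rw [← hk]
    exact_mod_cast this
  rcases Int.emod_two_eq_zero_or_one k with h | h
  · rw [h, zpow_zero] at h3
    rw [← h3, orderOf_one] at hb2
    omega
  · rw [h, zpow_one] at h3
    exact h3

/-- `x` is the distinguished involution of the Sylow subgroup `T` -/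
def Att {G : Type*} [Group G] (S : Sylow 2 G) (c : G) (T : Sylow 2 G) (x : G) : Prop :=
  ∃ g : G, T = g • S ∧ x = g * c * g⁻¹

section
variable {G : Type*} [Group G] [Finite G] {S : Sylow 2 G} {c : G}

theorem Att.uniq (hA : ∀ n ∈ normalizer ((S : Subgroup G) : Set G), n * c * n⁻¹ = c)
    {T : Sylow 2 G} {x y : G} (hx : Att S c T x) (hy : Att S c T y) : x = y := by
  obtain ⟨g, hg, rfl⟩ := hx
  obtain ⟨h, hh, rfl⟩ := hy
  have h1 : (h⁻¹ * g) • S = S := by
    rw [mul_smul, ← hg, hh, inv_smul_smul]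
  have h2 := hA _ (Sylow.smul_eq_iff_mem_normalizer.mp h1)
  calc g * c * g⁻¹ = h * ((h⁻¹ * g) * c * (h⁻¹ * g)⁻¹) * h⁻¹ := by group
    _ = h * c * h⁻¹ := by rw [h2]

theorem Att.comm (hA : ∀ n ∈ normalizer ((S : Subgroup G) : Set G), n * c * n⁻¹ = c)
    {T : Sylow 2 G} {x : G} (hx : Att S c T x) : ∀ t ∈ T, t * x = x * t := by
  obtain ⟨g, hg, rfl⟩ := hx
  intro t ht
  rw [hg] at ht
  have h1 : g⁻¹ * t * g ∈ (S : Subgroup G) :=
    (Cfsg.Agent.Lib.Helper58Sylow.mem_smul_sylow S g t).mp ht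
  have h2 := hA _ (le_normalizer h1)
  calc t * (g * c * g⁻¹) = g * ((g⁻¹ * t * g) * c * (g⁻¹ * t * g)⁻¹) * g⁻¹ * t := by group
    _ = g * c * g⁻¹ * t := by rw [h2]

theorem Att.mem (hc : c ∈ S) {T : Sylow 2 G} {x : G} (hx : Att S c T x) : x ∈ T := by
  obtain ⟨g, hg, rfl⟩ := hx
  rw [hg]
  apply (Cfsg.Agent.Lib.Helper58Sylow.mem_smul_sylow S g _).mpr
  have : g⁻¹ * (g * c * g⁻¹) * g = c := by group
  rw [this]
  exact hc

theorem Att.conj {T : Sylow 2 G} {x : G} (hx : Att S c T x) (n : G) (hn : n * x = x * n) :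
    Att S c (n • T) x := by
  obtain ⟨g, hg, rfl⟩ := hx
  refine ⟨n * g, by rw [hg, mul_smul], ?_⟩
  calc g * c * g⁻¹ = (g * c * g⁻¹) * n * n⁻¹ := by group
    _ = n * (g * c * g⁻¹) * n⁻¹ := by rw [← hn]
    _ = n * g * c * (n * g)⁻¹ := by group

theorem Att.of_comm (hA : ∀ n ∈ normalizer ((S : Subgroup G) : Set G), n * c * n⁻¹ = c)
    {T W : Sylow 2 G} {z : G} (hz : Att S c T z) (hW : ∀ w ∈ W, w * z = z * w) :
    Att S c W z := by
  have hT : (T : Subgroup G) ≤ centralizer ({z} : Set G) := by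
    intro t ht
    rw [mem_centralizer_iff]
    rintro _ rfl
    exact (hz.comm hA t ht).symm
  have hW' : (W : Subgroup G) ≤ centralizer ({z} : Set G) := by
    intro t ht
    rw [mem_centralizer_iff]
    rintro _ rfl
    exact (hW t ht).symm
  obtain ⟨n, hn, h⟩ := Cfsg.Agent.Lib.Helper58Sylow.exists_conj_le T hT hW' W.isPGroup'
  have hle : ((n • W : Sylow 2 G) : Subgroup G) ≤ T := by
    intro y hy
    have h1 := (Cfsg.Agent.Lib.Helper58Sylow.mem_smul_sylow W n y).mp hy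
    have h2 := h _ h1
    have h3 : n * (n⁻¹ * y * n) * n⁻¹ = y := by group
    rwa [h3] at h2
  have heq : T = n • W := Sylow.ext ((n • W).is_maximal' T.isPGroup' hle)
  have hnz : n⁻¹ * z = z * n⁻¹ := by
    have := (mem_centralizer_iff.mp hn) z rfl
    calc n⁻¹ * z = n⁻¹ * (z * n) * n⁻¹ := by group
      _ = n⁻¹ * (n * z) * n⁻¹ := by rw [this]
      _ = z * n⁻¹ := by group
  have := hz.conj n⁻¹ hnz
  rwa [heq, inv_smul_smul] at this

theorem Att.exists_mem (hA : ∀ n ∈ normalizer ((S : Subgroup G) : Set G), n * c * n⁻¹ = c)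
    {T : Sylow 2 G} {x y : G} (hx : Att S c T x) (hy : orderOf y = 2) (hxy : y * x = x * y) :
    ∃ V : Sylow 2 G, Att S c V x ∧ y ∈ V := by
  have hT : (T : Subgroup G) ≤ centralizer ({x} : Set G) := by
    intro t ht
    rw [mem_centralizer_iff]
    rintro _ rfl
    exact (hx.comm hA t ht).symm
  have hyc : zpowers y ≤ centralizer ({x} : Set G) := by
    rw [zpowers_le, mem_centralizer_iff]
    rintro _ rfl
    exact hxy.symm
  have hpg : IsPGroup 2 (zpowers y) :=
    IsPGroup.of_card (n := 1) (by rw [Nat.card_zpowers, hy, pow_one])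
  obtain ⟨n, hn, h⟩ := Cfsg.Agent.Lib.Helper58Sylow.exists_conj_le T hT hyc hpg
  have hnx : n⁻¹ * x = x * n⁻¹ := by
    have := (mem_centralizer_iff.mp hn) x rfl
    calc n⁻¹ * x = n⁻¹ * (x * n) * n⁻¹ := by group
      _ = n⁻¹ * (n * x) * n⁻¹ := by rw [this]
      _ = x * n⁻¹ := by group
  refine ⟨n⁻¹ • T, hx.conj n⁻¹ hnx, ?_⟩
  apply (Cfsg.Agent.Lib.Helper58Sylow.mem_smul_sylow T n⁻¹ y).mpr
  rw [inv_inv]
  exact h y (mem_zpowers y)

end

/-- Let G be a finite group in which the intersection of any two distinct Sylow 2-subgroups is contained in the centre of some Sylow 2-subgroup, and let S be a Sylow 2-subgroup. If C is a nontrivial cyclic characteristic subgroup of S, then the involution of C is central modulo the largest normal subgroup of odd order of G: each of its conjugates has the same image in G/O(G). -/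
theorem result {G : Type*} [Group G] [Finite G]
    (hCI : ∀ S T : Sylow 2 G, S ≠ T → ∃ U : Sylow 2 G,
      (S : Subgroup G) ⊓ (T : Subgroup G) ≤ (Subgroup.center ↥(U : Subgroup G)).map (U : Subgroup G).subtype)
    (S : Sylow 2 G) (C : Subgroup ↥(S : Subgroup G)) (hC : C ≠ ⊥) (hCc : IsCyclic ↥C) (hCh : C.Characteristic)
    (c : ↥(S : Subgroup G)) (hc : c ∈ C) (hc2 : orderOf c = 2) :
    ∀ g : G, (QuotientGroup.mk (s := Cfsg.oddCore G) (g * (c : G) * g⁻¹)) =
      QuotientGroup.mk (s := Cfsg.oddCore G) (c : G) := by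
  have h2 : Fact (Nat.Prime 2) := ⟨Nat.prime_two⟩
  set c' : G := (c : G) with hc'
  have hc'2 : orderOf c' = 2 := by rw [hc', Subgroup.orderOf_coe, hc2]
  have hc'S : c' ∈ S := c.2
  have hcc : c' * c' = 1 := by rw [← pow_two, ← hc'2, pow_orderOf_eq_one]
  have hcinv : c'⁻¹ = c' := inv_eq_of_mul_eq_one_left hcc
  have hA : ∀ n ∈ normalizer ((S : Subgroup G) : Set G), n * c' * n⁻¹ = c' := by
    intro n hn
    set φ : MulAut (S : Subgroup G) := Subgroup.normalizerMonoidHom (S : Subgroup G) ⟨n, hn⟩ with hφ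
    have h1 : φ c ∈ C := (Subgroup.characteristic_iff_map_le.mp hCh φ) ⟨c, hc, rfl⟩
    have h3 : orderOf (φ c) = 2 := by rw [MulEquiv.orderOf_eq, hc2]
    have h4 : φ c = c := unique_involution_cyclic C hCc h1 hc h3 hc2
    have h5 : ((φ c : (S : Subgroup G)) : G) = (c : G) := congrArg Subtype.val h4
    exact h5
  have hSc : Att S c' S c' := ⟨1, by simp, by simp⟩
  have hiso : ∀ g : G, g * c' * g⁻¹ ∈ S → g * c' * g⁻¹ = c' := by
    intro g hg
    by_contra hne
    set x := g * c' * g⁻¹ with hx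
    have hTx : Att S c' (g • S) x := ⟨g, rfl, rfl⟩
    have hcx : c' * x = x * c' := (hSc.comm hA x hg).symm
    obtain ⟨V, hV, hcV⟩ := hTx.exists_mem hA hc'2 hcx
    have hSV : S ≠ V := by
      intro h
      exact hne (Att.uniq hA (h ▸ hV) hSc)
    obtain ⟨W, hW⟩ := hCI S V hSV
    have hcen : ∀ y, y ∈ S → y ∈ V → ∀ w ∈ W, w * y = y * w := by
      intro y hyS hyV w hw
      obtain ⟨z, hz, hzy⟩ := hW (Subgroup.mem_inf.mpr ⟨hyS, hyV⟩)
      have := (Subgroup.mem_center_iff.mp hz) ⟨w, hw⟩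
      have h6 := congrArg Subtype.val this
      rw [← hzy]
      exact h6
    have hWc : Att S c' W c' := hSc.of_comm hA (hcen c' hc'S hcV)
    have hWx : Att S c' W x := hV.of_comm hA (hcen x hg (hV.mem hc'S))
    exact hne (Att.uniq hA hWx hWc)
  obtain ⟨N, hN, hodd, hcomm⟩ := Cfsg.Agent.S0215.result S c' hc'2 hc'S hiso
  have hNle : N ≤ Cfsg.oddCore G :=
    le_sSup ⟨hN, (Nat.coprime_two_right.mpr hodd)⟩
  intro g
  rw [QuotientGroup.eq]
  apply hNle
  have h7 := N.inv_mem (hcomm g)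
  have h8 : (c' * g * c'⁻¹ * g⁻¹)⁻¹ = (g * c' * g⁻¹)⁻¹ * c' := by
    rw [hcinv]
    have : (g * c' * g⁻¹)⁻¹ = g * c'⁻¹ * g⁻¹ := by group
    rw [this, hcinv]
    have : (c' * g * c' * g⁻¹)⁻¹ = g * c'⁻¹ * g⁻¹ * c'⁻¹ := by group
    rw [this, hcinv]
  rwa [h8] at h7

end Cfsg.Agent.S3184
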