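import Cfsg.Statements.S4400
import Cfsg.Agent.Lib.Helper31PGroup
import Cfsg.Agent.Lib.Helper76SylowCount

set_option autoImplicit false
open Cfsg

namespace Cfsg.Agent.S4400

theorem card_mul_relIndex_le {X : Type*} [Group X] {H K : Subgroup X} (h : H ≤ K) :
    Nat.card H * H.relIndex K = Nat.card K := by
  rw [← Subgroup.relIndex_bot_left, ← Subgroup.relIndex_bot_left,
    Subgroup.relIndex_mul_relIndex _ _ _ bot_le h]

theorem exists_index_two {X : Type*} [Group X] [Finite X] (h2 : IsPGroup 2 X)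
    (Y : Subgroup X) (hY : Y ≠ ⊤) : ∃ M : Subgroup X, Y ≤ M ∧ M.index = 2 := by
  have : Fact (Nat.Prime 2) := ⟨Nat.prime_two⟩
  obtain ⟨n, hn⟩ := IsPGroup.iff_card.mp h2
  obtain ⟨k, hk⟩ := IsPGroup.iff_card.mp (h2.to_subgroup Y)
  have hlt : Nat.card Y < Nat.card X := by
    rcases lt_or_eq_of_le (Subgroup.card_le_card_group Y) with h | h
    · exact h
    · exact absurd (Subgroup.eq_top_of_card_eq Y h) hY
  rw [hn, hk] at hlt
  have hkn : k < n := (Nat.pow_lt_pow_iff_right (by norm_num)).mp hlt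
  obtain ⟨K, hK, hYK⟩ := Sylow.exists_subgroup_card_pow_prime_le 2 (m := n - 1) (n := k)
    (by rw [hn]; exact pow_dvd_pow 2 (by omega)) Y hk (by omega)
  refine ⟨K, hYK, ?_⟩
  have h1 := K.card_mul_index
  rw [hK, hn] at h1
  obtain ⟨m, rfl⟩ : ∃ m, n = m + 1 := ⟨n - 1, by omega⟩
  simp only [Nat.add_sub_cancel, pow_succ] at h1
  exact Nat.eq_of_mul_eq_mul_left (by positivity) h1

theorem exists_index_four {X : Type*} [Group X] [Finite X] (h2 : IsPGroup 2 X)
    (hX : ¬ IsMulCommutative X) : ∃ A : Subgroup X, Subgroup.center X ≤ A ∧ (∀ x : X, x ^ 2 ∈ A) ∧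
      4 * Nat.card A ≤ Nat.card X := by
  have hc : Subgroup.center X ≠ ⊤ := by
    intro h
    apply hX
    rw [isMulCommutative_iff]
    intro a b
    have : a ∈ Subgroup.center X := h ▸ Subgroup.mem_top a
    exact (Subgroup.mem_center_iff.mp this b).symm
  obtain ⟨M₁, h1, hi1⟩ := exists_index_two h2 _ hc
  obtain ⟨x, hx⟩ : ∃ x, x ∉ M₁ := by
    by_contra h
    push Not at h
    have : M₁ = ⊤ := (Subgroup.eq_top_iff' M₁).mpr h
    rw [this] at hi1
    simp at hi1
  have hY : Subgroup.center X ⊔ Subgroup.zpowers x ≠ ⊤ := by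
    intro h
    have hle : Subgroup.center X ⊔ Subgroup.zpowers x ≤ Subgroup.centralizer {x} := by
      refine sup_le ?_ ?_
      · exact Subgroup.center_le_centralizer _
      · rw [Subgroup.zpowers_le]
        exact Subgroup.mem_centralizer_singleton_iff.mpr rfl
    rw [h] at hle
    have hxc : x ∈ Subgroup.center X := by
      rw [Subgroup.mem_center_iff]
      intro g
      have := hle (Subgroup.mem_top g)
      rw [Subgroup.mem_centralizer_singleton_iff] at this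
      exact this
    exact hx (h1 hxc)
  obtain ⟨M₂, h2', hi2⟩ := exists_index_two h2 _ hY
  refine ⟨M₁ ⊓ M₂, le_inf h1 (le_sup_left.trans h2'), fun y => ⟨?_, ?_⟩, ?_⟩
  · exact Subgroup.sq_mem_of_index_two hi1 y
  · exact Subgroup.sq_mem_of_index_two hi2 y
  · have hxM : x ∈ M₂ := h2' (le_sup_right (a := Subgroup.center X) (Subgroup.mem_zpowers x))
    have e1 := M₂.card_mul_index
    rw [hi2] at e1
    have e2 : Nat.card ↥(M₁ ⊓ M₂ : Subgroup X) * (M₁ ⊓ M₂).relIndex M₂ = Nat.card M₂ :=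
      card_mul_relIndex_le inf_le_right
    have e3 : (M₁ ⊓ M₂).relIndex M₂ ≠ 1 := by
      intro h
      rw [Subgroup.relIndex_eq_one] at h
      exact hx (h hxM).1
    have e4 : (M₁ ⊓ M₂).relIndex M₂ ≠ 0 := Subgroup.index_ne_zero_of_finite
    have e5 : 2 ≤ (M₁ ⊓ M₂).relIndex M₂ := by omega
    nlinarith

theorem mem_center_map {S : Type*} [Group S] (P : Subgroup S) (w : S) :
    w ∈ (Subgroup.center ↥P).map P.subtype ↔ w ∈ P ∧ ∀ x ∈ P, x * w = w * x := by
  constructor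
  · rintro ⟨⟨y, hy⟩, hyc, rfl⟩
    refine ⟨hy, fun x hx => ?_⟩
    have := Subgroup.mem_center_iff.mp hyc ⟨x, hx⟩
    exact congrArg Subtype.val this
  · rintro ⟨hw, h⟩
    refine ⟨⟨w, hw⟩, ?_, rfl⟩
    rw [SetLike.mem_coe, Subgroup.mem_center_iff]
    rintro ⟨x, hx⟩
    exact Subtype.ext (h x hx)

theorem center_two {S : Type*} [Group S] (P : Subgroup S)
    (hZ : Nat.card ↥(Subgroup.center ↥P) = 2) :
    ∃ z : S, z ≠ 1 ∧ ∀ w, w ∈ (Subgroup.center ↥P).map P.subtype ↔ w = 1 ∨ w = z := by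
  obtain ⟨b, hb, hu⟩ := (Nat.card_eq_two_iff' (1 : ↥(Subgroup.center ↥P))).mp hZ
  refine ⟨((b : ↥P) : S), ?_, fun w => ⟨?_, ?_⟩⟩
  · intro h
    apply hb
    ext
    simpa using h
  · rintro ⟨y, hy, rfl⟩
    by_cases h1 : (⟨y, hy⟩ : ↥(Subgroup.center ↥P)) = 1
    · left
      have := congrArg (fun t : ↥(Subgroup.center ↥P) => ((t : ↥P) : S)) h1
      simpa using this
    · right
      have := hu ⟨y, hy⟩ h1
      have := congrArg (fun t : ↥(Subgroup.center ↥P) => ((t : ↥P) : S)) this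
      simpa using this
  · rintro (rfl | rfl)
    · exact one_mem _
    · exact ⟨b, b.2, rfl⟩

theorem card_sup_of_commute {S : Type*} [Group S] (A B : Subgroup S)
    (hc : A ≤ Subgroup.centralizer (B : Set S)) (hd : A ⊓ B = ⊥) :
    Nat.card ↥(A ⊔ B) = Nat.card A * Nat.card B := by
  have h1 := Cfsg.Agent.Lib.Helper76SylowCount.relIndex_sup_of_le_normalizer A B
    (hc.trans (Subgroup.centralizer_le_normalizer _))
  have h2 := card_mul_relIndex_le (le_sup_right : B ≤ A ⊔ B)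
  rw [h1, ← Subgroup.inf_relIndex_right, inf_comm, hd, Subgroup.relIndex_bot_left] at h2
  rw [← h2, mul_comm]

theorem card_le_of_sq_mem {S : Type*} [Group S] [Finite S] (hr : Cfsg.SectionalPRankLE 2 4 S)
    (N H : Subgroup S) (hNH : N ≤ H) (hsq : ∀ h ∈ H, h ^ 2 ∈ N) :
    Nat.card H ≤ 16 * Nat.card N := by
  have hn : (N.subgroupOf H).Normal := by
    constructor
    rintro ⟨n, hnH⟩ hn ⟨h, hh⟩
    rw [Subgroup.mem_subgroupOf] at hn ⊢
    simp only [Subgroup.coe_mul, InvMemClass.coe_inv] at hn ⊢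
    have e : h * n * h⁻¹ = (h * n) ^ 2 * n⁻¹ * (h⁻¹) ^ 2 := by
      simp only [pow_two]; group
    rw [e]
    exact N.mul_mem (N.mul_mem (hsq _ (H.mul_mem hh hnH)) (N.inv_mem hn)) (hsq _ (H.inv_mem hh))
  have hexp : ∀ a : ↥H ⧸ N.subgroupOf H, a ^ 2 = 1 := by
    intro a
    induction a using QuotientGroup.induction_on with
    | H h =>
      rw [← QuotientGroup.mk_pow, QuotientGroup.eq_one_iff, Subgroup.mem_subgroupOf]
      simpa using hsq h h.2
  have hcomm : ∀ a b : ↥H ⧸ N.subgroupOf H, a * b = b * a := by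
    intro a b
    have ha : a⁻¹ = a := by rw [inv_eq_iff_mul_eq_one, ← pow_two]; exact hexp a
    have hb : b⁻¹ = b := by rw [inv_eq_iff_mul_eq_one, ← pow_two]; exact hexp b
    have hab : (a * b)⁻¹ = a * b := by rw [inv_eq_iff_mul_eq_one, ← pow_two]; exact hexp _
    rw [← hab, mul_inv_rev, ha, hb]
  have h := hr H (N.subgroupOf H) ⊤ (by
    rw [isMulCommutative_iff]
    intro a b
    exact Subtype.ext (hcomm a b)) (fun a _ => hexp a)
  rw [Nat.card_congr Subgroup.topEquiv.toEquiv] at h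
  have h3 : Nat.card (↥H ⧸ N.subgroupOf H) = N.relIndex H := rfl
  rw [h3] at h
  have h4 := card_mul_relIndex_le hNH
  rw [← h4]
  nlinarith

/-- Let S be a finite 2-group of sectional 2-rank at most 4, and let P and Q be normal non-abelian subgroups of S whose centres have order 2 and are different. Then P and Q commute elementwise and intersect trivially, and PQ contains its own centralizer in S. -/
theorem result {S : Type*} [Group S] [Finite S] (h2 : IsPGroup 2 S) (hr : Cfsg.SectionalPRankLE 2 4 S)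
    (P Q : Subgroup S) [P.Normal] [Q.Normal] (hP : ¬ IsMulCommutative ↥P) (hQ : ¬ IsMulCommutative ↥Q)
    (hZP : Nat.card ↥(Subgroup.center ↥P) = 2) (hZQ : Nat.card ↥(Subgroup.center ↥Q) = 2)
    (hne : (Subgroup.center ↥P).map P.subtype ≠ (Subgroup.center ↥Q).map Q.subtype) :
    ⁅P, Q⁆ = ⊥ ∧ P ⊓ Q = ⊥ ∧ Subgroup.centralizer ((P ⊔ Q : Subgroup S) : Set S) ≤ P ⊔ Q := by
  have : Fact (Nat.Prime 2) := ⟨Nat.prime_two⟩
  obtain ⟨zP, hzP1, hzP⟩ := center_two P hZP
  obtain ⟨zQ, hzQ1, hzQ⟩ := center_two Q hZQ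
  have key : ∀ (R : Subgroup S) [R.Normal] (z : S), z ≠ 1 →
      (∀ w, w ∈ (Subgroup.center ↥R).map R.subtype ↔ w = 1 ∨ w = z) → ∀ g : S, g * z * g⁻¹ = z := by
    intro R hR z hz1 hz g
    have hzm : z ∈ (Subgroup.center ↥R).map R.subtype := (hz z).mpr (Or.inr rfl)
    rw [mem_center_map] at hzm
    have hm : g * z * g⁻¹ ∈ (Subgroup.center ↥R).map R.subtype := by
      rw [mem_center_map]
      refine ⟨hR.conj_mem z hzm.1 g, fun x hx => ?_⟩
      have h1 := hzm.2 (g⁻¹ * x * g) (by simpa using hR.conj_mem x hx g⁻¹)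
      calc x * (g * z * g⁻¹) = g * ((g⁻¹ * x * g) * z) * g⁻¹ := by group
        _ = g * (z * (g⁻¹ * x * g)) * g⁻¹ := by rw [h1]
        _ = g * z * g⁻¹ * x := by group
    rcases (hz _).mp hm with h | h
    · exfalso
      apply hz1
      have e : z = g⁻¹ * (g * z * g⁻¹) * g := by group
      rw [e, h]
      group
    · exact h
  have hPQ : P ⊓ Q = ⊥ := by
    by_contra hne'
    have hN : ((P ⊓ Q).subgroupOf P) ≠ ⊥ := by
      intro h
      rw [Subgroup.subgroupOf_eq_bot, disjoint_iff] at h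
      apply hne'
      rw [← h]
      simp
    obtain ⟨z, hzN, hzc, hz1⟩ := Cfsg.Agent.Lib.Helper31PGroup.exists_center_mem_of_normal
      (h2.to_subgroup P) ((P ⊓ Q).subgroupOf P) hN
    have hzz : (z : S) = zP := by
      rcases (hzP z).mp ⟨z, hzc, rfl⟩ with h | h
      · exact absurd (Subtype.ext h) hz1
      · exact h
    have hzQ' : zP ∈ Q := by
      rw [← hzz]
      exact (Subgroup.mem_subgroupOf.mp hzN).2
    have h3 : zP ∈ (Subgroup.center ↥Q).map Q.subtype := by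
      rw [mem_center_map]
      refine ⟨hzQ', fun x _ => ?_⟩
      have := key P zP hzP1 hzP x
      rw [mul_inv_eq_iff_eq_mul] at this
      exact this
    have h4 : zP = zQ := by
      rcases (hzQ zP).mp h3 with h | h
      · exact absurd h hzP1
      · exact h
    apply hne
    ext w
    rw [hzP, hzQ, h4]
  have hcomm : ⁅P, Q⁆ = ⊥ := by
    rw [eq_bot_iff, ← hPQ]
    exact Subgroup.commutator_le_inf P Q
  refine ⟨hcomm, hPQ, ?_⟩
  have hcPQ : P ≤ Subgroup.centralizer (Q : Set S) := Subgroup.commutator_eq_bot_iff_le_centralizer.mp hcomm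
  have hpq : ∀ p ∈ P, ∀ q ∈ Q, p * q = q * p := by
    intro p hp q hq
    exact (Subgroup.mem_centralizer_iff.mp (hcPQ hp) q hq).symm
  intro c hc
  by_contra hcn
  obtain ⟨c', hc', hcn', hsq'⟩ : ∃ c' ∈ Subgroup.centralizer ((P ⊔ Q : Subgroup S) : Set S),
      c' ∉ P ⊔ Q ∧ c' ^ 2 ∈ P ⊔ Q := by
    obtain ⟨k, hk⟩ := h2 c
    have hex : ∃ i, c ^ (2 ^ i) ∈ P ⊔ Q := ⟨k, by rw [hk]; exact one_mem _⟩
    classical
    have hmin := @Nat.find_min _ _ hex
    have hspec := Nat.find_spec hex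
    have hi0 : Nat.find hex ≠ 0 := by
      intro h0
      rw [h0] at hspec
      simp only [pow_zero, pow_one] at hspec
      exact hcn hspec
    obtain ⟨j, hj⟩ : ∃ j, Nat.find hex = j + 1 := ⟨Nat.find hex - 1, by omega⟩
    refine ⟨c ^ (2 ^ j), Subgroup.pow_mem _ hc _, hmin (by omega), ?_⟩
    rw [← pow_mul, ← pow_succ, ← hj]
    exact hspec
  obtain ⟨A₀, hA1, hA2, hA3⟩ := exists_index_four (h2.to_subgroup P) hP
  obtain ⟨B₀, hB1, hB2, hB3⟩ := exists_index_four (h2.to_subgroup Q) hQ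
  have hAP : A₀.map P.subtype ≤ P := Subgroup.map_subtype_le A₀
  have hBQ : B₀.map Q.subtype ≤ Q := Subgroup.map_subtype_le B₀
  have hcA : Nat.card ↥(A₀.map P.subtype) = Nat.card A₀ :=
    Subgroup.card_map_of_injective P.subtype_injective
  have hcB : Nat.card ↥(B₀.map Q.subtype) = Nat.card B₀ :=
    Subgroup.card_map_of_injective Q.subtype_injective
  have hZA : (Subgroup.center ↥P).map P.subtype ≤ A₀.map P.subtype := Subgroup.map_mono hA1
  have hZB : (Subgroup.center ↥Q).map Q.subtype ≤ B₀.map Q.subtype := Subgroup.map_mono hB1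
  have hsqA : ∀ x ∈ P, x ^ 2 ∈ A₀.map P.subtype := fun x hx => ⟨⟨x, hx⟩ ^ 2, hA2 _, rfl⟩
  have hsqB : ∀ x ∈ Q, x ^ 2 ∈ B₀.map Q.subtype := fun x hx => ⟨⟨x, hx⟩ ^ 2, hB2 _, rfl⟩
  generalize A₀.map P.subtype = A at *
  generalize B₀.map Q.subtype = B at *
  have hdec : ∀ v ∈ P ⊔ Q, ∃ p ∈ P, ∃ q ∈ Q, p * q = v := by
    intro v hv
    rw [← SetLike.mem_coe, Subgroup.mul_normal] at hv
    exact Set.mem_mul.mp hv
  have hc2 : c' ^ 2 ∈ A ⊔ B := by
    obtain ⟨p, hp, q, hq, hpq'⟩ := hdec _ hsq'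
    have hcc : c' ^ 2 ∈ Subgroup.centralizer ((P ⊔ Q : Subgroup S) : Set S) :=
      Subgroup.pow_mem _ hc' 2
    have hpZ : p ∈ (Subgroup.center ↥P).map P.subtype := by
      rw [mem_center_map]
      refine ⟨hp, fun x hx => ?_⟩
      have h1 := Subgroup.mem_centralizer_iff.mp hcc x (le_sup_left (b := Q) hx)
      rw [← hpq'] at h1
      have h2 := hpq x hx q hq
      have : x * p * q = p * x * q := by rw [mul_assoc, h1, mul_assoc, mul_assoc, h2]
      exact mul_right_cancel this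
    have hqZ : q ∈ (Subgroup.center ↥Q).map Q.subtype := by
      rw [mem_center_map]
      refine ⟨hq, fun x hx => ?_⟩
      have h1 := Subgroup.mem_centralizer_iff.mp hcc x (le_sup_right (a := P) hx)
      rw [← hpq'] at h1
      have h2 := hpq p hp x hx
      have : p * (x * q) = p * (q * x) := by rw [← mul_assoc, h2, mul_assoc, h1, mul_assoc]
      exact mul_left_cancel this
    rw [← hpq']
    exact mul_mem (le_sup_left (b := B) (hZA hpZ)) (le_sup_right (a := A) (hZB hqZ))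
  have hNH : A ⊔ B ≤ Subgroup.zpowers c' ⊔ (P ⊔ Q) :=
    (sup_le_sup hAP hBQ).trans le_sup_right
  have hsqH : ∀ h ∈ Subgroup.zpowers c' ⊔ (P ⊔ Q), h ^ 2 ∈ A ⊔ B := by
    intro h hh
    rw [← SetLike.mem_coe, Subgroup.mul_normal] at hh
    obtain ⟨u, hu, v, hv, rfl⟩ := Set.mem_mul.mp hh
    obtain ⟨p, hp, q, hq, rfl⟩ := hdec v hv
    obtain ⟨n, rfl⟩ := Subgroup.mem_zpowers_iff.mp hu
    have hun : c' ^ n ∈ Subgroup.centralizer ((P ⊔ Q : Subgroup S) : Set S) :=
      Subgroup.zpow_mem _ hc' n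
    have hc1 : Commute (c' ^ n) (p * q) := (Subgroup.mem_centralizer_iff.mp hun _ hv).symm
    have hc3 : Commute p q := hpq p hp q hq
    rw [hc1.mul_pow, hc3.mul_pow]
    refine mul_mem ?_ (mul_mem (le_sup_left (b := B) (hsqA p hp)) (le_sup_right (a := A) (hsqB q hq)))
    have e : (c' ^ n) ^ 2 = (c' ^ 2) ^ n := by
      rw [← zpow_natCast, ← zpow_natCast, ← zpow_mul, ← zpow_mul, mul_comm]
    rw [e]
    exact Subgroup.zpow_mem _ hc2 n
  have h16 := card_le_of_sq_mem hr (A ⊔ B) _ hNH hsqH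
  have hcN : Nat.card ↥(A ⊔ B) = Nat.card A * Nat.card B :=
    card_sup_of_commute A B (hAP.trans (hcPQ.trans (Subgroup.centralizer_le hBQ)))
      (eq_bot_iff.mpr (hPQ ▸ inf_le_inf hAP hBQ))
  have hcPQ' : Nat.card ↥(P ⊔ Q) = Nat.card P * Nat.card Q := card_sup_of_commute P Q hcPQ hPQ
  have hH := card_mul_relIndex_le (le_sup_right : P ⊔ Q ≤ Subgroup.zpowers c' ⊔ (P ⊔ Q))
  have e3 : (P ⊔ Q).relIndex (Subgroup.zpowers c' ⊔ (P ⊔ Q)) ≠ 1 := by
    intro h
    rw [Subgroup.relIndex_eq_one] at h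
    exact hcn' (h (le_sup_left (b := P ⊔ Q) (Subgroup.mem_zpowers c')))
  have e4 : (P ⊔ Q).relIndex (Subgroup.zpowers c' ⊔ (P ⊔ Q)) ≠ 0 := Subgroup.index_ne_zero_of_finite
  have e5 : 2 ≤ (P ⊔ Q).relIndex (Subgroup.zpowers c' ⊔ (P ⊔ Q)) := by omega
  have hApos : 0 < Nat.card A := Nat.card_pos
  have hBpos : 0 < Nat.card B := Nat.card_pos
  rw [← hH, hcN, hcPQ'] at h16
  rw [← hcA] at hA3
  rw [← hcB] at hB3
  have h5 : 16 * (Nat.card A * Nat.card B) ≤ Nat.card P * Nat.card Q := by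
    calc 16 * (Nat.card A * Nat.card B) = (4 * Nat.card A) * (4 * Nat.card B) := by ring
      _ ≤ Nat.card P * Nat.card Q := Nat.mul_le_mul hA3 hB3
  have h6 : Nat.card P * Nat.card Q * 2 ≤ 16 * (Nat.card A * Nat.card B) :=
    (Nat.mul_le_mul_left _ e5).trans h16
  have h7 : 0 < Nat.card A * Nat.card B := Nat.mul_pos hApos hBpos
  omega

end Cfsg.Agent.S4400
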