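import Cfsg.Statements.S3201
import Cfsg.Agent.Lib.Helper76QuatQuot
import Cfsg.Agent.S4400

set_option autoImplicit false
open Cfsg

namespace Cfsg.Agent.S3201

open Subgroup Cfsg.Agent.Lib.Helper76FourGroup Cfsg.Agent.Lib.Helper76QuatQuot

theorem sq_mul {X : Type*} [Group X] (x y : X) : (x * y) ^ 2 = x * (y * x * y⁻¹) * y ^ 2 := by
  simp only [pow_two]; group

theorem core {S : Type*} [Group S] [Finite S] (hS : IsPGroup 2 S) {ι : Type*}
    (N : ι → Subgroup S) (hNZ : ∀ i, N i ≤ center S)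
    (hsq : ∀ i, ∀ z ∈ center S, z ^ 2 ∈ N i)
    (hmul : ∀ i, ∀ z ∈ center S, ∀ z' ∈ center S, z ∉ N i → z' ∉ N i → z * z'⁻¹ ∈ N i)
    (hne : ∀ i, ∃ z ∈ center S, z ∉ N i)
    (hint : ∀ z, (∀ i, z ∈ N i) → z = 1)
    (hq : ∀ i, ∃ (_ : (N i).Normal), ¬ IsMulCommutative (S ⧸ N i) ∧
      ∃! x : S ⧸ N i, orderOf x = 2) (i₀ : ι) :
    ∃ E Q : Subgroup S, Cfsg.IsInternalDirectProduct E Q ⊤ ∧ Cfsg.IsElementaryAbelian 2 E ∧
      ¬ IsMulCommutative ↥Q ∧ ∃! x : ↥Q, orderOf x = 2 := by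
  have hexp : ∀ z ∈ center S, z ^ 2 = 1 := fun z hz => hint _ (fun i => hsq i z hz)
  -- Lemma A
  have lemA : ∀ i, ∀ x : S, x ∉ center S → x ^ 2 ∉ N i := by
    intro i x hx hx2
    obtain ⟨hn, -, t, -, huniq⟩ := hq i
    obtain ⟨z', hz'Z, hz'N⟩ := hne i
    have o1 : orderOf (x : S ⧸ N i) = 2 := by
      apply orderOf_eq_prime
      · rw [← QuotientGroup.mk_pow, QuotientGroup.eq_one_iff]; exact hx2
      · rw [Ne, QuotientGroup.eq_one_iff]
        exact fun h => hx (hNZ i h)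
    have o2 : orderOf (z' : S ⧸ N i) = 2 := by
      apply orderOf_eq_prime
      · rw [← QuotientGroup.mk_pow, QuotientGroup.eq_one_iff]; exact hsq i z' hz'Z
      · rw [Ne, QuotientGroup.eq_one_iff]
        exact hz'N
    have e := (huniq _ o1).trans (huniq _ o2).symm
    rw [QuotientGroup.eq] at e
    have h1 := hNZ i e
    apply hx
    have := (center S).mul_mem hz'Z ((center S).inv_mem h1)
    simpa using this
  -- Lemma B
  have lemB : ∀ z ∈ center S, ∀ z' ∈ center S, (∀ i, z ∉ N i) → (∀ i, z' ∉ N i) → z = z' := by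
    intro z hz z' hz' h h'
    have := hint _ (fun i => hmul i z hz z' hz' (h i) (h' i))
    rwa [mul_inv_eq_one] at this
  obtain ⟨hn, hna, hu⟩ := hq i₀
  obtain ⟨k, ab, bb, hcard, hoa, hb, hb2, hc⟩ := quat_structure (hS.to_quotient _) hna hu
  obtain ⟨t, ht, huniq⟩ := hu
  obtain ⟨a, rfl⟩ := QuotientGroup.mk_surjective ab
  obtain ⟨b, rfl⟩ := QuotientGroup.mk_surjective bb
  have hAi : (zpowers (a : S ⧸ N i₀)).index = 2 := by
    have h1 := (zpowers (a : S ⧸ N i₀)).card_mul_index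
    rw [Nat.card_zpowers, hoa, hcard, pow_succ 2 (k + 2)] at h1
    exact Nat.eq_of_mul_eq_mul_left (by positivity) h1
  have oz : orderOf ((a : S ⧸ N i₀) ^ (2 ^ (k + 1))) = 2 := by
    rw [orderOf_pow_of_dvd (by positivity) (by rw [hoa]; exact pow_dvd_pow 2 (by omega)), hoa,
      pow_succ 2 (k + 1)]
    exact Nat.mul_div_cancel_left 2 (by positivity)
  have hzt := huniq _ oz
  -- membership in the centre through the quotient
  have memZ : ∀ s : S, (s : S ⧸ N i₀) = t → s ∈ center S := by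
    intro s hs
    obtain ⟨z', hz'Z, hz'N⟩ := hne i₀
    have o2 : orderOf (z' : S ⧸ N i₀) = 2 := by
      apply orderOf_eq_prime
      · rw [← QuotientGroup.mk_pow, QuotientGroup.eq_one_iff]; exact hsq i₀ z' hz'Z
      · rw [Ne, QuotientGroup.eq_one_iff]
        exact hz'N
    have e := hs.trans (huniq _ o2).symm
    rw [QuotientGroup.eq] at e
    have h1 := hNZ i₀ e
    have := (center S).mul_mem hz'Z ((center S).inv_mem h1)
    simpa using this
  have imZ : ∀ s ∈ center S, (s : S ⧸ N i₀) = 1 ∨ (s : S ⧸ N i₀) = t := by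
    intro s hs
    by_cases h : s ∈ N i₀
    · left; rwa [QuotientGroup.eq_one_iff]
    · right
      apply huniq
      apply orderOf_eq_prime
      · rw [← QuotientGroup.mk_pow, QuotientGroup.eq_one_iff]; exact hsq i₀ s hs
      · rwa [Ne, QuotientGroup.eq_one_iff]
  have imZ' : ∀ s ∈ center S, (s : S ⧸ N i₀) ∈ zpowers (a : S ⧸ N i₀) := by
    intro s hs
    rcases imZ s hs with h | h
    · rw [h]; exact one_mem _
    · rw [h, ← hzt]; exact Subgroup.pow_mem _ (mem_zpowers _) _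
  -- z₀
  have hz₀Z : a ^ (2 ^ (k + 1)) ∈ center S := memZ _ (by rw [QuotientGroup.mk_pow]; exact hzt)
  have hakZ : a ^ (2 ^ k) ∉ center S := by
    intro h
    have o4 : orderOf ((a : S ⧸ N i₀) ^ (2 ^ k)) = 4 := by
      rw [orderOf_pow_of_dvd (by positivity) (by rw [hoa]; exact pow_dvd_pow 2 (by omega)), hoa,
        pow_add]
      exact Nat.mul_div_cancel_left 4 (by positivity)
    rcases imZ _ h with h | h
    · rw [QuotientGroup.mk_pow] at h
      rw [h, orderOf_one] at o4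
      norm_num at o4
    · rw [QuotientGroup.mk_pow] at h
      rw [h, ht] at o4
      norm_num at o4
  have hz₀N : ∀ i, a ^ (2 ^ (k + 1)) ∉ N i := by
    intro i
    have := lemA i _ hakZ
    rwa [← pow_mul, ← pow_succ] at this
  have hbZ : b ∉ center S := fun h => hb (imZ' b h)
  have hb2' : b ^ 2 = a ^ (2 ^ (k + 1)) := by
    apply lemB _ (memZ _ (by rw [QuotientGroup.mk_pow, hb2]; exact hzt)) _ hz₀Z
      (fun i => lemA i b hbZ) hz₀N
  have habZ : a * b ∉ center S := by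
    intro h
    have := imZ' _ h
    rw [QuotientGroup.mk_mul] at this
    apply hb
    have h2 := (zpowers (a : S ⧸ N i₀)).mul_mem (inv_mem (mem_zpowers _)) this
    simpa using h2
  have hab2 : (a * b) ^ 2 = a ^ (2 ^ (k + 1)) := by
    apply lemB _ (memZ _ ?_) _ hz₀Z (fun i => lemA i _ habZ) hz₀N
    rw [QuotientGroup.mk_pow, QuotientGroup.mk_mul]
    rw [sq_mul, hc, mul_inv_cancel, one_mul, hb2]
    exact hzt
  have hc' : b * a * b⁻¹ = a⁻¹ := by
    rw [sq_mul, hb2'] at hab2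
    have h1 : a * (b * a * b⁻¹) = 1 := by simpa using hab2
    exact eq_inv_of_mul_eq_one_right h1
  have hoa' : orderOf a = 2 ^ (k + 2) := by
    apply Nat.dvd_antisymm
    · rw [orderOf_dvd_iff_pow_eq_one, pow_succ 2 (k + 1), pow_mul]
      exact hexp _ hz₀Z
    · rw [← hoa]
      exact orderOf_map_dvd (QuotientGroup.mk' (N i₀)) a
  have hc'' : b⁻¹ * a * b = a⁻¹ := by
    have : a = b⁻¹ * a⁻¹ * b := by rw [← hc']; group
    calc b⁻¹ * a * b = (b⁻¹ * a⁻¹ * b)⁻¹ := by group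
      _ = a⁻¹ := by rw [← this]
  have hbn : b ∈ normalizer (zpowers a : Set S) := by
    rw [Subgroup.mem_normalizer_iff]
    intro h
    constructor
    · intro hh
      obtain ⟨i, rfl⟩ := mem_zpowers_iff.mp hh
      rw [← conj_zpow, hc']
      exact zpow_mem (inv_mem (mem_zpowers a)) i
    · intro hh
      obtain ⟨i, hi⟩ := mem_zpowers_iff.mp hh
      have e : h = (b⁻¹ * a * b) ^ i := by
        have : b⁻¹ * a * b = b⁻¹ * a * b⁻¹⁻¹ := by group
        rw [this, conj_zpow, hi]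
        group
      rw [e, hc'']
      exact zpow_mem (inv_mem (mem_zpowers a)) i
  have hdich : ∀ x ∈ zpowers b, x ∈ zpowers a ∨ ∃ y ∈ zpowers a, x = b * y := by
    intro x hx
    obtain ⟨i, rfl⟩ := mem_zpowers_iff.mp hx
    have hb2a : b ^ 2 ∈ zpowers a := by rw [hb2']; exact Subgroup.pow_mem _ (mem_zpowers a) _
    rcases Int.even_or_odd' i with ⟨j, rfl | rfl⟩
    · left
      rw [zpow_mul, zpow_ofNat]
      exact zpow_mem hb2a j
    · right
      refine ⟨(b ^ 2) ^ j, zpow_mem hb2a j, ?_⟩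
      rw [zpow_add, zpow_mul, zpow_ofNat, zpow_one]
      exact ((Commute.refl b).pow_left 2).zpow_left j |>.eq
  have hQ : ∀ v ∈ zpowers b ⊔ zpowers a, v ∈ zpowers a ∨ ∃ y ∈ zpowers a, v = b * y := by
    intro v hv
    obtain ⟨x, hx, y, hy, rfl⟩ := exists_mul_of_mem_sup (zpowers b) (zpowers a) (by
      intro x hx y hy
      have hxn : x ∈ normalizer (zpowers a : Set S) := (zpowers_le.mpr hbn) hx
      exact (Subgroup.mem_normalizer_iff.mp hxn y).mp hy) v hv
    rcases hdich x hx with h | ⟨y', hy', rfl⟩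
    · left; exact mul_mem h hy
    · right; exact ⟨y' * y, mul_mem hy' hy, by group⟩
  have hinf : N i₀ ⊓ (zpowers b ⊔ zpowers a) = ⊥ := by
    rw [eq_bot_iff]
    rintro v ⟨hvN, hvQ⟩
    rw [Subgroup.mem_bot]
    have hv1 : (v : S ⧸ N i₀) = 1 := by rwa [QuotientGroup.eq_one_iff]
    rcases hQ v hvQ with h | ⟨y, hy, rfl⟩
    · obtain ⟨i, rfl⟩ := mem_zpowers_iff.mp h
      rw [QuotientGroup.mk_zpow, ← orderOf_dvd_iff_zpow_eq_one, hoa, ← hoa',
        orderOf_dvd_iff_zpow_eq_one] at hv1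
      exact hv1
    · exfalso
      obtain ⟨i, rfl⟩ := mem_zpowers_iff.mp hy
      rw [QuotientGroup.mk_mul, QuotientGroup.mk_zpow, mul_eq_one_iff_eq_inv] at hv1
      apply hb
      rw [hv1]
      exact inv_mem (zpow_mem (mem_zpowers _) i)
  have hsup : N i₀ ⊔ (zpowers b ⊔ zpowers a) = ⊤ := by
    rw [Subgroup.eq_top_iff']
    intro s
    have key : ∃ q ∈ zpowers b ⊔ zpowers a, (s : S ⧸ N i₀) = (q : S ⧸ N i₀) := by
      by_cases hs : (s : S ⧸ N i₀) ∈ zpowers (a : S ⧸ N i₀)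
      · obtain ⟨i, hi⟩ := mem_zpowers_iff.mp hs
        exact ⟨a ^ i, le_sup_right (a := zpowers b) (zpow_mem (mem_zpowers a) i), by
          rw [QuotientGroup.mk_zpow, hi]⟩
      · have h1 : (b : S ⧸ N i₀)⁻¹ * s ∈ zpowers (a : S ⧸ N i₀) := by
          rw [Subgroup.mul_mem_iff_of_index_two hAi, inv_mem_iff]
          exact iff_of_false hb hs
        obtain ⟨i, hi⟩ := mem_zpowers_iff.mp h1
        refine ⟨b * a ^ i, mul_mem (le_sup_left (b := zpowers a) (mem_zpowers b))
          (le_sup_right (a := zpowers b) (zpow_mem (mem_zpowers a) i)), ?_⟩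
        rw [QuotientGroup.mk_mul, QuotientGroup.mk_zpow, hi]
        group
    obtain ⟨q, hq, e⟩ := key
    rw [eq_comm, QuotientGroup.eq] at e
    have : s = q * (q⁻¹ * s) := by group
    rw [this]
    exact mul_mem (le_sup_right (a := N i₀) hq) (le_sup_left (b := zpowers b ⊔ zpowers a) e)
  have haQ : a ∈ zpowers b ⊔ zpowers a := le_sup_right (a := zpowers b) (mem_zpowers a)
  have hbQ : b ∈ zpowers b ⊔ zpowers a := le_sup_left (b := zpowers a) (mem_zpowers b)
  refine ⟨N i₀, zpowers b ⊔ zpowers a, ⟨le_top, le_top, ?_, hinf, hsup⟩, ⟨?_, ?_⟩, ?_, ?_⟩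
  · intro x hx y _
    exact (Subgroup.mem_center_iff.mp (hNZ i₀ hx) y).symm
  · rw [isMulCommutative_iff]
    rintro ⟨x, hx⟩ ⟨y, hy⟩
    exact Subtype.ext (Subgroup.mem_center_iff.mp (hNZ i₀ hx) y).symm
  · intro x hx
    exact hexp x (hNZ i₀ hx)
  · intro hcm
    have h1 := Cfsg.Agent.Lib.Helper79PGroup.comm_of_mem hcm hbQ haQ
    rw [h1, mul_assoc, mul_inv_cancel, mul_one, eq_inv_iff_mul_eq_one, ← pow_two,
      ← orderOf_dvd_iff_pow_eq_one, hoa'] at hc'
    have h2 := Nat.le_of_dvd (by norm_num) hc'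
    have : 2 ^ 2 ≤ 2 ^ (k + 2) := Nat.pow_le_pow_right (by norm_num) (by omega)
    omega
  · have hz₀Q : a ^ (2 ^ (k + 1)) ∈ zpowers b ⊔ zpowers a := Subgroup.pow_mem _ haQ _
    refine ⟨⟨a ^ (2 ^ (k + 1)), hz₀Q⟩, ?_, ?_⟩
    · change orderOf (⟨a ^ (2 ^ (k + 1)), hz₀Q⟩ : ↥(zpowers b ⊔ zpowers a)) = 2
      rw [← Subgroup.orderOf_coe]
      apply orderOf_eq_prime (hexp _ hz₀Z)
      intro h
      exact hz₀N i₀ (h ▸ one_mem _)
    · rintro ⟨y, hy⟩ hy2
      change orderOf (⟨y, hy⟩ : ↥(zpowers b ⊔ zpowers a)) = 2 at hy2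
      rw [← Subgroup.orderOf_coe] at hy2
      change orderOf y = 2 at hy2
      apply Subtype.ext
      change y = a ^ (2 ^ (k + 1))
      have hy1 : y ≠ 1 := by
        rintro rfl
        rw [orderOf_one] at hy2
        norm_num at hy2
      have o1 : orderOf (y : S ⧸ N i₀) = 2 := by
        apply orderOf_eq_prime
        · rw [← QuotientGroup.mk_pow, ← hy2, pow_orderOf_eq_one]; rfl
        · rw [Ne, QuotientGroup.eq_one_iff]
          intro h
          have : y ∈ N i₀ ⊓ (zpowers b ⊔ zpowers a) := ⟨h, hy⟩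
          rw [hinf, Subgroup.mem_bot] at this
          exact hy1 this
      have e := (huniq _ o1).trans hzt.symm
      rw [← QuotientGroup.mk_pow, QuotientGroup.eq] at e
      have : y⁻¹ * a ^ (2 ^ (k + 1)) ∈ N i₀ ⊓ (zpowers b ⊔ zpowers a) :=
        ⟨e, (zpowers b ⊔ zpowers a).mul_mem ((zpowers b ⊔ zpowers a).inv_mem hy) hz₀Q⟩
      rw [hinf, Subgroup.mem_bot, inv_mul_eq_one] at this
      exact this

/-- Let S be a finite 2-group whose centre Z(S) has n ≥ 2 distinct maximal subgroups C₁, …, Cₙ with trivial intersection such that each quotient S/Cᵢ is a non-abelian group with exactly one involution (a generalized quaternion group). Then S is the internal direct product of an elementary abelian subgroup and a non-abelian subgroup with exactly one involution. -/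
theorem result {S : Type*} [Group S] [Finite S]
    (hS : IsPGroup 2 S) (n : ℕ) (hn : 2 ≤ n) (C : Fin n → Subgroup ↥(Subgroup.center S))
    (hCmax : ∀ i, IsCoatom (C i)) (hCinj : Function.Injective C) (hCint : ⨅ i, C i = ⊥)
    (hCq : ∀ i, ∃ (_ : ((C i).map (Subgroup.center S).subtype).Normal),
      ¬ IsMulCommutative (S ⧸ (C i).map (Subgroup.center S).subtype) ∧
      ∃! x : S ⧸ (C i).map (Subgroup.center S).subtype, orderOf x = 2) :
    ∃ E Q : Subgroup S, Cfsg.IsInternalDirectProduct E Q ⊤ ∧ Cfsg.IsElementaryAbelian 2 E ∧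
      ¬ IsMulCommutative ↥Q ∧ ∃! x : ↥Q, orderOf x = 2 := by
  have hZ2 : IsPGroup 2 ↥(Subgroup.center S) := hS.to_subgroup _
  have hidx : ∀ i, (C i).index = 2 := by
    intro i
    obtain ⟨M, hM, hMi⟩ := Cfsg.Agent.S4400.exists_index_two hZ2 (C i) (hCmax i).1
    rcases eq_or_lt_of_le hM with h | h
    · rw [h]; exact hMi
    · have := (hCmax i).2 M h
      rw [this] at hMi
      simp at hMi
  have hmem : ∀ i, ∀ z (hz : z ∈ Subgroup.center S),
      z ∈ (C i).map (Subgroup.center S).subtype ↔ (⟨z, hz⟩ : ↥(Subgroup.center S)) ∈ C i := by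
    intro i z hz
    constructor
    · rintro ⟨w, hw, rfl⟩
      exact hw
    · intro h
      exact ⟨⟨z, hz⟩, h, rfl⟩
  refine core hS (fun i => (C i).map (Subgroup.center S).subtype) ?_ ?_ ?_ ?_ ?_ hCq ⟨0, by omega⟩
  · rintro i _ ⟨d, -, rfl⟩
    exact d.2
  · intro i z hz
    rw [hmem i _ (Subgroup.pow_mem _ hz 2)]
    exact Subgroup.sq_mem_of_index_two (hidx i) ⟨z, hz⟩
  · intro i z hz z' hz' h h'
    rw [hmem i z hz] at h
    rw [hmem i z' hz'] at h'
    rw [hmem i _ (mul_mem hz (inv_mem hz'))]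
    have : (⟨z, hz⟩ : ↥(Subgroup.center S)) * (⟨z', hz'⟩ : ↥(Subgroup.center S))⁻¹ ∈ C i := by
      rw [Subgroup.mul_mem_iff_of_index_two (hidx i), inv_mem_iff]
      exact iff_of_false h h'
    exact this
  · intro i
    by_contra h
    push Not at h
    apply (hCmax i).1
    rw [Subgroup.eq_top_iff']
    rintro ⟨z, hz⟩
    exact (hmem i z hz).mp (h z hz)
  · intro z hz
    have hzZ : z ∈ Subgroup.center S := by
      obtain ⟨d, -, rfl⟩ := hz ⟨0, by omega⟩
      exact d.2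
    have : (⟨z, hzZ⟩ : ↥(Subgroup.center S)) ∈ ⨅ i, C i := by
      rw [Subgroup.mem_iInf]
      intro i
      exact (hmem i z hzZ).mp (hz i)
    rw [hCint, Subgroup.mem_bot] at this
    exact congrArg Subtype.val this

end Cfsg.Agent.S3201
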