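import Cfsg.Statements.S3206
import Cfsg.Agent.Lib.Helper8JR1
import Cfsg.Agent.Lib.Helper8JR2

set_option autoImplicit false
open Cfsg

namespace Cfsg.Agent.S3206

open Cfsg.Agent.Lib.Helper8JR1 Cfsg.Agent.Lib.Helper8JR2 Cfsg.Agent.Lib.Helper8Fus
open scoped commutatorElement

/-- Let G be a non-abelian finite simple group with abelian Sylow 2-subgroups, and let t be an involution of G whose centralizer is a maximal subgroup of G and is the direct product of the subgroup generated by t with a subgroup E having a normal subgroup isomorphic to PSL(2, q), q odd and greater than 3, with trivial centralizer in E. Then every finite perfect group having a central 2-subgroup with quotient isomorphic to G has that central subgroup trivial (G has no nontrivial perfect central extension by a 2-group), and every automorphism of G of 2-power order that fixes every element of some Sylow 2-subgroup of G is inner. -/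
theorem result {G : Type*} [Group G] [Finite G] [IsSimpleGroup G]
    (hG : ¬ IsMulCommutative G) (hab : ∀ S : Sylow 2 G, IsMulCommutative ↥(S : Subgroup G))
    (t : G) (ht : orderOf t = 2) (hmax : IsCoatom (Subgroup.centralizer ({t} : Set G)))
    (E : Subgroup G) (hE : Cfsg.IsInternalDirectProduct (Subgroup.zpowers t) E (Subgroup.centralizer ({t} : Set G)))
    {F : Type*} [Field F] [Fintype F] (hFo : Odd (Fintype.card F)) (hF3 : 3 < Fintype.card F)
    (N : Subgroup ↥E) [N.Normal] (hN : Nonempty (↥N ≃* Matrix.ProjectiveSpecialLinearGroup (Fin 2) F))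
    (hNc : Subgroup.centralizer (N : Set ↥E) = ⊥) :
    (∀ (L : Type) (_ : Group L) (_ : Finite L) (Z : Subgroup L) (_ : Z.Normal), commutator L = ⊤ → Z ≤ Subgroup.center L →
        IsPGroup 2 ↥Z → Nonempty (L ⧸ Z ≃* G) → Z = ⊥) ∧
    (∀ (φ : G ≃* G) (k : ℕ), φ ^ (2 ^ k) = 1 → (∃ S : Sylow 2 G, ∀ s ∈ (S : Subgroup G), φ s = s) →
        ∃ g : G, ∀ x : G, φ x = g * x * g⁻¹) := by
  obtain ⟨hE1, hE2, hE3, hE4, hE5⟩ := hE
  obtain ⟨ψ⟩ := hN
  have ht1 : t ≠ 1 := by
    intro h; rw [h, orderOf_one] at ht; omega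
  have htt : t * t = 1 := by
    rw [← pow_two, ← ht]; exact pow_orderOf_eq_one t
  have hz2 : ∀ a ∈ Subgroup.zpowers t, a = 1 ∨ a = t := by
    rintro _ ⟨j, rfl⟩
    rcases Int.even_or_odd' j with ⟨i, rfl | rfl⟩
    · left
      show t ^ (2 * i) = 1
      rw [zpow_mul, zpow_two, htt, one_zpow]
    · right
      show t ^ (2 * i + 1) = t
      rw [zpow_add, zpow_mul, zpow_two, htt, one_zpow, one_mul, zpow_one]
  have hperf : commutator G = ⊤ := by
    rcases IsSimpleGroup.eq_bot_or_eq_top_of_normal (commutator G) inferInstance with h | h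
    · exfalso
      apply hG
      refine ⟨⟨fun a b => ?_⟩⟩
      have : ⁅a, b⁆ ∈ commutator G :=
        Subgroup.commutator_mem_commutator (Subgroup.mem_top a) (Subgroup.mem_top b)
      rw [h, Subgroup.mem_bot, commutatorElement_eq_one_iff_mul_comm] at this
      exact this
    · exact h
  obtain ⟨ι, hιdef⟩ : ∃ ι : ↥N →* G, ι = E.subtype.comp N.subtype := ⟨_, rfl⟩
  have hιv : ∀ m : ↥N, ι m = ((m : ↥E) : G) := fun m => by rw [hιdef]; rfl
  have hι : Function.Injective ι := by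
    rw [hιdef]; exact Subtype.val_injective.comp Subtype.val_injective
  have hιE : ∀ m, ι m ∈ E := fun m => by rw [hιv]; exact m.1.2
  have hq8 := mod8 hab (ι.comp ψ.symm.toMonoidHom) (hι.comp ψ.symm.injective) hFo
  have hdec : ∀ c, c * t = t * c → ∃ a ∈ Subgroup.zpowers t, ∃ e ∈ E, c = a * e := by
    intro c hc
    have hcC : c ∈ Subgroup.zpowers t ⊔ E := by
      rw [hE5, Subgroup.mem_centralizer_singleton_iff]; exact hc
    have hr := MonoidHom.noncommCoprod_range (Subgroup.zpowers t).subtype E.subtype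
      (fun a e => hE3 a a.2 e e.2)
    rw [Subgroup.range_subtype, Subgroup.range_subtype] at hr
    rw [← hr] at hcC
    obtain ⟨⟨a, e⟩, hae⟩ := hcC
    exact ⟨a, a.2, e, e.2, hae.symm⟩
  have hMC : ∀ m, ι m * t = t * ι m := fun m =>
    (hE3 t (Subgroup.mem_zpowers t) _ (hιE m)).symm
  have htE : ∀ a ∈ Subgroup.zpowers t, a ∈ E → a = 1 := by
    intro a h1 h2
    have : a ∈ Subgroup.zpowers t ⊓ E := ⟨h1, h2⟩
    rwa [hE4] at this
  obtain ⟨P₁⟩ := (inferInstance : Nonempty (Sylow 2 (Matrix.ProjectiveSpecialLinearGroup (Fin 2) F)))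
  have hKl := Cfsg.Agent.S0276.result (F := F) rfl hq8 P₁
  obtain ⟨P₀, hP₀def⟩ : ∃ P₀ : Sylow 2 ↥N, P₀ = P₁.comapOfInjective ψ.toMonoidHom ψ.injective
      (by rw [MonoidHom.range_eq_top.2 ψ.surjective]; exact le_top) := ⟨_, rfl⟩
  have hP₀ : ∀ m, m ∈ P₀ ↔ ψ m ∈ P₁ := by
    intro m
    rw [hP₀def]
    exact Iff.rfl
  have hP1sq : ∀ z ∈ P₁, z * z = 1 := fun z hz =>
    congrArg Subtype.val (IsKleinFour.mul_self (⟨z, hz⟩ : ↥(P₁ : Subgroup _)))
  have hP0sq : ∀ m : ↥N, ψ m ∈ P₁ → m * m = 1 := by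
    intro m hm
    apply ψ.injective
    rw [map_mul, hP1sq _ hm, map_one]
  -- the Sylow subgroup
  have hV2 : IsPGroup 2 ↥((P₀ : Subgroup ↥N).map ι) := P₀.2.map ι
  have hT2 : IsPGroup 2 ↥(Subgroup.zpowers t) := by
    rintro ⟨a, ha⟩
    refine ⟨1, Subtype.ext ?_⟩
    show a ^ 2 ^ 1 = 1
    rcases hz2 a ha with rfl | rfl
    · simp
    · rw [pow_one, pow_two, htt]
  have hnorm : Subgroup.zpowers t ≤ Subgroup.normalizer (((P₀ : Subgroup ↥N).map ι : Subgroup G) : Set G) := by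
    refine le_trans ?_ (Subgroup.centralizer_le_normalizer _)
    rw [Subgroup.zpowers_le, Subgroup.mem_centralizer_iff]
    rintro _ ⟨m, _, rfl⟩
    exact hMC m
  obtain ⟨S, hS⟩ := (IsPGroup.to_sup_of_normal_right' hT2 hV2 hnorm).exists_le_sylow
  have htS : t ∈ S := hS (Subgroup.mem_sup_left (Subgroup.mem_zpowers t))
  have hVS : ∀ m, ψ m ∈ P₁ → ι m ∈ S := fun m hm =>
    hS (Subgroup.mem_sup_right ⟨m, (hP₀ m).2 hm, rfl⟩)
  have hcommS : ∀ x ∈ S, ∀ y ∈ S, x * y = y * x := fun x hx y hy =>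
    congrArg Subtype.val ((hab S).is_comm.comm ⟨x, hx⟩ ⟨y, hy⟩)
  have hcen : ∀ e : ↥E, (∀ n : ↥N, e * (n : ↥E) = (n : ↥E) * e) → e = 1 := by
    intro e he
    have : e ∈ Subgroup.centralizer (N : Set ↥E) := by
      rw [Subgroup.mem_centralizer_iff]
      intro n hn
      exact (he ⟨n, hn⟩).symm
    rwa [hNc] at this
  have hSE : ∀ s ∈ S, ∃ a ∈ Subgroup.zpowers t, ∃ v : ↥N, ψ v ∈ P₁ ∧ s = a * ι v := by
    intro s hs
    obtain ⟨a, ha, e, he, rfl⟩ := hdec s (hcommS s hs t htS)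
    have haS : a ∈ S := (Subgroup.zpowers_le.2 htS) ha
    have heS : e ∈ S := by
      have := S.mul_mem (S.inv_mem haS) hs
      rwa [inv_mul_cancel_left] at this
    obtain ⟨k, hk⟩ := S.2 ⟨e, heS⟩
    have hk' : e ^ 2 ^ k = 1 := congrArg Subtype.val hk
    obtain ⟨β, hβdef⟩ : ∃ β : MulAut ↥N, β = MulAut.conjNormal (⟨e, he⟩ : ↥E) := ⟨_, rfl⟩
    have hβv : ∀ m : ↥N, ι (β m) = e * ι m * e⁻¹ := by
      intro m
      rw [hιv, hιv, hβdef, MulAut.conjNormal_apply]
      rfl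
    have hβ : β ^ (2 ^ k) = 1 := by
      rw [hβdef, ← map_pow]
      have : (⟨e, he⟩ : ↥E) ^ 2 ^ k = 1 := Subtype.ext hk'
      rw [this, map_one]
    obtain ⟨v, hv, hvm⟩ := lemK' hq8 ψ P₁ β k hβ (by
      intro m hm
      apply hι
      rw [hβv, hcommS e heS _ (hVS m hm), mul_inv_cancel_right])
    refine ⟨a, ha, v, hv, ?_⟩
    have h1 : (v : ↥E)⁻¹ * ⟨e, he⟩ = 1 := by
      apply hcen
      intro n
      apply Subtype.ext
      have h2 := hβv n
      rw [hvm, map_mul, map_mul, map_inv, hιv, hιv] at h2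
      show ((v : ↥E) : G)⁻¹ * e * ((n : ↥E) : G) = ((n : ↥E) : G) * (((v : ↥E) : G)⁻¹ * e)
      calc ((v : ↥E) : G)⁻¹ * e * ((n : ↥E) : G)
          = ((v : ↥E) : G)⁻¹ * (e * ((n : ↥E) : G) * e⁻¹) * e := by group
        _ = _ := by rw [← h2]; group
    have h3 : (⟨e, he⟩ : ↥E) = (v : ↥E) := (inv_mul_eq_one.1 h1).symm
    rw [hιv, ← h3]
  have hSd : ∀ s ∈ S, (∃ m, ι m = s) ∨ (∃ m, ι m = t * s) := by
    intro s hs
    obtain ⟨a, ha, v, _, rfl⟩ := hSE s hs
    rcases hz2 a ha with rfl | rfl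
    · left; exact ⟨v, by rw [one_mul]⟩
    · right; exact ⟨v, by rw [← mul_assoc, htt, one_mul]⟩
  have hexp : ∀ x ∈ S, x * x = 1 := by
    intro s hs
    obtain ⟨a, ha, v, hv, rfl⟩ := hSE s hs
    have h1 : ι v * ι v = 1 := by rw [← map_mul, hP0sq v hv, map_one]
    have h2 : a * a = 1 := by
      rcases hz2 a ha with rfl | rfl
      · simp
      · exact htt
    have h3 : a * ι v = ι v * a := hE3 a ha _ (hιE v)
    calc a * ι v * (a * ι v) = a * (ι v * a) * ι v := by group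
      _ = (a * a) * (ι v * ι v) := by rw [← h3]; group
      _ = 1 := by rw [h1, h2, one_mul]
  have hmemP : ∀ v : ↥N, ι v ∈ S → ψ v ∈ P₁ := by
    intro v hv
    obtain ⟨a, ha, v', hv', h⟩ := hSE _ hv
    have h1 : a = ι (v * v'⁻¹) := by
      rw [map_mul, map_inv, h, mul_inv_cancel_right]
    have h2 : a = 1 := htE a ha (h1 ▸ hιE _)
    rw [h2, one_mul] at h
    rw [hι h]; exact hv'
  have h8 : Nat.card S = 8 := by
    let f : Fin 2 × ↥(P₁ : Subgroup _) → ↥(S : Subgroup G) := fun x =>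
      ⟨(if x.1 = 0 then 1 else t) * ι (ψ.symm x.2), S.mul_mem (by
        split_ifs
        · exact S.one_mem
        · exact htS) (hVS _ (by rw [ψ.apply_symm_apply]; exact x.2.2))⟩
    have hf : Function.Bijective f := by
      constructor
      · rintro ⟨i, x⟩ ⟨j, y⟩ h
        have h1 : (if i = 0 then 1 else t) * ι (ψ.symm x) = (if j = 0 then 1 else t) * ι (ψ.symm y) :=
          congrArg Subtype.val h
        have h2 : ((if j = 0 then 1 else t) : G)⁻¹ * (if i = 0 then 1 else t)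
            = ι (ψ.symm y * (ψ.symm x)⁻¹) := by
          rw [map_mul, map_inv, eq_mul_inv_iff_mul_eq, mul_assoc, h1, inv_mul_cancel_left]
        have hz : ∀ i : Fin 2, ((if i = 0 then 1 else t) : G) ∈ Subgroup.zpowers t := by
          intro i
          split_ifs
          · exact Subgroup.one_mem _
          · exact Subgroup.mem_zpowers t
        have h3 := htE _ (Subgroup.mul_mem _ (Subgroup.inv_mem _ (hz j)) (hz i)) (h2 ▸ hιE _)
        have h4 : ((if i = 0 then 1 else t) : G) = (if j = 0 then 1 else t) :=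
          (inv_mul_eq_one.1 h3).symm
        have h5 : i = j := by
          fin_cases i <;> fin_cases j
          · rfl
          · exfalso; simp at h4; exact ht1 h4.symm
          · exfalso; simp at h4; exact ht1 h4
          · rfl
        rw [h4] at h1
        have h6 := ψ.symm.injective (hι (mul_left_cancel h1))
        rw [h5, Subtype.ext h6]
      · rintro ⟨s, hs⟩
        obtain ⟨a, ha, v, hv, rfl⟩ := hSE s hs
        rcases hz2 a ha with rfl | rfl
        · exact ⟨⟨0, ⟨ψ v, hv⟩⟩, Subtype.ext (by simp [f])⟩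
        · exact ⟨⟨1, ⟨ψ v, hv⟩⟩, Subtype.ext (by simp [f])⟩
    rw [← Nat.card_congr (Equiv.ofBijective f hf), Nat.card_prod, Nat.card_fin]
    have : Nat.card ↥(P₁ : Subgroup (Matrix.ProjectiveSpecialLinearGroup (Fin 2) F)) = 4 :=
      IsKleinFour.card_four
    rw [this]
  have hMn : ∀ c, c * t = t * c → ∀ m, ∃ m', c * ι m * c⁻¹ = ι m' := by
    intro c hc m
    obtain ⟨a, ha, e, he, rfl⟩ := hdec c hc
    refine ⟨MulAut.conjNormal (⟨e, he⟩ : ↥E) m, ?_⟩
    have h1 : ι (MulAut.conjNormal (⟨e, he⟩ : ↥E) m) = e * ι m * e⁻¹ := by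
      rw [hιv, hιv, MulAut.conjNormal_apply]
      rfl
    have h2 := hE3 a ha _ (h1 ▸ hιE _)
    calc a * e * ι m * (a * e)⁻¹ = a * (e * ι m * e⁻¹) * a⁻¹ := by group
      _ = _ := by rw [h2, mul_inv_cancel_right, h1]
  have hCM : ∀ c, c * t = t * c → (∀ m, c * ι m = ι m * c) → c = 1 ∨ c = t := by
    intro c hc hcm
    obtain ⟨a, ha, e, he, rfl⟩ := hdec c hc
    have h1 : (⟨e, he⟩ : ↥E) = 1 := by
      apply hcen
      intro n
      apply Subtype.ext
      show e * ((n : ↥E) : G) = ((n : ↥E) : G) * e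
      have h2 := hcm n
      rw [← hιv]
      have h3 := hE3 a ha _ (hιE n)
      rw [← mul_assoc, ← h3, mul_assoc, mul_assoc] at h2
      exact mul_left_cancel h2
    have h2 : e = 1 := congrArg Subtype.val h1
    rw [h2, mul_one]
    exact hz2 a ha
  have hs : IsSimpleGroup (Matrix.ProjectiveSpecialLinearGroup (Fin 2) F) :=
    Matrix.ProjectiveSpecialLinearGroup.rank_two_simple (by rw [Nat.card_eq_fintype_card]; omega)
  have hsimple : IsSimpleGroup ↥N := ψ.isSimpleGroup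
  obtain ⟨x₀, _, hx₀, _, _, _⟩ :=
    klein_elems (H := ↥(P₁ : Subgroup (Matrix.ProjectiveSpecialLinearGroup (Fin 2) F)))
  obtain ⟨v₀, hv₀def⟩ : ∃ v₀ : ↥N, v₀ = ψ.symm x₀ := ⟨_, rfl⟩
  have hv₀P : ψ v₀ ∈ P₁ := by rw [hv₀def, ψ.apply_symm_apply]; exact x₀.2
  have hv₀1 : v₀ ≠ 1 := by
    intro h
    apply hx₀
    apply Subtype.ext
    have := congrArg ψ h
    rwa [hv₀def, ψ.apply_symm_apply, map_one] at this
  have hMp : commutator ↥N = ⊤ := by
    rcases hsimple.eq_bot_or_eq_top_of_normal (commutator ↥N) inferInstance with h | h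
    · exfalso
      apply hv₀1
      have h1 : (v₀ : ↥E) = 1 := by
        apply hcen
        intro n
        have : ⁅v₀, n⁆ ∈ commutator ↥N :=
          Subgroup.commutator_mem_commutator (Subgroup.mem_top _) (Subgroup.mem_top _)
        rw [h, Subgroup.mem_bot, commutatorElement_eq_one_iff_mul_comm] at this
        exact congrArg Subtype.val this
      exact Subtype.ext h1
    · exact h
  have hconj : ∀ n ∈ Subgroup.normalizer ((P₀ : Subgroup ↥N) : Set ↥N), ∀ s ∈ S,
      ι n * s * (ι n)⁻¹ ∈ S := by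
    intro n hn s hs
    obtain ⟨a, ha, v, hv, rfl⟩ := hSE s hs
    have h1 : n * v * n⁻¹ ∈ P₀ := (Subgroup.mem_normalizer_iff.1 hn v).1 ((hP₀ v).2 hv)
    have h2 := hE3 a ha _ (hιE n)
    have h3 : ι n * (a * ι v) * (ι n)⁻¹ = a * ι (n * v * n⁻¹) := by
      rw [map_mul, map_mul, map_inv, ← mul_assoc, ← h2]
      group
    rw [h3]
    exact S.mul_mem ((Subgroup.zpowers_le.2 htS) ha) (hVS _ ((hP₀ _).1 h1))
  have hmove : ∀ v, ι v ∈ S → v ≠ 1 → ∃ n, (∀ s ∈ S, ι n * s * (ι n)⁻¹ ∈ S) ∧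
      (∀ s ∈ S, (ι n)⁻¹ * s * ι n ∈ S) ∧ n * v ≠ v * n := by
    intro v hv hv1
    have hc0 : IsMulCommutative (P₀ : Subgroup ↥N) :=
      ⟨⟨fun x y => Subtype.ext (comm_of_exp (P₀ : Subgroup ↥N)
        (fun z hz => hP0sq z ((hP₀ z).1 hz)) x x.2 y y.2)⟩⟩
    obtain ⟨n, hn, hnv⟩ := exists_moving hMp P₀ v ((hP₀ v).2 (hmemP v hv)) hv1
    refine ⟨n, hconj n hn, ?_, ?_⟩
    · intro s hs
      have := hconj n⁻¹ (Subgroup.inv_mem _ hn) s hs
      rwa [map_inv, inv_inv] at this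
    · intro h
      apply hnv
      rw [mul_assoc, ← h, inv_mul_cancel_left]
  have hK : ∀ (β : MulAut ↥N) (k : ℕ), β ^ (2 ^ k) = 1 → (∀ x, ι x ∈ S → β x = x) →
      ∃ v, ι v ∈ S ∧ ∀ x, β x = v * x * v⁻¹ := by
    intro β k hβ hfix
    obtain ⟨v, hv, h⟩ := lemK' hq8 ψ P₁ β k hβ (fun m hm => hfix m (hVS m hm))
    exact ⟨v, hVS v hv, h⟩
  constructor
  · intro L _ _ Z _ hLp hZc hZ2 ⟨e⟩
    obtain ⟨σ, hσ⟩ : ∃ σ : L →* G, σ = e.toMonoidHom.comp (QuotientGroup.mk' Z) := ⟨_, rfl⟩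
    have hsurj : Function.Surjective σ := by
      rw [hσ]; exact e.surjective.comp (QuotientGroup.mk'_surjective Z)
    have hker : σ.ker = Z := by
      ext x
      rw [MonoidHom.mem_ker, hσ]
      show e (QuotientGroup.mk x) = 1 ↔ _
      rw [MulEquiv.map_eq_one_iff, QuotientGroup.eq_one_iff]
    have := coreA hperf S h8 hexp t htS ht1 ι hMC hMp hSd σ hsurj (hker ▸ hZc) hLp (hker ▸ hZ2)
    rwa [hker] at this
  · intro φ k hφ ⟨S', hS'⟩
    obtain ⟨g, hg⟩ := MulAction.exists_smul_eq G S S'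
    have hgS : ∀ s ∈ S, g * s * g⁻¹ ∈ S' := by
      intro s hs
      rw [← hg]
      exact Subgroup.smul_mem_pointwise_smul s (MulAut.conj g) (S : Subgroup G) hs
    obtain ⟨φ', hφ'⟩ : ∃ φ' : MulAut G, φ' = (MulAut.conj g)⁻¹ * φ * ((MulAut.conj g)⁻¹)⁻¹ := ⟨_, rfl⟩
    have hφv : ∀ x, φ' x = g⁻¹ * φ (g * x * g⁻¹) * g := by
      intro x
      rw [hφ', inv_inv]
      rfl
    obtain ⟨h, hh⟩ := coreB hperf S h8 hexp t htS ht1 ι hι hMC hMn hCM hSd hK hsimple v₀
      (hVS v₀ hv₀P) hv₀1 hmove hmax φ' k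
      (by rw [hφ', conj_pow, hφ, mul_one, mul_inv_cancel])
      (by
        intro s hs
        rw [hφv, hS' _ (hgS s hs)]
        group)
    refine ⟨g * h * g⁻¹, fun x => ?_⟩
    have h1 := hh (g⁻¹ * x * g)
    rw [hφv] at h1
    have e1 : g * (g⁻¹ * x * g) * g⁻¹ = x := by group
    rw [e1] at h1
    calc φ x = g * (g⁻¹ * φ x * g) * g⁻¹ := by group
      _ = _ := by rw [h1]; group

end Cfsg.Agent.S3206
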