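import Cfsg.Statements.S3210
import Mathlib
import Cfsg.Agent.Lib.Helper41Central

set_option autoImplicit false
open Cfsg

namespace Cfsg.Agent.S3210

/-- Let G be a finite group with subgroups L₁ ≅ SL₂(q₁) and L₂ ≅ SL₂(q₂), q₁ and q₂ odd prime powers, which commute elementwise and meet in ⟨j⟩ for an involution j, and suppose L₁L₂ has index 2 in C_G(j). Then every element n of C_G(j) outside L₁L₂ either normalizes both L₁ and L₂, or conjugates L₁ onto L₂; in the second case q₁ = q₂ and there is an element n′ of C_G(j) outside L₁L₂ conjugating L₁ onto L₂ with n′² ∈ ⟨j⟩. -/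
theorem result {G : Type*} [Group G] [Finite G]
    {F₁ : Type*} [Field F₁] [Fintype F₁] {F₂ : Type*} [Field F₂] [Fintype F₂]
    (hF₁ : Odd (Fintype.card F₁)) (hF₂ : Odd (Fintype.card F₂)) (L₁ L₂ : Subgroup G)
    (e₁ : ↥L₁ ≃* Matrix.SpecialLinearGroup (Fin 2) F₁) (e₂ : ↥L₂ ≃* Matrix.SpecialLinearGroup (Fin 2) F₂)
    (hc : ∀ x ∈ L₁, ∀ y ∈ L₂, x * y = y * x) (j : G) (hj : orderOf j = 2) (hm : L₁ ⊓ L₂ = Subgroup.zpowers j)
    (hle : L₁ ⊔ L₂ ≤ Subgroup.centralizer ({j} : Set G)) (hi : (L₁ ⊔ L₂).relIndex (Subgroup.centralizer ({j} : Set G)) = 2) (n : G) (hn : n ∈ Subgroup.centralizer ({j} : Set G)) (hn' : n ∉ L₁ ⊔ L₂) :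
    (L₁.map (MulAut.conj n).toMonoidHom = L₁ ∧ L₂.map (MulAut.conj n).toMonoidHom = L₂) ∨
      (L₁.map (MulAut.conj n).toMonoidHom = L₂ ∧ Fintype.card F₁ = Fintype.card F₂ ∧
        ∃ n' ∈ Subgroup.centralizer ({j} : Set G), n' ∉ L₁ ⊔ L₂ ∧ L₁.map (MulAut.conj n').toMonoidHom = L₂ ∧ n' ^ 2 ∈ Subgroup.zpowers j) := by
  have hg1 := Cfsg.Agent.Lib.Helper41Central.good_of_equiv hF₁ hF₂ e₁ e₂ hc hj hm
  have hnorm : ((L₁ ⊔ L₂).subgroupOf (Subgroup.centralizer ({j} : Set G))).Normal :=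
    Subgroup.normal_of_index_eq_two hi
  have hconj : ∀ c ∈ Subgroup.centralizer ({j} : Set G), ∀ x ∈ L₁ ⊔ L₂, c * x * c⁻¹ ∈ L₁ ⊔ L₂ := by
    intro c hcC x hx
    have := hnorm.conj_mem ⟨x, hle hx⟩ (Subgroup.mem_subgroupOf.mpr hx) ⟨c, hcC⟩
    exact Subgroup.mem_subgroupOf.mp this
  have hmapL : (L₁ ⊔ L₂).map (MulAut.conj n).toMonoidHom = L₁ ⊔ L₂ := by
    apply le_antisymm
    · rintro _ ⟨x, hx, rfl⟩
      exact hconj n hn x hx
    · intro x hx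
      refine ⟨n⁻¹ * x * n, ?_, ?_⟩
      · have := hconj n⁻¹ (inv_mem hn) x hx
        rwa [inv_inv] at this
      · change n * (n⁻¹ * x * n) * n⁻¹ = x
        group
  have hnj : n * j * n⁻¹ = j := by
    have := Subgroup.mem_centralizer_singleton_iff.mp hn
    rw [this, mul_inv_cancel_right]
  have hinj : Function.Injective (MulAut.conj n).toMonoidHom := (MulAut.conj n).injective
  have hg2 : Cfsg.Agent.Lib.Helper41Central.Good j (L₁.map (MulAut.conj n).toMonoidHom)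
      (L₂.map (MulAut.conj n).toMonoidHom) := by
    refine Cfsg.Agent.Lib.Helper41Central.good_of_equiv hF₁ hF₂
      ((L₁.equivMapOfInjective _ hinj).symm.trans e₁) ((L₂.equivMapOfInjective _ hinj).symm.trans e₂)
      ?_ hj ?_
    · rintro _ ⟨x, hx, rfl⟩ _ ⟨y, hy, rfl⟩
      rw [← map_mul, hc x hx y hy, map_mul]
    · rw [← Subgroup.map_inf _ _ _ hinj, hm, MonoidHom.map_zpowers]
      congr 1
  have hsup : L₁ ⊔ L₂ = L₁.map (MulAut.conj n).toMonoidHom ⊔ L₂.map (MulAut.conj n).toMonoidHom := by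
    rw [← Subgroup.map_sup, hmapL]
  rcases Cfsg.Agent.Lib.Helper41Central.good_unique hg1 hg2 hsup with h | ⟨hA, hB⟩
  · exact Or.inl h
  right
  refine ⟨hA, ?_, ?_⟩
  · apply Cfsg.Agent.Lib.Helper41Central.card_inj Fintype.card_pos Fintype.card_pos
    rw [← Cfsg.Agent.Lib.Helper7SL.card_SL_two, ← Cfsg.Agent.Lib.Helper7SL.card_SL_two,
      ← Nat.card_congr e₁.toEquiv, ← Nat.card_congr e₂.toEquiv, ← hA,
      Subgroup.card_map_of_injective hinj]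
  · have h12 : ∀ x ∈ L₁, n * x * n⁻¹ ∈ L₂ := by
      intro x hx
      rw [← hA]
      exact ⟨x, hx, rfl⟩
    have h21 : ∀ y ∈ L₂, n * y * n⁻¹ ∈ L₁ := by
      intro y hy
      rw [← hB]
      exact ⟨y, hy, rfl⟩
    have h21' : ∀ y ∈ L₂, n⁻¹ * y * n ∈ L₁ := by
      intro y hy
      rw [← hA] at hy
      obtain ⟨x, hx, rfl⟩ := hy
      change n⁻¹ * (n * x * n⁻¹) * n ∈ L₁
      have : n⁻¹ * (n * x * n⁻¹) * n = x := by group
      rwa [this]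
    have h12' : ∀ x ∈ L₁, n⁻¹ * x * n ∈ L₂ := by
      intro x hx
      rw [← hB] at hx
      obtain ⟨y, hy, rfl⟩ := hx
      change n⁻¹ * (n * y * n⁻¹) * n ∈ L₂
      have : n⁻¹ * (n * y * n⁻¹) * n = y := by group
      rwa [this]
    have hnn : n * n ∈ L₁ ⊔ L₂ := by
      have := Subgroup.mul_self_mem_of_index_two hi ⟨n, hn⟩
      exact Subgroup.mem_subgroupOf.mp this
    obtain ⟨a, ha, b, hb, hab⟩ := Cfsg.Agent.Lib.Helper41Central.exists_of_mem_sup hc hnn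
    have haL : a ∈ L₁ ⊔ L₂ := Subgroup.mem_sup_left ha
    have hbc : b * (n⁻¹ * a⁻¹ * n) ∈ L₂ := L₂.mul_mem hb (h12' _ (L₁.inv_mem ha))
    have hsq : (n * a⁻¹) ^ 2 = b * (n⁻¹ * a⁻¹ * n) := by
      have e1 : (n * a⁻¹) ^ 2 = (n * n) * (n⁻¹ * a⁻¹ * n) * a⁻¹ := by rw [sq]; group
      rw [e1, hab]
      have e2 := hc a ha _ hbc
      calc a * b * (n⁻¹ * a⁻¹ * n) * a⁻¹ = (a * (b * (n⁻¹ * a⁻¹ * n))) * a⁻¹ := by group
        _ = (b * (n⁻¹ * a⁻¹ * n)) * a * a⁻¹ := by rw [e2]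
        _ = _ := by group
    refine ⟨n * a⁻¹, mul_mem hn (inv_mem (hle haL)), ?_, ?_, ?_⟩
    · intro h
      apply hn'
      have := mul_mem h haL
      rwa [inv_mul_cancel_right] at this
    · ext y
      constructor
      · rintro ⟨x, hx, rfl⟩
        change n * a⁻¹ * x * (n * a⁻¹)⁻¹ ∈ L₂
        have : n * a⁻¹ * x * (n * a⁻¹)⁻¹ = n * (a⁻¹ * x * a) * n⁻¹ := by group
        rw [this]
        exact h12 _ (L₁.mul_mem (L₁.mul_mem (L₁.inv_mem ha) hx) ha)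
      · intro hy
        refine ⟨a * (n⁻¹ * y * n) * a⁻¹, L₁.mul_mem (L₁.mul_mem ha (h21' y hy)) (L₁.inv_mem ha), ?_⟩
        change n * a⁻¹ * (a * (n⁻¹ * y * n) * a⁻¹) * (n * a⁻¹)⁻¹ = y
        group
    · rw [← hm]
      refine ⟨?_, by rw [hsq]; exact hbc⟩
      have e1 : (n * a⁻¹) ^ 2 = (n * a⁻¹) * (n * a⁻¹) ^ 2 * (n * a⁻¹)⁻¹ := by
        generalize n * a⁻¹ = w
        group
      rw [e1, hsq]
      have e2 := hc a⁻¹ (L₁.inv_mem ha) _ hbc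
      have e3 : n * a⁻¹ * (b * (n⁻¹ * a⁻¹ * n)) * (n * a⁻¹)⁻¹ =
          n * (b * (n⁻¹ * a⁻¹ * n)) * n⁻¹ := by
        calc n * a⁻¹ * (b * (n⁻¹ * a⁻¹ * n)) * (n * a⁻¹)⁻¹
            = n * (a⁻¹ * (b * (n⁻¹ * a⁻¹ * n))) * a * n⁻¹ := by group
          _ = n * ((b * (n⁻¹ * a⁻¹ * n)) * a⁻¹) * a * n⁻¹ := by rw [e2]
          _ = _ := by group
      rw [e3]
      exact h21 _ hbc

end Cfsg.Agent.S3210
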