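import Cfsg.Statements.S3211
import Mathlib
import Cfsg.Agent.Lib.Helper41Swap
import Cfsg.Agent.Lib.Helper92ZStar

set_option autoImplicit false
open Cfsg

namespace Cfsg.Agent.S3211

/-- Let G be a finite group with subgroups L₁ ≅ SL₂(q₁) and L₂ ≅ SL₂(q₂), q₁ and q₂ odd prime powers, which commute elementwise and meet in ⟨j⟩ for an involution j, and suppose L₁L₂ has index 2 in C_G(j). If some n ∈ C_G(j) with n² = j interchanges L₁ and L₂ under conjugation (so that C_G(j) = L₁L₂⟨n⟩), then G = C_G(j)O(G). -/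
theorem result {G : Type*} [Group G] [Finite G]
    {F₁ : Type*} [Field F₁] [Fintype F₁] {F₂ : Type*} [Field F₂] [Fintype F₂]
    (hF₁ : Odd (Fintype.card F₁)) (hF₂ : Odd (Fintype.card F₂)) (L₁ L₂ : Subgroup G)
    (e₁ : ↥L₁ ≃* Matrix.SpecialLinearGroup (Fin 2) F₁) (e₂ : ↥L₂ ≃* Matrix.SpecialLinearGroup (Fin 2) F₂)
    (hc : ∀ x ∈ L₁, ∀ y ∈ L₂, x * y = y * x) (j : G) (hj : orderOf j = 2) (hm : L₁ ⊓ L₂ = Subgroup.zpowers j)
    (hle : L₁ ⊔ L₂ ≤ Subgroup.centralizer ({j} : Set G)) (hi : (L₁ ⊔ L₂).relIndex (Subgroup.centralizer ({j} : Set G)) = 2) (n : G) (hn : n ∈ Subgroup.centralizer ({j} : Set G))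
    (hn2 : n ^ 2 = j) (hswap : L₁.map (MulAut.conj n).toMonoidHom = L₂) :
    Subgroup.centralizer ({j} : Set G) ⊔ Cfsg.oddCore G = ⊤ := by
  have hg1 := Cfsg.Agent.Lib.Helper41Central.good_of_equiv hF₁ hF₂ e₁ e₂ hc hj hm
  have hj1 := hg1.hj1
  have hjj := hg1.hjj
  have hj₁ := hg1.nM.hj
  have hj₂ := hg1.nN.hj
  have F1 := Cfsg.Agent.Lib.Helper41Swap.fine_of_equiv
    (Cfsg.Agent.Lib.Helper41SL2.two_ne_zero_of_odd hF₁) e₁ hj₁ hj1 hjj
  have F2 := Cfsg.Agent.Lib.Helper41Swap.fine_of_equiv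
    (Cfsg.Agent.Lib.Helper41SL2.two_ne_zero_of_odd hF₂) e₂ hj₂ hj1 hjj
  have hnj : n * j = j * n := Subgroup.mem_centralizer_singleton_iff.mp hn
  have hnn : n * n = j := by rw [← sq, hn2]
  have h12 : ∀ x ∈ L₁, n * x * n⁻¹ ∈ L₂ := by
    intro x hx
    rw [← hswap]
    exact ⟨x, hx, rfl⟩
  have h21 : ∀ y ∈ L₂, n * y * n⁻¹ ∈ L₁ := by
    intro y hy
    rw [← hswap] at hy
    obtain ⟨x, hx, rfl⟩ := hy
    change n * (n * x * n⁻¹) * n⁻¹ ∈ L₁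
    have : n * (n * x * n⁻¹) * n⁻¹ = (n * n) * x * (n * n)⁻¹ := by group
    rw [this, hnn]
    exact L₁.mul_mem (L₁.mul_mem hj₁ hx) (L₁.inv_mem hj₁)
  have hnY : n ∉ L₁ ⊔ L₂ := by
    intro h
    obtain ⟨a, ha, b, hb, hab⟩ := Cfsg.Agent.Lib.Helper41Central.exists_of_mem_sup hc h
    obtain ⟨x, hx, hxx⟩ := F1.root
    have e1 : n * x * n⁻¹ = a * x * a⁻¹ := by
      rw [hab]
      calc a * b * x * (a * b)⁻¹ = a * (b * x) * b⁻¹ * a⁻¹ := by group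
        _ = a * (x * b) * b⁻¹ * a⁻¹ := by rw [hc x hx b hb]
        _ = _ := by group
    have h1 : n * x * n⁻¹ ∈ L₁ := by
      rw [e1]; exact L₁.mul_mem (L₁.mul_mem ha hx) (L₁.inv_mem ha)
    have e2 : (n * x * n⁻¹) * (n * x * n⁻¹) = j := by
      calc (n * x * n⁻¹) * (n * x * n⁻¹) = n * (x * x) * n⁻¹ := by group
        _ = _ := by rw [hxx, hnj, mul_inv_cancel_right]
    rcases hg1.inter _ h1 (h12 x hx) with h3 | h3
    · rw [h3, one_mul] at e2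
      exact hj1 e2.symm
    · rw [h3, hjj] at e2
      exact hj1 e2.symm
  have hC : ∀ c, c * j = j * c →
      (∃ a ∈ L₁, ∃ b ∈ L₂, c = a * b) ∨ (∃ a ∈ L₁, ∃ b ∈ L₂, c = a * b * n) := by
    intro c hcj
    have hcC : c ∈ Subgroup.centralizer ({j} : Set G) := Subgroup.mem_centralizer_singleton_iff.mpr hcj
    by_cases hcY : c ∈ L₁ ⊔ L₂
    · exact Or.inl (Cfsg.Agent.Lib.Helper41Central.exists_of_mem_sup hc hcY)
    · right
      have h1 := (Subgroup.mul_mem_iff_of_index_two hi (a := ⟨c, hcC⟩) (b := ⟨n, hn⟩⁻¹))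
      have h2 : (⟨c, hcC⟩ : Subgroup.centralizer ({j} : Set G)) * ⟨n, hn⟩⁻¹ ∈
          (L₁ ⊔ L₂).subgroupOf (Subgroup.centralizer ({j} : Set G)) := by
        rw [h1, inv_mem_iff, Subgroup.mem_subgroupOf, Subgroup.mem_subgroupOf]
        exact ⟨fun h => absurd h hcY, fun h => absurd h hnY⟩
      have h3 : c * n⁻¹ ∈ L₁ ⊔ L₂ := Subgroup.mem_subgroupOf.mp h2
      obtain ⟨a, ha, b, hb, hab⟩ := Cfsg.Agent.Lib.Helper41Central.exists_of_mem_sup hc h3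
      exact ⟨a, ha, b, hb, by rw [← hab]; group⟩
  have hiso : Cfsg.IsIsolatedInvolution j :=
    ⟨hj, fun g hg => Cfsg.Agent.Lib.Helper41Swap.isolated F1 F2 hj1 hjj hc hg1.inter hj₁ hj₂ hC hnj hnn
      h12 h21 g hg⟩
  rw [eq_top_iff]
  intro g _
  obtain ⟨u, hu, hug⟩ := Cfsg.Agent.Lib.Helper92ZStar.exists_mul_mem_centralizer hiso g
  have : g = u⁻¹ * (u * g) := by group
  rw [this]
  exact mul_mem (Subgroup.mem_sup_right (inv_mem hu)) (Subgroup.mem_sup_left hug)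

end Cfsg.Agent.S3211
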