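import Cfsg.Statements.S3266
import Mathlib
import Cfsg.Agent.Lib.Helper41OddGraph

set_option autoImplicit false
open Cfsg

namespace Cfsg.Agent.S3266

/-- Let F be a finite field with at least 4 elements and let X be a conjugacy class of involutions of PSL(2, F). The graph on X joining two distinct involutions whose product has odd order is connected and has diameter exactly 2. -/
theorem result {F : Type*} [Field F] [Fintype F] (hF : 4 ≤ Fintype.card F)
    (t : Matrix.ProjectiveSpecialLinearGroup (Fin 2) F) (ht : orderOf t = 2) :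
    (SimpleGraph.fromRel fun x y : {x : Matrix.ProjectiveSpecialLinearGroup (Fin 2) F // IsConj t x} =>
        Odd (orderOf (x.1 * y.1))).Connected ∧
      (SimpleGraph.fromRel fun x y : {x : Matrix.ProjectiveSpecialLinearGroup (Fin 2) F // IsConj t x} =>
        Odd (orderOf (x.1 * y.1))).diam = 2 := by
  apply Cfsg.Agent.Lib.Helper41OddGraph.diam_two_of
  · rintro ⟨x, hx⟩ ⟨y, hy⟩ hne hna
    have hx2 : orderOf x = 2 := by rw [Cfsg.Agent.Lib.Helper41OddGraph.orderOf_of_isConj hx, ht]
    have hy2 : orderOf y = 2 := by rw [Cfsg.Agent.Lib.Helper41OddGraph.orderOf_of_isConj hy, ht]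
    rw [SimpleGraph.fromRel_adj] at hna
    have h1 : ¬ Odd (orderOf (x * y)) := fun h => hna ⟨hne, Or.inl h⟩
    obtain ⟨z, hz, hxz, hzy, h3, h4⟩ := Cfsg.Agent.Lib.Helper41OddGraph.common hF hx2 hy2 h1
    refine ⟨⟨z, Cfsg.Agent.Lib.Helper41OddGraph.isConj_two ht hz⟩, ?_, ?_⟩
    · rw [SimpleGraph.fromRel_adj]
      exact ⟨fun h => hxz (congrArg Subtype.val h), Or.inl h3⟩
    · rw [SimpleGraph.fromRel_adj]
      exact ⟨fun h => hzy (congrArg Subtype.val h), Or.inl h4⟩
  · obtain ⟨x, y, hx, hy, hne, h1, h2⟩ := Cfsg.Agent.Lib.Helper41OddGraph.exists_nonadj hF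
    refine ⟨⟨x, Cfsg.Agent.Lib.Helper41OddGraph.isConj_two ht hx⟩,
      ⟨y, Cfsg.Agent.Lib.Helper41OddGraph.isConj_two ht hy⟩, fun h => hne (congrArg Subtype.val h), ?_⟩
    rw [SimpleGraph.fromRel_adj]
    rintro ⟨-, h | h⟩
    · exact h1 h
    · exact h2 h

end Cfsg.Agent.S3266
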