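import Cfsg.Statements.S3358
import Cfsg.Agent.Lib.Helper75FcD
import Cfsg.Agent.Lib.H75ZProps
import Cfsg.Agent.Lib.H75ZPerm
import Cfsg.Agent.Lib.H75ZStruct
import Cfsg.Agent.Lib.H75ZPres
import Cfsg.Agent.Lib.H75ZPowA
import Cfsg.Agent.Lib.H75ZPowB

set_option autoImplicit false
open Cfsg

namespace Cfsg.Agent.S3358

/-- Structure of solvable Frobenius complements. Let G be a finite solvable group that occurs as a Frobenius complement. Then G has a normal subgroup G₀ such that G/G₀ is isomorphic to a subgroup of Sym(4) (G₀ is the kernel of a homomorphism to Sym(4)), all Sylow subgroups of G₀ are cyclic, and G₀ has a presentation ⟨x, y | x^n = 1, y^m = 1, x⁻¹ y x = y^r⟩ with n, m ≥ 1, gcd(r − 1, m) = gcd(n, m) = 1 and r^(n/n′) ≡ 1 (mod m), where n′ is the product of the distinct primes dividing n. -/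
theorem result {G : Type*} [Group G] [Finite G] (hsol : Group.IsSolvable G)
    (hFC : ∃ (L : Type) (_ : Group L) (_ : Finite L) (H : Subgroup L), Cfsg.IsFrobeniusComplement H ∧ Nonempty (G ≃* H)) :
    ∃ G₀ : Subgroup G, G₀.Normal ∧
      (∃ f : G →* Equiv.Perm (Fin 4), f.ker = G₀) ∧
      (∀ (p : ℕ) [Fact p.Prime] (P : Sylow p G₀), IsCyclic P) ∧
      ∃ n m r : ℕ, 0 < n ∧ 0 < m ∧ Nat.Coprime (r - 1) m ∧ Nat.Coprime n m ∧ 1 ≤ r ∧
        r ^ (n / ∏ p ∈ n.primeFactors, p) % m = 1 % m ∧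
        Nonempty (G₀ ≃* PresentedGroup
          ({FreeGroup.of (0 : Fin 2) ^ n, FreeGroup.of (1 : Fin 2) ^ m,
            (FreeGroup.of (0 : Fin 2))⁻¹ * FreeGroup.of 1 * FreeGroup.of 0 * (FreeGroup.of (1 : Fin 2) ^ r)⁻¹} :
            Set (FreeGroup (Fin 2)))) := by
  obtain ⟨hinv, hcyc, hpq⟩ := Cfsg.Agent.Lib.H75ZProps.props hFC
  obtain ⟨N, hNn, hNZ, hcase⟩ := Cfsg.Agent.Lib.Helper75FcD.exists_solvable hinv hcyc hsol
  refine ⟨N, hNn, Cfsg.Agent.Lib.H75ZPerm.exists_perm4 N hcase, ?_, ?_⟩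
  · intro p _ P
    exact IsZGroup.isZGroup p (Fact.out) P
  · obtain ⟨x, y, r, hcop, hcard, hr, hr1, hrc, hgen⟩ := Cfsg.Agent.Lib.H75ZStruct.zgroup_data (N := N)
    have hpqN : ∀ (A : Subgroup N) (p q : ℕ), p.Prime → q.Prime → Nat.card A = p * q → IsCyclic A := by
      intro A p q hp hq hA
      have h1 : Nat.card (A.map N.subtype) = p * q := by
        rw [Subgroup.card_map_of_injective N.subtype_injective, hA]
      have h2 := hpq _ p q hp hq h1
      exact (A.equivMapOfInjective N.subtype N.subtype_injective).symm.isCyclic.1 h2 |> fun h => h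
    have hn : 0 < orderOf x := orderOf_pos x
    have hm : 0 < orderOf y := orderOf_pos y
    refine ⟨orderOf x, orderOf y, r, hn, hm, hrc, hcop, hr1, ?_, ?_⟩
    · apply Cfsg.Agent.Lib.H75ZPowB.pow_rad _ _ _ hn hm
      · -- x^n = 1 acts trivially
        have key : ∀ k : ℕ, (x ^ k)⁻¹ * y * x ^ k = y ^ (r ^ k) := by
          intro k
          induction k with
          | zero => simp
          | succ k ih =>
            have : (x ^ (k + 1))⁻¹ * y * x ^ (k + 1) = x⁻¹ * ((x ^ k)⁻¹ * y * x ^ k) * x := by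
              rw [pow_succ]; group
            rw [this, ih]
            have h3 : x⁻¹ * y ^ (r ^ k) * x = (x⁻¹ * y * x) ^ (r ^ k) := by
              have := map_pow (MulAut.conj x⁻¹) y (r ^ k)
              simpa [MulAut.conj_apply] using this
            rw [h3, hr, ← pow_mul, pow_succ, mul_comm]
        have h4 := key (orderOf x)
        rw [pow_orderOf_eq_one] at h4
        simp only [inv_one, one_mul, mul_one] at h4
        have h5 : y ^ (r ^ orderOf x) = y ^ 1 := by rw [← h4, pow_one]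
        exact (pow_eq_pow_iff_modEq.1 h5)
      · intro p hp hpn
        exact Cfsg.Agent.Lib.H75ZPowA.pow_prime hpqN x y r hcop hr p hp hpn
    · exact Cfsg.Agent.Lib.H75ZPres.pres_iso x y _ _ r hn hm (pow_orderOf_eq_one x) (pow_orderOf_eq_one y) hr hgen hcard

end Cfsg.Agent.S3358
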