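import Cfsg.Statements.S3361
import Cfsg.Agent.Lib.Helper75SlT5a
import Cfsg.Agent.Lib.Helper5SlL1
import Cfsg.Agent.Lib.Helper5SlT3
import Cfsg.Agent.Lib.Helper66SlL2
import Cfsg.Agent.Lib.Helper66SlT2
import Cfsg.Agent.Lib.Helper66SlT4
import Cfsg.Agent.Lib.Helper66SlT5b
import Cfsg.Agent.Lib.Helper75SlT1
import Cfsg.Agent.S0688

set_option autoImplicit false
open Cfsg

namespace Cfsg.Agent.S3361

open Cfsg.Agent.Lib.Helper75SlT5a Cfsg.Agent.Lib.Helper5SlL1 Cfsg.Agent.Lib.Helper5SlT3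
  Cfsg.Agent.Lib.Helper66SlL2 Cfsg.Agent.Lib.Helper66SlT2 Cfsg.Agent.Lib.Helper66SlT4
  Cfsg.Agent.Lib.Helper66SlT5b Cfsg.Agent.Lib.Helper75SlT1

section
variable {p : ℕ} [Fact p.Prime] {V : Type*} [AddCommGroup V] [Module (ZMod p) V] [Finite V]
  [Nontrivial V] (H : Subgroup (V ≃ₗ[ZMod p] V))

theorem even_card (hreg : ∀ v w : V, v ≠ 0 → w ≠ 0 → ∃! h : H, (h : V ≃ₗ[ZMod p] V) v = w)
    (hp : p ≠ 2) : 2 ∣ Nat.card H := by
  have h1 := Cfsg.Agent.Lib.Helper28RgR0.card_of_reg H hreg
  have h2 : Nat.card V = p ^ Module.finrank (ZMod p) V := by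
    rw [Module.natCard_eq_pow_finrank (K := ZMod p) (V := V), Nat.card_zmod]
  have hodd : Odd p := (Fact.out : p.Prime).odd_of_ne_two hp
  have h3 : Odd (Nat.card V) := by rw [h2]; exact hodd.pow
  rw [h1] at h3
  rcases Nat.even_or_odd (Nat.card H) with h | h
  · exact h.two_dvd
  · exact absurd (h.add_odd odd_one) (Nat.not_even_iff_odd.mpr h3)

/-- case A: index two -/
theorem caseA_index (hreg : ∀ v w : V, v ≠ 0 → w ≠ 0 → ∃! h : H, (h : V ≃ₗ[ZMod p] V) v = w)
    (hp : p ≠ 2) (A : Subgroup H) (hA : A.Normal) (hcyc : IsCyclic A)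
    (hirr : ∀ W : Submodule (ZMod p) V,
      (∀ a ∈ A, ∀ v ∈ W, ((a : H) : V ≃ₗ[ZMod p] V) v ∈ W) → W = ⊥ ∨ W = ⊤) :
    ∃ K : Subgroup H, K.Normal ∧ K.index = 2 := by
  have : Finite H := Cfsg.Agent.Lib.Helper28RgR0.finite_H H
  have hCc := centralizer_cyclic H A hirr
  have hCn : (Subgroup.centralizer (A : Set H)).Normal := inferInstance
  have hcomm : ∀ a b : H, a * b * a⁻¹ * b⁻¹ ∈ Subgroup.centralizer (A : Set H) := by
    intro a b
    have hk : (MulAut.conjNormal (H := A)).ker = Subgroup.centralizer (A : Set H) := by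
      ext x
      rw [MonoidHom.mem_ker, Subgroup.mem_centralizer_iff]
      constructor
      · intro h n hn
        have h1 := congrArg (fun f : MulAut A => ((f ⟨n, hn⟩ : A) : H)) h
        simp only [MulAut.conjNormal_apply, MulAut.one_apply] at h1
        calc n * x = (x * n * x⁻¹) * x := by rw [h1]
          _ = x * n := by group
      · intro h
        ext n
        simp only [MulAut.conjNormal_apply, MulAut.one_apply]
        rw [← h n n.2]
        group
    rw [← hk, MonoidHom.mem_ker, map_mul, map_mul, map_mul, map_inv, map_inv]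
    have hc : ∀ x y : MulAut A, x * y = y * x := by
      intro x y
      exact (IsCyclic.mulAutMulEquiv A).injective (by rw [map_mul, map_mul, mul_comm])
    rw [hc (MulAut.conjNormal a) (MulAut.conjNormal b)]
    group
  have heven := even_card H hreg hp
  by_cases h2 : 2 ∣ (Subgroup.centralizer (A : Set H)).index
  · exact exists_index_two_of_comm_quotient _ hCn hcomm h2
  · refine exists_index_two_of_cyclic_normal _ hCn hCc ?_ h2
    rw [← Subgroup.card_mul_index (Subgroup.centralizer (A : Set H))] at heven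
    exact (Nat.Prime.dvd_mul Nat.prime_two).mp heven |>.resolve_right h2

/-- case B -/
theorem caseB (hreg : ∀ v w : V, v ≠ 0 → w ≠ 0 → ∃! h : H, (h : V ≃ₗ[ZMod p] V) v = w)
    (hI : ∀ A : Subgroup H, A.Normal → IsCyclic A → ∃ W : Submodule (ZMod p) V, W ≠ ⊥ ∧ W ≠ ⊤ ∧
      ∀ a ∈ A, ∀ v ∈ W, ((a : H) : V ≃ₗ[ZMod p] V) v ∈ W) (hsolv : Group.IsSolvable H) :
    (∃ K : Subgroup H, K.Normal ∧ K.index = 2) ∨
      (Nat.card V = 25 ∧ Nonempty (H ≃* Matrix.SpecialLinearGroup (Fin 2) (ZMod 3))) ∨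
      (Nat.card V = 121 ∧
        Nonempty (H ≃* Matrix.SpecialLinearGroup (Fin 2) (ZMod 3) × Multiplicative (ZMod 5))) := by
  have : Finite H := Cfsg.Agent.Lib.Helper28RgR0.finite_H H
  obtain ⟨A, hAn, hAc, hAmax⟩ := Cfsg.Agent.S0688.exists_max_abelian (H := H)
  obtain ⟨-, hCna⟩ := Cfsg.Agent.S0685.result H hreg hI A hAn hAc hAmax
  obtain ⟨N, hNn, hNle, hNna, hNmin⟩ :=
    Cfsg.Agent.S0688.exists_min_nonabelian (Subgroup.centralizer (A : Set H)) inferInstance hCna
  obtain ⟨hirr, hcent⟩ := Cfsg.Agent.S0687.result H hreg hI A hAn hAc hAmax N hNn hNle hNna hNmin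
  have hQ : Nonempty (N ≃* QuaternionGroup 2) := by
    rcases Cfsg.Agent.S0686.result H hreg hI A hAn hAc hAmax N hNn hNle hNna hNmin with h | ⟨⟨e'⟩⟩
    · exact h
    · exfalso
      have hsN : Group.IsSolvable N := Group.isSolvable_of_isSolvable_injective N.subtype_injective
      exact Cfsg.Agent.S0688.not_solvable_SL25
        (Group.isSolvable_of_surjective (f := e'.toMonoidHom) e'.surjective)
  obtain ⟨eQ⟩ := hQ
  obtain ⟨e, k, he, hk, hcard, hcyc, hdvd⟩ :=
    Cfsg.Agent.Lib.Helper15RgR2.centralizer_field H N hNna hirr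
  rcases index_twelve_or_index_two N hNn eQ with h12 | h
  · right
    have hH := Cfsg.Agent.Lib.Helper28RgR0.card_of_reg H hreg
    have hmul : Nat.card H = Nat.card (Subgroup.centralizer (N : Set H)) * 12 := by
      rw [← h12]; exact (Subgroup.card_mul_index _).symm
    -- the centre of `N` has order two and lies in the centraliser
    have h2 : 2 ∣ Nat.card (Subgroup.centralizer (N : Set H)) := by
      let z : H := ((eQ.symm (QuaternionGroup.a 2) : N) : H)
      have hz : orderOf z = 2 := by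
        show orderOf ((eQ.symm (QuaternionGroup.a 2) : N) : H) = 2
        rw [Subgroup.orderOf_coe, MulEquiv.orderOf_eq]
        rw [orderOf_eq_iff (by norm_num)]
        refine ⟨by decide, ?_⟩
        intro m hm hm0
        interval_cases m
        decide
      have hzc : z ∈ Subgroup.centralizer (N : Set H) := by
        rw [Subgroup.mem_centralizer_iff]
        intro n hn
        have h1 : ∀ y : QuaternionGroup 2, y * QuaternionGroup.a 2 = QuaternionGroup.a 2 * y := by
          decide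
        have h3 := h1 (eQ ⟨n, hn⟩)
        have h4 : (⟨n, hn⟩ : N) * eQ.symm (QuaternionGroup.a 2) =
            eQ.symm (QuaternionGroup.a 2) * ⟨n, hn⟩ := by
          apply eQ.injective
          rw [map_mul, map_mul, MulEquiv.apply_symm_apply]
          exact h3
        exact congrArg Subtype.val h4
      rw [← hz]
      have := orderOf_dvd_natCard (⟨z, hzc⟩ : Subgroup.centralizer (N : Set H))
      rwa [Subgroup.orderOf_mk] at this
    rcases num_twelve (Fact.out : p.Prime) he hk hdvd (by rw [← hcard, hH, hmul]) h2 with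
      ⟨h25, ha⟩ | ⟨h121, ha⟩
    · left
      rw [← hcard] at h25
      exact ⟨h25, sl23_of_card (by rw [hmul, ha]) N hNn eQ ha⟩
    · right
      rw [← hcard] at h121
      exact ⟨h121, sl23_prod_of_card_of (by rw [hmul, ha]) N hNn eQ ha hcyc
        (fun L hL N1 hN1 e1 hC1 => sl23_of_card hL N1 hN1 e1 hC1)⟩
  · exact Or.inl h

end

/-- Let q be a prime and V a non-trivial finite vector space over the field with q elements, and let G be a finite solvable group acting faithfully and linearly on V and regularly on the non-zero vectors (transitively, with only the identity fixing a non-zero vector). Then either V can be identified with the additive group of a finite field F so that every element of G acts as x ↦ a·σ(x) (a ∈ F, σ a field automorphism), or V has 5^2, 7^2, 11^2 or 23^2 elements. Moreover, if q ≠ 2 then G has a normal subgroup of index 2, except that when V has 25 elements G may be isomorphic to SL(2,3) and when V has 121 elements G may be isomorphic to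 SL(2,3) × C₅. -/
theorem result
    (q : ℕ) [Fact q.Prime] {V : Type*} [AddCommGroup V] [Module (ZMod q) V] [Finite V] [Nontrivial V]
    {G : Type*} [Group G] [Finite G] (hsol : Group.IsSolvable G)
    (ρ : G →* (V ≃ₗ[ZMod q] V)) (hρ : Function.Injective ρ)
    (htrans : ∀ v w : V, v ≠ 0 → w ≠ 0 → ∃ g : G, ρ g v = w)
    (hreg : ∀ v : V, v ≠ 0 → ∀ g : G, ρ g v = v → g = 1) :
    ((∃ (F : Type) (_ : Field F) (_ : Fintype F) (e : V ≃+ F),
        ∀ g : G, ∃ (a : F) (σ : F ≃+* F), ∀ v : V, e (ρ g v) = a * σ (e v)) ∨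
      Nat.card V ∈ ({25, 49, 121, 529} : Set ℕ)) ∧
    (q ≠ 2 → (∃ N : Subgroup G, N.Normal ∧ N.index = 2) ∨
      (Nat.card V = 25 ∧ Nonempty (G ≃* Matrix.SpecialLinearGroup (Fin 2) (ZMod 3))) ∨
      (Nat.card V = 121 ∧ Nonempty (G ≃* Matrix.SpecialLinearGroup (Fin 2) (ZMod 3) × Multiplicative (ZMod 5)))) := by
  let H : Subgroup (V ≃ₗ[ZMod q] V) := ρ.range
  let E : G ≃* H := MonoidHom.ofInjective hρ
  have hE : ∀ g : G, ((E g : H) : V ≃ₗ[ZMod q] V) = ρ g := fun g => rfl
  have hreg' : ∀ v w : V, v ≠ 0 → w ≠ 0 → ∃! h : H, (h : V ≃ₗ[ZMod q] V) v = w := by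
    intro v w hv hw
    obtain ⟨g, hg⟩ := htrans v w hv hw
    refine ⟨E g, hg, ?_⟩
    intro h hh
    obtain ⟨g', rfl⟩ := E.surjective h
    have h1 : ρ (g⁻¹ * g') v = v := by
      rw [map_mul, map_inv]
      show (ρ g)⁻¹ (ρ g' v) = v
      have h2 : ρ g' v = w := hh
      rw [h2, ← hg]
      exact LinearEquiv.symm_apply_apply _ v
    have h3 := hreg v hv _ h1
    rw [inv_mul_eq_one.mp h3]
  have hsolv : Group.IsSolvable H := Group.isSolvable_of_surjective (f := E.toMonoidHom) E.surjective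
  have hback : (∃ K : Subgroup H, K.Normal ∧ K.index = 2) →
      ∃ N : Subgroup G, N.Normal ∧ N.index = 2 := by
    rintro ⟨K, hK, hK2⟩
    refine ⟨K.comap E.toMonoidHom, hK.comap _, ?_⟩
    rw [Subgroup.index_comap_of_surjective K (f := E.toMonoidHom) E.surjective, hK2]
  by_cases hI : ∀ A : Subgroup H, A.Normal → IsCyclic A → ∃ W : Submodule (ZMod q) V, W ≠ ⊥ ∧
      W ≠ ⊤ ∧ ∀ a ∈ A, ∀ v ∈ W, ((a : H) : V ≃ₗ[ZMod q] V) v ∈ W
  · refine ⟨Or.inr ?_, fun _ => ?_⟩
    · rcases Cfsg.Agent.S0688.result H hreg' hI hsolv with h | h | h | h <;> simp [h]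
    · rcases caseB H hreg' hI hsolv with h | ⟨h, ⟨e⟩⟩ | ⟨h, ⟨e⟩⟩
      · exact Or.inl (hback h)
      · exact Or.inr (Or.inl ⟨h, ⟨E.trans e⟩⟩)
      · exact Or.inr (Or.inr ⟨h, ⟨E.trans e⟩⟩)
  · push Not at hI
    obtain ⟨A, hAn, hAc, hA⟩ := hI
    have hirr : ∀ W : Submodule (ZMod q) V,
        (∀ a ∈ A, ∀ v ∈ W, ((a : H) : V ≃ₗ[ZMod q] V) v ∈ W) → W = ⊥ ∨ W = ⊤ := by
      intro W hW
      by_contra hcon
      push Not at hcon
      obtain ⟨a, ha, v, hv, hav⟩ := hA W hcon.1 hcon.2
      exact hav (hW a ha v hv)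
    refine ⟨Or.inl ?_, fun hq => Or.inl (hback (caseA_index H hreg' hq A hAn hAc hirr))⟩
    obtain ⟨F, i1, i2, e, he⟩ := semilinear_of_irreducible H A hAn (by
      intro a ha b hb
      have := (IsCyclic.commGroup (α := A)).mul_comm ⟨a, ha⟩ ⟨b, hb⟩
      exact congrArg Subtype.val this) hirr
    exact ⟨F, i1, i2, e, fun g => he (E g)⟩

end Cfsg.Agent.S3361
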