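import Cfsg.Statements.S3494
import Mathlib

set_option autoImplicit false
open Cfsg

namespace Cfsg.Agent.S3494

open MulAction
open scoped Pointwise

variable {G : Type*} [Group G] {Ω : Type*} [MulAction G Ω]

/-- subdegree -/
noncomputable def d (G : Type*) [Group G] {Ω : Type*} [MulAction G Ω] (x y : Ω) : ℕ :=
  (orbit (stabilizer G x) y).ncard

/-- fixed points of a subgroup -/
def Fx (K : Subgroup G) : Set Ω := {x | ∀ k ∈ K, k • x = x}

theorem card_inf_mul_d (x y : Ω) :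
    Nat.card (stabilizer G y ⊓ stabilizer G x : Subgroup G) * d G x y = Nat.card (stabilizer G x) := by
  have key : (stabilizer G y).subgroupOf (stabilizer G x) = stabilizer (stabilizer G x) y := by
    ext; rfl
  unfold d
  rw [← index_stabilizer, ← key, ← Subgroup.relIndex, ← Subgroup.inf_relIndex_right,
    ← Subgroup.relIndex_bot_left, ← Subgroup.relIndex_bot_left]
  exact Subgroup.relIndex_mul_relIndex _ _ _ bot_le inf_le_right

theorem card_stab [IsPretransitive G Ω] (x y : Ω) :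
    Nat.card (stabilizer G x) = Nat.card (stabilizer G y) := by
  obtain ⟨g, hg⟩ := exists_smul_eq G x y
  exact Nat.card_congr (stabilizerEquivStabilizer hg.symm).toEquiv

theorem d_symm [Finite G] [IsPretransitive G Ω] (x y : Ω) : d G x y = d G y x := by
  have h1 := card_inf_mul_d (G := G) x y
  have h2 := card_inf_mul_d (G := G) y x
  rw [inf_comm, ← card_stab x y, ← h1] at h2
  exact (Nat.eq_of_mul_eq_mul_left Nat.card_pos h2).symm

theorem d_smul (c : G) (x y : Ω) : d G (c • x) (c • y) = d G x y := by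
  unfold d
  have : orbit (stabilizer G (c • x)) (c • y) = (fun z => c • z) '' orbit (stabilizer G x) y := by
    ext z
    constructor
    · rintro ⟨⟨h, hh⟩, rfl⟩
      refine ⟨(c⁻¹ * h * c) • y, ⟨⟨c⁻¹ * h * c, ?_⟩, rfl⟩, ?_⟩
      · rw [mem_stabilizer_iff] at hh ⊢
        rw [mul_smul, mul_smul, hh, inv_smul_smul]
      · show c • (c⁻¹ * h * c) • y = h • c • y
        simp [mul_smul]
    · rintro ⟨_, ⟨⟨h, hh⟩, rfl⟩, rfl⟩
      refine ⟨⟨c * h * c⁻¹, ?_⟩, ?_⟩
      · rw [mem_stabilizer_iff] at hh ⊢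
        rw [mul_smul, mul_smul, inv_smul_smul, hh]
      · show (c * h * c⁻¹) • c • y = c • h • y
        simp [mul_smul]
  rw [this, Set.ncard_image_of_injective _ (MulAction.injective c)]

section
variable [Finite G] [Fintype Ω] [FaithfulSMul G Ω]

theorem stab_ne (hprim : IsPreprimitive G Ω) (hH : ∀ α : Ω, stabilizer G α ≠ ⊥) {α β : Ω}
    (hne : α ≠ β) : stabilizer G α ≠ stabilizer G β := by
  intro heq
  have : Nontrivial Ω := ⟨α, β, hne⟩
  have hco := IsPreprimitive.isCoatom_stabilizer_of_isPreprimitive (G := G) α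
  obtain ⟨g, hg⟩ := exists_smul_eq G α β
  have hgn : g ∈ Subgroup.normalizer (stabilizer G α : Set G) := by
    rw [Subgroup.mem_normalizer_iff]
    intro h
    conv_rhs => rw [heq, ← hg]
    rw [mem_stabilizer_iff, mem_stabilizer_iff, mul_smul, mul_smul, inv_smul_smul, smul_left_cancel_iff]
  have hgnot : g ∉ stabilizer G α := by
    rw [mem_stabilizer_iff, hg]; exact hne.symm
  have hlt : stabilizer G α < Subgroup.normalizer (stabilizer G α : Set G) := by
    refine lt_of_le_of_ne Subgroup.le_normalizer ?_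
    intro h
    rw [← h] at hgn
    exact hgnot hgn
  have htop := hco.2 _ hlt
  apply hH α
  rw [eq_bot_iff]
  intro h hh
  rw [Subgroup.mem_bot]
  apply FaithfulSMul.eq_of_smul_eq_smul (α := Ω)
  intro x
  obtain ⟨k, rfl⟩ := exists_smul_eq G α x
  have hk : k⁻¹ ∈ Subgroup.normalizer (stabilizer G α : Set G) := by rw [htop]; trivial
  have h3 := (Subgroup.mem_normalizer_iff.mp hk h).mp hh
  rw [mem_stabilizer_iff, inv_inv, mul_smul, mul_smul, inv_smul_eq_iff] at h3
  rw [one_smul, h3]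

theorem sup_stab (hprim : IsPreprimitive G Ω) (hH : ∀ α : Ω, stabilizer G α ≠ ⊥) {α β : Ω}
    (hne : α ≠ β) : stabilizer G α ⊔ stabilizer G β = ⊤ := by
  have : Nontrivial Ω := ⟨α, β, hne⟩
  have hcoα := IsPreprimitive.isCoatom_stabilizer_of_isPreprimitive (G := G) α
  have hcoβ := IsPreprimitive.isCoatom_stabilizer_of_isPreprimitive (G := G) β
  apply hcoα.2
  refine lt_of_le_of_ne le_sup_left ?_
  intro h
  have hle : stabilizer G β ≤ stabilizer G α := by
    rw [h]; exact le_sup_right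
  exact stab_ne hprim hH hne ((hcoβ.le_iff_eq hcoα.1).mp hle)

theorem invariant_eq_univ (hprim : IsPreprimitive G Ω) (hH : ∀ α : Ω, stabilizer G α ≠ ⊥) {α β : Ω}
    (hne : α ≠ β) (S : Set Ω) (hS : S.Nonempty)
    (h1 : ∀ g ∈ stabilizer G α, ∀ x ∈ S, g • x ∈ S) (h2 : ∀ g ∈ stabilizer G β, ∀ x ∈ S, g • x ∈ S) :
    S = Set.univ := by
  have hle : stabilizer G α ⊔ stabilizer G β ≤ stabilizer G S := by
    apply sup_le
    · intro g hg
      rw [mem_stabilizer_set_iff_smul_set_subset (Set.toFinite S)]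
      rintro _ ⟨x, hx, rfl⟩
      exact h1 g hg x hx
    · intro g hg
      rw [mem_stabilizer_set_iff_smul_set_subset (Set.toFinite S)]
      rintro _ ⟨x, hx, rfl⟩
      exact h2 g hg x hx
  rw [sup_stab hprim hH hne] at hle
  obtain ⟨x0, hx0⟩ := hS
  rw [Set.eq_univ_iff_forall]
  intro y
  obtain ⟨g, rfl⟩ := exists_smul_eq G x0 y
  have hg : g ∈ stabilizer G S := hle (Subgroup.mem_top g)
  rw [mem_stabilizer_iff] at hg
  rw [← hg]
  exact Set.smul_mem_smul_set hx0

omit [Finite G] [Fintype Ω] [FaithfulSMul G Ω] in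
theorem trans_of_normal
    (hep : ∀ (α : Ω) (ω : Ω), IsPreprimitive (stabilizer G α) (orbit (stabilizer G α) ω))
    (α : Ω) (K : Subgroup G) (hK : K ≤ stabilizer G α)
    (hn : ∀ g ∈ stabilizer G α, ∀ k ∈ K, g * k * g⁻¹ ∈ K) (γ : Ω) (hγ : γ ∉ Fx K)
    (h : G) (hh : h ∈ stabilizer G α) : ∃ k ∈ K, k • γ = h • γ := by
  have hN : (K.subgroupOf (stabilizer G α)).Normal := ⟨fun n hn' g => by
      rw [Subgroup.mem_subgroupOf] at hn' ⊢
      exact hn g.1 g.2 n.1 hn'⟩
  have := hep α γ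
  have hfix : fixedPoints (K.subgroupOf (stabilizer G α)) (orbit (stabilizer G α) γ) ≠ Set.univ := by
    intro hall
    apply hγ
    intro k hk
    have h1 : (⟨γ, mem_orbit_self γ⟩ : orbit (stabilizer G α) γ) ∈
        fixedPoints (K.subgroupOf (stabilizer G α)) (orbit (stabilizer G α) γ) := by
      rw [hall]; trivial
    have h2 := h1 ⟨⟨k, hK hk⟩, hk⟩
    exact congrArg Subtype.val h2
  have htr : IsPretransitive (K.subgroupOf (stabilizer G α)) (orbit (stabilizer G α) γ) :=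
    IsQuasiPreprimitive.isPretransitive_of_normal hfix
  obtain ⟨n, hn'⟩ := htr.exists_smul_eq ⟨γ, mem_orbit_self γ⟩ ⟨h • γ, ⟨⟨h, hh⟩, rfl⟩⟩
  exact ⟨n.1.1, n.2, congrArg Subtype.val hn'⟩

theorem lemmaA (hprim : IsPreprimitive G Ω) (hH : ∀ α : Ω, stabilizer G α ≠ ⊥)
    (hep : ∀ (α : Ω) (ω : Ω), IsPreprimitive (stabilizer G α) (orbit (stabilizer G α) ω))
    (α : Ω) (K : Subgroup G) (hK : K ≤ stabilizer G α)
    (hn : ∀ g ∈ stabilizer G α, ∀ k ∈ K, g * k * g⁻¹ ∈ K) (β γ : Ω) (hβα : β ≠ α)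
    (hβ : β ∈ Fx K) (hγ : γ ∉ Fx K) : d G α γ < d G β γ := by
  have hsub : orbit (stabilizer G α) γ ⊆ orbit (stabilizer G β) γ := by
    rintro _ ⟨⟨h, hh⟩, rfl⟩
    obtain ⟨k, hk, hkγ⟩ := trans_of_normal hep α K hK hn γ hγ h hh
    exact ⟨⟨k, hβ k hk⟩, hkγ⟩
  apply Set.ncard_lt_ncard _ (Set.toFinite _)
  refine ⟨hsub, fun hsup => ?_⟩
  have heq := Set.Subset.antisymm hsub hsup
  have huniv := invariant_eq_univ hprim hH hβα.symm (orbit (stabilizer G α) γ) ⟨γ, mem_orbit_self γ⟩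
    (by
      rintro g hg _ ⟨h, rfl⟩
      exact ⟨⟨g, hg⟩ * h, mul_smul _ _ _⟩)
    (by
      rw [heq]
      rintro g hg _ ⟨h, rfl⟩
      exact ⟨⟨g, hg⟩ * h, mul_smul _ _ _⟩)
  have hα : α ∈ orbit (stabilizer G α) γ := by rw [huniv]; trivial
  obtain ⟨⟨h, hh⟩, hα'⟩ := hα
  have hα'' : h • γ = α := hα'
  have hγα : γ = α := by
    rw [mem_stabilizer_iff] at hh
    rw [← hh] at hα''
    exact smul_left_cancel h hα''
  apply hγ
  rw [hγα]
  intro k hk
  exact hK hk

end

theorem Fx_inv (α : Ω) (K : Subgroup G) (hn : ∀ g ∈ stabilizer G α, ∀ k ∈ K, g * k * g⁻¹ ∈ K)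
    (g : G) (hg : g ∈ stabilizer G α) (x : Ω) (hx : x ∈ Fx K) : g • x ∈ Fx K := by
  intro k hk
  have h1 := hn g⁻¹ (inv_mem hg) k hk
  have h2 := hx _ h1
  rw [inv_inv, mul_smul, mul_smul, inv_smul_eq_iff] at h2
  exact h2

/-- Manning's Theorem on extremely primitive groups. Let a finite group G act faithfully and primitively on a finite set Ω with non-trivial point stabilizers, and suppose every point stabilizer G_α acts primitively on each of its orbits. Then G_α acts faithfully on each of its orbits other than {α}: an element of G_α fixing every point of one such orbit is the identity. -/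
theorem result {G : Type*} [Group G] [Finite G] {Ω : Type*} [Fintype Ω] [MulAction G Ω] [FaithfulSMul G Ω] (hprim : MulAction.IsPreprimitive G Ω) (hH : ∀ α : Ω, MulAction.stabilizer G α ≠ ⊥) (hep : ∀ (α : Ω) (ω : Ω), MulAction.IsPreprimitive (MulAction.stabilizer G α) (MulAction.orbit (MulAction.stabilizer G α) ω))
    (α ω : Ω) (hω : ω ≠ α) (h : MulAction.stabilizer G α) (hfix : ∀ x ∈ MulAction.orbit (MulAction.stabilizer G α) ω, h • x = x) : h = 1 := by
  by_contra hne
  let K : Subgroup G :=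
    { carrier := {g | g ∈ stabilizer G α ∧ ∀ x ∈ orbit (stabilizer G α) ω, g • x = x}
      mul_mem' := by
        rintro a b ⟨ha, ha'⟩ ⟨hb, hb'⟩
        exact ⟨mul_mem ha hb, fun x hx => by rw [mul_smul, hb' x hx, ha' x hx]⟩
      one_mem' := ⟨one_mem _, fun x _ => one_smul _ x⟩
      inv_mem' := by
        rintro a ⟨ha, ha'⟩
        exact ⟨inv_mem ha, fun x hx => by rw [inv_smul_eq_iff, ha' x hx]⟩ }
  have hK : K ≤ stabilizer G α := fun g hg => hg.1
  have hn : ∀ g ∈ stabilizer G α, ∀ k ∈ K, g * k * g⁻¹ ∈ K := by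
    rintro g hg k ⟨hk, hk'⟩
    refine ⟨mul_mem (mul_mem hg hk) (inv_mem hg), ?_⟩
    intro x hx
    have : g⁻¹ • x ∈ orbit (stabilizer G α) ω := by
      obtain ⟨a, rfl⟩ := hx
      exact ⟨⟨g⁻¹, inv_mem hg⟩ * a, mul_smul _ _ _⟩
    rw [mul_smul, mul_smul, hk' _ this, smul_inv_smul]
  have hhK : (h : G) ∈ K := ⟨h.2, hfix⟩
  have hmoved : ∃ γ : Ω, γ ∉ Fx K := by
    by_contra hall
    push Not at hall
    apply hne
    apply Subtype.ext
    apply FaithfulSMul.eq_of_smul_eq_smul (α := Ω)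
    intro x
    rw [hall x h.1 hhK]
    simp
  obtain ⟨γ, hγ, hmax⟩ : ∃ γ, γ ∉ Fx K ∧ ∀ δ, δ ∉ Fx K → d G α δ ≤ d G α γ := by
    classical
    obtain ⟨γ0, hγ0⟩ := hmoved
    obtain ⟨γ, hγ, hmax⟩ := Finset.exists_max_image (Finset.univ.filter (fun x => x ∉ Fx K))
      (d G α) ⟨γ0, by simp [hγ0]⟩
    exact ⟨γ, by simpa using hγ, fun δ hδ => hmax δ (by simp [hδ])⟩
  have hαF : α ∈ Fx K := fun k hk => hK hk
  have hαγ : α ≠ γ := fun e => hγ (e ▸ hαF)
  obtain ⟨c, hc⟩ := exists_smul_eq G α γ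
  let K' : Subgroup G := K.comap (MulAut.conj c⁻¹).toMonoidHom
  have hmemK' : ∀ x, x ∈ K' ↔ c⁻¹ * x * c ∈ K := by
    intro x
    simp [K', Subgroup.mem_comap]
  have hK' : K' ≤ stabilizer G γ := by
    intro x hx
    have := hK ((hmemK' x).mp hx)
    rw [mem_stabilizer_iff, mul_smul, mul_smul, hc, inv_smul_eq_iff, hc] at this
    exact this
  have hn' : ∀ g ∈ stabilizer G γ, ∀ k ∈ K', g * k * g⁻¹ ∈ K' := by
    intro g hg k hk
    rw [hmemK'] at hk ⊢
    have e : c⁻¹ * (g * k * g⁻¹) * c = (c⁻¹ * g * c) * (c⁻¹ * k * c) * (c⁻¹ * g * c)⁻¹ := by group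
    rw [e]
    apply hn _ _ _ hk
    rw [mem_stabilizer_iff] at hg ⊢
    rw [mul_smul, mul_smul, hc, hg, ← hc, inv_smul_smul]
  have hFx' : ∀ x : Ω, x ∈ Fx K' ↔ c⁻¹ • x ∈ Fx K := by
    intro x
    constructor
    · intro hx k hk
      have h1 : c * k * c⁻¹ ∈ K' := by
        rw [hmemK']
        have e : c⁻¹ * (c * k * c⁻¹) * c = k := by group
        rw [e]; exact hk
      have h2 := hx _ h1
      rw [mul_smul, mul_smul] at h2
      exact eq_inv_smul_iff.mpr h2
    · intro hx k hk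
      have h2 := hx _ ((hmemK' k).mp hk)
      rw [mul_smul, mul_smul, smul_inv_smul, smul_left_cancel_iff] at h2
      exact h2
  have claim1 : ∀ β ∈ Fx K, β ≠ α → β ∈ Fx K' := by
    intro β hβ hβα
    by_contra hβ'
    have h1 : c⁻¹ • β ∉ Fx K := fun e => hβ' ((hFx' β).mpr e)
    have h2 := hmax _ h1
    have h3 : d G α (c⁻¹ • β) = d G γ β := by rw [← d_smul c, hc, smul_inv_smul]
    have h4 := lemmaA hprim hH hep α K hK hn β γ hβα hβ hγ
    rw [h3, d_symm γ β] at h2
    omega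
  have claim2 : α ∉ Fx K' := by
    intro hα'
    have hδ' : c • γ ∉ Fx K' := by rw [hFx', inv_smul_smul]; exact hγ
    have h1 := lemmaA hprim hH hep γ K' hK' hn' α (c • γ) hαγ hα' hδ'
    have h2 : d G γ (c • γ) = d G α γ := by
      have := d_smul c α γ
      rwa [hc] at this
    have hδF : c • γ ∈ Fx K := by
      by_contra e
      have := hmax _ e
      omega
    have hδα : c • γ ≠ α := fun e => hδ' (e ▸ hα')
    exact hδ' (claim1 _ hδF hδα)
  have claim3 : ∀ β ∈ Fx K', β ≠ γ → β ∈ Fx K := by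
    intro β hβ hβγ
    by_contra hβ'
    have h1 := lemmaA hprim hH hep γ K' hK' hn' β α hβγ hβ claim2
    have h2 := hmax β hβ'
    rw [d_symm γ α, d_symm β α] at h1
    omega
  have huniv := invariant_eq_univ hprim hH hαγ (Fx K \ {α})
    ⟨ω, fun k hk => hk.2 ω (mem_orbit_self ω), hω⟩
    (by
      rintro g hg x ⟨hx, hxα⟩
      refine ⟨Fx_inv α K hn g hg x hx, ?_⟩
      intro e
      apply hxα
      rw [Set.mem_singleton_iff] at e ⊢
      rw [mem_stabilizer_iff] at hg
      rw [← hg] at e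
      exact smul_left_cancel g e)
    (by
      rintro g hg x ⟨hx, hxα⟩
      have hx' : x ∈ Fx K' := claim1 x hx hxα
      have hxγ : x ≠ γ := fun e => hγ (e ▸ hx)
      have h1 : g • x ∈ Fx K' := Fx_inv γ K' hn' g hg x hx'
      have h2 : g • x ≠ γ := by
        intro e
        apply hxγ
        rw [mem_stabilizer_iff] at hg
        rw [← hg] at e
        exact smul_left_cancel g e
      refine ⟨claim3 _ h1 h2, ?_⟩
      intro e
      rw [Set.mem_singleton_iff] at e
      exact claim2 (e ▸ h1))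
  have hα : α ∈ Fx K \ {α} := by rw [huniv]; trivial
  exact hα.2 rfl

end Cfsg.Agent.S3494
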