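import Cfsg.Statements.S3495
import Cfsg.Agent.S3494
import Mathlib

set_option autoImplicit false
open Cfsg

namespace Cfsg.Agent.S3495

open MulAction
open Cfsg.Agent.S3494

/-- Let a finite group G act faithfully and primitively on a finite set Ω with non-trivial point stabilizers, each acting primitively on every one of its orbits (an extremely primitive group), and suppose G has an elementary abelian normal p-subgroup N acting regularly on Ω (affine type). Then every non-trivial subgroup M of a point stabilizer G_α that is normal in G_α has the same orbits on Ω as G_α, and normalizes no subgroup of N other than 1 and N. -/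
theorem result {G : Type*} [Group G] [Finite G] {Ω : Type*} [Fintype Ω] [MulAction G Ω] [FaithfulSMul G Ω] (hprim : MulAction.IsPreprimitive G Ω) (hH : ∀ α : Ω, MulAction.stabilizer G α ≠ ⊥) (hep : ∀ (α : Ω) (ω : Ω), MulAction.IsPreprimitive (MulAction.stabilizer G α) (MulAction.orbit (MulAction.stabilizer G α) ω))
    (N : Subgroup G) [N.Normal] (hNc : IsMulCommutative N) (p : ℕ) (hp : p.Prime) (hNp : ∀ n ∈ N, n ^ p = 1)
    (hNtr : MulAction.IsPretransitive N Ω) (hNreg : ∀ ω : Ω, MulAction.stabilizer N ω = ⊥) (α : Ω) (M : Subgroup G) (hM : M ≠ ⊥) (hMle : M ≤ MulAction.stabilizer G α)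
    (hMn : MulAction.stabilizer G α ≤ Subgroup.normalizer (M : Set G)) :
    (∀ ω : Ω, MulAction.orbit M ω = MulAction.orbit (MulAction.stabilizer G α) ω) ∧
    (∀ L : Subgroup G, L ≤ N → M ≤ Subgroup.normalizer (L : Set G) → L = ⊥ ∨ L = N) := by
  have hn : ∀ g ∈ stabilizer G α, ∀ k ∈ M, g * k * g⁻¹ ∈ M := Subgroup.le_normalizer_iff.mp hMn
  have part1 : ∀ ω : Ω, MulAction.orbit M ω = MulAction.orbit (MulAction.stabilizer G α) ω := by
    intro ω
    apply Set.Subset.antisymm
    · rintro _ ⟨⟨m, hm⟩, rfl⟩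
      exact ⟨⟨m, hMle hm⟩, rfl⟩
    · rintro _ ⟨⟨h, hh⟩, rfl⟩
      by_cases hω : ω = α
      · subst hω
        refine ⟨1, ?_⟩
        show (1 : M) • ω = h • ω
        rw [one_smul]
        exact hh.symm
      · have hωF : ω ∉ Fx M := by
          intro hωF
          obtain ⟨m, hm1⟩ := Subgroup.ne_bot_iff_exists_ne_one.mp hM
          apply hm1
          have := Cfsg.Agent.S3494.result hprim hH hep α ω hω ⟨m.1, hMle m.2⟩ (by
            rintro _ ⟨⟨g, hg⟩, rfl⟩
            exact Fx_inv α M hn g hg ω hωF m.1 m.2)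
          apply Subtype.ext
          exact congrArg (fun z : stabilizer G α => (z : G)) this
        obtain ⟨k, hk, hkω⟩ := trans_of_normal hep α M hMle hn ω hωF h hh
        exact ⟨⟨k, hk⟩, hkω⟩
  refine ⟨part1, ?_⟩
  intro L hLN hML
  have hML' : ∀ m ∈ M, ∀ l ∈ L, m * l * m⁻¹ ∈ L := Subgroup.le_normalizer_iff.mp hML
  -- regularity
  have hreg : ∀ n ∈ N, n • α = α → n = 1 := by
    intro n hn' hfix
    have : (⟨n, hn'⟩ : N) ∈ stabilizer N α := hfix
    rw [hNreg α, Subgroup.mem_bot] at this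
    exact congrArg Subtype.val this
  have hreg2 : ∀ a ∈ N, ∀ b ∈ N, a • α = b • α → a = b := by
    intro a ha b hb hab
    have h1 : (b⁻¹ * a) • α = α := by rw [mul_smul, hab, inv_smul_smul]
    have h2 := hreg _ (N.mul_mem (N.inv_mem hb) ha) h1
    exact (inv_mul_eq_one.mp h2).symm
  -- the orbit of L is invariant under M
  have hSM : ∀ m ∈ M, ∀ l ∈ L, ∃ l' ∈ L, m • l • α = l' • α := by
    intro m hm l hl
    refine ⟨m * l * m⁻¹, hML' m hm l hl, ?_⟩
    have hmα : m⁻¹ • α = α := by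
      rw [inv_smul_eq_iff]; exact (hMle hm).symm
    rw [mul_smul, mul_smul, hmα]
  have hSH : ∀ h ∈ stabilizer G α, ∀ l ∈ L, ∃ l' ∈ L, h • l • α = l' • α := by
    intro h hh l hl
    have h1 : h • l • α ∈ orbit (stabilizer G α) (l • α) := ⟨⟨h, hh⟩, rfl⟩
    rw [← part1] at h1
    obtain ⟨⟨m, hm⟩, hm'⟩ := h1
    obtain ⟨l', hl', e⟩ := hSM m hm l hl
    exact ⟨l', hl', by rw [← e]; exact hm'.symm⟩
  have hLH : ∀ h ∈ stabilizer G α, ∀ l ∈ L, h * l * h⁻¹ ∈ L := by
    intro h hh l hl
    obtain ⟨l', hl', e⟩ := hSH h hh l hl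
    have hhα : h⁻¹ • α = α := by
      rw [inv_smul_eq_iff]; exact hh.symm
    have h1 : (h * l * h⁻¹) • α = l' • α := by
      rw [mul_smul, mul_smul, hhα, e]
    have h2 : h * l * h⁻¹ ∈ N := ‹N.Normal›.conj_mem l (hLN hl) h
    rw [hreg2 _ h2 _ (hLN hl') h1]
    exact hl'
  have hLNn : ∀ n ∈ N, ∀ l ∈ L, n * l * n⁻¹ ∈ L := by
    intro n hn' l hl
    have h1 : n * l = l * n := by
      have := hNc.is_comm.comm (⟨n, hn'⟩ : N) ⟨l, hLN hl⟩
      exact congrArg Subtype.val this
    rw [h1, mul_inv_cancel_right]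
    exact hl
  have hLnormal : L.Normal := by
    refine ⟨fun l hl g => ?_⟩
    obtain ⟨⟨n, hn'⟩, hnα⟩ := hNtr.exists_smul_eq α (g • α)
    have hnα' : n • α = g • α := hnα
    have hh : n⁻¹ * g ∈ stabilizer G α := by
      rw [mem_stabilizer_iff, mul_smul, ← hnα', inv_smul_smul]
    have e : g * l * g⁻¹ = n * ((n⁻¹ * g) * l * (n⁻¹ * g)⁻¹) * n⁻¹ := by group
    rw [e]
    exact hLNn n hn' _ (hLH _ hh l hl)
  by_cases hfix : fixedPoints L Ω = Set.univ
  · left
    rw [eq_bot_iff]
    intro l hl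
    rw [Subgroup.mem_bot]
    apply FaithfulSMul.eq_of_smul_eq_smul (α := Ω)
    intro x
    have hx : x ∈ fixedPoints L Ω := by rw [hfix]; trivial
    rw [one_smul]
    exact hx ⟨l, hl⟩
  · right
    have htr : IsPretransitive L Ω := IsQuasiPreprimitive.isPretransitive_of_normal hfix
    apply le_antisymm hLN
    intro n hn'
    obtain ⟨⟨l, hl⟩, hlα⟩ := htr.exists_smul_eq α (n • α)
    have hlα' : l • α = n • α := hlα
    rw [← hreg2 l (hLN hl) n hn' hlα']
    exact hl

end Cfsg.Agent.S3495
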