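import Cfsg.Statements.S3496
import Cfsg.Agent.S3495
import Cfsg.Agent.Lib.H30XpMinN
import Cfsg.Agent.Lib.H30XpMinT
import Cfsg.Agent.Lib.H30XpSemi2
import Cfsg.Agent.Lib.H30XpTrans
import Cfsg.Agent.Lib.H30XpGen
import Cfsg.Agent.Lib.H30XpCardT

set_option autoImplicit false
open Cfsg

namespace Cfsg.Agent.S3496

/-- The soluble extremely primitive groups. Let a finite solvable group G act faithfully and primitively on a finite set Ω with p ^ d points (p prime), with non-trivial point stabilizers each acting primitively on every one of its orbits. Then there is a prime q such that every orbit of a point stabilizer G_α other than {α} has exactly q points, q divides p ^ d − 1 but no p ^ i − 1 with 0 < i < d, and G_α has a normal subgroup T of order q with G_α generated by T and one further element and the order of G_α dividing q·d (so G_α is cyclic of order q, or an extension of T by a cyclic group of order dividing d). -/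
theorem result {G : Type*} [Group G] [Finite G] {Ω : Type*} [Fintype Ω] [MulAction G Ω] [FaithfulSMul G Ω] [Group.IsSolvable G] (p d : ℕ) (hp : p.Prime) (hcard : Fintype.card Ω = p ^ d)
    (hprim : MulAction.IsPreprimitive G Ω) (hH : ∀ α : Ω, MulAction.stabilizer G α ≠ ⊥) (hep : ∀ (α : Ω) (ω : Ω), MulAction.IsPreprimitive (MulAction.stabilizer G α) (MulAction.orbit (MulAction.stabilizer G α) ω)) (α : Ω) :
    ∃ q : ℕ, q.Prime ∧ (∀ ω : Ω, ω ≠ α → Nat.card (MulAction.orbit (MulAction.stabilizer G α) ω) = q) ∧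
      q ∣ p ^ d - 1 ∧ (∀ i : ℕ, 0 < i → i < d → ¬ q ∣ p ^ i - 1) ∧
      ∃ T : Subgroup G, T ≤ MulAction.stabilizer G α ∧ MulAction.stabilizer G α ≤ Subgroup.normalizer (T : Set G) ∧ Nat.card T = q ∧
        (∃ h : G, MulAction.stabilizer G α = T ⊔ Subgroup.zpowers h) ∧ Nat.card (MulAction.stabilizer G α) ∣ q * d := by
  have : Fact p.Prime := ⟨hp⟩
  obtain ⟨N, hNn, hN, hNc, hNp, hNcard, hNtr, hNreg, hcent⟩ :=
    Cfsg.Agent.Lib.H30XpMinN.exists_N p d hp hcard hprim α (hH α)
  have := hNn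
  obtain ⟨T, q, hq, hT, hTle, hTn, hTab, hTexp⟩ :=
    Cfsg.Agent.Lib.H30XpMinT.exists_T (MulAction.stabilizer G α) (hH α)
  obtain ⟨hO, hI⟩ := Cfsg.Agent.S3495.result hprim hH hep N hNc p hp hNp hNtr hNreg α T hT hTle hTn
  obtain ⟨hS1, hS2⟩ := Cfsg.Agent.Lib.H30XpSemi2.semi N hN hNtr hNreg α hcent T hTle hTab hO hI
  obtain ⟨hcyc, hB1, hB2, hC⟩ := Cfsg.Agent.Lib.H30XpTrans.group_field p d N hN hNc hNp hNcard
    (MulAction.stabilizer G α) T hcent hTle hTn hTab hI
  have hcT : Nat.card T = q := Cfsg.Agent.Lib.H30XpCardT.card_eq T q hq hcyc hT hTexp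
  refine ⟨q, hq, ?_, ?_, ?_, T, hTle, hTn, hcT,
    Cfsg.Agent.Lib.H30XpGen.exists_gen _ T q hq hcT hTle hTn hS2.le, ?_⟩
  · intro ω hω
    rw [hS1 ω hω, hcT]
  · exact Cfsg.Agent.Lib.H30XpCardT.dvd_sub_one T q (p ^ d) hq hcT (pow_pos hp.pos d) hB2
  · intro i hi hid hdvd
    have h1 := hB1 i hi (Cfsg.Agent.Lib.H30XpCardT.pow_eq_self T q (p ^ i) hcT (pow_pos hp.pos i) hdvd)
    omega
  · rw [hS2] at hC
    have h1 := Subgroup.relIndex_mul_relIndex ⊥ T (MulAction.stabilizer G α) bot_le hTle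
    rw [Subgroup.relIndex_bot_left, Subgroup.relIndex_bot_left, hcT] at h1
    rw [← h1]
    exact mul_dvd_mul_left q hC

end Cfsg.Agent.S3496
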