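import Cfsg.Statements.S3501
import Cfsg.Agent.Lib.H42DcDefs
import Cfsg.Agent.Lib.H42DcCard
import Cfsg.Agent.Lib.H42DcCardG
import Cfsg.Agent.Lib.H42DcCardDer
import Cfsg.Agent.Lib.H42DcCent
import Cfsg.Agent.Lib.H42DcCount
import Cfsg.Agent.Lib.H42DcJordan
import Cfsg.Agent.Lib.H42DcPG
import Cfsg.Agent.Lib.H42DcSemi
import Cfsg.Agent.Lib.H42DcSharp
import Cfsg.Agent.Lib.H42DcTwoTr
import Cfsg.Agent.Lib.H42DcExN
import Cfsg.Agent.Lib.H42DcExT
import Cfsg.Agent.Lib.H42DcConjMin
import Cfsg.Agent.Lib.H42DcTwo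
import Cfsg.Agent.Lib.H42DcDecomp
import Cfsg.Agent.Lib.H42DcZT
import Cfsg.Agent.Lib.H42DcSimple
import Cfsg.Agent.Lib.H42DcRTop
import Cfsg.Agent.Lib.H42DcSemiT
import Cfsg.Agent.S0547

set_option autoImplicit false
open Cfsg

namespace Cfsg.Agent.S3501

open Cfsg.Agent.Lib Cfsg.Agent.Lib.H42DcDefs

theorem transOn_of_normal {G : Type*} [Group G] {Ω : Type*} [MulAction G Ω] [FaithfulSMul G Ω]
    (hprim : MulAction.IsPreprimitive G Ω) (M : Subgroup G) (hMn : M.Normal) (hM : M ≠ ⊥) :
    TransOn Ω M := by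
  haveI := hMn
  have h := Cfsg.Agent.S0547.trans hprim M hM
  intro a b
  obtain ⟨n, hn⟩ := h.exists_smul_eq a b
  exact ⟨n.1, n.2, hn⟩

theorem forward {G : Type*} [Group G] [Finite G] {Ω : Type*} [Fintype Ω] [MulAction G Ω]
    [FaithfulSMul G Ω] (hΩ : 2 ≤ Fintype.card Ω) (hprim : MulAction.IsPreprimitive G Ω)
    (hnas : ¬ ∃ T : Subgroup G, T.Normal ∧ IsSimpleGroup T ∧ ¬ IsMulCommutative T ∧
      Subgroup.centralizer (T : Set G) = ⊥) (h1 : OneClass G Ω) :
    MulAction.IsMultiplyPretransitive G Ω 2 ∧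
      ∀ g : G, g ≠ 1 → ∀ a b : Ω, a ≠ b → g • a = a → g • b ≠ b := by
  classical
  obtain ⟨d0, hd0⟩ := h1.1
  obtain ⟨α, β, hαβ⟩ := Fintype.one_lt_card_iff.mp hΩ
  haveI : Nontrivial G := ⟨⟨d0, 1, fun h => hd0 α (by rw [h, one_smul])⟩⟩
  obtain ⟨N, hN⟩ := H42DcExN.exists_minNormal (G := G)
  have hNn : N.Normal := hN.1
  have htr : TransOn Ω N := transOn_of_normal hprim N hN.1 hN.2.1
  obtain ⟨d, hdN, hd⟩ := H42DcJordan.exists_der hΩ N htr
  have hD : ∀ g : G, IsDer Ω g → g ∈ N := by
    intro g hg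
    obtain ⟨c, hc⟩ := h1.2 d g hd hg
    rw [← hc]
    exact hNn.conj_mem d hdN c
  by_cases hab : Comm N N
  · have hsr : SemiReg Ω N := H42DcSemi.semireg_of_comm N N htr hab
    exact ⟨H42DcTwoTr.two_trans h1 N hab htr hsr, H42DcSharp.sharp_of N hNn htr hsr hD⟩
  · exfalso
    obtain ⟨T, hT⟩ := H42DcExT.exists_minInv N hN.2.1
    have hA : ∀ g : G, cj g T = T ∨ Comm T (cj g T) := fun g =>
      H42DcTwo.eq_or_comm N T (cj g T) hT (H42DcConjMin.minInv_cj N T hNn hT g)
    have hdec := H42DcDecomp.decomp N T hN hT hA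
    have hZ := H42DcZT.center_trivial N T hN hab hT hdec
    -- `T` is not semiregular
    have hnsr : ¬ SemiReg Ω T := by
      intro hsr
      obtain ⟨z, hzT, hz1, hzc⟩ := H42DcPG.exists_central h1 T hT.1 hsr
      have : z ∈ T ⊓ cen N T := ⟨hzT, (mem_cen N T z).mpr ⟨hT.2.1 hzT, hzc⟩⟩
      rw [hZ] at this
      exact hz1 (Subgroup.mem_bot.mp this)
    by_cases hTN : T = N
    · subst hTN
      have hsimple : IsSimpleGroup ↥T := H42DcSimple.simple_of_minInv T hT
      have hncomm : ¬ IsMulCommutative ↥T := by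
        intro hc
        apply hab
        intro a ha b hb
        have := hc.is_comm.comm (⟨a, ha⟩ : ↥T) ⟨b, hb⟩
        exact congrArg Subtype.val this
      have hcen : Subgroup.centralizer (T : Set G) ≠ ⊥ := fun h =>
        hnas ⟨T, hNn, hsimple, hncomm, h⟩
      have hcn : (Subgroup.centralizer (T : Set G)).Normal := inferInstance
      have hctr := transOn_of_normal hprim _ hcn hcen
      apply hnsr
      apply H42DcSemi.semireg_of_comm _ T hctr
      intro k hk y hy
      exact ((Subgroup.mem_centralizer_iff.mp hk) y hy).symm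
    · have hC : cen N T ≠ ⊥ := by
        intro hC
        apply hTN
        apply le_antisymm hT.2.1
        intro n hn
        obtain ⟨t, ht, c, hc, rfl⟩ := hdec n hn
        rw [hC, Subgroup.mem_bot] at hc
        rw [hc, mul_one]
        exact ht
      have hR := H42DcRTop.partner h1 N T hNn hT.2.1 htr hdec hA hZ hC α
      exact hnsr (H42DcSemiT.semireg_T N T hT htr hdec α hR)

/-- Let a finite group G act faithfully and primitively on a finite set Ω with at least two points, and suppose G is not almost simple (it has no non-abelian simple normal subgroup with trivial centralizer). Then the derangements of G form a single conjugacy class if and only if G is sharply 2-transitive (2-transitive, and no non-identity element fixes two points). -/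
theorem result {G : Type*} [Group G] [Finite G] {Ω : Type*} [Fintype Ω] [MulAction G Ω] [FaithfulSMul G Ω] (hΩ : 2 ≤ Fintype.card Ω) (hprim : MulAction.IsPreprimitive G Ω) (hnas : ¬ ∃ T : Subgroup G, T.Normal ∧ IsSimpleGroup T ∧ ¬ IsMulCommutative T ∧ Subgroup.centralizer (T : Set G) = ⊥) :
    Nat.card {c : ConjClasses G // ∃ g : G, ConjClasses.mk g = c ∧ ∀ ω : Ω, g • ω ≠ ω} = 1 ↔ (MulAction.IsMultiplyPretransitive G Ω 2 ∧ ∀ g : G, g ≠ 1 → ∀ a b : Ω, a ≠ b → g • a = a → g • b ≠ b) := by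
  classical
  rw [H42DcCard.card_iff]
  constructor
  · intro h1
    exact forward hΩ hprim hnas h1
  · rintro ⟨h2, hs⟩
    have htr : MulAction.IsPretransitive G Ω := MulAction.isPretransitive_of_is_two_pretransitive
    exact H42DcCount.oneClass_of_count hΩ (H42DcCardG.card_G hΩ h2 hs)
      (H42DcCardDer.card_der hΩ htr hs) (fun x hx => H42DcCent.card_centralizer_le hΩ hs x hx)

end Cfsg.Agent.S3501
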