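import Cfsg.Statements.S3520
import Cfsg.Agent.Lib.Helper63Prim2
import Cfsg.Agent.Lib.Helper63Cen

set_option autoImplicit false
open Cfsg

namespace Cfsg.Agent.S3520

open MulAction Cfsg.Agent.Lib.Helper63Derange Cfsg.Agent.Lib.Helper63Prim
  Cfsg.Agent.Lib.Helper63Prim2 Cfsg.Agent.Lib.Helper63Cen

section
variable {G Ω : Type*} [Group G] [Finite G] [MulAction G Ω]

theorem three_conj
    (hκ : Nat.card {c : ConjClasses G // ∃ g : G, ConjClasses.mk g = c ∧ ∀ ω : Ω, g • ω ≠ ω} = 2)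
    (g₁ g₂ g₃ : G) (h₁ : ∀ ω : Ω, g₁ • ω ≠ ω) (h₂ : ∀ ω : Ω, g₂ • ω ≠ ω)
    (h₃ : ∀ ω : Ω, g₃ • ω ≠ ω) : IsConj g₁ g₂ ∨ IsConj g₁ g₃ ∨ IsConj g₂ g₃ := by
  obtain ⟨x, y, _, hxy⟩ := Nat.card_eq_two_iff.mp hκ
  let c : ∀ (g : G), (∀ ω : Ω, g • ω ≠ ω) →
      {c : ConjClasses G // ∃ g : G, ConjClasses.mk g = c ∧ ∀ ω : Ω, g • ω ≠ ω} :=
    fun g h => ⟨ConjClasses.mk g, g, rfl, h⟩
  have hc : ∀ g h, c g h = x ∨ c g h = y := by
    intro g h
    have : c g h ∈ ({x, y} : Set _) := by rw [hxy]; trivial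
    simpa using this
  have hconj : ∀ g h g' h', c g h = c g' h' → IsConj g g' := by
    intro g h g' h' he
    exact ConjClasses.mk_eq_mk_iff_isConj.mp (congrArg Subtype.val he)
  rcases hc g₁ h₁ with a | a <;> rcases hc g₂ h₂ with b | b <;> rcases hc g₃ h₃ with d | d
  · exact Or.inl (hconj g₁ h₁ g₂ h₂ (a.trans b.symm))
  · exact Or.inl (hconj g₁ h₁ g₂ h₂ (a.trans b.symm))
  · exact Or.inr (Or.inl (hconj g₁ h₁ g₃ h₃ (a.trans d.symm)))
  · exact Or.inr (Or.inr (hconj g₂ h₂ g₃ h₃ (b.trans d.symm)))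
  · exact Or.inr (Or.inr (hconj g₂ h₂ g₃ h₃ (b.trans d.symm)))
  · exact Or.inr (Or.inl (hconj g₁ h₁ g₃ h₃ (a.trans d.symm)))
  · exact Or.inl (hconj g₁ h₁ g₂ h₂ (a.trans b.symm))
  · exact Or.inl (hconj g₁ h₁ g₂ h₂ (a.trans b.symm))

theorem two_nonconj
    (hκ : Nat.card {c : ConjClasses G // ∃ g : G, ConjClasses.mk g = c ∧ ∀ ω : Ω, g • ω ≠ ω} = 2) :
    ∃ g₁ g₂ : G, (∀ ω : Ω, g₁ • ω ≠ ω) ∧ (∀ ω : Ω, g₂ • ω ≠ ω) ∧ ¬ IsConj g₁ g₂ := by
  obtain ⟨⟨x, g₁, hx, h₁⟩, ⟨y, g₂, hy, h₂⟩, hne, _⟩ := Nat.card_eq_two_iff.mp hκ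
  refine ⟨g₁, g₂, h₁, h₂, fun h => hne ?_⟩
  apply Subtype.ext
  simp only
  rw [← hx, ← hy]
  exact ConjClasses.mk_eq_mk_iff_isConj.mpr h

/-- three pairwise non-conjugate derangements from an intransitive direct factor -/
theorem three_classes (N A B : Subgroup G) [hN : N.Normal] [IsPretransitive N Ω] [Nonempty Ω]
    (hA : A ≤ N) (hB : B ≤ N)
    (hAB : ∀ b ∈ B, ∀ a ∈ A, a * b = b * a) (hdec : ∀ n ∈ N, ∃ a ∈ A, ∃ b ∈ B, n = a * b)
    (hint : ∀ x, x ∈ A → x ∈ B → x = 1) (hB1 : B ≠ ⊥)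
    (hZB : B ⊓ Subgroup.centralizer (B : Set G) = ⊥) (hBt : ¬ IsPretransitive B Ω) :
    ∃ g₁ g₂ g₃ : G, (∀ ω : Ω, g₁ • ω ≠ ω) ∧ (∀ ω : Ω, g₂ • ω ≠ ω) ∧ (∀ ω : Ω, g₃ • ω ≠ ω) ∧
      ¬ IsConj g₁ g₂ ∧ ¬ IsConj g₁ g₃ ∧ ¬ IsConj g₂ g₃ := by
  obtain ⟨x, hx, hxy⟩ := jordan2 (Ω := Ω) N A B hAB hdec hBt
  obtain ⟨y₂, y₃, hy₂, hy₃, hy₂1, hy₃1, hne⟩ := two_cenCard B hB1 hZB
  have hmul : ∀ y ∈ B, cenCard N (x * y) = cenCard A x * cenCard B y :=
    fun y hy => cenCard_mul N A B hA hB hAB hdec hint x y hx hy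
  have hpos : 0 < cenCard A x := cenCard_pos A x
  have hnc : ∀ y ∈ B, ∀ y' ∈ B, cenCard B y ≠ cenCard B y' → ¬ IsConj (x * y) (x * y') := by
    intro y hy y' hy' hne' hc
    have := cenCard_eq_of_isConj N hc
    rw [hmul y hy, hmul y' hy'] at this
    exact hne' (Nat.eq_of_mul_eq_mul_left hpos this)
  refine ⟨x * 1, x * y₂, x * y₃, hxy 1 B.one_mem, hxy y₂ hy₂, hxy y₃ hy₃,
    hnc 1 B.one_mem y₂ hy₂ ?_, hnc 1 B.one_mem y₃ hy₃ ?_, hnc y₂ hy₂ y₃ hy₃ hne⟩
  · rw [cenCard_one]; exact (cenCard_ne_card B hZB y₂ hy₂ hy₂1).symm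
  · rw [cenCard_one]; exact (cenCard_ne_card B hZB y₃ hy₃ hy₃1).symm

theorem card_fixedBy_conj [Finite Ω] (g x : G) :
    Nat.card (fixedBy Ω (g * x * g⁻¹)) = Nat.card (fixedBy Ω x) := by
  apply Nat.card_congr
  refine ⟨fun ω => ⟨g⁻¹ • ω.1, ?_⟩, fun ω => ⟨g • ω.1, ?_⟩, ?_, ?_⟩
  · have := ω.2
    rw [mem_fixedBy] at this ⊢
    rw [mul_smul, mul_smul] at this
    have h2 := congrArg (fun z => g⁻¹ • z) this
    simpa using h2
  · have := ω.2
    rw [mem_fixedBy] at this ⊢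
    rw [mul_smul, mul_smul, inv_smul_smul, this]
  · intro ω; simp
  · intro ω; simp


theorem both_transitive_false [FaithfulSMul G Ω] [Finite Ω] [Nonempty Ω]
    (hκ : Nat.card {c : ConjClasses G // ∃ g : G, ConjClasses.mk g = c ∧ ∀ ω : Ω, g • ω ≠ ω} = 2)
    (N T M : Subgroup G) [hN : N.Normal] (hT1 : T ≠ ⊥) (hT : T ≤ N) (hM : M ≤ N)
    (hTM : ∀ m ∈ M, ∀ t ∈ T, t * m = m * t) (hdec : ∀ n ∈ N, ∃ t ∈ T, ∃ m ∈ M, n = t * m)
    (hint : ∀ x, x ∈ T → x ∈ M → x = 1)
    (hZT : T ⊓ Subgroup.centralizer (T : Set G) = ⊥)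
    (hZM : M ⊓ Subgroup.centralizer (M : Set G) = ⊥)
    (halt : ∀ g : G, (∀ t ∈ T, g * t * g⁻¹ ∈ T) ∨ (∀ t ∈ T, g * t * g⁻¹ ∈ M))
    (hMt : IsPretransitive M Ω) : False := by
  classical
  have hTder : ∀ t ∈ T, t ≠ 1 → ∀ ω : Ω, t • ω ≠ ω := by
    intro t ht ht1 ω hω
    exact ht1 (eq_one_of_commute_transitive M t (fun c hc => (hTM c hc t ht).symm) ω hω)
  obtain ⟨t₁, t₂, ht₁, ht₂, ht₁1, ht₂1, hne⟩ := two_cenCard T hT1 hZT
  have hnc : ¬ IsConj t₁ t₂ := by
    intro hc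
    have h1 := cenCard_eq_of_isConj N hc
    have e1 := cenCard_mul N T M hT hM hTM hdec hint t₁ 1 ht₁ M.one_mem
    have e2 := cenCard_mul N T M hT hM hTM hdec hint t₂ 1 ht₂ M.one_mem
    rw [mul_one] at e1 e2
    rw [e1, e2] at h1
    exact hne (Nat.eq_of_mul_eq_mul_right (cenCard_pos M 1) h1)
  have hder_mem : ∀ d : G, (∀ ω : Ω, d • ω ≠ ω) → d ∈ T ∨ d ∈ M := by
    intro d hd
    have key : ∀ t ∈ T, IsConj t d → d ∈ T ∨ d ∈ M := by
      intro t ht hc
      obtain ⟨g, rfl⟩ := isConj_iff.mp hc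
      rcases halt g with h | h
      · exact Or.inl (h t ht)
      · exact Or.inr (h t ht)
    rcases three_conj hκ t₁ t₂ d (hTder t₁ ht₁ ht₁1) (hTder t₂ ht₂ ht₂1) hd with h | h | h
    · exact (hnc h).elim
    · exact key t₁ ht₁ h
    · exact key t₂ ht₂ h
  haveI := Fintype.ofFinite M
  let f : M → ℕ := fun m => Nat.card (fixedBy Ω (t₁ * (m : G)))
  have hsum : ∑ m : M, f m = Nat.card M := sum_fixedBy_coset M t₁
  have hf1 : f 1 = 0 := by
    simp only [f, Subgroup.coe_one, mul_one]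
    haveI : IsEmpty (fixedBy Ω t₁) := ⟨fun ω => hTder t₁ ht₁ ht₁1 ω.1 ω.2⟩
    simp
  have hfpos : ∀ m : M, m ≠ 1 → 1 ≤ f m := by
    intro m hm
    have hnd : ¬ ∀ ω : Ω, (t₁ * (m : G)) • ω ≠ ω := by
      intro hd
      rcases hder_mem _ hd with h | h
      · apply hm
        apply Subtype.ext
        apply hint _ _ m.2
        have := T.mul_mem (T.inv_mem ht₁) h
        simpa using this
      · apply ht₁1
        apply hint _ ht₁
        have := M.mul_mem h (M.inv_mem m.2)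
        simpa using this
    push Not at hnd
    obtain ⟨ω, hω⟩ := hnd
    haveI : Nonempty (fixedBy Ω (t₁ * (m : G))) := ⟨⟨ω, hω⟩⟩
    exact Nat.card_pos
  have hsum' : ∑ m ∈ Finset.univ.erase (1 : M), f m = Nat.card M := by
    rw [← hsum, ← Finset.add_sum_erase Finset.univ f (Finset.mem_univ (1 : M)), hf1, zero_add]
  have hcard : (Finset.univ.erase (1 : M)).card + 1 = Nat.card M := by
    rw [Finset.card_erase_of_mem (Finset.mem_univ _), Finset.card_univ, Nat.card_eq_fintype_card]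
    have : 0 < Fintype.card M := Fintype.card_pos
    omega
  obtain ⟨m₀, hm₀, hfm₀⟩ : ∃ m₀ : M, m₀ ≠ 1 ∧ 2 ≤ f m₀ := by
    by_contra hcon
    push Not at hcon
    have : ∑ m ∈ Finset.univ.erase (1 : M), f m = (Finset.univ.erase (1 : M)).card := by
      rw [Finset.card_eq_sum_ones]
      apply Finset.sum_congr rfl
      intro m hm
      have h1 := hfpos m (Finset.ne_of_mem_erase hm)
      have h2 := hcon m (Finset.ne_of_mem_erase hm)
      omega
    omega
  have hcentral : ∀ m' : M, m' * m₀ * m'⁻¹ = m₀ := by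
    intro m'
    by_contra hne'
    set m₁ := m' * m₀ * m'⁻¹ with hm₁
    have hm₁1 : m₁ ≠ 1 := by
      intro h
      apply hm₀
      have := congrArg (fun z => m'⁻¹ * z * m') h
      simpa [hm₁, mul_assoc] using this
    have hfm₁ : f m₁ = f m₀ := by
      simp only [f]
      have e : t₁ * ((m₁ : M) : G) = (m' : G) * (t₁ * (m₀ : G)) * (m' : G)⁻¹ := by
        have c := hTM m' m'.2 t₁ ht₁
        simp only [hm₁, Subgroup.coe_mul, Subgroup.coe_inv]
        calc t₁ * ((m' : G) * (m₀ : G) * (m' : G)⁻¹) = (t₁ * (m' : G)) * (m₀ : G) * (m' : G)⁻¹ := by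
              group
          _ = ((m' : G) * t₁) * (m₀ : G) * (m' : G)⁻¹ := by rw [c]
          _ = (m' : G) * (t₁ * (m₀ : G)) * (m' : G)⁻¹ := by group
      rw [e, card_fixedBy_conj]
    have hsub : ({m₀, m₁} : Finset M) ⊆ Finset.univ.erase (1 : M) := by
      intro z hz
      simp only [Finset.mem_insert, Finset.mem_singleton] at hz
      rcases hz with rfl | rfl
      · exact Finset.mem_erase.mpr ⟨hm₀, Finset.mem_univ _⟩
      · exact Finset.mem_erase.mpr ⟨hm₁1, Finset.mem_univ _⟩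
    have h1 : ∑ m ∈ Finset.univ.erase (1 : M), (f m - 1) + (Finset.univ.erase (1 : M)).card
        = ∑ m ∈ Finset.univ.erase (1 : M), f m := by
      rw [Finset.card_eq_sum_ones, ← Finset.sum_add_distrib]
      apply Finset.sum_congr rfl
      intro m hm
      have := hfpos m (Finset.ne_of_mem_erase hm)
      omega
    have h2 : ∑ m ∈ ({m₀, m₁} : Finset M), (f m - 1)
        ≤ ∑ m ∈ Finset.univ.erase (1 : M), (f m - 1) :=
      Finset.sum_le_sum_of_subset hsub
    rw [Finset.sum_pair (Ne.symm hne'), hfm₁] at h2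
    omega
  apply hm₀
  have : (m₀ : G) ∈ M ⊓ Subgroup.centralizer (M : Set G) := by
    refine Subgroup.mem_inf.mpr ⟨m₀.2, ?_⟩
    rw [Subgroup.mem_centralizer_iff]
    intro s hs
    have h := congrArg Subtype.val (hcentral ⟨s, hs⟩)
    simp only [Subgroup.coe_mul, Subgroup.coe_inv] at h
    have := congrArg (fun z => z * s) h
    simpa using this
  rw [hZM, Subgroup.mem_bot] at this
  exact Subtype.ext this

theorem abelian_min_normal [FaithfulSMul G Ω] [Finite Ω] [Nonempty Ω] (hprim : IsPreprimitive G Ω)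
    (hnas : ¬ ∃ T : Subgroup G, T.Normal ∧ IsSimpleGroup T ∧ ¬ IsMulCommutative T ∧
      Subgroup.centralizer (T : Set G) = ⊥)
    (hκ : Nat.card {c : ConjClasses G // ∃ g : G, ConjClasses.mk g = c ∧ ∀ ω : Ω, g • ω ≠ ω} = 2)
    (N : Subgroup G) (hN : N.Normal) (hN1 : N ≠ ⊥)
    (hmin : ∀ M : Subgroup G, M.Normal → M ≠ ⊥ → M ≤ N → M = N) :
    ∀ a ∈ N, ∀ b ∈ N, a * b = b * a := by
  classical
  by_contra hnab
  haveI := hN
  haveI hNt : IsPretransitive N Ω := pretransitive_of_normal N hN1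
  have hZN : N ⊓ Subgroup.centralizer (N : Set G) = ⊥ := by
    by_contra hne
    have h1 : N ⊓ Subgroup.centralizer (N : Set G) = N := hmin _ inferInstance hne inf_le_left
    apply hnab
    intro a ha b hb
    have : b ∈ N ⊓ Subgroup.centralizer (N : Set G) := by rw [h1]; exact hb
    exact (Subgroup.mem_centralizer_iff.mp (Subgroup.mem_inf.mp this).2) a ha
  have hthree : ∀ g₁ g₂ g₃ : G, (∀ ω : Ω, g₁ • ω ≠ ω) → (∀ ω : Ω, g₂ • ω ≠ ω) →
      (∀ ω : Ω, g₃ • ω ≠ ω) → ¬ IsConj g₁ g₂ → ¬ IsConj g₁ g₃ → ¬ IsConj g₂ g₃ → False := by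
    intro g₁ g₂ g₃ h₁ h₂ h₃ n₁ n₂ n₃
    rcases three_conj hκ g₁ g₂ g₃ h₁ h₂ h₃ with h | h | h
    · exact n₁ h
    · exact n₂ h
    · exact n₃ h
  by_cases hC : Subgroup.centralizer (N : Set G) = ⊥
  · -- N is not simple
    have hns : ∃ S₀ : Subgroup G, S₀ ≤ N ∧ Cfsg.Agent.Lib.Helper63Prim2.Inv N S₀ ∧ S₀ ≠ ⊥ ∧ S₀ ≠ N := by
      by_contra hcon
      push Not at hcon
      apply hnas
      refine ⟨N, hN, ?_, ?_, hC⟩
      · haveI : Nontrivial N := (Subgroup.nontrivial_iff_ne_bot N).mpr hN1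
        refine ⟨fun H hH => ?_⟩
        by_cases hb : H.map N.subtype = ⊥
        · left
          exact (Subgroup.map_eq_bot_iff_of_injective H N.subtype_injective).mp hb
        · right
          have h := hcon (H.map N.subtype) (Subgroup.map_subtype_le H) (by
            intro n hn x hx
            obtain ⟨y, hy, rfl⟩ := Subgroup.mem_map.mp hx
            exact Subgroup.mem_map.mpr ⟨⟨n, hn⟩ * y * ⟨n, hn⟩⁻¹, hH.conj_mem y hy ⟨n, hn⟩, rfl⟩) hb
          rw [eq_top_iff]
          intro x _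
          have : (x : G) ∈ H.map N.subtype := by rw [h]; exact x.2
          obtain ⟨y, hy, hyx⟩ := Subgroup.mem_map.mp this
          have : y = x := Subtype.ext hyx
          rwa [← this]
      · intro hcomm
        apply hnab
        intro a ha b hb
        exact congrArg Subtype.val (hcomm.is_comm.comm (⟨a, ha⟩ : N) ⟨b, hb⟩)
    obtain ⟨S₀, hS₀, hS₀inv, hS₀1, hS₀N⟩ := hns
    obtain ⟨T, M, hT1, hM1, hT, hM, _, hTM, hdec, hint, hZT, hZM, halt, _⟩ :=
      structure_min_normal N hN hmin hZN S₀ hS₀ hS₀inv hS₀1 hS₀N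
    by_cases hMt : IsPretransitive M Ω
    · exact both_transitive_false hκ N T M hT1 hT hM hTM hdec hint hZT hZM halt hMt
    · obtain ⟨g₁, g₂, g₃, h₁, h₂, h₃, n₁, n₂, n₃⟩ :=
        three_classes (Ω := Ω) N T M hT hM hTM hdec hint hM1 hZM hMt
      exact hthree g₁ g₂ g₃ h₁ h₂ h₃ n₁ n₂ n₃
  · -- the centralizer is a second regular normal subgroup
    haveI hCt : IsPretransitive (Subgroup.centralizer (N : Set G)) Ω :=
      pretransitive_of_normal _ hC
    have hNder : ∀ x ∈ N, x ≠ 1 → ∀ ω : Ω, x • ω ≠ ω := by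
      intro x hx hx1 ω hω
      exact hx1 (eq_one_of_commute_transitive (Subgroup.centralizer (N : Set G)) x
        (fun c hc => ((Subgroup.mem_centralizer_iff.mp hc) x hx).symm) ω hω)
    have hCder : ∀ c ∈ Subgroup.centralizer (N : Set G), c ≠ 1 → ∀ ω : Ω, c • ω ≠ ω := by
      intro c hc hc1 ω hω
      exact hc1 (eq_one_of_commute_transitive N c
        (fun x hx => (Subgroup.mem_centralizer_iff.mp hc) x hx) ω hω)
    obtain ⟨a, b, ha, hb, ha1, hb1, hne⟩ := two_cenCard N hN1 hZN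
    obtain ⟨c, hc, hc1⟩ : ∃ c : G, c ∈ Subgroup.centralizer (N : Set G) ∧ c ≠ 1 := by
      obtain ⟨c, hc⟩ := Subgroup.ne_bot_iff_exists_ne_one.mp hC
      exact ⟨c.1, c.2, fun h => hc (Subtype.ext h)⟩
    have hnc : ∀ x ∈ N, ¬ IsConj x c := by
      intro x hx hconj
      obtain ⟨g, rfl⟩ := isConj_iff.mp hconj
      have : g * x * g⁻¹ ∈ N ⊓ Subgroup.centralizer (N : Set G) :=
        Subgroup.mem_inf.mpr ⟨hN.conj_mem x hx g, hc⟩
      rw [hZN, Subgroup.mem_bot] at this
      exact hc1 this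
    exact hthree a b c (hNder a ha ha1) (hNder b hb hb1) (hCder c hc hc1)
      (fun h => hne (cenCard_eq_of_isConj N h)) (hnc a ha) (hnc b hb)


open Classical in
/-- The basic count: excess fixed points versus number of derangements. -/
theorem count [Finite Ω] [Nonempty Ω] [IsPretransitive G Ω] [Fintype G] :
    ∑ g ∈ (Finset.univ.filter (fun g : G => ¬ ∀ ω : Ω, g • ω ≠ ω)).erase 1,
        (Nat.card (fixedBy Ω g) - 1) + Nat.card Ω
      = 1 + (Finset.univ.filter (fun g : G => ∀ ω : Ω, g • ω ≠ ω)).card := by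
  set D := Finset.univ.filter (fun g : G => ∀ ω : Ω, g • ω ≠ ω) with hD
  set D' := Finset.univ.filter (fun g : G => ¬ ∀ ω : Ω, g • ω ≠ ω) with hD'
  have h1 : ∑ g : G, Nat.card (fixedBy Ω g) = Nat.card G := by
    rw [burnside, card_quotient_of_pretransitive, one_mul]
  have h2 : ∑ g : G, Nat.card (fixedBy Ω g)
      = ∑ g ∈ D, Nat.card (fixedBy Ω g) + ∑ g ∈ D', Nat.card (fixedBy Ω g) :=
    (Finset.sum_filter_add_sum_filter_not _ _ _).symm
  have h3 : ∑ g ∈ D, Nat.card (fixedBy Ω g) = 0 := by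
    apply Finset.sum_eq_zero
    intro g hg
    have hg' : ∀ ω : Ω, g • ω ≠ ω := by simpa [hD] using hg
    haveI : IsEmpty (fixedBy Ω g) := ⟨fun ω => hg' ω.1 ω.2⟩
    simp
  have h1mem : (1 : G) ∈ D' := by
    simp only [hD', Finset.mem_filter, Finset.mem_univ, true_and]
    intro h
    exact h (Classical.arbitrary Ω) (one_smul _ _)
  have h4 : ∑ g ∈ D', Nat.card (fixedBy Ω g)
      = Nat.card Ω + ∑ g ∈ D'.erase 1, Nat.card (fixedBy Ω g) := by
    rw [← Finset.add_sum_erase D' _ h1mem]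
    congr 1
    apply Nat.card_congr
    exact ⟨fun x => x.1, fun x => ⟨x, one_smul _ _⟩, fun x => rfl, fun x => rfl⟩
  have h5 : ∑ g ∈ D'.erase 1, Nat.card (fixedBy Ω g)
      = ∑ g ∈ D'.erase 1, (Nat.card (fixedBy Ω g) - 1) + (D'.erase 1).card := by
    rw [Finset.card_eq_sum_ones, ← Finset.sum_add_distrib]
    apply Finset.sum_congr rfl
    intro g hg
    have hg' : ¬ ∀ ω : Ω, g • ω ≠ ω := by
      have := Finset.mem_of_mem_erase hg
      simpa [hD'] using this
    push Not at hg'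
    obtain ⟨ω, hω⟩ := hg'
    haveI : Nonempty (fixedBy Ω g) := ⟨⟨ω, hω⟩⟩
    have : 0 < Nat.card (fixedBy Ω g) := Nat.card_pos
    omega
  have h6 : D.card + D'.card = Nat.card G := by
    rw [hD, hD', Finset.card_filter_add_card_filter_not, Finset.card_univ, Nat.card_eq_fintype_card]
  have h7 : (D'.erase 1).card + 1 = D'.card := Finset.card_erase_add_one h1mem
  omega

end

/-- Let a finite group G act faithfully and primitively on a finite set Ω with at least two points, suppose G is not almost simple (no non-abelian simple normal subgroup with trivial centralizer), and suppose the derangements of G form exactly two conjugacy classes. Then either Ω has 3 points and G has order 3; or G has a non-trivial abelian normal subgroup N acting regularly, every non-identity element of G fixes at most one point (so, when n > 3, G is a Frobenius group with kernel N), the number n of points is odd and a point stabilizer has order (n − 1)/2; or G is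 2-transitive with a non-trivial abelian regular normal subgroup and some non-identity element fixes at least two points (a non-Frobenius 2-transitive affine group). -/
theorem result {G : Type*} [Group G] [Finite G] {Ω : Type*} [Fintype Ω] [MulAction G Ω] [FaithfulSMul G Ω] (hΩ : 2 ≤ Fintype.card Ω) (hprim : MulAction.IsPreprimitive G Ω) (hnas : ¬ ∃ T : Subgroup G, T.Normal ∧ IsSimpleGroup T ∧ ¬ IsMulCommutative T ∧ Subgroup.centralizer (T : Set G) = ⊥)
    (hκ : Nat.card {c : ConjClasses G // ∃ g : G, ConjClasses.mk g = c ∧ ∀ ω : Ω, g • ω ≠ ω} = 2) (α : Ω) :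
    (Fintype.card Ω = 3 ∧ Nat.card G = 3) ∨
    ((∃ N : Subgroup G, N.Normal ∧ N ≠ ⊥ ∧ IsMulCommutative N ∧ ∀ ω : Ω, MulAction.stabilizer N ω = ⊥) ∧ (∀ g : G, g ≠ 1 → Nat.card (MulAction.fixedBy Ω g) ≤ 1) ∧ ¬ 2 ∣ Fintype.card Ω ∧
        2 * Nat.card (MulAction.stabilizer G α) = Fintype.card Ω - 1) ∨
    ((∃ N : Subgroup G, N.Normal ∧ N ≠ ⊥ ∧ IsMulCommutative N ∧ ∀ ω : Ω, MulAction.stabilizer N ω = ⊥) ∧ MulAction.IsMultiplyPretransitive G Ω 2 ∧ ∃ g : G, g ≠ 1 ∧ 2 ≤ Nat.card (MulAction.fixedBy Ω g)) := by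
  classical
  haveI := hprim
  haveI : Nonempty Ω := ⟨α⟩
  haveI := Fintype.ofFinite G
  have hcardΩ : Nat.card Ω = Fintype.card Ω := Nat.card_eq_fintype_card
  have hGtop : (⊤ : Subgroup G) ≠ ⊥ := by
    intro h
    have hone : ∀ g : G, g = 1 := fun g => by
      have : g ∈ (⊤ : Subgroup G) := trivial
      rw [h, Subgroup.mem_bot] at this
      exact this
    have hsub : Subsingleton Ω := by
      refine ⟨fun a b => ?_⟩
      obtain ⟨g, rfl⟩ := MulAction.exists_smul_eq G a b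
      rw [hone g, one_smul]
    have := Fintype.card_le_one_iff_subsingleton.mpr hsub
    omega
  obtain ⟨N, ⟨hNn, hN1⟩, _, hNmin⟩ := exists_minimal_subgroup
    (fun S : Subgroup G => S.Normal ∧ S ≠ ⊥) ⊤ ⟨inferInstance, hGtop⟩
  have hmin : ∀ M : Subgroup G, M.Normal → M ≠ ⊥ → M ≤ N → M = N :=
    fun M h1 h2 h3 => hNmin M ⟨h1, h2⟩ h3
  haveI := hNn
  haveI hNt : MulAction.IsPretransitive N Ω := pretransitive_of_normal N hN1
  have hcomm := abelian_min_normal hprim hnas hκ N hNn hN1 hmin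
  have hNder : ∀ x ∈ N, x ≠ 1 → ∀ ω : Ω, x • ω ≠ ω := by
    intro x hx hx1 ω hω
    exact hx1 (eq_one_of_commute_transitive N x (fun c hc => hcomm c hc x hx) ω hω)
  have hstab : ∀ ω : Ω, MulAction.stabilizer N ω = ⊥ := by
    intro ω
    rw [eq_bot_iff]
    intro x hx
    rw [Subgroup.mem_bot]
    by_contra hx1
    exact hNder x x.2 (fun h => hx1 (Subtype.ext h)) ω hx
  have hfirst : ∃ N : Subgroup G, N.Normal ∧ N ≠ ⊥ ∧ IsMulCommutative N ∧
      ∀ ω : Ω, MulAction.stabilizer N ω = ⊥ :=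
    ⟨N, hNn, hN1, ⟨⟨fun a b => Subtype.ext (hcomm a a.2 b b.2)⟩⟩, hstab⟩
  have hNcard : Nat.card N = Nat.card Ω := by
    have h2 := MulAction.index_stabilizer_of_transitive N α
    rw [hstab α, Subgroup.index_bot] at h2
    exact h2
  set D := Finset.univ.filter (fun g : G => ∀ ω : Ω, g • ω ≠ ω) with hD
  have hDmem : ∀ g, g ∈ D ↔ ∀ ω : Ω, g • ω ≠ ω := by
    intro g; simp [hD]
  set DN := D.filter (· ∈ N) with hDN
  have hDNcard : DN.card + 1 = Nat.card Ω := by
    rw [← hNcard, Nat.card_eq_fintype_card, Fintype.card_subtype]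
    have : Finset.univ.filter (fun x : G => x ∈ N) = insert 1 DN := by
      ext x
      simp only [Finset.mem_filter, Finset.mem_univ, true_and, Finset.mem_insert, hDN, hDmem]
      constructor
      · intro hx
        by_cases hx1 : x = 1
        · exact Or.inl hx1
        · exact Or.inr ⟨hNder x hx hx1, hx⟩
      · rintro (rfl | ⟨_, hx⟩)
        · exact N.one_mem
        · exact hx
    rw [this, Finset.card_insert_of_notMem]
    simp only [hDN, Finset.mem_filter, hDmem, not_and]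
    intro h
    exact (h α (one_smul _ _)).elim
  have hcount : ∑ g ∈ (Finset.univ.filter (fun g : G => ¬ ∀ ω : Ω, g • ω ≠ ω)).erase 1,
        (Nat.card (MulAction.fixedBy Ω g) - 1) + Nat.card Ω = 1 + D.card := by
    convert count (G := G) (Ω := Ω)
  set H := MulAction.stabilizer G α with hH
  have hdecomp : ∀ g : G, ∃ n ∈ N, ∃ h ∈ H, g = n * h := by
    intro g
    obtain ⟨n, hn⟩ := MulAction.exists_smul_eq N α (g • α)
    refine ⟨n, n.2, (n : G)⁻¹ * g, ?_, by group⟩
    rw [hH, MulAction.mem_stabilizer_iff, mul_smul, ← hn]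
    exact inv_smul_smul _ _
  have hconjH : ∀ x ∈ N, ∀ y, IsConj x y → ∃ h ∈ H, y = h * x * h⁻¹ := by
    intro x hx y hxy
    obtain ⟨g, rfl⟩ := isConj_iff.mp hxy
    obtain ⟨n, hn, h, hh, rfl⟩ := hdecomp g
    refine ⟨h, hh, ?_⟩
    have h1 : h * x * h⁻¹ ∈ N := hNn.conj_mem x hx h
    have h2 := hcomm n hn _ h1
    calc n * h * x * (n * h)⁻¹ = (n * (h * x * h⁻¹)) * n⁻¹ := by group
      _ = ((h * x * h⁻¹) * n) * n⁻¹ := by rw [h2]
      _ = h * x * h⁻¹ := by group
  have hle_one_of_sum : (∑ g ∈ (Finset.univ.filter (fun g : G => ¬ ∀ ω : Ω, g • ω ≠ ω)).erase 1,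
      (Nat.card (MulAction.fixedBy Ω g) - 1) = 0) →
      ∀ g : G, g ≠ 1 → Nat.card (MulAction.fixedBy Ω g) ≤ 1 := by
    intro hs g hg
    by_cases hgD : ∀ ω : Ω, g • ω ≠ ω
    · haveI : IsEmpty (MulAction.fixedBy Ω g) := ⟨fun ω => hgD ω.1 ω.2⟩
      simp
    · have := (Finset.sum_eq_zero_iff.mp hs) g
        (Finset.mem_erase.mpr ⟨hg, by simpa using hgD⟩)
      omega
  by_cases hall : ∀ d : G, (∀ ω : Ω, d • ω ≠ ω) → d ∈ N
  · right; left
    have hDDN : DN = D := by
      rw [hDN]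
      apply Finset.filter_true_of_mem
      intro d hd
      exact hall d ((hDmem d).mp hd)
    rw [hDDN] at hDNcard
    have hle := hle_one_of_sum (by omega)
    obtain ⟨x₁, x₂, hx₁, hx₂, hnc⟩ := two_nonconj hκ
    have hinj : ∀ x ∈ N, x ≠ 1 → Function.Injective (fun h : H => (h : G) * x * (h : G)⁻¹) := by
      intro x hx hx1 h h' hhh
      have hhh' : (h : G) * x * (h : G)⁻¹ = (h' : G) * x * (h' : G)⁻¹ := hhh
      set k : G := (h' : G)⁻¹ * (h : G) with hk
      have hkc : k * x = x * k := by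
        calc k * x = (h' : G)⁻¹ * ((h : G) * x * (h : G)⁻¹) * (h : G) := by rw [hk]; group
          _ = (h' : G)⁻¹ * ((h' : G) * x * (h' : G)⁻¹) * (h : G) := by rw [hhh']
          _ = x * k := by rw [hk]; group
      have hkα : k • α = α := (H.mul_mem (H.inv_mem h'.2) h.2 : k ∈ H)
      have hkx : k • (x • α) = x • α := by rw [← mul_smul, hkc, mul_smul, hkα]
      have hk1 : k = 1 := by
        by_contra hk1
        have h1 := hle k hk1
        rw [Finite.card_le_one_iff_subsingleton] at h1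
        have := h1.elim (⟨α, hkα⟩ : MulAction.fixedBy Ω k) ⟨x • α, hkx⟩
        exact hNder x hx hx1 α (congrArg Subtype.val this).symm
      apply Subtype.ext
      have := congrArg (fun z => (h' : G) * z) hk1
      simpa [hk] using this
    haveI : Fintype H := Fintype.ofFinite H
    let C : G → Finset G := fun x => (Finset.univ : Finset H).image
      (fun h : H => (h : G) * x * (h : G)⁻¹)
    have hx₁N := hall x₁ hx₁
    have hx₂N := hall x₂ hx₂
    have hx₁1 : x₁ ≠ 1 := by rintro rfl; exact hx₁ α (one_smul _ _)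
    have hx₂1 : x₂ ≠ 1 := by rintro rfl; exact hx₂ α (one_smul _ _)
    have hC₁ : (C x₁).card = Nat.card H := by
      rw [Finset.card_image_of_injective _ (hinj x₁ hx₁N hx₁1), Finset.card_univ,
        Nat.card_eq_fintype_card]
    have hC₂ : (C x₂).card = Nat.card H := by
      rw [Finset.card_image_of_injective _ (hinj x₂ hx₂N hx₂1), Finset.card_univ,
        Nat.card_eq_fintype_card]
    have hdisj : Disjoint (C x₁) (C x₂) := by
      rw [Finset.disjoint_left]
      intro y hy₁ hy₂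
      simp only [C, Finset.mem_image, Finset.mem_univ, true_and] at hy₁ hy₂
      obtain ⟨h, rfl⟩ := hy₁
      obtain ⟨h', hh'⟩ := hy₂
      apply hnc
      have c1 : IsConj x₁ ((h : G) * x₁ * (h : G)⁻¹) := isConj_iff.mpr ⟨h, rfl⟩
      have c2 : IsConj x₂ ((h : G) * x₁ * (h : G)⁻¹) := isConj_iff.mpr ⟨h', hh'⟩
      exact c1.trans c2.symm
    have hunion : C x₁ ∪ C x₂ = D := by
      ext y
      simp only [Finset.mem_union, hDmem]
      constructor
      · have key : ∀ x : G, (∀ ω : Ω, x • ω ≠ ω) → y ∈ C x → ∀ ω : Ω, y • ω ≠ ω := by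
          intro x hx hy ω hω
          simp only [C, Finset.mem_image, Finset.mem_univ, true_and] at hy
          obtain ⟨h, rfl⟩ := hy
          apply hx ((h : G)⁻¹ • ω)
          have := congrArg (fun z => (h : G)⁻¹ • z) hω
          simpa [mul_smul] using this
        rintro (h | h)
        · exact key x₁ hx₁ h
        · exact key x₂ hx₂ h
      · intro hy
        rcases three_conj hκ x₁ x₂ y hx₁ hx₂ hy with h | h | h
        · exact (hnc h).elim
        · left
          obtain ⟨k, hk, rfl⟩ := hconjH x₁ hx₁N y h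
          simp only [C, Finset.mem_image, Finset.mem_univ, true_and]
          exact ⟨⟨k, hk⟩, rfl⟩
        · right
          obtain ⟨k, hk, rfl⟩ := hconjH x₂ hx₂N y h
          simp only [C, Finset.mem_image, Finset.mem_univ, true_and]
          exact ⟨⟨k, hk⟩, rfl⟩
    have hDcard : D.card = 2 * Nat.card H := by
      rw [← hunion, Finset.card_union_of_disjoint hdisj, hC₁, hC₂]; ring
    refine ⟨hfirst, hle, ?_, ?_⟩
    · rw [← hcardΩ]; omega
    · rw [← hcardΩ]; omega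
  · right; right
    push Not at hall
    obtain ⟨d₀, hd₀, hd₀N⟩ := hall
    have hallconj : ∀ x ∈ N, ∀ y ∈ N, x ≠ 1 → y ≠ 1 → IsConj x y := by
      intro x hx y hy hx1 hy1
      have key : ∀ z ∈ N, ¬ IsConj z d₀ := by
        intro z hz hc
        obtain ⟨g, rfl⟩ := isConj_iff.mp hc
        exact hd₀N (hNn.conj_mem z hz g)
      rcases three_conj hκ x y d₀ (hNder x hx hx1) (hNder y hy hy1) hd₀ with h | h | h
      · exact h
      · exact (key x hx h).elim
      · exact (key y hy h).elim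
    have hHtrans : ∀ β γ : Ω, β ≠ α → γ ≠ α → ∃ h ∈ H, h • β = γ := by
      intro β γ hβ hγ
      obtain ⟨x, rfl⟩ := MulAction.exists_smul_eq N α β
      obtain ⟨y, rfl⟩ := MulAction.exists_smul_eq N α γ
      have hx1 : (x : G) ≠ 1 := by
        intro h
        apply hβ
        change (x : G) • α = α
        rw [h, one_smul]
      have hy1 : (y : G) ≠ 1 := by
        intro h
        apply hγ
        change (y : G) • α = α
        rw [h, one_smul]
      obtain ⟨h, hh, hy⟩ := hconjH x x.2 y (hallconj x x.2 y y.2 hx1 hy1)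
      refine ⟨h, hh, ?_⟩
      change h • (x : G) • α = (y : G) • α
      have hinv : h⁻¹ • α = α := (H.inv_mem hh : h⁻¹ ∈ H)
      rw [hy, mul_smul, mul_smul, hinv]
    refine ⟨hfirst, ?_, ?_⟩
    · rw [MulAction.is_two_pretransitive_iff]
      intro a b c d hab hcd
      obtain ⟨g₁, hg₁⟩ := MulAction.exists_smul_eq G a α
      obtain ⟨g₂, hg₂⟩ := MulAction.exists_smul_eq G c α
      have hb : g₁ • b ≠ α := by
        rw [← hg₁]
        exact fun h => hab (MulAction.injective g₁ h).symm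
      have hd : g₂ • d ≠ α := by
        rw [← hg₂]
        exact fun h => hcd (MulAction.injective g₂ h).symm
      obtain ⟨h, hh, hhb⟩ := hHtrans _ _ hb hd
      have hhα : h • α = α := hh
      refine ⟨g₂⁻¹ * h * g₁, ?_, ?_⟩
      · rw [mul_smul, mul_smul, hg₁, hhα, ← hg₂, inv_smul_smul]
      · rw [mul_smul, mul_smul, hhb, inv_smul_smul]
    · by_contra hcon
      push Not at hcon
      have hs : ∑ g ∈ (Finset.univ.filter (fun g : G => ¬ ∀ ω : Ω, g • ω ≠ ω)).erase 1,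
          (Nat.card (MulAction.fixedBy Ω g) - 1) = 0 := by
        apply Finset.sum_eq_zero
        intro g hg
        have := hcon g (Finset.ne_of_mem_erase hg)
        omega
      have hlt : DN.card < D.card := by
        apply Finset.card_lt_card
        rw [Finset.ssubset_iff_of_subset (Finset.filter_subset _ _)]
        refine ⟨d₀, (hDmem d₀).mpr hd₀, ?_⟩
        simp only [hDN, Finset.mem_filter, not_and]
        exact fun _ => hd₀N
      omega

end Cfsg.Agent.S3520
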