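import Cfsg.Statements.S3532
import Cfsg.Agent.S2475
import Cfsg.Agent.Lib.Helper62FrobField
import Mathlib

set_option autoImplicit false
open Cfsg

namespace Cfsg.Agent.S3532

open Cfsg.Agent.Lib.Helper62Aff Cfsg.Agent.Lib.Helper62FrobField

theorem range_prod {G H : Type*} [Group G] [Group H] :
    Set.range (orderOf : G × H → ℕ) =
      {n | ∃ a ∈ Set.range (orderOf : G → ℕ), ∃ b ∈ Set.range (orderOf : H → ℕ), n = Nat.lcm a b} := by
  ext n
  constructor
  · rintro ⟨x, rfl⟩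
    exact ⟨_, ⟨x.1, rfl⟩, _, ⟨x.2, rfl⟩, Prod.orderOf x⟩
  · rintro ⟨_, ⟨a, rfl⟩, _, ⟨b, rfl⟩, rfl⟩
    exact ⟨(a, b), Prod.orderOf (a, b)⟩

theorem combi (p A B : ℕ) :
    {n | ∃ a ∈ {m : ℕ | m ∣ p ∨ m ∣ A}, ∃ b ∈ {m : ℕ | m ∣ p ∨ m ∣ B}, n = Nat.lcm a b} =
    {n | ∃ a ∈ {m : ℕ | m ∣ p ∨ m ∣ A ∨ m ∣ B}, ∃ b ∈ {m : ℕ | m ∣ p ∨ m ∣ A ∨ m ∣ B},
      n = Nat.lcm a b} := by
  ext n
  constructor
  · rintro ⟨a, ha, b, hb, rfl⟩
    refine ⟨a, ?_, b, ?_, rfl⟩
    · rcases ha with h | h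
      · exact Or.inl h
      · exact Or.inr (Or.inl h)
    · rcases hb with h | h
      · exact Or.inl h
      · exact Or.inr (Or.inr h)
  · rintro ⟨a, ha, b, hb, rfl⟩
    rcases ha with ha | ha | ha <;> rcases hb with hb | hb | hb
    · exact ⟨a, Or.inl ha, b, Or.inl hb, rfl⟩
    · exact ⟨b, Or.inr hb, a, Or.inl ha, Nat.lcm_comm a b⟩
    · exact ⟨a, Or.inl ha, b, Or.inr hb, rfl⟩
    · exact ⟨a, Or.inr ha, b, Or.inl hb, rfl⟩
    · exact ⟨Nat.lcm a b, Or.inr (Nat.lcm_dvd ha hb), 1, Or.inl (one_dvd _), by simp⟩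
    · exact ⟨a, Or.inr ha, b, Or.inr hb, rfl⟩
    · exact ⟨b, Or.inl hb, a, Or.inr ha, Nat.lcm_comm a b⟩
    · exact ⟨b, Or.inr hb, a, Or.inr ha, Nat.lcm_comm a b⟩
    · exact ⟨1, Or.inl (one_dvd _), Nat.lcm a b, Or.inr (Nat.lcm_dvd ha hb), by simp⟩

/-- Let q ≥ 4 be a prime power and L = PSL(2,q). There is a finite solvable group with the same set of element orders as L × L (so L × L is not determined by its spectrum). -/
theorem result {F : Type*} [Field F] [Fintype F] (hF : 4 ≤ Fintype.card F) :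
    ∃ (H : Type) (_ : Group H) (_ : Finite H), Group.IsSolvable H ∧
      Set.range (orderOf : H → ℕ) = Set.range (orderOf : Matrix.ProjectiveSpecialLinearGroup (Fin 2) F × Matrix.ProjectiveSpecialLinearGroup (Fin 2) F → ℕ) := by
  obtain ⟨p, hchar⟩ := CharP.exists F
  obtain ⟨k, hp, hk⟩ := FiniteField.card F p
  have : Fact p.Prime := ⟨hp⟩
  set q := Fintype.card F with hq
  set d := Nat.gcd 2 (q - 1) with hd
  have hspec := Cfsg.Agent.S2475.result (F := F) p hF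
  let K1 := GaloisField p k
  let K2 := GaloisField p (2 * k)
  have f1 : Finite K1 := inferInstanceAs (Finite (GaloisField p k))
  have f2 : Finite K2 := inferInstanceAs (Finite (GaloisField p (2 * k)))
  let _ : Fintype K1 := Fintype.ofFinite K1
  let _ : Fintype K2 := Fintype.ofFinite K2
  have hc1 : Fintype.card K1 = q := by
    rw [← Nat.card_eq_fintype_card, GaloisField.card p k k.ne_zero, hk]
  have hc2 : Fintype.card K2 = q ^ 2 := by
    rw [← Nat.card_eq_fintype_card, GaloisField.card p (2 * k) (by simp), hk, ← pow_mul, mul_comm]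
  have hA : (q - 1) / d ∣ Fintype.card K1 - 1 := by
    rw [hc1]
    exact Nat.div_dvd_of_dvd (Nat.gcd_dvd_right 2 (q - 1))
  have hd2 : d ∣ q + 1 := by
    have h1 : d ∣ q - 1 := Nat.gcd_dvd_right 2 (q - 1)
    have h2 : d ∣ 2 := Nat.gcd_dvd_left 2 (q - 1)
    have h3 : q + 1 = (q - 1) + 2 := by omega
    rw [h3]
    exact Dvd.dvd.add h1 h2
  have hB : (q + 1) / d ∣ Fintype.card K2 - 1 := by
    rw [hc2]
    have h1 : q ^ 2 - 1 = (q + 1) * (q - 1) := by
      have := Nat.sq_sub_sq q 1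
      simpa using this
    rw [h1]
    exact Dvd.dvd.mul_right (Nat.div_dvd_of_dvd hd2) _
  have s1 := spec_frob (K := K1) p ((q - 1) / d) hA
  have s2 := spec_frob (K := K2) p ((q + 1) / d) hB
  have i1 : Group.IsSolvable (Aff (Cn K1 ((q - 1) / d)) K1) := solvable_frob _
  have i2 : Group.IsSolvable (Aff (Cn K2 ((q + 1) / d)) K2) := solvable_frob _
  refine ⟨Aff (Cn K1 ((q - 1) / d)) K1 × Aff (Cn K2 ((q + 1) / d)) K2, inferInstance, inferInstance,
    inferInstance, ?_⟩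
  rw [range_prod, range_prod, s1, s2, hspec, combi]

end Cfsg.Agent.S3532
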