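import Cfsg.Statements.S3554

set_option autoImplicit false
open Cfsg

namespace Cfsg.Agent.S3554

/-- Let G act faithfully and transitively on a finite set and suppose G has a non-trivial cyclic normal subgroup. Then some element of G of prime order fixes no point. -/
theorem result {G Ω : Type*} [Group G] [Finite G] [MulAction G Ω] [FaithfulSMul G Ω] [Finite Ω]
    (htrans : MulAction.IsPretransitive G Ω) (C : Subgroup G) (hC : C.Normal) (hC1 : C ≠ ⊥) (hcyc : IsCyclic ↥C) :
    ∃ g : G, (orderOf g).Prime ∧ ∀ ω : Ω, g • ω ≠ ω := by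
  classical
  haveI := hC
  haveI := hcyc
  have hcard : Nat.card C ≠ 1 := by
    intro h
    exact hC1 (Subgroup.card_eq_one.mp h)
  set p := (Nat.card C).minFac with hp
  have hpp : p.Prime := Nat.minFac_prime hcard
  haveI : Fact p.Prime := ⟨hpp⟩
  obtain ⟨x, hx⟩ := exists_prime_orderOf_dvd_card' (G := C) p (Nat.minFac_dvd _)
  refine ⟨(x : G), by rw [Subgroup.orderOf_coe, hx]; exact hpp, ?_⟩
  intro ω hω
  have htriv : (x : G) = 1 := by
    apply FaithfulSMul.eq_of_smul_eq_smul (α := Ω)
    intro ω'
    rw [one_smul]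
    obtain ⟨h, rfl⟩ := MulAction.exists_smul_eq G ω ω'
    obtain ⟨m, hm⟩ := MonoidHom.map_cyclic (MulAut.conjNormal (H := C) h⁻¹).toMonoidHom
    have h1 := congrArg (Subtype.val) (hm x)
    have h2 : h⁻¹ * (x : G) * h = (x : G) ^ m := by
      simpa using h1
    have h3 : (x : G) * h = h * (x : G) ^ m := by
      rw [← h2]; group
    have h4 : (x : G) ^ m • ω = ω := by
      have : (x : G) ^ m ∈ MulAction.stabilizer G ω :=
        Subgroup.zpow_mem _ (MulAction.mem_stabilizer_iff.mpr hω) m
      exact this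
    rw [← mul_smul, h3, mul_smul, h4]
  have : x = 1 := Subtype.ext htriv
  rw [this, orderOf_one] at hx
  exact hpp.one_lt.ne hx

end Cfsg.Agent.S3554
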