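import Cfsg.Statements.S3555
import Cfsg.Agent.Lib.Helper63Derange

set_option autoImplicit false
open Cfsg

namespace Cfsg.Agent.S3555

open MulAction Cfsg.Agent.Lib.Helper63Derange
open scoped Pointwise

section
variable {G Ω : Type*} [Group G] [Fintype G] [DecidableEq G] [MulAction G Ω] [Fintype Ω] [DecidableEq Ω]

/-- triples `(g, a, b)` with `a ≠ b` both fixed by `g` -/
def trip (G Ω : Type*) [Group G] [Fintype G] [MulAction G Ω] [Fintype Ω] [DecidableEq Ω] :
    Finset (G × Ω × Ω) :=
  Finset.univ.filter (fun x => x.2.1 ≠ x.2.2 ∧ x.1 • x.2.1 = x.2.1 ∧ x.1 • x.2.2 = x.2.2)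

def fx (Ω : Type*) {G : Type*} [Group G] [MulAction G Ω] [Fintype Ω] [DecidableEq Ω] (g : G) :
    Finset Ω :=
  Finset.univ.filter (fun a => g • a = a)

theorem card_fx (g : G) : (fx Ω g).card = Nat.card (fixedBy Ω g) := by
  rw [Nat.card_eq_fintype_card, Fintype.card_subtype]
  rfl

theorem card_trip : (trip G Ω).card = ∑ g : G, ((fx Ω g).card * (fx Ω g).card - (fx Ω g).card) := by
  have : trip G Ω = (Finset.univ : Finset G).biUnion
      (fun g => ((fx Ω g).offDiag).image (fun y => (g, y))) := by
    ext ⟨g, a, b⟩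
    simp only [trip, fx, Finset.mem_filter, Finset.mem_univ, true_and, Finset.mem_biUnion,
      Finset.mem_image, Finset.mem_offDiag, Prod.mk.injEq, Prod.exists]
    constructor
    · rintro ⟨h1, h2, h3⟩
      exact ⟨g, a, b, ⟨h2, h3, h1⟩, rfl, rfl, rfl⟩
    · rintro ⟨g', a', b', ⟨h2, h3, h1⟩, rfl, rfl, rfl⟩
      exact ⟨h1, h2, h3⟩
  rw [this, Finset.card_biUnion]
  · apply Finset.sum_congr rfl
    intro g _
    rw [Finset.card_image_of_injective _ (fun y z h => (Prod.mk.inj h).2), Finset.offDiag_card]
  · intro g _ g' _ hne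
    rw [Function.onFun, Finset.disjoint_left]
    intro x hx hx'
    simp only [Finset.mem_image] at hx hx'
    obtain ⟨y, _, rfl⟩ := hx
    obtain ⟨z, _, hz⟩ := hx'
    exact hne (Prod.mk.inj hz).1.symm

open Classical in
theorem card_der_mul_le (hinv : ∀ g : G, (∀ ω : Ω, g • ω ≠ ω) → orderOf g = 2) :
    (Finset.univ.filter (fun g : G => ∀ ω : Ω, g • ω ≠ ω)).card * Fintype.card Ω
      ≤ (trip G Ω).card := by
  set D := Finset.univ.filter (fun g : G => ∀ ω : Ω, g • ω ≠ ω) with hD
  have hsq : ∀ t ∈ D, ∀ a b : Ω, t • a = b → t • b = a := by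
    intro t ht a b hab
    have h2 : t ^ 2 = 1 := by
      have := hinv t (by simpa [hD] using ht)
      rw [← this]; exact pow_orderOf_eq_one t
    rw [← hab, ← mul_smul, ← sq, h2, one_smul]
  let t0 : Ω → Ω → G := fun a b => if h : ∃ t ∈ D, t • a = b then h.choose else 1
  have ht0 : ∀ a b, (∃ t ∈ D, t • a = b) → t0 a b ∈ D ∧ t0 a b • a = b := by
    intro a b h
    simp only [t0, dif_pos h]
    exact h.choose_spec
  rw [← Finset.card_univ, ← Finset.card_product]
  apply Finset.card_le_card_of_injOn (fun x => (t0 x.2 (x.1 • x.2) * x.1, x.2, x.1 • x.2))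
  · rintro ⟨t, ω⟩ hx
    have ht : t ∈ D := (Finset.mem_product.mp hx).1
    obtain ⟨h1, h2⟩ := ht0 ω (t • ω) ⟨t, ht, rfl⟩
    have ht' : ∀ ω : Ω, t • ω ≠ ω := by simpa [hD] using ht
    simp only [trip, Finset.coe_filter, Finset.mem_univ, true_and, Set.mem_setOf_eq]
    refine ⟨(ht' ω).symm, ?_, ?_⟩
    · rw [mul_smul]; exact hsq _ h1 _ _ h2
    · rw [mul_smul, hsq t ht ω (t • ω) rfl]; exact h2
  · rintro ⟨t, ω⟩ _ ⟨t', ω'⟩ _ h
    simp only [Prod.mk.injEq] at h
    obtain ⟨h1, rfl, h3⟩ := h
    rw [h3] at h1
    rw [mul_left_cancel h1]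

open Classical in
theorem fix_le_one [IsPretransitive G Ω] [FaithfulSMul G Ω] [Nonempty Ω]
    (hinv : ∀ g : G, (∀ ω : Ω, g • ω ≠ ω) → orderOf g = 2) (g : G) (hg : g ≠ 1) :
    (fx Ω g).card ≤ 1 := by
  set D := Finset.univ.filter (fun g : G => ∀ ω : Ω, g • ω ≠ ω) with hD
  have hle := card_der_mul_le (G := G) (Ω := Ω) hinv
  rw [← hD] at hle
  set n : ℤ := (Fintype.card Ω : ℤ) with hn
  let F : G → ℤ := fun g => ((fx Ω g).card : ℤ)
  have S1 : ∑ g : G, F g = (Fintype.card G : ℤ) := by
    have := burnside (G := G) (Ω := Ω)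
    rw [card_quotient_of_pretransitive, one_mul, Nat.card_eq_fintype_card] at this
    rw [← this]
    push_cast
    apply Finset.sum_congr rfl
    intro g _
    simp only [F, card_fx]
  have S2 : ((trip G Ω).card : ℤ) = ∑ g : G, (F g * F g - F g) := by
    rw [card_trip]
    push_cast
    apply Finset.sum_congr rfl
    intro g _
    rw [Nat.cast_sub (Nat.le_mul_self _)]
    push_cast
    rfl
  have S3 : ∑ g : G, (F g - 1) * (F g - n) = ((trip G Ω).card : ℤ) := by
    have : ∀ g : G, (F g - 1) * (F g - n) = (F g * F g - F g) - n * F g + n := by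
      intro g; ring
    simp only [this]
    rw [Finset.sum_add_distrib, Finset.sum_sub_distrib, ← Finset.mul_sum, S1, ← S2]
    simp
    ring
  have S4 : ∑ g : G, (F g - 1) * (F g - n)
      = ∑ g ∈ D, (F g - 1) * (F g - n) + ∑ g ∈ Finset.univ.filter (· ∉ D), (F g - 1) * (F g - n) := by
    rw [← Finset.sum_filter_add_sum_filter_not Finset.univ (· ∈ D)]
    congr 1
    apply Finset.sum_congr _ (fun _ _ => rfl)
    ext; simp
  have S5 : ∑ g ∈ D, (F g - 1) * (F g - n) = (D.card : ℤ) * n := by
    rw [Finset.sum_congr rfl (g := fun _ => n)]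
    · simp
    · intro g hg
      have hg' : ∀ ω : Ω, g • ω ≠ ω := by simpa [hD] using hg
      have : F g = 0 := by
        simp only [F, fx]
        rw [Finset.filter_false_of_mem (fun a _ => hg' a)]
        simp
      rw [this]; ring
  have hterm : ∀ g ∈ Finset.univ.filter (fun g : G => g ∉ D), (F g - 1) * (F g - n) ≤ 0 := by
    intro g hg
    have hg' : ∃ ω : Ω, g • ω = ω := by
      have : g ∉ D := by simpa using hg
      simpa [hD] using this
    obtain ⟨ω, hω⟩ := hg'
    have h1 : 1 ≤ F g := by
      have : 0 < (fx Ω g).card := Finset.card_pos.mpr ⟨ω, by simp [fx, hω]⟩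
      simp only [F]; exact_mod_cast this
    have h2 : F g ≤ n := by
      simp only [F, hn]
      exact_mod_cast Finset.card_le_univ _
    nlinarith
  have hsum : ∑ g ∈ Finset.univ.filter (· ∉ D), (F g - 1) * (F g - n) = 0 := by
    apply le_antisymm (Finset.sum_nonpos hterm)
    have : ((D.card * Fintype.card Ω : ℕ) : ℤ) ≤ ((trip G Ω).card : ℤ) := by exact_mod_cast hle
    push_cast at this
    linarith
  have hzero := (Finset.sum_eq_zero_iff_of_nonpos hterm).mp hsum
  by_cases hgD : g ∈ D
  · have hg' : ∀ ω : Ω, g • ω ≠ ω := by simpa [hD] using hgD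
    simp only [fx]
    rw [Finset.filter_false_of_mem (fun a _ => hg' a)]
    simp
  · have h0 := hzero g (by simpa using hgD)
    rcases mul_eq_zero.mp h0 with h | h
    · have : F g = 1 := by linarith
      simp only [F] at this
      have h' : (fx Ω g).card = 1 := by exact_mod_cast this
      omega
    · exfalso
      apply hg
      have h1 : F g = n := by linarith
      simp only [F, hn] at h1
      have h' : (fx Ω g).card = Fintype.card Ω := by exact_mod_cast h1
      have h2 : fx Ω g = Finset.univ := (Finset.card_eq_iff_eq_univ _).mp h'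
      apply FaithfulSMul.eq_of_smul_eq_smul (α := Ω)
      intro a
      have : a ∈ fx Ω g := by rw [h2]; exact Finset.mem_univ _
      rw [one_smul]
      simpa [fx] using this

end

/-- Let G act faithfully and transitively on a finite set and suppose every element of G fixing no point is an involution. Then either G is an elementary abelian 2-group, or G is a Frobenius group whose Frobenius kernel is an elementary abelian 2-group: G has a Frobenius complement H, and the elements lying in no conjugate of H, together with the identity, pairwise commute and square to the identity. -/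
theorem result {G Ω : Type*} [Group G] [Finite G] [MulAction G Ω] [FaithfulSMul G Ω] [Finite Ω]
    (htrans : MulAction.IsPretransitive G Ω) (hinv : ∀ g : G, (∀ ω : Ω, g • ω ≠ ω) → orderOf g = 2) :
    (IsMulCommutative G ∧ ∀ g : G, g ^ 2 = 1) ∨
    (∃ H : Subgroup G, Cfsg.IsFrobeniusComplement H ∧
      (∀ x ∈ Cfsg.frobeniusKernel H, x ^ 2 = 1) ∧
      ∀ x ∈ Cfsg.frobeniusKernel H, ∀ y ∈ Cfsg.frobeniusKernel H, x * y = y * x) := by
  classical
  haveI := Fintype.ofFinite G
  haveI := Fintype.ofFinite Ω
  have hcomm_of_sq : (∀ g : G, g ^ 2 = 1) → IsMulCommutative G := by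
    intro h
    refine ⟨⟨fun a b => ?_⟩⟩
    have h1 := h (a * b)
    have ha := h a
    have hb := h b
    have ha' : a⁻¹ = a := by
      rw [inv_eq_iff_mul_eq_one, ← sq]; exact ha
    have hb' : b⁻¹ = b := by
      rw [inv_eq_iff_mul_eq_one, ← sq]; exact hb
    have hab' : (a * b)⁻¹ = a * b := by
      rw [inv_eq_iff_mul_eq_one, ← sq]; exact h1
    rw [← hab', mul_inv_rev, ha', hb']
  rcases isEmpty_or_nonempty Ω with hΩ | hΩ
  · left
    have h1 : ∀ g : G, g = 1 := by
      intro g
      apply FaithfulSMul.eq_of_smul_eq_smul (α := Ω)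
      intro a
      exact (hΩ.false a).elim
    have h2 : ∀ g : G, g ^ 2 = 1 := fun g => by rw [h1 g, one_pow]
    exact ⟨hcomm_of_sq h2, h2⟩
  obtain ⟨α⟩ := id hΩ
  have key : ∀ g : G, g ≠ 1 → ∀ a b : Ω, g • a = a → g • b = b → a = b := by
    intro g hg a b ha hb
    have := fix_le_one (Ω := Ω) hinv g hg
    rw [Finset.card_le_one] at this
    exact this a (by simp [fx, ha]) b (by simp [fx, hb])
  have hder_sq : ∀ g : G, (∀ ω : Ω, g • ω ≠ ω) → g ^ 2 = 1 := by
    intro g hg
    rw [← hinv g hg]; exact pow_orderOf_eq_one g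
  by_cases hH : MulAction.stabilizer G α = ⊥
  · left
    have h2 : ∀ g : G, g ^ 2 = 1 := by
      intro g
      by_cases hg : ∀ ω : Ω, g • ω ≠ ω
      · exact hder_sq g hg
      · push Not at hg
        obtain ⟨ω, hω⟩ := hg
        obtain ⟨k, rfl⟩ := MulAction.exists_smul_eq G α ω
        have : k⁻¹ * g * k ∈ MulAction.stabilizer G α := by
          rw [MulAction.mem_stabilizer_iff, mul_smul, mul_smul, hω, inv_smul_smul]
        rw [hH, Subgroup.mem_bot] at this
        have hg1 : g = 1 := by
          have h3 := congrArg (fun z => k * z * k⁻¹) this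
          simpa [mul_assoc] using h3
        rw [hg1, one_pow]
    exact ⟨hcomm_of_sq h2, h2⟩
  · right
    have hmem : ∀ (g x : G), x ∈ MulAut.conj g • MulAction.stabilizer G α ↔ x • (g • α) = g • α := by
      intro g x
      rw [Subgroup.mem_pointwise_smul_iff_inv_smul_mem, MulAction.mem_stabilizer_iff]
      simp only [MulAut.smul_def, MulAut.conj_inv_apply, mul_smul]
      constructor
      · intro h
        have := congrArg (fun z => g • z) h
        simpa using this
      · intro h
        rw [h, inv_smul_smul]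
    have hker : ∀ x ∈ Cfsg.frobeniusKernel (MulAction.stabilizer G α), x = 1 ∨ ∀ ω : Ω, x • ω ≠ ω := by
      intro x hx
      rcases hx with h | h
      · exact Or.inl h
      · right
        intro ω hω
        obtain ⟨k, rfl⟩ := MulAction.exists_smul_eq G α ω
        exact h k ((hmem k x).mpr hω)
    refine ⟨MulAction.stabilizer G α, ⟨hH, ?_, ?_⟩, ?_, ?_⟩
    · intro htop
      apply hH
      rw [eq_bot_iff]
      intro x _
      rw [Subgroup.mem_bot]
      apply FaithfulSMul.eq_of_smul_eq_smul (α := Ω)
      intro ω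
      obtain ⟨k, rfl⟩ := MulAction.exists_smul_eq G α ω
      have h1 : k ∈ MulAction.stabilizer G α := by rw [htop]; trivial
      have h2 : x ∈ MulAction.stabilizer G α := by rw [htop]; trivial
      rw [MulAction.mem_stabilizer_iff] at h1 h2
      rw [h1, h2, one_smul]
    · intro g hg
      rw [eq_bot_iff]
      rintro x ⟨hx1, hx2⟩
      rw [Subgroup.mem_bot]
      by_contra hx
      have h1 : x • α = α := hx1
      have h2 : x • (g • α) = g • α := (hmem g x).mp hx2
      exact hg (key x hx _ _ h2 h1)
    · intro x hx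
      rcases hker x hx with rfl | h
      · exact one_pow 2
      · exact hder_sq x h
    · intro x hx y hy
      rcases hker x hx with rfl | hx'
      · simp
      rcases hker y hy with rfl | hy'
      · simp
      have hx2 := hder_sq x hx'
      have hy2 := hder_sq y hy'
      have hxi : x⁻¹ = x := by rw [inv_eq_iff_mul_eq_one, ← sq]; exact hx2
      have hyi : y⁻¹ = y := by rw [inv_eq_iff_mul_eq_one, ← sq]; exact hy2
      by_cases hxy : ∀ ω : Ω, (x * y) • ω ≠ ω
      · have h3 := hder_sq _ hxy
        have h4 : (x * y)⁻¹ = x * y := by rw [inv_eq_iff_mul_eq_one, ← sq]; exact h3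
        rw [← h4, mul_inv_rev, hxi, hyi]
      · push Not at hxy
        obtain ⟨ω, hω⟩ := hxy
        by_cases h1 : x * y = 1
        · have : y = x := by
            rw [← hxi]; exact (inv_eq_of_mul_eq_one_right h1).symm
          rw [this]
        · exfalso
          have h5 : (x * y) • (y • ω) = y • ω := by
            rw [mul_smul, ← mul_smul y y, ← sq, hy2, one_smul]
            have := congrArg (fun z => x • z) hω
            simp only [mul_smul] at this
            rw [← mul_smul x x, ← sq, hx2, one_smul] at this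
            exact this.symm
          exact hy' ω (key _ h1 _ _ h5 hω)

end Cfsg.Agent.S3555
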