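import Cfsg.Statements.S3556
import Cfsg.Agent.Lib.Helper63Prim

set_option autoImplicit false
open Cfsg

namespace Cfsg.Agent.S3556

open MulAction Cfsg.Agent.Lib.Helper63Prim

section
variable {G Ω : Type*} [Group G] [Finite G] [MulAction G Ω] [FaithfulSMul G Ω] [Finite Ω]

/-- `S` is invariant under conjugation by `N`. -/
def Inv (N S : Subgroup G) : Prop := ∀ n ∈ N, ∀ s ∈ S, n * s * n⁻¹ ∈ S

theorem no_proper (hprim : IsPreprimitive G Ω) (hΩ : 2 ≤ Nat.card Ω) (p : ℕ) (hp : p.Prime)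
    (hder : ∀ g : G, (∀ ω : Ω, g • ω ≠ ω) → ∃ k : ℕ, orderOf g = p ^ k)
    (N : Subgroup G) (hN : N.Normal) (hN1 : N ≠ ⊥)
    (hmin : ∀ M : Subgroup G, M.Normal → M ≠ ⊥ → M ≤ N → M = N)
    (hC : Subgroup.centralizer (N : Set G) = ⊥)
    (S₀ : Subgroup G) (hS₀ : S₀ ≤ N) (hS₀inv : Inv N S₀) : S₀ = ⊥ ∨ S₀ = N := by
  classical
  haveI : Fact p.Prime := ⟨hp⟩
  by_contra hcon
  push Not at hcon
  obtain ⟨hS₀1, hS₀N⟩ := hcon
  obtain ⟨T, ⟨hT1, hT2, hT3⟩, hTS, hTmin⟩ := exists_minimal_subgroup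
    (fun S : Subgroup G => S ≠ ⊥ ∧ S ≤ N ∧ Inv N S) S₀ ⟨hS₀1, hS₀, hS₀inv⟩
  have hTN : T ≠ N := by
    rintro rfl
    exact hS₀N (le_antisymm hS₀ hTS)
  -- conjugates
  let cj : G → Subgroup G := fun g => T.map (MulAut.conj g).toMonoidHom
  have mem_cj : ∀ g x, x ∈ cj g ↔ ∃ t ∈ T, g * t * g⁻¹ = x := by
    intro g x
    simp only [cj, Subgroup.mem_map, MulEquiv.coe_toMonoidHom, MulAut.conj_apply]
  have cj_card : ∀ g, Nat.card (cj g) = Nat.card T := fun g =>
    Subgroup.card_map_of_injective (MulAut.conj g).injective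
  have cj_le : ∀ g, cj g ≤ N := by
    intro g x hx
    obtain ⟨t, ht, rfl⟩ := (mem_cj g x).mp hx
    exact hN.conj_mem t (hT2 ht) g
  have cj_inv : ∀ g, Inv N (cj g) := by
    intro g n hn x hx
    obtain ⟨t, ht, rfl⟩ := (mem_cj g x).mp hx
    rw [mem_cj]
    refine ⟨(g⁻¹ * n * g) * t * (g⁻¹ * n * g)⁻¹, hT3 _ ?_ t ht, by group⟩
    have := hN.conj_mem n hn g⁻¹
    simpa using this
  set M : Subgroup G := N ⊓ Subgroup.centralizer (T : Set G) with hM
  have hMcomm : ∀ m ∈ M, ∀ t ∈ T, t * m = m * t := by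
    intro m hm t ht
    exact (Subgroup.mem_centralizer_iff.mp (Subgroup.mem_inf.mp hm).2) t ht
  have cj_alt : ∀ g, cj g = T ∨ cj g ≤ M := by
    intro g
    by_cases hbot : cj g ⊓ T = ⊥
    · right
      intro a ha
      refine Subgroup.mem_inf.mpr ⟨cj_le g ha, ?_⟩
      rw [Subgroup.mem_centralizer_iff]
      intro b hb
      have h1 : a * b * a⁻¹ * b⁻¹ ∈ cj g ⊓ T := by
        refine Subgroup.mem_inf.mpr ⟨?_, ?_⟩
        · have h2 := cj_inv g b (hT2 hb) a⁻¹ ((cj g).inv_mem ha)
          have h3 := (cj g).mul_mem ha h2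
          have e : a * (b * a⁻¹ * b⁻¹) = a * b * a⁻¹ * b⁻¹ := by group
          rwa [e] at h3
        · exact T.mul_mem (hT3 a (cj_le g ha) b hb) (T.inv_mem hb)
      rw [hbot, Subgroup.mem_bot] at h1
      have h4 := congrArg (fun z => z * b * a) h1
      simp only [one_mul] at h4
      rw [← h4]; group
    · left
      have h1 : cj g ⊓ T = T := by
        apply hTmin _ ⟨hbot, inf_le_right.trans hT2, ?_⟩ inf_le_right
        intro n hn s hs
        exact Subgroup.mem_inf.mpr ⟨cj_inv g n hn s (Subgroup.mem_inf.mp hs).1,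
          hT3 n hn s (Subgroup.mem_inf.mp hs).2⟩
      have h2 : T ≤ cj g := by rw [← h1]; exact inf_le_left
      exact (Subgroup.eq_of_le_of_card_ge h2 (cj_card g).le).symm
  -- N = T M
  have hNTM : N ≤ T ⊔ M := by
    have h1 : Subgroup.normalClosure (T : Set G) = N := by
      apply hmin _ Subgroup.normalClosure_normal
      · intro h
        apply hT1
        rw [eq_bot_iff, ← h]
        exact Subgroup.le_normalClosure
      · exact Subgroup.normalClosure_le_normal hT2
    rw [← h1, Subgroup.normalClosure, Subgroup.closure_le]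
    intro x hx
    obtain ⟨t, ht, htx⟩ := Group.mem_conjugatesOfSet_iff.mp hx
    obtain ⟨c, rfl⟩ := isConj_iff.mp htx
    have h2 : c * t * c⁻¹ ∈ cj c := (mem_cj c _).mpr ⟨t, ht, rfl⟩
    rcases cj_alt c with h | h
    · rw [h] at h2
      exact (le_sup_left : T ≤ T ⊔ M) h2
    · exact (le_sup_right : M ≤ T ⊔ M) (h h2)
  have hMnorm : M ≤ Subgroup.normalizer (T : Set G) := by
    intro m hm
    rw [Subgroup.mem_normalizer_iff]
    intro h
    constructor
    · intro hh
      exact hT3 m (Subgroup.mem_inf.mp hm).1 h hh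
    · intro hh
      have := hT3 m⁻¹ (N.inv_mem (Subgroup.mem_inf.mp hm).1) _ hh
      simpa [mul_assoc] using this
  have hdec : ∀ n ∈ N, ∃ t ∈ T, ∃ m ∈ M, n = t * m := by
    intro n hn
    have h1 : n ∈ ((T ⊔ M : Subgroup G) : Set G) := hNTM hn
    rw [Subgroup.coe_mul_of_right_le_normalizer_left T M hMnorm] at h1
    obtain ⟨t, ht, m, hm, rfl⟩ := h1
    exact ⟨t, ht, m, hm, rfl⟩
  -- centre of T is trivial
  set Z : Subgroup G := T ⊓ Subgroup.centralizer (T : Set G) with hZdef
  have hZ : Z = ⊥ := by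
    by_contra hZ1
    have h1 : Z = T := by
      apply hTmin _ ⟨hZ1, inf_le_left.trans hT2, ?_⟩ inf_le_left
      intro n hn z hz
      refine Subgroup.mem_inf.mpr ⟨hT3 n hn z (Subgroup.mem_inf.mp hz).1, ?_⟩
      rw [Subgroup.mem_centralizer_iff]
      intro t ht
      have h2 : n⁻¹ * t * n ∈ T := by
        have := hT3 n⁻¹ (N.inv_mem hn) t ht
        simpa using this
      have h3 := (Subgroup.mem_centralizer_iff.mp (Subgroup.mem_inf.mp hz).2) _ h2
      calc t * (n * z * n⁻¹) = n * ((n⁻¹ * t * n) * z) * n⁻¹ := by group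
        _ = n * (z * (n⁻¹ * t * n)) * n⁻¹ := by rw [h3]
        _ = n * z * n⁻¹ * t := by group
    have h2 : T ≤ Subgroup.centralizer (T : Set G) := by
      rw [← h1]; exact (inf_le_right : Z ≤ _).trans (by rw [h1])
    have h3 : T ≤ Subgroup.centralizer (N : Set G) := by
      intro s hs
      rw [Subgroup.mem_centralizer_iff]
      intro n hn
      obtain ⟨t, ht, m, hm, rfl⟩ := hdec n hn
      have e1 : t * s = s * t := (Subgroup.mem_centralizer_iff.mp (h2 hs)) t ht
      have e2 : s * m = m * s := hMcomm m hm s hs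
      calc t * m * s = t * (m * s) := by group
        _ = t * (s * m) := by rw [e2]
        _ = (t * s) * m := by group
        _ = s * t * m := by rw [e1]
        _ = s * (t * m) := by group
    rw [hC] at h3
    exact hT1 (eq_bot_iff.mpr h3)
  have hTM : ∀ x, x ∈ T → x ∈ M → x = 1 := by
    intro x hxT hxM
    have : x ∈ Z := Subgroup.mem_inf.mpr ⟨hxT, (Subgroup.mem_inf.mp hxM).2⟩
    rw [hZ, Subgroup.mem_bot] at this
    exact this
  -- a conjugate inside M
  obtain ⟨g, hg⟩ : ∃ g, cj g ≤ M := by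
    by_contra hcon
    push Not at hcon
    have hall : ∀ g, cj g = T := fun g => (cj_alt g).resolve_right (hcon g)
    apply hTN
    apply hmin T _ hT1 hT2
    refine ⟨fun t ht g => ?_⟩
    rw [← hall g]
    exact (mem_cj g _).mpr ⟨t, ht, rfl⟩
  -- it suffices to show that M is a p-group
  suffices hMp : ∀ y ∈ M, ∃ k : ℕ, y ^ (p ^ k) = 1 by
    have hTp : IsPGroup p T := by
      intro t
      obtain ⟨k, hk⟩ := hMp (g * t * g⁻¹) (hg ((mem_cj g _).mpr ⟨t, t.2, rfl⟩))
      refine ⟨k, Subtype.ext ?_⟩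
      rw [conj_pow] at hk
      have := congrArg (fun z => g⁻¹ * z * g) hk
      simpa [mul_assoc] using this
    exact center_ne_bot p T hT1 hTp hZ
  haveI := hN
  haveI hNtrans : IsPretransitive N Ω := pretransitive_of_normal N hN1
  haveI : Nonempty Ω := by
    by_contra h
    rw [not_nonempty_iff] at h
    simp at hΩ
  obtain ⟨α⟩ := ‹Nonempty Ω›
  let R : Subgroup G :=
    { carrier := {t | t ∈ T ∧ ∃ m ∈ M, (t * m) • α = α}
      one_mem' := ⟨T.one_mem, 1, M.one_mem, by simp⟩
      mul_mem' := by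
        rintro t t' ⟨ht, m, hm, h⟩ ⟨ht', m', hm', h'⟩
        refine ⟨T.mul_mem ht ht', m * m', M.mul_mem hm hm', ?_⟩
        have e : t * t' * (m * m') = (t * m) * (t' * m') := by
          calc t * t' * (m * m') = t * (t' * m) * m' := by group
            _ = t * (m * t') * m' := by rw [hMcomm m hm t' ht']
            _ = (t * m) * (t' * m') := by group
        rw [e, mul_smul, h', h]
      inv_mem' := by
        rintro t ⟨ht, m, hm, h⟩
        refine ⟨T.inv_mem ht, m⁻¹, M.inv_mem hm, ?_⟩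
        have e : t⁻¹ * m⁻¹ = (t * m)⁻¹ := by
          rw [hMcomm m hm t ht]; group
        rw [e, inv_smul_eq_iff, h] }
  have hRmem : ∀ t, t ∈ R ↔ t ∈ T ∧ ∃ m ∈ M, (t * m) • α = α := fun t => Iff.rfl
  have hRtop : R.subgroupOf T ≠ ⊤ := by
    intro htop
    have hall : ∀ t ∈ T, t ∈ R := by
      intro t ht
      have : (⟨t, ht⟩ : T) ∈ R.subgroupOf T := by rw [htop]; trivial
      exact this
    haveI : IsPretransitive M Ω := by
      rw [isPretransitive_iff_base α]
      intro ω
      obtain ⟨n, rfl⟩ := exists_smul_eq N α ω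
      obtain ⟨t, ht, m, hm, hn⟩ := hdec n n.2
      obtain ⟨_, m', hm', h'⟩ := (hRmem t).mp (hall t ht)
      refine ⟨⟨m * m'⁻¹, M.mul_mem hm (M.inv_mem hm')⟩, ?_⟩
      change (m * m'⁻¹) • α = (n : G) • α
      rw [hn, hMcomm m hm t ht, mul_smul, mul_smul]
      congr 1
      rw [inv_smul_eq_iff, ← mul_smul, ← hMcomm m' hm' t ht, h']
    have hTp : IsPGroup p T := by
      apply isPGroup_of_der (Ω := Ω) p hder
      intro s hs hs1 ω hω
      apply hs1
      exact eq_one_of_commute_transitive M s (fun c hc => (hMcomm c hc s hs).symm) ω hω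
    exact center_ne_bot p T hT1 hTp hZ
  obtain ⟨x, hx⟩ := jordan (R.subgroupOf T) hRtop
  intro y hy
  have hxy : ∀ ω : Ω, ((x : G) * y) • ω ≠ ω := by
    intro ω hω
    obtain ⟨n, rfl⟩ := exists_smul_eq N α ω
    obtain ⟨t, ht, m, hm, hn⟩ := hdec n n.2
    apply hx ⟨t⁻¹, T.inv_mem ht⟩
    rw [Subgroup.mem_subgroupOf]
    simp only [Subgroup.coe_mul, Subgroup.coe_inv, inv_inv]
    rw [hRmem]
    refine ⟨T.mul_mem (T.mul_mem (T.inv_mem ht) x.2) ht, m⁻¹ * y * m,
      M.mul_mem (M.mul_mem (M.inv_mem hm) hy) hm, ?_⟩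
    have hω' : ((x : G) * y) • (t * m) • α = (t * m) • α := by
      rw [← hn]; exact hω
    have e : t⁻¹ * (x : G) * t * (m⁻¹ * y * m) = (t * m)⁻¹ * ((x : G) * y) * (t * m) := by
      have c1 : (t⁻¹ * (x : G) * t) * m⁻¹ = m⁻¹ * (t⁻¹ * (x : G) * t) :=
        hMcomm m⁻¹ (M.inv_mem hm) _ (T.mul_mem (T.mul_mem (T.inv_mem ht) x.2) ht)
      have c2 : t * y = y * t := hMcomm y hy t ht
      calc t⁻¹ * (x : G) * t * (m⁻¹ * y * m) = ((t⁻¹ * (x : G) * t) * m⁻¹) * y * m := by group
        _ = (m⁻¹ * (t⁻¹ * (x : G) * t)) * y * m := by rw [c1]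
        _ = m⁻¹ * t⁻¹ * (x : G) * (t * y) * m := by group
        _ = m⁻¹ * t⁻¹ * (x : G) * (y * t) * m := by rw [c2]
        _ = (t * m)⁻¹ * ((x : G) * y) * (t * m) := by group
    rw [e, mul_smul, mul_smul, hω', inv_smul_smul]
  obtain ⟨k, hk⟩ := hder _ hxy
  refine ⟨k, ?_⟩
  have h1 : ((x : G) * y) ^ (p ^ k) = 1 := by rw [← hk]; exact pow_orderOf_eq_one _
  have hc : Commute (x : G) y := hMcomm y hy x x.2
  rw [hc.mul_pow] at h1
  apply hTM
  · have : y ^ (p ^ k) = ((x : G) ^ (p ^ k))⁻¹ := (inv_eq_of_mul_eq_one_right h1).symm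
    rw [this]
    exact T.inv_mem (T.pow_mem x.2 _)
  · exact M.pow_mem hy _

end

/-- Let G act faithfully and primitively on a finite set with at least two points, and suppose that for some fixed prime p every element of G fixing no point has order a power of p. Then G is of affine type (it has a regular normal subgroup that is an elementary abelian r-group for some prime r) or almost simple (it has a non-abelian simple normal subgroup with trivial centralizer). -/
theorem result {G Ω : Type*} [Group G] [Finite G] [MulAction G Ω] [FaithfulSMul G Ω] [Finite Ω]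
    (hprim : MulAction.IsPreprimitive G Ω) (hΩ : 2 ≤ Nat.card Ω) (p : ℕ) (hp : p.Prime)
    (hder : ∀ g : G, (∀ ω : Ω, g • ω ≠ ω) → ∃ k : ℕ, orderOf g = p ^ k) :
    (∃ (N : Subgroup G) (r : ℕ), r.Prime ∧ N.Normal ∧ Cfsg.IsElementaryAbelian r N ∧
      MulAction.IsPretransitive N Ω ∧ ∀ a : Ω, MulAction.stabilizer N a = ⊥) ∨
    (∃ T : Subgroup G, T.Normal ∧ IsSimpleGroup ↥T ∧ ¬ IsMulCommutative ↥T ∧
      Subgroup.centralizer (T : Set G) = ⊥) := by
  classical
  haveI : Fact p.Prime := ⟨hp⟩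
  haveI := hprim
  have hGtop : (⊤ : Subgroup G) ≠ ⊥ := by
    intro h
    have hone : ∀ g : G, g = 1 := fun g => by
      have : g ∈ (⊤ : Subgroup G) := trivial
      rw [h, Subgroup.mem_bot] at this
      exact this
    have hsub : Subsingleton Ω := by
      refine ⟨fun a b => ?_⟩
      obtain ⟨g, rfl⟩ := MulAction.exists_smul_eq G a b
      rw [hone g, one_smul]
    have := Finite.card_le_one_iff_subsingleton.mpr hsub
    omega
  obtain ⟨N, ⟨hNn, hN1⟩, _, hNmin⟩ := exists_minimal_subgroup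
    (fun S : Subgroup G => S.Normal ∧ S ≠ ⊥) ⊤ ⟨inferInstance, hGtop⟩
  have hmin : ∀ M : Subgroup G, M.Normal → M ≠ ⊥ → M ≤ N → M = N :=
    fun M h1 h2 h3 => hNmin M ⟨h1, h2⟩ h3
  haveI := hNn
  haveI hNtrans : MulAction.IsPretransitive N Ω := pretransitive_of_normal N hN1
  by_cases hreg : ∀ s ∈ N, s ≠ 1 → ∀ ω : Ω, s • ω ≠ ω
  · left
    have hNp : IsPGroup p N := isPGroup_of_der (Ω := Ω) p hder N hreg
    have hZ := center_ne_bot p N hN1 hNp
    have hZN : N ⊓ Subgroup.centralizer (N : Set G) = N := hmin _ inferInstance hZ inf_le_left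
    have hcomm : ∀ a ∈ N, ∀ b ∈ N, a * b = b * a := by
      intro a ha b hb
      have : b ∈ N ⊓ Subgroup.centralizer (N : Set G) := by rw [hZN]; exact hb
      exact (Subgroup.mem_centralizer_iff.mp (Subgroup.mem_inf.mp this).2) a ha
    let E : Subgroup G :=
      { carrier := {x | x ∈ N ∧ x ^ p = 1}
        one_mem' := ⟨N.one_mem, one_pow _⟩
        mul_mem' := by
          rintro a b ⟨ha, ha'⟩ ⟨hb, hb'⟩
          refine ⟨N.mul_mem ha hb, ?_⟩
          have hc : Commute a b := hcomm a ha b hb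
          rw [hc.mul_pow, ha', hb', one_mul]
        inv_mem' := by
          rintro a ⟨ha, ha'⟩
          exact ⟨N.inv_mem ha, by rw [inv_pow, ha', inv_one]⟩ }
    have hEn : E.Normal := by
      refine ⟨fun a ha g => ⟨hNn.conj_mem a ha.1 g, ?_⟩⟩
      rw [conj_pow, ha.2]; simp
    have hE1 : E ≠ ⊥ := by
      haveI : Nontrivial N := (Subgroup.nontrivial_iff_ne_bot N).mpr hN1
      obtain ⟨k, hk⟩ := IsPGroup.iff_card.mp hNp
      have hk0 : k ≠ 0 := by
        rintro rfl
        rw [pow_zero] at hk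
        have := Finite.one_lt_card (α := N)
        omega
      have hdvd : p ∣ Nat.card N := by rw [hk]; exact dvd_pow_self p hk0
      obtain ⟨x, hx⟩ := exists_prime_orderOf_dvd_card' (G := N) p hdvd
      intro hbot
      have hxE : (x : G) ∈ E := by
        refine ⟨x.2, ?_⟩
        have := pow_orderOf_eq_one x
        rw [hx] at this
        exact congrArg Subtype.val this
      rw [hbot, Subgroup.mem_bot] at hxE
      have hx1 : x = 1 := Subtype.ext hxE
      rw [hx1, orderOf_one] at hx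
      exact hp.one_lt.ne hx
    have hEN : E = N := hmin E hEn hE1 (fun x hx => hx.1)
    refine ⟨N, p, hp, hNn, ⟨⟨⟨fun a b => Subtype.ext (hcomm a a.2 b b.2)⟩⟩, ?_⟩, hNtrans, ?_⟩
    · intro a ha
      have : a ∈ E := by rw [hEN]; exact ha
      exact this.2
    · intro a
      rw [eq_bot_iff]
      intro x hx
      rw [Subgroup.mem_bot]
      by_contra hx1
      exact hreg x x.2 (fun h => hx1 (Subtype.ext h)) a hx
  · right
    push Not at hreg
    obtain ⟨s, hs, hs1, ω, hω⟩ := hreg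
    have hC : Subgroup.centralizer (N : Set G) = ⊥ := by
      by_contra hC1
      haveI := pretransitive_of_normal (Ω := Ω) (Subgroup.centralizer (N : Set G)) hC1
      exact hs1 (eq_one_of_commute_transitive (Subgroup.centralizer (N : Set G)) s
        (fun c hc => ((Subgroup.mem_centralizer_iff.mp hc) s hs).symm) ω hω)
    refine ⟨N, hNn, ?_, ?_, hC⟩
    · haveI : Nontrivial N := (Subgroup.nontrivial_iff_ne_bot N).mpr hN1
      refine ⟨fun H hH => ?_⟩
      have h1 := no_proper hprim hΩ p hp hder N hNn hN1 hmin hC (H.map N.subtype)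
        (Subgroup.map_subtype_le H) (by
          intro n hn x hx
          obtain ⟨y, hy, rfl⟩ := Subgroup.mem_map.mp hx
          exact Subgroup.mem_map.mpr ⟨⟨n, hn⟩ * y * ⟨n, hn⟩⁻¹, hH.conj_mem y hy ⟨n, hn⟩, rfl⟩)
      rcases h1 with h | h
      · left
        exact (Subgroup.map_eq_bot_iff_of_injective H N.subtype_injective).mp h
      · right
        rw [eq_top_iff]
        intro x _
        have : (x : G) ∈ H.map N.subtype := by rw [h]; exact x.2
        obtain ⟨y, hy, hyx⟩ := Subgroup.mem_map.mp this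
        have : y = x := Subtype.ext hyx
        rwa [← this]
    · intro hcomm
      apply hN1
      rw [eq_bot_iff, ← hC]
      intro a ha
      rw [Subgroup.mem_centralizer_iff]
      intro b hb
      have := hcomm.is_comm.comm (⟨b, hb⟩ : N) ⟨a, ha⟩
      exact congrArg Subtype.val this

end Cfsg.Agent.S3556
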