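import Mathlib
import Cfsg.Statements.S3589
import Cfsg.Agent.Lib.Helper45OspBdMain
import Cfsg.Agent.Lib.Helper45OspTable
import Cfsg.Agent.Lib.Helper45OspReal
import Cfsg.Agent.Lib.Helper45OspSub
import Cfsg.Agent.Lib.Helper45GkD
-- import your own Cfsg.Agent.* helpers here

set_option autoImplicit false
open Cfsg

namespace Cfsg.Agent.S3589

open Module Cfsg.Agent.Lib.Helper45Form Cfsg.Agent.Lib.Helper45Sp
  Cfsg.Agent.Lib.Helper17Symp Cfsg.Agent.Lib.Helper45GkD Cfsg.Agent.Lib.Helper45OspDefs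

/-- Let F be a finite field of characteristic 2 and let a, b ∈ F make the binary form z₁² + a z₁z₂ + b z₂² anisotropic. Then the symplectic group PSp(8,F) (= Sp(8,F)) and the full isometry group of the non-singular quadratic form x₁y₁ + x₂y₂ + x₃y₃ + (z₁² + a z₁z₂ + b z₂²) of minus type in dimension 8 have the same set of element orders. -/
theorem result {F : Type*} [Field F] [Fintype F]
    [CharP F 2] (a b : F) (han : ∀ z₁ z₂ : F, z₁ ^ 2 + a * z₁ * z₂ + b * z₂ ^ 2 = 0 → z₁ = 0 ∧ z₂ = 0) :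
    Set.range (orderOf : Cfsg.PSp 4 F → ℕ) = Set.range (orderOf : ↥(Cfsg.isometryGroup F (Cfsg.quadFormMinus 3 F a b)) → ℕ) := by
  have h2 : (2 : F) = 0 := by exact_mod_cast CharP.cast_eq_zero F 2
  apply Set.Subset.antisymm
  · rintro _ ⟨x, rfl⟩
    obtain ⟨h, h', hh, hj⟩ := sp_exact 4 (by norm_num) x (Or.inl h2)
    obtain ⟨E, hE, hgE⟩ := Cfsg.Agent.Lib.Helper45OspBdMain.bd (F := F) _ rfl 4 (by norm_num)
      (by norm_num) (Fin 4 ⊕ Fin 4 → F) (sB 4) (fun v => by rw [sB_apply, sympForm_self])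
      (fun u hu => sympForm_nondeg 4 u (fun v => by rw [← sB_apply]; exact hu v))
      (by rw [Module.finrank_fintype_fun_eq_card, Fintype.card_sum, Fintype.card_fin]) h h' hh
    obtain ⟨M, hEM, hM⟩ := Cfsg.Agent.Lib.Helper45OspTable.table a b han _ rfl E hE
    obtain ⟨y, hy⟩ := hM.elim (fun h => Cfsg.Agent.Lib.Helper45OspReal.real M 4 h a b han)
      (fun h => Cfsg.Agent.Lib.Helper45OspReal.real M 4 h a b han)
    have hxM : orderOf x ∣ M := ((hj E).1 hgE).trans hEM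
    have hfin : Finite ↥(Cfsg.isometryGroup F (Cfsg.quadFormMinus 3 F a b)) := inferInstance
    have hM0 : 0 < M := hy ▸ orderOf_pos y
    have hx0 : 0 < orderOf x := Nat.pos_of_dvd_of_pos hxM hM0
    obtain ⟨c, hc⟩ := hxM
    refine ⟨y ^ c, ?_⟩
    have hc0 : c ≠ 0 := by
      rintro rfl
      simp at hc
      omega
    rw [orderOf_pow_of_dvd hc0 (by rw [hy, hc]; exact Dvd.intro_left _ rfl), hy, hc]
    exact Nat.mul_div_cancel _ (Nat.pos_of_ne_zero hc0)
  · rintro _ ⟨y, rfl⟩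
    exact Cfsg.Agent.Lib.Helper45OspSub.sub 3 a b han y

end Cfsg.Agent.S3589
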