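import Mathlib
import Cfsg.Statements.S3590
import Cfsg.Agent.Lib.Helper45OspBdMain
import Cfsg.Agent.Lib.Helper45OspGrp
import Cfsg.Agent.Lib.Helper45OspDbl
import Cfsg.Agent.Lib.Helper45OspTable2
import Cfsg.Agent.Lib.Helper45OspTrK
import Cfsg.Agent.Lib.Helper45GkD
-- import your own Cfsg.Agent.* helpers here

set_option autoImplicit false
open Cfsg

namespace Cfsg.Agent.S3590

open Module Cfsg.Agent.Lib.Helper45Form Cfsg.Agent.Lib.Helper45Sp
  Cfsg.Agent.Lib.Helper17Symp Cfsg.Agent.Lib.Helper45GkD Cfsg.Agent.Lib.Helper45OspDefs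
  Cfsg.Agent.Lib.Helper45OspDefs2 Cfsg.Agent.Lib.Helper45OspGrp Cfsg.Agent.Lib.Helper45OspDbl
  Cfsg.Agent.Lib.Helper45OspTable2 Cfsg.Agent.Lib.Helper45OspTrK Cfsg.Agent.Lib.Helper45OspPol
  Cfsg.Agent.Lib.Helper45OspStd Cfsg.Agent.Lib.Helper45OspRootless
  Cfsg.Agent.Lib.Helper45OspFixOdd Cfsg.Agent.Lib.Helper7OMinus Cfsg.Agent.Lib.Helper7Norm2

theorem mem_range_of_dvd {H : Type*} [Group H] [Finite H] (n M : ℕ) (hnM : n ∣ M)
    (hM : M ∈ Set.range (orderOf : H → ℕ)) : n ∈ Set.range (orderOf : H → ℕ) := by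
  obtain ⟨y, hy⟩ := hM
  have hM0 : 0 < M := hy ▸ orderOf_pos y
  obtain ⟨c, hc⟩ := hnM
  have hc0 : c ≠ 0 := by
    rintro rfl
    simp at hc
    omega
  refine ⟨y ^ c, ?_⟩
  rw [orderOf_pow_of_dvd hc0 (by rw [hy, hc]; exact Dvd.intro_left _ rfl), hy, hc]
  exact Nat.mul_div_cancel _ (Nat.pos_of_ne_zero hc0)

/-- Let F be a finite field of characteristic 2. Then PSp(8,F) is not determined by its set of element orders, not even up to finitely many groups: for every bound there is a finite group of larger order with exactly the same set of element orders as PSp(8,F). -/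
theorem result {F : Type*} [Field F] [Fintype F]
    [CharP F 2] (M : ℕ) :
    ∃ (H : Type) (_ : Group H) (_ : Fintype H), M < Fintype.card H ∧ Set.range (orderOf : H → ℕ) = Set.range (orderOf : Cfsg.PSp 4 F → ℕ) := by
  have h2 : (2 : F) = 0 := by exact_mod_cast CharP.cast_eq_zero F 2
  obtain ⟨ζ, hζ⟩ := exists_rootless F
  have hab : Aniso 1 ζ := Cfsg.Agent.Lib.Helper48QuadType.aniso_of_rootless ζ hζ
  have hQ : Typ (-1) 4 (QM F (4 - 1) 1 ζ) := typ_QM 4 (by norm_num) 1 ζ hab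
  obtain ⟨H, iG, iF, hcard, hH⟩ := exists_group _ hQ M
  refine ⟨H, iG, iF, hcard, ?_⟩
  apply Set.Subset.antisymm
  · intro n hn
    obtain ⟨g, m, hiso, hev, hm0, hm, h⟩ := (hH n).1 hn
    rcases h with rfl | ⟨rfl, hN⟩
    · exact model_sp n 4 (by norm_num)
        (sp_of_model n (-1) 4 ⟨_, inferInstance, inferInstance, inferInstance, _, g, hQ, hiso, hm⟩)
    · obtain ⟨hA, hnd⟩ := polar_pkg _ _ _ hQ
      obtain ⟨g', hg⟩ := polar_isom _ _ _ hQ g hiso
      exact model_sp _ 4 (by norm_num) (dbl _ hA hnd hQ.2.2.1 hg m hm0 hm hev hN)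
  · rintro _ ⟨x, rfl⟩
    obtain ⟨h, h', hh, hj⟩ := sp_exact 4 (by norm_num) x (Or.inl h2)
    obtain ⟨E, hE, hgE⟩ := Cfsg.Agent.Lib.Helper45OspBdMain.bd (F := F) _ rfl 4 (by norm_num)
      (by norm_num) (Fin 4 ⊕ Fin 4 → F) (sB 4) (fun v => by rw [sB_apply, sympForm_self])
      (fun u hu => sympForm_nondeg 4 u (fun v => by rw [← sB_apply]; exact hu v))
      (by rw [Module.finrank_fintype_fun_eq_card, Fintype.card_sum, Fintype.card_fin]) h h' hh
    have hxE : orderOf x ∣ E := (hj E).1 hgE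
    have key : ∃ M', E ∣ M' ∧ M' ∈ Set.range (orderOf : H → ℕ) := by
      rcases table2 1 ζ hab _ rfl E hE with
        ⟨M', hEM, hodd, W', _, _, _, Q', h', hQ', hiso', hM'⟩ |
        ⟨M', hEM, W', _, _, _, Q', h', hQ', hiso', hM', hev', hN'⟩
      · obtain ⟨g, hgi, hgj, hgf, hgN⟩ := transportK Q' _ 4 hQ' hQ h' hiso'
        refine ⟨M', hEM, (hH M').2 ⟨g, M', hgi, ?_, hodd.pos,
          fun j => (hgj j).trans (hM' j), Or.inl rfl⟩⟩
        exact fix_odd _ hQ g hgi M' hodd ((hgj _).2 ((hM' _).2 dvd_rfl))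
      · obtain ⟨g, hgi, hgj, hgf, hgN⟩ := transportK Q' _ 4 hQ' hQ h' hiso'
        have hpos : 0 < M' := by
          rcases Nat.eq_zero_or_pos M' with rfl | h
          · exact absurd (by simp [Nm]) hN'
          · exact h
        exact ⟨2 * M', hEM, (hH _).2 ⟨g, M', hgi, hgf ▸ hev', hpos,
          fun j => (hgj j).trans (hM' j), Or.inr ⟨rfl, fun h0 => hN' ((hgN _).1 h0)⟩⟩⟩
    obtain ⟨M', hEM', hM'⟩ := key
    exact mem_range_of_dvd _ M' (hxE.trans hEM') hM'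

end Cfsg.Agent.S3590
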