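import Cfsg.Statements.S3634
-- import your own Cfsg.Agent.* helpers here
import Cfsg.Agent.Lib.Helper64Coclique

set_option autoImplicit false
open Cfsg

namespace Cfsg.Agent.S3634

open Cfsg.Agent.Lib.Helper64Coclique

/-- the case where a nontrivial `p`-subgroup is normal -/
theorem aux {L : Type*} [Group L] [Finite L] (P1 M1 : Subgroup L) [P1.Normal] [M1.Normal]
    (p q r : ℕ) (hp : p.Prime) (hq : q.Prime) (hr : r.Prime) (hpq : p ≠ q) (hpr : p ≠ r)
    (hqr : q ≠ r) (hP : IsPGroup p P1) (hP1 : P1 ≠ ⊥) (hqM : q ∣ Nat.card M1)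
    (hrM : r ∣ M1.index) :
    (∃ x : L, orderOf x = p * q) ∨ (∃ x : L, orderOf x = p * r) ∨ (∃ x : L, orderOf x = q * r) := by
  have : Fact p.Prime := ⟨hp⟩
  have : Fact q.Prime := ⟨hq⟩
  -- the abelian normal p-subgroup
  let N : Subgroup L := (Subgroup.center ↥P1).map P1.subtype
  have hNn : N.Normal := inferInstance
  have hNc : ∀ a ∈ N, ∀ b ∈ N, a * b = b * a := by
    rintro _ ⟨a, ha, rfl⟩ _ ⟨b, _, rfl⟩
    have := (Subgroup.mem_center_iff.mp ha b)
    exact (congrArg Subtype.val this).symm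
  have hpN : p ∣ Nat.card N := by
    have h1 : Nat.card N = Nat.card (Subgroup.center ↥P1) :=
      Nat.card_congr ((Subgroup.center ↥P1).equivMapOfInjective _ P1.subtype_injective).symm.toEquiv
    have : Nontrivial ↥P1 := (Subgroup.nontrivial_iff_ne_bot P1).mpr hP1
    have hnt : Nontrivial (Subgroup.center ↥P1) := hP.center_nontrivial
    have hPc : IsPGroup p (Subgroup.center ↥P1) := hP.to_subgroup _
    obtain ⟨k, hk⟩ := IsPGroup.iff_card.mp hPc
    rw [h1, hk]
    rcases k with _ | k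
    · exfalso
      have := Finite.one_lt_card_iff_nontrivial.mpr hnt
      rw [hk] at this
      simp at this
    · exact Dvd.intro_left _ (pow_succ p k).symm
  obtain ⟨Q0⟩ : Nonempty (Sylow q M1) := inferInstance
  have hF := Sylow.normalizer_sup_eq_top Q0
  have hr' : r ∣ Nat.card (⊤ : Subgroup L) / Nat.card M1 := by
    rw [Subgroup.card_top, ← M1.index_mul_card, Nat.mul_div_cancel _ Nat.card_pos]
    exact hrM
  obtain ⟨y, hy, hyo⟩ := exists_orderOf_of_sup_eq_top M1 ⊤ _ le_top hF r hr hr'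
  apply config N hNc p q r hp hq hr hpq hpr hqr hpN ((Q0 : Subgroup M1).map M1.subtype)
    (Q0.2.map _) _ y hyo
  · intro c hc
    exact (Subgroup.mem_normalizer_iff.mp hy.1 c).mp hc
  · rw [Ne, Subgroup.map_eq_bot_iff_of_injective _ M1.subtype_injective]
    exact Q0.ne_bot_of_dvd_card hqM


/-- Let G be a finite group with normal subgroups K ≤ M, and let p, q, r be distinct primes with p dividing the order of K, q dividing the order of M/K and r dividing the order of G/M. Then p, q, r are not pairwise non-adjacent in the prime graph of G: G has an element of order pq, pr or qr. -/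
theorem result {G : Type*} [Group G] [Finite G] (K M : Subgroup G) [K.Normal] [M.Normal] (hKM : K ≤ M)
    (p q r : ℕ) (hp : p.Prime) (hq : q.Prime) (hr : r.Prime) (hpq : p ≠ q) (hpr : p ≠ r) (hqr : q ≠ r)
    (hpK : p ∣ Nat.card ↥K) (hqM : q ∣ Nat.card ↥M / Nat.card ↥K) (hrG : r ∣ Nat.card G / Nat.card ↥M) :
    (∃ x : G, orderOf x = p * q) ∨ (∃ x : G, orderOf x = p * r) ∨ (∃ x : G, orderOf x = q * r) := by
  have : Fact p.Prime := ⟨hp⟩
  obtain ⟨P⟩ : Nonempty (Sylow p K) := inferInstance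
  have hF := Sylow.normalizer_sup_eq_top P
  set P' : Subgroup G := (P : Subgroup K).map K.subtype with hP'
  set G1 : Subgroup G := Subgroup.normalizer (P' : Set G) with hG1
  have hP'1 : P' ≠ ⊥ := by
    rw [Ne, Subgroup.map_eq_bot_iff_of_injective _ K.subtype_injective]
    exact P.ne_bot_of_dvd_card hpK
  have hP'p : IsPGroup p P' := P.2.map _
  have hle : P' ≤ G1 := Subgroup.le_normalizer
  have h1 : IsPGroup p (P'.subgroupOf G1) :=
    hP'p.of_equiv (Subgroup.subgroupOfEquivOfLe hle).symm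
  have h2 : P'.subgroupOf G1 ≠ ⊥ := by
    intro h
    rw [Subgroup.subgroupOf_eq_bot, disjoint_iff, inf_of_le_left hle] at h
    exact hP'1 h
  have h3 : q ∣ Nat.card (M.subgroupOf G1) := by
    obtain ⟨h, ⟨hhG, hhM⟩, hho⟩ := exists_orderOf_of_sup_eq_top K M G1 hKM hF q hq hqM
    have hhG' : h ∈ G1 := hhG
    have hhM' : (⟨h, hhG'⟩ : ↥G1) ∈ M.subgroupOf G1 := hhM
    have h4 := orderOf_dvd_natCard (⟨⟨h, hhG'⟩, hhM'⟩ : M.subgroupOf G1)
    have h5 : orderOf (⟨⟨h, hhG'⟩, hhM'⟩ : M.subgroupOf G1) = q := by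
      rw [← hho, ← Subgroup.orderOf_coe, ← Subgroup.orderOf_coe]
    rwa [h5] at h4
  have h4 : r ∣ (M.subgroupOf G1).index := by
    have h5 : G1 ⊔ M = ⊤ := by
      rw [eq_top_iff, ← hF]
      exact sup_le_sup_left hKM _
    have h6 : (M.subgroupOf G1).index = M.index := by
      change M.relIndex G1 = _
      rw [← Subgroup.relIndex_sup_right, h5, Subgroup.relIndex_top_right]
    rw [h6]
    rwa [← M.index_mul_card, Nat.mul_div_cancel _ Nat.card_pos] at hrG
  have hn : (P'.subgroupOf G1).Normal := Subgroup.normal_in_normalizer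
  rcases aux (P'.subgroupOf G1) (M.subgroupOf G1) p q r hp hq hr hpq hpr hqr h1 h2 h3 h4 with
    ⟨x, hx⟩ | ⟨x, hx⟩ | ⟨x, hx⟩
  · exact Or.inl ⟨x, by rw [Subgroup.orderOf_coe, hx]⟩
  · exact Or.inr (Or.inl ⟨x, by rw [Subgroup.orderOf_coe, hx]⟩)
  · exact Or.inr (Or.inr ⟨x, by rw [Subgroup.orderOf_coe, hx]⟩)

end Cfsg.Agent.S3634
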