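import Cfsg.Statements.S3641
import Cfsg.Agent.Lib.H59SNCore
import Cfsg.Agent.Lib.H59SNNum
import Cfsg.Agent.Lib.H59SNRange
import Cfsg.Agent.Lib.H59SNQuot
import Cfsg.Agent.Lib.H59SNSub
import Cfsg.Agent.Lib.H59SNDkS
import Cfsg.Agent.Lib.H59SNTr
import Cfsg.Agent.S0732

set_option autoImplicit false
open Cfsg

namespace Cfsg.Agent.S3641

open Cfsg.Agent.Lib Subgroup

/-- The main step: the action on the Sylow 17-subgroups is faithful. -/
theorem aux {G : Type*} [Group G] [Finite G] (hZ : Subgroup.center G = ⊥) (hNS : {c : ℕ | ∃ r : ℕ, r.Prime ∧ r ∣ Nat.card G ∧ c = Nat.card (Sylow r G)} = ({18, 136, 153} : Set ℕ)) :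
    Nonempty (G ≃* Matrix.ProjectiveSpecialLinearGroup (Fin 2) (ZMod 17)) ∨
      Nonempty (G ≃* Matrix.ProjGenLinGroup (Fin 2) (ZMod 17)) := by
  classical
  obtain ⟨h17, h2, h3, h5, h19, hpr⟩ := H59SNNum.num hNS
  have : Fact (Nat.Prime 17) := ⟨by norm_num⟩
  have : Fact (Nat.Prime 2) := ⟨by norm_num⟩
  have : Fact (Nat.Prime 3) := ⟨by norm_num⟩
  have : Fact (Nat.Prime 5) := ⟨by norm_num⟩
  have : Fact (Nat.Prime 19) := ⟨by norm_num⟩
  have : Fintype (Sylow 17 G) := Fintype.ofFinite _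
  set φ := MulAction.toPermHom G (Sylow 17 G) with hφ
  obtain ⟨d, hd, hcard⟩ := H59SNRange.card_range h17
  have htr : MulAction.IsPretransitive φ.range (Sylow 17 G) := by
    constructor
    intro P Q
    obtain ⟨g, hg⟩ := MulAction.exists_smul_eq G P Q
    exact ⟨⟨φ g, g, rfl⟩, hg⟩
  have hα : Fintype.card (Sylow 17 G) = 17 + 1 := by
    rw [← Nat.card_eq_fintype_card, h17]
  -- the image, with its order and an embedded copy of PSL(2,17)
  have key : (d = 16 ∨ d = 8) ∧
      (Nonempty (φ.range ≃* Matrix.ProjectiveSpecialLinearGroup (Fin 2) (ZMod 17)) ∨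
        Nonempty (φ.range ≃* Matrix.ProjGenLinGroup (Fin 2) (ZMod 17))) := by
    rcases Cfsg.Agent.S0732.result (p := 17) (d := d) (by norm_num) hα φ.range hcard hd with
      ⟨h1, h2⟩ | ⟨h1, h2⟩ | ⟨q, hq, h1, -⟩
    · exact ⟨Or.inl (by omega), Or.inr h2⟩
    · exact ⟨Or.inr (by omega), Or.inl h2⟩
    · exfalso
      have hq5 : q < 5 := by
        by_contra hcon
        have : 2 ^ 5 ≤ 2 ^ q := Nat.pow_le_pow_right (by norm_num) (by omega)
        omega
      interval_cases q <;> omega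
  obtain ⟨hd', hiso⟩ := key
  obtain ⟨ι, hι⟩ : ∃ ι : Matrix.ProjectiveSpecialLinearGroup (Fin 2) (ZMod 17) →* φ.range,
      Function.Injective ι := by
    rcases hiso with ⟨⟨e⟩⟩ | ⟨⟨e⟩⟩
    · exact ⟨e.symm.toMonoidHom, e.symm.injective⟩
    · exact ⟨e.symm.toMonoidHom.comp Matrix.ProjectiveSpecialLinearGroup.toPGL,
        e.symm.injective.comp Matrix.ProjectiveSpecialLinearGroup.toPGL_injective⟩
  have hker : φ.rangeRestrict.ker = φ.ker := φ.ker_rangeRestrict
  have hK2 : ∀ R : Sylow 2 G, φ.ker ≤ normalizer ((R : Subgroup G) : Set G) := by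
    intro R
    rw [← hker]
    apply H59SNQuot.ker_le_normalizer φ.rangeRestrict φ.rangeRestrict_surjective 2
    rw [h2]
    exact H59SNDkS.card_sylow_two.trans (H59SNSub.card_sylow_le ι hι 2)
  have hK3 : ∀ R : Sylow 3 G, φ.ker ≤ normalizer ((R : Subgroup G) : Set G) := by
    intro R
    rw [← hker]
    apply H59SNQuot.ker_le_normalizer φ.rangeRestrict φ.rangeRestrict_surjective 3
    rw [h3]
    exact H59SNDkS.card_sylow_three.trans (H59SNSub.card_sylow_le ι hι 3)
  have hK17 : ∀ R : Sylow 17 G, φ.ker ≤ normalizer ((R : Subgroup G) : Set G) := by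
    intro R k hk
    have : φ k = 1 := hk
    have h1 : φ k R = R := by rw [this]; rfl
    have h2 : k • R = R := h1
    exact Sylow.smul_eq_iff_mem_normalizer.1 h2
  have hidx : φ.ker.index = 18 * 17 * d := by
    rw [Subgroup.index_ker, hcard]
  have hn5 : ¬ 5 ∣ Nat.card G := by
    intro h
    obtain ⟨a, m, h1, h2, h3⟩ := H59SNCore.excl φ.ker 5 2 (by norm_num)
      (by rw [hidx]; rcases hd' with rfl | rfl <;> norm_num) hK2
    rw [h5 h] at h1
    have ha : a < 8 := by
      by_contra hcon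
      have : 2 ^ 8 ≤ 2 ^ a := Nat.pow_le_pow_right (by norm_num) (by omega)
      have hm : 0 < m := by
        rcases Nat.eq_zero_or_pos m with rfl | hm
        · simp at h2
        · exact hm
      nlinarith
    interval_cases a <;> omega
  have hn19 : ¬ 19 ∣ Nat.card G := by
    intro h
    obtain ⟨a, m, h1, h2, h3⟩ := H59SNCore.excl φ.ker 19 3 (by norm_num)
      (by rw [hidx]; rcases hd' with rfl | rfl <;> norm_num) hK3
    rw [h19 h] at h1
    have ha : a < 5 := by
      by_contra hcon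
      have : 3 ^ 5 ≤ 3 ^ a := Nat.pow_le_pow_right (by norm_num) (by omega)
      have hm : 0 < m := by
        rcases Nat.eq_zero_or_pos m with rfl | hm
        · simp at h2
        · exact hm
      nlinarith
    interval_cases a <;> omega
  have hbot : φ.ker = ⊥ := by
    apply H59SNCore.ker_trivial hZ
    intro r hr hrG
    rcases hpr r hr.out hrG with rfl | rfl | rfl | rfl | rfl
    · exact hK2
    · exact hK3
    · exact absurd hrG hn5
    · exact hK17
    · exact absurd hrG hn19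
  have hinj : Function.Injective φ := (MonoidHom.ker_eq_bot_iff φ).1 hbot
  have e0 : G ≃* φ.range := MonoidHom.ofInjective hinj
  rcases hiso with ⟨⟨e⟩⟩ | ⟨⟨e⟩⟩
  · exact Or.inl ⟨e0.trans e⟩
  · exact Or.inr ⟨e0.trans e⟩

/-- Let G be a finite group with trivial centre whose set of Sylow numbers (numbers of Sylow r-subgroups, r over the prime divisors of its order) is exactly {18, 136, 153}. Then G is isomorphic to PSL(2, 17) or to PGL(2, 17). -/
theorem result {G : Type*} [Group G] [Finite G] (hZ : Subgroup.center G = ⊥) (hNS : {c : ℕ | ∃ r : ℕ, r.Prime ∧ r ∣ Nat.card G ∧ c = Nat.card (Sylow r G)} = ({18, 136, 153} : Set ℕ))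
    {F : Type*} [Field F] [Fintype F] (hF : Fintype.card F = 17) :
    Nonempty (G ≃* Matrix.ProjectiveSpecialLinearGroup (Fin 2) F) ∨ Nonempty (G ≃* (GL (Fin 2) F ⧸ Subgroup.center (GL (Fin 2) F))) := by
  rcases aux hZ hNS with ⟨⟨e⟩⟩ | ⟨⟨e⟩⟩
  · obtain ⟨e'⟩ := H59SNTr.psl_equiv hF
    exact Or.inl ⟨e.trans e'⟩
  · obtain ⟨e'⟩ := H59SNTr.pgl_equiv hF
    exact Or.inr ⟨e.trans e'⟩

end Cfsg.Agent.S3641
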