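import Cfsg.Statements.S3669
-- import your own Cfsg.Agent.* helpers here
import Cfsg.Agent.S0157
import Cfsg.Agent.S0169
import Cfsg.Agent.S0003
import Cfsg.Agent.Lib.Helper82Irr
import Cfsg.Agent.Lib.Helper76Ord120

set_option autoImplicit false
open Cfsg

namespace Cfsg.Agent.S3669

open MulAction in
theorem card_syl5 {G : Type*} [Group G] [Finite G] (hcard : Nat.card G = 60) (P : Sylow 5 G) :
    Nat.card (P : Subgroup G) = 5 := by
  have : Fact (Nat.Prime 5) := ⟨by norm_num⟩
  rw [P.card_eq_multiplicity, hcard]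
  have : (60 : ℕ).factorization 5 = 1 := by
    have h60 : (60 : ℕ) = 5 ^ 1 * 12 := by norm_num
    rw [h60, Nat.factorization_mul (by norm_num) (by norm_num), Nat.Prime.factorization_pow (by norm_num)]
    simp [Nat.factorization_eq_zero_of_not_dvd (show ¬ 5 ∣ 12 by norm_num)]
  rw [this]; norm_num

theorem index_syl5 {G : Type*} [Group G] [Finite G] (hcard : Nat.card G = 60) (P : Sylow 5 G) :
    (P : Subgroup G).index = 12 := by
  have h := (P : Subgroup G).card_mul_index
  rw [card_syl5 hcard P, hcard] at h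
  omega

theorem card_sylow_eq {G : Type*} [Group G] [Finite G] (hcard : Nat.card G = 60)
    (P : Sylow 5 G) (hn : ¬ (P : Subgroup G).Normal) : Nat.card (Sylow 5 G) = 6 := by
  have : Fact (Nat.Prime 5) := ⟨by norm_num⟩
  have h1 := card_sylow_modEq_one 5 G
  have h2 := P.card_dvd_index
  rw [index_syl5 hcard P] at h2
  have h3 : Nat.card (Sylow 5 G) ≤ 12 := Nat.le_of_dvd (by norm_num) h2
  have h4 : Nat.card (Sylow 5 G) ≠ 1 := by
    intro h
    apply hn
    have : Subsingleton (Sylow 5 G) := (Nat.card_eq_one_iff_unique.mp h).1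
    exact P.normal_of_subsingleton
  unfold Nat.ModEq at h1
  generalize Nat.card (Sylow 5 G) = k at *
  interval_cases k <;> simp_all

/-- `P` is transitive on the other Sylow subgroups. -/
theorem exists_smul {G : Type*} [Group G] [Finite G] (hcard : Nat.card G = 60)
    (P : Sylow 5 G) (hn : ¬ (P : Subgroup G).Normal) (a b : Sylow 5 G) (ha : a ≠ P) (hb : b ≠ P) :
    ∃ g ∈ (P : Subgroup G), g • a = b := by
  classical
  have : Fact (Nat.Prime 5) := ⟨by norm_num⟩
  have h6 := card_sylow_eq hcard P hn
  -- the orbit of `a` under `P`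
  set O : Set (Sylow 5 G) := MulAction.orbit (↥(P : Subgroup G)) a with hO
  have hdvd : O.ncard ∣ 5 := by
    rw [hO, ← MulAction.index_stabilizer]
    have := Subgroup.index_dvd_card (MulAction.stabilizer (↥(P : Subgroup G)) a)
    rwa [card_syl5 hcard P] at this
  have hne1 : O.ncard ≠ 1 := by
    intro h1
    apply ha
    have hfix : a ∈ MulAction.fixedPoints (↥(P : Subgroup G)) (Sylow 5 G) := by
      intro g
      obtain ⟨x, hx⟩ := Set.ncard_eq_one.mp h1
      have e1 : g • a ∈ O := MulAction.mem_orbit _ _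
      have e2 : a ∈ O := MulAction.mem_orbit_self _
      rw [hx] at e1 e2
      rw [Set.mem_singleton_iff.mp e1, Set.mem_singleton_iff.mp e2]
    have hle : (P : Subgroup G) ≤ a := (P.2.sylow_mem_fixedPoints_iff).mp hfix
    exact Sylow.ext (P.3 a.2 hle)
  have h5 : O.ncard = 5 := by
    rcases (Nat.dvd_prime (by norm_num : Nat.Prime 5)).mp hdvd with h | h
    · exact absurd h hne1
    · exact h
  have hPO : P ∉ O := by
    rintro ⟨g, hg⟩
    apply ha
    have : (g : G) • a = P := hg
    have h2 : a = (g : G)⁻¹ • P := eq_inv_smul_iff.mpr this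
    rw [h2]
    exact Sylow.smul_eq_iff_mem_normalizer.mpr (Subgroup.le_normalizer (inv_mem g.2))
  have hsub : O ⊆ {P}ᶜ := fun x hx => by
    intro hxP
    exact hPO (Set.mem_singleton_iff.mp hxP ▸ hx)
  have hcompl : ({P}ᶜ : Set (Sylow 5 G)).ncard = 5 := by
    have := Set.ncard_add_ncard_compl ({P} : Set (Sylow 5 G))
    rw [Set.ncard_singleton, h6] at this
    omega
  have heq : O = {P}ᶜ := Set.eq_of_subset_of_ncard_le hsub (by rw [h5, hcompl]) (Set.toFinite _)
  have hbO : b ∈ O := by rw [heq]; exact hb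
  obtain ⟨g, hg⟩ := hbO
  exact ⟨g, g.2, hg⟩

theorem two_trans {G : Type*} [Group G] [Finite G] (hcard : Nat.card G = 60)
    (hn : ∀ P : Sylow 5 G, ¬ (P : Subgroup G).Normal) :
    MulAction.IsMultiplyPretransitive G (Sylow 5 G) 2 := by
  have : Fact (Nat.Prime 5) := ⟨by norm_num⟩
  rw [MulAction.is_two_pretransitive_iff]
  intro a b c d hab hcd
  obtain ⟨g, hg⟩ := MulAction.exists_smul_eq G a c
  have h1 : g • b ≠ c := by
    intro h
    apply hab
    rw [← hg] at h
    exact (MulAction.injective g h).symm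
  obtain ⟨h, hh, hh2⟩ := exists_smul hcard c (hn c) (g • b) d h1 (Ne.symm hcd)
  refine ⟨h * g, ?_, ?_⟩
  · rw [mul_smul, hg]
    exact Sylow.smul_eq_iff_mem_normalizer.mpr (Subgroup.le_normalizer hh)
  · rw [mul_smul, hh2]

theorem five_mem {G : Type*} [Group G] [Finite G] (hcard : Nat.card G = 60)
    (hn : ∀ P : Sylow 5 G, ¬ (P : Subgroup G).Normal) : 5 ∈ Cfsg.degreePrimes G := by
  have : Fact (Nat.Prime 5) := ⟨by norm_num⟩
  obtain ⟨P⟩ : Nonempty (Sylow 5 G) := inferInstance
  have h6 := card_sylow_eq hcard P (hn P)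
  have hirr := (Cfsg.Agent.S0157.result (G := G) (Sylow 5 G) (by rw [h6]; norm_num)).mpr
    (two_trans hcard hn)
  refine ⟨by norm_num, 5, ⟨⟨_, hirr⟩, ?_⟩, dvd_rfl⟩
  have : Nat.card (MulAction.fixedBy (Sylow 5 G) (1 : G)) = 6 := by
    rw [← h6]
    rw [MulAction.fixedBy_one_eq_univ]
    exact Nat.card_congr (Equiv.Set.univ _)
  unfold Cfsg.charDegree
  simp only [this]
  norm_num

theorem not_normal_of_mem {G : Type*} [Group G] [Finite G] (hcard : Nat.card G = 60)
    (h5 : 5 ∈ Cfsg.degreePrimes G) (P : Sylow 5 G) : ¬ (P : Subgroup G).Normal := by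
  have : Fact (Nat.Prime 5) := ⟨by norm_num⟩
  intro hP
  obtain ⟨-, d, ⟨χ, hχ⟩, hd⟩ := h5
  obtain ⟨n, ρ, hirr, hρ⟩ := χ.2
  have hcyc : IsCyclic (P : Subgroup G) := isCyclic_of_prime_card (card_syl5 hcard P)
  have hcomm : ∀ a ∈ (P : Subgroup G), ∀ b ∈ (P : Subgroup G), a * b = b * a := by
    intro a ha b hb
    have := (IsCyclic.commGroup (α := (P : Subgroup G))).mul_comm ⟨a, ha⟩ ⟨b, hb⟩
    exact congrArg Subtype.val this
  have hdvd := Cfsg.Agent.S0169.result ρ (P : Subgroup G) hcomm
  rw [index_syl5 hcard P] at hdvd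
  have hdn : d = Module.finrank ℂ (Fin n → ℂ) := by
    have h1 := Cfsg.Agent.Lib.Helper82Irr.irr_charDegree_cast χ
    rw [hχ, ← hρ, Representation.char_one] at h1
    exact_mod_cast h1
  rw [← hdn] at hdvd
  have := hd.trans hdvd
  omega

theorem normal_of_solvable {G : Type*} [Group G] [Finite G] (hcard : Nat.card G = 60)
    (hs : Group.IsSolvable G) : ∃ P : Sylow 5 G, (P : Subgroup G).Normal := by
  have : Fact (Nat.Prime 5) := ⟨by norm_num⟩
  obtain ⟨H, hH⟩ := Cfsg.Agent.S0003.result (G := G) 15 4 (by rw [hcard]) (by norm_num)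
  obtain ⟨Q⟩ : Nonempty (Sylow 5 H) := inferInstance
  have hQcard : Nat.card (Q : Subgroup H) = 5 := by
    rw [Q.card_eq_multiplicity, hH]
    have : (15 : ℕ).factorization 5 = 1 := by
      have h15 : (15 : ℕ) = 5 ^ 1 * 3 := by norm_num
      rw [h15, Nat.factorization_mul (by norm_num) (by norm_num),
        Nat.Prime.factorization_pow (by norm_num)]
      simp [Nat.factorization_eq_zero_of_not_dvd (show ¬ 5 ∣ 3 by norm_num)]
    rw [this]; norm_num
  have hQidx : (Q : Subgroup H).index = 3 := by
    have h := (Q : Subgroup H).card_mul_index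
    rw [hQcard, hH] at h
    omega
  have hQn : (Q : Subgroup H).Normal := by
    have h1 := card_sylow_modEq_one 5 H
    have h2 := Q.card_dvd_index
    rw [hQidx] at h2
    have h3 : Nat.card (Sylow 5 H) ≤ 3 := Nat.le_of_dvd (by norm_num) h2
    have h4 : Nat.card (Sylow 5 H) = 1 := by
      unfold Nat.ModEq at h1
      generalize Nat.card (Sylow 5 H) = k at *
      interval_cases k <;> simp_all
    have : Subsingleton (Sylow 5 H) := (Nat.card_eq_one_iff_unique.mp h4).1
    exact Q.normal_of_subsingleton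
  set Q' : Subgroup G := (Q : Subgroup H).map H.subtype with hQ'
  have hQ'card : Nat.card Q' = 5 := by
    rw [hQ', Subgroup.card_map_of_injective H.subtype_injective, hQcard]
  have h60 : (60 : ℕ).factorization 5 = 1 := by
    have h60 : (60 : ℕ) = 5 ^ 1 * 12 := by norm_num
    rw [h60, Nat.factorization_mul (by norm_num) (by norm_num), Nat.Prime.factorization_pow (by norm_num)]
    simp [Nat.factorization_eq_zero_of_not_dvd (show ¬ 5 ∣ 12 by norm_num)]
  let P : Sylow 5 G := Sylow.ofCard Q' (by rw [hQ'card, hcard, h60]; norm_num)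
  have hPQ : (P : Subgroup G) = Q' := Sylow.coe_ofCard _ _
  have hle : H ≤ Subgroup.normalizer ((P : Subgroup G) : Set G) := by
    rw [hPQ]
    intro h hh
    rw [Subgroup.mem_set_normalizer_iff]
    intro x
    constructor
    · rintro ⟨y, hy, rfl⟩
      exact ⟨⟨h, hh⟩ * y * ⟨h, hh⟩⁻¹, hQn.conj_mem y hy ⟨h, hh⟩, rfl⟩
    · rintro ⟨y, hy, hyx⟩
      refine ⟨⟨h, hh⟩⁻¹ * y * ⟨h, hh⟩, ?_, ?_⟩
      · have := hQn.conj_mem y hy (⟨h, hh⟩⁻¹ : H)
        rw [inv_inv] at this
        exact this
      · have : (y : G) = h * x * h⁻¹ := hyx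
        simp [this, mul_assoc]
  refine ⟨P, ?_⟩
  have h1 := card_sylow_modEq_one 5 G
  have h2 : Nat.card (Sylow 5 G) ∣ 4 := by
    rw [P.card_eq_index_normalizer]
    have hidx : H.index = 4 := by
      have h := H.card_mul_index
      rw [hH, hcard] at h
      omega
    rw [← hidx]
    exact Subgroup.index_dvd_of_le hle
  have h3 : Nat.card (Sylow 5 G) ≤ 4 := Nat.le_of_dvd (by norm_num) h2
  have h4 : Nat.card (Sylow 5 G) = 1 := by
    unfold Nat.ModEq at h1
    generalize Nat.card (Sylow 5 G) = k at *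
    interval_cases k <;> simp_all
  have : Subsingleton (Sylow 5 G) := (Nat.card_eq_one_iff_unique.mp h4).1
  exact P.normal_of_subsingleton

theorem five_mem_A5 : 5 ∈ Cfsg.degreePrimes (alternatingGroup (Fin 5)) := by
  have : Fact (Nat.Prime 5) := ⟨by norm_num⟩
  have hc : Nat.card (alternatingGroup (Fin 5)) = 60 := by
    rw [nat_card_alternatingGroup, Nat.card_eq_fintype_card, Fintype.card_fin]
    decide
  apply five_mem hc
  intro P hP
  have := alternatingGroup.isSimpleGroup (α := Fin 5) (by simp)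
  rcases hP.eq_bot_or_eq_top with h | h
  · have := card_syl5 hc P
    rw [h] at this
    simp at this
  · have := card_syl5 hc P
    rw [h, Subgroup.card_top, hc] at this
    omega

/-- The character degree graph of a finite group has as vertices the primes dividing some irreducible complex character degree, two distinct primes being joined when their product divides some irreducible character degree; two groups have the same character degree graph when they have the same vertices and the same joined pairs. A finite group of order 60 with the same character degree graph as the alternating group A₅ (whose character degrees are 1, 3, 4, 5, so the graph has vertices 2, 3, 5 and no edges) is isomorphic to A₅. -/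
theorem result {G : Type*} [Group G] [Finite G] (hcard : Nat.card G = 60)
    (hΓ : Cfsg.degreePrimes G = Cfsg.degreePrimes (alternatingGroup (Fin 5)) ∧ Cfsg.degreeGraph G = Cfsg.degreeGraph (alternatingGroup (Fin 5))) : Nonempty (G ≃* alternatingGroup (Fin 5)) := by
  have h5 : 5 ∈ Cfsg.degreePrimes G := by rw [hΓ.1]; exact five_mem_A5
  apply Cfsg.Agent.Lib.Helper76Ord120.equiv_A5 hcard
  intro hs
  obtain ⟨P, hP⟩ := normal_of_solvable hcard hs
  exact not_normal_of_mem hcard h5 P hP

end Cfsg.Agent.S3669
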