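import Cfsg.Statements.S3770
import Cfsg.Agent.Lib.Helper36Frob2
import Cfsg.Agent.S0033
import Cfsg.Agent.S0035

set_option autoImplicit false
open Cfsg
open scoped Pointwise

namespace Cfsg.Agent.S3770

/-- Let G and V be subgroups of a finite group with G a Frobenius group with complement R of prime order and kernel K, G normalizing V, and V an elementary abelian ℓ-group for a prime ℓ not dividing the order of G. If C_V(R) has order ℓ, then the derived subgroup of K centralizes V. -/
theorem result {X : Type*} [Group X] [Finite X] (G : Subgroup X) (V : Subgroup X) {ℓ : ℕ} (hℓ : ℓ.Prime) (hV : Cfsg.IsElementaryAbelian ℓ V) (hℓG : ¬ ℓ ∣ Nat.card G) (hGV : G ≤ Subgroup.normalizer (V : Set X)) (R : Subgroup ↥G) (hR : Cfsg.IsFrobeniusComplement R) (hRp : (Nat.card R).Prime) (hCV : Nat.card ↥(V ⊓ Subgroup.centralizer ((R.map G.subtype : Subgroup X) : Set X)) = ℓ) : ⁅Subgroup.closure (Subtype.val '' Cfsg.frobeniusKernel R), Subgroup.closure (Subtype.val '' Cfsg.frobeniusKernel R)⁆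 ≤ Subgroup.centralizer (V : Set X) := by
  obtain ⟨N, hNset, hNn, hNc⟩ := Cfsg.Agent.S0035.result R hR
  have hp : Fact (Nat.card R).Prime := ⟨hRp⟩
  -- fixed point freeness
  have hfpf : ∀ r ∈ R, r ≠ 1 → ∀ k ∈ N, r * k = k * r → k = 1 := by
    intro r hr hr1 k hk h
    have hkR : k ∈ R := by
      by_contra hkR
      have h1 := hR.2.2 k hkR
      have h2 : r ∈ R ⊓ (MulAut.conj k • R) := by
        refine ⟨hr, ?_⟩
        change r ∈ MulAut.conj k • R
        rw [Subgroup.mem_pointwise_smul_iff_inv_smul_mem]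
        have h3 : (MulAut.conj k)⁻¹ • r = r := by
          rw [MulAut.smul_def, ← map_inv, MulAut.conj_apply, inv_inv, mul_assoc, h, inv_mul_cancel_left]
        rw [h3]
        exact hr
      rw [h1] at h2
      exact hr1 (Subgroup.mem_bot.mp h2)
    have h4 : k ∈ N ⊓ R := ⟨hk, hkR⟩
    rw [hNc.disjoint.eq_bot] at h4
    exact Subgroup.mem_bot.mp h4
  -- a generator of `R`
  obtain ⟨r, hrR, hr1⟩ : ∃ r ∈ R, r ≠ 1 := by
    by_contra hcon
    push Not at hcon
    exact hR.1 ((Subgroup.eq_bot_iff_forall R).mpr hcon)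
  -- `N` is nilpotent by Thompson's theorem
  have hNnil : Group.IsNilpotent N := by
    let φ : N ≃* N := MulAut.conjNormal r
    have hφ : ∀ n : N, ((φ n : N) : ↥G) = r * n * r⁻¹ := fun n => MulAut.conjNormal_apply r n
    have hfix : ∀ n : N, φ n = n → n = 1 := by
      intro n hn
      have h1 : r * (n : ↥G) * r⁻¹ = n := by rw [← hφ, hn]
      exact Subtype.ext (hfpf r hrR hr1 n n.2 (mul_inv_eq_iff_eq_mul.mp h1))
    refine Cfsg.Agent.S0033.result φ hfix (Nat.card R) hRp ?_
    apply orderOf_eq_prime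
    · have h1 : r ^ Nat.card R = 1 := by
        have := pow_card_eq_one' (G := R) (x := ⟨r, hrR⟩)
        exact congrArg Subtype.val this
      change (MulAut.conjNormal r : MulAut N) ^ Nat.card R = 1
      rw [← map_pow, h1, map_one]
    · intro h1
      apply hR.2.1
      have hNbot : N = ⊥ := by
        rw [Subgroup.eq_bot_iff_forall]
        intro n hn
        have := hfix ⟨n, hn⟩ (by rw [h1]; rfl)
        exact congrArg Subtype.val this
      have h2 := hNc.sup_eq_top
      rwa [hNbot, bot_sup_eq] at h2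
  have hcl : Subgroup.closure (Subtype.val '' Cfsg.frobeniusKernel R) = N.map G.subtype := by
    rw [← hNset]
    have : (Subtype.val '' (N : Set ↥G) : Set X) = ((N.map G.subtype : Subgroup X) : Set X) := by
      ext x
      simp
    rw [this, Subgroup.closure_eq]
  rw [hcl]
  have eN : ↥N ≃* ↥(N.map G.subtype) := N.equivMapOfInjective G.subtype G.subtype_injective
  have hVp : IsPGroup ℓ V := by
    intro a
    refine ⟨1, ?_⟩
    rw [pow_one]
    exact Subtype.ext (hV.2 a a.2)
  have hfl : Fact ℓ.Prime := ⟨hℓ⟩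
  apply Cfsg.Agent.Lib.Helper36Frob2.commutator_le_centralizer_of_frob (N.map G.subtype) (R.map G.subtype) V
  · exact Group.nilpotent_of_mulEquiv eN
  · rintro _ ⟨s, hs, rfl⟩
    rw [Subgroup.mem_normalizer_iff]
    intro x
    constructor
    · rintro ⟨n, hn, rfl⟩
      exact ⟨s * n * s⁻¹, hNn.conj_mem n hn s, rfl⟩
    · rintro ⟨n, hn, hnx⟩
      refine ⟨s⁻¹ * n * s, by simpa using hNn.conj_mem n hn s⁻¹, ?_⟩
      have h1 : (G.subtype (s⁻¹ * n * s) : X) = (G.subtype s)⁻¹ * G.subtype n * G.subtype s := by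
        simp
      rw [h1, hnx]
      group
  · rintro _ ⟨s, hs, rfl⟩ hs1 _ ⟨n, hn, rfl⟩ h
    have h1 : s * n = n * s := Subtype.ext h
    have h2 := hfpf s hs (fun h0 => hs1 (by rw [h0]; rfl)) n hn h1
    rw [h2]
    rfl
  · rintro _ ⟨n, _, rfl⟩
    exact hGV n.2
  · rintro _ ⟨n, _, rfl⟩
    exact hGV n.2
  · intro a ha b hb
    have := hV.1
    exact congrArg Subtype.val (mul_comm' (⟨a, ha⟩ : V) ⟨b, hb⟩)
  · rw [← Nat.card_congr eN.toEquiv]
    obtain ⟨m, hm⟩ := (IsPGroup.iff_card).mp hVp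
    rw [hm]
    apply Nat.Coprime.pow_right
    rw [Nat.coprime_comm, Nat.Prime.coprime_iff_not_dvd hℓ]
    intro hd
    exact hℓG (hd.trans (Subgroup.card_subgroup_dvd_card N))
  · rw [hCV]
    exact hℓ

end Cfsg.Agent.S3770
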