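import Cfsg.Statements.S3779
import Cfsg.Agent.S0033
import Cfsg.Agent.Lib.Helper92KDefs
import Cfsg.Agent.Lib.H92KGroupLie
import Cfsg.Agent.Lib.H92KTensor
import Cfsg.Agent.Lib.H92KGraded
import Cfsg.Agent.Lib.H92KCop

set_option autoImplicit false
open Cfsg

namespace Cfsg.Agent.S3779

open Cfsg.Agent.Lib.Helper92KDefs

theorem lcs_inj {L M : Type*} [LieRing L] [LieRing M] (ι : L →+ M)
    (hι : ∀ x y : L, ι ⁅x, y⁆ = ⁅ι x, ι y⁆) (c : ℕ) : ∀ x ∈ Lcs L c, ι x ∈ Lcs M c := by
  induction c with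
  | zero => intro x _; exact AddSubgroup.mem_top _
  | succ k ih =>
    intro x hx
    induction hx using AddSubgroup.closure_induction with
    | mem z hz =>
      obtain ⟨u, hu, y, rfl⟩ := hz
      rw [hι]
      exact AddSubgroup.subset_closure ⟨ι u, ih u hu, ι y, rfl⟩
    | zero => rw [map_zero]; exact AddSubgroup.zero_mem _
    | add a b _ _ ha hb => rw [map_add]; exact AddSubgroup.add_mem _ ha hb
    | neg a _ ha => rw [map_neg]; exact AddSubgroup.neg_mem _ ha

theorem lcs_stable {G : Type*} [Group G] (c : ℕ)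
    (h : (⊤ : Subgroup G).lowerCentralSeries c = (⊤ : Subgroup G).lowerCentralSeries (c + 1)) (k : ℕ) :
    (⊤ : Subgroup G).lowerCentralSeries (c + k) = (⊤ : Subgroup G).lowerCentralSeries c := by
  induction k with
  | zero => rfl
  | succ k ih =>
    rw [← add_assoc, Subgroup.lowerCentralSeries_succ, ih, ← Subgroup.lowerCentralSeries_succ, ← h]

theorem key {G : Type*} [Group G] [Finite G] {p : ℕ} (hp : p.Prime) (α : MulAut G)
    (hα : orderOf α = p) (hfpf : ∀ g : G, α g = g → g = 1) :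
    (⊤ : Subgroup G).lowerCentralSeries (hkkBound p) = ⊥ ∧
      (p = 3 → (⊤ : Subgroup G).lowerCentralSeries 2 = ⊥) := by
  have : Fact p.Prime := ⟨hp⟩
  have hnil : Group.IsNilpotent G :=
    Cfsg.Agent.S0033.result α (fun g hg => hfpf g hg) p hp hα
  have hαp : α ^ p = 1 := by rw [← hα]; exact pow_orderOf_eq_one α
  -- `p` does not divide `|G|`
  have hcop : (Nat.card G).Coprime p := Cfsg.Agent.Lib.H92KCop.coprime_card hp α hα hfpf
  obtain ⟨L, _, Φ, h1, h2, h3, h4, h5⟩ := Cfsg.Agent.Lib.H92KGroupLie.exists_lie p α hαp hfpf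
  obtain ⟨M, _, F, ι, g1, g2, g3, g4⟩ :=
    Cfsg.Agent.Lib.H92KTensor.exists_graded p Φ h1 h2 h3 (Nat.card G) hcop h4
  obtain ⟨m1, m2⟩ := Cfsg.Agent.Lib.H92KGraded.graded_main p F g1 g2
  have tr : ∀ c : ℕ, Lcs M c = ⊥ → (⊤ : Subgroup G).lowerCentralSeries c = ⊥ := by
    intro c hc
    have hL : Lcs L c = ⊥ := by
      rw [eq_bot_iff]
      intro x hx
      have := lcs_inj ι g4 c x hx
      rw [hc, AddSubgroup.mem_bot] at this
      rw [AddSubgroup.mem_bot]
      exact g3 (by rw [this, map_zero])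
    have hst := lcs_stable c (h5 c hL)
    obtain ⟨k, hk⟩ := Subgroup.nilpotent_iff_lowerCentralSeries.1 hnil
    rw [← hst k, eq_bot_iff, ← hk]
    exact Subgroup.lowerCentralSeries_antitone _ (Nat.le_add_left k c)
  exact ⟨tr _ m1, fun h => tr _ (m2 h)⟩

/-- Let G be a finite group with an automorphism of prime order p fixing only the identity. Then G is nilpotent; if p = 2 then G is abelian, if p = 3 then G has class at most 2, and in general the class of G is at most ξ = 1 + (p−1) + (p−1)² + ⋯ + (p−1)^(n−1) with n = 2^(p−1) − 1 (the Higman–Kreknin–Kostrikin bound). -/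
theorem result {G : Type*} [Group G] [Finite G] {p : ℕ} (hp : p.Prime) (α : MulAut G) (hα : orderOf α = p) (hfpf : ∀ g : G, α g = g → g = 1) : (p = 2 → (⊤ : Subgroup G).lowerCentralSeries 1 = ⊥) ∧ (p = 3 → (⊤ : Subgroup G).lowerCentralSeries 2 = ⊥) ∧ (⊤ : Subgroup G).lowerCentralSeries (Finset.sum (Finset.range (2 ^ (p - 1) - 1)) (fun i => (p - 1) ^ i)) = ⊥ := by
  obtain ⟨k1, k2⟩ := key hp α hα hfpf
  refine ⟨?_, k2, k1⟩
  intro h2
  subst h2
  have : hkkBound 2 = 1 := by simp [hkkBound]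
  rw [this] at k1
  exact k1

end Cfsg.Agent.S3779
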