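import Cfsg.Statements.S3787
import Cfsg.Agent.Lib.H87WRModel
import Cfsg.Agent.Lib.H87WRSect
import Cfsg.Agent.Lib.H87WRNB
import Cfsg.Agent.Lib.H87WRPick

set_option autoImplicit false
open Cfsg

namespace Cfsg.Agent.S3787

open Cfsg.Agent.Lib Cfsg.Agent.Lib.Helper87WRDefs

/-- Let G be a finite p-soluble group, p an odd prime not of the form 2^k + 1, and suppose the wreath product C_p ≀ C_p (of order p^(p+1)) is not involved in a Sylow p-subgroup of G: no section of a Sylow p-subgroup is isomorphic to it. Then G has p-length at most 1. -/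
theorem result {G : Type*} [Group G] [Finite G] {p : ℕ} [Fact p.Prime] (hp2 : p ≠ 2) (hnf : (¬ ∃ k : ℕ, p = 2 ^ k + 1)) (hG : Cfsg.IsPSolvable p G) (P : Sylow p G) (hwr : ∀ (W : Type) [Group W] [Finite W], (∃ (B : Subgroup W) (t : W), B.Normal ∧ IsMulCommutative B ∧ (∀ b ∈ B, b ^ p = 1) ∧ Nat.card B = p ^ p ∧ orderOf t = p ∧ t ∉ B ∧ Nat.card W = p ^ (p + 1) ∧ Nat.card ↥(B ⊓ Subgroup.centralizer ({t} : Set W)) = p) → ¬ Cfsg.Involves W ↥(P : Subgroup G)) : Cfsg.PLengthLE p 1 G := by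
  rw [Helper31PLength.pLengthLE_one_iff]
  by_contra hcon
  obtain ⟨hVP, x, hxP, hxV, hxp⟩ := H87WRPick.pick P hcon
  have hs : IsPSolvable p (G ⧸ pPrimeCore p G) := Helper38PSolv.isPSolvable_quotient _ hG
  have h0 : pPrimeCore p (G ⧸ pPrimeCore p G) = ⊥ := Helper60Core.pPrimeCore_quotient_eq_bot p
  obtain ⟨v, hv, hne⟩ := H87WRNB.nb hp2 hnf hs h0 x hxV hxp
  have h1 := H87WRSect.sect _ hVP x hxP hxp v hv hne
  have h2 : Involves (Wr p) ↥(P : Subgroup G) :=
    Helper24Section.Involves.trans h1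
      (S5299.involves_of_surjective ((QuotientGroup.mk' (pPrimeCore p G)).subgroupMap (P : Subgroup G))
        ((QuotientGroup.mk' (pPrimeCore p G)).subgroupMap_surjective (P : Subgroup G)))
  have := H87WRModel.finite_wr p
  exact hwr (Wr p) (H87WRModel.model p) h2

end Cfsg.Agent.S3787
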