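import Cfsg.Statements.S3796
import Cfsg.Agent.Lib.Helper66Ward9

set_option autoImplicit false
open Cfsg

namespace Cfsg.Agent.S3796

open Cfsg.Agent.Lib.Helper66Ward9

theorem main.{u, v} {p : ℕ} (hp : p.Prime) {A₀ : Type v} [Group A₀] [Finite A₀]
    (hcomm : ∀ a b : A₀, a * b = b * a) (hexp : ∀ a : A₀, a ^ p = 1)
    (hcard : Nat.card A₀ = p ^ 2) : ∀ n : ℕ, ∀ (G : Type u) [Group G] [Finite G], Nat.card G = n →
    Group.IsSolvable G → ∀ ρ : A₀ →* MulAut G, (∀ g, (∀ a, ρ a g = g) → g = 1) →
    ∃ N : Subgroup G, N.Normal ∧ Group.IsNilpotent N ∧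
      ∃ k, (⊤ : Subgroup G).lowerCentralSeries k ≤ N := by
  intro n
  induction n using Nat.strong_induction_on with
  | _ n ih =>
  intro G _ _ hn hsol ρ hf
  have := Fact.mk hp
  have hA₀ : IsPGroup p A₀ := IsPGroup.of_card hcard
  by_cases hG : Subsingleton G
  · refine ⟨⊥, inferInstance, inferInstance, 0, ?_⟩
    intro g _
    rw [Subgroup.mem_bot]
    exact Subsingleton.elim _ _
  rw [not_subsingleton_iff_nontrivial] at hG
  let S : Set (Subgroup G) := {V | V ≠ ⊥ ∧ V.Normal ∧ ∀ a, ∀ v ∈ V, ρ a v ∈ V}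
  have hSne : S.Nonempty := ⟨⊤, top_ne_bot, inferInstance, fun _ _ _ => Subgroup.mem_top _⟩
  obtain ⟨V, hV⟩ := (Set.toFinite S).exists_minimal hSne
  obtain ⟨hVne, hVn, hσV⟩ := hV.prop
  have hmin : ∀ W : Subgroup G, W.Normal → (∀ a, ∀ w ∈ W, ρ a w ∈ W) → W ≤ V → W = ⊥ ∨ W = V := by
    intro W hWn hWσ hWV
    by_cases hW : W = ⊥
    · exact Or.inl hW
    · exact Or.inr (hV.eq_of_le ⟨hW, hWn, hWσ⟩ hWV)
  obtain ⟨m, hm⟩ := step hp hcomm hexp hcard hsol ρ hf V hVne hσV hmin
  have hmap : ∀ a, V.map (ρ a : G →* G) = V := by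
    intro a
    apply Subgroup.eq_of_le_of_card_ge
    · rintro _ ⟨v, hv, rfl⟩
      exact hσV a v hv
    · rw [Subgroup.card_map_of_injective (ρ a).injective]
  let ρ' : A₀ →* MulAut (G ⧸ V) :=
    { toFun := fun a => QuotientGroup.congr V V (ρ a) (hmap a)
      map_one' := by
        ext x
        induction x using QuotientGroup.induction_on with
        | H g =>
          rw [QuotientGroup.congr_mk, map_one]; rfl
      map_mul' := by
        intro a b
        ext x
        induction x using QuotientGroup.induction_on with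
        | H g =>
          rw [QuotientGroup.congr_mk, MulAut.mul_apply, QuotientGroup.congr_mk,
            QuotientGroup.congr_mk, map_mul]; rfl }
  have hρ' : ∀ (a : A₀) (g : G), ρ' a (g : G ⧸ V) = ((ρ a g : G) : G ⧸ V) := fun a g =>
    QuotientGroup.congr_mk V V (ρ a) (hmap a) g
  have hcard' := Subgroup.card_eq_card_quotient_mul_card_subgroup V
  have hV1 : 1 < Nat.card V := (Subgroup.one_lt_card_iff_ne_bot V).mpr hVne
  have hlt : Nat.card (G ⧸ V) < n := by
    rw [← hn, hcard']
    have : 0 < Nat.card (G ⧸ V) := Nat.card_pos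
    nlinarith
  obtain ⟨N', hN'n, hN'nil, k, hk⟩ := ih _ hlt (G ⧸ V) rfl inferInstance ρ'
    (by
      intro x
      induction x using QuotientGroup.induction_on with
      | H g =>
        intro h
        rw [QuotientGroup.eq_one_iff]
        apply mem_of_coset_fixed hA₀ ρ hf V hσV
        intro a
        have h1 := h a
        rw [hρ', eq_comm, QuotientGroup.eq] at h1
        exact h1)
  refine ⟨N'.comap (QuotientGroup.mk' V) ⊓ Subgroup.centralizer (V : Set G), inferInstance, ?_,
    max k m, ?_⟩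
  · set N := N'.comap (QuotientGroup.mk' V) ⊓ Subgroup.centralizer (V : Set G) with hN
    let f : N →* N' := ((QuotientGroup.mk' V).comp N.subtype).codRestrict N' (fun x => x.2.1)
    apply Subgroup.isNilpotent_of_ker_le_center f
    intro x hx
    rw [MonoidHom.mem_ker] at hx
    have h1 : ((x : G) : G ⧸ V) = 1 := congrArg Subtype.val hx
    rw [QuotientGroup.eq_one_iff] at h1
    rw [Subgroup.mem_center_iff]
    intro y
    apply Subtype.ext
    exact (Subgroup.mem_centralizer_iff.mp y.2.2 x h1).symm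
  · apply le_inf
    · refine (Subgroup.lowerCentralSeries_antitone _ (le_max_left k m)).trans ?_
      rw [← Subgroup.map_le_iff_le_comap, Subgroup.map_lowerCentralSeries]
      exact (Subgroup.lowerCentralSeries_mono k le_top).trans hk
    · exact (Subgroup.lowerCentralSeries_antitone _ (le_max_right k m)).trans hm

/-- Ward's Theorem: let G be a finite solvable group and A an elementary abelian group of automorphisms of G of order p² (p a prime) with no non-identity common fixed point. Then G has Fitting height at most 2: G has Fitting height at most m when there is a chain of normal subgroups 1 = F₀ ≤ F₁ ≤ ⋯ ≤ F_m = G with each F_{i+1}/F_i nilpotent. -/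
theorem result {G : Type*} [Group G] [Finite G] (hG : Group.IsSolvable G) {p : ℕ} (hp : p.Prime) (A : Subgroup (MulAut G)) (hA : Cfsg.IsElementaryAbelian p A) (hcard : Nat.card A = p ^ 2) (hfpf : ∀ g : G, (∀ a ∈ A, a g = g) → g = 1) : ∃ F : Fin (2 + 1) → Subgroup G, F 0 = ⊥ ∧ F (Fin.last 2) = ⊤ ∧ Monotone F ∧ (∀ i, (F i).Normal) ∧ ∀ i : Fin 2, ∃ k : ℕ, (F i.succ).lowerCentralSeries k ≤ F i.castSucc := by
  obtain ⟨hAc, hAe⟩ := hA
  obtain ⟨N, hNn, hNnil, k, hk⟩ := main hp (A₀ := A) (fun a b => hAc.is_comm.comm a b)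
    (fun a => Subtype.ext (by simpa using hAe a a.2)) hcard _ G rfl hG A.subtype
    (fun g hg => hfpf g (fun a ha => hg ⟨a, ha⟩))
  obtain ⟨j, hj⟩ := (Subgroup.isNilpotent_iff_lowerCentralSeries N).mp hNnil
  refine ⟨![⊥, N, ⊤], rfl, rfl, ?_, ?_, ?_⟩
  · intro a b hab
    fin_cases a <;> fin_cases b <;> simp_all
  · intro i
    fin_cases i
    · exact (inferInstance : (⊥ : Subgroup G).Normal)
    · exact hNn
    · exact (inferInstance : (⊤ : Subgroup G).Normal)
  · intro i
    fin_cases i
    · exact ⟨j, hj.le⟩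
    · exact ⟨k, hk⟩

end Cfsg.Agent.S3796
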