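import Cfsg.Statements.S3807
-- import your own Cfsg.Agent.* helpers here
import Mathlib

set_option autoImplicit false
open Cfsg

namespace Cfsg.Agent.S3807

open scoped commutatorElement

theorem card_eq_mul_of_fiber_eq {α β : Type*} [Finite α] [Finite β] (f : α → β) (n : ℕ)
    (h : ∀ b, Nat.card {a // f a = b} = n) : Nat.card α = Nat.card β * n := by
  classical
  haveI := Fintype.ofFinite β
  rw [← Nat.card_congr (Equiv.sigmaFiberEquiv f), Nat.card_sigma]
  calc ∑ b, Nat.card {a // f a = b} = ∑ _b : β, n := Finset.sum_congr rfl fun b _ => h b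
    _ = Nat.card β * n := by simp [Nat.card_eq_fintype_card]

variable {S : Type*} [Group S] [Finite S]

theorem sup_zpowers_eq_top {p : ℕ} (hp : p.Prime) {A : Subgroup S} (hA : A.index = p) {y : S}
    (hy : y ∉ A) : A ⊔ Subgroup.zpowers y = ⊤ := by
  have h1 := Subgroup.relIndex_mul_index (le_sup_left : A ≤ A ⊔ Subgroup.zpowers y)
  rw [hA] at h1
  have h2 : (A ⊔ Subgroup.zpowers y).index ∣ p := Dvd.intro_left _ h1
  rcases (Nat.dvd_prime hp).mp h2 with h | h
  · exact Subgroup.index_eq_one.mp h
  · exfalso
    rw [h] at h1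
    have h3 : A.relIndex (A ⊔ Subgroup.zpowers y) = 1 :=
      Nat.eq_of_mul_eq_mul_right hp.pos (by rw [h1, one_mul])
    have h4 := Subgroup.relIndex_eq_one.mp h3
    exact hy (h4 (Subgroup.mem_sup_right (Subgroup.mem_zpowers y)))

theorem mem_center_of {p : ℕ} (hp : p.Prime) {A : Subgroup S} (hAc : ∀ a ∈ A, ∀ b ∈ A, a * b = b * a)
    (hA : A.index = p) {y : S} (hy : y ∉ A) {a : S} (ha : a ∈ A) (hay : a * y = y * a) :
    a ∈ Subgroup.center S := by
  have h1 : A ⊔ Subgroup.zpowers y ≤ Subgroup.centralizer {a} := by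
    apply sup_le
    · intro b hb
      exact Subgroup.mem_centralizer_singleton_iff.mpr (hAc b hb a ha)
    · rw [Subgroup.zpowers_le]
      exact Subgroup.mem_centralizer_singleton_iff.mpr hay.symm
  rw [sup_zpowers_eq_top hp hA hy] at h1
  rw [Subgroup.mem_center_iff]
  intro g
  exact Subgroup.mem_centralizer_singleton_iff.mp (h1 (Subgroup.mem_top g))

theorem center_le {p : ℕ} (hp : p.Prime) (hna : ¬ IsMulCommutative S) {A : Subgroup S}
    (hAc : ∀ a ∈ A, ∀ b ∈ A, a * b = b * a) (hA : A.index = p) : Subgroup.center S ≤ A := by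
  intro z hz
  by_contra hzA
  apply hna
  have hAZ : A ≤ Subgroup.center S := fun a ha =>
    mem_center_of hp hAc hA hzA ha (Subgroup.mem_center_iff.mp hz a)
  have h1 : Subgroup.center S = ⊤ := by
    rw [eq_top_iff, ← sup_zpowers_eq_top hp hA hzA]
    exact sup_le hAZ (Subgroup.zpowers_le.mpr hz)
  refine ⟨⟨fun a b => ?_⟩⟩
  have : b ∈ Subgroup.center S := by rw [h1]; trivial
  exact Subgroup.mem_center_iff.mp this a

theorem comm_of {A : Subgroup S} (hA : IsMulCommutative ↥A) : ∀ a ∈ A, ∀ b ∈ A, a * b = b * a :=
  fun a ha b hb => congrArg Subtype.val (hA.is_comm.comm ⟨a, ha⟩ ⟨b, hb⟩)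

/-- sandwich for prime steps -/
theorem eq_of_lt_of_card {p : ℕ} (hp : p.Prime) {Z W C : Subgroup S} (h1 : Z ≤ W) (h2 : W ≤ C)
    (hne : Z ≠ W) (hc : Nat.card C = p * Nat.card Z) : W = C := by
  apply Subgroup.eq_of_le_of_card_ge h2
  obtain ⟨d, hd⟩ := Subgroup.card_dvd_of_le h1
  obtain ⟨e, he⟩ := Subgroup.card_dvd_of_le h2
  have hz : 0 < Nat.card Z := Nat.card_pos
  have h3 : p = d * e := by
    have : Nat.card Z * p = Nat.card Z * (d * e) := by
      rw [mul_comm _ p, ← hc, he, hd]; ring
    exact Nat.eq_of_mul_eq_mul_left hz this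
  have hd1 : d ≠ 1 := by
    intro h
    apply hne
    apply Subgroup.eq_of_le_of_card_ge h1
    rw [hd, h, mul_one]
  have hdp : d ∣ p := Dvd.intro _ h3.symm
  rcases (Nat.dvd_prime hp).mp hdp with h | h
  · exact absurd h hd1
  · rw [hc, hd, h, mul_comm]

theorem num_aux (p z N : ℕ) (hp : 2 ≤ p) (hz : 0 < z) (h : z * (p * p) - z = N * (p * z - z)) :
    N = p + 1 := by
  obtain ⟨k, rfl⟩ : ∃ k, p = k + 2 := ⟨p - 2, by omega⟩
  have e1 : z * ((k + 2) * (k + 2)) - z = (k + 3) * ((k + 1) * z) := by
    apply Nat.sub_eq_of_eq_add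
    ring
  have e2 : (k + 2) * z - z = (k + 1) * z := by
    apply Nat.sub_eq_of_eq_add
    ring
  rw [e1, e2] at h
  have hpos : 0 < (k + 1) * z := by positivity
  exact (Nat.eq_of_mul_eq_mul_right hpos h).symm


/-- Let S be a non-abelian finite p-group with an abelian subgroup A of index p. Then [S : Z(S)] = p·#[S,S], and either [S,S] has order p, S/Z(S) is elementary abelian of order p², and S has exactly p + 1 abelian subgroups of index p; or [S,S] has order at least p² and A is the only abelian subgroup of index p in S. -/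
theorem result {S : Type*} [Group S] [Finite S] (p : ℕ) [Fact p.Prime] (hS : IsPGroup p S) (hna : ¬ IsMulCommutative S)
    (A : Subgroup S) (hA : IsMulCommutative ↥A) (hAi : A.index = p) :
    (Subgroup.center S).index = p * Nat.card (commutator S) ∧
      ((Nat.card (commutator S) = p ∧ Cfsg.IsElementaryAbelian p (⊤ : Subgroup (S ⧸ Subgroup.center S)) ∧
          Nat.card (S ⧸ Subgroup.center S) = p ^ 2 ∧
          Nat.card {B : Subgroup S // IsMulCommutative ↥B ∧ B.index = p} = p + 1) ∨
        (p ^ 2 ≤ Nat.card (commutator S) ∧ ∀ B : Subgroup S, IsMulCommutative ↥B → B.index = p → B = A)) := by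
  classical
  have hp : p.Prime := Fact.out
  set Z := Subgroup.center S with hZ
  have hAc := comm_of hA
  have hZA : Z ≤ A := center_le hp hna hAc hAi
  -- A is normal
  haveI hAn : A.Normal := by
    apply Subgroup.normal_of_index_eq_minFac_card
    obtain ⟨n, hn⟩ := IsPGroup.iff_card.mp hS
    have hn0 : n ≠ 0 := by
      rintro rfl
      have h1 := A.card_mul_index
      rw [hn, hAi, pow_zero] at h1
      have : p ∣ 1 := Dvd.intro_left _ h1
      exact hp.one_lt.ne' (Nat.dvd_one.mp this)
    rw [hn, hp.pow_minFac hn0, hAi]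
  obtain ⟨x, hx⟩ : ∃ x, x ∉ A := by
    by_contra hcon
    push Not at hcon
    have : A = ⊤ := eq_top_iff.mpr fun y _ => hcon y
    rw [this, Subgroup.index_top] at hAi
    exact hp.one_lt.ne hAi
  have htop := sup_zpowers_eq_top hp hAi hx
  -- the commutator homomorphism
  let φ : ↥A →* ↥A := MonoidHom.mk'
    (fun a => ⟨a * (x * (a : S)⁻¹ * x⁻¹), A.mul_mem a.2 (hAn.conj_mem _ (A.inv_mem a.2) x)⟩) (by
      intro a b
      apply Subtype.ext
      show ((a : S) * b) * (x * ((a : S) * b)⁻¹ * x⁻¹) = (a * (x * (a : S)⁻¹ * x⁻¹)) * (b * (x * (b : S)⁻¹ * x⁻¹))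
      have ha' : x * (a : S)⁻¹ * x⁻¹ ∈ A := hAn.conj_mem _ (A.inv_mem a.2) x
      have hb' : x * (b : S)⁻¹ * x⁻¹ ∈ A := hAn.conj_mem _ (A.inv_mem b.2) x
      have e1 : x * ((a : S) * b)⁻¹ * x⁻¹ = (x * (b : S)⁻¹ * x⁻¹) * (x * (a : S)⁻¹ * x⁻¹) := by group
      rw [e1]
      have e2 := hAc _ (A.mul_mem b.2 hb') _ ha'
      calc (a : S) * b * ((x * (b : S)⁻¹ * x⁻¹) * (x * (a : S)⁻¹ * x⁻¹))
          = a * ((b * (x * (b : S)⁻¹ * x⁻¹)) * (x * (a : S)⁻¹ * x⁻¹)) := by simp only [mul_assoc]
        _ = a * ((x * (a : S)⁻¹ * x⁻¹) * (b * (x * (b : S)⁻¹ * x⁻¹))) := by rw [e2]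
        _ = _ := by simp only [mul_assoc])
  have hφ : ∀ a : ↥A, ((φ a : ↥A) : S) = ⁅(a : S), x⁆ := by
    intro a
    show (a : S) * (x * (a : S)⁻¹ * x⁻¹) = _
    rw [commutatorElement_def]; group
  have hker : φ.ker = Z.subgroupOf A := by
    ext a
    rw [MonoidHom.mem_ker, Subgroup.mem_subgroupOf]
    constructor
    · intro h
      have h1 : ⁅(a : S), x⁆ = 1 := by rw [← hφ, h]; rfl
      exact mem_center_of hp hAc hAi hx a.2 (commutatorElement_eq_one_iff_mul_comm.mp h1)
    · intro h
      apply Subtype.ext
      rw [hφ]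
      exact commutatorElement_eq_one_iff_mul_comm.mpr (Subgroup.mem_center_iff.mp h x).symm
  set I : Subgroup S := φ.range.map A.subtype with hI
  have hIA : I ≤ A := Subgroup.map_subtype_le _
  have hmemI : ∀ a ∈ A, ⁅a, x⁆ ∈ I := by
    intro a ha
    exact Subgroup.mem_map.mpr ⟨φ ⟨a, ha⟩, ⟨_, rfl⟩, hφ ⟨a, ha⟩⟩
  haveI hIn : I.Normal := by
    rw [← Subgroup.normalizer_eq_top_iff, eq_top_iff, ← htop]
    apply sup_le
    · intro a ha
      rw [Subgroup.mem_normalizer_iff]
      intro y
      constructor
      · intro hy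
        have : a * y * a⁻¹ = y := by rw [hAc a ha y (hIA hy)]; group
        rw [this]; exact hy
      · intro hy
        have h1 : a * y * a⁻¹ ∈ A := hIA hy
        have h2 : y ∈ A := by
          have := A.mul_mem (A.mul_mem (A.inv_mem ha) h1) ha
          have e : a⁻¹ * (a * y * a⁻¹) * a = y := by group
          rwa [e] at this
        have : a * y * a⁻¹ = y := by rw [hAc a ha y h2]; group
        rwa [this] at hy
    · rw [Subgroup.zpowers_le, Subgroup.mem_normalizer_iff_map_conj_eq]
      apply Subgroup.eq_of_le_of_card_ge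
      · intro y hy
        obtain ⟨y', hy', rfl⟩ := Subgroup.mem_map.mp hy
        obtain ⟨b, ⟨a, rfl⟩, rfl⟩ := Subgroup.mem_map.mp hy'
        have e : (MulAut.conj x).toMonoidHom (A.subtype (φ a)) = ⁅x * (a : S) * x⁻¹, x⁆ := by
          show (MulAut.conj x) ((φ a : ↥A) : S) = _
          rw [hφ, MulAut.conj_apply, commutatorElement_def, commutatorElement_def]
          group
        have h9 := hmemI _ (hAn.conj_mem _ a.2 x)
        rw [← e] at h9
        exact h9
      · exact (Subgroup.card_map_of_injective (K := I) (f := (MulAut.conj x).toMonoidHom) (MulAut.conj x).injective).ge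
  have hIcomm : I = commutator S := by
    apply le_antisymm
    · intro y hy
      obtain ⟨b, ⟨a, rfl⟩, rfl⟩ := Subgroup.mem_map.mp hy
      show ((φ a : ↥A) : S) ∈ _
      rw [hφ, commutator_def]
      exact Subgroup.commutator_mem_commutator (Subgroup.mem_top _) (Subgroup.mem_top _)
    · rw [← Subgroup.Normal.quotient_commutative_iff_commutator_le]
      have hax : ∀ a ∈ A, (QuotientGroup.mk a : S ⧸ I) * QuotientGroup.mk x = QuotientGroup.mk x * QuotientGroup.mk a := by
        intro a ha
        rw [← commutatorElement_eq_one_iff_mul_comm]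
        have := (QuotientGroup.eq_one_iff (N := I) _).mpr (hmemI a ha)
        rw [commutatorElement_def] at this ⊢
        simpa using this
      have hC : ∀ u : S, (∀ a ∈ A, (QuotientGroup.mk a : S ⧸ I) * QuotientGroup.mk u = QuotientGroup.mk u * QuotientGroup.mk a) →
          ((QuotientGroup.mk x : S ⧸ I) * QuotientGroup.mk u = QuotientGroup.mk u * QuotientGroup.mk x) →
          ∀ g : S, (QuotientGroup.mk g : S ⧸ I) * QuotientGroup.mk u = QuotientGroup.mk u * QuotientGroup.mk g := by
        intro u h1 h2 g
        have h3 : A ⊔ Subgroup.zpowers x ≤ (Subgroup.centralizer {(QuotientGroup.mk u : S ⧸ I)}).comap (QuotientGroup.mk' I) := by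
          apply sup_le
          · intro a ha
            rw [Subgroup.mem_comap, Subgroup.mem_centralizer_singleton_iff]
            exact h1 a ha
          · rw [Subgroup.zpowers_le, Subgroup.mem_comap, Subgroup.mem_centralizer_singleton_iff]
            exact h2
        rw [htop] at h3
        have := h3 (Subgroup.mem_top g)
        rw [Subgroup.mem_comap, Subgroup.mem_centralizer_singleton_iff] at this
        exact this
      have hCa : ∀ u ∈ A, ∀ g : S, (QuotientGroup.mk g : S ⧸ I) * QuotientGroup.mk u = QuotientGroup.mk u * QuotientGroup.mk g := by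
        intro u hu
        apply hC u
        · intro a ha
          rw [← QuotientGroup.mk_mul, ← QuotientGroup.mk_mul, hAc a ha u hu]
        · exact (hax u hu).symm
      have hCx : ∀ g : S, (QuotientGroup.mk g : S ⧸ I) * QuotientGroup.mk x = QuotientGroup.mk x * QuotientGroup.mk g :=
        hC x hax rfl
      refine ⟨⟨fun s t => ?_⟩⟩
      induction s using QuotientGroup.induction_on with
      | H g =>
      induction t using QuotientGroup.induction_on with
      | H h =>
        exact hC h (fun a ha => (hCa a ha h).symm) (hCx h).symm g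
  -- orders
  have hcardA : Nat.card A = Nat.card Z * Nat.card (commutator S) := by
    have h1 := Subgroup.card_mul_index φ.ker
    rw [Subgroup.index_ker, hker] at h1
    have h2 : Nat.card (Z.subgroupOf A) = Nat.card Z :=
      Nat.card_congr (Subgroup.subgroupOfEquivOfLe hZA).toEquiv
    have h3 : Nat.card I = Nat.card φ.range := Subgroup.card_map_of_injective A.subtype_injective
    rw [h2, ← h3, hIcomm] at h1
    exact h1.symm
  have hzpos : 0 < Nat.card Z := Nat.card_pos
  have hindex : Z.index = p * Nat.card (commutator S) := by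
    have h1 := Z.card_mul_index
    have h2 := A.card_mul_index
    rw [hAi, hcardA] at h2
    have : Nat.card Z * Z.index = Nat.card Z * (p * Nat.card (commutator S)) := by
      rw [h1, ← h2]; ring
    exact Nat.eq_of_mul_eq_mul_left hzpos this
  refine ⟨hindex, ?_⟩
  obtain ⟨k, hk⟩ := IsPGroup.iff_card.mp (hS.to_subgroup (commutator S))
  have hk0 : k ≠ 0 := by
    rintro rfl
    rw [pow_zero] at hk
    apply hna
    have h1 : commutator S = ⊥ := Subgroup.card_eq_one.mp hk
    refine ⟨⟨fun a b => ?_⟩⟩
    have : ⁅a, b⁆ ∈ commutator S := by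
      rw [commutator_def]
      exact Subgroup.commutator_mem_commutator (Subgroup.mem_top _) (Subgroup.mem_top _)
    rw [h1, Subgroup.mem_bot] at this
    exact commutatorElement_eq_one_iff_mul_comm.mp this
  by_cases hk1 : k = 1
  · left
    rw [hk1, pow_one] at hk
    rw [hk] at hindex
    have hq : Nat.card (S ⧸ Z) = p ^ 2 := by rw [pow_two]; exact hindex
    have hqc : IsMulCommutative (S ⧸ Z) := IsPGroup.isMulCommutative_of_card_eq_prime_sq hq
    refine ⟨hk, ⟨⟨⟨fun a b => Subtype.ext (hqc.is_comm.comm a.1 b.1)⟩⟩, ?_⟩, hq, ?_⟩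
    · intro t _
      have h1 : orderOf t ∣ p ^ 2 := by rw [← hq]; exact orderOf_dvd_natCard t
      obtain ⟨j, hj, hj2⟩ := (Nat.dvd_prime_pow hp).mp h1
      have hj' : j ≠ 2 := by
        rintro rfl
        apply hna
        haveI : IsCyclic (S ⧸ Z) := isCyclic_of_orderOf_eq_card t (by rw [hj2, hq])
        exact (QuotientGroup.mk' Z).isMulCommutative_of_isCyclic_of_ker_le_center
          (by rw [QuotientGroup.ker_mk'])
      apply orderOf_dvd_iff_pow_eq_one.mp
      rw [hj2]
      have : j ≤ 1 := by omega
      calc p ^ j ∣ p ^ 1 := pow_dvd_pow p this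
        _ = p := pow_one p
    · set z := Nat.card Z with hz
      have hcS : Nat.card S = z * (p * p) := by rw [← hindex]; exact Z.card_mul_index.symm
      have hcB : ∀ B : Subgroup S, B.index = p → Nat.card B = p * z := by
        intro B hB
        have h1 := B.card_mul_index
        rw [hB, hcS] at h1
        have : Nat.card B * p = (p * z) * p := by rw [h1]; ring
        exact Nat.eq_of_mul_eq_mul_right hp.pos this
      have hcen : ∀ g : S, g ∉ Z → IsMulCommutative ↥(Subgroup.centralizer ({g} : Set S)) ∧
          (Subgroup.centralizer ({g} : Set S)).index = p := by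
        intro g hg
        set C := Subgroup.centralizer ({g} : Set S) with hC
        have hZC : Z ≤ C := Subgroup.center_le_centralizer _
        have hgC : g ∈ C := Subgroup.mem_centralizer_singleton_iff.mpr rfl
        have hCtop : C ≠ ⊤ := by
          intro h
          apply hg
          rw [hZ, Subgroup.mem_center_iff]
          intro y
          have : y ∈ C := by rw [h]; trivial
          exact Subgroup.mem_centralizer_singleton_iff.mp this
        have hcC : Nat.card C = p * z := by
          obtain ⟨d, hd⟩ := Subgroup.card_dvd_of_le hZC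
          have h1 := C.card_mul_index
          rw [hd, hcS] at h1
          have h2 : d * C.index = p ^ 2 := by
            have : Nat.card Z * (d * C.index) = Nat.card Z * p ^ 2 := by
              rw [← mul_assoc, h1, pow_two]
            exact Nat.eq_of_mul_eq_mul_left hzpos this
          obtain ⟨j, hj, hj2⟩ := (Nat.dvd_prime_pow hp).mp (Dvd.intro _ h2)
          have hj0 : j ≠ 0 := by
            rintro rfl
            rw [pow_zero] at hj2
            rw [hj2, mul_one] at hd
            exact hg ((Subgroup.eq_of_le_of_card_ge hZC hd.le) ▸ hgC)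
          have hj2' : j ≠ 2 := by
            rintro rfl
            rw [hj2] at h2
            have h3 : C.index = 1 := by
              have : p ^ 2 * C.index = p ^ 2 * 1 := by rw [h2, mul_one]
              exact Nat.eq_of_mul_eq_mul_left (pow_pos hp.pos 2) this
            exact hCtop (Subgroup.index_eq_one.mp h3)
          have hj1 : j = 1 := by omega
          rw [hd, hj2, hj1, pow_one, mul_comm]
        constructor
        · set W := C ⊓ Subgroup.centralizer (C : Set S) with hW
          have hZW : Z ≤ W := le_inf hZC (Subgroup.center_le_centralizer _)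
          have hgW : g ∈ W := by
            refine Subgroup.mem_inf.mpr ⟨hgC, ?_⟩
            rw [Subgroup.mem_centralizer_iff]
            intro c hc
            exact Subgroup.mem_centralizer_singleton_iff.mp hc
          have hWC : W = C := eq_of_lt_of_card hp hZW inf_le_left (fun h => hg (h ▸ hgW)) hcC
          refine ⟨⟨fun a b => ?_⟩⟩
          apply Subtype.ext
          have hb : (b : S) ∈ W := by rw [hWC]; exact b.2
          exact Subgroup.mem_centralizer_iff.mp (Subgroup.mem_inf.mp hb).2 a a.2
        · have h1 := C.card_mul_index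
          rw [hcC, hcS] at h1
          have : (p * z) * C.index = (p * z) * p := by rw [h1]; ring
          exact Nat.eq_of_mul_eq_mul_left (Nat.mul_pos hp.pos hzpos) this
      let f : {g : S // g ∉ Z} → {B : Subgroup S // IsMulCommutative ↥B ∧ B.index = p} :=
        fun g => ⟨Subgroup.centralizer ({(g : S)} : Set S), hcen g g.2⟩
      have hfib : ∀ B : {B : Subgroup S // IsMulCommutative ↥B ∧ B.index = p},
          Nat.card {a // f a = B} = p * z - z := by
        intro B
        have hBc := comm_of B.2.1
        have hZB : Z ≤ (B : Subgroup S) := center_le hp hna hBc B.2.2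
        have hiff : ∀ a : {g : S // g ∉ Z}, f a = B ↔ (a : S) ∈ (B : Subgroup S) := by
          intro a
          constructor
          · intro h
            have h1 : Subgroup.centralizer ({(a : S)} : Set S) = B := congrArg Subtype.val h
            rw [← h1]
            exact Subgroup.mem_centralizer_singleton_iff.mpr rfl
          · intro h
            apply Subtype.ext
            show Subgroup.centralizer ({(a : S)} : Set S) = B
            symm
            apply Subgroup.eq_of_le_of_card_ge
            · intro b hb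
              exact Subgroup.mem_centralizer_singleton_iff.mpr (hBc b hb a h)
            · rw [hcB _ B.2.2, hcB _ (hcen a a.2).2]
        rw [Nat.card_congr (Equiv.subtypeEquivRight hiff),
          Nat.card_congr (Equiv.subtypeSubtypeEquivSubtypeInter (fun g : S => g ∉ Z) (fun g : S => g ∈ (B : Subgroup S)))]
        have e1 : Nat.card {x : S // x ∉ Z ∧ x ∈ (B : Subgroup S)} = (((B : Subgroup S) : Set S) \ (Z : Set S)).ncard := by
          rw [← Nat.card_coe_set_eq]
          apply Nat.card_congr
          exact Equiv.subtypeEquivRight (fun x => by simp [and_comm])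
        rw [e1, Set.ncard_sdiff (by exact_mod_cast hZB) (Set.toFinite _)]
        have e2 : ((B : Subgroup S) : Set S).ncard = p * z := by
          rw [← hcB _ B.2.2]; exact (Nat.card_coe_set_eq _).symm
        have e3 : (Z : Set S).ncard = z := (Nat.card_coe_set_eq _).symm
        rw [e2, e3]
      have h1 := card_eq_mul_of_fiber_eq f _ hfib
      have h2 : Nat.card {g : S // g ∉ Z} = z * (p * p) - z := by
        have e1 : Nat.card {g : S // g ∉ Z} = ((Z : Set S)ᶜ).ncard := by
          rw [← Nat.card_coe_set_eq]
          rfl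
        rw [e1, Set.ncard_compl, hcS]
        congr 1
      rw [h2] at h1
      exact num_aux p z _ hp.two_le hzpos h1
  · right
    have hk2 : 2 ≤ k := by omega
    refine ⟨by rw [hk]; exact Nat.pow_le_pow_right hp.pos hk2, ?_⟩
    intro B hB hBi
    by_contra hne
    have hBc := comm_of hB
    obtain ⟨y, hyB, hyA⟩ : ∃ y ∈ B, y ∉ A := by
      by_contra hcon
      push Not at hcon
      have hBA : B ≤ A := hcon
      apply hne
      apply Subgroup.eq_of_le_of_card_ge hBA
      have h1 := A.card_mul_index
      have h2 := B.card_mul_index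
      rw [hAi] at h1
      rw [hBi] at h2
      have : Nat.card A * p = Nat.card B * p := by rw [h1, h2]
      exact (Nat.eq_of_mul_eq_mul_right hp.pos this).le
    have hABZ : A ⊓ B ≤ Z := by
      intro g hg
      exact mem_center_of hp hAc hAi hyA hg.1 (hBc g hg.2 y hyB)
    have h1 : Z.index ≤ p * p := by
      calc Z.index ≤ (A ⊓ B).index :=
            Nat.le_of_dvd (Nat.pos_of_ne_zero Subgroup.index_ne_zero_of_finite) (Subgroup.index_dvd_of_le hABZ)
        _ ≤ A.index * B.index := Subgroup.index_inf_le
        _ = p * p := by rw [hAi, hBi]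
    rw [hindex, hk] at h1
    have h2 : p ^ k ≤ p := Nat.le_of_mul_le_mul_left h1 hp.pos
    have h3 : p ^ 2 ≤ p ^ k := Nat.pow_le_pow_right hp.pos hk2
    have h4 : p * p ≤ p := by rw [← pow_two]; exact h3.trans h2
    nlinarith [hp.two_le]

end Cfsg.Agent.S3807
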