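import Mathlib
import Cfsg.Statements.S3808
import Cfsg.Agent.Lib.Helper67PGroup

set_option autoImplicit false
open Cfsg
open Cfsg.Agent.Lib.Helper67PGroup

namespace Cfsg.Agent.S3808

/-- Let S be a finite p-group with an extraspecial subgroup Q of index p. Then either Z(S) = Z(Q), or S = Q·Z(S) and Z(S) has order p². -/
theorem result {S : Type*} [Group S] [Finite S] (p : ℕ) [Fact p.Prime] (hS : IsPGroup p S) (Q : Subgroup S) (hQ : Cfsg.IsExtraspecial p ↥Q) (hQi : Q.index = p) :
    Subgroup.center S = (Subgroup.center ↥Q).map Q.subtype ∨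
      (Q ⊔ Subgroup.center S = ⊤ ∧ Nat.card (Subgroup.center S) = p ^ 2) := by
  have hp : p.Prime := Fact.out
  have hQn : Q.Normal := normal_of_index_eq_p hS Q hQi
  have hcard : Nat.card ((Subgroup.center ↥Q).map Q.subtype) = p := by
    rw [Subgroup.card_map_of_injective Q.subtype_injective]
    exact hQ.2
  have hQne : Q ≠ ⊥ := by
    rintro rfl
    have h1 : Nat.card (Subgroup.center ↥(⊥ : Subgroup S)) = 1 := Nat.card_unique
    rw [hQ.2] at h1
    exact hp.one_lt.ne' h1
  have hZne : Q ⊓ Subgroup.center S ≠ ⊥ := normal_inf_center_ne_bot hS Q hQne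
  have hZle : Q ⊓ Subgroup.center S ≤ (Subgroup.center ↥Q).map Q.subtype := by
    rintro x ⟨hxQ, hxZ⟩
    refine ⟨⟨x, hxQ⟩, ?_, rfl⟩
    show (⟨x, hxQ⟩ : Q) ∈ Subgroup.center Q
    rw [Subgroup.mem_center_iff]
    intro g
    apply Subtype.ext
    exact Subgroup.mem_center_iff.mp hxZ g
  have hZeq : Q ⊓ Subgroup.center S = (Subgroup.center ↥Q).map Q.subtype :=
    eq_of_le_of_card_prime hp _ _ hZle hcard hZne
  by_cases hle : Subgroup.center S ≤ Q
  · left
    rw [← hZeq, inf_of_le_right hle]
  · right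
    have htop : Q ⊔ Subgroup.center S = ⊤ := sup_eq_top_of_index_prime hp Q _ hQi hle
    refine ⟨htop, ?_⟩
    have h1 : Q.relIndex (Subgroup.center S) = p := by
      rw [← Subgroup.relIndex_sup_left, htop, Subgroup.relIndex_top_right, hQi]
    have h2 : Nat.card ↥(Q ⊓ Subgroup.center S) * (Q ⊓ Subgroup.center S).relIndex (Subgroup.center S) =
        Nat.card (Subgroup.center S) := card_mul_relIndex inf_le_right
    rw [Subgroup.inf_relIndex_right, h1, hZeq, hcard] at h2
    rw [← h2, pow_two]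

end Cfsg.Agent.S3808
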