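import Cfsg.Statements.S3809
import Cfsg.Agent.Lib.Helper3Extraspecial

set_option autoImplicit false
open Cfsg

namespace Cfsg.Agent.S3809

open Subgroup Cfsg.Agent.Lib.Helper3Extraspecial

theorem result {S : Type*} [Group S] [Finite S] (p : ℕ) [Fact p.Prime] (hS : IsPGroup p S) (Q : Subgroup S) (hQ : Cfsg.IsExtraspecial p ↥Q) (hQi : Q.index = p) :
    (∃ n : ℕ, 1 ≤ n ∧ Nat.card S = p ^ (2 + 2 * n)) ∧ derivedSeries S 3 = ⊥ ∧ ∀ x : S, x ^ (p ^ 3) = 1 := by
  have hp : p.Prime := Fact.out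
  obtain ⟨n, hn, hcQ⟩ := card_extraspecial (p := p) (Nat.card Q) Q le_rfl hQ
  have hcS : Nat.card S = p ^ (2 + 2 * n) := by
    rw [← Q.card_mul_index, hcQ, hQi, ← pow_succ]
    congr 1; omega
  have hQn : Q.Normal := by
    apply normal_of_index_eq_minFac_card
    rw [hQi, hcS, Nat.pow_minFac (by omega), hp.minFac_eq]
  have hcq : Nat.card (S ⧸ Q) = p := hQi
  have hcomm : commutator S ≤ Q := by
    have hcyc : IsCyclic (S ⧸ Q) := isCyclic_of_prime_card hcq
    let _ : CommGroup (S ⧸ Q) := hcyc.commGroup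
    have := Abelianization.commutator_subset_ker (QuotientGroup.mk' Q)
    rwa [QuotientGroup.ker_mk'] at this
  refine ⟨⟨n, hn, hcS⟩, ?_, ?_⟩
  · have h1 : derivedSeries S 1 ≤ Q := by
      rw [derivedSeries_succ, derivedSeries_zero]
      exact hcomm
    have h2 : derivedSeries S 2 ≤ (center Q).map Q.subtype := by
      rw [derivedSeries_succ, ← hQ.1.2.2, map_subtype_commutator]
      exact commutator_mono h1 h1
    rw [derivedSeries_succ, eq_bot_iff]
    refine (commutator_mono h2 h2).trans ?_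
    rw [commutator_le]
    rintro _ ⟨a, ha, rfl⟩ _ ⟨b, hb, rfl⟩
    rw [mem_bot, commutatorElement_eq_one_iff_mul_comm]
    have := mem_center_iff.mp ha b
    exact (congrArg Subtype.val this).symm
  · intro x
    have h1 : x ^ p ∈ Q := by
      rw [← QuotientGroup.eq_one_iff, QuotientGroup.mk_pow, ← hcq]
      exact pow_card_eq_one'
    have h2 : (⟨x ^ p, h1⟩ : Q) ^ p ∈ center Q := by
      rw [← hQ.1.2.1]
      exact Cfsg.Agent.Lib.Helper3PGroup.pow_mem_frattini hQ.1.1 _
    have h3 : (⟨(⟨x ^ p, h1⟩ : Q) ^ p, h2⟩ : center Q) ^ p = 1 := by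
      have := pow_card_eq_one' (x := (⟨(⟨x ^ p, h1⟩ : Q) ^ p, h2⟩ : center Q))
      rwa [hQ.2] at this
    have h4 := congrArg (fun z : center Q => ((z : Q) : S)) h3
    simp only [SubgroupClass.coe_pow, OneMemClass.coe_one] at h4
    rw [← h4, ← pow_mul, ← pow_mul]
    congr 1; ring

end Cfsg.Agent.S3809
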