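import Cfsg.Statements.S3810
import Cfsg.Agent.Lib.Helper15ExtraAb

set_option autoImplicit false
open Cfsg

namespace Cfsg.Agent.S3810

open Subgroup Cfsg.Agent.Lib.Helper3Extraspecial Cfsg.Agent.Lib.Helper15ExtraAb
open scoped commutatorElement

theorem comm_of_center_large {C : Type*} [Group C] [Finite C] (p : ℕ) [Fact p.Prime]
    (hC : Nat.card C = p ^ 3) (hZ : p ^ 2 ≤ Nat.card (center C)) (a b : C) : a * b = b * a := by
  have hp : p.Prime := Fact.out
  have h1 := (center C).card_mul_index
  rw [hC] at h1
  have hidx : (center C).index ∣ p := by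
    obtain ⟨k, hk, hck⟩ := (Nat.dvd_prime_pow hp).mp (Dvd.intro _ h1 : Nat.card (center C) ∣ p ^ 3)
    rw [hck] at hZ h1
    have hk2 : 2 ≤ k := (Nat.pow_le_pow_iff_right hp.one_lt).mp hZ
    have h2 : p ^ 3 = p ^ k * p ^ (3 - k) := by rw [← pow_add]; congr 1; omega
    rw [h2] at h1
    have h3 := Nat.eq_of_mul_eq_mul_left (pow_pos hp.pos k) h1
    rw [h3]
    exact (pow_dvd_pow p (by omega : 3 - k ≤ 1)).trans (by rw [pow_one])
  have hcyc : IsCyclic (C ⧸ center C) := by
    rcases (Nat.dvd_prime hp).mp hidx with h | h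
    · have : Subsingleton (C ⧸ center C) := by
        rw [← Finite.card_le_one_iff_subsingleton]
        exact h.le
      exact isCyclic_of_subsingleton
    · exact isCyclic_of_prime_card h
  exact ((QuotientGroup.mk' (center C)).isMulCommutative_of_isCyclic_of_ker_le_center
    (by rw [QuotientGroup.ker_mk'])).is_comm.comm a b

/-- a non-abelian group of order `p ^ 4` has an abelian subgroup of index `p`. -/
theorem exists_abelian {S : Type*} [Group S] [Finite S] (p : ℕ) [Fact p.Prime]
    (hS : Nat.card S = p ^ 4) (hna : ∃ a b : S, a * b ≠ b * a) :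
    ∃ A : Subgroup S, IsMulCommutative ↥A ∧ A.index = p := by
  have hp : p.Prime := Fact.out
  have hPG : IsPGroup p S := IsPGroup.of_card hS
  have hZtop : center S ≠ ⊤ := by
    intro h
    obtain ⟨a, b, hab⟩ := hna
    apply hab
    have : a ∈ center S := by rw [h]; trivial
    exact (mem_center_iff.mp this b).symm
  have : Nontrivial (S ⧸ center S) := by
    rw [← Finite.one_lt_card_iff_nontrivial]
    have h1 : (center S).index ≠ 1 := fun h => hZtop (index_eq_one.mp h)
    have h2 : (center S).index ≠ 0 := index_ne_zero_of_finite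
    change 1 < (center S).index
    omega
  have hq : IsPGroup p (S ⧸ center S) := hPG.to_quotient _
  have hnt : Nontrivial (center (S ⧸ center S)) := hq.center_nontrivial
  obtain ⟨⟨ybar, hybar⟩, hy1⟩ := exists_ne (1 : center (S ⧸ center S))
  obtain ⟨y, rfl⟩ := QuotientGroup.mk_surjective ybar
  have hyZ : y ∉ center S := by
    intro h
    apply hy1
    apply Subtype.ext
    exact (QuotientGroup.eq_one_iff y).mpr h
  have hcen : ∀ g : S, g * y * g⁻¹ * y⁻¹ ∈ center S := by
    intro g
    rw [← QuotientGroup.eq_one_iff]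
    have := mem_center_iff.mp hybar (QuotientGroup.mk g)
    simp only [QuotientGroup.mk_mul, QuotientGroup.mk_inv]
    rw [this]; group
  let φ : S →* center S :=
    { toFun := fun g => ⟨g * y * g⁻¹ * y⁻¹, hcen g⟩
      map_one' := by apply Subtype.ext; simp
      map_mul' := by
        intro g k
        apply Subtype.ext
        have h1 := mem_center_iff.mp (hcen k) g
        change g * k * y * (g * k)⁻¹ * y⁻¹ = (g * y * g⁻¹ * y⁻¹) * (k * y * k⁻¹ * y⁻¹)
        have h2 := mem_center_iff.mp (hcen k) (g * y * g⁻¹ * y⁻¹)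
        rw [h2]
        calc g * k * y * (g * k)⁻¹ * y⁻¹ = (g * (k * y * k⁻¹ * y⁻¹)) * y * g⁻¹ * y⁻¹ := by group
          _ = k * y * k⁻¹ * y⁻¹ * (g * y * g⁻¹ * y⁻¹) := by rw [h1]; group }
  set C := φ.ker with hC
  have hmemC : ∀ g, g ∈ C ↔ g * y = y * g := by
    intro g
    rw [hC, MonoidHom.mem_ker]
    constructor
    · intro h
      have h1 : g * y * g⁻¹ * y⁻¹ = 1 := congrArg Subtype.val h
      calc g * y = (g * y * g⁻¹ * y⁻¹) * (y * g) := by group
        _ = y * g := by rw [h1, one_mul]
    · intro h
      apply Subtype.ext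
      change g * y * g⁻¹ * y⁻¹ = 1
      rw [h]; group
  set A0 := center S ⊔ zpowers y with hA0
  have hA0C : A0 ≤ C := by
    rw [hA0, sup_le_iff, zpowers_le]
    refine ⟨fun z hz => (hmemC z).mpr ((mem_center_iff.mp hz y).symm), (hmemC y).mpr rfl⟩
  have hA0cC : A0 ≤ centralizer (C : Set S) := by
    rw [hA0, sup_le_iff, zpowers_le]
    refine ⟨center_le_centralizer _, ?_⟩
    intro c hc
    exact (hmemC c).mp hc
  have hZlt : center S < A0 := by
    refine lt_of_le_of_ne le_sup_left ?_
    intro h
    apply hyZ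
    rw [h]
    exact le_sup_right (a := center S) (mem_zpowers y)
  have hA0comm : IsMulCommutative ↥A0 :=
    ⟨⟨fun a b => Subtype.ext ((hA0cC a.2 b (hA0C b.2)).symm)⟩⟩
  obtain ⟨k, hk, hcA0⟩ := (Nat.dvd_prime_pow hp).mp (hS ▸ card_subgroup_dvd_card A0)
  obtain ⟨j, hj, hcZ⟩ := (Nat.dvd_prime_pow hp).mp (hS ▸ card_subgroup_dvd_card (center S))
  have hjk : j < k := by
    by_contra hcon
    push Not at hcon
    have h1 : Nat.card A0 ≤ Nat.card (center S) := by
      rw [hcA0, hcZ]; exact Nat.pow_le_pow_right hp.pos hcon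
    exact hZlt.ne (eq_of_le_of_card_ge hZlt.le h1)
  have hidx : ∀ (B : Subgroup S), Nat.card B = p ^ 3 → B.index = p := by
    intro B hB
    have h1 := B.card_mul_index
    rw [hB, hS] at h1
    have h2 : p ^ 4 = p ^ 3 * p := by ring
    rw [h2] at h1
    exact Nat.eq_of_mul_eq_mul_left (pow_pos hp.pos 3) h1
  have hk4 : k ≠ 4 := by
    rintro rfl
    have htop : A0 = ⊤ := eq_top_of_card_eq _ (by rw [hcA0, hS])
    obtain ⟨a, b, hab⟩ := hna
    apply hab
    have ha : a ∈ A0 := by rw [htop]; trivial
    have hb : b ∈ A0 := by rw [htop]; trivial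
    exact congrArg Subtype.val (hA0comm.is_comm.comm ⟨a, ha⟩ ⟨b, hb⟩)
  by_cases hk3 : k = 3
  · subst hk3
    exact ⟨A0, hA0comm, hidx A0 hcA0⟩
  · have : Nontrivial S := by
      obtain ⟨a, b, hab⟩ := hna
      refine ⟨a, b, ?_⟩
      rintro rfl
      exact hab rfl
    have hj0 : j ≠ 0 := by
      rintro rfl
      rw [pow_zero] at hcZ
      have h1 : Nontrivial (center S) := hPG.center_nontrivial
      have h2 := Finite.one_lt_card_iff_nontrivial.mpr h1
      omega
    have hj1 : j = 1 := by omega
    have hk2 : k = 2 := by omega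
    subst hj1 hk2
    rw [pow_one] at hcZ
    have hCidx : C.index = p := by
      have h1 : C.index ∣ p := by
        rw [hC, index_ker, ← hcZ]
        exact card_subgroup_dvd_card _
      rcases (Nat.dvd_prime hp).mp h1 with h | h
      · exfalso
        apply hyZ
        rw [mem_center_iff]
        intro g
        have : g ∈ C := by rw [index_eq_one.mp h]; trivial
        exact (hmemC g).mp this
      · exact h
    have hcC : Nat.card C = p ^ 3 := by
      have h1 := C.card_mul_index
      rw [hCidx, hS] at h1
      have h2 : p ^ 4 = p ^ 3 * p := by ring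
      rw [h2] at h1
      exact Nat.eq_of_mul_eq_mul_right hp.pos h1
    have hcen2 : p ^ 2 ≤ Nat.card (center C) := by
      rw [← hcA0]
      refine Nat.card_le_card_of_injective
        (fun a : A0 => (⟨⟨a.1, hA0C a.2⟩, ?_⟩ : center C)) ?_
      · rw [mem_center_iff]
        intro c
        apply Subtype.ext
        exact hA0cC a.2 c c.2
      · intro a b hab
        apply Subtype.ext
        exact congrArg (fun t : center C => ((t : C) : S)) hab
    exact ⟨C, ⟨⟨fun a b => comm_of_center_large p hcC hcen2 a b⟩⟩, hCidx⟩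

theorem result {S : Type*} [Group S] [Finite S] (p : ℕ) [Fact p.Prime] (hS : IsPGroup p S) (Q : Subgroup S) (hQ : Cfsg.IsExtraspecial p ↥Q) (hQi : Q.index = p) :
    (∃ A : Subgroup S, IsMulCommutative ↥A ∧ A.index = p) ↔ Nat.card S = p ^ 4 := by
  have hp : p.Prime := Fact.out
  obtain ⟨n, hn, hcQ⟩ := card_extraspecial (p := p) (Nat.card Q) Q le_rfl hQ
  have hcS : Nat.card S = p ^ (2 * n + 2) := by
    rw [← Q.card_mul_index, hcQ, hQi, ← pow_succ]
  obtain ⟨x0, y0, hxy0⟩ := exists_noncomm hQ
  constructor
  · rintro ⟨A, hA, hAi⟩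
    have hAn : A.Normal := by
      apply normal_of_index_eq_minFac_card
      rw [hAi, hcS, Nat.pow_minFac (by omega), hp.minFac_eq]
    set B := A.subgroupOf Q with hB
    have hBab : ∀ a ∈ B, ∀ b ∈ B, a * b = b * a := by
      intro a ha b hb
      apply Subtype.ext
      have := congrArg Subtype.val (hA.is_comm.comm (⟨a.1, ha⟩ : A) ⟨b.1, hb⟩)
      exact this
    have hBne : B ≠ ⊤ := by
      intro h
      apply hxy0
      rw [commutatorElement_eq_one_iff_mul_comm]
      exact hBab x0 (by rw [h]; trivial) y0 (by rw [h]; trivial)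
    have hBi : B.index = p := by
      have h1 : B.index ∣ p := by
        rw [← hAi]; exact relIndex_dvd_index_of_normal A Q
      rcases (Nat.dvd_prime hp).mp h1 with h | h
      · exact absurd (index_eq_one.mp h) hBne
      · exact h
    by_contra hne
    have hn2 : 2 ≤ n := by
      by_contra hcon
      have : n = 1 := by omega
      subst this
      exact hne hcS
    have h4 : p ^ 4 ≤ Nat.card Q := by
      rw [hcQ]; exact Nat.pow_le_pow_right hp.pos (by omega)
    have hBZ : B ≤ center Q := by
      intro e he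
      obtain ⟨x, hxB, hxe⟩ := exists_comm_notMem hQ h4 B hBab hBne e
      set M := centralizer ({e} : Set Q) with hM
      have hBM : B ≤ M := by
        intro b hb
        rw [hM, mem_centralizer_singleton_iff]
        exact hBab b hb e he
      have hxM : x ∈ M := by
        rw [hM, mem_centralizer_singleton_iff]; exact hxe
      have h1 := relIndex_mul_index hBM
      rw [hBi] at h1
      have h2 : M.index ∣ p := Dvd.intro_left _ h1
      rcases (Nat.dvd_prime hp).mp h2 with h | h
      · rw [mem_center_iff]
        intro g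
        have : g ∈ M := by rw [index_eq_one.mp h]; trivial
        rw [hM, mem_centralizer_singleton_iff] at this
        exact this
      · exfalso
        rw [h] at h1
        have h3 : B.relIndex M = 1 := by
          have : B.relIndex M * p = 1 * p := by rw [h1, one_mul]
          exact Nat.eq_of_mul_eq_mul_right hp.pos this
        exact hxB (relIndex_eq_one.mp h3 hxM)
    have h5 : Nat.card B ≤ p := by
      rw [← hQ.2]; exact card_le_of_le hBZ
    have h6 := B.card_mul_index
    rw [hBi] at h6
    have h7 : Nat.card Q ≤ p * p := by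
      rw [← h6]; exact Nat.mul_le_mul_right p h5
    have h8 : p * p < p ^ 4 := by
      rw [← pow_two]; exact Nat.pow_lt_pow_right hp.one_lt (by norm_num)
    omega
  · intro h4
    refine exists_abelian p h4 ⟨x0, y0, ?_⟩
    intro h
    apply hxy0
    rw [commutatorElement_eq_one_iff_mul_comm]
    exact Subtype.ext h

end Cfsg.Agent.S3810
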