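import Cfsg.Statements.S3824
import Cfsg.Agent.S0143
import Cfsg.Agent.Lib.Helper12Card

set_option autoImplicit false
open Cfsg

namespace Cfsg.Agent.S3824

open Subgroup

universe u

theorem aux (p : ℕ) (hp : p.Prime) (n : ℕ) : ∀ (G : Type u) [Group G] [Finite G], Nat.card G = n →
    ∀ A : Subgroup G, IsMulCommutative A → (∃ k : ℕ, A.index = p ^ k) → Group.IsSolvable G := by
  induction n using Nat.strong_induction_on with
  | _ n ih =>
    intro G _ _ hn A hA hidx
    obtain ⟨k, hk⟩ := hidx
    by_cases hN : ∃ N : Subgroup G, N.Normal ∧ N ≠ ⊥ ∧ N ≠ ⊤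
    · obtain ⟨N, hNn, hNb, hNt⟩ := hN
      have h1 : 1 < Nat.card N := by
        rw [Finite.one_lt_card_iff_nontrivial]
        exact (nontrivial_iff_ne_bot N).2 hNb
      have h2 : 1 < N.index := by
        have h3 : N.index ≠ 1 := fun h => hNt (index_eq_one.1 h)
        have h4 : N.index ≠ 0 := N.index_ne_zero_of_finite
        omega
      have h5 := N.card_mul_index
      have hNsol : Group.IsSolvable N := by
        apply ih (Nat.card N) _ N rfl (A.subgroupOf N) inferInstance
        · have : A.relIndex N ∣ p ^ k := hk ▸ Cfsg.Agent.Lib.Helper12Card.relIndex_dvd_index_of_normal_right A N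
          obtain ⟨j, -, hj⟩ := (Nat.dvd_prime_pow hp).1 this
          exact ⟨j, hj⟩
        · rw [← hn, ← h5]; nlinarith
      have hQ : Group.IsSolvable (G ⧸ N) := by
        apply ih (Nat.card (G ⧸ N)) _ (G ⧸ N) rfl (A.map (QuotientGroup.mk' N)) inferInstance
        · have : (A.map (QuotientGroup.mk' N)).index ∣ p ^ k :=
            hk ▸ index_map_dvd A (QuotientGroup.mk'_surjective N)
          obtain ⟨j, -, hj⟩ := (Nat.dvd_prime_pow hp).1 this
          exact ⟨j, hj⟩
        · rw [← hn, ← h5]
          change N.index < _
          nlinarith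
      exact Group.isSolvable_of_ker_le_range N.subtype (QuotientGroup.mk' N)
        (by rw [QuotientGroup.ker_mk', range_subtype])
    · by_cases hnt : Nontrivial G
      · have hs : IsSimpleGroup G := by
          refine ⟨fun N hNn => ?_⟩
          by_contra hcon
          push Not at hcon
          exact hN ⟨N, hNn, hcon.1, hcon.2⟩
        by_cases hAb : A = ⊥
        · have hc : Nat.card G = p ^ k := by
            rw [← hk, hAb, index_bot]
          have : Fact p.Prime := ⟨hp⟩
          have : Group.IsNilpotent G := (IsPGroup.of_card hc).isNilpotent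
          infer_instance
        · obtain ⟨x, hx1⟩ := (A.ne_bot_iff_exists_ne_one).1 hAb
          have hle : A ≤ centralizer ({(x : G)} : Set G) := by
            intro a ha
            rw [mem_centralizer_singleton_iff]
            exact setLike_mul_comm ha x.2
          have hd : (centralizer ({(x : G)} : Set G)).index ∣ p ^ k := hk ▸ index_dvd_of_le hle
          obtain ⟨j, -, hj⟩ := (Nat.dvd_prime_pow hp).1 hd
          have hprime := Cfsg.Agent.S0143.result p j hp (x : G)
            (fun h => hx1 (Subtype.ext h)) hj
          have : Fact (Nat.card G).Prime := ⟨hprime⟩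
          have hcyc : IsCyclic G := isCyclic_of_prime_card rfl
          apply Group.isSolvable_of_comm
          intro a b
          exact hcyc.commGroup.mul_comm a b
      · rw [not_nontrivial_iff_subsingleton] at hnt
        infer_instance

/-- Every finite group having an abelian subgroup whose index is a power of 2 is solvable. -/
theorem result {G : Type*} [Group G] [Finite G]
    (A : Subgroup G) (hA : IsMulCommutative A) (hidx : ∃ k : ℕ, A.index = 2 ^ k) : Group.IsSolvable G := by
  exact aux 2 Nat.prime_two _ G rfl A hA hidx

end Cfsg.Agent.S3824
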