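import Mathlib
import Cfsg.Statements.S3869
import Cfsg.Agent.Lib.Helper68Irr

set_option autoImplicit false
open Cfsg

namespace Cfsg.Agent.S3869

open Subgroup Cfsg.Agent.Lib.Helper68Irr

/-- Let p and q be distinct primes and G a finite non-abelian group with a normal elementary abelian q-subgroup A that is a minimal normal subgroup of G and has index p. Then A has order q^e with e the multiplicative order of q modulo p, and G is minimal non-p-closed: its Sylow p-subgroups are not normal, while in every proper subgroup and in every proper quotient of G the Sylow p-subgroups are normal. -/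
theorem result {G : Type*} [Group G] [Finite G] {p q : ℕ} [Fact p.Prime] (hq : q.Prime) (hpq : q ≠ p)
    (hna : ¬ IsMulCommutative G) (A : Subgroup G) [A.Normal] (hA : Cfsg.IsElementaryAbelian q A) (hidx : A.index = p)
    (hmin : ∀ B : Subgroup G, B.Normal → B ≤ A → B = ⊥ ∨ B = A) :
    Nat.card ↥A = q ^ orderOf (q : ZMod p) ∧ ¬ Cfsg.IsPClosed p G ∧ (∀ H : Subgroup G, H ≠ ⊤ → Cfsg.IsPClosed p ↥H) ∧
      ∀ (N : Subgroup G) [N.Normal], N ≠ ⊥ → Cfsg.IsPClosed p (G ⧸ N) := by
  have hp : p.Prime := Fact.out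
  haveI : Fact q.Prime := ⟨hq⟩
  have hAn : A.Normal := inferInstance
  have hab : ∀ a ∈ A, ∀ b ∈ A, a * b = b * a := by
    intro a ha b hb
    have := hA.1.is_comm.comm ⟨a, ha⟩ ⟨b, hb⟩
    exact congrArg Subtype.val this
  have hexp : ∀ a ∈ A, a ^ q = 1 := hA.2
  have hAq : IsPGroup q A := fun a => ⟨1, Subtype.ext (by simpa using hexp a a.2)⟩
  have hpA : ¬ p ∣ Nat.card A := by
    obtain ⟨n, hn⟩ := IsPGroup.iff_card.mp hAq
    rw [hn]
    intro h
    exact hpq ((Nat.prime_dvd_prime_iff_eq hp hq).mp (hp.dvd_of_dvd_pow h)).symm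
  have F1 : ∀ y : G, y ∉ A → A ⊔ zpowers y = ⊤ :=
    fun y hy => sup_zpowers_eq_top_of_index_prime hp A hidx hy
  have F2 : ∀ y : G, y ∉ A → ∃ a ∈ A, y * a * y⁻¹ ≠ a := by
    intro y hy
    by_contra hcon
    push Not at hcon
    exact hna ⟨⟨comm_of_sup_zpowers A y (F1 y hy) hab hcon⟩⟩
  have hpG : p ∣ Nat.card G := by
    rw [← A.card_mul_index, hidx]
    exact Dvd.intro_left _ rfl
  obtain ⟨x, hxo⟩ := exists_prime_orderOf_dvd_card' p hpG
  have hx : x ^ p = 1 := hxo ▸ pow_orderOf_eq_one x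
  have hx1 : x ≠ 1 := by
    rintro rfl
    rw [orderOf_one] at hxo
    exact hp.one_lt.ne hxo
  have hxA : x ∉ A := fun h => hx1 (eq_one_of_pow_of_not_dvd hp A hpA h (k := 1) (by simpa using hx))
  refine ⟨?_, ?_, ?_, ?_⟩
  · apply card_of_irreducible_conj hp hq hpq A hab hexp x hx (F2 x hxA)
    intro B hBA hBx
    apply hmin B _ hBA
    apply normal_of_sup_zpowers A B x (F1 x hxA) _ hBx
    intro a ha b hb
    rw [hab a ha b (hBA hb)]
    simpa using hb
  · intro hcl
    have hZp : IsPGroup p (zpowers x) := by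
      apply IsPGroup.of_card (n := 1)
      rw [Nat.card_zpowers, hxo, pow_one]
    obtain ⟨P, hP⟩ := hZp.exists_le_sylow
    have hPn : (P : Subgroup G).Normal := hcl P
    obtain ⟨a, ha, hxa⟩ := F2 x hxA
    apply hxa
    have hxP : x ∈ (P : Subgroup G) := hP (mem_zpowers x)
    have hcP : x * a * x⁻¹ * a⁻¹ ∈ (P : Subgroup G) := by
      have h1 : a * x⁻¹ * a⁻¹ ∈ (P : Subgroup G) := hPn.conj_mem _ (inv_mem hxP) a
      have h2 := mul_mem hxP h1
      have h3 : x * (a * x⁻¹ * a⁻¹) = x * a * x⁻¹ * a⁻¹ := by group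
      rwa [h3] at h2
    have hcA : x * a * x⁻¹ * a⁻¹ ∈ A := mul_mem (hAn.conj_mem a ha x) (inv_mem ha)
    obtain ⟨k, hk⟩ := P.2 ⟨_, hcP⟩
    have hk' : (x * a * x⁻¹ * a⁻¹) ^ p ^ k = 1 := congrArg Subtype.val hk
    have := eq_one_of_pow_of_not_dvd hp A hpA hcA hk'
    exact mul_inv_eq_one.mp this
  · intro H hH P
    by_cases hHA : H ≤ A
    · apply sylow_normal_of_not_dvd
      intro h
      exact hpA (h.trans (card_dvd_of_le hHA))
    · obtain ⟨y, hyH, hyA⟩ := SetLike.not_le_iff_exists.mp hHA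
      have hn : (H ⊓ A).Normal := by
        apply normal_of_sup_zpowers A (H ⊓ A) y (F1 y hyA)
        · intro a ha b hb
          rw [hab a ha b (mem_inf.mp hb).2]
          simpa using hb
        · intro b hb
          exact mem_inf.mpr ⟨mul_mem (mul_mem hyH (mem_inf.mp hb).1) (inv_mem hyH),
            hAn.conj_mem b (mem_inf.mp hb).2 y⟩
      rcases hmin _ hn inf_le_right with h | h
      · apply sylow_normal_of_isPGroup
        apply isPGroup_of_card_dvd_prime hp
        have h1 : A.relIndex H ∣ A.index := relIndex_dvd_index_of_normal A H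
        rw [← inf_relIndex_right, inf_comm, h, relIndex_bot_left, hidx] at h1
        exact h1
      · exfalso
        apply hH
        rw [eq_top_iff, ← F1 y hyA, sup_le_iff, zpowers_le]
        exact ⟨inf_eq_right.mp h, hyH⟩
  · intro N hN hN1 P
    rcases hmin (N ⊓ A) inferInstance inf_le_right with h | h
    · exfalso
      obtain ⟨y, hy1⟩ := (N.ne_bot_iff_exists_ne_one).mp hN1
      have hyA : (y : G) ∉ A := by
        intro hyA
        have h1 : (y : G) ∈ N ⊓ A := mem_inf.mpr ⟨y.2, hyA⟩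
        rw [h, mem_bot] at h1
        exact hy1 (Subtype.ext h1)
      obtain ⟨a, ha, hya⟩ := F2 y hyA
      apply hya
      have h1 : (y : G) * a * (y : G)⁻¹ * a⁻¹ ∈ N ⊓ A := by
        refine mem_inf.mpr ⟨?_, mul_mem (hAn.conj_mem a ha y) (inv_mem ha)⟩
        have h2 : a * (y : G)⁻¹ * a⁻¹ ∈ N := hN.conj_mem _ (inv_mem y.2) a
        have h3 := mul_mem y.2 h2
        have h4 : (y : G) * (a * (y : G)⁻¹ * a⁻¹) = (y : G) * a * (y : G)⁻¹ * a⁻¹ := by group
        rwa [h4] at h3
      rw [h, mem_bot] at h1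
      exact mul_inv_eq_one.mp h1
    · apply sylow_normal_of_isPGroup
      apply isPGroup_of_card_dvd_prime hp
      have h1 : N.index ∣ A.index := index_dvd_of_le (inf_eq_right.mp h)
      rw [hidx] at h1
      exact h1

end Cfsg.Agent.S3869
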