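import Mathlib
import Cfsg.Statements.S3870

set_option autoImplicit false
open Cfsg

namespace Cfsg.Agent.S3870

open Subgroup

variable {G : Type*} [Group G] [Finite G] {p : ℕ} [Fact p.Prime]

theorem le_map_sylow (L : Subgroup G) (hL : Cfsg.IsPClosed p ↥L) (S : Sylow p ↥L)
    (A : Subgroup G) (hAL : A ≤ L) (hA : IsPGroup p A) : A ≤ (S : Subgroup ↥L).map L.subtype := by
  have h1 : IsPGroup p (A.subgroupOf L) :=
    hA.of_equiv (subgroupOfEquivOfLe hAL).symm
  obtain ⟨SA, hSA⟩ := h1.exists_le_sylow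
  haveI := hL SA
  have h2 : (SA : Subgroup ↥L) ≤ S := SA.2.le_sylow_of_normal S
  intro a ha
  exact ⟨⟨a, hAL ha⟩, h2 (hSA (mem_subgroupOf.mpr ha)), rfl⟩

theorem exists_normalizing (P : Sylow p G) (D : Subgroup G) (hDP : D < P) :
    ∃ x ∈ (P : Subgroup G), x ∉ D ∧ x ∈ normalizer (D : Set G) := by
  haveI : Group.IsNilpotent ↥(P : Subgroup G) := P.2.isNilpotent
  have hnc : NormalizerCondition ↥(P : Subgroup G) := Group.normalizerCondition_of_isNilpotent
  have hlt : D.subgroupOf P < ⊤ := by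
    rw [lt_top_iff_ne_top, Ne, subgroupOf_eq_top]
    exact not_le_of_gt hDP
  have h1 := hnc _ hlt
  obtain ⟨x, hx, hxD⟩ := SetLike.exists_of_lt h1
  refine ⟨x, x.2, fun h => hxD (mem_subgroupOf.mpr h), ?_⟩
  rw [mem_normalizer_iff] at hx ⊢
  intro h
  constructor
  · intro hh
    exact mem_subgroupOf.mp ((hx ⟨h, hDP.le hh⟩).mp (mem_subgroupOf.mpr hh))
  · intro hh
    have hP : h ∈ (P : Subgroup G) := by
      have := (P : Subgroup G).mul_mem ((P : Subgroup G).mul_mem (inv_mem x.2) (hDP.le hh)) x.2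
      simpa [mul_assoc] using this
    exact mem_subgroupOf.mp ((hx ⟨h, hP⟩).mpr (mem_subgroupOf.mpr hh))

theorem TI [IsSimpleGroup G] (hsub : ∀ H : Subgroup G, H ≠ ⊤ → Cfsg.IsPClosed p ↥H) :
    ∀ n : ℕ, ∀ P Q : Sylow p G, P ≠ Q →
      Nat.card G - Nat.card ↥((P : Subgroup G) ⊓ (Q : Subgroup G)) = n →
      (P : Subgroup G) ⊓ (Q : Subgroup G) = ⊥ := by
  intro n
  induction n using Nat.strong_induction_on with
  | _ n ih =>
  intro P Q hPQ hn
  by_contra hD
  set D := (P : Subgroup G) ⊓ (Q : Subgroup G) with hDdef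
  have hDP : D < P := by
    refine lt_of_le_of_ne inf_le_left (fun h => hPQ ?_)
    have : (P : Subgroup G) ≤ Q := h ▸ inf_le_right
    exact Sylow.ext (P.3 Q.2 this).symm
  have hDQ : D < Q := by
    refine lt_of_le_of_ne inf_le_right (fun h => hPQ ?_)
    have : (Q : Subgroup G) ≤ P := h ▸ inf_le_left
    exact Sylow.ext (Q.3 P.2 this)
  set L := normalizer (D : Set G) with hL
  have hLtop : L ≠ ⊤ := by
    intro h
    have hDn : D.Normal := normalizer_eq_top_iff.mp h
    rcases hDn.eq_bot_or_eq_top with h1 | h1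
    · exact hD h1
    · exact absurd (h1 ▸ hDP) (not_lt_of_ge le_top)
  have hLc := hsub L hLtop
  obtain ⟨S⟩ : Nonempty (Sylow p ↥L) := inferInstance
  obtain ⟨x, hxP, hxD, hxL⟩ := exists_normalizing P D hDP
  obtain ⟨y, hyQ, hyD, hyL⟩ := exists_normalizing Q D hDQ
  have hT : IsPGroup p ((S : Subgroup ↥L).map L.subtype) := S.2.map _
  obtain ⟨R, hR⟩ := hT.exists_le_sylow
  have h1 : (P : Subgroup G) ⊓ L ≤ R :=
    (le_map_sylow L hLc S _ inf_le_right (P.2.to_le inf_le_left)).trans hR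
  have h2 : (Q : Subgroup G) ⊓ L ≤ R :=
    (le_map_sylow L hLc S _ inf_le_right (Q.2.to_le inf_le_left)).trans hR
  have hDL : D ≤ L := le_normalizer
  have key : ∀ (P' : Sylow p G) (x : G), D ≤ P' → x ∈ (P' : Subgroup G) → x ∉ D → x ∈ L →
      (P' : Subgroup G) ⊓ L ≤ R → R = P' := by
    intro P' x hDP' hxP' hxD hxL h1
    by_contra hne
    have hlt : D < (R : Subgroup G) ⊓ P' := by
      refine lt_of_le_of_ne (le_inf ((le_inf hDP' hDL).trans h1) hDP') (fun h => hxD ?_)
      rw [h]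
      exact ⟨h1 ⟨hxP', hxL⟩, hxP'⟩
    have hcard : Nat.card D < Nat.card ↥((R : Subgroup G) ⊓ P') := by
      refine lt_of_le_of_ne (card_le_of_le hlt.le) (fun h => hlt.ne ?_)
      exact eq_of_le_of_card_ge hlt.le h.ge
    have hle : Nat.card ↥((R : Subgroup G) ⊓ P') ≤ Nat.card G := card_le_card_group _
    have := ih (Nat.card G - Nat.card ↥((R : Subgroup G) ⊓ P')) (by omega) R P' hne rfl
    rw [this] at hlt
    exact not_lt_bot hlt
  have e1 := key P x inf_le_left hxP hxD hxL h1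
  have e2 := key Q y inf_le_right hyQ hyD hyL h2
  exact hPQ (e1.symm.trans e2)

/-- Let G be a finite simple group whose Sylow p-subgroups are not normal but such that every proper subgroup of G has a normal Sylow p-subgroup. Then any two distinct Sylow p-subgroups of G intersect trivially, and for every Sylow p-subgroup P the normalizer of every non-identity subgroup of P lies in the normalizer of P. -/
theorem result {G : Type*} [Group G] [Finite G] [IsSimpleGroup G] {p : ℕ} [Fact p.Prime]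
    (hnc : ¬ Cfsg.IsPClosed p G) (hsub : ∀ H : Subgroup G, H ≠ ⊤ → Cfsg.IsPClosed p ↥H) :
    (∀ P Q : Sylow p G, P ≠ Q → (P : Subgroup G) ⊓ (Q : Subgroup G) = ⊥) ∧
      ∀ (P : Sylow p G) (R : Subgroup G), R ≤ P → R ≠ ⊥ →
        Subgroup.normalizer (R : Set G) ≤ Subgroup.normalizer ((P : Subgroup G) : Set G) := by
  have hTI : ∀ P Q : Sylow p G, P ≠ Q → (P : Subgroup G) ⊓ (Q : Subgroup G) = ⊥ :=
    fun P Q h => TI hsub _ P Q h rfl
  refine ⟨hTI, ?_⟩
  intro P R hRP hR g hg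
  refine (Sylow.smul_eq_iff_mem_normalizer (g := g) (P := P)).mp ?_
  by_contra hne
  have h1 := hTI (g • P) P hne
  apply hR
  rw [eq_bot_iff, ← h1]
  intro r hr
  refine ⟨?_, hRP hr⟩
  rw [Sylow.coe_subgroup_smul]
  rw [mem_normalizer_iff] at hg
  have h2 : g⁻¹ * r * g ∈ R := by
    rw [hg]; simpa [mul_assoc] using hr
  exact ⟨g⁻¹ * r * g, hRP h2, by simp [mul_assoc]⟩

end Cfsg.Agent.S3870
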