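import Cfsg.Statements.S3872
-- import your own Cfsg.Agent.* helpers here
import Mathlib
import Cfsg.Agent.Lib.Helper3TwoMax
import Cfsg.Agent.Lib.Helper30Gen
import Cfsg.Agent.S4225
import Cfsg.Agent.S4209

set_option autoImplicit false
open Cfsg

namespace Cfsg.Agent.S3872


open Subgroup
open scoped IsMulCommutative

theorem card_lcs_ge {G : Type*} [Group G] [Finite G] {p : ℕ} [hp : Fact p.Prime] (hG : IsPGroup p G) :
    ∀ k i : ℕ, (⊤ : Subgroup G).lowerCentralSeries (i + k) ≠ ⊥ →
      p ^ (k + 1) ≤ Nat.card ((⊤ : Subgroup G).lowerCentralSeries i) := by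
  intro k
  induction k with
  | zero =>
    intro i hi
    obtain ⟨a, ha⟩ := IsPGroup.iff_card.1 (hG.to_subgroup ((⊤ : Subgroup G).lowerCentralSeries i))
    rw [ha]
    apply Nat.pow_le_pow_right hp.out.pos
    rcases a with _ | a
    · exfalso
      apply hi
      rw [add_zero]
      exact Subgroup.card_eq_one.1 (by simpa using ha)
    · omega
  | succ k ih =>
    intro i hi
    have h1 := ih (i + 1) (by rwa [add_assoc, add_comm 1 k])
    obtain ⟨a, ha⟩ := IsPGroup.iff_card.1 (hG.to_subgroup ((⊤ : Subgroup G).lowerCentralSeries i))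
    obtain ⟨b, hb⟩ := IsPGroup.iff_card.1
      (hG.to_subgroup ((⊤ : Subgroup G).lowerCentralSeries (i + 1)))
    have hle : (⊤ : Subgroup G).lowerCentralSeries (i + 1) ≤ (⊤ : Subgroup G).lowerCentralSeries i :=
      Subgroup.lowerCentralSeries_antitone _ (Nat.le_succ i)
    have hne : Nat.card ((⊤ : Subgroup G).lowerCentralSeries (i + 1)) ≠
        Nat.card ((⊤ : Subgroup G).lowerCentralSeries i) := by
      intro h
      have h' := Subgroup.eq_of_le_of_card_ge hle h.ge
      have h2 := Cfsg.Agent.Lib.Helper3TwoMax.lcs_stable i h'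
      have := hG.isNilpotent
      have h3 : (⊤ : Subgroup G).lowerCentralSeries (i + Group.nilpotencyClass G) = ⊥ := by
        apply le_bot_iff.1
        calc (⊤ : Subgroup G).lowerCentralSeries (i + Group.nilpotencyClass G)
            ≤ (⊤ : Subgroup G).lowerCentralSeries (Group.nilpotencyClass G) :=
              Subgroup.lowerCentralSeries_antitone _ (Nat.le_add_left _ _)
          _ = ⊥ := Subgroup.lowerCentralSeries_nilpotencyClass
      rw [h2] at h3
      apply hi
      rw [h2, h3]
    have hlt : Nat.card ((⊤ : Subgroup G).lowerCentralSeries (i + 1)) <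
        Nat.card ((⊤ : Subgroup G).lowerCentralSeries i) :=
      lt_of_le_of_ne (Subgroup.card_le_of_le hle) hne
    rw [ha, hb] at hlt
    rw [hb] at h1
    rw [ha]
    have e1 := (Nat.pow_lt_pow_iff_right hp.out.one_lt).1 hlt
    have e2 := (Nat.pow_le_pow_iff_right hp.out.one_lt).1 h1
    exact Nat.pow_le_pow_right hp.out.pos (by omega)

theorem zpowers_eq {G : Type*} [Group G] [Finite G] {p : ℕ} [hp : Fact p.Prime] {w z : G}
    (hw1 : w ≠ 1) (hz : z ^ p = 1) (hwz : w ∈ zpowers z) : zpowers w = zpowers z := by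
  have hz1 : z ≠ 1 := by
    rintro rfl
    simp at hwz
    exact hw1 hwz
  have hw : w ^ p = 1 := by
    obtain ⟨k, rfl⟩ := mem_zpowers_iff.1 hwz
    rw [← zpow_natCast, ← zpow_mul, mul_comm, zpow_mul, zpow_natCast, hz, one_zpow]
  have ho : orderOf z = p := orderOf_eq_prime hz hz1
  apply Subgroup.eq_of_le_of_card_ge (zpowers_le.2 hwz)
  rw [Nat.card_zpowers, Nat.card_zpowers, orderOf_eq_prime hw hw1, ho]

theorem zpowers_normal {G : Type*} [Group G] {z : G} (hz : z ∈ center G) : (zpowers z).Normal := by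
  constructor
  intro n hn g
  obtain ⟨k, rfl⟩ := mem_zpowers_iff.1 hn
  have : z ^ k ∈ center G := zpow_mem hz k
  rw [mem_center_iff] at this
  rw [this g, mul_inv_cancel_right]
  exact zpow_mem_zpowers z k


/-- Say that a finite group is p-exponent closed when its elements of order dividing p form a subgroup. Let G be a finite p-group that is not p-exponent closed, but all of whose proper subgroups and proper quotients are. Then G is generated by two elements, has nilpotency class at least p, has exponent p², has cyclic center, and has order at least p^(p+1). -/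
theorem result {G : Type*} [Group G] [Finite G] {p : ℕ} [Fact p.Prime] (hG : IsPGroup p G)
    (hnc : ¬ (∃ H : Subgroup G, (H : Set G) = {g : G | g ^ p = 1})) (hsub : ∀ K : Subgroup G, K ≠ ⊤ → (∃ H : Subgroup ↥K, (H : Set ↥K) = {g : ↥K | g ^ p = 1}))
    (hquo : ∀ (N : Subgroup G) [N.Normal], N ≠ ⊥ → (∃ H : Subgroup (G ⧸ N), (H : Set (G ⧸ N)) = {g : (G ⧸ N) | g ^ p = 1})) :
    (∃ x y : G, Subgroup.closure ({x, y} : Set G) = ⊤) ∧ (⊤ : Subgroup G).lowerCentralSeries (p - 1) ≠ ⊥ ∧
      Monoid.exponent G = p ^ 2 ∧ IsCyclic ↥(Subgroup.center G) ∧ p ^ (p + 1) ≤ Nat.card G := by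
  have hp := (Fact.out : p.Prime)
  -- the two elements
  obtain ⟨x, y, hx, hy, hxy⟩ : ∃ x y : G, x ^ p = 1 ∧ y ^ p = 1 ∧ (x * y) ^ p ≠ 1 := by
    by_contra hcon
    push Not at hcon
    apply hnc
    exact ⟨{ carrier := {g : G | g ^ p = 1}
             mul_mem' := fun {a b} ha hb => hcon a b ha hb
             one_mem' := one_pow p
             inv_mem' := fun {a} ha => by
               show a⁻¹ ^ p = 1
               rw [inv_pow, show a ^ p = 1 from ha, inv_one] }, rfl⟩
  have hgen : Subgroup.closure ({x, y} : Set G) = ⊤ := by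
    by_contra hK
    obtain ⟨H, hH⟩ := hsub _ hK
    have hxK : x ∈ Subgroup.closure ({x, y} : Set G) := Subgroup.subset_closure (by simp)
    have hyK : y ∈ Subgroup.closure ({x, y} : Set G) := Subgroup.subset_closure (by simp)
    have h1 : (⟨x, hxK⟩ : Subgroup.closure ({x, y} : Set G)) ∈ (H : Set _) := by
      rw [hH]; exact Subtype.ext hx
    have h2 : (⟨y, hyK⟩ : Subgroup.closure ({x, y} : Set G)) ∈ (H : Set _) := by
      rw [hH]; exact Subtype.ext hy
    have h3 : (⟨x, hxK⟩ * ⟨y, hyK⟩ : Subgroup.closure ({x, y} : Set G)) ∈ (H : Set _) :=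
      H.mul_mem h1 h2
    rw [hH] at h3
    exact hxy (congrArg Subtype.val h3)
  have hcl : (⊤ : Subgroup G).lowerCentralSeries (p - 1) ≠ ⊥ := by
    intro h
    obtain ⟨H, _, hH⟩ := Cfsg.Agent.S4225.result (Cfsg.Agent.S4209.result hG h) 1
    exact hnc ⟨H, by simpa using hH⟩
  -- key: p-th powers lie in every nontrivial normal subgroup
  have key : ∀ (N : Subgroup G) [N.Normal], N ≠ ⊥ → ∀ g : G, g ^ p ∈ N := by
    intro N _ hN g
    obtain ⟨H, hH⟩ := hquo N hN
    have h1 : Subgroup.closure ({x, y} : Set G) ≤ H.comap (QuotientGroup.mk' N) := by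
      rw [Subgroup.closure_le]
      rintro a (rfl | rfl)
      · show QuotientGroup.mk' N a ∈ (H : Set _)
        rw [hH]
        show (QuotientGroup.mk' N a) ^ p = 1
        rw [← map_pow, hx, map_one]
      · show QuotientGroup.mk' N a ∈ (H : Set _)
        rw [hH]
        show (QuotientGroup.mk' N a) ^ p = 1
        rw [← map_pow, hy, map_one]
    rw [hgen] at h1
    have h2 : QuotientGroup.mk' N g ∈ (H : Set _) := h1 (Subgroup.mem_top g)
    rw [hH] at h2
    have h3 : (QuotientGroup.mk' N g) ^ p = 1 := h2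
    rw [← map_pow] at h3
    exact (QuotientGroup.eq_one_iff _).1 h3
  have key2 : ∀ z ∈ Subgroup.center G, z ≠ 1 → ∀ g : G, g ^ p ∈ Subgroup.zpowers z := by
    intro z hz hz1 g
    have := zpowers_normal hz
    exact key (Subgroup.zpowers z) (by simpa using hz1) g
  have htop : (⊤ : Subgroup G) ≠ ⊥ := by
    intro h
    apply hxy
    have : (x * y) ^ p ∈ (⊤ : Subgroup G) := Subgroup.mem_top _
    rw [h] at this
    exact Subgroup.mem_bot.1 this
  refine ⟨⟨x, y, hgen⟩, hcl, ?_, ?_, ?_⟩
  · obtain ⟨z, _, hzc, hz1, hzp⟩ := Cfsg.Agent.Lib.Helper3PGroup.exists_central_order_p hG ⊤ htop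
    have h1 : Monoid.exponent G ∣ p ^ 2 := by
      apply Monoid.exponent_dvd_of_forall_pow_eq_one
      intro g
      obtain ⟨k, hk⟩ := Subgroup.mem_zpowers_iff.1 (key2 z hzc hz1 g)
      rw [pow_two, pow_mul, ← hk, ← zpow_natCast, ← zpow_mul, mul_comm, zpow_mul, zpow_natCast, hzp,
        one_zpow]
    obtain ⟨k, hk, hk2⟩ := (Nat.dvd_prime_pow hp).1 h1
    have hk1 : ¬ k ≤ 1 := by
      intro hk1
      apply hxy
      have h3 : Monoid.exponent G ∣ p := by
        rw [hk2]
        calc p ^ k ∣ p ^ 1 := pow_dvd_pow p hk1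
          _ = p := pow_one p
      obtain ⟨m, hm⟩ := h3
      rw [hm, pow_mul, Monoid.pow_exponent_eq_one, one_pow]
    have : k = 2 := by omega
    rw [hk2, this]
  · by_contra hnc'
    obtain ⟨r, w, z, hr, hw, hz, hw1, hzw⟩ := Cfsg.Agent.Lib.Helper30Gen.exists_rank_two (A := Subgroup.center G) hnc'
    have hw' : (w : G) ^ r = 1 := by exact_mod_cast congrArg Subtype.val hw
    have hz' : (z : G) ^ r = 1 := by exact_mod_cast congrArg Subtype.val hz
    have hw1' : (w : G) ≠ 1 := fun h => hw1 (Subtype.ext h)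
    have hz1' : (z : G) ≠ 1 := fun h => by
      apply hzw 0
      rw [pow_zero, mul_one]
      exact Subtype.ext h
    have hrp : r = p := by
      have := Fact.mk hr
      have h1 : orderOf (w : G) = r := orderOf_eq_prime hw' hw1'
      obtain ⟨k, hk⟩ := IsPGroup.iff_orderOf.mp hG (w : G)
      rw [h1] at hk
      have : r ∣ p ^ k := by rw [← hk]
      exact (Nat.prime_dvd_prime_iff_eq hr hp).1 (hr.dvd_of_dvd_pow this)
    subst hrp
    have e1 := zpowers_eq hxy hw' (key2 w w.2 hw1' (x * y))
    have e2 := zpowers_eq hxy hz' (key2 z z.2 hz1' (x * y))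
    have h3 : (z : G)⁻¹ ∈ Subgroup.zpowers (w : G) := by
      rw [← e1, e2]
      exact inv_mem (Subgroup.mem_zpowers _)
    rw [← mem_powers_iff_mem_zpowers] at h3
    obtain ⟨j, hj⟩ := h3
    apply hzw j
    apply Subtype.ext
    have hj' : (w : G) ^ j = (z : G)⁻¹ := hj
    simp [hj']
  · have hp2 : 2 ≤ p := hp.two_le
    have h1 : p ^ (p - 2 + 1) ≤ Nat.card ((⊤ : Subgroup G).lowerCentralSeries 1) := by
      apply card_lcs_ge hG
      rwa [show 1 + (p - 2) = p - 1 by omega]
    have hL1 : (⊤ : Subgroup G).lowerCentralSeries 1 = commutator G :=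
      Subgroup.top_lowerCentralSeries_one
    rw [hL1] at h1
    obtain ⟨e, he⟩ := IsPGroup.iff_card.1 (hG.to_quotient (commutator G))
    have he2 : 2 ≤ e := by
      by_contra hlt
      have hcyc : IsCyclic (G ⧸ commutator G) := by
        rcases e with _ | _ | e
        · have : Subsingleton (G ⧸ commutator G) :=
            (Nat.card_eq_one_iff_unique.1 (by simpa using he)).1
          infer_instance
        · exact isCyclic_of_prime_card (p := p) (by simpa using he)
        · omega
      have hc := Cfsg.Agent.Lib.Helper3TwoMax.isCyclic_of_isCyclic_abelianization hG hcyc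
      apply hcl
      apply le_bot_iff.1
      calc (⊤ : Subgroup G).lowerCentralSeries (p - 1)
          ≤ (⊤ : Subgroup G).lowerCentralSeries 1 :=
            Subgroup.lowerCentralSeries_antitone _ (by omega)
        _ = commutator G := hL1
        _ = ⊥ := by
          rw [_root_.commutator_def, Subgroup.commutator_eq_bot_iff_le_centralizer]
          intro a _
          rw [Subgroup.mem_centralizer_iff]
          intro b _
          obtain ⟨g, hg⟩ := hc.exists_generator
          obtain ⟨i, rfl⟩ := Subgroup.mem_zpowers_iff.1 (hg a)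
          obtain ⟨j, rfl⟩ := Subgroup.mem_zpowers_iff.1 (hg b)
          exact zpow_mul_comm g j i
    rw [← Subgroup.card_mul_index (commutator G), Subgroup.index_eq_card, he]
    calc p ^ (p + 1) = p ^ (p - 2 + 1) * p ^ 2 := by
          rw [← pow_add]; congr 1; omega
      _ ≤ Nat.card (commutator G) * p ^ e :=
          Nat.mul_le_mul h1 (Nat.pow_le_pow_right hp.pos he2)

end Cfsg.Agent.S3872
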