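import Mathlib
import Cfsg.Statements.S3873
import Cfsg.Agent.Lib.Helper68Irr2
import Cfsg.Agent.Lib.Helper68Cover

set_option autoImplicit false
open Cfsg

namespace Cfsg.Agent.S3873

open Subgroup Cfsg.Agent.Lib.Helper68Irr Cfsg.Agent.Lib.Helper68Irr2 Cfsg.Agent.Lib.Helper68Cover

/-- Say that a finite group is p-exponent closed when its elements of order dividing p form a subgroup. Let G be a finite group that is not p-exponent closed, but all of whose proper subgroups and proper quotients are, and suppose G is neither simple nor a p-group. Then there is a prime q ≠ p such that G has order p · q^e, where e is the multiplicative order of q modulo p, and G has a normal elementary abelian subgroup of order q^e that is a minimal normal subgroup of G. -/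
theorem result {G : Type*} [Group G] [Finite G] {p : ℕ} [Fact p.Prime]
    (hnc : ¬ (∃ H : Subgroup G, (H : Set G) = {g : G | g ^ p = 1})) (hsub : ∀ K : Subgroup G, K ≠ ⊤ → (∃ H : Subgroup ↥K, (H : Set ↥K) = {g : ↥K | g ^ p = 1}))
    (hquo : ∀ (N : Subgroup G) [N.Normal], N ≠ ⊥ → (∃ H : Subgroup (G ⧸ N), (H : Set (G ⧸ N)) = {g : (G ⧸ N) | g ^ p = 1}))
    (hns : ¬ IsSimpleGroup G) (hnp : ¬ IsPGroup p G) :
    ∃ q : ℕ, q.Prime ∧ q ≠ p ∧ Nat.card G = p * q ^ orderOf (q : ZMod p) ∧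
      ∃ A : Subgroup G, A.Normal ∧ Nat.card ↥A = q ^ orderOf (q : ZMod p) ∧ Cfsg.IsElementaryAbelian q A ∧
        ∀ B : Subgroup G, B.Normal → B ≤ A → B = ⊥ ∨ B = A := by
  have hp : p.Prime := Fact.out
  obtain ⟨x, y, hx, hy, hxy⟩ : ∃ x y : G, x ^ p = 1 ∧ y ^ p = 1 ∧ (x * y) ^ p ≠ 1 := by
    by_contra hcon
    push Not at hcon
    apply hnc
    exact ⟨{ carrier := {g | g ^ p = 1}
             mul_mem' := fun ha hb => hcon _ _ ha hb
             one_mem' := one_pow _
             inv_mem' := fun {a} ha => by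
               show a⁻¹ ^ p = 1
               rw [inv_pow, show a ^ p = 1 from ha, inv_one] }, rfl⟩
  -- key closure property in proper subgroups
  have hmul : ∀ H : Subgroup G, H ≠ ⊤ → ∀ u ∈ H, ∀ v ∈ H, u ^ p = 1 → v ^ p = 1 → (u * v) ^ p = 1 := by
    intro H hH u hu v hv hup hvp
    obtain ⟨E, hE⟩ := hsub H hH
    have h1 : (⟨u, hu⟩ : H) ∈ E := by
      have : (⟨u, hu⟩ : H) ∈ (E : Set H) := by rw [hE]; exact Subtype.ext hup
      exact this
    have h2 : (⟨v, hv⟩ : H) ∈ E := by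
      have : (⟨v, hv⟩ : H) ∈ (E : Set H) := by rw [hE]; exact Subtype.ext hvp
      exact this
    have h3 : (⟨u, hu⟩ * ⟨v, hv⟩ : H) ∈ (E : Set H) := E.mul_mem h1 h2
    rw [hE] at h3
    exact congrArg Subtype.val h3
  have hgen : closure {x, y} = ⊤ := by
    by_contra hK
    exact hxy (hmul _ hK x (subset_closure (by simp)) y (subset_closure (by simp)) hx hy)
  have hquoP : ∀ N : Subgroup G, N.Normal → N ≠ ⊥ → ∀ g : G, g ^ p ∈ N := by
    intro N hN hN1 g
    obtain ⟨E, hE⟩ := hquo N hN1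
    have hmem : ∀ z : G, z ^ p = 1 → QuotientGroup.mk' N z ∈ E := by
      intro z hz
      have : QuotientGroup.mk' N z ∈ (E : Set (G ⧸ N)) := by
        rw [hE]
        show (QuotientGroup.mk' N z) ^ p = 1
        rw [← map_pow, hz, map_one]
      exact this
    have hle : (⊤ : Subgroup G) ≤ E.comap (QuotientGroup.mk' N) := by
      rw [← hgen, closure_le]
      rintro z (rfl | rfl)
      · exact hmem _ hx
      · exact hmem _ hy
    have h1 : QuotientGroup.mk' N g ∈ (E : Set (G ⧸ N)) := hle (mem_top g)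
    rw [hE] at h1
    have h2 : (QuotientGroup.mk' N g) ^ p = 1 := h1
    rw [← map_pow] at h2
    exact (QuotientGroup.eq_one_iff _).mp h2
  haveI : Nontrivial G := by
    refine ⟨⟨(x * y) ^ p, 1, hxy⟩⟩
  obtain ⟨A, hAn, hA1, hAt, hmin⟩ := exists_minimal_normal_proper hns
  have hpA : ¬ p ∣ Nat.card A := by
    intro hd
    let B : Subgroup G :=
      { carrier := {a | a ∈ A ∧ a ^ p = 1}
        one_mem' := ⟨A.one_mem, one_pow _⟩
        mul_mem' := by
          rintro a b ⟨ha, ha'⟩ ⟨hb, hb'⟩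
          exact ⟨A.mul_mem ha hb, hmul A hAt a ha b hb ha' hb'⟩
        inv_mem' := by
          rintro a ⟨ha, ha'⟩
          exact ⟨A.inv_mem ha, by rw [inv_pow, ha', inv_one]⟩ }
    have hBn : B.Normal := by
      refine ⟨fun a ha g => ⟨hAn.conj_mem a ha.1 g, ?_⟩⟩
      rw [conj_pow, ha.2]; simp
    rcases hmin B hBn (fun a ha => ha.1) with h | h
    · obtain ⟨z, hz⟩ := exists_prime_orderOf_dvd_card' p hd
      have h1 : (z : G) ∈ B := ⟨z.2, by rw [← Subgroup.coe_pow, ← hz, pow_orderOf_eq_one]; rfl⟩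
      rw [h, mem_bot] at h1
      have h2 : z = 1 := Subtype.ext h1
      rw [h2, orderOf_one] at hz
      exact hp.one_lt.ne hz
    · apply hnp
      intro g
      refine ⟨2, ?_⟩
      have h1 : g ^ p ∈ B := h ▸ hquoP A hAn hA1 g
      rw [pow_two, pow_mul]
      exact h1.2
  have hcent : ∀ z : G, z ^ p = 1 → ∀ H : Subgroup G, H ≠ ⊤ → z ∈ H → ∀ a ∈ A, a ∈ H →
      z * a * z⁻¹ = a := by
    intro z hz H hH hzH a ha haH
    have h1 : (z * (a * z⁻¹ * a⁻¹)) ^ p = 1 := by
      apply hmul H hH z hzH _ (mul_mem (mul_mem haH (inv_mem hzH)) (inv_mem haH)) hz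
      rw [conj_pow, inv_pow, hz]; simp
    have h2 : z * (a * z⁻¹ * a⁻¹) = z * a * z⁻¹ * a⁻¹ := by group
    rw [h2] at h1
    have h3 : z * a * z⁻¹ * a⁻¹ ∈ A := mul_mem (hAn.conj_mem a ha z) (inv_mem ha)
    have := eq_one_of_pow_of_not_dvd hp A hpA h3 (k := 1) (by simpa using h1)
    exact mul_inv_eq_one.mp this
  have hfin : ∀ z : G, z ^ p = 1 → (∃ a ∈ A, z * a * z⁻¹ ≠ a) →
      ∃ q : ℕ, q.Prime ∧ q ≠ p ∧ Nat.card G = p * q ^ orderOf (q : ZMod p) ∧
      ∃ A : Subgroup G, A.Normal ∧ Nat.card ↥A = q ^ orderOf (q : ZMod p) ∧ Cfsg.IsElementaryAbelian q A ∧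
        ∀ B : Subgroup G, B.Normal → B ≤ A → B = ⊥ ∨ B = A := by
    intro z hz hza
    have htop : A ⊔ zpowers z = ⊤ := by
      by_contra hne
      obtain ⟨a, ha, hne'⟩ := hza
      exact hne' (hcent z hz _ hne (le_sup_right (a := A) (mem_zpowers z)) a ha (le_sup_left (b := zpowers z) ha))
    obtain ⟨q, hq, hqp, hG, hcA, hab, hexp⟩ :=
      structure_of_minimal hp A hpA hmin z hz htop hza (hcent z hz)
    exact ⟨q, hq, hqp, hG, A, hAn, hcA, ⟨⟨⟨fun a b => Subtype.ext (hab a a.2 b b.2)⟩⟩, hexp⟩, hmin⟩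
  by_cases hxc : ∃ a ∈ A, x * a * x⁻¹ ≠ a
  · exact hfin x hx hxc
  by_cases hyc : ∃ a ∈ A, y * a * y⁻¹ ≠ a
  · exact hfin y hy hyc
  exfalso
  push Not at hxc hyc
  have hAc : ∀ g : G, ∀ a ∈ A, g * a * g⁻¹ = a := by
    have hle : (⊤ : Subgroup G) ≤ centralizer (A : Set G) := by
      rw [← hgen, closure_le]
      rintro z (rfl | rfl)
      · exact mem_centralizer_iff.mpr fun a ha => (mul_inv_eq_iff_eq_mul.mp (hxc a ha)).symm
      · exact mem_centralizer_iff.mpr fun a ha => (mul_inv_eq_iff_eq_mul.mp (hyc a ha)).symm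
    intro g a ha
    exact mul_inv_eq_iff_eq_mul.mpr ((mem_centralizer_iff.mp (hle (mem_top g))) a ha).symm
  have hzp : ∀ z : G, z ^ p = 1 → IsPGroup p (zpowers z) := by
    intro z hz
    rcases (Nat.dvd_prime hp).mp (orderOf_dvd_of_pow_eq_one hz) with h | h
    · exact isPGroup_zpowers (k := 0) (by rw [h, pow_zero])
    · exact isPGroup_zpowers (k := 1) (by rw [h, pow_one])
  obtain ⟨P, hP⟩ := (hzp x hx).exists_le_sylow
  have hQ : IsPGroup p (G ⧸ A) := by
    intro g
    obtain ⟨g, rfl⟩ := QuotientGroup.mk'_surjective A g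
    refine ⟨1, ?_⟩
    rw [pow_one, ← map_pow]
    exact (QuotientGroup.eq_one_iff _).mpr (hquoP A hAn hA1 g)
  obtain ⟨k, hk⟩ := IsPGroup.iff_card.mp hQ
  have hidx : A.index = p ^ k := hk
  have htop : A ⊔ (P : Subgroup G) = ⊤ := by
    rw [← index_eq_one]
    have h1 : (A ⊔ (P : Subgroup G)).index ∣ p ^ k := hidx ▸ index_dvd_of_le le_sup_left
    have h2 : (A ⊔ (P : Subgroup G)).index ∣ (P : Subgroup G).index := index_dvd_of_le le_sup_right
    obtain ⟨j, -, hj⟩ := (Nat.dvd_prime_pow hp).mp h1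
    rcases Nat.eq_zero_or_pos j with rfl | hj0
    · rw [hj, pow_zero]
    · exfalso
      apply P.not_dvd_index
      refine dvd_trans ?_ h2
      rw [hj]
      exact dvd_pow_self p hj0.ne'
  have hN : normalizer ((P : Subgroup G) : Set G) = ⊤ := by
    rw [eq_top_iff, ← htop, sup_le_iff]
    refine ⟨fun a ha => ?_, le_normalizer⟩
    apply mem_normalizer_of_conj_mem
    intro b hb
    have h1 := hAc b a ha
    have h2 : a * b * a⁻¹ = b := by
      have : b * a = a * b := mul_inv_eq_iff_eq_mul.mp h1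
      rw [← this]; group
    rw [h2]; exact hb
  have hxP : x ∈ (P : Subgroup G) := hP (mem_zpowers x)
  have hyP : y ∈ (P : Subgroup G) := mem_sylow_of_normalizes P (hzp y hy) (hN ▸ mem_top y)
  obtain ⟨m, hm⟩ := P.2 ⟨x * y, mul_mem hxP hyP⟩
  have hm' : (x * y) ^ p ^ m = 1 := congrArg Subtype.val hm
  apply hxy
  apply eq_one_of_pow_of_not_dvd hp A hpA (hquoP A hAn hA1 (x * y)) (k := m)
  rw [← pow_mul, mul_comm, pow_mul, hm', one_pow]

end Cfsg.Agent.S3873
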