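import Mathlib
import Cfsg.Statements.S3889

set_option autoImplicit false
open Cfsg

namespace Cfsg.Agent.S3889

/-- A finite abelian group that is the union of a family of proper subgroups any two of which intersect trivially is elementary abelian: its exponent is a prime. -/
theorem result {G : Type*} [CommGroup G] [Finite G] (𝓑 : Set (Subgroup G)) (hprop : ∀ B ∈ 𝓑, B ≠ ⊤)
    (hcov : ∀ g : G, ∃ B ∈ 𝓑, g ∈ B) (hdisj : ∀ B ∈ 𝓑, ∀ C ∈ 𝓑, B ≠ C → B ⊓ C = ⊥) :
    (Monoid.exponent G).Prime := by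
  have hex : ∀ B ∈ 𝓑, ∃ b : G, b ∉ B := by
    intro B hB
    by_contra hcon
    push Not at hcon
    exact hprop B hB (eq_top_iff.mpr (fun x _ => hcon x))
  have K : ∀ B ∈ 𝓑, ∀ a ∈ B, ∀ b : G, b ∉ B → orderOf a ∣ orderOf b := by
    intro B hB a ha b hb
    obtain ⟨C, hC, hab⟩ := hcov (a * b)
    have hne : B ≠ C := by
      rintro rfl
      apply hb
      have := B.mul_mem (B.inv_mem ha) hab
      simpa using this
    apply orderOf_dvd_of_pow_eq_one
    have h1 : (a * b) ^ orderOf b = a ^ orderOf b := by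
      rw [mul_pow, pow_orderOf_eq_one, mul_one]
    have h2 : a ^ orderOf b ∈ B ⊓ C := ⟨B.pow_mem ha _, h1 ▸ C.pow_mem hab _⟩
    rw [hdisj B hB C hC hne] at h2
    exact h2
  have K2 : ∀ B ∈ 𝓑, ∀ a ∈ B, a ≠ 1 → ∀ b : G, b ∉ B → orderOf a = orderOf b := by
    intro B hB a ha ha1 b hb
    apply Nat.dvd_antisymm (K B hB a ha b hb)
    obtain ⟨C, hC, hbC⟩ := hcov b
    have hne : B ≠ C := by
      rintro rfl
      exact hb hbC
    apply K C hC b hbC a
    intro haC
    have : a ∈ B ⊓ C := ⟨ha, haC⟩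
    rw [hdisj B hB C hC hne] at this
    exact ha1 this
  obtain ⟨B0, hB0, -⟩ := hcov 1
  obtain ⟨b0, hb0⟩ := hex B0 hB0
  have hb01 : b0 ≠ 1 := fun h => hb0 (h ▸ B0.one_mem)
  obtain ⟨B, hB, hb0B⟩ := hcov b0
  obtain ⟨c, hc⟩ := hex B hB
  have hn := K2 B hB b0 hb0B hb01 c hc
  have hn1 : orderOf b0 ≠ 1 := fun h => hb01 (orderOf_eq_one_iff.mp h)
  have hprime : (orderOf b0).Prime := by
    set p := (orderOf b0).minFac with hp
    have hpp : p.Prime := Nat.minFac_prime hn1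
    have hpd : p ∣ orderOf b0 := Nat.minFac_dvd _
    by_cases h1 : b0 ^ p = 1
    · have := orderOf_dvd_of_pow_eq_one h1
      rw [(Nat.dvd_prime hpp).mp this |>.resolve_left hn1]
      exact hpp
    · exfalso
      have h2 := K2 B hB (b0 ^ p) (B.pow_mem hb0B _) h1 c hc
      rw [← hn, orderOf_pow_of_dvd hpp.ne_zero hpd] at h2
      have h3 : 0 < orderOf b0 := orderOf_pos b0
      exact absurd h2 (Nat.div_lt_self h3 hpp.one_lt).ne
  have hall : ∀ g : G, g ^ orderOf b0 = 1 := by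
    intro g
    by_cases hg1 : g = 1
    · rw [hg1, one_pow]
    by_cases hg : g ∈ B
    · rw [hn, ← K2 B hB g hg hg1 c hc, pow_orderOf_eq_one]
    · rw [K2 B hB b0 hb0B hb01 g hg, pow_orderOf_eq_one]
  have : Monoid.exponent G = orderOf b0 :=
    Nat.dvd_antisymm (Monoid.exponent_dvd_of_forall_pow_eq_one hall) (Monoid.order_dvd_exponent b0)
  rw [this]
  exact hprime

end Cfsg.Agent.S3889
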