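import Mathlib
import Cfsg.Statements.S3890
import Cfsg.Agent.Lib.Helper68Cover
import Cfsg.Agent.S3889

set_option autoImplicit false
open Cfsg

namespace Cfsg.Agent.S3890

open Subgroup Cfsg.Agent.Lib.Helper68Cover
open scoped Pointwise

variable {G : Type*} [Group G] [Finite G]

theorem all_p_abelian {p : ℕ} [Fact p.Prime] (P : Sylow p G)
    (hab : IsMulCommutative ↥(P : Subgroup G)) (U : Subgroup G) (hU : IsPGroup p U) :
    ∀ a ∈ U, ∀ b ∈ U, a * b = b * a := by
  obtain ⟨Q, hQ⟩ := hU.exists_le_sylow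
  obtain ⟨t, ht⟩ := MulAction.exists_smul_eq G P Q
  intro a ha b hb
  have ha' : a ∈ ((t • P : Sylow p G) : Subgroup G) := ht ▸ hQ ha
  have hb' : b ∈ ((t • P : Sylow p G) : Subgroup G) := ht ▸ hQ hb
  rw [Sylow.coe_subgroup_smul] at ha' hb'
  obtain ⟨a0, ha0, rfl⟩ := ha'
  obtain ⟨b0, hb0, rfl⟩ := hb'
  have : a0 * b0 = b0 * a0 :=
    congrArg Subtype.val (hab.is_comm.comm (⟨a0, ha0⟩ : ↥(P : Subgroup G)) ⟨b0, hb0⟩)
  show t * a0 * t⁻¹ * (t * b0 * t⁻¹) = t * b0 * t⁻¹ * (t * a0 * t⁻¹)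
  calc t * a0 * t⁻¹ * (t * b0 * t⁻¹) = t * (a0 * b0) * t⁻¹ := by group
    _ = t * (b0 * a0) * t⁻¹ := by rw [this]
    _ = _ := by group

theorem central_in_nilpotent {p : ℕ} [Fact p.Prime]
    (hpab : ∀ U : Subgroup G, IsPGroup p U → ∀ a ∈ U, ∀ b ∈ U, a * b = b * a)
    (A : Subgroup G) (hA : Group.IsNilpotent ↥A) {z : G} (hz : z ∈ A) {k : ℕ}
    (hzo : orderOf z = p ^ k) : A ≤ centralizer ({z} : Set G) := by
  have hn : ∀ (q : ℕ) [Fact q.Prime] (Q : Sylow q ↥A), (Q : Subgroup ↥A).Normal :=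
    ((Group.isNilpotent_of_finite_tfae (G := ↥A)).out 0 3).mp hA
  obtain ⟨S⟩ : Nonempty (Sylow p ↥A) := inferInstance
  haveI := hn p S
  have hzS : (⟨z, hz⟩ : ↥A) ∈ (S : Subgroup ↥A) := by
    apply mem_sylow_of_normalizes S (isPGroup_zpowers (k := k) (by rw [Subgroup.orderOf_mk, hzo]))
    rw [normalizer_eq_top]; exact mem_top _
  have hSab : (S : Subgroup ↥A) ≤ centralizer ((S : Subgroup ↥A) : Set ↥A) := by
    intro a ha
    rw [mem_centralizer_iff]
    intro b hb
    apply Subtype.ext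
    exact hpab ((S : Subgroup ↥A).map A.subtype) (S.2.map _) b ⟨b, hb, rfl⟩ a ⟨a, ha, rfl⟩
  have htop := sup_centralizer_eq_top hn S
  rw [sup_eq_right.mpr hSab] at htop
  intro a ha
  have h1 : (⟨a, ha⟩ : ↥A) ∈ centralizer ((S : Subgroup ↥A) : Set ↥A) := htop ▸ mem_top _
  rw [mem_centralizer_iff] at h1
  rw [mem_centralizer_singleton_iff]
  exact (congrArg Subtype.val (h1 _ hzS)).symm

section cover

variable (hZ : Subgroup.center G = ⊥) {𝓐 : Finset (Subgroup G)} (h : IsNilMinCover 𝓐)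
  {p : ℕ} [Fact p.Prime]
  (hpab : ∀ U : Subgroup G, IsPGroup p U → ∀ a ∈ U, ∀ b ∈ U, a * b = b * a)

include hZ h hpab

theorem member_unique {A A' : Subgroup G} (hA : A ∈ 𝓐) (hA' : A' ∈ 𝓐) {z : G} (hzA : z ∈ A)
    (hzA' : z ∈ A') (hz1 : z ≠ 1) {k : ℕ} (hzo : orderOf z = p ^ k) : A = A' := by
  have hM : centralizer ({z} : Set G) ≠ ⊤ := by
    intro htop
    rw [centralizer_eq_top_iff_subset, Set.singleton_subset_iff] at htop
    have : z ∈ center G := htop
    rw [hZ] at this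
    exact hz1 this
  exact eq_of_le_proper h hA hA' hM (central_in_nilpotent hpab A (h.2.2 A hA) hzA hzo)
    (central_in_nilpotent hpab A' (h.2.2 A' hA') hzA' hzo)

theorem dichotomy (P : Sylow p G) :
    (Cfsg.IsElementaryAbelian p (P : Subgroup G) ∧ p < Nat.card ↥(P : Subgroup G)) ∨
      ∃ A ∈ 𝓐, (P : Subgroup G) ≤ A := by
  have hpp : p.Prime := Fact.out
  by_cases hex : ∃ A ∈ 𝓐, (P : Subgroup G) ≤ A
  · exact Or.inr hex
  left
  push Not at hex
  have hcomm : IsMulCommutative ↥(P : Subgroup G) :=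
    ⟨⟨fun a b => Subtype.ext (hpab P P.2 a a.2 b b.2)⟩⟩
  letI : CommGroup ↥(P : Subgroup G) :=
    { (inferInstance : Group ↥(P : Subgroup G)) with mul_comm := hcomm.is_comm.comm }
  let 𝓑 : Set (Subgroup ↥(P : Subgroup G)) := {B | ∃ A ∈ 𝓐, B = A.subgroupOf P}
  have hexp : (Monoid.exponent ↥(P : Subgroup G)).Prime := by
    apply S3889.result 𝓑
    · rintro B ⟨A, hA, rfl⟩ htop
      exact hex A hA (subgroupOf_eq_top.mp htop)
    · intro g
      obtain ⟨A, hA, hg⟩ := h.1.2 (g : G)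
      exact ⟨_, ⟨A, hA, rfl⟩, mem_subgroupOf.mpr hg⟩
    · rintro B ⟨A, hA, rfl⟩ C ⟨A', hA', rfl⟩ hne
      rw [eq_bot_iff]
      intro z hz
      rw [mem_bot]
      by_contra hz1
      obtain ⟨k, hk⟩ := (IsPGroup.iff_orderOf.mp P.2) z
      apply hne
      rw [member_unique hZ h hpab hA hA' (mem_subgroupOf.mp hz.1) (mem_subgroupOf.mp hz.2)
        (fun h1 => hz1 (Subtype.ext h1)) (k := k) (by rw [Subgroup.orderOf_coe, hk])]
  obtain ⟨n, hn⟩ := IsPGroup.iff_card.mp P.2
  have hexp2 : Monoid.exponent ↥(P : Subgroup G) = p := by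
    have h1 : Monoid.exponent ↥(P : Subgroup G) ∣ p ^ n := hn ▸ Group.exponent_dvd_nat_card
    exact (Nat.prime_dvd_prime_iff_eq hexp hpp).mp (hexp.dvd_of_dvd_pow h1)
  refine ⟨⟨hcomm, fun a ha => ?_⟩, ?_⟩
  · have := Monoid.pow_exponent_eq_one (⟨a, ha⟩ : ↥(P : Subgroup G))
    rw [hexp2] at this
    exact congrArg Subtype.val this
  · by_contra hle
    push Not at hle
    have hcyc : IsCyclic ↥(P : Subgroup G) := by
      rcases Nat.lt_or_ge n 2 with hn2 | hn2
      · interval_cases n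
        · rw [pow_zero] at hn
          haveI : Subsingleton ↥(P : Subgroup G) := (Nat.card_eq_one_iff_unique.mp hn).1
          infer_instance
        · rw [pow_one] at hn
          exact isCyclic_of_prime_card hn
      · exfalso
        rw [hn] at hle
        have : p ^ 2 ≤ p ^ n := Nat.pow_le_pow_right hpp.pos hn2
        nlinarith [hpp.two_le]
    obtain ⟨g, hg⟩ := hcyc.exists_generator
    obtain ⟨A, hA, hgA⟩ := h.1.2 (g : G)
    apply hex A hA
    intro x hx
    obtain ⟨j, hj⟩ := hg ⟨x, hx⟩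
    have : x = (g : G) ^ j := by
      have := congrArg Subtype.val hj
      simpa using this.symm
    rw [this]
    exact A.zpow_mem hgA j

theorem centralizer_eq (P : Sylow p G) (hP : (P : Subgroup G) ≠ ⊥) {A : Subgroup G} (hA : A ∈ 𝓐)
    (hPA : (P : Subgroup G) ≤ A) : centralizer ((P : Subgroup G) : Set G) = A := by
  have hpp : p.Prime := Fact.out
  apply le_antisymm
  · intro y hy
    obtain ⟨z, hz, hz1⟩ : ∃ z : G, z ∈ (P : Subgroup G) ∧ z ≠ 1 := by
      by_contra hcon
      push Not at hcon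
      exact hP (eq_bot_iff.mpr (fun z hz => hcon z hz))
    obtain ⟨k, hk⟩ := (IsPGroup.iff_orderOf.mp P.2) ⟨z, hz⟩
    rw [Subgroup.orderOf_mk] at hk
    obtain ⟨u, w, hu, hw, hyuw, ⟨j, hj⟩, hwc⟩ := exists_decomp p hpp y
    have hle : zpowers y ≤ centralizer ((P : Subgroup G) : Set G) := zpowers_le.mpr hy
    have huP : u ∈ (P : Subgroup G) :=
      mem_sylow_of_normalizes P (isPGroup_zpowers hj) (centralizer_le_normalizer _ (hle hu))
    have hzw : Commute z w := by
      have := hle hw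
      rw [mem_centralizer_iff] at this
      exact this z hz
    obtain ⟨A'', hA'', hzwA⟩ := h.1.2 (z * w)
    have hzA'' : z ∈ A'' := by
      have h1 : (z * w) ^ orderOf w ∈ A'' := A''.pow_mem hzwA _
      rw [hzw.mul_pow, pow_orderOf_eq_one, mul_one] at h1
      obtain ⟨i, hi⟩ := exists_pow_eq_self_of_coprime
        (show Nat.Coprime (orderOf w) (orderOf z) by rw [hk]; exact hwc.pow_right k)
      exact hi ▸ A''.pow_mem h1 i
    have hAA : A = A'' := member_unique hZ h hpab hA hA'' (hPA hz) hzA'' hz1 hk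
    have hwA : w ∈ A := by
      have := A.mul_mem (A.inv_mem (hPA hz)) (hAA ▸ hzwA)
      simpa using this
    rw [hyuw]
    exact A.mul_mem (hPA huP) hwA
  · intro a ha
    rw [mem_centralizer_iff]
    intro z hz
    obtain ⟨k, hk⟩ := (IsPGroup.iff_orderOf.mp P.2) ⟨z, hz⟩
    rw [Subgroup.orderOf_mk] at hk
    have := central_in_nilpotent hpab A (h.2.2 A hA) (hPA hz) hk ha
    rw [mem_centralizer_singleton_iff] at this
    exact this.symm

theorem mem_normalizer_of_le (P : Sylow p G) (hP : (P : Subgroup G) ≠ ⊥) {A : Subgroup G}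
    (hA : A ∈ 𝓐) (hPA : (P : Subgroup G) ≤ A) (g : G)
    (hgA : ((g • P : Sylow p G) : Subgroup G) ≤ A) :
    g ∈ normalizer ((P : Subgroup G) : Set G) := by
  refine (Sylow.smul_eq_iff_mem_normalizer (g := g) (P := P)).mp ?_
  have hc := centralizer_eq hZ h hpab P hP hA hPA
  have hle : ((g • P : Sylow p G) : Subgroup G) ≤ P := by
    intro u hu
    obtain ⟨k, hk⟩ := (IsPGroup.iff_orderOf.mp (g • P).2) ⟨u, hu⟩
    rw [Subgroup.orderOf_mk] at hk
    exact mem_sylow_of_normalizes P (isPGroup_zpowers hk)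
      (centralizer_le_normalizer _ (hc ▸ hgA hu))
  exact Sylow.ext ((g • P).3 P.2 hle).symm

theorem le_normalizer_of (HS : ∀ P' : Sylow p G, ∃ A ∈ 𝓐, (P' : Subgroup G) ≤ A)
    (P : Sylow p G) (hP : (P : Subgroup G) ≠ ⊥) (M : Subgroup G) (hM : M ≠ ⊤)
    (hCM : centralizer ((P : Subgroup G) : Set G) ≤ M) :
    M ≤ normalizer ((P : Subgroup G) : Set G) := by
  intro g hg
  obtain ⟨A, hA, hPA⟩ := HS P
  obtain ⟨A', hA', hPA'⟩ := HS (g • P)
  have hc := centralizer_eq hZ h hpab P hP hA hPA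
  have hgP : ((g • P : Sylow p G) : Subgroup G) ≠ ⊥ := by
    intro hb
    apply hP
    have h1 : Nat.card ↥((g • P : Sylow p G) : Subgroup G) = 1 := by rw [hb]; exact card_bot
    rw [Sylow.card_eq_multiplicity, ← Sylow.card_eq_multiplicity P] at h1
    exact card_eq_one.mp h1
  have hc' := centralizer_eq hZ h hpab (g • P) hgP hA' hPA'
  have hA'M : A' ≤ M := by
    rw [← hc']
    intro y hy
    have h1 : g⁻¹ * y * g ∈ centralizer ((P : Subgroup G) : Set G) := by
      rw [mem_centralizer_iff] at hy ⊢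
      intro x hx
      have h2 := hy (g * x * g⁻¹) (by
        show g * x * g⁻¹ ∈ ((g • P : Sylow p G) : Subgroup G)
        rw [Sylow.coe_subgroup_smul]
        exact ⟨x, hx, rfl⟩)
      calc x * (g⁻¹ * y * g) = g⁻¹ * (g * x * g⁻¹ * y) * g := by group
        _ = g⁻¹ * (y * (g * x * g⁻¹)) * g := by rw [h2]
        _ = _ := by group
    have h3 := M.mul_mem (M.mul_mem hg (hCM h1)) (M.inv_mem hg)
    simpa [mul_assoc] using h3
  have hAA : A = A' := eq_of_le_proper h hA hA' hM (hc ▸ hCM) hA'M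
  exact mem_normalizer_of_le hZ h hpab P hP hA hPA g (hAA ▸ hPA')

theorem exists_member (P : Sylow p G) (hab : IsMulCommutative ↥(P : Subgroup G))
    (hE : ¬ (Cfsg.IsElementaryAbelian p (P : Subgroup G) ∧ p < Nat.card ↥(P : Subgroup G))) :
    ∀ P' : Sylow p G, ∃ A ∈ 𝓐, (P' : Subgroup G) ≤ A := by
  intro P'
  rcases dichotomy hZ h hpab P' with h1 | h1
  · exfalso
    apply hE
    refine ⟨⟨hab, ?_⟩, ?_⟩
    · intro a ha
      obtain ⟨t, ht⟩ := MulAction.exists_smul_eq G P' P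
      have ha' : a ∈ ((t • P' : Sylow p G) : Subgroup G) := ht ▸ ha
      rw [Sylow.coe_subgroup_smul] at ha'
      obtain ⟨a0, ha0, rfl⟩ := ha'
      show (MulAut.conj t a0) ^ p = 1
      rw [← map_pow, h1.1.2 a0 ha0, map_one]
    · rw [Sylow.card_eq_multiplicity, ← Sylow.card_eq_multiplicity P']
      exact h1.2
  · exact h1

end cover

/-- A cover of a group is a finite set of proper subgroups whose union is the whole group; it is minimal when no cover has fewer members, and nilpotent when all its members are nilpotent. Let G be a finite group with trivial center admitting a nilpotent minimal cover 𝓐, and let P be an abelian Sylow p-subgroup of G that is not normal. Then either P is elementary abelian of order greater than p, or P is a Sylow p-subgroup of some member A of 𝓐, the normalizer N of P is a maximal subgroup of G, N meets each of its conjugates by elements outside N in a subgroup of order prime to p, and the centralizer of P equals A. -/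
theorem result {G : Type*} [Group G] [Finite G] (hZ : Subgroup.center G = ⊥) (𝓐 : Finset (Subgroup G))
    (h𝓐 : ((∀ A ∈ 𝓐, A ≠ ⊤) ∧ (∀ g : G, ∃ A ∈ 𝓐, g ∈ A)) ∧ (∀ 𝓑 : Finset (Subgroup G), (∀ A ∈ 𝓑, A ≠ ⊤) ∧ (∀ g : G, ∃ A ∈ 𝓑, g ∈ A) → 𝓐.card ≤ 𝓑.card) ∧ (∀ A ∈ 𝓐, Group.IsNilpotent ↥A)) {p : ℕ} [Fact p.Prime] (P : Sylow p G) (hab : IsMulCommutative ↥(P : Subgroup G))
    (hnn : ¬ (P : Subgroup G).Normal) :
    (Cfsg.IsElementaryAbelian p (P : Subgroup G) ∧ p < Nat.card ↥(P : Subgroup G)) ∨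
    (∃ A ∈ 𝓐, (P : Subgroup G) ≤ A ∧ ¬ p ∣ ((P : Subgroup G).subgroupOf A).index ∧
      IsCoatom (Subgroup.normalizer ((P : Subgroup G) : Set G)) ∧
      (∀ g : G, g ∉ Subgroup.normalizer ((P : Subgroup G) : Set G) →
        ¬ p ∣ Nat.card ↥(Subgroup.normalizer ((P : Subgroup G) : Set G) ⊓
          (Subgroup.normalizer ((P : Subgroup G) : Set G)).map (MulAut.conj g).toMonoidHom)) ∧
      Subgroup.centralizer ((P : Subgroup G) : Set G) = A) := by
  have h : IsNilMinCover 𝓐 := h𝓐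
  have hpp : p.Prime := Fact.out
  have hpab := all_p_abelian P hab
  by_cases hE : Cfsg.IsElementaryAbelian p (P : Subgroup G) ∧ p < Nat.card ↥(P : Subgroup G)
  · exact Or.inl hE
  right
  have HS := exists_member hZ h hpab P hab hE
  have hP : (P : Subgroup G) ≠ ⊥ := by
    intro hb
    apply hnn
    rw [hb]
    infer_instance
  obtain ⟨A, hA, hPA⟩ := HS P
  have hc := centralizer_eq hZ h hpab P hP hA hPA
  have hNtop : normalizer ((P : Subgroup G) : Set G) ≠ ⊤ := fun ht => hnn (normalizer_eq_top_iff.mp ht)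
  refine ⟨A, hA, hPA, ?_, ⟨hNtop, ?_⟩, ?_, hc⟩
  · intro hd
    apply P.not_dvd_index
    rw [← relIndex_mul_index hPA]
    exact Dvd.dvd.mul_right hd _
  · intro M hM
    by_contra hMtop
    have := le_normalizer_of hZ h hpab HS P hP M hMtop ((centralizer_le_normalizer _).trans hM.le)
    exact absurd hM (not_lt_of_ge this)
  · intro g hg hd
    obtain ⟨z, hz⟩ := exists_prime_orderOf_dvd_card' p hd
    have hzo : orderOf (z : G) = p ^ 1 := by rw [Subgroup.orderOf_coe, hz, pow_one]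
    have hz1 : (z : G) ≠ 1 := by
      intro h1
      rw [h1, orderOf_one, pow_one] at hzo
      exact hpp.one_lt.ne hzo
    have hzP : (z : G) ∈ (P : Subgroup G) :=
      mem_sylow_of_normalizes P (isPGroup_zpowers hzo) z.2.1
    obtain ⟨n, hn, hnz⟩ := z.2.2
    have hnz' : g * n * g⁻¹ = (z : G) := hnz
    have hno : orderOf n = p ^ 1 := by
      rw [← hzo, ← hnz]
      exact (orderOf_injective (MulAut.conj g).toMonoidHom (MulAut.conj g).injective n).symm
    have hnP : n ∈ (P : Subgroup G) := mem_sylow_of_normalizes P (isPGroup_zpowers hno) hn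
    have hzgP : (z : G) ∈ ((g • P : Sylow p G) : Subgroup G) := by
      rw [Sylow.coe_subgroup_smul]
      exact ⟨n, hnP, hnz⟩
    obtain ⟨A', hA', hPA'⟩ := HS (g • P)
    have hAA : A = A' := member_unique hZ h hpab hA hA' (hPA hzP) (hPA' hzgP) hz1 hzo
    exact hg (mem_normalizer_of_le hZ h hpab P hP hA hPA g (hAA ▸ hPA'))

end Cfsg.Agent.S3890
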