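import Mathlib
import Cfsg.Statements.S3891
import Cfsg.Agent.S3890

set_option autoImplicit false
open Cfsg

namespace Cfsg.Agent.S3891

open Subgroup Cfsg.Agent.Lib.Helper68Cover

/-- A cover of a group is a finite set of proper subgroups whose union is the whole group; it is minimal when no cover has fewer members, and nilpotent when all its members are nilpotent. Let G be a finite group with trivial center admitting a nilpotent minimal cover, and let P be a non-normal Sylow p-subgroup of G that is cyclic, or abelian but not elementary abelian. Then the centralizer of P is nilpotent and the normalizer of P is the unique maximal subgroup of G containing the centralizer of P. -/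
theorem result {G : Type*} [Group G] [Finite G] (hZ : Subgroup.center G = ⊥) (𝓐 : Finset (Subgroup G))
    (h𝓐 : ((∀ A ∈ 𝓐, A ≠ ⊤) ∧ (∀ g : G, ∃ A ∈ 𝓐, g ∈ A)) ∧ (∀ 𝓑 : Finset (Subgroup G), (∀ A ∈ 𝓑, A ≠ ⊤) ∧ (∀ g : G, ∃ A ∈ 𝓑, g ∈ A) → 𝓐.card ≤ 𝓑.card) ∧ (∀ A ∈ 𝓐, Group.IsNilpotent ↥A)) {p : ℕ} [Fact p.Prime] (P : Sylow p G)
    (hP : IsCyclic ↥(P : Subgroup G) ∨ (IsMulCommutative ↥(P : Subgroup G) ∧ ¬ Cfsg.IsElementaryAbelian p (P : Subgroup G)))
    (hnn : ¬ (P : Subgroup G).Normal) :
    Group.IsNilpotent ↥(Subgroup.centralizer ((P : Subgroup G) : Set G)) ∧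
      IsCoatom (Subgroup.normalizer ((P : Subgroup G) : Set G)) ∧
      ∀ M : Subgroup G, IsCoatom M → Subgroup.centralizer ((P : Subgroup G) : Set G) ≤ M →
        M = Subgroup.normalizer ((P : Subgroup G) : Set G) := by
  have h : IsNilMinCover 𝓐 := h𝓐
  have hpp : p.Prime := Fact.out
  have hab : IsMulCommutative ↥(P : Subgroup G) := by
    rcases hP with hc | hc
    · exact IsCyclic.commutative
    · exact hc.1
  have hE : ¬ (Cfsg.IsElementaryAbelian p (P : Subgroup G) ∧ p < Nat.card ↥(P : Subgroup G)) := by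
    rintro ⟨h1, h2⟩
    rcases hP with hc | hc
    · have h3 : Nat.card ↥(P : Subgroup G) ∣ p := by
        rw [← IsCyclic.exponent_eq_card]
        exact Monoid.exponent_dvd_of_forall_pow_eq_one (fun x => Subtype.ext (h1.2 x x.2))
      exact absurd (Nat.le_of_dvd hpp.pos h3) (not_le.mpr h2)
    · exact hc.2 h1
  have hpab := S3890.all_p_abelian P hab
  have HS := S3890.exists_member hZ h hpab P hab hE
  have hPne : (P : Subgroup G) ≠ ⊥ := by
    intro hb
    apply hnn
    rw [hb]
    infer_instance
  obtain ⟨A, hA, hPA⟩ := HS P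
  have hc := S3890.centralizer_eq hZ h hpab P hPne hA hPA
  have hNtop : normalizer ((P : Subgroup G) : Set G) ≠ ⊤ :=
    fun ht => hnn (normalizer_eq_top_iff.mp ht)
  refine ⟨hc ▸ h.2.2 A hA, ⟨hNtop, ?_⟩, ?_⟩
  · intro M hM
    by_contra hMtop
    have := S3890.le_normalizer_of hZ h hpab HS P hPne M hMtop
      ((centralizer_le_normalizer _).trans hM.le)
    exact absurd hM (not_lt_of_ge this)
  · intro M hM hCM
    have hle := S3890.le_normalizer_of hZ h hpab HS P hPne M hM.1 hCM
    by_contra hne
    exact hNtop (hM.2 _ (lt_of_le_of_ne hle hne))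

end Cfsg.Agent.S3891
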