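import Mathlib
import Cfsg.Statements.S3892
import Cfsg.Agent.S3890

set_option autoImplicit false
open Cfsg

namespace Cfsg.Agent.S3892

open Subgroup Equiv Equiv.Perm Cfsg.Agent.Lib.Helper68Cover

theorem hpab_of {Γ : Type*} [Group Γ] [Finite Γ] {p : ℕ} [Fact p.Prime]
    (hp2 : ¬ p ^ 2 ∣ Nat.card Γ) :
    ∀ U : Subgroup Γ, IsPGroup p U → ∀ a ∈ U, ∀ b ∈ U, a * b = b * a := by
  intro U hU a ha b hb
  have hpp : p.Prime := Fact.out
  obtain ⟨n, hn⟩ := IsPGroup.iff_card.mp hU
  have hcyc : IsCyclic U := by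
    rcases Nat.lt_or_ge n 2 with hn2 | hn2
    · interval_cases n
      · rw [pow_zero] at hn
        haveI : Subsingleton U := (Nat.card_eq_one_iff_unique.mp hn).1
        infer_instance
      · rw [pow_one] at hn
        exact isCyclic_of_prime_card hn
    · exfalso
      apply hp2
      exact (pow_dvd_pow p hn2).trans (hn ▸ U.card_subgroup_dvd_card)
  exact congrArg Subtype.val ((IsCyclic.commutative (α := U)).is_comm.comm ⟨a, ha⟩ ⟨b, hb⟩)

theorem no_cover {Γ : Type*} [Group Γ] [Finite Γ] {𝓐 : Finset (Subgroup Γ)} (h : IsNilMinCover 𝓐)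
    {p : ℕ} [Fact p.Prime] (hp2 : ¬ p ^ 2 ∣ Nat.card Γ) (c c' : Γ) (hc : orderOf c = p)
    (hc' : orderOf c' = p) (hncomm : c * c' ≠ c' * c) (M : Subgroup Γ) (hM : M ≠ ⊤)
    (h1 : centralizer ({c} : Set Γ) ≤ M) (h2 : centralizer ({c'} : Set Γ) ≤ M) : False := by
  have hpab := hpab_of (Γ := Γ) hp2
  obtain ⟨A, hA, hcA⟩ := h.1.2 c
  obtain ⟨A', hA', hcA'⟩ := h.1.2 c'
  have e1 := S3890.central_in_nilpotent hpab A (h.2.2 A hA) hcA (k := 1) (by rw [hc, pow_one])
  have e2 := S3890.central_in_nilpotent hpab A' (h.2.2 A' hA') hcA' (k := 1) (by rw [hc', pow_one])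
  have hAA : A = A' := eq_of_le_proper h hA hA' hM (e1.trans h1) (e2.trans h2)
  have : c' ∈ centralizer ({c} : Set Γ) := e1 (hAA ▸ hcA')
  rw [mem_centralizer_singleton_iff] at this
  exact hncomm this.symm

theorem not_sq_dvd_factorial {p : ℕ} (hp : p.Prime) : ∀ n : ℕ, n < 2 * p → ¬ p ^ 2 ∣ n.factorial := by
  intro n
  induction n with
  | zero =>
    intro _ h
    have := Nat.le_of_dvd (by norm_num) h
    simp only [Nat.factorial_zero] at this
    nlinarith [hp.two_le]
  | succ n ih =>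
    intro hn h
    rw [Nat.factorial_succ] at h
    by_cases hnp : n + 1 = p
    · rw [hnp, sq] at h
      have h1 : p ∣ n.factorial := Nat.dvd_of_mul_dvd_mul_left hp.pos h
      have := (hp.dvd_factorial).mp h1
      omega
    · have hcop : Nat.Coprime (p ^ 2) (n + 1) := by
        apply Nat.Coprime.pow_left
        rw [hp.coprime_iff_not_dvd]
        rintro ⟨k, hk⟩
        rcases k with _ | _ | k
        · omega
        · omega
        · nlinarith
      exact ih (by omega) (hcop.dvd_of_dvd_mul_left h)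

/-- the stabilizer of a subset -/
def stab {n : ℕ} (s : Finset (Fin n)) : Subgroup (Perm (Fin n)) where
  carrier := {g | ∀ x, g x ∈ s ↔ x ∈ s}
  one_mem' := fun _ => Iff.rfl
  mul_mem' := by
    intro g h hg hh x
    rw [Perm.mul_apply, hg, hh]
  inv_mem' := by
    intro g hg x
    have := hg (g⁻¹ x)
    have e : g (g⁻¹ x) = x := by simp
    rw [e] at this
    exact this.symm

theorem comm_mem_stab {n : ℕ} {s : Finset (Fin n)} {f g : Perm (Fin n)}
    (hf : ∀ x, f x ≠ x ↔ x ∈ s) (hg : g * f = f * g) : g ∈ stab s := by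
  intro x
  rw [← hf, ← hf x]
  have : f (g x) = g (f x) := by
    have := congrArg (fun σ : Perm (Fin n) => σ x) hg
    simpa [Perm.mul_apply] using this.symm
  rw [this, Ne, Ne, g.injective.eq_iff]

theorem exists_perms {n p : ℕ} (hp : p.Prime) (hp5 : 5 ≤ p) (hpn : p < n) :
    ∃ (s : Finset (Fin n)) (f f' : Perm (Fin n)), s.card = p ∧ (∀ x, f x ≠ x ↔ x ∈ s) ∧
      (∀ x, f' x ≠ x ↔ x ∈ s) ∧ orderOf f = p ∧ orderOf f' = p ∧ f * f' ≠ f' * f := by
  haveI : Fact p.Prime := ⟨hp⟩
  obtain ⟨s, -, hs⟩ := Finset.exists_subset_card_eq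
    (show p ≤ (Finset.univ : Finset (Fin n)).card by simp; omega)
  obtain ⟨f, hf, hsupp⟩ := s.exists_cycleOn
  have hne : s.Nonempty := Finset.card_pos.mp (by omega)
  obtain ⟨x0, hx0⟩ := hne
  have hmove : ∀ x, f x ≠ x ↔ x ∈ s := by
    intro x
    constructor
    · intro hx
      exact hsupp (Perm.mem_support.mpr hx)
    · intro hx hfx
      have := (hf.pow_apply_eq hx (n := 1)).mp (by simpa using hfx)
      rw [hs] at this
      have := Nat.le_of_dvd one_pos this
      omega
  have hmem : ∀ x, x ∈ s → f x ∈ s := fun x hx => hf.1.mapsTo hx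
  have hdist : ∀ i j : ℕ, i < p → j < p → (f ^ i) x0 = (f ^ j) x0 → i = j := by
    intro i j hi hj hij
    have := (hf.pow_apply_eq_pow_apply hx0).mp hij
    rw [hs] at this
    exact Nat.ModEq.eq_of_lt_of_lt this hi hj
  set x1 := f x0 with hx1
  set x2 := f x1 with hx2
  set x3 := f x2 with hx3
  have e1 : (f ^ 1) x0 = x1 := by simp [hx1]
  have e2 : (f ^ 2) x0 = x2 := by simp [hx2, hx1, pow_succ, Perm.mul_apply]
  have e3 : (f ^ 3) x0 = x3 := by simp [hx3, hx2, hx1, pow_succ, Perm.mul_apply]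
  have e0 : (f ^ 0) x0 = x0 := by simp
  have n01 : x0 ≠ x1 := fun h => by have := hdist 0 1 (by omega) (by omega) (by rw [e0, e1, ← h]); omega
  have n02 : x0 ≠ x2 := fun h => by have := hdist 0 2 (by omega) (by omega) (by rw [e0, e2, ← h]); omega
  have n03 : x0 ≠ x3 := fun h => by have := hdist 0 3 (by omega) (by omega) (by rw [e0, e3, ← h]); omega
  have n12 : x1 ≠ x2 := fun h => by have := hdist 1 2 (by omega) (by omega) (by rw [e1, e2, ← h]); omega
  have n13 : x1 ≠ x3 := fun h => by have := hdist 1 3 (by omega) (by omega) (by rw [e1, e3, ← h]); omega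
  have hx1s : x1 ∈ s := hmem _ hx0
  let τ : Perm (Fin n) := swap x0 x1
  have hτs : ∀ x, τ x ∈ s ↔ x ∈ s := by
    intro x
    by_cases h0 : x = x0
    · subst h0; simp [τ, hx0, hx1s]
    by_cases h1 : x = x1
    · rw [h1]; simp [τ, hx0, hx1s]
    · simp [τ, swap_apply_of_ne_of_ne h0 h1]
  have hfo : orderOf f = p := by
    apply orderOf_eq_prime
    · ext x
      by_cases hx : x ∈ s
      · have := hf.pow_card_apply hx
        rw [hs] at this
        simp [this]
      · have hfx : f x = x := by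
          by_contra hh
          exact hx ((hmove x).mp hh)
        have : (f ^ p) x = x := by
          have : Function.IsFixedPt f x := hfx
          rw [Perm.coe_pow]
          exact this.iterate p
        simp [this]
    · intro h1
      exact (hmove x0).mpr hx0 (by rw [h1]; rfl)
  refine ⟨s, f, τ * f * τ⁻¹, hs, hmove, ?_, hfo, ?_, ?_⟩
  · intro x
    have hτinv : τ⁻¹ = τ := swap_inv x0 x1
    rw [hτinv, Perm.mul_apply, Perm.mul_apply, ← hτs x, ← hmove (τ x)]
    constructor
    · intro h1 h2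
      apply h1
      rw [h2]
      simp [τ]
    · intro h1 h2
      apply h1
      have := congrArg τ h2
      simpa [τ] using this
  · rw [← hfo]
    have := orderOf_injective (MulAut.conj τ).toMonoidHom (MulAut.conj τ).injective f
    simpa using this
  · intro hcomm
    have hτinv : τ⁻¹ = τ := swap_inv x0 x1
    have h1 := congrArg (fun σ : Perm (Fin n) => σ x1) hcomm
    simp only [Perm.mul_apply, hτinv] at h1
    have t1 : τ x1 = x0 := swap_apply_right x0 x1
    have t2 : τ x2 = x2 := swap_apply_of_ne_of_ne (Ne.symm n02) (Ne.symm n12)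
    have t3 : τ x3 = x3 := swap_apply_of_ne_of_ne (Ne.symm n03) (Ne.symm n13)
    rw [t1, ← hx1, t1, ← hx1, ← hx2, t2, ← hx3, t3] at h1
    exact n13 h1

theorem exists_prime {n : ℕ} (hn : 6 ≤ n) : ∃ p : ℕ, p.Prime ∧ 5 ≤ p ∧ p < n ∧ n < 2 * p := by
  obtain ⟨p, hp, h1, h2⟩ := Nat.exists_prime_lt_and_le_two_mul (n / 2) (by omega)
  refine ⟨p, hp, ?_, ?_, by omega⟩
  · have h3 : 4 ≤ p := by omega
    rcases Nat.lt_or_ge p 5 with h | h
    · have : p = 4 := by omega
      subst this
      exact absurd hp (by norm_num)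
    · exact h
  · rcases Nat.lt_or_ge p n with h | h
    · exact h
    · have hpn : p = n := by omega
      have heven : 2 ∣ p := by omega
      have := (Nat.prime_dvd_prime_iff_eq Nat.prime_two hp).mp heven
      omega

theorem card_perm_fin (n : ℕ) : Nat.card (Perm (Fin n)) = n.factorial := by
  rw [Nat.card_eq_fintype_card, Fintype.card_perm, Fintype.card_fin]

theorem sign_eq_one_of_odd_order {n : ℕ} {f : Perm (Fin n)} {p : ℕ} (hp : Odd p)
    (hf : orderOf f = p) : sign f = 1 := by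
  have h1 : sign f ^ p = 1 := by rw [← map_pow, ← hf, pow_orderOf_eq_one, map_one]
  rcases Int.units_eq_one_or (sign f) with h | h
  · exact h
  · rw [h, hp.neg_one_pow] at h1
    exact absurd h1 (by decide)

theorem sym_large {n : ℕ} (hn : 6 ≤ n) {𝓐 : Finset (Subgroup (Perm (Fin n)))}
    (h : IsNilMinCover 𝓐) : False := by
  obtain ⟨p, hp, hp5, hpn, hn2p⟩ := exists_prime hn
  haveI : Fact p.Prime := ⟨hp⟩
  obtain ⟨s, f, f', hs, hf, hf', hfo, hfo', hnc⟩ := exists_perms hp hp5 hpn
  have hp2 : ¬ p ^ 2 ∣ Nat.card (Perm (Fin n)) := by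
    rw [card_perm_fin]; exact not_sq_dvd_factorial hp n hn2p
  refine no_cover h hp2 f f' hfo hfo' hnc (stab s) ?_ ?_ ?_
  · intro htop
    obtain ⟨a, ha⟩ : s.Nonempty := Finset.card_pos.mp (by omega)
    obtain ⟨b, hb⟩ : ∃ b, b ∉ s := by
      by_contra hcon
      push Not at hcon
      have : s = Finset.univ := Finset.eq_univ_iff_forall.mpr hcon
      rw [this, Finset.card_univ, Fintype.card_fin] at hs
      omega
    have : swap a b ∈ stab s := htop ▸ mem_top _
    have h2 := (this a).mpr ha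
    rw [swap_apply_left] at h2
    exact hb h2
  · intro g hg
    rw [mem_centralizer_singleton_iff] at hg
    exact comm_mem_stab hf hg
  · intro g hg
    rw [mem_centralizer_singleton_iff] at hg
    exact comm_mem_stab hf' hg

theorem alt_large {n : ℕ} (hn : 6 ≤ n) {𝓐 : Finset (Subgroup ↥(alternatingGroup (Fin n)))}
    (h : IsNilMinCover 𝓐) : False := by
  obtain ⟨p, hp, hp5, hpn, hn2p⟩ := exists_prime hn
  haveI : Fact p.Prime := ⟨hp⟩
  obtain ⟨s, f, f', hs, hf, hf', hfo, hfo', hnc⟩ := exists_perms hp hp5 hpn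
  have hodd : Odd p := hp.odd_of_ne_two (by omega)
  have hp2 : ¬ p ^ 2 ∣ Nat.card ↥(alternatingGroup (Fin n)) := by
    intro hd
    apply not_sq_dvd_factorial hp n hn2p
    rw [← card_perm_fin]
    exact hd.trans (card_subgroup_dvd_card _)
  have hfe : f ∈ alternatingGroup (Fin n) := mem_alternatingGroup.mpr (sign_eq_one_of_odd_order hodd hfo)
  have hfe' : f' ∈ alternatingGroup (Fin n) :=
    mem_alternatingGroup.mpr (sign_eq_one_of_odd_order hodd hfo')
  refine no_cover h hp2 ⟨f, hfe⟩ ⟨f', hfe'⟩ (by rw [Subgroup.orderOf_mk, hfo])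
    (by rw [Subgroup.orderOf_mk, hfo']) (fun hc => hnc (congrArg Subtype.val hc))
    ((stab s).subgroupOf (alternatingGroup (Fin n))) ?_ ?_ ?_
  · intro htop
    rw [subgroupOf_eq_top] at htop
    obtain ⟨a, ha, a', ha', a'', ha'', h1, h2, h3⟩ := Finset.two_lt_card.mp (show 2 < s.card by omega)
    obtain ⟨b, hb⟩ : ∃ b, b ∉ s := by
      by_contra hcon
      push Not at hcon
      have : s = Finset.univ := Finset.eq_univ_iff_forall.mpr hcon
      rw [this, Finset.card_univ, Fintype.card_fin] at hs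
      omega
    have hab : a ≠ b := fun e => hb (e ▸ ha)
    have hmem : swap a b * swap a' a'' ∈ alternatingGroup (Fin n) := by
      rw [mem_alternatingGroup, map_mul, sign_swap hab, sign_swap h3]
      decide
    have h4 := (htop hmem a).mpr ha
    rw [Perm.mul_apply, swap_apply_of_ne_of_ne h1 h2, swap_apply_left] at h4
    exact hb h4
  · intro g hg
    rw [mem_centralizer_singleton_iff] at hg
    exact mem_subgroupOf.mpr (comm_mem_stab hf (congrArg Subtype.val hg))
  · intro g hg
    rw [mem_centralizer_singleton_iff] at hg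
    exact mem_subgroupOf.mpr (comm_mem_stab hf' (congrArg Subtype.val hg))

theorem alt_ne_top {n : ℕ} (hn : 2 ≤ n) : alternatingGroup (Fin n) ≠ ⊤ := by
  intro htop
  have h01 : (⟨0, by omega⟩ : Fin n) ≠ ⟨1, by omega⟩ := by
    intro h; simpa using congrArg Fin.val h
  have : swap (⟨0, by omega⟩ : Fin n) ⟨1, by omega⟩ ∈ alternatingGroup (Fin n) := htop ▸ mem_top _
  rw [mem_alternatingGroup, sign_swap h01] at this
  exact absurd this (by decide)

set_option maxRecDepth 100000 in
theorem sym_five {𝓐 : Finset (Subgroup (Perm (Fin 5)))} (h : IsNilMinCover 𝓐) : False := by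
  haveI : Fact (Nat.Prime 5) := ⟨by norm_num⟩
  have hp2 : ¬ 5 ^ 2 ∣ Nat.card (Perm (Fin 5)) := by
    rw [card_perm_fin]; decide
  refine no_cover h hp2 (finRotate 5) (swap 0 1 * finRotate 5 * swap 0 1)
    (orderOf_eq_prime (by decide) (by decide)) (orderOf_eq_prime (by decide) (by decide))
    (by decide) (alternatingGroup (Fin 5)) (alt_ne_top (by norm_num)) ?_ ?_
  · intro g hg
    rw [mem_centralizer_singleton_iff] at hg
    rw [mem_alternatingGroup]
    revert g
    decide
  · intro g hg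
    rw [mem_centralizer_singleton_iff] at hg
    rw [mem_alternatingGroup]
    revert g
    decide

theorem sym_four {𝓐 : Finset (Subgroup (Perm (Fin 4)))} (h : IsNilMinCover 𝓐) : False := by
  haveI : Fact (Nat.Prime 3) := ⟨by norm_num⟩
  have hp2 : ¬ 3 ^ 2 ∣ Nat.card (Perm (Fin 4)) := by
    rw [card_perm_fin]; decide
  refine no_cover h hp2 (swap 0 1 * swap 1 2) (swap 0 1 * swap 1 3)
    (orderOf_eq_prime (by decide) (by decide)) (orderOf_eq_prime (by decide) (by decide))
    (by decide) (alternatingGroup (Fin 4)) (alt_ne_top (by norm_num)) ?_ ?_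
  · intro g hg
    rw [mem_centralizer_singleton_iff] at hg
    rw [mem_alternatingGroup]
    revert g
    decide
  · intro g hg
    rw [mem_centralizer_singleton_iff] at hg
    rw [mem_alternatingGroup]
    revert g
    decide

set_option maxRecDepth 100000 in
theorem alt_five {𝓐 : Finset (Subgroup ↥(alternatingGroup (Fin 5)))} (h : IsNilMinCover 𝓐) :
    False := by
  haveI : Fact (Nat.Prime 3) := ⟨by norm_num⟩
  have hp2 : ¬ 3 ^ 2 ∣ Nat.card ↥(alternatingGroup (Fin 5)) := by
    intro hd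
    have := hd.trans (card_subgroup_dvd_card _)
    rw [card_perm_fin] at this
    exact absurd this (by decide)
  have e1 : (swap 0 1 * swap 1 2 : Perm (Fin 5)) ∈ alternatingGroup (Fin 5) := by
    rw [mem_alternatingGroup]; decide
  have e2 : (swap 0 1 * swap 1 3 : Perm (Fin 5)) ∈ alternatingGroup (Fin 5) := by
    rw [mem_alternatingGroup]; decide
  have hnc : ¬ ((swap 0 1 * swap 1 2 : Perm (Fin 5)) * (swap 0 1 * swap 1 3) =
      (swap 0 1 * swap 1 3) * (swap 0 1 * swap 1 2)) := by decide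
  have key1 : ∀ g : Perm (Fin 5), sign g = 1 →
      g * (swap 0 1 * swap 1 2) = (swap 0 1 * swap 1 2) * g → g 4 = 4 := by decide
  have key2 : ∀ g : Perm (Fin 5), sign g = 1 →
      g * (swap 0 1 * swap 1 3) = (swap 0 1 * swap 1 3) * g → g 4 = 4 := by decide
  refine no_cover h hp2 ⟨_, e1⟩ ⟨_, e2⟩
    (by rw [Subgroup.orderOf_mk]; exact orderOf_eq_prime (by decide) (by decide))
    (by rw [Subgroup.orderOf_mk]; exact orderOf_eq_prime (by decide) (by decide))
    (fun hc => hnc (congrArg Subtype.val hc))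
    ((MulAction.stabilizer (Perm (Fin 5)) (4 : Fin 5)).subgroupOf (alternatingGroup (Fin 5))) ?_ ?_ ?_
  · intro htop
    rw [subgroupOf_eq_top] at htop
    have e3 : (swap 2 3 * swap 3 4 : Perm (Fin 5)) ∈ alternatingGroup (Fin 5) := by
      rw [mem_alternatingGroup]; decide
    have := htop e3
    rw [MulAction.mem_stabilizer_iff] at this
    exact absurd this (by decide)
  · rintro ⟨g, hgA⟩ hg
    rw [mem_centralizer_singleton_iff] at hg
    have hg' : g * (swap 0 1 * swap 1 2) = (swap 0 1 * swap 1 2) * g := congrArg Subtype.val hg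
    rw [mem_subgroupOf, MulAction.mem_stabilizer_iff]
    exact key1 g (mem_alternatingGroup.mp hgA) hg'
  · rintro ⟨g, hgA⟩ hg
    rw [mem_centralizer_singleton_iff] at hg
    have hg' : g * (swap 0 1 * swap 1 3) = (swap 0 1 * swap 1 3) * g := congrArg Subtype.val hg
    rw [mem_subgroupOf, MulAction.mem_stabilizer_iff]
    exact key2 g (mem_alternatingGroup.mp hgA) hg'

/-- A cover of a group is a finite set of proper subgroups whose union is the whole group; it is minimal when no cover has fewer members, and nilpotent when all its members are nilpotent. The alternating groups of degree at least 5 and the symmetric groups of degree at least 4 have no nilpotent minimal cover. -/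
theorem result (n : ℕ) :
    (5 ≤ n → ¬ ∃ 𝓐 : Finset (Subgroup ↥(alternatingGroup (Fin n))), ((∀ A ∈ 𝓐, A ≠ ⊤) ∧ (∀ g : ↥(alternatingGroup (Fin n)), ∃ A ∈ 𝓐, g ∈ A)) ∧ (∀ 𝓑 : Finset (Subgroup ↥(alternatingGroup (Fin n))), (∀ A ∈ 𝓑, A ≠ ⊤) ∧ (∀ g : ↥(alternatingGroup (Fin n)), ∃ A ∈ 𝓑, g ∈ A) → 𝓐.card ≤ 𝓑.card) ∧ (∀ A ∈ 𝓐, Group.IsNilpotent ↥A)) ∧
    (4 ≤ n → ¬ ∃ 𝓐 : Finset (Subgroup (Equiv.Perm (Fin n))), ((∀ A ∈ 𝓐, A ≠ ⊤) ∧ (∀ g : (Equiv.Perm (Fin n)), ∃ A ∈ 𝓐, g ∈ A)) ∧ (∀ 𝓑 : Finset (Subgroup (Equiv.Perm (Fin n))), (∀ A ∈ 𝓑, A ≠ ⊤) ∧ (∀ g : (Equiv.Perm (Fin n)), ∃ A ∈ 𝓑, g ∈ A) → 𝓐.card ≤ 𝓑.card) ∧ (∀ A ∈ 𝓐, Group.IsNilpotent ↥A)) := by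
  constructor
  · rintro hn ⟨𝓐, h⟩
    rcases Nat.lt_or_ge n 6 with h6 | h6
    · obtain rfl : n = 5 := by omega
      exact alt_five h
    · exact alt_large h6 h
  · rintro hn ⟨𝓐, h⟩
    rcases Nat.lt_or_ge n 6 with h6 | h6
    · have : n = 4 ∨ n = 5 := by omega
      rcases this with rfl | rfl
      · exact sym_four h
      · exact sym_five h
    · exact sym_large h6 h

end Cfsg.Agent.S3892
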