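import Cfsg.Statements.S3893
import Cfsg.Agent.Lib.Helper8Sz8
import Cfsg.Agent.Lib.Helper8Cover

set_option autoImplicit false
open Cfsg

namespace Cfsg.Agent.S3893


open Cfsg.Agent.Lib.Helper8Sz Cfsg.Agent.Lib.Helper8Sz3 Cfsg.Agent.Lib.Helper8SzIso
  Cfsg.Agent.Lib.Helper8Sz8 Cfsg.Agent.Lib.Helper8Cover

/-- A cover of a group is a finite set of proper subgroups whose union is the whole group; it is minimal when no cover has fewer members, and nilpotent when all its members are nilpotent. The Suzuki groups Sz(q), q = 2^(2m+1) with m ≥ 1, have no nilpotent minimal cover. -/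
theorem result {F : Type*} [Field F] [Fintype F] (m : ℕ) (hm : 1 ≤ m) (hF : Fintype.card F = 2 ^ (2 * m + 1)) :
    ¬ ∃ 𝓐 : Finset (Subgroup ↥(Cfsg.Lie.Sz F (2 ^ (m + 1)))), ((∀ A ∈ 𝓐, A ≠ ⊤) ∧ (∀ g : ↥(Cfsg.Lie.Sz F (2 ^ (m + 1))), ∃ A ∈ 𝓐, g ∈ A)) ∧ (∀ 𝓑 : Finset (Subgroup ↥(Cfsg.Lie.Sz F (2 ^ (m + 1)))), (∀ A ∈ 𝓑, A ≠ ⊤) ∧ (∀ g : ↥(Cfsg.Lie.Sz F (2 ^ (m + 1))), ∃ A ∈ 𝓑, g ∈ A) → 𝓐.card ≤ 𝓑.card) ∧ (∀ A ∈ 𝓐, Group.IsNilpotent ↥A) := by
  let e := (szIso hF hm).symm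
  letI : MulAction ↥(Cfsg.Lie.Sz F (2 ^ (m + 1))) (suzukiOvoid F m) :=
    MulAction.compHom _ e.toMonoidHom
  have hsm : ∀ (g : ↥(Cfsg.Lie.Sz F (2 ^ (m + 1)))) (c : suzukiOvoid F m), g • c = e g • c :=
    fun _ _ => rfl
  have : Finite ↥(Cfsg.Lie.Sz F (2 ^ (m + 1))) := Finite.of_equiv _ e.symm.toEquiv
  apply no_nilpotent_min_cover (Ω := suzukiOvoid F m)
  · intro g a b c hab hbc hac ha hb hc
    have := three_point hF hm (e g) a b c hab hbc hac ha hb hc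
    exact e.injective (by rw [this, map_one])
  · intro t ht
    exact invol_fix hF hm (t := e t) (by rw [MulEquiv.orderOf_eq, ht])
  · intro ω
    obtain ⟨g, hg1, hg⟩ := exists_one_fix hF ω
    refine ⟨e.symm g, ?_, ?_⟩
    · intro h
      apply hg1
      rw [← e.apply_symm_apply g, h, map_one]
    · intro c
      rw [hsm, e.apply_symm_apply]
      exact hg c
  · obtain ⟨g, hg1, a, b, hab, ha, hb⟩ := exists_two_fix hF hm
    refine ⟨e.symm g, ?_, a, b, hab, ?_, ?_⟩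
    · intro h
      apply hg1
      rw [← e.apply_symm_apply g, h, map_one]
    · rw [hsm, e.apply_symm_apply]; exact ha
    · rw [hsm, e.apply_symm_apply]; exact hb
  · intro ω h
    apply stab_ne_top hF ω
    rw [eq_top_iff]
    intro g _
    have : e.symm g ∈ MulAction.stabilizer ↥(Cfsg.Lie.Sz F (2 ^ (m + 1))) ω := h ▸ Subgroup.mem_top _
    rw [MulAction.mem_stabilizer_iff, hsm, e.apply_symm_apply] at this
    exact this

end Cfsg.Agent.S3893
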