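import Mathlib
import Cfsg.Statements.S3894
import Cfsg.Agent.Lib.Helper68Nil
import Cfsg.Agent.Lib.Helper68GL
import Cfsg.Agent.Lib.Helper68GLn
import Cfsg.Agent.Lib.Helper68GL2
import Cfsg.Agent.Lib.Helper68GL2A
import Cfsg.Agent.Lib.Helper68GL2B
import Cfsg.Agent.Lib.Helper68GL2C

set_option autoImplicit false
open Cfsg

namespace Cfsg.Agent.S3894

open Cfsg.Agent.Lib.Helper68Nil Cfsg.Agent.Lib.Helper68GLn Cfsg.Agent.Lib.Helper68GL2A
  Cfsg.Agent.Lib.Helper68GL2C in
theorem two_case {F : Type*} [Field F] [Fintype F] (hq : 4 ≤ Fintype.card F)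
    {H : Subgroup (GL (Fin 2) F)}
    (hH : (Matrix.SpecialLinearGroup.toGL :
      Matrix.SpecialLinearGroup (Fin 2) F →* GL (Fin 2) F).range ≤ H)
    (hZH : Subgroup.center (GL (Fin 2) F) ≤ H)
    {𝓧 : Finset (Subgroup (GL (Fin 2) F))}
    (h : IsNilMinCov (Subgroup.center (GL (Fin 2) F)) H 𝓧) : False := by
  classical
  rcases Nat.eq_two_pow_or_exists_odd_prime_and_dvd (Fintype.card F - 1) with
    ⟨k, hk⟩ | ⟨r, hr, hrd, hodd⟩
  · have hk2 : 2 ≤ k := by
      by_contra hlt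
      have : k = 0 ∨ k = 1 := by omega
      rcases this with rfl | rfl <;> simp at hk <;> omega
    obtain ⟨j, rfl⟩ : ∃ j, k = j + 2 := ⟨k - 2, by omega⟩
    have hq' : Fintype.card F = 4 * 2 ^ j + 1 := by
      rw [pow_add] at hk; omega
    have hF : ringChar F ≠ 2 := by
      intro e
      have := FiniteField.even_card_of_char_two e
      omega
    obtain ⟨i, hi⟩ := (FiniteField.isSquare_neg_one_iff (F := F)).mpr (by omega)
    exact caseB hF (m := 2 * 2 ^ j + 1) ⟨2 ^ j, rfl⟩ (by omega) hi.symm hH hZH h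
  · haveI : Fact r.Prime := ⟨hr⟩
    have hrd' : r ∣ Fintype.card Fˣ := by rw [Fintype.card_units]; exact hrd
    obtain ⟨a, ha⟩ := exists_prime_orderOf_dvd_card r hrd'
    have har : (a : F) ^ r = 1 := by
      rw [← Units.val_pow_eq_pow_val, ← ha, pow_orderOf_eq_one, Units.val_one]
    have ha2 : (a : F) ≠ (a : F)⁻¹ := by
      intro e
      have h1 : a ^ 2 = 1 := by
        apply Units.ext
        rw [Units.val_pow_eq_pow_val, pow_two, Units.val_one]
        nth_rewrite 2 [e]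
        exact mul_inv_cancel₀ a.ne_zero
      have h2 : r ∣ 2 := ha ▸ orderOf_dvd_of_pow_eq_one h1
      have h3 : r = 2 := (Nat.prime_dvd_prime_iff_eq hr Nat.prime_two).mp h2
      rw [h3] at hodd
      exact absurd hodd (by decide)
    have hp : (ringChar F).Prime := CharP.char_is_prime F (ringChar F)
    have hcop : (ringChar F).Coprime r := by
      rw [Nat.coprime_primes hp hr]
      intro e
      obtain ⟨k, -, hk⟩ := FiniteField.card F (ringChar F)
      have h1 : r ∣ Fintype.card F := by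
        rw [hk, e]; exact dvd_pow_self _ k.ne_zero
      have h2 : r ∣ 1 := by
        have := (Nat.dvd_sub h1 hrd)
        have e2 : Fintype.card F - (Fintype.card F - 1) = 1 := by omega
        rwa [e2] at this
      exact hr.one_lt.ne' (Nat.dvd_one.mp h2)
    exact caseA hH h a.ne_zero hodd har ha2 (ringChar F) hcop

/-- A cover of a group is a finite set of proper subgroups whose union is the whole group; it is minimal when no cover has fewer members, and nilpotent when all its members are nilpotent. Let F be a finite field with q elements and n ≥ 3, or n = 2 and q ≥ 4. Then no subgroup of PGL_n(F) = GL_n(F)/Z(GL_n(F)) containing the image of SL_n(F) has a nilpotent minimal cover. -/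
theorem result {F : Type*} [Field F] [Fintype F] (n : ℕ) (hn : 3 ≤ n ∨ (n = 2 ∧ 4 ≤ Fintype.card F))
    (G : Subgroup (GL (Fin n) F ⧸ Subgroup.center (GL (Fin n) F)))
    (hG : ((Matrix.SpecialLinearGroup.toGL : Matrix.SpecialLinearGroup (Fin n) F →* GL (Fin n) F).range).map
      (QuotientGroup.mk' (Subgroup.center (GL (Fin n) F))) ≤ G) :
    ¬ ∃ 𝓐 : Finset (Subgroup ↥G), ((∀ A ∈ 𝓐, A ≠ ⊤) ∧ (∀ g : ↥G, ∃ A ∈ 𝓐, g ∈ A)) ∧ (∀ 𝓑 : Finset (Subgroup ↥G), (∀ A ∈ 𝓑, A ≠ ⊤) ∧ (∀ g : ↥G, ∃ A ∈ 𝓑, g ∈ A) → 𝓐.card ≤ 𝓑.card) ∧ (∀ A ∈ 𝓐, Group.IsNilpotent ↥A) := by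
  rintro ⟨𝓐, h𝓐⟩
  obtain ⟨𝓧, h𝓧⟩ := Cfsg.Agent.Lib.Helper68Nil.transfer (Subgroup.center (GL (Fin n) F)) le_rfl G 𝓐 h𝓐
  have hH : (Matrix.SpecialLinearGroup.toGL :
      Matrix.SpecialLinearGroup (Fin n) F →* GL (Fin n) F).range ≤
      G.comap (QuotientGroup.mk' (Subgroup.center (GL (Fin n) F))) := by
    intro x hx
    rw [Subgroup.mem_comap]
    exact hG (Subgroup.mem_map_of_mem _ hx)
  have hZH : Subgroup.center (GL (Fin n) F) ≤
      G.comap (QuotientGroup.mk' (Subgroup.center (GL (Fin n) F))) := by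
    intro z hz
    rw [Subgroup.mem_comap]
    have : QuotientGroup.mk' (Subgroup.center (GL (Fin n) F)) z = 1 :=
      (QuotientGroup.eq_one_iff z).mpr hz
    rw [this]; exact one_mem G
  rcases hn with hn | ⟨rfl, hq⟩
  · exact Cfsg.Agent.Lib.Helper68GLn.no_cover_ge_three hn _ _ hH 𝓧 h𝓧
  · exact two_case hq hH hZH h𝓧

end Cfsg.Agent.S3894
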