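import Cfsg.Statements.S3897

set_option autoImplicit false
open Cfsg

namespace Cfsg.Agent.S3897

open Subgroup MulAction

/-- the conjugation action of the normalizer of `P` on `P` -/
@[reducible] noncomputable def act {G : Type*} [Group G] (P : Subgroup G) :
    MulAction ↥(normalizer (P : Set G)) ↥P :=
  MulAction.compHom ↥P P.normalizerMonoidHom

theorem act_coe {G : Type*} [Group G] (P : Subgroup G) (h : ↥(normalizer (P : Set G))) (x : ↥P) :
    letI := act P
    ((h • x : ↥P) : G) = (h : G) * x * (h : G)⁻¹ := rfl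

variable {G : Type*} [Group G] [Finite G] {p : ℕ} [Fact p.Prime]

/-- the class of an element of `P` -/
def cls (P : Sylow p G) (x : ↥(P : Subgroup G)) :
    {c : ConjClasses G // ∀ x ∈ c.carrier, ∃ k : ℕ, orderOf x = p ^ k} :=
  ⟨ConjClasses.mk (x : G), by
    intro y hy
    rw [ConjClasses.mem_carrier_iff_mk_eq, ConjClasses.mk_eq_mk_iff_isConj] at hy
    obtain ⟨k, hk⟩ := (IsPGroup.iff_orderOf.mp P.2) x
    refine ⟨k, ?_⟩
    obtain ⟨c, hc⟩ := isConj_iff.mp hy
    rw [← Subgroup.orderOf_coe] at hk
    rw [← hk, ← hc]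
    have := orderOf_injective (MulAut.conj c).toMonoidHom (MulAut.conj c).injective y
    simpa using this.symm⟩

theorem cls_surjective (P : Sylow p G) : Function.Surjective (cls P) := by
  rintro ⟨c, hc⟩
  obtain ⟨g, rfl⟩ := ConjClasses.exists_rep c
  obtain ⟨k, hk⟩ := hc g (by rw [ConjClasses.mem_carrier_iff_mk_eq])
  have hpg : IsPGroup p (zpowers g) := by
    rw [IsPGroup.iff_card]
    exact ⟨k, by rw [Nat.card_zpowers, hk]⟩
  obtain ⟨Q, hQ⟩ := hpg.exists_le_sylow
  obtain ⟨t, ht⟩ := MulAction.exists_smul_eq G Q P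
  have hg : g ∈ (Q : Subgroup G) := hQ (mem_zpowers g)
  have : t * g * t⁻¹ ∈ (P : Subgroup G) := by
    rw [← ht, Sylow.coe_subgroup_smul]
    exact ⟨g, hg, rfl⟩
  refine ⟨⟨_, this⟩, ?_⟩
  apply Subtype.ext
  show ConjClasses.mk (t * g * t⁻¹) = ConjClasses.mk g
  rw [ConjClasses.mk_eq_mk_iff_isConj]
  exact (isConj_iff.mpr ⟨t, rfl⟩).symm

theorem card_le_orbits (P : Sylow p G) :
    letI := act (P : Subgroup G)
    Nat.card {c : ConjClasses G // ∀ x ∈ c.carrier, ∃ k : ℕ, orderOf x = p ^ k} ≤
      Nat.card (orbitRel.Quotient ↥(normalizer ((P : Subgroup G) : Set G)) ↥(P : Subgroup G)) := by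
  letI := act (P : Subgroup G)
  let f : orbitRel.Quotient ↥(normalizer ((P : Subgroup G) : Set G)) ↥(P : Subgroup G) →
      {c : ConjClasses G // ∀ x ∈ c.carrier, ∃ k : ℕ, orderOf x = p ^ k} :=
    Quotient.lift (cls P) (by
      intro a b hab
      obtain ⟨h, hh⟩ := hab
      apply Subtype.ext
      show ConjClasses.mk (a : G) = ConjClasses.mk (b : G)
      rw [ConjClasses.mk_eq_mk_iff_isConj]
      refine (isConj_iff.mpr ⟨(h : G), ?_⟩).symm
      rw [← act_coe]
      exact congrArg _ hh)
  have hf : Function.Surjective f := by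
    intro c
    obtain ⟨x, hx⟩ := cls_surjective P c
    exact ⟨Quotient.mk _ x, hx⟩
  exact Nat.card_le_card_of_surjective f hf

open Classical in
theorem card_fixedBy (P : Sylow p G) (h : ↥(normalizer ((P : Subgroup G) : Set G))) :
    letI := act (P : Subgroup G)
    p * Nat.card (fixedBy ↥(P : Subgroup G) h) ≤
      if (h : G) ∈ centralizer ((P : Subgroup G) : Set G) then p * Nat.card ↥(P : Subgroup G)
      else Nat.card ↥(P : Subgroup G) := by
  letI := act (P : Subgroup G)
  split_ifs with hc
  · exact Nat.mul_le_mul_left _ (Nat.card_le_card_of_injective _ Subtype.val_injective)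
  · let K : Subgroup ↥(P : Subgroup G) := (centralizer ({(h : G)} : Set G)).subgroupOf P
    have hK : (fixedBy ↥(P : Subgroup G) h) = (K : Set ↥(P : Subgroup G)) := by
      ext x
      simp only [mem_fixedBy, K, SetLike.mem_coe, mem_subgroupOf, mem_centralizer_singleton_iff]
      rw [Subtype.ext_iff, act_coe, mul_inv_eq_iff_eq_mul, eq_comm]
    have hKne : K ≠ ⊤ := by
      intro hKt
      apply hc
      rw [mem_centralizer_iff]
      intro x hx
      have : (⟨x, hx⟩ : ↥(P : Subgroup G)) ∈ K := hKt ▸ mem_top _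
      simp only [K, mem_subgroupOf, mem_centralizer_singleton_iff] at this
      exact this
    have h1 : Nat.card K * K.index = Nat.card ↥(P : Subgroup G) := K.card_mul_index
    have h2 : p ∣ K.index := by
      obtain ⟨n, hn⟩ := (IsPGroup.iff_card.mp P.2)
      have : K.index ∣ p ^ n := hn ▸ K.index_dvd_card
      obtain ⟨m, _, hm⟩ := (Nat.dvd_prime_pow (Fact.out : p.Prime)).mp this
      rcases Nat.eq_zero_or_pos m with rfl | hpos
      · exact absurd (index_eq_one.mp (by simpa using hm)) hKne
      · rw [hm]; exact dvd_pow_self p hpos.ne'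
    have h3 : p ≤ K.index := Nat.le_of_dvd (Nat.pos_of_ne_zero K.index_ne_zero_of_finite) h2
    rw [hK, ← h1, mul_comm]
    exact Nat.mul_le_mul_left _ h3

theorem key (P : Sylow p G)
    (hP : ¬ normalizer ((P : Subgroup G) : Set G) ≤ centralizer ((P : Subgroup G) : Set G)) :
    2 * p * Nat.card {c : ConjClasses G // ∀ x ∈ c.carrier, ∃ k : ℕ, orderOf x = p ^ k} ≤
      (p + 1) * Nat.card ↥(P : Subgroup G) := by
  classical
  letI := act (P : Subgroup G)
  letI := Fintype.ofFinite ↥(normalizer ((P : Subgroup G) : Set G))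
  have hB : ∑ g : ↥(normalizer ((P : Subgroup G) : Set G)), Nat.card (fixedBy ↥(P : Subgroup G) g) =
      Nat.card (orbitRel.Quotient ↥(normalizer ((P : Subgroup G) : Set G)) ↥(P : Subgroup G)) *
        Nat.card ↥(normalizer ((P : Subgroup G) : Set G)) := by
    letI := Fintype.ofFinite
      (orbitRel.Quotient ↥(normalizer ((P : Subgroup G) : Set G)) ↥(P : Subgroup G))
    letI : ∀ g : ↥(normalizer ((P : Subgroup G) : Set G)), Fintype (fixedBy ↥(P : Subgroup G) g) :=
      fun g => Fintype.ofFinite _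
    have := sum_card_fixedBy_eq_card_orbits_mul_card_group
      ↥(normalizer ((P : Subgroup G) : Set G)) ↥(P : Subgroup G)
    simp only [Nat.card_eq_fintype_card]
    exact this
  have hk := card_le_orbits P
  generalize Nat.card (orbitRel.Quotient ↥(normalizer ((P : Subgroup G) : Set G))
    ↥(P : Subgroup G)) = o at hB hk
  let C : Subgroup ↥(normalizer ((P : Subgroup G) : Set G)) :=
    (centralizer ((P : Subgroup G) : Set G)).subgroupOf (normalizer ((P : Subgroup G) : Set G))
  have hCne : C ≠ ⊤ := by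
    intro h
    apply hP
    rwa [subgroupOf_eq_top] at h
  have hC2 : 2 * Nat.card C ≤ Nat.card ↥(normalizer ((P : Subgroup G) : Set G)) := by
    rw [← C.card_mul_index, mul_comm]
    apply Nat.mul_le_mul_left
    have h0 : C.index ≠ 0 := C.index_ne_zero_of_finite
    have h1 : C.index ≠ 1 := fun h => hCne (index_eq_one.mp h)
    omega
  have hsum : p * ∑ g : ↥(normalizer ((P : Subgroup G) : Set G)),
      Nat.card (fixedBy ↥(P : Subgroup G) g) ≤
      ∑ g : ↥(normalizer ((P : Subgroup G) : Set G)),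
        if g ∈ C then p * Nat.card ↥(P : Subgroup G) else Nat.card ↥(P : Subgroup G) := by
    rw [Finset.mul_sum]
    apply Finset.sum_le_sum
    intro g _
    have := card_fixedBy P g
    have e : (g ∈ C) = ((g : G) ∈ centralizer ((P : Subgroup G) : Set G)) := rfl
    simp only [e]
    convert this
  have hsum2 : (∑ g : ↥(normalizer ((P : Subgroup G) : Set G)),
        if g ∈ C then p * Nat.card ↥(P : Subgroup G) else Nat.card ↥(P : Subgroup G)) =
      Nat.card C * (p * Nat.card ↥(P : Subgroup G)) +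
        (Nat.card ↥(normalizer ((P : Subgroup G) : Set G)) - Nat.card C) *
          Nat.card ↥(P : Subgroup G) := by
    rw [Finset.sum_ite, Finset.sum_const, Finset.sum_const, smul_eq_mul, smul_eq_mul]
    have e1 : (Finset.univ.filter (fun g : ↥(normalizer ((P : Subgroup G) : Set G)) => g ∈ C)).card
        = Nat.card C := by
      rw [Nat.card_eq_fintype_card, Fintype.card_subtype]
    rw [Finset.filter_not, Finset.card_sdiff_of_subset (Finset.filter_subset _ _),
        Finset.card_univ, e1, Nat.card_eq_fintype_card (α := ↥(normalizer ((P : Subgroup G) : Set G)))]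
  have hHpos : 0 < Nat.card ↥(normalizer ((P : Subgroup G) : Set G)) := Nat.card_pos
  rw [hB, hsum2] at hsum
  generalize Nat.card {c : ConjClasses G // ∀ x ∈ c.carrier, ∃ k : ℕ, orderOf x = p ^ k} = kk at *
  generalize Nat.card ↥(normalizer ((P : Subgroup G) : Set G)) = nH at *
  generalize Nat.card ↥(P : Subgroup G) = n at *
  generalize Nat.card C = nC at *
  have hCle : nC ≤ nH := by omega
  obtain ⟨d, rfl⟩ := Nat.exists_eq_add_of_le hCle
  have hp1 : 1 ≤ p := (Fact.out : p.Prime).one_lt.le
  obtain ⟨q, hq⟩ := Nat.exists_eq_add_of_le hp1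
  rw [hq] at hsum ⊢
  have : 2 * (1 + q) * o * (nC + d) ≤ (1 + q + 1) * n * (nC + d) := by
    simp only [Nat.add_sub_cancel_left] at hsum
    have hcd : nC ≤ d := by omega
    nlinarith [Nat.mul_le_mul_right (q * n) hcd]
  have h2 := Nat.le_of_mul_le_mul_right this hHpos
  calc _ ≤ 2 * (1 + q) * o := Nat.mul_le_mul_left _ hk
    _ ≤ _ := h2

theorem cls_injective (P : Sylow p G) (hab : IsMulCommutative ↥(P : Subgroup G))
    (N : Subgroup G) [N.Normal] (hN : N.IsComplement' (P : Subgroup G)) :
    Function.Injective (cls P) := by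
  intro x y hxy
  have h1 : ConjClasses.mk (x : G) = ConjClasses.mk (y : G) := congrArg Subtype.val hxy
  rw [ConjClasses.mk_eq_mk_iff_isConj] at h1
  obtain ⟨g, hg⟩ := isConj_iff.mp h1
  obtain ⟨⟨⟨n, hn⟩, ⟨u, hu⟩⟩, hnu⟩ := hN.2 g
  simp only at hnu
  have hcomm : u * x * u⁻¹ = x := by
    have := hab.is_comm.comm (⟨u, hu⟩ : ↥(P : Subgroup G)) x
    have h2 : u * (x : G) = x * u := congrArg Subtype.val this
    rw [h2, mul_inv_cancel_right]
  have hy : (y : G) = n * x * n⁻¹ := by
    rw [← hg, ← hnu]
    calc n * u * x * (n * u)⁻¹ = n * (u * x * u⁻¹) * n⁻¹ := by group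
      _ = _ := by rw [hcomm]
  have hmemN : (y : G) * (x : G)⁻¹ ∈ N := by
    rw [hy]
    have : n * x * n⁻¹ * (x : G)⁻¹ = n * ((x : G) * n⁻¹ * (x : G)⁻¹) := by group
    rw [this]
    exact N.mul_mem hn (Normal.conj_mem inferInstance _ (N.inv_mem hn) _)
  have hmemP : (y : G) * (x : G)⁻¹ ∈ (P : Subgroup G) := mul_mem y.2 (inv_mem x.2)
  have := hN.disjoint.le_bot ⟨hmemN, hmemP⟩
  rw [mem_bot, mul_inv_eq_one] at this
  exact Subtype.ext this.symm

/-- Let p be an odd prime and G a finite group with Sylow p-subgroup P, and write k_p(G) for the number of conjugacy classes of G consisting of p-elements (elements of p-power order, the identity included). Then k_p(G) > (p + 1)|P|/(2p) if and only if G has a normal p-complement and P is abelian. -/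
theorem result {G : Type*} [Group G] [Finite G] {p : ℕ} [Fact p.Prime] (hp : p ≠ 2) (P : Sylow p G) :
    (p + 1) * Nat.card ↥(P : Subgroup G) < 2 * p * Nat.card {c : ConjClasses G // ∀ x ∈ c.carrier, ∃ k : ℕ, orderOf x = p ^ k} ↔
      Cfsg.HasNormalPComplement p G ∧ IsMulCommutative ↥(P : Subgroup G) := by
  constructor
  · intro h
    have hP : normalizer ((P : Subgroup G) : Set G) ≤ centralizer ((P : Subgroup G) : Set G) := by
      by_contra hc
      exact absurd (key P hc) (not_le.mpr h)
    refine ⟨⟨P, _, inferInstance, MonoidHom.ker_transferSylow_isComplement' P hP⟩, ?_⟩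
    exact ⟨⟨fun a b => Subtype.ext (hP (le_normalizer b.2) a a.2)⟩⟩
  · rintro ⟨⟨P', N, hN, hc⟩, hab⟩
    haveI := hN
    have hcard : Nat.card ↥(P' : Subgroup G) = Nat.card ↥(P : Subgroup G) := by
      rw [Sylow.card_eq_multiplicity, Sylow.card_eq_multiplicity]
    have hc' : N.IsComplement' (P : Subgroup G) := by
      apply isComplement'_of_coprime
      · rw [← hcard]; exact hc.card_mul
      · rw [← hc.index_eq_card]
        obtain ⟨n, hn⟩ := (IsPGroup.iff_card.mp P.2)
        rw [hn]
        exact Nat.Coprime.pow_right _ ((Nat.coprime_comm.mp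
          ((Nat.Prime.coprime_iff_not_dvd (Fact.out : p.Prime)).mpr P'.not_dvd_index)))
    have hle := Nat.card_le_card_of_injective _ (cls_injective P hab N hc')
    have hpos : 0 < Nat.card ↥(P : Subgroup G) := Nat.card_pos
    have hp2 : 2 ≤ p := (Fact.out : p.Prime).two_le
    calc (p + 1) * Nat.card ↥(P : Subgroup G) < 2 * p * Nat.card ↥(P : Subgroup G) :=
          Nat.mul_lt_mul_of_pos_right (by omega) hpos
      _ ≤ _ := Nat.mul_le_mul_left _ hle

end Cfsg.Agent.S3897
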