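import Cfsg.Statements.S3903
import Cfsg.Agent.S3897

set_option autoImplicit false
open Cfsg

namespace Cfsg.Agent.S3903

open Subgroup
open scoped Pointwise

theorem solvable_of_sup {G : Type*} [Group G] (A B : Subgroup G) [A.Normal]
    (hA : Group.IsSolvable A) (hB : Group.IsSolvable B) (h : A ⊔ B = ⊤) : Group.IsSolvable G := by
  have hsurj : Function.Surjective ((QuotientGroup.mk' A).comp B.subtype) := by
    intro x
    obtain ⟨g, rfl⟩ := QuotientGroup.mk'_surjective A x
    have hg : g ∈ A ⊔ B := h ▸ mem_top g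
    obtain ⟨a, ha, b, hb, rfl⟩ := mem_sup_of_normal_left.mp hg
    refine ⟨⟨b, hb⟩, ?_⟩
    simp only [MonoidHom.coe_comp, Function.comp_apply, Subgroup.coe_subtype, map_mul]
    have : (QuotientGroup.mk' A) a = 1 := (QuotientGroup.eq_one_iff a).mpr ha
    rw [this, one_mul]
  haveI : Group.IsSolvable (G ⧸ A) := Group.isSolvable_of_surjective hsurj
  exact Group.isSolvable_of_ker_le_range A.subtype (QuotientGroup.mk' A) (by simp)

theorem pgroup_solvable {G : Type*} [Group G] [Finite G] {p : ℕ} (hp : p.Prime) (H : Subgroup G)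
    (h : IsPGroup p H) : Group.IsSolvable H := by
  haveI : Fact p.Prime := ⟨hp⟩
  haveI := h.isNilpotent
  infer_instance

theorem primePow_aux {p a m : ℕ} (hp : p.Prime) (ha : a ≠ 0) (hm : Nat.Coprime p m)
    (h : IsPrimePow (p ^ a * m)) : m = 1 := by
  obtain ⟨q, e, hq, he, hqe⟩ := (isPrimePow_nat_iff _).mp h
  have h1 : p ∣ q ^ e := by rw [hqe]; exact Dvd.dvd.mul_right (dvd_pow_self p ha) m
  have h2 : p = q := (Nat.prime_dvd_prime_iff_eq hp hq).mp (hp.dvd_of_dvd_pow h1)
  subst h2
  have h3 : m ∣ p ^ e := by rw [hqe]; exact Dvd.intro_left _ rfl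
  exact (hm.symm.pow_right e).eq_one_of_dvd h3

section main

variable {G : Type*} [Group G] [Finite G] (N : Subgroup G) [N.Normal]
  (h : ∀ x : G, x ∉ N → IsPrimePow (orderOf x) ∧ IsCoatom (Subgroup.centralizer ({x} : Set G)))

include h in
theorem L1 {x : G} (hx : x ∉ N) {p a : ℕ} (hp : p.Prime) (hxo : orderOf x = p ^ a) :
    IsPGroup p (centralizer ({x} : Set G)) := by
  have ha : a ≠ 0 := by
    rintro rfl
    rw [pow_zero, orderOf_eq_one_iff] at hxo
    exact hx (hxo ▸ N.one_mem)
  rintro ⟨y, hy⟩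
  set n := orderOf y with hn
  have hn0 : n ≠ 0 := (orderOf_pos y).ne'
  set c := n.factorization p with hc
  refine ⟨c, Subtype.ext ?_⟩
  show y ^ p ^ c = 1
  set w := y ^ p ^ c with hw
  have hwo : orderOf w = n / p ^ c :=
    orderOf_pow_of_dvd (pow_ne_zero _ hp.ne_zero) (Nat.ordProj_dvd n p)
  have hcop : Nat.Coprime p (orderOf w) := hwo ▸ Nat.coprime_ordCompl hp hn0
  have hcomm : Commute x w := by
    rw [mem_centralizer_singleton_iff] at hy
    exact (Commute.pow_right (show Commute x y from hy.symm) _)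
  have hxw : orderOf (x * w) = p ^ a * orderOf w := by
    rw [hcomm.orderOf_mul_eq_mul_orderOf_of_coprime (by rw [hxo]; exact hcop.pow_left a), hxo]
  by_cases hmem : x * w ∈ N
  · exfalso
    have h1 : (x * w) ^ orderOf w ∈ N := N.pow_mem hmem _
    rw [hcomm.mul_pow, pow_orderOf_eq_one, mul_one] at h1
    obtain ⟨j, hj⟩ := exists_pow_eq_self_of_coprime
      (show Nat.Coprime (orderOf w) (orderOf x) by rw [hxo]; exact (hcop.pow_left a).symm)
    exact hx (hj ▸ N.pow_mem h1 j)
  · have h1 := (h _ hmem).1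
    rw [hxw] at h1
    exact orderOf_eq_one_iff.mp (primePow_aux hp ha hcop h1)

theorem card_carrier_mul (g : G) :
    Nat.card (ConjClasses.mk g).carrier * Nat.card (centralizer ({g} : Set G)) = Nat.card G := by
  classical
  letI := Fintype.ofFinite G
  letI : Fintype (ConjAct G) := inferInstanceAs (Fintype G)
  letI := Fintype.ofFinite (MulAction.orbit (ConjAct G) g)
  letI := Fintype.ofFinite (MulAction.stabilizer (ConjAct G) g)
  have := MulAction.card_orbit_mul_card_stabilizer_eq_card_group (ConjAct G) g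
  rw [Subgroup.nat_card_centralizer_nat_card_stabilizer, ← ConjAct.orbit_eq_carrier_conjClasses,
    Nat.card_eq_fintype_card, Nat.card_eq_fintype_card, this, Nat.card_eq_fintype_card]
  rfl

theorem card_compl {α : Type*} [Finite α] (q : α → Prop) :
    Nat.card {a // q a} + Nat.card {a // ¬ q a} = Nat.card α := by
  classical
  rw [← Nat.card_sum]
  exact Nat.card_congr (Equiv.sumCompl q)

theorem count {p : ℕ} [Fact p.Prime] (P : Sylow p G) (hPN : (P : Subgroup G) ⊔ N = ⊤)
    (hpel : ∀ y : G, y ∉ N → ∃ k : ℕ, orderOf y = p ^ k)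
    (hcard : ∀ y : G, y ∉ N → Nat.card (centralizer ({y} : Set G)) = Nat.card (P : Subgroup G)) :
    ∀ x ∈ (P : Subgroup G), x ∉ N → ∀ u ∈ (P : Subgroup G), u * x * u⁻¹ = x := by
  classical
  have hconj : ∀ {x y : G}, x ∉ N → y ∈ (ConjClasses.mk x).carrier → y ∉ N := by
    intro x y hx hy hyN
    rw [ConjClasses.mem_carrier_iff_mk_eq, ConjClasses.mk_eq_mk_iff_isConj] at hy
    obtain ⟨c, hc⟩ := isConj_iff.mp hy
    exact hx (hc ▸ Normal.conj_mem inferInstance y hyN c)
  let Y := {x : ↥(P : Subgroup G) // ¬ ((x : G) ∈ N)}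
  let X := {y : G // ¬ (y ∈ N)}
  let T := Σ x : Y, (ConjClasses.mk (x.1 : G)).carrier
  let f : T → X := fun t => ⟨t.2.1, hconj t.1.2 t.2.2⟩
  have hf : Function.Surjective f := by
    rintro ⟨y, hy⟩
    obtain ⟨x, hx⟩ := S3897.cls_surjective P ⟨ConjClasses.mk y, fun z hz => by
      obtain ⟨k, hk⟩ := hpel z (hconj hy hz)
      exact ⟨k, hk⟩⟩
    have hx' : ConjClasses.mk (x : G) = ConjClasses.mk y := congrArg Subtype.val hx
    have hxN : (x : G) ∉ N := hconj hy (by rw [ConjClasses.mem_carrier_iff_mk_eq, hx'])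
    exact ⟨⟨⟨x, hxN⟩, ⟨y, by rw [ConjClasses.mem_carrier_iff_mk_eq, hx']⟩⟩, rfl⟩
  have hcar : ∀ x : Y, Nat.card (ConjClasses.mk (x.1 : G)).carrier = (P : Subgroup G).index := by
    intro x
    have h1 := card_carrier_mul (x.1 : G)
    rw [hcard _ x.2, ← (P : Subgroup G).index_mul_card] at h1
    exact Nat.eq_of_mul_eq_mul_right Nat.card_pos h1
  have hT : Nat.card T = Nat.card Y * (P : Subgroup G).index := by
    letI := Fintype.ofFinite Y
    rw [Nat.card_sigma, Finset.sum_congr rfl (fun x _ => hcar x), Finset.sum_const, smul_eq_mul,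
      Finset.card_univ, Nat.card_eq_fintype_card]
  have hX : Nat.card N + Nat.card X = Nat.card G := card_compl (fun y : G => y ∈ N)
  have hY : Nat.card (N.subgroupOf (P : Subgroup G)) + Nat.card Y = Nat.card (P : Subgroup G) :=
    card_compl (fun x : ↥(P : Subgroup G) => (x : G) ∈ N)
  have hidx : N.index = (N.subgroupOf (P : Subgroup G)).index := by
    have := relIndex_sup_right (P : Subgroup G) N
    rw [hPN, relIndex_top_right] at this
    exact this
  have e1 := N.index_mul_card
  have e2 := (N.subgroupOf (P : Subgroup G)).index_mul_card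
  have e3 := (P : Subgroup G).index_mul_card
  rw [← hidx] at e2
  have hi : 0 < N.index := Nat.pos_of_ne_zero N.index_ne_zero_of_finite
  have hle : Nat.card T ≤ Nat.card X := by
    rw [hT]
    generalize Nat.card Y = cY at *
    generalize Nat.card X = cX at *
    generalize Nat.card N = n at *
    generalize Nat.card (N.subgroupOf (P : Subgroup G)) = b at *
    generalize Nat.card (P : Subgroup G) = a at *
    generalize Nat.card G = g at *
    generalize (P : Subgroup G).index = k at *
    generalize N.index = i at *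
    have h1 : i * n = i * (k * b) := by
      rw [e1, ← e3, ← e2]; ring
    have h2 : n = k * b := Nat.eq_of_mul_eq_mul_left hi h1
    have h3 : n + cY * k = g := by
      rw [h2, ← e3, ← hY]; ring
    omega
  have hbij := hf.bijective_of_nat_card_le hle
  intro x hx hxN u hu
  have hx' : u * x * u⁻¹ ∈ (P : Subgroup G) := mul_mem (mul_mem hu hx) (inv_mem hu)
  have hmem : u * x * u⁻¹ ∈ (ConjClasses.mk x).carrier := by
    rw [ConjClasses.mem_carrier_iff_mk_eq, ConjClasses.mk_eq_mk_iff_isConj]
    exact (isConj_iff.mpr ⟨u, rfl⟩).symm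
  have hx'N : u * x * u⁻¹ ∉ N := hconj hxN hmem
  let t1 : T := ⟨⟨⟨x, hx⟩, hxN⟩, ⟨u * x * u⁻¹, hmem⟩⟩
  let t2 : T := ⟨⟨⟨u * x * u⁻¹, hx'⟩, hx'N⟩, ⟨u * x * u⁻¹, by
    rw [ConjClasses.mem_carrier_iff_mk_eq]⟩⟩
  have : t1 = t2 := hbij.1 rfl
  have h4 := congrArg (fun t : T => (t.1.1 : G)) this
  exact h4.symm

end main

theorem exists_invariant {G : Type*} [Group G] [Finite G] {p q : ℕ} [Fact p.Prime] [Fact q.Prime]
    (P : Subgroup G) (hP : IsPGroup p P) (K : Subgroup G) [K.Normal] (hK : ¬ p ∣ Nat.card K) :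
    ∃ Q' : Sylow q K, ∀ u ∈ P, ∀ y : K, y ∈ Q' → MulAut.conjNormal u y ∈ Q' := by
  letI : MulAction P (Sylow q K) :=
    MulAction.compHom (Sylow q K) ((MulAut.conjNormal (H := K)).comp P.subtype)
  have hnd : ¬ p ∣ Nat.card (Sylow q K) := by
    intro hd
    obtain ⟨Q0⟩ : Nonempty (Sylow q K) := inferInstance
    exact hK ((hd.trans Q0.card_dvd_index).trans (Subgroup.index_dvd_card _))
  obtain ⟨Q', hQ'⟩ := hP.nonempty_fixed_point_of_prime_not_dvd_card (Sylow q K) hnd
  refine ⟨Q', fun u hu y hy => ?_⟩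
  have h1 : (MulAut.conjNormal u : MulAut K) • Q' = Q' := hQ' ⟨u, hu⟩
  have h2 : (MulAut.conjNormal u : MulAut K) • y ∈
      (MulAut.conjNormal u : MulAut K) • (Q' : Subgroup K) :=
    Subgroup.smul_mem_pointwise_smul y _ _ hy
  rw [← Sylow.pointwise_smul_def, h1] at h2
  exact h2

theorem final {G : Type*} [Group G] [Finite G] {p : ℕ} [Fact p.Prime] (P : Sylow p G)
    (hco : IsCoatom (P : Subgroup G))
    (hab : ∀ a ∈ (P : Subgroup G), ∀ b ∈ (P : Subgroup G), a * b = b * a) : Group.IsSolvable G := by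
  have hpp : p.Prime := Fact.out
  have hPsol : Group.IsSolvable (P : Subgroup G) := pgroup_solvable hpp _ P.2
  by_cases hn : (P : Subgroup G).Normal
  · have hidx : (P : Subgroup G).index ≠ 1 := fun h => hco.1 (index_eq_one.mp h)
    obtain ⟨q, hq, hqd⟩ := Nat.exists_prime_and_dvd hidx
    haveI : Fact q.Prime := ⟨hq⟩
    obtain ⟨Q⟩ : Nonempty (Sylow q G) := inferInstance
    have hQne : (Q : Subgroup G) ≠ ⊥ := Q.ne_bot_of_dvd_card (hqd.trans (index_dvd_card _))
    have hQP : ¬ (Q : Subgroup G) ≤ P := by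
      intro hle
      have h1 : IsPGroup p (Q : Subgroup G) := P.2.to_le hle
      have hqp : q ≠ p := fun h => P.not_dvd_index (h ▸ hqd)
      have := (IsPGroup.disjoint_of_ne q p hqp _ _ Q.2 h1)
      exact hQne (disjoint_self.mp this)
    have hsup : (P : Subgroup G) ⊔ Q = ⊤ :=
      hco.2 _ (lt_of_le_of_ne le_sup_left (fun h => hQP (h ▸ le_sup_right)))
    exact solvable_of_sup _ _ hPsol (pgroup_solvable hq _ Q.2) hsup
  · have hnorm : normalizer ((P : Subgroup G) : Set G) = P := by
      by_contra hne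
      have := hco.2 _ (lt_of_le_of_ne le_normalizer (Ne.symm hne))
      exact hn (normalizer_eq_top_iff.mp this)
    have hP : normalizer ((P : Subgroup G) : Set G) ≤ centralizer ((P : Subgroup G) : Set G) := by
      rw [hnorm]
      intro a ha
      rw [mem_centralizer_iff]
      intro b hb
      exact hab b hb a ha
    set K := (MonoidHom.transferSylow P hP).ker with hKdef
    have hK : IsComplement' K P := MonoidHom.ker_transferSylow_isComplement' P hP
    have hKp : ¬ p ∣ Nat.card K := MonoidHom.not_dvd_card_ker_transferSylow P hP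
    have hKcard : Nat.card K ≠ 1 := by
      intro h1
      have := hK.index_eq_card
      rw [h1] at this
      exact hco.1 (index_eq_one.mp this)
    obtain ⟨q, hq, hqd⟩ := Nat.exists_prime_and_dvd hKcard
    haveI : Fact q.Prime := ⟨hq⟩
    obtain ⟨Q', hQ'⟩ := exists_invariant (q := q) (P : Subgroup G) P.2 K hKp
    set Q : Subgroup G := (Q' : Subgroup K).map K.subtype with hQdef
    have hQK : Q ≤ K := map_subtype_le _
    have hQne : Q ≠ ⊥ := by
      intro h
      have := Q'.ne_bot_of_dvd_card hqd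
      apply this
      rwa [hQdef, (Q' : Subgroup K).map_eq_bot_iff_of_injective K.subtype_injective] at h
    have hconj : ∀ u ∈ (P : Subgroup G), ∀ y ∈ Q, u * y * u⁻¹ ∈ Q := by
      rintro u hu y ⟨y', hy', rfl⟩
      exact ⟨_, hQ' u hu y' hy', rfl⟩
    have hPQ : (P : Subgroup G) ≤ normalizer (Q : Set G) := by
      intro u hu
      rw [mem_normalizer_iff]
      intro y
      refine ⟨hconj u hu y, fun hy => ?_⟩
      have := hconj u⁻¹ (inv_mem hu) _ hy
      simpa [mul_assoc] using this
    have hQP : ¬ Q ≤ P := by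
      intro hle
      apply hQne
      exact eq_bot_iff.mpr (fun y hy => hK.disjoint.le_bot ⟨hQK hy, hle hy⟩)
    have hsup : (P : Subgroup G) ⊔ Q = ⊤ :=
      hco.2 _ (lt_of_le_of_ne le_sup_left (fun h => hQP (h ▸ le_sup_right)))
    have hQn : Q.Normal := by
      rw [← normalizer_eq_top_iff, eq_top_iff, ← hsup]
      exact sup_le hPQ le_normalizer
    have hQsol : Group.IsSolvable Q := pgroup_solvable hq _ (Q'.2.map _)
    exact solvable_of_sup Q P hQsol hPsol (by rw [sup_comm]; exact hsup)

/-- Let N be a proper normal subgroup of the finite group G such that every element x of G outside N has prime power order and has centralizer C_G(x) a maximal subgroup of G. Then N is solvable. -/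
theorem result {G : Type*} [Group G] [Finite G] (N : Subgroup G) [N.Normal] (hN : N ≠ ⊤)
    (h : ∀ x : G, x ∉ N → IsPrimePow (orderOf x) ∧ IsCoatom (Subgroup.centralizer ({x} : Set G))) : Group.IsSolvable ↥N := by
  obtain ⟨x0, hx0⟩ : ∃ x0 : G, x0 ∉ N := by
    by_contra hcon
    push Not at hcon
    exact hN (eq_top_iff.mpr (fun x _ => hcon x))
  obtain ⟨p, a, hp, -, hpa⟩ := (isPrimePow_nat_iff _).mp (h x0 hx0).1
  haveI : Fact p.Prime := ⟨hp⟩
  have hM : IsPGroup p (centralizer ({x0} : Set G)) := L1 N h hx0 hp hpa.symm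
  have hMco := (h x0 hx0).2
  by_cases hNM : N ≤ centralizer ({x0} : Set G)
  · exact pgroup_solvable hp N (hM.to_le hNM)
  have hsup : centralizer ({x0} : Set G) ⊔ N = ⊤ :=
    hMco.2 _ (lt_of_le_of_ne le_sup_left (fun h' => hNM (h' ▸ le_sup_right)))
  obtain ⟨P, hP⟩ := hM.exists_le_sylow
  by_cases hPtop : (P : Subgroup G) = ⊤
  · have : Group.IsSolvable (⊤ : Subgroup G) := pgroup_solvable hp _ (hPtop ▸ P.2)
    haveI : Group.IsSolvable G :=
      Group.isSolvable_of_surjective (f := (⊤ : Subgroup G).subtype) (fun g => ⟨⟨g, mem_top g⟩, rfl⟩)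
    infer_instance
  have hPM : centralizer ({x0} : Set G) = P := by
    by_contra hne
    exact hPtop (hMco.2 _ (lt_of_le_of_ne hP hne))
  -- all elements outside N are p-elements
  have hpel : ∀ y : G, y ∉ N → ∃ k : ℕ, orderOf y = p ^ k := by
    intro y hy
    obtain ⟨q, b, hq, -, hqb⟩ := (isPrimePow_nat_iff _).mp (h y hy).1
    by_cases hqp : q = p
    · exact ⟨b, by rw [← hqb, hqp]⟩
    exfalso
    have hy' : y ∈ centralizer ({x0} : Set G) ⊔ N := hsup ▸ mem_top y
    obtain ⟨u, hu, n, hn, rfl⟩ := mem_sup_of_normal_right.mp hy'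
    obtain ⟨k, hk⟩ := hM ⟨u, hu⟩
    have hk' : u ^ p ^ k = 1 := congrArg Subtype.val hk
    have h1 : (u * n) ^ p ^ k ∈ N := by
      rw [← QuotientGroup.eq_one_iff, QuotientGroup.mk_pow, QuotientGroup.mk_mul,
        (QuotientGroup.eq_one_iff n).mpr hn, mul_one, ← QuotientGroup.mk_pow, hk']
      rfl
    obtain ⟨j, hj⟩ := exists_pow_eq_self_of_coprime
      (show Nat.Coprime (p ^ k) (orderOf (u * n)) by
        rw [← hqb]
        exact Nat.Coprime.pow _ _ ((Nat.coprime_primes hp hq).mpr (Ne.symm hqp)))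
    exact hy (hj ▸ N.pow_mem h1 j)
  have hcard : ∀ y : G, y ∉ N →
      Nat.card (centralizer ({y} : Set G)) = Nat.card (P : Subgroup G) := by
    intro y hy
    obtain ⟨k, hk⟩ := hpel y hy
    have hMy : IsPGroup p (centralizer ({y} : Set G)) := L1 N h hy hp hk
    obtain ⟨Q, hQ⟩ := hMy.exists_le_sylow
    have hQtop : (Q : Subgroup G) ≠ ⊤ := by
      intro hQt
      apply hPtop
      apply Subgroup.eq_top_of_card_eq
      rw [Sylow.card_eq_multiplicity, ← Sylow.card_eq_multiplicity Q, hQt, Subgroup.card_top]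
    have : centralizer ({y} : Set G) = Q := by
      by_contra hne
      exact hQtop ((h y hy).2.2 _ (lt_of_le_of_ne hQ hne))
    rw [this, Sylow.card_eq_multiplicity, Sylow.card_eq_multiplicity]
  have hcount := count N P (hPM ▸ hsup) hpel hcard
  have hx0P : x0 ∈ (P : Subgroup G) := by
    rw [← hPM, mem_centralizer_singleton_iff]
  have hx0c : ∀ b ∈ (P : Subgroup G), b * x0 = x0 * b := by
    intro b hb
    rw [← hPM, mem_centralizer_singleton_iff] at hb
    exact hb
  have hab : ∀ a ∈ (P : Subgroup G), ∀ b ∈ (P : Subgroup G), a * b = b * a := by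
    have key : ∀ a ∈ (P : Subgroup G), a ∉ N → ∀ b ∈ (P : Subgroup G), a * b = b * a := by
      intro a ha haN b hb
      have := hcount a ha haN b hb
      rw [mul_inv_eq_iff_eq_mul] at this
      exact this.symm
    intro a ha b hb
    by_cases haN : a ∈ N
    · have h1 : a * x0 ∉ N := fun hh => hx0 (by
        have := N.mul_mem (N.inv_mem haN) hh
        simpa using this)
      have h2 := key (a * x0) (mul_mem ha hx0P) h1 b hb
      have h3 := hx0c b hb
      have : a * b * x0 = b * a * x0 := by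
        calc a * b * x0 = a * (b * x0) := by group
          _ = a * (x0 * b) := by rw [h3]
          _ = a * x0 * b := by group
          _ = b * (a * x0) := h2
          _ = b * a * x0 := by group
      exact mul_right_cancel this
    · exact key a ha haN b hb
  haveI : Group.IsSolvable G := final P (hPM ▸ hMco) hab
  infer_instance

end Cfsg.Agent.S3903
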