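import Cfsg.Statements.S4262
-- import your own Cfsg.Agent.* helpers here

set_option autoImplicit false
open Cfsg

namespace Cfsg.Agent.S4262

open Subgroup

section Basic

variable {G : Type*} [Group G]

/-- centralizer of an element -/
abbrev cen (g : G) : Subgroup G := Subgroup.centralizer ({g} : Set G)

theorem mem_cen {g x : G} : x ∈ cen g ↔ Commute x g := by
  rw [Subgroup.mem_centralizer_singleton_iff]; rfl

theorem self_mem_cen (g : G) : g ∈ cen g := mem_cen.mpr (Commute.refl g)

theorem cen_le_cen_pow (g : G) (n : ℕ) : cen g ≤ cen (g ^ n) := by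
  intro x hx
  rw [mem_cen] at hx ⊢
  exact hx.pow_right n

variable (hC : ∀ g : G, g ≠ 1 → IsCoatom (cen g))
include hC

theorem cen_eq_of_le {g h : G} (hg : g ≠ 1) (hh : h ≠ 1) (hle : cen g ≤ cen h) : cen g = cen h := by
  rcases (hC g hg).le_iff.mp hle with h1 | h1
  · exact absurd h1 (hC h hh).1
  · exact h1.symm

theorem pow_eq_one_of {g h : G} (hg : g ≠ 1) (hh : h ≠ 1) (hcomm : Commute g h)
    (hne : cen g ≠ cen h) (n : ℕ) (hgn : g ^ n = 1) : h ^ n = 1 := by
  by_contra hhn
  have h1 : (g * h) ^ n = h ^ n := by rw [hcomm.mul_pow, hgn, one_mul]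
  have hgh : g * h ≠ 1 := by
    intro h2
    rw [h2, one_pow] at h1
    exact hhn h1.symm
  have h3 : cen (g * h) = cen (h ^ n) := by
    apply cen_eq_of_le hC hgh hhn
    rw [← h1]
    exact cen_le_cen_pow _ _
  have h4 : cen h = cen (h ^ n) := cen_eq_of_le hC hh hhn (cen_le_cen_pow _ _)
  apply hne
  symm
  apply cen_eq_of_le hC hh hg
  intro x hx
  have hx2 : x ∈ cen (g * h) := by rw [h3, ← h4]; exact hx
  rw [mem_cen] at hx hx2 ⊢
  have : g = (g * h) * h⁻¹ := by group
  rw [this]
  exact hx2.mul_right hx.inv_right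

theorem orderOf_eq_of [Finite G] {g h : G} (hg : g ≠ 1) (hh : h ≠ 1) (hcomm : Commute g h)
    (hne : cen g ≠ cen h) : orderOf g = orderOf h := by
  apply Nat.dvd_antisymm
  · exact orderOf_dvd_of_pow_eq_one
      (pow_eq_one_of hC hh hg hcomm.symm hne.symm _ (pow_orderOf_eq_one h))
  · exact orderOf_dvd_of_pow_eq_one
      (pow_eq_one_of hC hg hh hcomm hne _ (pow_orderOf_eq_one g))

theorem prime_orderOf_of [Finite G] {g h : G} (hg : g ≠ 1) (hh : h ≠ 1) (hcomm : Commute g h)
    (hne : cen g ≠ cen h) : (orderOf g).Prime := by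
  have hn1 : orderOf g ≠ 1 := by rwa [Ne, orderOf_eq_one_iff]
  have hn0 : 0 < orderOf g := orderOf_pos g
  have hp : (orderOf g).minFac.Prime := Nat.minFac_prime hn1
  by_contra hnp
  have hlt : (orderOf g).minFac < orderOf g := by
    rcases lt_or_eq_of_le (Nat.minFac_le hn0) with h1 | h1
    · exact h1
    · exact absurd (h1 ▸ hp) hnp
  have hgp : g ^ (orderOf g).minFac ≠ 1 := pow_ne_one_of_lt_orderOf hp.pos.ne' hlt
  have h1 : cen g = cen (g ^ (orderOf g).minFac) := cen_eq_of_le hC hg hgp (cen_le_cen_pow _ _)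
  obtain ⟨k, hk⟩ := Nat.minFac_dvd (orderOf g)
  have h2 : (g ^ (orderOf g).minFac) ^ k = 1 := by
    rw [← pow_mul, ← hk, pow_orderOf_eq_one]
  have h3 : h ^ k = 1 := pow_eq_one_of hC hgp hh (hcomm.pow_left _) (h1 ▸ hne) k h2
  have h4 : orderOf g ∣ k := by
    rw [orderOf_eq_of hC hg hh hcomm hne]
    exact orderOf_dvd_of_pow_eq_one h3
  have hk0 : 0 < k := by
    rcases Nat.eq_zero_or_pos k with h5 | h5
    · rw [h5, mul_zero] at hk; omega
    · exact h5
  have h5 := Nat.le_of_dvd hk0 h4
  have h6 : 2 ≤ (orderOf g).minFac := hp.two_le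
  nlinarith

/-- each centralizer is commutative or has prime exponent -/
theorem comm_or_exp [Finite G] {g : G} (hg : g ≠ 1) :
    (∀ a ∈ cen g, ∀ b ∈ cen g, Commute a b) ∨
      ((orderOf g).Prime ∧ ∀ y ∈ cen g, y ^ orderOf g = 1) := by
  by_cases hcomm : ∀ a ∈ cen g, ∀ b ∈ cen g, Commute a b
  · exact Or.inl hcomm
  · right
    push Not at hcomm
    obtain ⟨a, ha, b, hb, hab⟩ := hcomm
    have ha1 : a ≠ 1 := by
      rintro rfl
      exact hab (Commute.one_left b)
    have hne : cen g ≠ cen a := by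
      intro h
      rw [h] at hb
      exact hab (mem_cen.mp hb).symm
    have hga : Commute g a := (mem_cen.mp ha).symm
    refine ⟨prime_orderOf_of hC hg ha1 hga hne, ?_⟩
    intro y hy
    by_cases hy1 : y = 1
    · rw [hy1, one_pow]
    · by_cases hyg : cen y = cen g
      · have hya : Commute y a := by
          have : a ∈ cen y := hyg ▸ ha
          exact (mem_cen.mp this).symm
        rw [orderOf_eq_of hC hg ha1 hga hne, ← orderOf_eq_of hC hy1 ha1 hya (hyg ▸ hne)]
        exact pow_orderOf_eq_one y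
      · rw [← orderOf_eq_of hC hy1 hg (mem_cen.mp hy) hyg]
        exact pow_orderOf_eq_one y

theorem cen_solvable [Finite G] {g : G} (hg : g ≠ 1) : Group.IsSolvable (cen g) := by
  rcases comm_or_exp hC hg with h | ⟨hp, h⟩
  · apply Group.isSolvable_of_comm
    intro a b
    exact Subtype.ext (h a a.2 b b.2)
  · have : Fact (orderOf g).Prime := ⟨hp⟩
    have hP : IsPGroup (orderOf g) (cen g) := by
      intro y
      refine ⟨1, ?_⟩
      rw [pow_one]
      exact Subtype.ext (h y y.2)
    have := hP.isNilpotent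
    infer_instance

end Basic

theorem solvable_of_normal_coatom {G : Type*} [Group G] (M : Subgroup G) [M.Normal]
    (hM : IsCoatom M) [Group.IsSolvable M] : Group.IsSolvable G := by
  obtain ⟨x, hx⟩ : ∃ x, x ∉ M := by
    by_contra h
    push Not at h
    exact hM.1 (eq_top_iff.mpr fun y _ => h y)
  have htop : M ⊔ zpowers x = ⊤ := by
    apply hM.2
    refine lt_of_le_of_ne le_sup_left ?_
    intro h
    apply hx
    rw [h]
    exact (le_sup_right : zpowers x ≤ M ⊔ zpowers x) (mem_zpowers x)
  have key : ∀ y : G, ∃ k : ℤ, (y : G ⧸ M) = (x : G ⧸ M) ^ k := by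
    intro y
    have hy : y ∈ ((M ⊔ zpowers x : Subgroup G) : Set G) := by rw [htop]; trivial
    rw [Subgroup.normal_mul] at hy
    obtain ⟨m, hm, z, hz, rfl⟩ := hy
    obtain ⟨k, rfl⟩ := mem_zpowers_iff.mp hz
    refine ⟨k, ?_⟩
    rw [QuotientGroup.mk_mul, (QuotientGroup.eq_one_iff m).mpr hm, one_mul, QuotientGroup.mk_zpow]
  have hsol : Group.IsSolvable (G ⧸ M) := by
    apply Group.isSolvable_of_comm
    intro a b
    induction a using QuotientGroup.induction_on with
    | H a =>
    induction b using QuotientGroup.induction_on with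
    | H b =>
    obtain ⟨i, hi⟩ := key a
    obtain ⟨j, hj⟩ := key b
    rw [hi, hj, zpow_mul_comm]
  exact Group.isSolvable_of_ker_le_range M.subtype (QuotientGroup.mk' M) (by simp)

theorem hyp_quotient {G : Type*} [Group G]
    (h : ∀ g : G, g ∉ Subgroup.center G → IsCoatom (cen g)) :
    ∀ g : G ⧸ Subgroup.center G, g ∉ Subgroup.center (G ⧸ Subgroup.center G) →
      IsCoatom (cen g) := by
  intro gb hgb
  induction gb using QuotientGroup.induction_on with
  | H g =>
  have hg : g ∉ center G := by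
    intro hg
    apply hgb
    have : (g : G ⧸ center G) = 1 := (QuotientGroup.eq_one_iff g).mpr hg
    rw [this]; exact one_mem _
  have hco := h g hg
  have hne : cen (g : G ⧸ center G) ≠ ⊤ := by
    intro htop
    apply hgb
    rw [Subgroup.mem_center_iff]
    intro y
    have : y ∈ cen (g : G ⧸ center G) := htop ▸ mem_top y
    exact (mem_cen.mp this)
  have hcomap : (cen (g : G ⧸ center G)).comap (QuotientGroup.mk' (center G)) = cen g := by
    have hle : cen g ≤ (cen (g : G ⧸ center G)).comap (QuotientGroup.mk' (center G)) := by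
      intro x hx
      rw [Subgroup.mem_comap, mem_cen]
      exact (mem_cen.mp hx).map (QuotientGroup.mk' _)
    rcases hco.le_iff.mp hle with h1 | h1
    · exfalso; apply hne
      rw [← Subgroup.comap_top (QuotientGroup.mk' (center G))] at h1
      exact Subgroup.comap_injective (QuotientGroup.mk'_surjective _) h1
    · exact h1
  refine ⟨hne, fun B hB => ?_⟩
  have h2 : cen g < B.comap (QuotientGroup.mk' (center G)) := by
    rw [← hcomap]
    exact (Subgroup.comap_lt_comap_of_surjective (QuotientGroup.mk'_surjective _)).mpr hB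
  have h3 := hco.2 _ h2
  rw [← Subgroup.comap_top (QuotientGroup.mk' (center G))] at h3
  exact Subgroup.comap_injective (QuotientGroup.mk'_surjective _) h3

section CaseA

variable {G : Type*} [Group G] [Finite G]
variable (hC : ∀ g : G, g ≠ 1 → IsCoatom (cen g))
include hC

theorem cen_eq_of_mem {g : G} (hg : g ≠ 1) (hcomm : ∀ a ∈ cen g, ∀ b ∈ cen g, Commute a b)
    {y : G} (hy : y ∈ cen g) (hy1 : y ≠ 1) : cen y = cen g :=
  (cen_eq_of_le hC hg hy1 (fun x hx => mem_cen.mpr (hcomm x hx y hy))).symm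

theorem transfer_key {g : G} (hg : g ≠ 1) (hcomm : ∀ a ∈ cen g, ∀ b ∈ cen g, Commute a b)
    (hnn : normalizer (cen g : Set G) = cen g) {y : G} (hy : y ∈ cen g) (g₀ : G)
    (hz : g₀⁻¹ * y * g₀ ∈ cen g) : g₀⁻¹ * y * g₀ = y := by
  by_cases hy1 : y = 1
  · rw [hy1]; group
  · have hz1 : g₀⁻¹ * y * g₀ ≠ 1 := by
      intro h
      apply hy1
      have : y = g₀ * (g₀⁻¹ * y * g₀) * g₀⁻¹ := by group
      rw [this, h]; group
    have h1 := cen_eq_of_mem hC hg hcomm hy hy1
    have h2 := cen_eq_of_mem hC hg hcomm hz hz1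
    have h3 : g₀ ∈ normalizer (cen g : Set G) := by
      rw [Subgroup.mem_normalizer_iff]
      intro w
      nth_rewrite 1 [← h2]
      rw [← h1, mem_cen, mem_cen, ← Commute.conj_iff g₀]
      have : g₀ * (g₀⁻¹ * y * g₀) * g₀⁻¹ = y := by group
      rw [this]
    rw [hnn] at h3
    have h4 : Commute g₀ y := hcomm _ h3 _ hy
    calc g₀⁻¹ * y * g₀ = g₀⁻¹ * (y * g₀) := by group
      _ = g₀⁻¹ * (g₀ * y) := by rw [h4.eq]
      _ = y := by group

theorem coprime_card_index {g : G} (hg : g ≠ 1) (hcomm : ∀ a ∈ cen g, ∀ b ∈ cen g, Commute a b) :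
    (Nat.card (cen g)).Coprime (cen g).index := by
  apply Nat.coprime_of_dvd
  intro p hp hpM
  have : Fact p.Prime := ⟨hp⟩
  obtain ⟨y, hy⟩ := exists_prime_orderOf_dvd_card' p hpM
  have hyG : orderOf (y : G) = p := by rw [Subgroup.orderOf_coe, hy]
  have hy1 : (y : G) ≠ 1 := by
    intro h
    rw [h, orderOf_one] at hyG
    exact hp.one_lt.ne hyG
  have hPz : IsPGroup p (zpowers (y : G)) := by
    apply IsPGroup.of_card (n := 1)
    rw [Nat.card_zpowers, hyG, pow_one]
  obtain ⟨S, hS⟩ := hPz.exists_le_sylow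
  have hyS : (y : G) ∈ (S : Subgroup G) := hS (mem_zpowers _)
  have : Nontrivial (S : Subgroup G) := ⟨⟨⟨y, hyS⟩, 1, fun h => hy1 (congrArg Subtype.val h)⟩⟩
  have hnt : Nontrivial (Subgroup.center (S : Subgroup G)) := S.2.center_nontrivial
  obtain ⟨z, hz⟩ := exists_ne (1 : Subgroup.center (S : Subgroup G))
  have hz1 : ((z : (S : Subgroup G)) : G) ≠ 1 := by
    intro h
    apply hz
    apply Subtype.ext
    apply Subtype.ext
    exact h
  have hzS : ∀ s ∈ (S : Subgroup G), Commute s ((z : (S : Subgroup G)) : G) := by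
    intro s hs
    have := Subgroup.mem_center_iff.mp z.2 ⟨s, hs⟩
    exact congrArg Subtype.val this
  have hzM : ((z : (S : Subgroup G)) : G) ∈ cen g := by
    rw [← cen_eq_of_mem hC hg hcomm y.2 hy1, mem_cen]
    exact (hzS _ hyS).symm
  have hSM : (S : Subgroup G) ≤ cen g := by
    rw [← cen_eq_of_mem hC hg hcomm hzM hz1]
    intro s hs
    exact mem_cen.mpr (hzS s hs)
  intro hpi
  exact S.not_dvd_index (hpi.trans (Subgroup.index_dvd_of_le hSM))

open scoped IsMulCommutative in
theorem caseA {g : G} (hg : g ≠ 1) (hcomm : ∀ a ∈ cen g, ∀ b ∈ cen g, Commute a b)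
    (hnn : normalizer (cen g : Set G) = cen g) : Group.IsSolvable G := by
  have hMc : IsMulCommutative (cen g) := ⟨⟨fun a b => Subtype.ext (hcomm a a.2 b b.2)⟩⟩
  have hcop := coprime_card_index hC hg hcomm
  have hV : ∀ m : cen g, MonoidHom.transfer (MonoidHom.id (cen g)) (m : G) = m ^ (cen g).index := by
    intro m
    rw [MonoidHom.transfer_eq_pow (MonoidHom.id (cen g)) (m : G) (fun k g₀ hk =>
      transfer_key hC hg hcomm hnn (Subgroup.pow_mem _ m.2 k) g₀ hk)]
    rfl
  have hKM : ∀ m ∈ cen g, m ∈ (MonoidHom.transfer (MonoidHom.id (cen g))).ker → m = 1 := by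
    intro m hm hmK
    rw [MonoidHom.mem_ker, hV ⟨m, hm⟩] at hmK
    have h1 : orderOf (⟨m, hm⟩ : cen g) ∣ (cen g).index := orderOf_dvd_of_pow_eq_one hmK
    have h2 : orderOf (⟨m, hm⟩ : cen g) ∣ Nat.card (cen g) := orderOf_dvd_natCard _
    have h3 : orderOf (⟨m, hm⟩ : cen g) = 1 := Nat.eq_one_of_dvd_coprimes hcop h2 h1
    rw [orderOf_eq_one_iff] at h3
    exact congrArg Subtype.val h3
  have hsolM : Group.IsSolvable (cen g) := cen_solvable hC hg
  by_cases hK : (MonoidHom.transfer (MonoidHom.id (cen g))).ker = ⊥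
  · exact Group.isSolvable_of_isSolvable_injective
      ((MonoidHom.ker_eq_bot_iff _).mp hK)
  · obtain ⟨⟨k, hkK⟩, hk1'⟩ := Subgroup.ne_bot_iff_exists_ne_one.mp hK
    have hk1 : k ≠ 1 := fun h => hk1' (Subtype.ext h)
    have hL : cen k ≤ (MonoidHom.transfer (MonoidHom.id (cen g))).ker := by
      intro c hc
      by_contra hcK
      obtain ⟨m', hm'⟩ := (powCoprime hcop).surjective
        (MonoidHom.transfer (MonoidHom.id (cen g)) c)
      rw [powCoprime_apply, ← hV m'] at hm'
      have hm'1 : (m' : G) ≠ 1 := by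
        intro h
        rw [h, map_one] at hm'
        exact hcK (MonoidHom.mem_ker.mpr hm'.symm)
      have hfmem : ∀ u : G, u * m' * u⁻¹ * (m' : G)⁻¹ ∈
          (MonoidHom.transfer (MonoidHom.id (cen g))).ker := by
        intro u
        rw [MonoidHom.mem_ker, map_mul, map_mul, map_mul, map_inv, map_inv]
        rw [mul_comm (MonoidHom.transfer (MonoidHom.id (cen g)) u), mul_assoc, mul_assoc]
        simp
      have hinj : Function.Injective (fun u : (MonoidHom.transfer (MonoidHom.id (cen g))).ker =>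
          (⟨(u : G) * m' * (u : G)⁻¹ * (m' : G)⁻¹, hfmem u⟩ :
            (MonoidHom.transfer (MonoidHom.id (cen g))).ker)) := by
        intro u w huw
        have h1 : (u : G) * m' * (u : G)⁻¹ * (m' : G)⁻¹ = (w : G) * m' * (w : G)⁻¹ * (m' : G)⁻¹ :=
          congrArg Subtype.val huw
        have h2 : (u : G) * m' * (u : G)⁻¹ = (w : G) * m' * (w : G)⁻¹ := mul_right_cancel h1
        have h3 : (w : G)⁻¹ * u ∈ cen (m' : G) := by
          rw [mem_cen]
          show (w : G)⁻¹ * u * m' = m' * ((w : G)⁻¹ * u)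
          calc (w : G)⁻¹ * u * m' = (w : G)⁻¹ * ((u : G) * m' * (u : G)⁻¹) * u := by group
            _ = (w : G)⁻¹ * ((w : G) * m' * (w : G)⁻¹) * u := by rw [h2]
            _ = m' * ((w : G)⁻¹ * u) := by group
        rw [cen_eq_of_mem hC hg hcomm m'.2 hm'1] at h3
        have h4 := hKM _ h3 (Subgroup.mul_mem _ (Subgroup.inv_mem _ w.2) u.2)
        apply Subtype.ext
        exact (inv_mul_eq_one.mp h4).symm
      have hsurj := Finite.injective_iff_surjective.mp hinj
      have hk' : c * (m' : G)⁻¹ ∈ (MonoidHom.transfer (MonoidHom.id (cen g))).ker := by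
        rw [MonoidHom.mem_ker, map_mul, map_inv, hm', mul_inv_cancel]
      obtain ⟨u, hu⟩ := hsurj ⟨c * (m' : G)⁻¹, hk'⟩
      have hu1 : (u : G) * m' * (u : G)⁻¹ * (m' : G)⁻¹ = c * (m' : G)⁻¹ := congrArg Subtype.val hu
      have hu2 : (u : G) * m' * (u : G)⁻¹ = c := mul_right_cancel hu1
      have h5 : (u : G)⁻¹ * k * u ∈ cen (m' : G) := by
        rw [mem_cen, ← Commute.conj_iff (u : G), hu2]
        have : (u : G) * ((u : G)⁻¹ * k * u) * (u : G)⁻¹ = k := by group
        rw [this]
        exact (mem_cen.mp hc).symm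
      rw [cen_eq_of_mem hC hg hcomm m'.2 hm'1] at h5
      have h6 : (u : G)⁻¹ * k * u ∈ (MonoidHom.transfer (MonoidHom.id (cen g))).ker := by
        have := (MonoidHom.normal_ker (MonoidHom.transfer (MonoidHom.id (cen g)))).conj_mem k hkK
          (u : G)⁻¹
        simpa using this
      have h7 := hKM _ h5 h6
      apply hk1
      have : k = (u : G) * ((u : G)⁻¹ * k * u) * (u : G)⁻¹ := by group
      rw [this, h7]; group
    have hKtop : (MonoidHom.transfer (MonoidHom.id (cen g))).ker ≠ ⊤ := by
      intro h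
      exact hg (hKM g (self_mem_cen g) (h ▸ mem_top g))
    have hKeq : (MonoidHom.transfer (MonoidHom.id (cen g))).ker = cen k := by
      rcases (hC k hk1).le_iff.mp hL with h | h
      · exact absurd h hKtop
      · exact h
    have hsolK : Group.IsSolvable (MonoidHom.transfer (MonoidHom.id (cen g))).ker := by
      rw [hKeq]
      exact cen_solvable hC hk1
    exact Group.isSolvable_of_ker_le_range
      (MonoidHom.transfer (MonoidHom.id (cen g))).ker.subtype
      (MonoidHom.transfer (MonoidHom.id (cen g))) (by simp)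

end CaseA

theorem sq_mul_card_center_le {P : Type*} [Group P] [Finite P] {p : ℕ} [hp : Fact p.Prime]
    (hP : IsPGroup p P) (hnc : ¬ ∀ a b : P, a * b = b * a) :
    p ^ 2 * Nat.card (center P) ≤ Nat.card P := by
  obtain ⟨k, hk⟩ := hP.index (center P)
  have hcard : Nat.card (center P) * (center P).index = Nat.card P := Subgroup.card_mul_index _
  have hk2 : 2 ≤ k := by
    by_contra hlt
    apply hnc
    have hcyc : IsCyclic (P ⧸ center P) := by
      have hk01 : k = 0 ∨ k = 1 := by omega
      rcases hk01 with rfl | rfl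
      · have h1 : Nat.card (P ⧸ center P) = 1 := by rw [← Subgroup.index, hk, pow_zero]
        have : Subsingleton (P ⧸ center P) := (Nat.card_eq_one_iff_unique.mp h1).1
        infer_instance
      · have h1 : Nat.card (P ⧸ center P) = p := by rw [← Subgroup.index, hk, pow_one]
        exact isCyclic_of_prime_card h1
    have := MonoidHom.isMulCommutative_of_isCyclic_of_ker_le_center
      (QuotientGroup.mk' (center P)) (by simp)
    exact fun a b => mul_comm' a b
  rw [← hcard, hk, mul_comm]
  exact Nat.mul_le_mul_left _ (Nat.pow_le_pow_right hp.out.pos hk2)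

section CaseB

variable {G : Type*} [Group G] [Finite G]
variable (hC : ∀ g : G, g ≠ 1 → IsCoatom (cen g))
variable (hB : ∀ g : G, g ≠ 1 → ¬ (∀ a ∈ cen g, ∀ b ∈ cen g, Commute a b))

include hC hB

theorem prime_order {g : G} (hg : g ≠ 1) : (orderOf g).Prime :=
  ((comm_or_exp hC hg).resolve_left (hB g hg)).1

theorem exp_cen {g : G} (hg : g ≠ 1) : ∀ y ∈ cen g, y ^ orderOf g = 1 :=
  ((comm_or_exp hC hg).resolve_left (hB g hg)).2

theorem isPGroup_cen {p : ℕ} {g : G} (hg : g ≠ 1) (hgp : orderOf g = p) : IsPGroup p (cen g) := by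
  intro y
  refine ⟨1, ?_⟩
  rw [pow_one, ← hgp]
  exact Subtype.ext (exp_cen hC hB hg y y.2)

theorem cen_maximal {p : ℕ} [Fact p.Prime] {g : G} (hg : g ≠ 1) {Q : Subgroup G}
    (hQ : IsPGroup p Q) (hle : cen g ≤ Q) : Q = cen g := by
  rcases (hC g hg).le_iff.mp hle with h | h
  · exfalso
    subst h
    have hG : IsPGroup p G := hQ.of_equiv Subgroup.topEquiv
    have : Nontrivial G := ⟨⟨g, 1, hg⟩⟩
    have hnt : Nontrivial (center G) := hG.center_nontrivial
    obtain ⟨z, hz⟩ := exists_ne (1 : center G)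
    have hz1 : (z : G) ≠ 1 := fun h => hz (Subtype.ext h)
    apply (hC z hz1).1
    rw [eq_top_iff]
    intro x _
    rw [mem_cen]
    exact Subgroup.mem_center_iff.mp z.2 x
  · exact h

/-- `cen g` as a Sylow subgroup -/
def cenSylow {p : ℕ} [Fact p.Prime] (g : G) (hg : g ≠ 1) (hgp : orderOf g = p) : Sylow p G where
  toSubgroup := cen g
  isPGroup' := isPGroup_cen hC hB hg hgp
  is_maximal' := fun hQ hle => cen_maximal hC hB hg hQ hle

open Classical in
theorem card_fiber_bound {p : ℕ} [Fact p.Prime] [Fintype G] (g₁ : G) (hg₁ : g₁ ≠ 1)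
    (hp : orderOf g₁ = p) :
    p ^ 2 * (Finset.univ.filter (fun g : G => orderOf g = p ∧ cen g = cen g₁)).card + p ^ 2
      ≤ Nat.card (cen g₁) := by
  have h1 : p ^ 2 * Nat.card (center (cen g₁)) ≤ Nat.card (cen g₁) := by
    apply sq_mul_card_center_le (isPGroup_cen hC hB hg₁ hp)
    intro h
    apply hB g₁ hg₁
    intro a ha b hb
    exact congrArg Subtype.val (h ⟨a, ha⟩ ⟨b, hb⟩)
  have hmem : ∀ x : G, (x = 1 ∨ cen x = cen g₁) →
      ∃ h : x ∈ cen g₁, (⟨x, h⟩ : cen g₁) ∈ center (cen g₁) := by
    rintro x (rfl | hx)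
    · exact ⟨one_mem _, one_mem _⟩
    · refine ⟨hx ▸ self_mem_cen x, ?_⟩
      rw [Subgroup.mem_center_iff]
      intro w
      apply Subtype.ext
      have hw : (w : G) ∈ cen x := by rw [hx]; exact w.2
      exact mem_cen.mp hw
  have h2 : (insert 1 (Finset.univ.filter
      (fun g : G => orderOf g = p ∧ cen g = cen g₁))).card ≤ Nat.card (center (cen g₁)) := by
    rw [← Fintype.card_coe, ← Nat.card_eq_fintype_card]
    have hx : ∀ x : ↥(insert 1 (Finset.univ.filter
      (fun g : G => orderOf g = p ∧ cen g = cen g₁))), ((x : G) = 1 ∨ cen (x : G) = cen g₁) := by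
      intro x
      have := x.2
      rw [Finset.mem_insert, Finset.mem_filter] at this
      exact this.imp id (fun h => h.2.2)
    apply Nat.card_le_card_of_injective
      (fun x : ↥(insert 1 (Finset.univ.filter
      (fun g : G => orderOf g = p ∧ cen g = cen g₁))) =>
        (⟨⟨(x : G), (hmem x (hx x)).choose⟩, (hmem x (hx x)).choose_spec⟩ :
        center (cen g₁)))
    intro x y hxy
    apply Subtype.ext
    exact congrArg (fun z : center (cen g₁) => ((z : cen g₁) : G)) hxy
  rw [Finset.card_insert_of_notMem] at h2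
  · nlinarith
  · rw [Finset.mem_filter]
    rintro ⟨-, h3, -⟩
    rw [orderOf_one] at h3
    exact (Fact.out : p.Prime).one_lt.ne h3

variable (hnn : ∀ g : G, g ≠ 1 → normalizer (cen g : Set G) = cen g)
include hnn

open Classical in
theorem card_Ep_bound {p : ℕ} [hpf : Fact p.Prime] [Fintype G] :
    p ^ 2 * (Finset.univ.filter (fun g : G => orderOf g = p)).card + 1 ≤ Nat.card G := by
  rcases (Finset.univ.filter (fun g : G => orderOf g = p)).eq_empty_or_nonempty with h0 | ⟨g₀, hg₀⟩
  · rw [h0, Finset.card_empty, mul_zero, zero_add]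
    exact Nat.card_pos
  · have hord : ∀ g ∈ Finset.univ.filter (fun g : G => orderOf g = p), orderOf g = p :=
      fun g hg => (Finset.mem_filter.mp hg).2
    have hne1 : ∀ g ∈ Finset.univ.filter (fun g : G => orderOf g = p), g ≠ 1 := by
      intro g hg h
      have := hord g hg
      rw [h, orderOf_one] at this
      exact hpf.out.one_lt.ne this
    have hcard : ∀ g ∈ Finset.univ.filter (fun g : G => orderOf g = p),
        Nat.card (cen g) = Nat.card (cen g₀) := by
      intro g hg
      have h1 := (cenSylow hC hB g (hne1 g hg) (hord g hg)).card_eq_multiplicity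
      have h2 := (cenSylow hC hB g₀ (hne1 g₀ hg₀) (hord g₀ hg₀)).card_eq_multiplicity
      exact h1.trans h2.symm
    have hnp : Nat.card (Sylow p G) = (cen g₀).index := by
      rw [(cenSylow hC hB g₀ (hne1 g₀ hg₀) (hord g₀ hg₀)).card_eq_index_normalizer]
      show (normalizer (cen g₀ : Set G)).index = _
      rw [hnn g₀ (hne1 g₀ hg₀)]
    have himg : ((Finset.univ.filter (fun g : G => orderOf g = p)).image cen).card
        ≤ Nat.card (Sylow p G) := by
      have : Fintype (Sylow p G) := Fintype.ofFinite _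
      rw [Nat.card_eq_fintype_card, ← Finset.card_univ]
      calc ((Finset.univ.filter (fun g : G => orderOf g = p)).image cen).card
          ≤ ((Finset.univ : Finset (Sylow p G)).image Sylow.toSubgroup).card := by
            apply Finset.card_le_card
            intro Q hQ
            obtain ⟨g, hg, rfl⟩ := Finset.mem_image.mp hQ
            exact Finset.mem_image.mpr
              ⟨cenSylow hC hB g (hne1 g hg) (hord g hg), Finset.mem_univ _, rfl⟩
        _ ≤ _ := Finset.card_image_le
    have hsum := Finset.card_eq_sum_card_image cen (Finset.univ.filter (fun g : G => orderOf g = p))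
    have hfib : ∀ b ∈ (Finset.univ.filter (fun g : G => orderOf g = p)).image cen,
        p ^ 2 * ((Finset.univ.filter (fun g : G => orderOf g = p)).filter
          (fun g => cen g = b)).card + 1 ≤ Nat.card (cen g₀) := by
      intro b hb
      obtain ⟨g₁, hg₁, rfl⟩ := Finset.mem_image.mp hb
      have h1 := card_fiber_bound hC hB g₁ (hne1 g₁ hg₁) (hord g₁ hg₁)
      rw [hcard g₁ hg₁] at h1
      rw [Finset.filter_filter]
      have h2 : 1 ≤ p ^ 2 := Nat.one_le_pow _ _ hpf.out.pos
      omega
    have h3 := Finset.sum_le_sum hfib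
    rw [Finset.sum_add_distrib, ← Finset.mul_sum, ← hsum, Finset.sum_const, Finset.sum_const,
      smul_eq_mul, smul_eq_mul, mul_one] at h3
    have h4 : 1 ≤ ((Finset.univ.filter (fun g : G => orderOf g = p)).image cen).card :=
      Finset.card_pos.mpr ⟨cen g₀, Finset.mem_image_of_mem _ hg₀⟩
    have h5 : ((Finset.univ.filter (fun g : G => orderOf g = p)).image cen).card *
        Nat.card (cen g₀) ≤ Nat.card G := by
      rw [← Subgroup.card_mul_index (cen g₀), mul_comm]
      exact Nat.mul_le_mul_left _ (himg.trans hnp.le)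
    omega

theorem caseB [Nontrivial G] : False := by
  classical
  have : Fintype G := Fintype.ofFinite G
  have hN2 : 2 ≤ Nat.card G := Finite.one_lt_card
  have hsum : (Finset.univ.erase (1 : G)).card = ∑ p ∈ (Nat.card G).primeFactors,
      ((Finset.univ.erase (1 : G)).filter (fun g => orderOf g = p)).card := by
    apply Finset.card_eq_sum_card_fiberwise
    intro g hg
    have hg1 : g ≠ 1 := Finset.ne_of_mem_erase hg
    rw [Finset.mem_coe, Nat.mem_primeFactors]
    exact ⟨prime_order hC hB hg1, orderOf_dvd_natCard g, by omega⟩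
  have hcardE : (Finset.univ.erase (1 : G)).card = Nat.card G - 1 := by
    rw [Finset.card_erase_of_mem (Finset.mem_univ _), Finset.card_univ, Nat.card_eq_fintype_card]
  have hbound : ∀ p ∈ (Nat.card G).primeFactors,
      (((Finset.univ.erase (1 : G)).filter (fun g => orderOf g = p)).card : ℝ)
        ≤ ((Nat.card G : ℝ) - 1) * ((p : ℝ) ^ 2)⁻¹ := by
    intro p hp
    have hpp : p.Prime := Nat.prime_of_mem_primeFactors hp
    have : Fact p.Prime := ⟨hpp⟩
    have h1 := card_Ep_bound hC hB hnn (p := p)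
    have h2 : ((Finset.univ.erase (1 : G)).filter (fun g => orderOf g = p)).card
        ≤ (Finset.univ.filter (fun g : G => orderOf g = p)).card :=
      Finset.card_le_card (Finset.filter_subset_filter _ (Finset.erase_subset _ _))
    have h3 : p ^ 2 * ((Finset.univ.erase (1 : G)).filter (fun g => orderOf g = p)).card + 1
        ≤ Nat.card G := by nlinarith
    have h4 : ((p : ℝ) ^ 2) * (((Finset.univ.erase (1 : G)).filter
        (fun g => orderOf g = p)).card : ℝ) + 1 ≤ (Nat.card G : ℝ) := by exact_mod_cast h3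
    have hp0 : (0 : ℝ) < (p : ℝ) ^ 2 := by
      have : (0 : ℝ) < p := by exact_mod_cast hpp.pos
      positivity
    rw [← div_eq_mul_inv, le_div_iff₀ hp0]
    linarith
  have hS : ∑ p ∈ (Nat.card G).primeFactors, ((p : ℝ) ^ 2)⁻¹ ≤ 1 - (Nat.card G : ℝ)⁻¹ := by
    calc ∑ p ∈ (Nat.card G).primeFactors, ((p : ℝ) ^ 2)⁻¹
        ≤ ∑ i ∈ Finset.Ioc 1 (Nat.card G), ((i : ℝ) ^ 2)⁻¹ := by
          apply Finset.sum_le_sum_of_subset_of_nonneg
          · intro p hp
            rw [Finset.mem_Ioc]
            exact ⟨(Nat.prime_of_mem_primeFactors hp).one_lt,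
              Nat.le_of_dvd (by omega) (Nat.dvd_of_mem_primeFactors hp)⟩
          · intros
            positivity
      _ ≤ ((1 : ℕ) : ℝ)⁻¹ - (Nat.card G : ℝ)⁻¹ := sum_Ioc_inv_sq_le_sub one_ne_zero (by omega)
      _ = _ := by simp
  have hNr : (2 : ℝ) ≤ (Nat.card G : ℝ) := by exact_mod_cast hN2
  have hfin : ((Nat.card G : ℝ) - 1) ≤ ((Nat.card G : ℝ) - 1) * (1 - (Nat.card G : ℝ)⁻¹) := by
    calc ((Nat.card G : ℝ) - 1) = ((Finset.univ.erase (1 : G)).card : ℝ) := by
          rw [hcardE, Nat.cast_sub (by omega)]; simp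
      _ = ∑ p ∈ (Nat.card G).primeFactors,
          (((Finset.univ.erase (1 : G)).filter (fun g => orderOf g = p)).card : ℝ) := by
          rw [hsum]; push_cast; rfl
      _ ≤ ∑ p ∈ (Nat.card G).primeFactors, ((Nat.card G : ℝ) - 1) * ((p : ℝ) ^ 2)⁻¹ :=
          Finset.sum_le_sum hbound
      _ = ((Nat.card G : ℝ) - 1) * ∑ p ∈ (Nat.card G).primeFactors, ((p : ℝ) ^ 2)⁻¹ := by
          rw [Finset.mul_sum]
      _ ≤ _ := by
          apply mul_le_mul_of_nonneg_left hS
          linarith
  have hinv : (0 : ℝ) < (Nat.card G : ℝ)⁻¹ := by positivity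
  nlinarith

end CaseB

theorem core {G : Type*} [Group G] [Finite G] (hC : ∀ g : G, g ≠ 1 → IsCoatom (cen g)) :
    Group.IsSolvable G := by
  by_cases hnt : Nontrivial G
  swap
  · have : Subsingleton G := not_nontrivial_iff_subsingleton.mp hnt
    infer_instance
  by_cases hN : ∃ g : G, g ≠ 1 ∧ (cen g).Normal
  · obtain ⟨g, hg, hn⟩ := hN
    have := cen_solvable hC hg
    exact solvable_of_normal_coatom (cen g) (hC g hg)
  · have hnn : ∀ g : G, g ≠ 1 → normalizer (cen g : Set G) = cen g := by
      intro g hg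
      rcases (hC g hg).le_iff.mp le_normalizer with h | h
      · exact absurd ⟨g, hg, normalizer_eq_top_iff.mp h⟩ hN
      · exact h
    by_cases hA : ∃ g : G, g ≠ 1 ∧ ∀ a ∈ cen g, ∀ b ∈ cen g, Commute a b
    · obtain ⟨g, hg, hcomm⟩ := hA
      exact caseA hC hg hcomm (hnn g hg)
    · exact (caseB hC (fun g hg h => hA ⟨g, hg, h⟩) hnn).elim

theorem main.{u} : ∀ (n : ℕ) (G : Type u) [Group G] [Finite G], Nat.card G = n →
    (∀ g : G, g ∉ Subgroup.center G → IsCoatom (cen g)) → Group.IsSolvable G := by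
  intro n
  induction n using Nat.strong_induction_on with
  | _ n ih =>
    intro G _ _ hn h
    by_cases hZ : center G = ⊥
    · apply core
      intro g hg
      apply h
      rw [hZ, Subgroup.mem_bot]
      exact hg
    · have hlt : Nat.card (G ⧸ center G) < n := by
        rw [← hn, Subgroup.card_eq_card_quotient_mul_card_subgroup (center G)]
        have h1 : 1 < Nat.card (center G) := (Subgroup.one_lt_card_iff_ne_bot _).mpr hZ
        have h2 : 0 < Nat.card (G ⧸ center G) := Nat.card_pos
        nlinarith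
      have hsol := ih _ hlt (G ⧸ center G) rfl (hyp_quotient h)
      have hsolZ : Group.IsSolvable (center G) :=
        Group.isSolvable_of_comm (fun a b => mul_comm' a b)
      exact Group.isSolvable_of_ker_le_range (center G).subtype (QuotientGroup.mk' (center G))
        (by simp)

/-- Let G be a finite group in which the centralizer of every non-central element is a maximal subgroup of G. Then G is solvable. -/
theorem result {G : Type*} [Group G] [Finite G]
    (h : ∀ g : G, g ∉ Subgroup.center G → IsCoatom (Subgroup.centralizer ({g} : Set G))) :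
    Group.IsSolvable G :=
  main _ G rfl h

end Cfsg.Agent.S4262
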