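import Cfsg.Statements.S3904
import Cfsg.Agent.S4262
import Cfsg.Agent.Lib.Helper11Wielandt

set_option autoImplicit false
open Cfsg

namespace Cfsg.Agent.S3904

open Subgroup
open scoped commutatorElement
open Cfsg.Agent.S4262 (cen mem_cen self_mem_cen cen_eq_of_le orderOf_eq_of comm_or_exp hyp_quotient core)
open Cfsg.Agent.Lib.Helper11Wielandt (index_prime_of_normal_coatom)

/-- Dedekind-type lemma -/
theorem le_of_coatom {H : Type*} [Group H] {C K M : Subgroup H} (hC : IsCoatom C) [K.Normal]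
    (hKM : K ≤ M) (hK : K ≠ ⊥) (hMC : M ⊓ C = ⊥) : M ≤ K := by
  have hKC : ¬ K ≤ C := by
    intro h
    apply hK
    rw [eq_bot_iff, ← hMC]
    exact le_inf hKM h
  have htop : K ⊔ C = ⊤ := by
    apply hC.2
    exact lt_of_le_of_ne le_sup_right (fun h => hKC (h ▸ le_sup_left))
  intro m hm
  have hm' : m ∈ K ⊔ C := htop ▸ mem_top m
  rw [mem_sup_of_normal_left] at hm'
  obtain ⟨k, hk, c, hc, rfl⟩ := hm'
  have hcM : c ∈ M := by
    have := M.mul_mem (M.inv_mem (hKM hk)) hm
    simpa using this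
  have : c ∈ M ⊓ C := ⟨hcM, hc⟩
  rw [hMC, mem_bot] at this
  rw [this, mul_one]; exact hk

theorem exists_abelian_normal {H : Type*} [Group H] [Nontrivial H] (hs : Group.IsSolvable H) :
    ∃ K : Subgroup H, K.Normal ∧ K ≠ ⊥ ∧ ∀ a ∈ K, ∀ b ∈ K, Commute a b := by
  obtain ⟨n, hn⟩ := hs.solvable
  induction n with
  | zero => exact absurd hn (by rw [derivedSeries_zero]; exact top_ne_bot)
  | succ n ih =>
    by_cases h : derivedSeries H n = ⊥
    · exact ih h
    · refine ⟨derivedSeries H n, inferInstance, h, ?_⟩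
      intro a ha b hb
      have : ⁅a, b⁆ ∈ derivedSeries H (n+1) := by
        rw [derivedSeries_succ]; exact commutator_mem_commutator ha hb
      rw [hn, mem_bot, commutatorElement_eq_one_iff_commute] at this
      exact this

/-- the `p`-torsion of a commutative subgroup -/
def tors {H : Type*} [Group H] (M : Subgroup H) (hM : ∀ a ∈ M, ∀ b ∈ M, Commute a b) (p : ℕ) :
    Subgroup H where
  carrier := {m | m ∈ M ∧ m ^ p = 1}
  mul_mem' := fun {a b} ha hb =>
    ⟨M.mul_mem ha.1 hb.1, by rw [(hM _ ha.1 _ hb.1).mul_pow, ha.2, hb.2, one_mul]⟩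
  one_mem' := ⟨M.one_mem, one_pow _⟩
  inv_mem' := fun {a} ha => ⟨M.inv_mem ha.1, by rw [inv_pow, ha.2, inv_one]⟩

theorem mem_tors {H : Type*} [Group H] {M : Subgroup H} {hM : ∀ a ∈ M, ∀ b ∈ M, Commute a b}
    {p : ℕ} {x : H} : x ∈ tors M hM p ↔ x ∈ M ∧ x ^ p = 1 := Iff.rfl

theorem tors_normal {H : Type*} [Group H] (M : Subgroup H) [hn : M.Normal]
    (hM : ∀ a ∈ M, ∀ b ∈ M, Commute a b) (p : ℕ) : (tors M hM p).Normal := by
  constructor
  intro n hn' g
  rw [mem_tors] at hn' ⊢
  exact ⟨hn.conj_mem n hn'.1 g, by rw [conj_pow, hn'.2, mul_one, mul_inv_cancel]⟩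

theorem comm_mem_iff {G : Type*} [Group G] (N : Subgroup G) [N.Normal] (x y : G) :
    x * y * x⁻¹ * y⁻¹ ∈ N ↔ Commute (x : G ⧸ N) (y : G ⧸ N) := by
  rw [← commutatorElement_eq_one_iff_commute, commutatorElement_def, ← QuotientGroup.eq_one_iff]
  simp only [QuotientGroup.mk_mul, QuotientGroup.mk_inv]

theorem comm_mem_of_prime_index {H : Type*} [Group H] (M : Subgroup H) [M.Normal]
    (hq : M.index.Prime) (x y : H) : x * y * x⁻¹ * y⁻¹ ∈ M := by
  have : Fact M.index.Prime := ⟨hq⟩
  have : IsCyclic (H ⧸ M) := isCyclic_of_prime_card (p := M.index) (by rw [index_eq_card])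
  rw [comm_mem_iff]
  exact IsMulCommutative.is_comm.comm _ _

theorem eq_top_of_compl_le {G : Type*} [Group G] {M W : Subgroup G} (hM : M ≠ ⊤)
    (h : ∀ y, y ∉ M → y ∈ W) : W = ⊤ := by
  obtain ⟨t, ht⟩ : ∃ t, t ∉ M := by
    by_contra h'
    push Not at h'
    exact hM (eq_top_iff.2 fun x _ => h' x)
  rw [eq_top_iff]
  intro y _
  by_cases hy : y ∈ M
  · have h1 : t * y ∉ M := fun h2 => ht (by simpa using M.mul_mem h2 (M.inv_mem hy))
    have := W.mul_mem (W.inv_mem (h t ht)) (h _ h1)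
    simpa using this
  · exact h y hy

theorem conj_pow_of_central {G : Type*} [Group G] {x y z : G} (hz : z ∈ center G)
    (h : x * y * x⁻¹ = z * y) (k : ℕ) : x * y ^ k * x⁻¹ = z ^ k * y ^ k := by
  have hc : Commute z y := (mem_center_iff.1 hz y).symm
  rw [← conj_pow, h, hc.mul_pow]

section PartA

variable {H : Type*} [Group H] [Finite H]
variable (hC : ∀ g : H, g ≠ 1 → IsCoatom (cen g))
include hC

theorem eq_one_of_central {z : H} (hz : ∀ y, Commute y z) : z = 1 := by
  by_contra h1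
  apply (hC z h1).1
  rw [eq_top_iff]
  intro y _
  exact mem_cen.mpr (hz y)

theorem not_isPGroup [Nontrivial H] (p : ℕ) [Fact p.Prime] : ¬ IsPGroup p H := by
  intro hp
  have hnt : Nontrivial (center H) := hp.center_nontrivial
  obtain ⟨z, hz⟩ := exists_ne (1 : center H)
  apply hz
  apply Subtype.ext
  exact eq_one_of_central hC (fun y => mem_center_iff.1 z.2 y)

theorem cen_le_of_exp [Nontrivial H] {a : H} {p : ℕ} (hp : p.Prime)
    (hexp : ∀ y ∈ cen a, y ^ p = 1)
    {K : Subgroup H} [K.Normal] (hK : K ≠ ⊥) (hKM : K ≤ cen a) : cen a ≤ K := by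
  have : Fact p.Prime := ⟨hp⟩
  have hnp : ¬ IsPGroup p H := not_isPGroup hC p
  obtain ⟨r, hr, hrd, hrp⟩ : ∃ r : ℕ, r.Prime ∧ r ∣ Nat.card H ∧ r ≠ p := by
    by_contra hcon
    push Not at hcon
    apply hnp
    exact IsPGroup.of_card (Nat.eq_prime_pow_of_unique_prime_dvd Nat.card_pos.ne'
      (fun {d} hd hdd => hcon d hd hdd))
  have : Fact r.Prime := ⟨hr⟩
  obtain ⟨y, hy⟩ := exists_prime_orderOf_dvd_card' r hrd
  have hy1 : y ≠ 1 := by
    rintro rfl
    rw [orderOf_one] at hy
    exact hr.one_lt.ne hy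
  have hdisj : cen a ⊓ cen y = ⊥ := by
    rw [eq_bot_iff]
    rintro w ⟨hwa, hwy⟩
    rw [mem_bot]
    by_contra hw1
    have hwp : orderOf w = p := orderOf_eq_prime (hexp w hwa) hw1
    have hcomm : Commute w y := mem_cen.mp hwy
    have hceq : cen w = cen y := by
      by_contra hne
      have := orderOf_eq_of hC hw1 hy1 hcomm hne
      rw [hwp, hy] at this
      exact hrp this.symm
    have h1 : a ∈ cen w := mem_cen.mpr (mem_cen.mp hwa).symm
    rw [hceq] at h1
    have h2 : y ∈ cen a := mem_cen.mpr (mem_cen.mp h1).symm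
    have h3 := orderOf_dvd_of_pow_eq_one (hexp y h2)
    rw [hy] at h3
    exact hrp ((Nat.prime_dvd_prime_iff_eq hr hp).1 h3)
  exact le_of_coatom (hC y hy1) hKM hK hdisj

theorem partA [Nontrivial H] :
    ¬ IsMulCommutative H ∧ (∀ L : Subgroup H, L ≠ ⊤ → IsMulCommutative ↥L) ∧
    ∃ p q a : ℕ, p.Prime ∧ q.Prime ∧ p ≠ q ∧ Nat.card H = p ^ a * q ∧
      ∀ P : Subgroup H, Nat.card ↥P = p ^ a → P.Normal := by
  have hsol := core hC
  obtain ⟨K, hKn, hK, hKc⟩ := exists_abelian_normal hsol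
  obtain ⟨a, haK, ha1⟩ : ∃ a ∈ K, a ≠ 1 := by
    by_contra h
    push Not at h
    exact hK ((eq_bot_iff_forall K).2 h)
  set M := cen a with hM
  have hKM : K ≤ M := fun k hk => mem_cen.mpr (hKc k hk a haK)
  have hMco : IsCoatom M := hC a ha1
  have hMc : ∀ x ∈ M, ∀ y ∈ M, Commute x y := by
    rcases comm_or_exp hC ha1 with h | ⟨hp, hexp⟩
    · exact h
    · have hle : M ≤ K := cen_le_of_exp hC hp hexp hK hKM
      intro x hx y hy
      exact hKc x (hle hx) y (hle hy)
  have hMn : M.Normal := by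
    constructor
    intro n hn g
    rw [hM, mem_cen]
    have h1 : g⁻¹ * a * g ∈ M := hKM (by simpa using hKn.conj_mem a haK g⁻¹)
    have h2 : Commute n (g⁻¹ * a * g) := hMc n hn _ h1
    show g * n * g⁻¹ * a = a * (g * n * g⁻¹)
    calc g * n * g⁻¹ * a = g * (n * (g⁻¹ * a * g)) * g⁻¹ := by group
      _ = g * ((g⁻¹ * a * g) * n) * g⁻¹ := by rw [h2.eq]
      _ = a * (g * n * g⁻¹) := by group
  obtain ⟨y0, hy0⟩ : ∃ y, y ∉ M := by
    by_contra h
    push Not at h
    exact hMco.1 (eq_top_iff.2 fun x _ => h x)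
  have hdisj : ∀ y, y ∉ M → M ⊓ cen y = ⊥ := by
    intro y hy
    rw [eq_bot_iff]
    rintro w ⟨hwM, hwy⟩
    rw [mem_bot]
    by_contra hw1
    have h1 : cen a = cen w :=
      cen_eq_of_le hC ha1 hw1 (fun x hx => mem_cen.mpr (hMc x hx w hwM))
    apply hy
    rw [hM, h1]
    exact mem_cen.mpr (mem_cen.mp hwy).symm
  have hy01 : y0 ≠ 1 := by
    rintro rfl
    exact hy0 M.one_mem
  have hmin : ∀ M0 : Subgroup H, M0.Normal → M0 ≤ M → M0 ≠ ⊥ → M0 = M := by
    intro M0 hn hle hne
    have := hn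
    exact le_antisymm hle (le_of_coatom (hC y0 hy01) hle hne (hdisj y0 hy0))
  have hq : M.index.Prime := index_prime_of_normal_coatom M hMco
  have hMbot : M ≠ ⊥ := fun h => hK (eq_bot_iff.2 (h ▸ hKM))
  have hcard1 : Nat.card M ≠ 1 := ((one_lt_card_iff_ne_bot M).2 hMbot).ne'
  obtain ⟨p, hp, hpd⟩ := Nat.exists_prime_and_dvd hcard1
  have : Fact p.Prime := ⟨hp⟩
  obtain ⟨w, hw⟩ := exists_prime_orderOf_dvd_card' p hpd
  have hexp : ∀ m ∈ M, m ^ p = 1 := by
    have h1 : tors M hMc p = M := by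
      apply hmin _ (tors_normal M hMc p) (fun x hx => hx.1)
      intro hbot
      have h2 : (w : H) ∈ tors M hMc p := by
        refine ⟨w.2, ?_⟩
        have := pow_orderOf_eq_one w
        rw [hw] at this
        exact_mod_cast congrArg Subtype.val this
      rw [hbot, mem_bot] at h2
      have h3 : w = 1 := Subtype.ext h2
      rw [h3, orderOf_one] at hw
      exact hp.one_lt.ne hw
    intro m hm
    rw [← h1] at hm
    exact hm.2
  have hMp : IsPGroup p M := by
    intro m
    refine ⟨1, ?_⟩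
    rw [pow_one]
    exact Subtype.ext (hexp m m.2)
  obtain ⟨e, he⟩ := IsPGroup.iff_card.1 hMp
  have hcardH : Nat.card H = p ^ e * M.index := by rw [← he, card_mul_index]
  have hpq : p ≠ M.index := by
    intro h
    apply not_isPGroup hC p
    apply IsPGroup.of_card (n := e + 1)
    rw [hcardH, ← h, pow_succ]
  refine ⟨?_, ?_, p, M.index, e, hp, hq, hpq, hcardH, ?_⟩
  · intro hcomm
    apply ha1
    exact eq_one_of_central hC (fun y => hcomm.is_comm.comm y a)
  · intro L hL
    by_cases hLM : L ≤ M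
    · exact ⟨⟨fun x y => Subtype.ext (hMc x (hLM x.2) y (hLM y.2))⟩⟩
    · obtain ⟨y, hyL, hyM⟩ := SetLike.not_le_iff_exists.1 hLM
      have htop : M ⊔ L = ⊤ :=
        hMco.2 _ (lt_of_le_of_ne le_sup_left (fun h => hLM (h ▸ le_sup_right)))
      have hn : (L ⊓ M).Normal := by
        constructor
        intro x hx g
        have hg : g ∈ M ⊔ L := htop ▸ mem_top g
        rw [mem_sup_of_normal_left] at hg
        obtain ⟨m, hm, l, hl, rfl⟩ := hg
        have h1 : l * x * l⁻¹ ∈ L ⊓ M :=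
          ⟨L.mul_mem (L.mul_mem hl hx.1) (L.inv_mem hl), hMn.conj_mem x hx.2 l⟩
        have h2 : Commute m (l * x * l⁻¹) := hMc m hm _ h1.2
        have h3 : m * l * x * (m * l)⁻¹ = l * x * l⁻¹ := by
          calc m * l * x * (m * l)⁻¹ = m * (l * x * l⁻¹) * m⁻¹ := by group
            _ = (l * x * l⁻¹) * m * m⁻¹ := by rw [h2.eq]
            _ = _ := by group
        rw [h3]
        exact h1
      by_cases hbot : L ⊓ M = ⊥
      · refine ⟨⟨fun x y => ?_⟩⟩
        have hcomm : (x : H) * y * (x : H)⁻¹ * (y : H)⁻¹ ∈ M := comm_mem_of_prime_index M hq _ _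
        have h4 : (x : H) * y * (x : H)⁻¹ * (y : H)⁻¹ ∈ L ⊓ M :=
          ⟨L.mul_mem (L.mul_mem (L.mul_mem x.2 y.2) (L.inv_mem x.2)) (L.inv_mem y.2), hcomm⟩
        rw [hbot, mem_bot, ← commutatorElement_def, commutatorElement_eq_one_iff_commute] at h4
        exact Subtype.ext h4.eq
      · have h5 := hmin _ hn inf_le_right hbot
        exfalso
        apply hL
        have hML : M ≤ L := h5 ▸ inf_le_left
        exact hMco.2 L (lt_of_le_of_ne hML (fun h => hyM (h ▸ hyL)))
  · intro P hP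
    have hPp : IsPGroup p P := IsPGroup.of_card hP
    have hnd : ¬ p ∣ M.index := fun h => hpq ((Nat.prime_dvd_prime_iff_eq hp hq).1 h)
    have hSn : ((hMp.toSylow hnd : Sylow p H) : Subgroup H).Normal := by
      rw [IsPGroup.toSylow_coe]; exact hMn
    obtain ⟨Q, hQ⟩ := hPp.exists_le_sylow
    have hQS : Q = hMp.toSylow hnd := by
      have := Sylow.unique_of_normal _ hSn
      exact Subsingleton.elim _ _
    have hPM : P ≤ M := by
      rw [hQS, IsPGroup.toSylow_coe] at hQ
      exact hQ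
    have hPeq : P = M := eq_of_le_of_card_ge hPM (by rw [hP, he])
    rw [hPeq]
    exact hMn

end PartA

theorem partB {G : Type*} [Group G] [Finite G]
    (h : ∀ x : G, x ∉ center G → IsCoatom (cen x)) (g : G) (hg : g ∉ center G)
    (hg2 : ∀ y, g * y * g⁻¹ * y⁻¹ ∈ center G) :
    ∃ p : ℕ, p.Prime ∧ (∀ x y : G, x * y * x⁻¹ * y⁻¹ ∈ center G) ∧ ∀ x : G, x ^ p ∈ center G := by
  set M := cen g with hM
  have hMco : IsCoatom M := h g hg
  have hMn : M.Normal := by
    constructor
    intro n hn k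
    rw [hM, mem_cen]
    have hz := hg2 k⁻¹
    have e : k⁻¹ * g * k = (g * k⁻¹ * g⁻¹ * k⁻¹⁻¹)⁻¹ * g := by group
    have h2 : Commute n (k⁻¹ * g * k) := by
      rw [e]
      apply Commute.mul_right
      · exact (mem_center_iff.1 ((center G).inv_mem hz) n)
      · exact mem_cen.mp hn
    show k * n * k⁻¹ * g = g * (k * n * k⁻¹)
    calc k * n * k⁻¹ * g = k * (n * (k⁻¹ * g * k)) * k⁻¹ := by group
      _ = k * ((k⁻¹ * g * k) * n) * k⁻¹ := by rw [h2.eq]
      _ = g * (k * n * k⁻¹) := by group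
  have hp : M.index.Prime := index_prime_of_normal_coatom M hMco
  set p := M.index with hpdef
  have hpow : ∀ y : G, y ^ p ∈ M := fun y => pow_index_mem M y
  have hcc : ∀ a ∈ center G, ∀ b ∈ center G, Commute a b :=
    fun a _ b hb => mem_center_iff.1 hb a
  have hZ0n : (tors (center G) hcc p).Normal := tors_normal _ hcc p
  have key : ∀ y, y ∉ M → ∀ x, x * y * x⁻¹ * y⁻¹ ∈ tors (center G) hcc p := by
    intro y hy
    have hyZ : y ∉ center G := fun hc => hy (mem_cen.mpr (mem_center_iff.1 hc g).symm)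
    have hgy : g * y * g⁻¹ * y⁻¹ ∈ tors (center G) hcc p := by
      refine ⟨hg2 y, ?_⟩
      have e : g * y * g⁻¹ = (g * y * g⁻¹ * y⁻¹) * y := by group
      have h1 := conj_pow_of_central (hg2 y) e p
      have h2 : g * y ^ p * g⁻¹ = y ^ p := by
        have := (mem_cen.mp (hpow y)).eq
        rw [← this]; group
      rw [h2] at h1
      exact (mul_eq_right.1 h1.symm)
    have hW : (cen (y : G ⧸ tors (center G) hcc p)).comap
        (QuotientGroup.mk' (tors (center G) hcc p)) = ⊤ := by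
      apply (h y hyZ).2
      refine lt_of_le_of_ne ?_ ?_
      · intro x hx
        rw [mem_comap, mem_cen]
        exact (mem_cen.mp hx).map (QuotientGroup.mk' _)
      · intro heq
        have h3 : g ∈ (cen (y : G ⧸ tors (center G) hcc p)).comap
            (QuotientGroup.mk' (tors (center G) hcc p)) := by
          rw [mem_comap, mem_cen]
          exact (comm_mem_iff _ g y).1 hgy
        rw [← heq] at h3
        exact hy (mem_cen.mpr (mem_cen.mp h3).symm)
    intro x
    have hx : x ∈ (cen (y : G ⧸ tors (center G) hcc p)).comap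
        (QuotientGroup.mk' (tors (center G) hcc p)) := hW ▸ mem_top x
    rw [mem_comap, mem_cen] at hx
    exact (comm_mem_iff _ x y).2 hx
  refine ⟨p, hp, ?_, ?_⟩
  · intro x y
    have hW : (cen (x : G ⧸ center G)).comap (QuotientGroup.mk' (center G)) = ⊤ := by
      apply eq_top_of_compl_le hMco.1
      intro y hy
      rw [mem_comap, mem_cen]
      exact ((comm_mem_iff _ x y).1 (key y hy x).1).symm
    have hy : y ∈ (cen (x : G ⧸ center G)).comap (QuotientGroup.mk' (center G)) := hW ▸ mem_top y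
    rw [mem_comap, mem_cen] at hy
    exact (comm_mem_iff _ x y).2 hy.symm
  · intro x
    have hW : cen (x ^ p) = ⊤ := by
      apply eq_top_of_compl_le hMco.1
      intro y hy
      rw [mem_cen]
      have hz := key y hy x
      have e : y * x * y⁻¹ = (x * y * x⁻¹ * y⁻¹)⁻¹ * x := by group
      have h1 := conj_pow_of_central ((center G).inv_mem hz.1) e p
      rw [inv_pow, hz.2, inv_one, one_mul] at h1
      show y * x ^ p = x ^ p * y
      calc y * x ^ p = (y * x ^ p * y⁻¹) * y := by group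
        _ = x ^ p * y := by rw [h1]
    rw [mem_center_iff]
    intro y
    have : y ∈ cen (x ^ p) := hW ▸ mem_top y
    exact (mem_cen.mp this).eq

/-- Let G be a non-abelian finite group in which the centralizer of every non-central element is a maximal subgroup. Then G/Z(G) is either an elementary abelian p-group for some prime p, or a minimal non-abelian group (non-abelian with all proper subgroups abelian) of order p^a · q for distinct primes p, q with a normal Sylow p-subgroup. -/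
theorem result {G : Type*} [Group G] [Finite G] (hna : ¬ IsMulCommutative G)
    (h : ∀ x : G, x ∉ Subgroup.center G → IsCoatom (Subgroup.centralizer ({x} : Set G))) :
    (∃ p : ℕ, p.Prime ∧ Cfsg.IsElementaryAbelian p (⊤ : Subgroup (G ⧸ Subgroup.center G))) ∨
    (¬ IsMulCommutative (G ⧸ Subgroup.center G) ∧ (∀ H : Subgroup (G ⧸ Subgroup.center G), H ≠ ⊤ → IsMulCommutative ↥H) ∧
      ∃ p q a : ℕ, p.Prime ∧ q.Prime ∧ p ≠ q ∧ Nat.card (G ⧸ Subgroup.center G) = p ^ a * q ∧
        ∀ P : Subgroup (G ⧸ Subgroup.center G), Nat.card ↥P = p ^ a → P.Normal) := by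
  by_cases hZ2 : center (G ⧸ center G) = ⊥
  · right
    have hC : ∀ g : G ⧸ center G, g ≠ 1 → IsCoatom (cen g) := fun g hg =>
      hyp_quotient h g (by rw [hZ2, mem_bot]; exact hg)
    have : Nontrivial (G ⧸ center G) := by
      by_contra hnt
      rw [not_nontrivial_iff_subsingleton] at hnt
      apply hna
      refine ⟨⟨fun a b => ?_⟩⟩
      have : a ∈ center G := by
        rw [← QuotientGroup.eq_one_iff]; exact Subsingleton.elim _ _
      exact (mem_center_iff.1 this b).symm
    exact partA hC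
  · left
    obtain ⟨gb, hgb, hgb1⟩ : ∃ gb ∈ center (G ⧸ center G), gb ≠ 1 := by
      by_contra hcon
      push Not at hcon
      exact hZ2 ((eq_bot_iff_forall _).2 hcon)
    obtain ⟨g, rfl⟩ := QuotientGroup.mk_surjective gb
    have hg : g ∉ center G := fun hc => hgb1 ((QuotientGroup.eq_one_iff g).2 hc)
    have hg2 : ∀ y, g * y * g⁻¹ * y⁻¹ ∈ center G := fun y =>
      (comm_mem_iff _ g y).2 (mem_center_iff.1 hgb y).symm
    obtain ⟨p, hp, h1, h2⟩ := partB h g hg hg2
    refine ⟨p, hp, ?_, ?_⟩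
    · refine ⟨⟨fun a b => Subtype.ext ?_⟩⟩
      obtain ⟨a, _⟩ := a
      obtain ⟨b, _⟩ := b
      obtain ⟨a, rfl⟩ := QuotientGroup.mk_surjective a
      obtain ⟨b, rfl⟩ := QuotientGroup.mk_surjective b
      exact ((comm_mem_iff _ a b).1 (h1 a b)).eq
    · intro a _
      obtain ⟨a, rfl⟩ := QuotientGroup.mk_surjective a
      rw [← QuotientGroup.mk_pow, QuotientGroup.eq_one_iff]
      exact h2 a

end Cfsg.Agent.S3904
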