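import Cfsg.Statements.S3911
import Cfsg.Agent.Lib.H14AbLift

set_option autoImplicit false
open Cfsg

namespace Cfsg.Agent.S3911

/-- Let G be a finite group in which any two abelian subgroups of the same order are conjugate. If M is a normal subgroup of G of odd order, then any two abelian subgroups of G/M of the same order are conjugate in G/M. -/
theorem result {G : Type*} [Group G] [Finite G] (hB : ∀ A B : Subgroup G, IsMulCommutative ↥A → IsMulCommutative ↥B → Nat.card ↥A = Nat.card ↥B → ∃ g : G, B = A.map (MulAut.conj g).toMonoidHom) (M : Subgroup G) [M.Normal] (hM : Odd (Nat.card ↥M)) :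
    ∀ A B : Subgroup (G ⧸ M), IsMulCommutative ↥A → IsMulCommutative ↥B → Nat.card ↥A = Nat.card ↥B →
      ∃ g : G ⧸ M, B = A.map (MulAut.conj g).toMonoidHom := by
  intro Ab Bb hAb hBb hcard
  obtain ⟨A, hA, hAm, hAf⟩ := Cfsg.Agent.Lib.H14AbLift.exists_lift hB M hM Ab hAb
  obtain ⟨B, hB', hBm, hBf⟩ := Cfsg.Agent.Lib.H14AbLift.exists_lift hB M hM Bb hBb
  have hc : Nat.card ↥A = Nat.card ↥B := by
    apply Nat.eq_of_factorization_eq Nat.card_pos.ne' Nat.card_pos.ne'
    intro p
    by_cases hp : p.Prime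
    · rw [hAf p hp, hBf p hp, hcard]
    · rw [Nat.factorization_eq_zero_of_not_prime _ hp, Nat.factorization_eq_zero_of_not_prime _ hp]
  obtain ⟨g, hg⟩ := hB A B hA hB' hc
  refine ⟨QuotientGroup.mk' M g, ?_⟩
  rw [← hBm, ← hAm, hg, Subgroup.map_map, Subgroup.map_map]
  congr 1

end Cfsg.Agent.S3911
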