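import Cfsg.Statements.S3912
import Cfsg.Agent.S3911
import Cfsg.Agent.Lib.H14AcLift2
import Cfsg.Agent.Lib.H14AcHIodd
import Cfsg.Agent.Lib.H14AcHIa
import Cfsg.Agent.Lib.H14AcHIb
import Cfsg.Agent.Lib.H14AcHIc
import Cfsg.Agent.Lib.H14AcCardT
import Cfsg.Agent.Lib.H14AcEx4
import Cfsg.Agent.Lib.H14AcCardM
import Cfsg.Agent.Lib.H14AcSylExt
import Cfsg.Agent.Lib.H14AcV2

set_option autoImplicit false
open Cfsg

namespace Cfsg.Agent.S3912

open Cfsg.Agent.Lib.H14AbDefs Cfsg.Agent.Lib.H14AcDefs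

theorem conj_of_lift {G : Type*} [Group G] [Finite G] (hB : HB G) (M : Subgroup G) [M.Normal]
    (Ab Bb : Subgroup (G ⧸ M)) (h1 : LiftP M Ab) (h2 : LiftP M Bb) (hcard : Nat.card ↥Ab = Nat.card ↥Bb) :
    ∃ g : G ⧸ M, Bb = Ab.map (MulAut.conj g).toMonoidHom := by
  obtain ⟨A, hA, hAm, hAf⟩ := h1
  obtain ⟨B, hB', hBm, hBf⟩ := h2
  have hc : Nat.card ↥A = Nat.card ↥B := by
    apply Nat.eq_of_factorization_eq Nat.card_pos.ne' Nat.card_pos.ne'
    intro p
    by_cases hp : p.Prime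
    · rw [hAf p hp, hBf p hp, hcard]
    · rw [Nat.factorization_eq_zero_of_not_prime _ hp, Nat.factorization_eq_zero_of_not_prime _ hp]
  obtain ⟨g, hg⟩ := hB A B hA hB' hc
  refine ⟨QuotientGroup.mk' M g, ?_⟩
  rw [← hBm, ← hAm, hg, Subgroup.map_map, Subgroup.map_map]
  congr 1

/-- Let G be a finite solvable group in which any two abelian subgroups of the same order are conjugate. Then every quotient of G has the same property: any two abelian subgroups of the quotient of the same order are conjugate. -/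
theorem result {G : Type*} [Group G] [Finite G] (hB : ∀ A B : Subgroup G, IsMulCommutative ↥A → IsMulCommutative ↥B → Nat.card ↥A = Nat.card ↥B → ∃ g : G, B = A.map (MulAut.conj g).toMonoidHom) (hsol : Group.IsSolvable G) (M : Subgroup G) [M.Normal] :
    ∀ A B : Subgroup (G ⧸ M), IsMulCommutative ↥A → IsMulCommutative ↥B → Nat.card ↥A = Nat.card ↥B →
      ∃ g : G ⧸ M, B = A.map (MulAut.conj g).toMonoidHom := by
  intro Ab Bb hAb hBb hcard
  by_cases h2 : 2 ∣ Nat.card M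
  swap
  · exact Cfsg.Agent.S3911.result hB M (Nat.odd_iff.2 (by omega)) Ab Bb hAb hBb hcard
  obtain ⟨T⟩ : Nonempty (Sylow 2 G) := inferInstance
  have key : ∀ Cb : Subgroup (G ⧸ M), IsMulCommutative ↥Cb →
      HI M (Cb.comap (QuotientGroup.mk' M)) 2 → LiftP M Cb := by
    intro Cb hCb h
    apply Cfsg.Agent.Lib.H14AcLift2.exists_lift M Cb hCb
    intro p _ hp
    by_cases hp2 : p = 2
    · subst hp2; exact h
    · exact Cfsg.Agent.Lib.H14AcHIodd.hi_odd hB M p hp2 hp _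
  by_cases hTM : (T : Subgroup G) ≤ M
  · exact conj_of_lift hB M Ab Bb (key Ab hAb (Cfsg.Agent.Lib.H14AcHIa.hi_a M T hTM _))
      (key Bb hBb (Cfsg.Agent.Lib.H14AcHIa.hi_a M T hTM _)) hcard
  by_cases hTc : IsCyclic ↥(T : Subgroup G)
  · exact conj_of_lift hB M Ab Bb (key Ab hAb (Cfsg.Agent.Lib.H14AcHIb.hi_b M T hTc _))
      (key Bb hBb (Cfsg.Agent.Lib.H14AcHIb.hi_b M T hTc _)) hcard
  obtain ⟨x, hx⟩ := Cfsg.Agent.Lib.H14AcEx4.exists_four hB M h2 T hTM
  have hT8 := Cfsg.Agent.Lib.H14AcCardT.card_T hB hsol T x hx hTc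
  have hv := Cfsg.Agent.Lib.H14AcCardM.fac_M hB M h2 T hTM hT8 hTc x hx
  have hq := Cfsg.Agent.Lib.H14AcV2.fac_quot M T hT8 hv
  have small : ∀ Cb Db : Subgroup (G ⧸ M), IsMulCommutative ↥Cb → IsMulCommutative ↥Db →
      Nat.card ↥Cb = Nat.card ↥Db → ¬ 4 ∣ Nat.card ↥Cb →
      ∃ g : G ⧸ M, Db = Cb.map (MulAut.conj g).toMonoidHom := by
    intro Cb Db hC hD hcd h4
    exact conj_of_lift hB M Cb Db (key Cb hC (Cfsg.Agent.Lib.H14AcHIc.hi_c hB M h2 hv Cb h4))
      (key Db hD (Cfsg.Agent.Lib.H14AcHIc.hi_c hB M h2 hv Db (hcd ▸ h4))) hcd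
  by_cases h4 : 4 ∣ Nat.card ↥Ab
  · apply Cfsg.Agent.Lib.H14AcSylExt.conj_of_sylow
      (fun C D hC hD hcd hodd => small C D hC hD hcd (fun h => by
        obtain ⟨k, hk⟩ := hodd
        omega)) Ab Bb hAb hBb hcard
    rw [hq]
    have h5 : 2 ≤ (Nat.card ↥Ab).factorization 2 :=
      (Nat.Prime.pow_dvd_iff_le_factorization Nat.prime_two Nat.card_pos.ne').1 (by norm_num; exact h4)
    have h6 : (Nat.card ↥Ab).factorization 2 ≤ (Nat.card (G ⧸ M)).factorization 2 :=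
      (Nat.factorization_le_iff_dvd Nat.card_pos.ne' Nat.card_pos.ne').2
        (Subgroup.card_subgroup_dvd_card Ab) 2
    omega
  · exact small Ab Bb hAb hBb hcard h4

end Cfsg.Agent.S3912
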