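import Cfsg.Statements.S3919
import Cfsg.Agent.Lib.Helper76FourGroup
import Cfsg.Agent.Lib.Helper3TwoMax
import Cfsg.Agent.S0646
import Cfsg.Agent.S4399

set_option autoImplicit false
open Cfsg

namespace Cfsg.Agent.S3919

open Subgroup Cfsg.Agent.Lib Cfsg.Agent.Lib.Helper76FourGroup
open scoped commutatorElement

/-- data of a 2-group of maximal class: `ρ = -1` or `ρ = 2^(m+1) - 1` -/
theorem lcs_mem {G : Type*} [Group G] (m : ℕ) (a b : G) (ha : orderOf a = 2 ^ (m + 2)) (ρ : ℤ)
    (hρ : ρ = -1 ∨ (1 ≤ m ∧ ρ = 2 ^ (m + 1) - 1)) (hc : b * a * b⁻¹ = a ^ ρ) (i : ℕ) :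
    a ^ (2 ^ (i + 1)) ∈ (⊤ : Subgroup G).lowerCentralSeries (i + 1) := by
  have key : ∀ t : ℤ, ⁅a ^ t, b⁆ = a ^ (t * (1 - ρ)) := by
    intro t
    have e : ⁅a ^ t, b⁆ = a ^ t * (b * a ^ t * b⁻¹)⁻¹ := by
      rw [commutatorElement_def]; group
    rw [e, conj_zpow_eq a b ρ hc t, ← zpow_neg, ← zpow_add]
    congr 1
    ring
  induction i with
  | zero =>
    have h1 : ⁅a ^ (1 : ℤ), b⁆ ∈ (⊤ : Subgroup G).lowerCentralSeries (0 + 1) :=
      Subgroup.commutator_mem_commutator (mem_top _) (mem_top _)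
    rw [key] at h1
    rcases hρ with rfl | ⟨hm, rfl⟩
    · have : a ^ (2 ^ (0 + 1)) = a ^ ((1 : ℤ) * (1 - -1)) := by
        rw [← zpow_natCast]; norm_num
      rw [this]; exact h1
    · have h2 := Subgroup.zpow_mem _ h1 (1 + 2 ^ m)
      rw [← zpow_mul] at h2
      have : a ^ (2 ^ (0 + 1)) = a ^ ((1 : ℤ) * (1 - (2 ^ (m + 1) - 1)) * (1 + 2 ^ m)) := by
        rw [← zpow_natCast, zpow_eq_iff a (m + 2) ha]
        obtain ⟨l, rfl⟩ : ∃ l, m = l + 1 := ⟨m - 1, by omega⟩
        refine ⟨2 ^ l, ?_⟩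
        push_cast
        ring
      rw [this]; exact h2
  | succ i ih =>
    have h1 : ⁅a ^ ((2 : ℤ) ^ (i + 1)), b⁆ ∈ (⊤ : Subgroup G).lowerCentralSeries (i + 1 + 1) := by
      apply Subgroup.commutator_mem_commutator _ (mem_top _)
      have : a ^ ((2 : ℤ) ^ (i + 1)) = a ^ (2 ^ (i + 1)) := by
        rw [← zpow_natCast]; norm_num
      rw [this]; exact ih
    rw [key] at h1
    have : a ^ (2 ^ (i + 1 + 1)) = a ^ ((2 : ℤ) ^ (i + 1) * (1 - ρ)) := by
      rw [← zpow_natCast, zpow_eq_iff a (m + 2) ha]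
      rcases hρ with rfl | ⟨hm, rfl⟩
      · refine ⟨0, ?_⟩
        push_cast
        ring
      · refine ⟨2 ^ i, ?_⟩
        push_cast
        ring
    rw [this]; exact h1

theorem csc_of_data {G : Type*} [Group G] [Finite G] (hG : IsPGroup 2 G) (m : ℕ) (a b : G)
    (ha : orderOf a = 2 ^ (m + 2))
    (hAi : (zpowers a).index = 2) (hb : b ∉ zpowers a) (ρ : ℤ)
    (hρ : ρ = -1 ∨ (1 ≤ m ∧ ρ = 2 ^ (m + 1) - 1)) (hc : b * a * b⁻¹ = a ^ ρ) :
    ∀ H : Subgroup G, ¬ IsCyclic ↥H → Subgroup.centralizer (H : Set G) ≤ H := by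
  have L1 : ∀ x, x ∉ zpowers a → x * a * x⁻¹ = a ^ ρ := by
    intro x hx
    have h1 : b⁻¹ * x ∈ zpowers a := by
      rw [Subgroup.mul_mem_iff_of_index_two hAi, inv_mem_iff]
      exact iff_of_false hb hx
    obtain ⟨t, ht⟩ := mem_zpowers_iff.mp h1
    have e : x = b * a ^ t := by rw [ht]; group
    rw [e, ← hc]
    have : b * a ^ t * a * (b * a ^ t)⁻¹ = b * (a ^ t * a * (a ^ t)⁻¹) * b⁻¹ := by group
    rw [this]
    congr 2
    rw [← zpow_add_one, ← zpow_neg, ← zpow_add]
    simp
  have L2 : ∀ x, x ∉ zpowers a → ∀ y ∈ zpowers a, x * y = y * x → y ^ 2 = 1 := by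
    intro x hx y hy hxy
    obtain ⟨t, rfl⟩ := mem_zpowers_iff.mp hy
    have h1 := conj_zpow_eq a x ρ (L1 x hx) t
    rw [hxy, mul_assoc, mul_inv_cancel, mul_one, zpow_eq_iff a (m + 2) ha] at h1
    rw [← zpow_natCast, ← zpow_mul, zpow_eq_one_iff' a (m + 2) ha]
    rcases hρ with rfl | ⟨hm, rfl⟩
    · obtain ⟨c, hc⟩ := h1
      exact ⟨c, by push_cast; linarith⟩
    · obtain ⟨l, rfl⟩ : ∃ l, m = l + 1 := ⟨m - 1, by omega⟩
      have h2 : (2 : ℤ) ^ (l + 1 + 2) ∣ (t * (2 : ℕ)) * (1 - 2 ^ (l + 1)) := by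
        obtain ⟨c, hc⟩ := h1
        refine ⟨c, ?_⟩
        rw [← hc]
        push_cast
        ring
      have hcop : IsCoprime ((2 : ℤ) ^ (l + 1 + 2)) (1 - 2 ^ (l + 1)) := by
        apply IsCoprime.pow_left
        exact ⟨2 ^ l, 1, by ring⟩
      exact hcop.dvd_of_dvd_mul_right h2
  have hz2 : (a ^ (2 ^ (m + 1))) ^ 2 = 1 := by
    rw [← pow_mul, ← pow_succ, ← ha, pow_orderOf_eq_one]
  have L3 : ∀ y ∈ zpowers a, y ^ 2 = 1 → y = 1 ∨ y = a ^ (2 ^ (m + 1)) := by
    intro y hy hy2
    obtain ⟨t, rfl⟩ := mem_zpowers_iff.mp hy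
    rw [← zpow_natCast, ← zpow_mul, zpow_eq_one_iff' a (m + 2) ha] at hy2
    obtain ⟨c, hc⟩ := hy2
    have ht : t = 2 ^ (m + 1) * c := by
      have : t * 2 = (2 ^ (m + 1) * c) * 2 := by push_cast at hc; rw [hc]; ring
      exact mul_right_cancel₀ (by norm_num) this
    apply mem_zpowers_of_sq_eq_one hz2
    rw [ht, zpow_mul]
    have : a ^ ((2 : ℤ) ^ (m + 1)) = a ^ (2 ^ (m + 1)) := by rw [← zpow_natCast]; norm_num
    rw [this]
    exact zpow_mem (mem_zpowers _) c
  have L4 : ∀ y ∈ zpowers a, y ≠ 1 → a ^ (2 ^ (m + 1)) ∈ zpowers y := by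
    intro y hy hy1
    obtain ⟨j, hj⟩ := IsPGroup.iff_orderOf.mp hG y
    have hj0 : j ≠ 0 := by
      rintro rfl
      rw [pow_zero, orderOf_eq_one_iff] at hj
      exact hy1 hj
    obtain ⟨i, rfl⟩ : ∃ i, j = i + 1 := ⟨j - 1, by omega⟩
    have o2 : orderOf (y ^ (2 ^ i)) = 2 := by
      rw [orderOf_pow_of_dvd (by positivity) (by rw [hj]; exact pow_dvd_pow 2 (by omega)), hj,
        pow_succ]
      exact Nat.mul_div_cancel_left 2 (by positivity)
    rcases L3 _ (Subgroup.pow_mem _ hy _) (by rw [← o2, pow_orderOf_eq_one]) with h | h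
    · rw [h, orderOf_one] at o2
      norm_num at o2
    · rw [← h]
      exact Subgroup.pow_mem _ (mem_zpowers y) _
  intro H hH g hg
  have hgc : ∀ h ∈ H, h * g = g * h := fun h hh => Subgroup.mem_centralizer_iff.mp hg h hh
  obtain ⟨x, hxH, hxA⟩ : ∃ x ∈ H, x ∉ zpowers a := by
    by_contra h
    push Not at h
    apply hH
    have hle : H ≤ zpowers a := h
    have : IsCyclic ↥(H.subgroupOf (zpowers a)) := inferInstance
    exact (Subgroup.subgroupOfEquivOfLe hle).isCyclic.mp this
  have hzH : a ^ (2 ^ (m + 1)) ∈ H := by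
    obtain ⟨h, hhH, hhx⟩ : ∃ h ∈ H, h ∉ zpowers x := by
      by_contra h
      push Not at h
      apply hH
      have hle : H ≤ zpowers x := h
      have : IsCyclic ↥(H.subgroupOf (zpowers x)) := inferInstance
      exact (Subgroup.subgroupOfEquivOfLe hle).isCyclic.mp this
    have key : ∃ y ∈ H, y ∈ zpowers a ∧ y ≠ 1 := by
      by_cases hhA : h ∈ zpowers a
      · refine ⟨h, hhH, hhA, ?_⟩
        rintro rfl
        exact hhx (one_mem _)
      · refine ⟨x⁻¹ * h, H.mul_mem (H.inv_mem hxH) hhH, ?_, ?_⟩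
        · rw [Subgroup.mul_mem_iff_of_index_two hAi, inv_mem_iff]
          exact iff_of_false hxA hhA
        · intro h1
          rw [inv_mul_eq_one] at h1
          exact hhx (h1 ▸ mem_zpowers x)
    obtain ⟨y, hyH, hyA, hy1⟩ := key
    exact (zpowers_le.mpr hyH) (L4 y hyA hy1)
  by_cases hgA : g ∈ zpowers a
  · rcases L3 g hgA (L2 x hxA g hgA (hgc x hxH)) with h | h
    · rw [h]; exact one_mem _
    · rw [h]; exact hzH
  · have h1 : x⁻¹ * g ∈ zpowers a := by
      rw [Subgroup.mul_mem_iff_of_index_two hAi, inv_mem_iff]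
      exact iff_of_false hxA hgA
    have h2 : x * (x⁻¹ * g) = (x⁻¹ * g) * x := by
      rw [mul_assoc, ← hgc x hxH]; group
    have e : g = x * (x⁻¹ * g) := by group
    rw [e]
    rcases L3 _ h1 (L2 x hxA _ h1 h2) with h | h
    · rw [h]; exact H.mul_mem hxH (one_mem _)
    · rw [h]; exact H.mul_mem hxH hzH

theorem not_cyclic_of_exp {P : Type*} [Group P] [Finite P] (p : ℕ) (hp : p.Prime) (V : Subgroup P)
    (hcard : Nat.card V = p ^ 2) (hexp : ∀ v ∈ V, v ^ p = 1) : ¬ IsCyclic V := by
  intro hc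
  obtain ⟨g, hg⟩ := hc.exists_generator
  have h1 := orderOf_eq_card_of_forall_mem_zpowers hg
  have h2 : g ^ p = 1 := Subtype.ext (hexp g g.2)
  have h3 := orderOf_dvd_of_pow_eq_one h2
  rw [h1, hcard] at h3
  have h4 := Nat.le_of_dvd hp.pos h3
  have h5 : p * 2 ≤ p * p := Nat.mul_le_mul_left p hp.two_le
  have h6 := hp.pos
  nlinarith

/-- Say that a group has self-centralizing non-cyclic subgroups when every non-cyclic subgroup H satisfies C_G(H) ≤ H. A finite non-abelian 2-group G of order 2^n has self-centralizing non-cyclic subgroups if and only if G has nilpotency class n − 1 (that is, G is dihedral, semidihedral or generalized quaternion). -/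
theorem result {G : Type*} [Group G] [Finite G] (hna : ¬ IsMulCommutative G) (n : ℕ) (hG : Nat.card G = 2 ^ n) :
    (∀ H : Subgroup G, ¬ IsCyclic ↥H → Subgroup.centralizer (H : Set G) ≤ H) ↔ (⊤ : Subgroup G).lowerCentralSeries (n - 2) ≠ ⊥ := by
  have hp : Fact (Nat.Prime 2) := ⟨Nat.prime_two⟩
  have h2 : IsPGroup 2 G := IsPGroup.of_card hG
  have hna' : ∃ x y : G, x * y ≠ y * x := by
    by_contra h
    push Not at h
    exact hna (isMulCommutative_iff.mpr h)
  obtain ⟨x₀, y₀, hxy₀⟩ := hna'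
  have hncyc : ¬ IsCyclic G := by
    intro hc
    obtain ⟨g, hg⟩ := hc.exists_generator
    apply hxy₀
    obtain ⟨i, rfl⟩ := mem_zpowers_iff.mp (hg x₀)
    obtain ⟨j, rfl⟩ := mem_zpowers_iff.mp (hg y₀)
    rw [← zpow_add, add_comm, zpow_add]
  have hn3 : 3 ≤ n := by
    by_contra h
    have hm' : n = 0 ∨ n = 1 ∨ n = 2 := by omega
    rcases hm' with rfl | rfl | rfl
    · have : Subsingleton G := (Nat.card_eq_one_iff_unique.mp (by rw [hG]; norm_num)).1
      exact hxy₀ (Subsingleton.elim _ _)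
    · exact hncyc (isCyclic_of_prime_card (p := 2) (by rw [hG]; norm_num))
    · exact hna (IsPGroup.isMulCommutative_of_card_eq_prime_sq hG)
  obtain ⟨m, rfl⟩ : ∃ m, n = m + 3 := ⟨n - 3, by omega⟩
  have e0 : m + 3 - 2 = m + 1 := by omega
  rw [e0]
  have data : ∀ C : Subgroup G, IsCyclic C → C.index = 2 →
      ∃ a b : G, orderOf a = 2 ^ (m + 2) ∧ (zpowers a).index = 2 ∧ b ∉ zpowers a ∧
        ((∃ ρ : ℤ, (ρ = -1 ∨ (1 ≤ m ∧ ρ = 2 ^ (m + 1) - 1)) ∧ b * a * b⁻¹ = a ^ ρ) ∨
          (1 ≤ m ∧ b ^ 2 = 1 ∧ a ^ 2 ∈ center G)) := by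
    intro C hC hCi
    obtain ⟨a, b, ha, hb, hcases⟩ := Cfsg.Agent.S0646.result (m + 3) (by omega) hG C hC hCi
      ⟨x₀, y₀, hxy₀⟩
    have e1 : m + 3 - 1 = m + 2 := by omega
    rw [e1] at ha
    rw [e0] at hcases
    have hAi : (Subgroup.zpowers a).index = 2 := by
      have h1 := (Subgroup.zpowers a).card_mul_index
      rw [Nat.card_zpowers, ha, hG, pow_succ 2 (m + 2)] at h1
      exact Nat.eq_of_mul_eq_mul_left (by positivity) h1
    refine ⟨a, b, ha, hAi, hb, ?_⟩
    rcases hcases with ⟨-, hc⟩ | ⟨-, hc⟩ | ⟨hn4, hb2, hc⟩ | ⟨hn4, -, hc⟩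
    · left; exact ⟨-1, Or.inl rfl, by rw [hc, zpow_neg_one]⟩
    · left; exact ⟨-1, Or.inl rfl, by rw [hc, zpow_neg_one]⟩
    · right
      refine ⟨by omega, hb2, ?_⟩
      have htop : ∀ K : Subgroup G, a ∈ K → b ∈ K → K = ⊤ := by
        intro K haK hbK
        rw [Subgroup.eq_top_iff']
        intro x
        by_cases hx : x ∈ Subgroup.zpowers a
        · exact (Subgroup.zpowers_le.mpr haK) hx
        · have h1 : x * b ∈ Subgroup.zpowers a := by
            rw [Subgroup.mul_mem_iff_of_index_two hAi]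
            exact iff_of_false hx hb
          have := K.mul_mem ((Subgroup.zpowers_le.mpr haK) h1) (K.inv_mem hbK)
          simpa using this
      have t1 : Subgroup.centralizer {a ^ 2} = ⊤ := by
        apply htop
        · rw [Subgroup.mem_centralizer_singleton_iff, ← pow_succ, ← pow_succ']
        · rw [Subgroup.mem_centralizer_singleton_iff, ← mul_inv_eq_iff_eq_mul, ← conj_pow, hc,
            ← pow_mul]
          have : (1 + 2 ^ (m + 1)) * 2 = 2 + 2 ^ (m + 2) := by ring
          rw [this, pow_add, ← ha, pow_orderOf_eq_one, mul_one]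
      rw [Subgroup.mem_center_iff]
      intro g
      have : g ∈ Subgroup.centralizer {a ^ 2} := t1 ▸ Subgroup.mem_top g
      exact Subgroup.mem_centralizer_singleton_iff.mp this
    · left
      refine ⟨2 ^ (m + 1) - 1, Or.inr ⟨by omega, rfl⟩, ?_⟩
      rw [hc, ← zpow_natCast]
      congr 1
      have : 1 ≤ 2 ^ (m + 1) := Nat.one_le_two_pow
      push_cast [Nat.cast_sub this]
      ring
  constructor
  · intro hcsc
    rcases normal_four_or_cyclic_index_le_two h2 with ⟨V, hVn, hV4, hVe⟩ | ⟨a₀, -, ha₀i, -⟩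
    · obtain ⟨z, u, hzS, hz2, hz1, hu2, huz, hVdef, hVel, hconj⟩ :=
        normal_four_structure h2 V hV4 hVe
      have hVnc : ¬ IsCyclic V := not_cyclic_of_exp 2 Nat.prime_two V hV4 hVe
      have hCV := hcsc V hVnc
      have hCi := index_centralizer_le_two z u hzS hz2 hconj
      have hle : centralizer ({u} : Set G) ≤ V := by
        refine le_trans ?_ hCV
        intro g hg
        rw [mem_centralizer_singleton_iff] at hg
        rw [Subgroup.mem_centralizer_iff]
        intro v hv
        have hzg : g * z = z * g := by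
          have := hzS g
          rwa [mul_inv_eq_iff_eq_mul] at this
        rcases hVel v hv with rfl | rfl | rfl | rfl
        · simp
        · exact hzg.symm
        · exact hg.symm
        · rw [mul_assoc, ← hzg, ← mul_assoc, ← hg, mul_assoc]
      have h4 := Subgroup.card_le_of_le hle
      have h5 := (centralizer ({u} : Set G)).card_mul_index
      rw [hV4] at h4
      have h6 : Nat.card G ≤ 8 := by nlinarith
      rw [hG] at h6
      have hm0 : m = 0 := by
        by_contra h
        have : 2 ^ 4 ≤ 2 ^ (m + 3) := Nat.pow_le_pow_right (by norm_num) (by omega)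
        omega
      subst hm0
      rw [zero_add, Subgroup.top_lowerCentralSeries_one, Ne, commutator_eq_bot_iff_center_eq_top]
      intro h
      apply hxy₀
      have : x₀ ∈ center G := h ▸ mem_top x₀
      exact (Subgroup.mem_center_iff.mp this y₀).symm
    · have hCi : (zpowers a₀).index = 2 := by
        have h0 : (zpowers a₀).index ≠ 0 := Subgroup.index_ne_zero_of_finite
        have h1 : (zpowers a₀).index ≠ 1 := by
          rw [Ne, Subgroup.index_eq_one]
          intro h
          apply hncyc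
          refine ⟨a₀, fun x => ?_⟩
          have : x ∈ zpowers a₀ := h ▸ mem_top x
          exact this
        omega
      obtain ⟨a, b, ha, hAi, hb, ⟨ρ, hρ, hc⟩ | ⟨hm, hb2, ha2⟩⟩ := data _ inferInstance hCi
      · intro h
        have h1 := lcs_mem m a b ha ρ hρ hc m
        rw [h, Subgroup.mem_bot] at h1
        have h3 := orderOf_dvd_of_pow_eq_one h1
        rw [ha] at h3
        have h4 := Nat.le_of_dvd (by positivity) h3
        have : 2 ^ (m + 1) < 2 ^ (m + 2) := Nat.pow_lt_pow_right (by norm_num) (by omega)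
        omega
      · exfalso
        have hzc : a ^ (2 ^ (m + 1)) ∈ center G := by
          have : a ^ (2 ^ (m + 1)) = (a ^ 2) ^ (2 ^ m) := by rw [← pow_mul, ← pow_succ']
          rw [this]
          exact Subgroup.pow_mem _ ha2 _
        have hz2 : (a ^ (2 ^ (m + 1))) ^ 2 = 1 := by
          rw [← pow_mul, ← pow_succ, ← ha, pow_orderOf_eq_one]
        have hz1 : a ^ (2 ^ (m + 1)) ≠ 1 := by
          intro h1
          have h3 := orderOf_dvd_of_pow_eq_one h1
          rw [ha] at h3
          have h4 := Nat.le_of_dvd (by positivity) h3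
          have : 2 ^ (m + 1) < 2 ^ (m + 2) := Nat.pow_lt_pow_right (by norm_num) (by omega)
          omega
        have hexp : ∀ v ∈ zpowers b ⊔ zpowers (a ^ (2 ^ (m + 1))), v ^ 2 = 1 := by
          intro v hv
          obtain ⟨x, hx, y, hy, rfl⟩ := exists_mul_of_mem_sup (zpowers b)
            (zpowers (a ^ (2 ^ (m + 1)))) (by
              intro x _ y hy
              have hyc : y ∈ center G := (zpowers_le.mpr hzc) hy
              rw [Subgroup.mem_center_iff.mp hyc x, mul_assoc, mul_inv_cancel, mul_one]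
              exact hy) v hv
          have hyc : y ∈ center G := (zpowers_le.mpr hzc) hy
          have hcm : Commute x y := Subgroup.mem_center_iff.mp hyc x
          rw [hcm.mul_pow]
          obtain ⟨i, rfl⟩ := mem_zpowers_iff.mp hx
          obtain ⟨j, rfl⟩ := mem_zpowers_iff.mp hy
          rw [← zpow_natCast, ← zpow_natCast, ← zpow_mul, ← zpow_mul, mul_comm i, mul_comm j,
            zpow_mul, zpow_mul, zpow_natCast, zpow_natCast, hb2, hz2, one_zpow, one_zpow, one_mul]
        have hbH : b ∈ zpowers b ⊔ zpowers (a ^ (2 ^ (m + 1))) :=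
          le_sup_left (b := zpowers (a ^ (2 ^ (m + 1)))) (mem_zpowers b)
        have hzH : a ^ (2 ^ (m + 1)) ∈ zpowers b ⊔ zpowers (a ^ (2 ^ (m + 1))) :=
          le_sup_right (a := zpowers b) (mem_zpowers _)
        have hHnc : ¬ IsCyclic ↥(zpowers b ⊔ zpowers (a ^ (2 ^ (m + 1)))) := by
          intro hc
          obtain ⟨⟨g, hgH⟩, hg⟩ := hc.exists_generator
          have hg2 := hexp g hgH
          have key : ∀ h ∈ zpowers b ⊔ zpowers (a ^ (2 ^ (m + 1))), h = 1 ∨ h = g := by
            intro h hh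
            apply mem_zpowers_of_sq_eq_one hg2
            obtain ⟨i, hi⟩ := mem_zpowers_iff.mp (hg ⟨h, hh⟩)
            have : g ^ i = h := by
              have := congrArg Subtype.val hi
              simpa using this
            rw [← this]
            exact zpow_mem (mem_zpowers g) i
          have hb1 : b ≠ 1 := by
            rintro rfl
            exact hb (one_mem _)
          have e1 := (key b hbH).resolve_left hb1
          have e2 := (key _ hzH).resolve_left hz1
          apply hb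
          rw [e1, ← e2]
          exact Subgroup.pow_mem _ (mem_zpowers a) _
        have h1 := hcsc _ hHnc (Subgroup.center_le_centralizer _ ha2)
        have h3 := hexp _ h1
        rw [← pow_mul, ← orderOf_dvd_iff_pow_eq_one, ha] at h3
        have h4 := Nat.le_of_dvd (by norm_num) h3
        have : 2 ^ 3 ≤ 2 ^ (m + 2) := Nat.pow_le_pow_right (by norm_num) (by omega)
        omega
  · intro hl
    have hnil : Group.IsNilpotent G := h2.isNilpotent
    have hcl : m + 2 ≤ Group.nilpotencyClass G := by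
      by_contra h
      apply hl
      rw [Subgroup.lowerCentralSeries_eq_bot_iff_nilpotencyClass_le]
      omega
    have h1 := Helper3TwoMax.two_pow_le_card_lcs (G := G) (Group.nilpotencyClass G - 1) (by omega)
    have e1 : Group.nilpotencyClass G - (Group.nilpotencyClass G - 1) = 1 := by omega
    rw [e1, Subgroup.top_lowerCentralSeries_one] at h1
    have h3 : 2 ^ (m + 1) ≤ Nat.card (commutator G) :=
      le_trans (Nat.pow_le_pow_right (by norm_num) (by omega)) h1
    have h4 := (commutator G).card_mul_index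
    rw [hG] at h4
    have hidx : (commutator G).index = 4 := by
      have hd : (commutator G).index ∣ 2 ^ (m + 3) := ⟨_, by rw [← h4, mul_comm]⟩
      obtain ⟨j, -, hj⟩ := (Nat.dvd_prime_pow Nat.prime_two).mp hd
      have hle : (commutator G).index ≤ 4 := by
        by_contra h
        push Not at h
        have : 2 ^ (m + 1) * 5 ≤ 2 ^ (m + 3) := by
          rw [← h4]
          exact Nat.mul_le_mul h3 h
        rw [pow_add 2 (m + 1) 2] at this
        have hpos : 0 < 2 ^ (m + 1) := by positivity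
        nlinarith
      have hj2 : j ≤ 2 := by
        by_contra h
        have : 2 ^ 3 ≤ 2 ^ j := Nat.pow_le_pow_right (by norm_num) (by omega)
        omega
      have hcy : ¬ IsCyclic (G ⧸ commutator G) :=
        fun h => hncyc (Helper3TwoMax.isCyclic_of_isCyclic_abelianization h2 h)
      interval_cases j
      · exfalso
        apply hcy
        have : Subsingleton (G ⧸ commutator G) :=
          (Nat.card_eq_one_iff_unique.mp (by rw [← Subgroup.index, hj]; norm_num)).1
        exact isCyclic_of_subsingleton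
      · exfalso
        apply hcy
        exact isCyclic_of_prime_card (p := 2) (by rw [← Subgroup.index, hj]; norm_num)
      · rw [hj]; norm_num
    obtain ⟨C, hC, hCi⟩ := Cfsg.Agent.S4399.exists_cyclic_index_two m G hG hidx
    obtain ⟨a, b, ha, hAi, hb, ⟨ρ, hρ, hc⟩ | ⟨hm, hb2, ha2⟩⟩ := data C hC hCi
    · exact csc_of_data h2 m a b ha hAi hb ρ hρ hc
    · exfalso
      have hAc : IsMulCommutative ↥(Subgroup.zpowers a) := inferInstance
      have hcen := Cfsg.Agent.S4399.card_inf_center _ hAi hAc hidx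
      have hle : Subgroup.zpowers (a ^ 2) ≤ Subgroup.zpowers a ⊓ Subgroup.center G := by
        rw [Subgroup.zpowers_le]
        exact ⟨Subgroup.pow_mem _ (Subgroup.mem_zpowers a) 2, ha2⟩
      have h5 := Subgroup.card_le_of_le hle
      rw [hcen, Nat.card_zpowers, orderOf_pow_of_dvd (by norm_num)
        (by rw [ha]; exact dvd_pow_self 2 (by omega)), ha, pow_succ,
        Nat.mul_div_cancel _ (by norm_num)] at h5
      have : 2 ^ 2 ≤ 2 ^ (m + 1) := Nat.pow_le_pow_right (by norm_num) (by omega)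
      omega

end Cfsg.Agent.S3919
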