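import Cfsg.Statements.S3946
import Cfsg.Agent.Lib.Helper71Kegel
-- import your own Cfsg.Agent.* helpers here

set_option autoImplicit false
open Cfsg

namespace Cfsg.Agent.S3946

/-- Call an automorphism α of order n of a group G splitting when x · α(x) · α²(x) ⋯ α^(n−1)(x) = 1 for every x ∈ G. A finite group admitting a splitting automorphism of prime order is nilpotent (this contains the case of a fixed-point-free automorphism of prime order). -/
theorem result {G : Type*} [Group G] [Finite G] (α : MulAut G) (hp : (orderOf α).Prime)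
    (hsplit : ∀ x : G, (((List.range (orderOf α)).map (fun i : ℕ => (α ^ i) x)).prod = 1)) : Group.IsNilpotent G := by
  classical
  open SemidirectProduct in
  set p := orderOf α with hpdef
  let A : Subgroup (MulAut G) := Subgroup.zpowers α
  let φ : A →* MulAut G := A.subtype
  let a₀ : A := ⟨α, Subgroup.mem_zpowers α⟩
  let a : G ⋊[φ] A := SemidirectProduct.inr a₀
  have hfin : Finite (G ⋊[φ] A) := Finite.of_equiv _ SemidirectProduct.equivProd.symm
  have ha₀ : a₀ ^ p = 1 := Subtype.ext (pow_orderOf_eq_one α)
  have hap : a ^ p = 1 := by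
    show (SemidirectProduct.inr a₀ : G ⋊[φ] A) ^ p = 1
    rw [← map_pow, ha₀, map_one]
  have hconj : ∀ (n : ℕ) (g : G), a ^ n * SemidirectProduct.inl g =
      SemidirectProduct.inl ((α ^ n) g) * a ^ n := by
    intro n g
    have h1 := SemidirectProduct.inl_aut (φ := φ) (a₀ ^ n) g
    have h2 : φ (a₀ ^ n) = α ^ n := by
      rw [map_pow]; rfl
    rw [h2] at h1
    rw [h1]
    show (SemidirectProduct.inr a₀) ^ n * SemidirectProduct.inl g =
      SemidirectProduct.inr (a₀ ^ n) * SemidirectProduct.inl g *
      SemidirectProduct.inr (a₀ ^ n)⁻¹ * (SemidirectProduct.inr a₀) ^ n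
    rw [map_inv, map_pow]
    group
  have hform : ∀ (g : G) (n : ℕ), (SemidirectProduct.inl g * a) ^ n =
      SemidirectProduct.inl (((List.range n).map (fun i : ℕ => (α ^ i) g)).prod) * a ^ n := by
    intro g n
    induction n with
    | zero => simp
    | succ n ih =>
      rw [pow_succ, ih, List.range_succ, List.map_append, List.prod_append, map_mul]
      simp only [List.map_cons, List.map_nil, List.prod_cons, List.prod_nil, mul_one]
      rw [pow_succ a, mul_assoc, ← mul_assoc (a ^ n), hconj]
      simp only [mul_assoc]
  have hga : ∀ g : G, (SemidirectProduct.inl g * a) ^ p = 1 := by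
    intro g
    rw [hform, hsplit, hap, map_one, one_mul]
  have hmem : ∀ y : G ⋊[φ] A, y ∈ (SemidirectProduct.inl : G →* G ⋊[φ] A).range ↔ y.right = 1 := by
    intro y
    rw [SemidirectProduct.range_inl_eq_ker_rightHom, MonoidHom.mem_ker]
    rfl
  have hHT : Cfsg.Agent.Lib.Helper71Kegel.HT p (SemidirectProduct.inl : G →* G ⋊[φ] A).range := by
    refine ⟨?_, ?_, ?_⟩
    · rw [SemidirectProduct.range_inl_eq_ker_rightHom]
      infer_instance
    · intro htop
      have h1 : a ∈ (SemidirectProduct.inl : G →* G ⋊[φ] A).range := by rw [htop]; trivial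
      rw [hmem] at h1
      have h2 : a₀ = 1 := h1
      have h3 : α = 1 := congrArg Subtype.val h2
      rw [hpdef, h3, orderOf_one] at hp
      exact Nat.not_prime_one hp
    · intro y hy
      rw [hmem] at hy
      obtain ⟨k, hk⟩ := mem_powers_iff_mem_zpowers.mpr y.right.2
      have hk' : a₀ ^ k = y.right := Subtype.ext hk
      have hkp : Nat.Coprime k p := by
        rw [Nat.coprime_comm, Nat.Prime.coprime_iff_not_dvd hp]
        rintro ⟨m, rfl⟩
        apply hy
        rw [← hk', pow_mul, ha₀, one_pow]
      have hright : ∀ g : G, ((SemidirectProduct.inl g * a) ^ k).right = a₀ ^ k := by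
        intro g
        rw [hform]
        show (1 : A) * (a ^ k).right = _
        rw [one_mul]
        show ((SemidirectProduct.inr a₀ : G ⋊[φ] A) ^ k).right = _
        rw [← map_pow]; rfl
      have hinj : Function.Injective (fun g : G => ((SemidirectProduct.inl g * a) ^ k).left) := by
        intro g g' hgg
        have h1 : (SemidirectProduct.inl g * a) ^ k = (SemidirectProduct.inl g' * a) ^ k :=
          SemidirectProduct.ext hgg (by rw [hright, hright])
        have h2 := Cfsg.Agent.Lib.Helper71Kegel.eq_of_pow_eq (hga g) (hga g') h1 hkp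
        exact SemidirectProduct.inl_injective (mul_right_cancel h2)
      obtain ⟨g, hg⟩ := (Finite.injective_iff_surjective.mp hinj) y.left
      have hy' : y = (SemidirectProduct.inl g * a) ^ k :=
        SemidirectProduct.ext hg.symm (by rw [hright, hk'])
      rw [hy', ← pow_mul, mul_comm, pow_mul, hga, one_pow]
  have hnil := Cfsg.Agent.Lib.Helper71Kegel.nilpotent_of_HT hp _ hHT
  exact Group.nilpotent_of_mulEquiv
    (MonoidHom.ofInjective (SemidirectProduct.inl_injective (φ := φ))).symm

end Cfsg.Agent.S3946
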