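import Cfsg.Statements.S3999
import Cfsg.Agent.Lib.Helper71TwoFrob
import Cfsg.Agent.Lib.Helper71ZaMain
import Cfsg.Agent.S0003
import Cfsg.Agent.S0039
import Cfsg.Agent.Lib.Helper7SL

set_option autoImplicit false
open Cfsg

namespace Cfsg.Agent.S3999

open Subgroup Cfsg.Agent.Lib.Helper71TwoFrob Cfsg.Agent.Lib.Helper71ZaDefs

theorem exists_equiv' {F G : Type*} [Group F] [Finite F] [Group G] [Finite G]
    (hT : ∀ m : ℕ, Nat.card {g : F // orderOf g = m} = Nat.card {h : G // orderOf h = m}) :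
    ∃ e : F ≃ G, ∀ x, orderOf (e x) = orderOf x := by
  have h1 : ∀ m : ℕ, Nonempty ({g : F // orderOf g = m} ≃ {h : G // orderOf h = m}) :=
    fun m => Finite.card_eq.mp (hT m)
  choose f hf using fun m => (⟨(h1 m).some, trivial⟩ : ∃ _ : {g : F // orderOf g = m} ≃ {h : G // orderOf h = m}, True)
  let e : F ≃ G := (Equiv.sigmaFiberEquiv (orderOf : F → ℕ)).symm.trans
    ((Equiv.sigmaCongrRight f).trans
      (Equiv.sigmaFiberEquiv (orderOf : G → ℕ)))
  refine ⟨e, fun x => ?_⟩
  exact (f (orderOf x) ⟨x, rfl⟩).2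

theorem card_sup_of_coprime {G : Type*} [Group G] [Finite G] (A B : Subgroup G) [B.Normal]
    (h : (Nat.card A).Coprime (Nat.card B)) : Nat.card (A ⊔ B : Subgroup G) = Nat.card A * Nat.card B := by
  have h1 : (⊥ : Subgroup G).relIndex B * B.relIndex (A ⊔ B) = (⊥ : Subgroup G).relIndex (A ⊔ B) :=
    relIndex_mul_relIndex _ _ _ bot_le le_sup_right
  have h2 : B.relIndex (A ⊔ B) = Nat.card A := by
    rw [relIndex_sup_right, ← inf_relIndex_right, inf_comm,
      (Subgroup.disjoint_of_coprime_natCard h).eq_bot, relIndex_bot_left]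
  rw [relIndex_bot_left, relIndex_bot_left, h2] at h1
  rw [← h1, mul_comm]

theorem exists_normal_card {G : Type*} [Group G] [Finite G] (n : ℕ) :
    n ≠ 0 → (∀ p, p.Prime → p ∣ n → ∃ Q : Subgroup G, Q.Normal ∧ Nat.card Q = p ^ n.factorization p) →
    ∃ K : Subgroup G, K.Normal ∧ Nat.card K = n := by
  induction n using Nat.recOnPosPrimePosCoprime with
  | prime_pow p k hp hk =>
    intro _ h
    obtain ⟨Q, h1, h2⟩ := h p hp (dvd_pow_self p hk.ne')
    refine ⟨Q, h1, ?_⟩
    rw [h2, hp.factorization_pow]; simp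
  | zero => intro h; exact absurd rfl h
  | one => intro _ _; exact ⟨⊥, inferInstance, by simp⟩
  | coprime a b ha hb hab iha ihb =>
    intro _ h
    obtain ⟨A, hA, hA2⟩ := iha (by omega) (fun p hp hpa => by
      obtain ⟨Q, h1, h2⟩ := h p hp (hpa.mul_right b)
      refine ⟨Q, h1, ?_⟩
      rw [h2, Nat.factorization_eq_of_coprime_left hab (by
        rw [Nat.mem_primeFactorsList (by omega)]; exact ⟨hp, hpa⟩)])
    obtain ⟨B, hB, hB2⟩ := ihb (by omega) (fun p hp hpa => by
      obtain ⟨Q, h1, h2⟩ := h p hp (hpa.mul_left a)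
      refine ⟨Q, h1, ?_⟩
      rw [h2, Nat.factorization_eq_of_coprime_right hab (by
        rw [Nat.mem_primeFactorsList (by omega)]; exact ⟨hp, hpa⟩)])
    refine ⟨A ⊔ B, inferInstance, ?_⟩
    rw [card_sup_of_coprime A B (by rw [hA2, hB2]; exact hab), hA2, hB2]

theorem sl25_pow (X : Matrix (Fin 2) (Fin 2) (ZMod 5)) (hdet : X.det = 1) :
    X ^ 4 = 1 ∨ X ^ 6 = 1 ∨ X ^ 10 = 1 := by
  have hCH : X ^ 2 = (X 0 0 + X 1 1) • X - 1 := by
    rw [Matrix.det_fin_two] at hdet
    ext i j
    fin_cases i <;> fin_cases j <;>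
      simp [pow_two, Matrix.mul_apply, Fin.sum_univ_two] <;>
      first | ring1 | linear_combination (-1) * hdet
  generalize X 0 0 + X 1 1 = t at hCH
  have step : ∀ (a b : ZMod 5) (k : ℕ), X ^ k = a • X - b • 1 →
      X ^ (k + 1) = (a * t - b) • X - a • 1 := by
    intro a b k hk
    rw [pow_succ, hk, sub_mul, smul_mul_assoc, ← pow_two, hCH, smul_mul_assoc, one_mul]
    module
  have fin : ∀ (a b : ZMod 5) (k : ℕ), X ^ k = a • X - b • 1 → a = 0 → b = -1 → X ^ k = 1 := by
    intro a b k h ha hb; rw [h, ha, hb]; simp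
  have fin' : ∀ (a b : ZMod 5), X ^ 5 = a • X - b • 1 → a = 0 → b * b = 1 → X ^ 10 = 1 := by
    intro a b h ha hb
    rw [show 10 = 5 * 2 from rfl, pow_mul, h, ha, pow_two]
    simp [smul_smul, hb]
  have h1 : X ^ 1 = (1 : ZMod 5) • X - (0 : ZMod 5) • 1 := by simp
  have h2 := step _ _ _ h1
  have h3 := step _ _ _ h2
  have h4 := step _ _ _ h3
  have h5 := step _ _ _ h4
  have h6 := step _ _ _ h5
  have ht : ∀ t : ZMod 5, t = 0 ∨ t = 1 ∨ t = 2 ∨ t = 3 ∨ t = 4 := by decide
  rcases ht t with rfl | rfl | rfl | rfl | rfl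
  · exact Or.inl (fin _ _ _ h4 (by decide) (by decide))
  · exact Or.inr (Or.inl (fin _ _ _ h6 (by decide) (by decide)))
  · exact Or.inr (Or.inr (fin' _ _ h5 (by decide) (by decide)))
  · exact Or.inr (Or.inr (fin' _ _ h5 (by decide) (by decide)))
  · exact Or.inr (Or.inl (fin _ _ _ h6 (by decide) (by decide)))

theorem sl25_no15 (x : Matrix.SpecialLinearGroup (Fin 2) (ZMod 5)) : orderOf x ≠ 15 := by
  intro h
  have h1 : x ^ 4 = 1 ∨ x ^ 6 = 1 ∨ x ^ 10 = 1 := by
    rcases sl25_pow x.1 x.2 with h | h | h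
    · left; apply Subtype.ext; simpa using h
    · right; left; apply Subtype.ext; simpa using h
    · right; right; apply Subtype.ext; simpa using h
  rcases h1 with h1 | h1 | h1 <;>
  · have := orderOf_dvd_of_pow_eq_one h1
    rw [h] at this
    omega

theorem exists_orderOf_fifteen {U : Type*} [Group U] [Finite U] (hU : Nat.card U = 15) :
    ∃ u : U, orderOf u = 15 := by
  have : Fact (Nat.Prime 5) := ⟨by norm_num⟩
  have : Fact (Nat.Prime 3) := ⟨by norm_num⟩
  obtain ⟨a, ha⟩ := exists_prime_orderOf_dvd_card' (G := U) 5 (by rw [hU]; norm_num)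
  obtain ⟨b, hb⟩ := exists_prime_orderOf_dvd_card' (G := U) 3 (by rw [hU]; norm_num)
  have hA : Nat.card (zpowers a) = 5 := by rw [Nat.card_zpowers, ha]
  have hidx : (zpowers a).index = 3 := by
    have := (zpowers a).card_mul_index
    rw [hA, hU] at this; omega
  have hn : (zpowers a).Normal := by
    apply Subgroup.normal_of_index_eq_minFac_card
    rw [hidx, hU]; norm_num
  have h1 : b * a * b⁻¹ ∈ zpowers a := hn.conj_mem a (mem_zpowers a) b
  rw [← mem_powers_iff_mem_zpowers, Submonoid.mem_powers_iff] at h1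
  obtain ⟨k, hk⟩ := h1
  have hc : ∀ j : ℕ, b * a ^ j * b⁻¹ = a ^ (k * j) := by
    intro j
    rw [← conj_pow, ← hk, pow_mul]
  have h3 : a ^ (k * (k * k)) = a ^ 1 := by
    rw [← hc, ← hc, hk, pow_one]
    have hb3 : b ^ 3 = 1 := hb ▸ pow_orderOf_eq_one b
    have : b * b * b = 1 := by rw [← hb3, pow_succ, pow_two]
    have h4 : b⁻¹ * b⁻¹ * b⁻¹ = 1 := by
      rw [← inv_inj]; simp only [mul_inv_rev, inv_inv, inv_one]; rw [← mul_assoc]; exact this
    calc b * (b * (b * a * b⁻¹) * b⁻¹) * b⁻¹ = (b * b * b) * a * (b⁻¹ * b⁻¹ * b⁻¹) := by group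
      _ = a := by rw [this, h4]; simp
  rw [pow_eq_pow_iff_modEq, ha] at h3
  have h5 : k % 5 = 1 := by
    have h6 : (k % 5) * ((k % 5) * (k % 5)) % 5 = 1 := by
      have : (k % 5) * ((k % 5) * (k % 5)) ≡ k * (k * k) [MOD 5] :=
        (Nat.mod_modEq k 5).mul ((Nat.mod_modEq k 5).mul (Nat.mod_modEq k 5))
      exact this.trans h3
    have h7 : k % 5 < 5 := Nat.mod_lt _ (by norm_num)
    generalize k % 5 = r at h6 h7
    interval_cases r <;> omega
  have h8 : a ^ k = a ^ 1 := by
    rw [pow_eq_pow_iff_modEq, ha]; exact h5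
  rw [pow_one] at h8
  have hcomm : Commute b a := by
    have : b * a * b⁻¹ = a := hk.symm.trans h8
    exact mul_inv_eq_iff_eq_mul.mp this
  refine ⟨b * a, ?_⟩
  rw [hcomm.orderOf_mul_eq_mul_orderOf_of_coprime (by rw [ha, hb]; norm_num), ha, hb]

theorem mem_of_coprime {F : Type*} [Group F] [Finite F] {N C : Subgroup F} (h : FD N C) {x : F}
    (hx : (orderOf x).Coprime (Nat.card C)) : x ∈ N := by
  by_contra hxN
  have h1 : orderOf x ∣ Nat.card C := h.orderOf_dvd hxN (Commute.refl x)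
  have h2 : orderOf x = 1 := Nat.Coprime.eq_one_of_dvd hx h1
  exact (h.exists_conj hxN).1 (orderOf_eq_one_iff.mp h2)

theorem card_pel {F : Type*} [Group F] [Finite F] {N C : Subgroup F} (h : FD N C) {p : ℕ}
    [hp : Fact p.Prime] (hpN : p ∣ Nat.card N) :
    Nat.card {x : F // ∃ k, orderOf x = p ^ k} = p ^ (Nat.card N).factorization p := by
  have := h.nilpotent
  let P : Sylow p N := default
  have hPn : (P : Subgroup N).Normal := inferInstance
  have hss : Subsingleton (Sylow p N) := (Sylow.unique_of_normal P hPn).instSubsingleton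
  have hset : {x : F | ∃ k, orderOf x = p ^ k} = ((P : Subgroup N).map N.subtype : Set F) := by
    ext x
    constructor
    · rintro ⟨k, hk⟩
      have hxN : x ∈ N := by
        apply mem_of_coprime h
        rw [hk]
        apply Nat.Coprime.pow_left
        exact Nat.Coprime.coprime_dvd_left hpN h.coprime
      have hpg : IsPGroup p (zpowers (⟨x, hxN⟩ : N)) := by
        apply IsPGroup.of_card (n := k)
        rw [Nat.card_zpowers, Subgroup.orderOf_mk, hk]
      obtain ⟨Q, hQ⟩ := hpg.exists_le_sylow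
      have : Q = P := Subsingleton.elim _ _
      exact ⟨⟨x, hxN⟩, this ▸ hQ (mem_zpowers _), rfl⟩
    · rintro ⟨y, hy, rfl⟩
      obtain ⟨k, hk⟩ := (IsPGroup.iff_orderOf.mp P.2) ⟨y, hy⟩
      refine ⟨k, ?_⟩
      rw [Subgroup.orderOf_mk] at hk
      simpa using hk
  have h1 : Nat.card {x : F // ∃ k, orderOf x = p ^ k} = Nat.card ((P : Subgroup N).map N.subtype) :=
    Nat.card_congr (Equiv.setCongr hset)
  rw [h1, Subgroup.card_map_of_injective N.subtype_injective, Sylow.card_eq_multiplicity]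

theorem sylow_normal_of_card {G : Type*} [Group G] [Finite G] {p : ℕ} [hp : Fact p.Prime]
    (hcard : Nat.card {x : G // ∃ k, orderOf x = p ^ k} = p ^ (Nat.card G).factorization p)
    (Q : Sylow p G) : (Q : Subgroup G).Normal := by
  have hsub : ((Q : Subgroup G) : Set G) ⊆ {x : G | ∃ k, orderOf x = p ^ k} := by
    intro y hy
    obtain ⟨k, hk⟩ := (IsPGroup.iff_orderOf.mp Q.2) ⟨y, hy⟩
    rw [Subgroup.orderOf_mk] at hk
    exact ⟨k, hk⟩
  have heq : ((Q : Subgroup G) : Set G) = {x : G | ∃ k, orderOf x = p ^ k} := by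
    apply Set.eq_of_subset_of_ncard_le hsub _ (Set.toFinite _)
    have h1 : ({x : G | ∃ k, orderOf x = p ^ k} : Set G).ncard = p ^ (Nat.card G).factorization p :=
      hcard
    have h2 : ((Q : Subgroup G) : Set G).ncard = p ^ (Nat.card G).factorization p :=
      Sylow.card_eq_multiplicity Q
    rw [h1, h2]
  refine ⟨fun n hn g => ?_⟩
  have h1 : n ∈ {x : G | ∃ k, orderOf x = p ^ k} := heq ▸ hn
  obtain ⟨k, hk⟩ := h1
  have h2 : g * n * g⁻¹ ∈ {x : G | ∃ k, orderOf x = p ^ k} := ⟨k, by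
    rw [← hk]; exact ((SemiconjBy.conj_mk g n).orderOf_eq g).symm⟩
  rw [← heq] at h2
  exact h2

theorem frob {F G : Type*} [Group F] [Finite F] [Group G] [Finite G] (C : Subgroup F)
    (hC : Cfsg.IsFrobeniusComplement C) (e : F ≃ G) (he : ∀ x, orderOf (e x) = orderOf x) :
    ∃ C' : Subgroup G, Cfsg.IsFrobeniusComplement C' := by
  obtain ⟨N, h1, -, -⟩ := Cfsg.Agent.S0035.result C hC
  have h : FD N C := ⟨hC, h1.symm⟩
  have hcF : Nat.card N * Nat.card C = Nat.card F := h.compl.card_mul_card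
  have hcG : Nat.card G = Nat.card N * Nat.card C := by rw [hcF]; exact (Nat.card_congr e).symm
  have hN0 : Nat.card N ≠ 0 := Nat.card_pos.ne'
  obtain ⟨K, hKn, hK⟩ := exists_normal_card (G := G) (Nat.card N) hN0 (by
    intro p hp hpN
    have : Fact p.Prime := ⟨hp⟩
    let Q : Sylow p G := default
    have hfac : (Nat.card G).factorization p = (Nat.card N).factorization p := by
      rw [hcG, Nat.factorization_eq_of_coprime_left h.coprime (by
        rw [Nat.mem_primeFactorsList hN0]; exact ⟨hp, hpN⟩)]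
    refine ⟨Q, sylow_normal_of_card ?_ Q, ?_⟩
    · rw [hfac, ← card_pel h hpN]
      refine (Nat.card_congr (e.subtypeEquiv ?_)).symm
      intro x
      rw [he]
    · rw [Sylow.card_eq_multiplicity, hfac])
  have hidx : K.index = Nat.card C := by
    have := K.card_mul_index
    rw [hK, hcG] at this
    exact Nat.eq_of_mul_eq_mul_left Nat.card_pos this
  obtain ⟨H, hH⟩ := Subgroup.exists_right_complement'_of_coprime (N := K) (by
    rw [hK, hidx]; exact h.coprime)
  have hHc : Nat.card H = Nat.card C := by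
    have := hH.card_mul_card
    rw [hK, hcG] at this
    exact Nat.eq_of_mul_eq_mul_left Nat.card_pos this
  have hK1 : K ≠ ⊥ := by
    rintro rfl
    apply h.ne_bot
    rw [← Subgroup.card_eq_one, ← hK]; simp
  have hH1 : H ≠ ⊥ := by
    rintro rfl
    apply hC.1
    rw [← Subgroup.card_eq_one, ← hHc]; simp
  refine ⟨H, (Cfsg.Agent.S0039.result K H hH hK1 hH1).mpr ?_⟩
  intro c hc hc1
  rw [eq_bot_iff]
  intro k hk
  rw [Subgroup.mem_inf, mem_centralizer_singleton_iff] at hk
  rw [mem_bot]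
  by_contra hk1
  have ho1 : orderOf k ∣ Nat.card N := by
    have := orderOf_dvd_natCard (⟨k, hk.1⟩ : K)
    rwa [Subgroup.orderOf_mk, hK] at this
  have ho2 : orderOf c ∣ Nat.card C := by
    have := orderOf_dvd_natCard (⟨c, hc⟩ : H)
    rwa [Subgroup.orderOf_mk, hHc] at this
  have hcop : (orderOf k).Coprime (orderOf c) :=
    Nat.Coprime.coprime_dvd_left ho1 (Nat.Coprime.coprime_dvd_right ho2 h.coprime)
  have hcomm : Commute k c := hk.2
  have ho := hcomm.orderOf_mul_eq_mul_orderOf_of_coprime hcop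
  set y := e.symm (k * c) with hy
  have hoy : orderOf y = orderOf k * orderOf c := by
    rw [← ho, ← he y, hy, Equiv.apply_symm_apply]
  have hk0 : orderOf k ≠ 0 := (orderOf_pos k).ne'
  have hc0 : orderOf c ≠ 0 := (orderOf_pos c).ne'
  have hy1 : orderOf (y ^ orderOf c) = orderOf k := by
    rw [orderOf_pow_of_dvd hc0 (by rw [hoy]; exact dvd_mul_left _ _), hoy,
      Nat.mul_div_cancel _ (orderOf_pos c)]
  have hy2 : orderOf (y ^ orderOf k) = orderOf c := by
    rw [orderOf_pow_of_dvd hk0 (by rw [hoy]; exact dvd_mul_right _ _), hoy,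
      Nat.mul_div_cancel_left _ (orderOf_pos k)]
  have hm1 : y ^ orderOf c ∈ N := by
    apply mem_of_coprime h
    rw [hy1]
    exact Nat.Coprime.coprime_dvd_left ho1 h.coprime
  have hm2 : y ^ orderOf k ∉ N := by
    intro hmem
    have h3 := orderOf_dvd_natCard (⟨_, hmem⟩ : N)
    rw [Subgroup.orderOf_mk, hy2] at h3
    have h4 : orderOf c = 1 := Nat.eq_one_of_dvd_coprimes h.coprime h3 ho2
    exact hc1 (orderOf_eq_one_iff.mp h4)
  have h5 := h.cent hm2 hm1 ((Commute.refl y).pow_pow _ _)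
  rw [← orderOf_eq_one_iff, hy1, orderOf_eq_one_iff] at h5
  exact hk1 h5

theorem no15 {C : Type*} [Group C] [Finite C] (hfc : FC C) (hns : ¬ Group.IsSolvable C) :
    (∀ c : C, orderOf c ≠ 15) ∧ ∃ r : ℕ, Nat.card C = 15 * r ∧ Nat.Coprime 15 r := by
  obtain ⟨S, M, hS, hM, hidx, hSM, hcomm, ⟨φ⟩, -, hcop⟩ :=
    Cfsg.Agent.Lib.Helper71ZaMain.structure_nonsolvable hfc hns
  constructor
  · intro c hc
    have hc15 : c ^ 15 = 1 := hc ▸ pow_orderOf_eq_one c
    have h2 : c ^ 2 ∈ S ⊔ M := by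
      rcases hidx with h | h
      · rw [Subgroup.index_eq_one.mp h]; exact mem_top _
      · rw [pow_two]; exact (Subgroup.mul_self_mem_of_index_two h c)
    have h1 : c ∈ S ⊔ M := by
      have : c = (c ^ 2) ^ 8 := by
        rw [← pow_mul, show 2 * 8 = 15 + 1 from rfl, pow_succ, hc15, one_mul]
      rw [this]; exact pow_mem h2 8
    obtain ⟨s, hs, μ, hμ, rfl⟩ := Subgroup.mem_sup_of_normal_right.mp h1
    have hsμ : Commute s μ := hcomm s hs μ hμ
    rw [hsμ.mul_pow] at hc15
    have h3 : μ ^ 15 ∈ S ⊓ M := by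
      refine ⟨?_, pow_mem hμ _⟩
      have : μ ^ 15 = (s ^ 15)⁻¹ := (inv_eq_of_mul_eq_one_right hc15).symm
      rw [this]; exact S.inv_mem (S.pow_mem hs _)
    rw [hSM, mem_bot] at h3
    have h4 : orderOf μ ∣ 15 := orderOf_dvd_of_pow_eq_one h3
    have h5 : orderOf μ ∣ Nat.card M := by
      have := orderOf_dvd_natCard (⟨μ, hμ⟩ : M)
      rwa [Subgroup.orderOf_mk] at this
    have h6 : orderOf μ = 1 :=
      Nat.eq_one_of_dvd_coprimes hcop h5 (h4.trans (by norm_num))
    rw [orderOf_eq_one_iff] at h6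
    subst h6
    rw [mul_one] at hc
    apply sl25_no15 (φ ⟨s, hs⟩)
    rw [MulEquiv.orderOf_eq, Subgroup.orderOf_mk, hc]
  · have hcS : Nat.card S = 120 := by
      rw [Nat.card_congr φ.toEquiv]
      have : Fact (Nat.Prime 5) := ⟨by norm_num⟩
      rw [Cfsg.Agent.Lib.Helper7SL.card_SL_two, ZMod.card]
      norm_num
    have hcSM : Nat.card (S ⊔ M : Subgroup C) = 120 * Nat.card M := by
      rw [card_sup_of_coprime S M (by
        rw [hcS]
        exact Nat.Coprime.symm (Nat.Coprime.coprime_dvd_right (by norm_num : 120 ∣ 30 ^ 3) (hcop.pow_right 3))), hcS]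
    have h1 := (S ⊔ M).card_mul_index
    rw [hcSM] at h1
    have hc15 : Nat.Coprime 15 (Nat.card M) :=
      (Nat.Coprime.coprime_dvd_right (by norm_num : 15 ∣ 30) hcop).symm
    rcases hidx with h | h
    · refine ⟨8 * Nat.card M, by rw [← h1, h]; ring, ?_⟩
      exact Nat.Coprime.mul_right (by norm_num) hc15
    · refine ⟨16 * Nat.card M, by rw [← h1, h]; ring, ?_⟩
      exact Nat.Coprime.mul_right (by norm_num) hc15

theorem solv {F G : Type*} [Group F] [Finite F] [Group G] [Finite G] (C : Subgroup F)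
    (hC : Cfsg.IsFrobeniusComplement C) (e : F ≃ G) (he : ∀ x, orderOf (e x) = orderOf x)
    (hG : Group.IsSolvable G) : Group.IsSolvable F := by
  obtain ⟨N, h1, -, -⟩ := Cfsg.Agent.S0035.result C hC
  have h : FD N C := ⟨hC, h1.symm⟩
  have hn := h.normal
  have hnil := h.nilpotent
  by_contra hF
  have hCns : ¬ Group.IsSolvable C := by
    intro hCs
    apply hF
    have hq : Group.IsSolvable (F ⧸ N) := by
      apply Group.isSolvable_of_surjective (f := (QuotientGroup.mk' N).comp C.subtype)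
      intro q
      obtain ⟨x, rfl⟩ := QuotientGroup.mk'_surjective N q
      have hx : x ∈ N ⊔ C := by rw [h.compl.sup_eq_top]; exact mem_top x
      obtain ⟨a, ha, c, hc, rfl⟩ := Subgroup.mem_sup_of_normal_left.mp hx
      refine ⟨⟨c, hc⟩, ?_⟩
      simp only [MonoidHom.comp_apply, Subgroup.coe_subtype, map_mul]
      have : QuotientGroup.mk' N a = 1 := (QuotientGroup.eq_one_iff a).mpr ha
      rw [this, one_mul]
    exact Group.isSolvable_of_ker_le_range N.subtype (QuotientGroup.mk' N) (by simp)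
  obtain ⟨hno, r, hr, hr15⟩ :=
    no15 (Cfsg.Agent.Lib.Helper36ZaLIN2.fc_of_frobenius_complement C hC) hCns
  have hcF : Nat.card N * Nat.card C = Nat.card F := h.compl.card_mul_card
  have hcG : Nat.card G = 15 * (r * Nat.card N) := by
    rw [← Nat.card_congr e, ← hcF, hr]; ring
  have hcop : Nat.Coprime 15 (r * Nat.card N) := by
    apply Nat.Coprime.mul_right hr15
    exact (Nat.Coprime.coprime_dvd_right (by rw [hr]; exact dvd_mul_right _ _) h.coprime).symm
  obtain ⟨U, hU⟩ := Cfsg.Agent.S0003.result 15 _ hcG hcop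
  obtain ⟨u, hu⟩ := exists_orderOf_fifteen hU
  have hy : orderOf (e.symm (u : G)) = 15 := by
    rw [← he, Equiv.apply_symm_apply, Subgroup.orderOf_coe, hu]
  set y := e.symm (u : G)
  have hyN : y ∉ N := by
    intro hmem
    have h3 := orderOf_dvd_natCard (⟨_, hmem⟩ : N)
    rw [Subgroup.orderOf_mk, hy] at h3
    have h4 : 15 = 1 := Nat.eq_one_of_dvd_coprimes h.coprime h3 (by rw [hr]; exact dvd_mul_right _ _)
    omega
  obtain ⟨-, g, hg⟩ := h.exists_conj hyN
  apply hno ⟨_, hg⟩
  rw [Subgroup.orderOf_mk, ← hy]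
  have := (SemiconjBy.conj_mk g⁻¹ y).orderOf_eq g⁻¹
  rw [inv_inv] at this
  exact this.symm

/-- Let F be a finite Frobenius group (it has a Frobenius complement) and G a finite group with the same order type as F (for every m the same number of elements of order m). Then G is a Frobenius group; moreover G is solvable if and only if F is. -/
theorem result {F G : Type*} [Group F] [Finite F] [Group G] [Finite G] (hF : (∃ C : Subgroup F, Cfsg.IsFrobeniusComplement C)) (hT : (∀ m : ℕ, Nat.card {g : F // orderOf g = m} = Nat.card {h : G // orderOf h = m})) :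
    (∃ C : Subgroup G, Cfsg.IsFrobeniusComplement C) ∧ (Group.IsSolvable G ↔ Group.IsSolvable F) := by
  obtain ⟨C, hC⟩ := hF
  obtain ⟨e, he⟩ := exists_equiv' hT
  obtain ⟨C', hC'⟩ := frob C hC e he
  refine ⟨⟨C', hC'⟩, solv C hC e he, solv C' hC' e.symm (fun x => ?_)⟩
  rw [← he, Equiv.apply_symm_apply]

end Cfsg.Agent.S3999
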