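import Cfsg.Statements.S3998
import Cfsg.Agent.S3999
import Cfsg.Agent.S0529
import Cfsg.Agent.S0524

set_option autoImplicit false
open Cfsg

namespace Cfsg.Agent.S3998

open Subgroup

universe u v

theorem mem_of_pel {X : Type*} [Group X] [Finite X] {p : ℕ} [Fact p.Prime] (P : Sylow p X)
    [hn : (P : Subgroup X).Normal] {x : X} {k : ℕ} (hk : orderOf x = p ^ k) : x ∈ (P : Subgroup X) := by
  have hss : Subsingleton (Sylow p X) := (Sylow.unique_of_normal P hn).instSubsingleton
  have hpg : IsPGroup p (zpowers x) := by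
    apply IsPGroup.of_card (n := k)
    rw [Nat.card_zpowers, hk]
  obtain ⟨Q, hQ⟩ := hpg.exists_le_sylow
  have : Q = P := Subsingleton.elim _ _
  exact this ▸ hQ (mem_zpowers _)

theorem card_pel {X : Type*} [Group X] [Finite X] {p : ℕ} [Fact p.Prime] (P : Sylow p X)
    [hn : (P : Subgroup X).Normal] :
    Nat.card {x : X // ∃ k, orderOf x = p ^ k} = p ^ (Nat.card X).factorization p := by
  have hset : {x : X | ∃ k, orderOf x = p ^ k} = ((P : Subgroup X) : Set X) := by
    ext x
    constructor
    · rintro ⟨k, hk⟩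
      exact mem_of_pel P hk
    · intro hy
      obtain ⟨k, hk⟩ := (IsPGroup.iff_orderOf.mp P.2) ⟨x, hy⟩
      rw [Subgroup.orderOf_mk] at hk
      exact ⟨k, hk⟩
  have h1 : Nat.card {x : X // ∃ k, orderOf x = p ^ k} = Nat.card (P : Subgroup X) :=
    Nat.card_congr (Equiv.setCongr hset)
  rw [h1, Sylow.card_eq_multiplicity]

theorem orderOf_mk {X : Type*} [Group X] [Finite X] {p : ℕ} [hp : Fact p.Prime] (P : Sylow p X)
    [hn : (P : Subgroup X).Normal] (x : X) :
    orderOf (x : X ⧸ (P : Subgroup X)) = ordCompl[p] (orderOf x) := by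
  have ho : orderOf x ≠ 0 := (orderOf_pos x).ne'
  apply Nat.dvd_antisymm
  · apply orderOf_dvd_of_pow_eq_one
    rw [← QuotientGroup.mk_pow, QuotientGroup.eq_one_iff]
    apply mem_of_pel P (k := (orderOf x).factorization p)
    rw [orderOf_pow_of_dvd (Nat.div_pos (Nat.ordProj_le p ho) (Nat.ordProj_pos _ p)).ne'
      (Nat.ordCompl_dvd _ p)]
    exact Nat.div_div_self (Nat.ordProj_dvd _ p) ho
  · have h1 : x ^ orderOf (x : X ⧸ (P : Subgroup X)) ∈ (P : Subgroup X) := by
      rw [← QuotientGroup.eq_one_iff, QuotientGroup.mk_pow, pow_orderOf_eq_one]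
    obtain ⟨j, hj⟩ := (IsPGroup.iff_orderOf.mp P.2) ⟨_, h1⟩
    rw [Subgroup.orderOf_mk] at hj
    have h2 : (x ^ orderOf (x : X ⧸ (P : Subgroup X))) ^ p ^ j = 1 := hj ▸ pow_orderOf_eq_one _
    rw [← pow_mul] at h2
    have h3 := orderOf_dvd_of_pow_eq_one h2
    have h4 : ordCompl[p] (orderOf x) ∣ orderOf (x : X ⧸ (P : Subgroup X)) * p ^ j :=
      (Nat.ordCompl_dvd _ p).trans h3
    exact Nat.Coprime.dvd_of_dvd_mul_right
      ((Nat.coprime_ordCompl hp.out ho).symm.pow_right j) h4

theorem card_fib {X : Type*} [Group X] [Finite X] (P : Subgroup X) [P.Normal] (pr : X ⧸ P → Prop) :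
    Nat.card {x : X // pr (x : X ⧸ P)} = Nat.card {q : X ⧸ P // pr q} * Nat.card P := by
  have h1 : ∀ x : X, (Subgroup.groupEquivQuotientProdSubgroup (s := P) x).1 = (x : X ⧸ P) :=
    fun x => rfl
  rw [← Nat.card_prod]
  refine Nat.card_congr (Equiv.trans (Equiv.subtypeEquiv
    (Subgroup.groupEquivQuotientProdSubgroup (s := P)) (q := fun y => pr y.1) ?_)
    Equiv.prodSubtypeFstEquivSubtypeProd)
  intro x
  rw [h1]

theorem aux (n : ℕ) : ∀ (G : Type u) (H : Type v) [Group G] [Finite G] [Group H] [Finite H],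
    Nat.card G = n → Cfsg.IsSupersolvable G →
    (∀ m : ℕ, Nat.card {g : G // orderOf g = m} = Nat.card {h : H // orderOf h = m}) →
    Group.IsSolvable H := by
  induction n using Nat.strong_induction_on with
  | _ n ih =>
  intro G H _ _ _ _ hn hG hT
  obtain ⟨e, he⟩ := Cfsg.Agent.S3999.exists_equiv' hT
  have hcard : Nat.card H = n := by rw [← hn]; exact (Nat.card_congr e).symm
  have hpos : 0 < n := hn ▸ Nat.card_pos
  by_cases h1 : n = 1
  · have : Subsingleton H := by
      rw [← Finite.card_le_one_iff_subsingleton, hcard, h1]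
    exact Group.isSolvable_of_top_eq_bot H (Subsingleton.elim _ _)
  obtain ⟨p, hp, hpn, hmax⟩ := Cfsg.Agent.S0533.exists_largest_prime n (by omega)
  have : Fact p.Prime := ⟨hp⟩
  let P : Sylow p G := default
  have hPn : (P : Subgroup G).Normal :=
    Cfsg.Agent.S0532.result (Cfsg.Agent.S0529.hereditary_clt hG) p (hn ▸ hpn) (hn ▸ hmax) P
  let Q : Sylow p H := default
  have hQn : (Q : Subgroup H).Normal := by
    apply Cfsg.Agent.S3999.sylow_normal_of_card
    rw [hcard, ← hn, ← card_pel P]
    refine (Nat.card_congr (e.subtypeEquiv ?_)).symm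
    intro x
    rw [he]
  have hPQ : Nat.card (P : Subgroup G) = Nat.card (Q : Subgroup H) := by
    rw [Sylow.card_eq_multiplicity, Sylow.card_eq_multiplicity, hn, hcard]
  have hlt : Nat.card (G ⧸ (P : Subgroup G)) < n := by
    have h2 := (P : Subgroup G).card_mul_index
    rw [hn, Subgroup.index_eq_card] at h2
    have h3 : 1 < Nat.card (P : Subgroup G) := by
      rw [Subgroup.one_lt_card_iff_ne_bot]
      exact P.ne_bot_of_dvd_card (hn ▸ hpn)
    have h4 : 0 < Nat.card (G ⧸ (P : Subgroup G)) := Nat.card_pos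
    nlinarith
  have hq : Group.IsSolvable (H ⧸ (Q : Subgroup H)) := by
    apply ih _ hlt (G ⧸ (P : Subgroup G)) (H ⧸ (Q : Subgroup H)) rfl
      (Cfsg.Agent.S0524.result hG ⊥ (P : Subgroup G)).2
    intro d
    have h5 := card_fib (P : Subgroup G) (fun q => orderOf q = d)
    have h6 := card_fib (Q : Subgroup H) (fun q => orderOf q = d)
    have h7 : Nat.card {x : G // orderOf (x : G ⧸ (P : Subgroup G)) = d} =
        Nat.card {x : H // orderOf (x : H ⧸ (Q : Subgroup H)) = d} := by
      refine Nat.card_congr (e.subtypeEquiv ?_)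
      intro x
      rw [orderOf_mk, orderOf_mk, he]
    rw [h5, h6, hPQ] at h7
    exact Nat.eq_of_mul_eq_mul_right Nat.card_pos h7
  have hQs : Group.IsSolvable (Q : Subgroup H) := by
    have := Q.2.isNilpotent
    exact IsNilpotent.to_isSolvable
  exact Group.isSolvable_of_ker_le_range (Q : Subgroup H).subtype
    (QuotientGroup.mk' (Q : Subgroup H)) (by simp)

/-- Let G and H be finite groups with the same order type (for every m the same number of elements of order m). If G is supersolvable then H is solvable. -/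
theorem result {G H : Type*} [Group G] [Finite G] [Group H] [Finite H] (hT : (∀ m : ℕ, Nat.card {g : G // orderOf g = m} = Nat.card {h : H // orderOf h = m})) (hG : Cfsg.IsSupersolvable G) :
    Group.IsSolvable H := by
  exact aux _ G H rfl hG hT

end Cfsg.Agent.S3998
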