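import Cfsg.Statements.S4001
import Cfsg.Agent.Lib.Helper71TwoFrob
-- import your own Cfsg.Agent.* helpers here

set_option autoImplicit false
open Cfsg Cfsg.Agent.Lib.Helper71TwoFrob

namespace Cfsg.Agent.S4001

/-- Let G be a 2-Frobenius group: it has normal subgroups H < K with K a Frobenius group with kernel H and G/H a Frobenius group with kernel K/H. Then G is solvable; K/H has odd order coprime to the order of H and to the order of G/K (it is the image of an odd-order Hall subgroup); G/K is cyclic; and the prime graph of G has exactly two connected components, both complete: for distinct primes p, q dividing the order of G, G has an element of order pq exactly when p and q either both divide the order of K/H or both do not. -/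
theorem result {G : Type*} [Group G] [Finite G] (H K : Subgroup G) [H.Normal] [K.Normal] (hlt : H < K)
    (hK : ∃ C : Subgroup ↥K, Cfsg.IsFrobeniusComplement C ∧ Cfsg.frobeniusKernel C = (H.subgroupOf K : Set ↥K))
    (hGH : ∃ C : Subgroup (G ⧸ H), Cfsg.IsFrobeniusComplement C ∧ Cfsg.frobeniusKernel C = (K.map (QuotientGroup.mk' H) : Set (G ⧸ H))) :
    Group.IsSolvable G ∧ Odd (Nat.card (↥K ⧸ H.subgroupOf K)) ∧
      Nat.Coprime (Nat.card (↥K ⧸ H.subgroupOf K)) (Nat.card ↥H * Nat.card (G ⧸ K)) ∧ IsCyclic (G ⧸ K) ∧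
      ∀ p q : ℕ, p.Prime → q.Prime → p ≠ q → p ∣ Nat.card G → q ∣ Nat.card G →
        ((∃ g : G, orderOf g = p * q) ↔ (p ∣ Nat.card (↥K ⧸ H.subgroupOf K) ↔ q ∣ Nat.card (↥K ⧸ H.subgroupOf K))) := by
  obtain ⟨C₁, hC₁, hk₁⟩ := hK
  obtain ⟨C₂, hC₂, hk₂⟩ := hGH
  have h₁ : FD (H.subgroupOf K) C₁ := ⟨hC₁, hk₁⟩
  have h₂ : FD (K.map (QuotientGroup.mk' H)) C₂ := ⟨hC₂, hk₂⟩
  have hle : H ≤ K := hlt.le
  have hb := card_C₁ h₁
  have hc := card_C₂ hle h₂
  have hcop := coprime_card hle h₁ h₂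
  have hcyc := isCyclic_quot hle h₁ h₂
  have hcyc₁ := isCyclic_C₁ h₁ h₂
  have hcardK : Nat.card K = Nat.card H * Nat.card C₁ := by
    rw [← h₁.compl.card_mul_card, Cfsg.Agent.Lib.Helper1Basic.card_subgroupOf_of_le hle]
  have hcardG : Nat.card G = Nat.card C₂ * (Nat.card H * Nat.card C₁) := by
    rw [Subgroup.card_eq_card_quotient_mul_card_subgroup K, hc, hcardK]
  have hnil : Group.IsNilpotent H := by
    have := h₁.nilpotent
    exact Group.nilpotent_of_mulEquiv (Subgroup.subgroupOfEquivOfLe hle)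
  refine ⟨isSolvable hle h₁ h₂, ?_, ?_, hcyc, ?_⟩
  · rw [hb]; exact odd_card h₁ h₂
  · rw [hb, hc]; exact hcop
  rw [hb]
  -- one direction, symmetric in `p`, `q`
  have key : ∀ p q : ℕ, p.Prime → q.Prime → p ≠ q → (∃ g : G, orderOf g = p * q) →
      p ∣ Nat.card C₁ → q ∣ Nat.card C₁ := by
    intro p q hp hq hpq ⟨g, hg⟩ hpb
    have hx : orderOf (g ^ q) = p := by
      rw [orderOf_pow_of_dvd hq.ne_zero (by rw [hg]; exact dvd_mul_left _ _), hg,
        Nat.mul_div_cancel _ hq.pos]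
    have hy : orderOf (g ^ p) = q := by
      rw [orderOf_pow_of_dvd hp.ne_zero (by rw [hg]; exact dvd_mul_right _ _), hg,
        Nat.mul_div_cancel_left _ hp.pos]
    have hcomm : Commute (g ^ q) (g ^ p) := (Commute.refl g).pow_pow q p
    have hpa : Nat.Coprime p (Nat.card H) :=
      Nat.Coprime.coprime_dvd_left hpb hcop.coprime_mul_right_right
    have hpc : Nat.Coprime p (Nat.card C₂) :=
      Nat.Coprime.coprime_dvd_left hpb hcop.coprime_mul_left_right
    have hxK : g ^ q ∈ K := by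
      rw [← QuotientGroup.eq_one_iff, ← orderOf_eq_one_iff]
      have h1 : orderOf ((g ^ q : G) : G ⧸ K) ∣ p := hx ▸ orderOf_map_dvd (QuotientGroup.mk' K) (g ^ q)
      have h2 : orderOf ((g ^ q : G) : G ⧸ K) ∣ Nat.card C₂ := hc ▸ orderOf_dvd_natCard _
      exact Nat.eq_one_of_dvd_coprimes hpc h1 h2
    have hxH : g ^ q ∉ H := by
      intro h0
      have h1 : p ∣ Nat.card H := hx ▸ Subgroup.orderOf_dvd_natCard H h0
      exact (Nat.Prime.coprime_iff_not_dvd hp).mp hpa h1
    by_cases hyK : g ^ p ∈ K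
    · exact hy ▸ F2 h₁ hxK hxH hyK hcomm
    · exact absurd (F3 hle h₂ hyK hxK hcomm.symm) hxH
  intro p q hp hq hpq hpG hqG
  constructor
  · intro hg
    refine ⟨key p q hp hq hpq hg, key q p hq hp hpq.symm ?_⟩
    obtain ⟨g, hg⟩ := hg
    exact ⟨g, by rw [hg, mul_comm]⟩
  · intro hiff
    have hpqc : Nat.Coprime p q := (Nat.coprime_primes hp hq).mpr hpq
    by_cases hpb : p ∣ Nat.card C₁
    · have hqb := hiff.mp hpb
      obtain ⟨x, hx⟩ := exists_orderOf_of_cyclic (X := C₁) (hpqc.mul_dvd_of_dvd_of_dvd hpb hqb)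
      exact ⟨x.1.1, by rw [Subgroup.orderOf_coe, Subgroup.orderOf_coe, hx]⟩
    · have hqb : ¬ q ∣ Nat.card C₁ := fun h0 => hpb (hiff.mpr h0)
      have hsplit : ∀ r : ℕ, r.Prime → r ∣ Nat.card G → ¬ r ∣ Nat.card C₁ →
          r ∣ Nat.card H ∨ (¬ r ∣ Nat.card K ∧ r ∣ Nat.card (G ⧸ K)) := by
        intro r hr hrG hrb
        by_cases hrH : r ∣ Nat.card H
        · exact Or.inl hrH
        · right
          have h1 : ¬ r ∣ Nat.card K := by
            rw [hcardK]
            intro h0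
            rcases (Nat.Prime.dvd_mul hr).mp h0 with h0 | h0
            · exact hrH h0
            · exact hrb h0
          refine ⟨h1, ?_⟩
          rw [hcardG, ← hcardK] at hrG
          rcases (Nat.Prime.dvd_mul hr).mp hrG with h0 | h0
          · rw [hc]; exact h0
          · exact absurd h0 h1
      rcases hsplit p hp hpG hpb with hpH | ⟨hpK, hpQ⟩
      · rcases hsplit q hq hqG hqb with hqH | ⟨hqK, hqQ⟩
        · obtain ⟨x, hx⟩ := exists_orderOf_of_nilpotent (X := H) hp hq hpq hpH hqH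
          exact ⟨x.1, by rw [Subgroup.orderOf_coe, hx]⟩
        · exact exists_orderOf_mixed hle h₁ h₂ hp hq hpH hqK hqQ
      · rcases hsplit q hq hqG hqb with hqH | ⟨hqK, hqQ⟩
        · obtain ⟨g, hg⟩ := exists_orderOf_mixed hle h₁ h₂ hq hp hqH hpK hpQ
          exact ⟨g, by rw [hg, mul_comm]⟩
        · obtain ⟨y, hy⟩ := exists_orderOf_of_cyclic (X := G ⧸ K) (hpqc.mul_dvd_of_dvd_of_dvd hpQ hqQ)
          obtain ⟨x, hx⟩ := exists_orderOf_of_surjective (QuotientGroup.mk' K)
            (QuotientGroup.mk'_surjective K) y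
          exact ⟨x, by rw [hx, hy]⟩

end Cfsg.Agent.S4001
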