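import Cfsg.Statements.S4014
-- import your own Cfsg.Agent.* helpers here
import Mathlib

set_option autoImplicit false
open Cfsg

namespace Cfsg.Agent.S4014


open scoped commutatorElement

lemma derived_succ_eq {Q : Type*} [Group Q] (k : ℕ) :
    derivedSeries Q (k + 1) = (derivedSeries ↥(commutator Q) k).map (commutator Q).subtype := by
  induction k with
  | zero =>
    rw [derivedSeries_succ, derivedSeries_zero, derivedSeries_zero, ← MonoidHom.range_eq_map,
      Subgroup.range_subtype]
    rfl
  | succ k ih =>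
    rw [derivedSeries_succ, ih, derivedSeries_succ, Subgroup.map_commutator]

theorem upper {X : Type*} [Finite X] (p : ℕ) [Fact p.Prime] (k : ℕ) :
    ∀ (Q : Type) [Group Q] [Finite Q] [MulAction Q X] [FaithfulSMul Q X], IsPGroup p Q →
      (∀ x : X, (MulAction.orbit Q x).ncard < p ^ (k + 1)) → derivedSeries Q k = ⊥ := by
  have hp : p.Prime := Fact.out
  induction k with
  | zero =>
    intro Q _ _ _ _ hQ h
    rw [derivedSeries_zero, eq_bot_iff]
    intro q _
    rw [Subgroup.mem_bot]
    apply FaithfulSMul.eq_of_smul_eq_smul (α := X)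
    intro x
    rw [one_smul]
    obtain ⟨j, hj⟩ := hQ.index (MulAction.stabilizer Q x)
    have h1 := h x
    rw [← MulAction.index_stabilizer, hj, zero_add, pow_one] at h1
    have hj0 : j = 0 := by
      by_contra hne
      have h2 : p ^ 1 ≤ p ^ j := Nat.pow_le_pow_right hp.pos (Nat.one_le_iff_ne_zero.mpr hne)
      rw [pow_one] at h2
      omega
    rw [hj0, pow_zero, Subgroup.index_eq_one] at hj
    have h3 : q ∈ MulAction.stabilizer Q x := by rw [hj]; trivial
    exact h3
  | succ k ih =>
    intro Q _ _ _ _ hQ h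
    have key : derivedSeries ↥(commutator Q) k = ⊥ := by
      refine ih _ (hQ.to_subgroup _) (fun x => ?_)
      by_cases hS : MulAction.stabilizer Q x = ⊤
      · have hsub : MulAction.orbit ↥(commutator Q) x ⊆ {x} := by
          rintro _ ⟨c, rfl⟩
          have h3 : (c : Q) ∈ MulAction.stabilizer Q x := by rw [hS]; trivial
          exact h3
        calc (MulAction.orbit ↥(commutator Q) x).ncard ≤ ({x} : Set X).ncard :=
              Set.ncard_le_ncard hsub (Set.finite_singleton x)
          _ = 1 := Set.ncard_singleton x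
          _ < p ^ (k + 1) := Nat.one_lt_pow (by omega) hp.one_lt
      · obtain ⟨b, hb⟩ := IsPGroup.iff_card.mp hQ
        obtain ⟨a, ha⟩ := IsPGroup.iff_card.mp (hQ.to_subgroup (MulAction.stabilizer Q x))
        have hab : a < b := by
          have hle : p ^ a ≤ p ^ b := by
            rw [← ha, ← hb]; exact Subgroup.card_le_card_group _
          have hle' : a ≤ b := (Nat.pow_le_pow_iff_right hp.one_lt).mp hle
          rcases Nat.lt_or_ge a b with h1 | h1
          · exact h1
          · exfalso
            apply hS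
            apply Subgroup.eq_top_of_card_eq
            rw [ha, hb, le_antisymm hle' h1]
        obtain ⟨M, hM, hSM⟩ := Sylow.exists_subgroup_card_pow_prime_le p
          (n := a) (m := b - 1) (by rw [hb]; exact pow_dvd_pow p (by omega))
          (MulAction.stabilizer Q x) ha (by omega)
        have hidx : M.index = p := by
          have h1 := M.card_mul_index
          rw [hM, hb] at h1
          have h2 : p ^ b = p ^ (b - 1) * p := by
            rw [← pow_succ]; congr 1; omega
          rw [h2] at h1
          exact Nat.eq_of_mul_eq_mul_left (pow_pos hp.pos _) h1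
        haveI hMn : M.Normal := Subgroup.normal_of_index_eq_minFac_card (by
          rw [hidx, hb, Nat.Prime.pow_minFac hp (by omega)])
        have hcM : commutator Q ≤ M := by
          apply Subgroup.Normal.quotient_commutative_iff_commutator_le.mp
          have hc : Nat.card (Q ⧸ M) = p := hidx
          haveI := isCyclic_of_prime_card hc
          exact ⟨⟨fun u v => (IsCyclic.commGroup (α := Q ⧸ M)).mul_comm u v⟩⟩
        have hsub : MulAction.orbit ↥(commutator Q) x ⊆ MulAction.orbit ↥M x := by
          rintro _ ⟨c, rfl⟩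
          exact ⟨⟨(c : Q), hcM c.2⟩, rfl⟩
        have hst : MulAction.stabilizer ↥M x = (MulAction.stabilizer Q x).subgroupOf M := by
          ext m
          rfl
        have h1 : (MulAction.orbit ↥M x).ncard * p = (MulAction.orbit Q x).ncard := by
          rw [← MulAction.index_stabilizer, ← MulAction.index_stabilizer, hst, ← hidx]
          exact Subgroup.relIndex_mul_index hSM
        have h2 := h x
        rw [← h1, pow_succ] at h2
        have h3 : (MulAction.orbit ↥M x).ncard < p ^ (k + 1) := Nat.lt_of_mul_lt_mul_right h2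
        exact lt_of_le_of_lt (Set.ncard_le_ncard hsub (Set.toFinite _)) h3
    rw [derived_succ_eq, key, Subgroup.map_bot]

open RegularWreathProduct in
/-- projection of the part of `S` inside the base group onto the coordinate `1` -/
def T {D Q : Type*} [Group D] [Group Q] (S : Subgroup (D ≀ᵣ Q)) : Subgroup D where
  carrier := {d | ∃ w ∈ S, w.right = 1 ∧ w.left 1 = d}
  mul_mem' := by
    rintro _ _ ⟨w, hw, hr, rfl⟩ ⟨w', hw', hr', rfl⟩
    exact ⟨w * w', S.mul_mem hw hw', by simp [hr, hr'], by simp [hr]⟩
  one_mem' := ⟨1, S.one_mem, rfl, rfl⟩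
  inv_mem' := by
    rintro _ ⟨w, hw, hr, rfl⟩
    exact ⟨w⁻¹, S.inv_mem hw, by simp [hr], by simp [hr]⟩

open RegularWreathProduct in
lemma T_comm {D Q : Type*} [Group D] [Group Q] (S : Subgroup (D ≀ᵣ Q)) :
    ⁅T S, T S⁆ ≤ T ⁅S, S⁆ := by
  rw [Subgroup.commutator_le]
  rintro _ ⟨w, hw, hr, rfl⟩ _ ⟨w', hw', hr', rfl⟩
  refine ⟨⁅w, w'⁆, Subgroup.commutator_mem_commutator hw hw', ?_, ?_⟩
  · simp [commutatorElement_def, hr, hr']
  · simp [commutatorElement_def, hr, hr']

open RegularWreathProduct in
lemma le_T {D Q : Type*} [Group D] [Group Q] [DecidableEq Q] {q : Q} (hq : q ≠ 1) (j : ℕ) :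
    derivedSeries D j ≤ T (derivedSeries (D ≀ᵣ Q) (j + 1)) := by
  induction j with
  | zero =>
    intro d _
    refine ⟨⁅(⟨Pi.mulSingle 1 d, 1⟩ : D ≀ᵣ Q), inl q⁆, ?_, ?_, ?_⟩
    · rw [derivedSeries_succ, derivedSeries_zero]
      exact Subgroup.commutator_mem_commutator (Subgroup.mem_top _) (Subgroup.mem_top _)
    · simp [commutatorElement_def]
    · have h1 : q⁻¹ ≠ 1 := inv_ne_one.mpr hq
      simp [commutatorElement_def, Pi.mulSingle_eq_of_ne h1]
  | succ j ih =>
    rw [derivedSeries_succ, derivedSeries_succ (D ≀ᵣ Q) (j + 1)]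
    exact le_trans (Subgroup.commutator_mono ih ih) (T_comm _)

open RegularWreathProduct in
lemma wreath_ne_bot {D Q : Type*} [Group D] [Group Q] {q : Q} (hq : q ≠ 1) (j : ℕ)
    (h : derivedSeries D j ≠ ⊥) : derivedSeries (D ≀ᵣ Q) (j + 1) ≠ ⊥ := by
  classical
  intro h0
  apply h
  rw [eq_bot_iff]
  intro d hd
  obtain ⟨w, hw, _, rfl⟩ := le_T hq j hd
  rw [h0, Subgroup.mem_bot] at hw
  rw [hw]
  rfl

open RegularWreathProduct in
theorem lower (p : ℕ) [Fact p.Prime] (k : ℕ) :
    ∃ (W : Type) (_ : Group W) (_ : Finite W) (Y : Type) (_ : Finite Y) (_ : Nonempty Y)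
      (_ : MulAction W Y) (_ : FaithfulSMul W Y),
      IsPGroup p W ∧ Nat.card Y = p ^ (k + 1) ∧ derivedSeries W k ≠ ⊥ := by
  have hp : p.Prime := Fact.out
  induction k with
  | zero =>
    refine ⟨Multiplicative (ZMod p), inferInstance, inferInstance, Multiplicative (ZMod p),
      inferInstance, inferInstance, inferInstance, inferInstance, ?_, ?_, ?_⟩
    · exact IsPGroup.of_card (n := 1) (by simp)
    · simp
    · rw [derivedSeries_zero]
      haveI : Nontrivial (Multiplicative (ZMod p)) := inferInstanceAs (Nontrivial (ZMod p))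
      exact top_ne_bot
  | succ k ih =>
    obtain ⟨W, _, _, Y, _, _, _, _, hW, hY, hd⟩ := ih
    refine ⟨W ≀ᵣ Multiplicative (ZMod p), inferInstance, inferInstance,
      Y × Multiplicative (ZMod p), inferInstance, inferInstance, inferInstance, inferInstance,
      ?_, ?_, ?_⟩
    · obtain ⟨b, hb⟩ := IsPGroup.iff_card.mp hW
      refine IsPGroup.of_card (n := b * p + 1) ?_
      rw [RegularWreathProduct.card, hb]
      simp [pow_succ, pow_mul]
    · rw [Nat.card_prod, hY]
      simp [pow_succ]
    · haveI : Nontrivial (Multiplicative (ZMod p)) := inferInstanceAs (Nontrivial (ZMod p))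
      obtain ⟨q, hq⟩ := exists_ne (1 : Multiplicative (ZMod p))
      exact wreath_ne_bot hq k hd

lemma ne_bot_of_injective {W H : Type*} [Group W] [Group H] (g : W →* H)
    (hg : Function.Injective g) (j : ℕ) (h : derivedSeries W j ≠ ⊥) : derivedSeries H j ≠ ⊥ := by
  intro h0
  apply h
  have h1 := map_derivedSeries_le_derivedSeries g j
  rw [h0, le_bot_iff] at h1
  exact (Subgroup.map_eq_bot_iff_of_injective _ hg).mp h1


/-- Let p be a prime, n ≥ 1, and P a Sylow p-subgroup of the symmetric group on n letters. Then the derived length of P is exactly k = ⌊log_p n⌋ (the largest k with p^k ≤ n): the k-th derived subgroup of P is trivial and, when k ≥ 1, the (k−1)-st is not. -/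
theorem result (p : ℕ) [Fact p.Prime] (n : ℕ) (hn : 1 ≤ n) (P : Sylow p (Equiv.Perm (Fin n))) : derivedSeries ↥(P : Subgroup (Equiv.Perm (Fin n))) (Nat.log p n) = ⊥ ∧ (1 ≤ Nat.log p n → derivedSeries ↥(P : Subgroup (Equiv.Perm (Fin n))) (Nat.log p n - 1) ≠ ⊥) := by
  have hp : p.Prime := Fact.out
  constructor
  · refine upper (X := Fin n) p (Nat.log p n) ↥(P : Subgroup (Equiv.Perm (Fin n))) P.2 (fun x => ?_)
    calc (MulAction.orbit ↥(P : Subgroup (Equiv.Perm (Fin n))) x).ncard
        ≤ (Set.univ : Set (Fin n)).ncard := Set.ncard_le_ncard (Set.subset_univ _) Set.finite_univ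
      _ = n := by rw [Set.ncard_univ, Nat.card_fin]
      _ < p ^ (Nat.log p n + 1) := Nat.lt_pow_succ_log_self hp.one_lt n
  · intro hk
    obtain ⟨W, _, _, Y, _, _, _, _, hW, hY, hd⟩ := lower p (Nat.log p n - 1)
    have hYn : Nat.card Y ≤ n := by
      rw [hY, Nat.sub_add_cancel hk]
      exact Nat.pow_log_le_self p (by omega)
    haveI := Fintype.ofFinite Y
    classical
    obtain ⟨ι⟩ : Nonempty (Y ↪ Fin n) := Function.Embedding.nonempty_of_card_le (by
      rw [Fintype.card_fin, ← Nat.card_eq_fintype_card]; exact hYn)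
    let f : W →* Equiv.Perm (Fin n) :=
      (Equiv.Perm.viaEmbeddingHom ι).comp (MulAction.toPermHom W Y)
    have hf : Function.Injective f :=
      (Equiv.Perm.viaEmbeddingHom_injective ι).comp MulAction.toPerm_injective
    have hr : IsPGroup p f.range := hW.of_surjective f.rangeRestrict f.rangeRestrict_surjective
    obtain ⟨P', hP'⟩ := hr.exists_le_sylow
    let g : W →* ↥(P : Subgroup (Equiv.Perm (Fin n))) :=
      (P'.equiv P).toMonoidHom.comp ((Subgroup.inclusion hP').comp f.rangeRestrict)
    have hg : Function.Injective g := by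
      refine (P'.equiv P).injective.comp ((Subgroup.inclusion_injective hP').comp ?_)
      exact MonoidHom.rangeRestrict_injective_iff.mpr hf
    exact ne_bot_of_injective g hg _ hd

end Cfsg.Agent.S4014
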