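import Cfsg.Statements.S4040
import Cfsg.Agent.S0108
import Cfsg.Agent.Lib.Helper13Thompson2
import Cfsg.Agent.Lib.Helper1SylowInv
import Cfsg.Agent.Lib.Helper31Nilpotent
import Cfsg.Agent.Lib.Helper74Pronormal

set_option autoImplicit false
set_option linter.unusedSectionVars false
open Cfsg

namespace Cfsg.Agent.S4040

open Subgroup Cfsg.Agent.Lib.Helper40Sylow Cfsg.Agent.Lib.Helper11Frobenius
  Cfsg.Agent.Lib.Helper74Pronormal Cfsg.Agent.Lib.Helper13Thompson2

theorem hasNPC_of_nilpotent (X : Type*) [Group X] [Finite X] [Group.IsNilpotent X] (p : ℕ)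
    [Fact p.Prime] : Cfsg.HasNormalPComplement p X := by
  rw [← hasNPC_iff, hasNPC_iff_frobCond]
  intro Q hQ g _ hg
  rw [mem_centralizer_iff]
  intro y hy
  obtain ⟨j, hj⟩ := (IsPGroup.iff_orderOf.mp hQ) ⟨y, hy⟩
  rw [Subgroup.orderOf_mk] at hj
  apply Cfsg.Agent.Lib.Helper31Nilpotent.coprime_commute X y g
  rw [hj]
  exact Nat.Coprime.pow_left j hg.symm

section Core

variable {G : Type*} [Group G] [Finite G] (M : Subgroup G) (hmax : IsCoatom M)
  (hnil : Group.IsNilpotent M) (hcore : M.normalCore = ⊥)

include hmax hcore in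
theorem normalizer_eq (C : Subgroup G) (hC : C ≠ ⊥) (hCM : C ≤ M)
    (hMC : M ≤ normalizer (C : Set G)) : normalizer (C : Set G) = M := by
  rcases hmax.le_iff.mp hMC with h | h
  · exfalso
    have hn : C.Normal := normalizer_eq_top_iff.1 h
    have : C ≤ M.normalCore := normal_le_normalCore.2 hCM
    rw [hcore, le_bot_iff] at this
    exact hC this
  · exact h

include hmax hcore in
theorem centralizer_eq (C : Subgroup G) (hC : C ≠ ⊥) (hCM : C ≤ M)
    (hMC : M ≤ centralizer (C : Set G)) : centralizer (C : Set G) = M := by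
  have h1 := normalizer_eq M hmax hcore C hC hCM (hMC.trans (centralizer_le_normalizer _))
  apply le_antisymm _ hMC
  rw [← h1]
  exact centralizer_le_normalizer _

include hmax hnil hcore in
theorem key (p : ℕ) [hp : Fact p.Prime] (hp2 : p ≠ 2) (hpM : p ∣ Nat.card M) :
    HasNPC p G ∧ ∃ P : Sylow p G, (P : Subgroup G) ≤ M := by
  obtain ⟨P0⟩ : Nonempty (Sylow p M) := inferInstance
  have hPs : IsSylowIn p ((P0 : Subgroup M).map M.subtype) M := isSylowIn_of_sylow P0
  have hMP : M ≤ normalizer (((P0 : Subgroup M).map M.subtype : Subgroup G) : Set G) := by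
    intro m hm
    rw [mem_normalizer_iff_cj]
    have h1 := map_cj M.subtype ⟨m, hm⟩ (P0 : Subgroup M)
    rw [cj_normal] at h1
    exact h1.symm
  have hPne : (P0 : Subgroup M).map M.subtype ≠ ⊥ := by
    rw [Ne, map_eq_bot_iff_of_injective _ M.subtype_injective]
    exact P0.ne_bot_of_dvd_card hpM
  have hmemP : ∀ x : M, (x : G) ∈ (P0 : Subgroup M).map M.subtype ↔ x ∈ P0 := by
    intro x
    constructor
    · rintro ⟨y, hy, hyx⟩
      have : y = x := Subtype.ext hyx
      rw [← this]; exact hy
    · intro hx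
      exact ⟨x, hx, rfl⟩
  generalize hP : (P0 : Subgroup M).map M.subtype = P at hPs hMP hPne hmemP
  have hNP := normalizer_eq M hmax hcore P hPne hPs.1 hMP
  have hPtop : IsSylowIn p P ⊤ := by
    obtain ⟨R, hR, hPR⟩ := exists_isSylowIn_ge (H := ⊤) hPs.2.1 le_top
    rcases hPR.eq_or_lt with h | h
    · rw [h]; exact hR
    · exfalso
      have h1 := exists_mem_normalizer_not_mem R P hR.2.1 h
      rw [hNP] at h1
      have h2 := hPs.eq_of_le (hR.2.1.to_le inf_le_left) inf_le_right (le_inf hPR hPs.1)
      exact h1.ne h2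
  obtain ⟨PS, hPS⟩ := exists_sylow_of_isSylowIn_top hPtop
  refine ⟨?_, PS, by rw [hPS]; exact hPs.1⟩
  rw [hasNPC_iff, Cfsg.Agent.S0108.result hp2 PS]
  constructor
  · -- the Thompson subgroup
    rw [hPS]
    have hJne : Cfsg.thompsonSubgroupOf p P ≠ ⊥ := by
      obtain ⟨A, hA⟩ := exists_relMax p P
      have hAJ : A ≤ Cfsg.thompsonSubgroupOf p P := by
        rw [thompsonOf_eq]; exact le_sSup hA
      have hcardP : p ∣ Nat.card P := by
        obtain ⟨n, hn⟩ := IsPGroup.iff_card.mp hPs.2.1
        rw [hn]
        apply dvd_pow_self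
        rintro rfl
        rw [pow_zero, card_eq_one] at hn
        exact hPne hn
      obtain ⟨x, hx⟩ := exists_prime_orderOf_dvd_card' p hcardP
      have hx' : orderOf (x : G) = p := by rw [Subgroup.orderOf_coe]; exact hx
      have hel : Cfsg.IsElementaryAbelian p (zpowers (x : G)) := by
        refine ⟨inferInstance, ?_⟩
        intro a ha
        obtain ⟨k, rfl⟩ := mem_zpowers_iff.1 ha
        rw [← zpow_natCast, ← zpow_mul, mul_comm, zpow_mul, zpow_natCast, ← hx', pow_orderOf_eq_one,
          one_zpow]
      have h1 := hA.2.2 (zpowers (x : G)) (by rw [zpowers_le]; exact x.2) hel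
      rw [Nat.card_zpowers, hx'] at h1
      intro hbot
      rw [hbot, le_bot_iff] at hAJ
      rw [hAJ, card_bot] at h1
      exact absurd h1 (by have := hp.out.two_le; omega)
    have hJ := normalizer_eq M hmax hcore _ hJne ((thompsonOf_le_self p P).trans hPs.1)
      (by rw [← hNP]; exact normalizer_le_normalizer_thompsonOf p P)
    rw [hJ]
    exact hasNPC_of_nilpotent M p
  · -- the centre
    have hZne : P ⊓ centralizer (P : Set G) ≠ ⊥ := by
      have : Nontrivial P := by
        rw [nontrivial_iff_ne_bot]; exact hPne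
      have hc := hPs.2.1.center_nontrivial
      obtain ⟨z, hz⟩ := exists_ne (1 : center P)
      intro hbot
      apply hz
      have h1 : ((z : P) : G) ∈ P ⊓ centralizer (P : Set G) := by
        refine ⟨(z : P).2, ?_⟩
        show ((z : P) : G) ∈ centralizer (P : Set G)
        rw [mem_centralizer_iff]
        intro y hy
        have := mem_center_iff.1 z.2 ⟨y, hy⟩
        exact congrArg Subtype.val this
      rw [hbot, mem_bot] at h1
      exact Subtype.ext (Subtype.ext h1)
    have hMZ : M ≤ centralizer ((P ⊓ centralizer (P : Set G) : Subgroup G) : Set G) := by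
      intro m hm
      rw [mem_centralizer_iff]
      intro z hz
      obtain ⟨j, hj⟩ := (IsPGroup.iff_orderOf.mp hPs.2.1) ⟨z, hz.1⟩
      rw [Subgroup.orderOf_mk] at hj
      have h1 := Cfsg.Agent.Lib.Helper31Nilpotent.central_of_commute_p (N := M) (p := p)
        ⟨z, hPs.1 hz.1⟩ (j := j) (by rw [Subgroup.orderOf_mk]; exact hj) (by
          intro x k hx
          have hxP : (x : G) ∈ P :=
            (hmemP x).2 (Cfsg.Agent.Lib.Helper31Nilpotent.mem_sylow_of_orderOf P0 x hx)
          apply Subtype.ext
          exact mem_centralizer_iff.1 hz.2 x hxP) ⟨m, hm⟩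
      exact (congrArg Subtype.val h1).symm
    have hZ := centralizer_eq M hmax hcore _ hZne (inf_le_left.trans hPs.1) hMZ
    change Cfsg.HasNormalPComplement p ↥(centralizer
      (((PS : Subgroup G) ⊓ centralizer ((PS : Subgroup G) : Set G) : Subgroup G) : Set G))
    rw [hPS, hZ]
    exact hasNPC_of_nilpotent M p

include hmax hnil hcore in
theorem corefree (hodd : Odd (Nat.card M)) : Group.IsSolvable G := by
  have hp2 : ∀ p : ℕ, p ∣ Nat.card M → p ≠ 2 := by
    rintro p hp rfl
    exact (Nat.not_even_iff_odd.2 hodd) (even_iff_two_dvd.2 hp)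
  -- a prime dividing the index
  have hidx : M.index ≠ 1 := by
    rw [Ne, index_eq_one]; exact hmax.1
  obtain ⟨q, hq, hqM⟩ := Nat.exists_prime_and_dvd hidx
  have : Fact q.Prime := ⟨hq⟩
  have hqM' : ¬ q ∣ Nat.card M := by
    intro h
    obtain ⟨-, P, hP⟩ := key M hmax hnil hcore q (hp2 q h) h
    exact P.not_dvd_index (hqM.trans (index_dvd_of_le hP))
  have hqG : q ∣ Nat.card G := hqM.trans (index_dvd_card M)
  -- the intersection of the normal complements
  have hKn : (sInf {N : Subgroup G | N.Normal ∧ ∃ p k : ℕ, p.Prime ∧ p ∣ Nat.card M ∧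
      (Nat.card N).Coprime p ∧ N.index = p ^ k}).Normal := by
    constructor
    intro n hn g
    rw [mem_sInf] at hn ⊢
    intro N hN
    exact hN.1.conj_mem n (hn N hN) g
  generalize hK : sInf {N : Subgroup G | N.Normal ∧ ∃ p k : ℕ, p.Prime ∧ p ∣ Nat.card M ∧
      (Nat.card N).Coprime p ∧ N.index = p ^ k} = K at hKn
  have hcop : (Nat.card M).Coprime (Nat.card K) := by
    apply Nat.coprime_of_dvd
    intro p hp hpM hpK
    have : Fact p.Prime := ⟨hp⟩
    obtain ⟨⟨N, hN, hNc, k, hk⟩, -⟩ := key M hmax hnil hcore p (hp2 p hpM) hpM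
    have hKN : K ≤ N := by
      rw [← hK]; exact sInf_le ⟨hN, p, k, hp, hpM, hNc, hk⟩
    have h1 : p ∣ Nat.card N := hpK.trans (card_dvd_of_le hKN)
    exact (Nat.Prime.coprime_iff_not_dvd hp).1 hNc.symm h1
  obtain ⟨Q1⟩ : Nonempty (Sylow q G) := inferInstance
  have hQ1K : (Q1 : Subgroup G) ≤ K := by
    intro x hx
    rw [← hK, mem_sInf]
    rintro N ⟨hN, p, k, hp, hpM, hNc, hk⟩
    have : Fact p.Prime := ⟨hp⟩
    rw [mem_iff_coprime N hNc k hk x]
    obtain ⟨j, hj⟩ := (IsPGroup.iff_orderOf.mp Q1.2) ⟨x, hx⟩
    rw [Subgroup.orderOf_mk] at hj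
    rw [hj]
    apply Nat.Coprime.pow_left
    rw [Nat.coprime_primes hq hp]
    rintro rfl
    exact hqM' hpM
  have hqK : q ∣ Nat.card K :=
    (Q1.dvd_card_of_dvd_card hqG).trans (card_dvd_of_le hQ1K)
  obtain ⟨Q, hQ⟩ := Cfsg.Agent.Lib.Helper1SylowInv.exists_invariant_sylow M K
    (by rw [normalizer_eq_top_iff.2 hKn]; exact le_top) hcop (Or.inl inferInstance) q
  have hQp : IsPGroup q ((Q : Subgroup K).map K.subtype) := Q.2.map _
  have hQcard : q ∣ Nat.card ((Q : Subgroup K).map K.subtype) := by
    rw [card_map_of_injective K.subtype_injective]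
    exact Q.dvd_card_of_dvd_card hqK
  generalize (Q : Subgroup K).map K.subtype = Q' at hQ hQp hQcard
  have hQM : ¬ Q' ≤ M := fun h => hqM' (hQcard.trans (card_dvd_of_le h))
  have htop : Q' ⊔ M = ⊤ := by
    apply hmax.2
    apply lt_of_le_of_ne le_sup_right
    intro h
    apply hQM
    rw [h]; exact le_sup_left
  have hQn : Q'.Normal := by
    rw [← normalizer_eq_top_iff, eq_top_iff, ← htop]
    exact sup_le le_normalizer hQ
  have hs1 : Group.IsSolvable Q' := by
    have := hQp.isNilpotent
    infer_instance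
  have hs2 : Group.IsSolvable (G ⧸ Q') := by
    apply Group.isSolvable_of_surjective (f := (QuotientGroup.mk' Q').comp M.subtype)
    intro x
    obtain ⟨g, rfl⟩ := QuotientGroup.mk'_surjective Q' x
    have hg : g ∈ ((Q' ⊔ M : Subgroup G) : Set G) := by rw [htop]; trivial
    rw [normal_mul] at hg
    obtain ⟨a, ha, m, hm, rfl⟩ := hg
    refine ⟨⟨m, hm⟩, ?_⟩
    have h1 : QuotientGroup.mk' Q' a = 1 := by
      rw [QuotientGroup.mk'_apply, QuotientGroup.eq_one_iff]; exact ha
    rw [map_mul, h1, one_mul]
    rfl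
  exact Group.isSolvable_of_ker_le_range Q'.subtype (QuotientGroup.mk' Q')
    (by rw [QuotientGroup.ker_mk', range_subtype])

end Core

theorem main.{u} : ∀ (n : ℕ) (G : Type u) [Group G] [Finite G], Nat.card G = n →
    ∀ M : Subgroup G, IsCoatom M → Group.IsNilpotent M → Odd (Nat.card M) →
    Group.IsSolvable G := by
  intro n
  induction n using Nat.strong_induction_on with
  | _ n ih =>
    intro G _ _ hn M hmax hnil hodd
    by_cases hcore : M.normalCore = ⊥
    · exact corefree M hmax hnil hcore hodd
    · have hKM : M.normalCore ≤ M := normalCore_le M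
      have hsurj := QuotientGroup.mk'_surjective M.normalCore
      have hcm : (M.map (QuotientGroup.mk' M.normalCore)).comap (QuotientGroup.mk' M.normalCore)
          = M := by
        rw [comap_map_eq, QuotientGroup.ker_mk', sup_of_le_left hKM]
      have hmax' : IsCoatom (M.map (QuotientGroup.mk' M.normalCore)) := by
        constructor
        · intro h
          apply hmax.1
          have h0 := hcm
          rw [h, comap_top] at h0
          exact h0.symm
        · intro L hL
          have h1 : M < L.comap (QuotientGroup.mk' M.normalCore) := by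
            have h0 := (comap_lt_comap_of_surjective hsurj).2 hL
            rwa [hcm] at h0
          have h2 := hmax.2 _ h1
          rw [← map_comap_eq_self_of_surjective hsurj L, h2, ← MonoidHom.range_eq_map,
            MonoidHom.range_eq_top.2 hsurj]
      have hnil' : Group.IsNilpotent (M.map (QuotientGroup.mk' M.normalCore)) :=
        Group.nilpotent_of_surjective ((QuotientGroup.mk' M.normalCore).subgroupMap M)
          (MonoidHom.subgroupMap_surjective _ _)
      have hodd' : Odd (Nat.card (M.map (QuotientGroup.mk' M.normalCore))) :=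
        Odd.of_dvd_nat hodd (card_map_dvd _ _)
      have hlt : Nat.card (G ⧸ M.normalCore) < n := by
        rw [← hn, card_eq_card_quotient_mul_card_subgroup M.normalCore]
        have h1 : 1 < Nat.card M.normalCore := by
          rw [one_lt_card_iff_ne_bot]; exact hcore
        have h2 : 0 < Nat.card (G ⧸ M.normalCore) := Nat.card_pos
        nlinarith
      have hs2 := ih _ hlt (G ⧸ M.normalCore) rfl _ hmax' hnil' hodd'
      have hs1 : Group.IsSolvable M.normalCore :=
        Group.isSolvable_of_isSolvable_injective (f := inclusion hKM) (inclusion_injective hKM)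
      exact Group.isSolvable_of_ker_le_range M.normalCore.subtype
        (QuotientGroup.mk' M.normalCore) (by rw [QuotientGroup.ker_mk', range_subtype])

/-- A finite group possessing a maximal subgroup that is nilpotent of odd order is solvable. -/
theorem result {G : Type*} [Group G] [Finite G]
    (M : Subgroup G) (hmax : IsCoatom M) (hnil : Group.IsNilpotent M) (hodd : Odd (Nat.card M)) :
    Group.IsSolvable G :=
  main _ G rfl M hmax hnil hodd

end Cfsg.Agent.S4040
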