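import Cfsg.Statements.S4064
import Cfsg.Agent.Lib.Helper16TiB
import Cfsg.Agent.Lib.Helper16TiC
import Cfsg.Agent.Lib.Helper17TiAB
import Cfsg.Agent.Lib.Helper27TiAR
import Cfsg.Agent.Lib.Helper60TiCS
import Cfsg.Agent.Lib.Helper27TiFR
import Cfsg.Agent.Lib.Helper96TiN1
import Cfsg.Agent.Lib.Helper27TiNN
import Cfsg.Agent.Lib.Helper96TiPM
import Cfsg.Agent.Lib.Helper27TiSZ
import Cfsg.Agent.Lib.Helper96TiT
import Cfsg.Agent.Lib.Helper17TiTS
import Cfsg.Agent.Lib.Helper6Transport
import Cfsg.Agent.Lib.Helper26Sh3b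
import Cfsg.Agent.S0731
import Cfsg.Agent.S1476
import Cfsg.Agent.S0183
import Cfsg.Agent.S0338
import Cfsg.Agent.S0885
import Cfsg.Agent.S0347
import Mathlib

set_option autoImplicit false
set_option linter.unusedSectionVars false
set_option linter.unusedVariables false
set_option linter.style.haveILetI false
open Cfsg

namespace Cfsg.Agent.S4064

open Cfsg.Agent.Helper16Ti
open Cfsg.Agent.Lib.Helper17TiAB (abel_of_card)
open Cfsg.Agent.Lib.Helper27TiAR (arith)
open Cfsg.Agent.Lib.Helper60TiCS (compl_struct)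
open Cfsg.Agent.Lib.Helper27TiFR (solv_of_frob)
open Cfsg.Agent.Lib.Helper96TiN1 (nilpotent_of_engel)
open Cfsg.Agent.Lib.Helper27TiNN (no_normal)
open Cfsg.Agent.Lib.Helper96TiPM (p_mem)
open Cfsg.Agent.Lib.Helper27TiSZ (solv_of_normal_sylow2)
open Cfsg.Agent.Lib.Helper96TiT (exists_t)
open Cfsg.Agent.Lib.Helper17TiTS (no_three_step)
open Cfsg.Agent.Helper16Feit Cfsg.Agent.Lib.Helper61Feit Cfsg.Agent.Lib.Helper61Feit2

variable {G : Type*} [Group G] [Finite G]

theorem cn (h : TIC G) : Cfsg.IsCNGroup G := by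
  intro g hg
  apply nilpotent_of_engel
  intro a b
  have := h.engel hg (mem_cent.1 a.2) (mem_cent.1 b.2)
  exact Subtype.ext this.eq

theorem solv_case (h : TIC G) [Group.IsSolvable G] :
    Group.IsNilpotent G ∨
    (∃ H : Subgroup G, Cfsg.IsFrobeniusComplement H ∧
      (IsCyclic H ∨ ∃ m : ℕ, Odd m ∧
        Nonempty (H ≃* Multiplicative (ZMod m) × QuaternionGroup 2))) := by
  rcases Cfsg.Agent.S1476.result (cn h) with h1 | ⟨K, E, hK, hc, hF, hE⟩ | ⟨p, hp, h3⟩
  · exact Or.inl h1
  · right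
    refine ⟨E, hF, ?_⟩
    rcases hE with hcyc | ⟨C, Q, hsup, hcomm, hC, hodd, n, e⟩
    · exact Or.inl hcyc
    · exact compl_struct (fun w a b hw ha hb => h.engel hw ha hb) E C Q hsup hcomm hC hodd n e
  · exact absurd h3 (no_three_step h p hp)

theorem orderOf_conj' (g x : G) : orderOf (g * x * g⁻¹) = orderOf x :=
  (MulAut.conj g).orderOf_eq x

theorem nonsolv_case (h : TIC G) (hns : ¬ Group.IsSolvable G) :
    ∃ n : ℕ, 2 ≤ n ∧
      Nonempty (G ≃* Matrix.ProjectiveSpecialLinearGroup (Fin 2) (GaloisField 2 n)) := by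
  classical
  have hCN := cn h
  have heven : Even (Nat.card G) := by
    by_contra hodd
    rw [Nat.not_even_iff_odd] at hodd
    exact hns (Cfsg.Agent.S0183.result hodd hCN)
  obtain ⟨t, P, D, hP⟩ := exists_t h heven
  obtain ⟨g₀, hg₀⟩ : ∃ g, g ∉ Hs D := by
    by_contra hall
    push Not at hall
    apply hns
    apply solv_of_normal_sylow2 hCN P
    constructor
    intro x hx g
    apply p_mem h P D.t1 hP (S_norm D (hall g) (hP x hx))
    obtain ⟨k, hk⟩ := IsPGroup.iff_orderOf.1 P.isPGroup' ⟨x, hx⟩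
    refine ⟨k, ?_⟩
    rw [orderOf_conj', ← hk, Subgroup.orderOf_mk]
  obtain ⟨z, hz2, hzc⟩ := exists_inv D hg₀
  have hz : z ∉ Hs D := not_mem_of_conj_eq D hg₀ hzc
  set S : Subgroup G := Subgroup.centralizer ({t} : Set G) with hS
  have hSmem : ∀ s : G, s ∈ S ↔ Commute s t := fun s => Subgroup.mem_centralizer_singleton_iff
  have htS : t ∈ S := (hSmem t).2 (Commute.refl t)
  -- a second involution
  obtain ⟨u, hu1, hu2, hut, hne⟩ : ∃ u : G, u ≠ 1 ∧ u * u = 1 ∧ Commute u t ∧ u ≠ t := by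
    by_contra hno
    push Not at hno
    apply hns
    haveI : Group.IsNilpotent S := hCN t D.t1
    apply solv_of_frob S ?_ IsNilpotent.to_isSolvable
    refine ⟨?_, ?_, ?_⟩
    · intro hbot
      rw [hbot, Subgroup.mem_bot] at htS
      exact D.t1 htS
    · intro htop
      apply hg₀
      apply S_le D
      rw [← hSmem, htop]
      exact Subgroup.mem_top _
    · intro g hg
      have hgH : g ∉ Hs D := by
        intro hh
        apply hg
        rw [hSmem]
        have h1 := hno (g * t * g⁻¹) (conj_t_ne D g) (conj_t_sq D g) hh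
        exact mul_inv_eq_iff_eq_mul.1 h1
      have hgn : g ∉ Subgroup.normalizer (S : Set G) := by
        intro hn
        apply hgH
        exact (hSmem _).1 ((Subgroup.mem_normalizer_iff.1 hn t).1 htS)
      rw [Subgroup.eq_bot_iff_forall]
      rintro x ⟨hx1, hx2⟩
      obtain ⟨s, hs, rfl⟩ := (Subgroup.mem_smul_pointwise_iff_exists _ _ _).1 hx2
      have hx1' : g * s * g⁻¹ ∈ S := hx1
      have hs1 : s = 1 := h t g hgn s hs hx1'
      rw [hs1]
      simp
  set a : G ⧸ Hs D := ((1 : G) : G ⧸ Hs D) with ha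
  set b : G ⧸ Hs D := ((z : G) : G ⧸ Hs D) with hb
  have hab : a ≠ b := by
    intro h
    apply hz
    rw [ha, hb, QuotientGroup.eq] at h
    simpa using h
  have hh : Nat.card (G ⧸ Hs D) = Nat.card S + 1 := card_pts D hu1 hu2 hut hne hz hz2
  have he : Nat.card (stab2 G a b) + 1 = Nat.card (Es D hz hz2) := card_stab2_add_one D hz hz2
  have h2t := two_trans D hu1 hu2 hut hne
  have T : TData G (G ⧸ Hs D) (Nat.card S) := ⟨hh, h2t, three_gen D⟩
  have hSa : S ≤ MulAction.stabilizer G a := fun s hs => (fix_base D).2 (S_le D ((hSmem s).1 hs))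
  have hSfix : ∀ s ∈ S, s ≠ 1 → ∀ c : G ⧸ Hs D, s • c = c → c = a :=
    fun s hs hs1 c hc => S_free D ((hSmem s).1 hs) hs1 c hc
  -- a nontrivial element of the two point stabiliser
  obtain ⟨y, hyH, hyinv, hyu⟩ := Y_trans D hz hz2 hu1 hu2 hut
  have hy1 : y ≠ 1 := by
    rintro rfl
    apply hne
    rw [← hyu]; simp
  have hya : y • a = a := (fix_base D).2 hyH
  have hyb : y • b = b := (fix_inv D hz2).2 (by rw [hyinv]; exact (Hs D).inv_mem hyH)
  -- a third point
  have hta : t • a = a := (fix_base D).2 (S_le D (Commute.refl t))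
  have htb : t • b ≠ b := fun h => hab (S_free D (Commute.refl t) D.t1 b h).symm
  have htb' : t • b ≠ a := by
    intro h
    rw [← hta] at h
    exact hab (smul_left_cancel _ h).symm
  have hZ : IsZassenhausGroup G (G ⧸ Hs D) := by
    refine ⟨⟨?_⟩, h2t, three_gen D, ⟨y, hy1, a, b, hab, hya, hyb⟩, ?_⟩
    · intro m₁ m₂ hm
      have hfix : ∀ c : G ⧸ Hs D, (m₂⁻¹ * m₁) • c = c := by
        intro c; rw [mul_smul, hm, inv_smul_smul]
      have := three_gen D (m₂⁻¹ * m₁) a b (t • b) hab htb.symm htb'.symm (hfix _) (hfix _) (hfix _)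
      exact (inv_mul_eq_one.1 this).symm
    · intro N hN hNt
      by_contra hall
      push Not at hall
      haveI := hN
      have hNbot : N = ⊥ := by
        apply no_normal D hu1 hu2 hut hne N
        intro n hn hnt
        have h1 : (⟨n, hn⟩ : N) ∈ (⊥ : Subgroup N) := by
          rw [← hall a, MulAction.mem_stabilizer_iff]
          exact (fix_base D).2 (S_le D hnt)
        rw [Subgroup.mem_bot] at h1
        exact congrArg Subtype.val h1
      obtain ⟨n, hn⟩ := hNt.exists_smul_eq a b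
      have hn1 : (n : G) = 1 := by
        have h1 : (n : G) ∈ (⊥ : Subgroup G) := hNbot ▸ n.2
        exact Subgroup.mem_bot.1 h1
      have : (n : G) • a = b := hn
      rw [hn1, one_smul] at this
      exact hab this
  -- parity
  have htE : t ∈ Es D hz hz2 := ⟨D.t2, Commute.refl t⟩
  have hord : orderOf t = 2 := orderOf_eq_prime (by rw [pow_two]; exact D.t2) D.t1
  have h2E : 2 ∣ Nat.card (Es D hz hz2) := by
    have h1 : orderOf (⟨t, htE⟩ : Es D hz hz2) = 2 := by
      rw [← hord]; exact Subgroup.orderOf_mk t htE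
    rw [← h1]
    exact orderOf_dvd_natCard _
  have hodd : Odd (Nat.card (stab2 G a b)) := by
    obtain ⟨k, hk⟩ := h2E
    exact ⟨k - 1, by omega⟩
  have hEleS : Es D hz hz2 ≤ S := fun x hx => (hSmem x).2 hx.2
  have hES : Nat.card (Es D hz hz2) ∣ Nat.card S := Subgroup.card_dvd_of_le hEleS
  have hSpos : 0 < Nat.card S := Nat.card_pos
  letI : Fintype (G ⧸ Hs D) := Fintype.ofFinite _
  have hh' : Fintype.card (G ⧸ Hs D) = Nat.card S + 1 := by
    rw [← Nat.card_eq_fintype_card]; exact hh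
  have h2S : 2 ∣ Nat.card S := h2E.trans hES
  have hoddΩ : Odd (Fintype.card (G ⧸ Hs D)) := by
    rw [hh']
    obtain ⟨k, hk⟩ := h2S
    exact ⟨k, by omega⟩
  haveI hsimple : IsSimpleGroup G := Cfsg.Agent.S0338.result hZ hoddΩ
  rcases Cfsg.Agent.S0885.result hZ hab (Nat.card S) (Nat.card (stab2 G a b)) hh' rfl hodd S hSa
    hh'.symm hSfix with hsmall | ⟨hS2, hSna, -⟩
  · have hSE : Nat.card S = Nat.card (Es D hz hz2) := by
      obtain ⟨k, hk⟩ := hES
      rcases k with _ | _ | k
      · omega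
      · omega
      · exfalso
        have : Nat.card S = Nat.card (Es D hz hz2) * k + 2 * Nat.card (Es D hz hz2) := by
          rw [hk]; ring
        have h0 : 0 ≤ Nat.card (Es D hz hz2) * k := Nat.zero_le _
        omega
    have he' : Nat.card (stab2 G a b) + 1 = Nat.card S := by rw [hSE]; exact he
    obtain ⟨h3, hs3⟩ := Cfsg.Agent.S0731.sharp3 T hab he'
    have hSh : Cfsg.Agent.Lib.Helper26Sh3.Sharp3 G (G ⧸ Hs D) :=
      Cfsg.Agent.Lib.Helper26Sh3b.sharp3_of_sharp ⟨h3, hs3⟩
    have h1e : 1 < Nat.card (stab2 G a b) := by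
      rw [Subgroup.one_lt_card_iff_ne_bot]
      intro hbot
      have : y ∈ stab2 G a b := mem_stab2.2 ⟨hya, hyb⟩
      rw [hbot, Subgroup.mem_bot] at this
      exact hy1 this
    obtain ⟨f, F, iF, iFt, -, hcf, hF, -, ⟨ePSL⟩, -⟩ := hSh.main_odd
      (by rw [hh, hSE]; obtain ⟨k, hk⟩ := h2E; exact ⟨k, by omega⟩) (by omega)
    have h2f : 3 ≤ 2 ^ f := by omega
    have hf2 : 2 ≤ f := by
      rcases f with _ | _ | f
      · norm_num at h2f
      · norm_num at h2f
      · omega
    refine ⟨f, hf2, ?_⟩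
    letI : Fintype (GaloisField 2 f) := Fintype.ofFinite _
    obtain ⟨e2⟩ := Cfsg.Agent.Lib.Helper6Transport.nonempty_pslEquiv (n := Fin 2) (F := F)
      (K := GaloisField 2 f) (by
        rw [hF, ← Nat.card_eq_fintype_card, GaloisField.card 2 f (by omega)])
    exact ⟨ePSL.trans e2⟩
  · exfalso
    have hSn : (S.subgroupOf (MulAction.stabilizer G a)).Normal := by
      constructor
      intro n hn g
      rw [Subgroup.mem_subgroupOf] at hn ⊢
      rw [hSmem] at hn
      have hg : (g : G) ∈ Hs D := (fix_base D).1 g.2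
      exact (hSmem _).2 (S_norm D hg hn)
    have hreg : ∀ c d : G ⧸ Hs D, c ≠ a → d ≠ a → ∃! s : S, (s : G) • c = d := by
      intro c d hc hd
      obtain ⟨s, hs, hsc⟩ := S_trans_pt D hu1 hu2 hut hne c d hc hd
      refine ⟨⟨s, (hSmem s).2 hs⟩, hsc, ?_⟩
      intro s' hs'
      have hs'' : (s' : G) • c = d := hs'
      by_contra hne'
      have h3 : s⁻¹ * (s' : G) ≠ 1 := fun h => hne' (Subtype.ext (inv_mul_eq_one.1 h).symm)
      apply hc
      apply S_free D (hs.inv_left.mul_left ((hSmem _).1 s'.2)) h3 c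
      rw [mul_smul, hs'', ← hsc, inv_smul_smul]
    obtain ⟨-, m, hm, hcard⟩ := Cfsg.Agent.S0347.result hZ a S hSa hSn hS2 hSna hreg
    have hG := card_G T hab
    haveI : Fact (Nat.Prime 2) := ⟨Nat.prime_two⟩
    obtain ⟨k, hk⟩ := IsPGroup.iff_card.1 hS2
    have hk1 : 1 ≤ k := by
      rcases k with _ | k
      · rw [pow_zero] at hk
        omega
      · omega
    obtain ⟨hSq, heq⟩ := arith hk hk1 hodd (hG.symm.trans hcard)
    have hq2 : 2 ≤ 2 ^ (2 * m + 1) := by
      calc 2 = 2 ^ 1 := by norm_num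
        _ ≤ 2 ^ (2 * m + 1) := Nat.pow_le_pow_right (by norm_num) (by omega)
    have hab' := abel_of_card S (Es D hz hz2) (stab2 G a b) (2 ^ (2 * m + 1)) hq2 hEleS hSq
      (by omega) heq
      (fun e he' s hs => (inv_central D hz hz2 he'.1 he'.2 ((hSmem s).1 hs)).eq.symm)
      (by
        intro y' hy' s hs hs1 hys
        by_contra hy'1
        have h1 : Commute y' t := D.ct y' s hy'1 hs1 hys ((hSmem s).1 hs)
        exact hab (S_free D h1 hy'1 b (mem_stab2.1 hy').2).symm)
      (by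
        intro y' hy' x hx a' ha' hax
        have hy'H : y' ∈ Hs D := (fix_base D).1 (mem_stab2.1 hy').1
        refine ⟨(hSmem _).2 (S_norm D hy'H ((hSmem _).1 ha')), ?_⟩
        have hc1 : y'⁻¹ * t * y'⁻¹⁻¹ ≠ 1 := conj_t_ne D _
        have hc2 : y'⁻¹ * t * y'⁻¹⁻¹ * (y'⁻¹ * t * y'⁻¹⁻¹) = 1 := conj_t_sq D _
        have hc3 : Commute (y'⁻¹ * t * y'⁻¹⁻¹) t := (Hs D).inv_mem hy'H
        have hc4 : Commute x (y'⁻¹ * t * y'⁻¹⁻¹) :=
          inv_central D hz hz2 hc2 hc3 ((hSmem _).1 hx)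
        have hc5 : y' * (y'⁻¹ * t * y'⁻¹⁻¹) * y'⁻¹ = t := by group
        have hn := h.norm' (x := y'⁻¹ * t * y'⁻¹⁻¹) (y := x) (g := y') hc1 hc4.symm
          (by rw [hc5]; exact ((hSmem _).1 hx).symm)
        exact (conj_comm_of_mem_norm hn (show Commute a' x from hax)).eq)
    obtain ⟨u', v', huv⟩ := hSna
    exact huv (Subtype.ext (hab' u' u'.2 v' v'.2))

/-- Let G be a finite group in which the centralizer of every element meets each of its conjugates by elements outside its normalizer trivially. Then G is nilpotent; or G is a Frobenius group with a complement that is cyclic or isomorphic to the direct product of a cyclic group of odd order and the quaternion group of order 8; or G is isomorphic to PSL₂(2ⁿ) for some n ≥ 2. -/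
theorem result {G : Type*} [Group G] [Finite G] (hTI : ∀ x : G, Cfsg.IsTISubset (Subgroup.centralizer ({x} : Set G) : Set G)) :
    Group.IsNilpotent G ∨
    (∃ H : Subgroup G, Cfsg.IsFrobeniusComplement H ∧
      (IsCyclic H ∨ ∃ m : ℕ, Odd m ∧ Nonempty (H ≃* Multiplicative (ZMod m) × QuaternionGroup 2))) ∨
    (∃ n : ℕ, 2 ≤ n ∧ Nonempty (G ≃* Matrix.ProjectiveSpecialLinearGroup (Fin 2) (GaloisField 2 n))) := by
  by_cases hs : Group.IsSolvable G
  · rcases solv_case (G := G) hTI with h | h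
    · exact Or.inl h
    · exact Or.inr (Or.inl h)
  · exact Or.inr (Or.inr (nonsolv_case hTI hs))

end Cfsg.Agent.S4064
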