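import Cfsg.Statements.S4068
import Cfsg.Agent.Lib.Helper71FODefs
import Cfsg.Agent.Lib.H71FoOrb
import Cfsg.Agent.Lib.H71FoOdd
import Cfsg.Agent.Lib.H71FoSyl
import Cfsg.Agent.Lib.H71FoFour
import Cfsg.Agent.S1230
import Cfsg.Agent.S0252

set_option autoImplicit false
open Cfsg

namespace Cfsg.Agent.S4068

open Cfsg.Agent.Lib.Helper71FO

theorem result {G : Type*} [Group G] [Finite G] (hns : ¬ Group.IsSolvable G)
    (h4 : Nat.card (MulAction.orbitRel.Quotient (MulAut G) G) = 4) : Nonempty (G ≃* alternatingGroup (Fin 5)) := by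
  have hpo : PO G := Cfsg.Agent.Lib.H71FoOrb.po_of_four_orbits hns h4
  obtain ⟨T⟩ : Nonempty (Sylow 2 G) := inferInstance
  have hnc := Cfsg.Agent.Lib.H71FoSyl.sylow_not_cyclic hns hpo T
  have hnn := Cfsg.Agent.Lib.H71FoSyl.sylow_not_normal hns hpo T
  have hC : ∀ t : G, orderOf t = 2 → IsMulCommutative (Subgroup.centralizer ({t} : Set G)) ∧
      ∀ c ∈ Subgroup.centralizer ({t} : Set G), c ^ 2 = 1 := by
    intro t ht
    have ht1 : t ≠ 1 := by
      rintro rfl
      simp at ht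
    have h2 := (Cfsg.Agent.Lib.H71FoOdd.centralizer_isPGroup hpo t ht1).2
    rw [ht] at h2
    refine ⟨⟨⟨fun x y => ?_⟩⟩, h2⟩
    -- exponent two implies commutative
    have hx := h2 x.1 x.2
    have hy := h2 y.1 y.2
    have hxy := h2 (x.1 * y.1) (mul_mem x.2 y.2)
    apply Subtype.ext
    show x.1 * y.1 = y.1 * x.1
    have e1 : x.1⁻¹ = x.1 := by
      rw [inv_eq_iff_mul_eq_one, ← sq]; exact hx
    have e2 : y.1⁻¹ = y.1 := by
      rw [inv_eq_iff_mul_eq_one, ← sq]; exact hy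
    have e3 : (x.1 * y.1)⁻¹ = x.1 * y.1 := by
      rw [inv_eq_iff_mul_eq_one, ← sq]; exact hxy
    rw [← e3, mul_inv_rev, e1, e2]
  obtain ⟨F, iF, iF', hcard, ⟨e⟩⟩ := Cfsg.Agent.S1230.result T hnc hnn hC
  haveI : Fact (Nat.Prime 2) := ⟨Nat.prime_two⟩
  obtain ⟨a, ha⟩ := (IsPGroup.iff_card).1 T.2
  have hF : Fintype.card F = 2 ^ a := by rw [hcard]; exact ha
  have hF4 : 4 ≤ Fintype.card F := by
    rw [hF]
    by_contra hlt
    have ha1 : a ≤ 1 := by
      by_contra h
      have : 2 ^ 2 ≤ 2 ^ a := Nat.pow_le_pow_right (by norm_num) (by omega)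
      omega
    apply hnc
    interval_cases a
    · haveI : Subsingleton ↥(T : Subgroup G) := by
        rw [← Finite.card_le_one_iff_subsingleton]
        have : Nat.card ↥(T : Subgroup G) = 2 ^ 0 := ha
        omega
      exact isCyclic_of_subsingleton
    · exact isCyclic_of_prime_card (p := 2) (by simpa using ha)
  have hpo' : PO (Matrix.ProjectiveSpecialLinearGroup (Fin 2) F) :=
    hpo.of_surjective e.toMonoidHom e.surjective
  have hq := Cfsg.Agent.Lib.H71FoFour.card_eq_four a hF hF4 hpo'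
  obtain ⟨e2⟩ := Cfsg.Agent.S0252.result hq
  exact ⟨e.trans e2⟩

end Cfsg.Agent.S4068
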