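import Cfsg.Statements.S4097
import Cfsg.Agent.S0035
import Cfsg.Agent.S0042

set_option autoImplicit false
open Cfsg

namespace Cfsg.Agent.S4097

open Subgroup
open scoped Pointwise

universe u

/-- Preimage of a solvable subgroup under the quotient by a solvable normal subgroup. -/
theorem comap_solv {G : Type*} [Group G] (N : Subgroup G) [N.Normal] (hN : Group.IsSolvable N)
    (S : Subgroup (G ⧸ N)) (hS : Group.IsSolvable S) :
    Group.IsSolvable (S.comap (QuotientGroup.mk' N)) := by
  have hle : N ≤ S.comap (QuotientGroup.mk' N) := by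
    intro x hx
    rw [mem_comap]
    have : (QuotientGroup.mk' N) x = 1 := (QuotientGroup.eq_one_iff x).mpr hx
    rw [this]; exact S.one_mem
  refine Group.isSolvable_of_ker_le_range (inclusion hle)
    ((QuotientGroup.mk' N).subgroupComap S) ?_
  rintro ⟨x, hx⟩ hx1
  rw [MonoidHom.mem_ker] at hx1
  have h2 : (QuotientGroup.mk' N) x = 1 := congrArg Subtype.val hx1
  have h3 : x ∈ N := (QuotientGroup.eq_one_iff x).mp h2
  exact ⟨⟨x, h3⟩, rfl⟩

theorem map_solv {G H : Type*} [Group G] [Group H] (f : G →* H) (B : Subgroup G)
    (hB : Group.IsSolvable B) : Group.IsSolvable (B.map f) :=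
  Group.isSolvable_of_surjective (f := f.subgroupMap B) (f.subgroupMap_surjective B)

theorem sup_solv {G : Type*} [Group G] (N B : Subgroup G) [N.Normal] (hN : Group.IsSolvable N)
    (hB : Group.IsSolvable B) : Group.IsSolvable (N ⊔ B : Subgroup G) := by
  have h1 : Group.IsSolvable (B.map (QuotientGroup.mk' N)) := map_solv _ B hB
  have h2 := comap_solv N hN _ h1
  rwa [QuotientGroup.comap_map_mk'] at h2

/-- The hypothesis of the statement. -/
def Hyp {G : Type*} [Group G] (A : Subgroup G) : Prop :=
  ∀ S : Subgroup G, A ≤ S → Group.IsSolvable S → ∀ a ∈ A, ∀ s ∈ S, a * s = s * a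

/-- The induction hypothesis. -/
def IndH (G : Type u) [Group G] : Prop :=
  ∀ (H : Type u) [Group H] [Finite H], Nat.card H < Nat.card G →
    ∀ B : Subgroup H, Group.IsSolvable B → Hyp B → B ≤ center H

theorem inherit {G : Type u} [Group G] [Finite G] (IH : IndH G)
    (A : Subgroup G) (hA : Group.IsSolvable A) (hc : Hyp A) (H : Subgroup G) (hAH : A ≤ H)
    (hH : H ≠ ⊤) : H ≤ centralizer (A : Set G) := by
  have hcard : Nat.card H < Nat.card G := by
    rcases lt_or_eq_of_le (Subgroup.card_le_card_group H) with h | h
    · exact h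
    · exact absurd ((Subgroup.card_eq_iff_eq_top H).mp h) hH
  have hB : Group.IsSolvable (A.subgroupOf H) :=
    Group.isSolvable_of_isSolvable_injective (f := (subgroupOfEquivOfLe hAH).toMonoidHom)
      (subgroupOfEquivOfLe hAH).injective
  have hyp : Hyp (A.subgroupOf H) := by
    intro S hS hSs a ha s hs
    have h1 : Group.IsSolvable (S.map H.subtype) := map_solv _ S hSs
    have h2 : A ≤ S.map H.subtype := by
      intro x hx
      exact ⟨⟨x, hAH hx⟩, hS (by simpa [mem_subgroupOf] using hx), rfl⟩
    have := hc _ h2 h1 a (by simpa [mem_subgroupOf] using ha) s ⟨s, hs, rfl⟩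
    exact Subtype.ext this
  have := IH H hcard _ hB hyp
  intro h hh
  rw [mem_centralizer_iff]
  intro a ha
  have h3 : (⟨a, hAH ha⟩ : H) ∈ center H := this (by simpa [mem_subgroupOf] using ha)
  rw [mem_center_iff] at h3
  have := h3 ⟨h, hh⟩
  exact (congrArg Subtype.val this).symm

theorem normal_solv {G : Type*} [Group G] (A : Subgroup G) (hc : Hyp A) (Y : Subgroup G)
    [Y.Normal] (hY : Group.IsSolvable Y) (hAY : A ≤ Y) : A ≤ center G := by
  intro a ha
  rw [mem_center_iff]
  intro g
  have h1 : Group.IsSolvable (zpowers g) := by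
    apply Group.isSolvable_of_comm
    rintro ⟨a, ha⟩ ⟨b, hb⟩
    obtain ⟨i, rfl⟩ := mem_zpowers_iff.mp ha
    obtain ⟨j, rfl⟩ := mem_zpowers_iff.mp hb
    exact Subtype.ext (zpow_mul_comm g i j)
  have h2 := sup_solv Y (zpowers g) hY h1
  exact (hc _ (hAY.trans le_sup_left) h2 a ha g (le_sup_right (a := Y) (mem_zpowers g))).symm

theorem center_bot {G : Type u} [Group G] [Finite G] (IH : IndH G)
    (A : Subgroup G) (hA : Group.IsSolvable A) (hc : Hyp A) (hn : ¬ A ≤ center G) :
    center G = ⊥ := by
  by_contra hZ
  have hZs : Group.IsSolvable (center G) := by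
    apply Group.isSolvable_of_comm
    rintro ⟨a, ha⟩ ⟨b, hb⟩
    exact Subtype.ext ((mem_center_iff.mp hb) a)
  have hcard : Nat.card (G ⧸ center G) < Nat.card G := by
    rw [← Subgroup.index_eq_card, ← Subgroup.index_mul_card (center G)]
    have h1 : 1 < Nat.card (center G) := by
      rw [Subgroup.one_lt_card_iff_ne_bot]; exact hZ
    have h2 : 0 < (center G).index := Nat.pos_of_ne_zero Subgroup.index_ne_zero_of_finite
    nlinarith
  have hB : Group.IsSolvable (A.map (QuotientGroup.mk' (center G))) := map_solv _ A hA
  have hyp : Hyp (A.map (QuotientGroup.mk' (center G))) := by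
    intro S hS hSs a ha s hs
    obtain ⟨a', ha', rfl⟩ := ha
    obtain ⟨s', rfl⟩ := QuotientGroup.mk'_surjective (center G) s
    have h1 := comap_solv (center G) hZs S hSs
    have h2 : A ≤ S.comap (QuotientGroup.mk' (center G)) := fun x hx => hS ⟨x, hx, rfl⟩
    have := hc _ h2 h1 a' ha' s' hs
    rw [← map_mul, ← map_mul, this]
  have h := IH (G ⧸ center G) hcard _ hB hyp
  have hYn : ((A.map (QuotientGroup.mk' (center G))).comap (QuotientGroup.mk' (center G))).Normal := by
    have : (A.map (QuotientGroup.mk' (center G))).Normal := by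
      constructor
      intro n hn' g
      have := (mem_center_iff.mp (h hn')) g
      rw [this, mul_inv_cancel_right]; exact hn'
    exact this.comap _
  have hYs := comap_solv (center G) hZs _ hB
  exact hn (normal_solv A hc _ hYs (le_comap_map _ _))

theorem gen_top {G : Type u} [Group G] [Finite G] (IH : IndH G)
    (A : Subgroup G) (hA : Group.IsSolvable A) (hc : Hyp A) (hn : ¬ A ≤ center G)
    (g : G) (hg : g ∉ centralizer (A : Set G)) : A ⊔ (MulAut.conj g • A) = ⊤ := by
  by_contra hH
  have hAC : A ≤ centralizer (A : Set G) := fun a ha => by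
    rw [mem_centralizer_iff]; intro b hb; exact hc A le_rfl hA b hb a ha
  have hCtop : centralizer (A : Set G) ≠ ⊤ := by
    intro h; apply hn; rw [centralizer_eq_top_iff_subset] at h; exact h
  have h1 : A ⊔ (MulAut.conj g • A) ≤ centralizer (A : Set G) :=
    inherit IH A hA hc _ le_sup_left hH
  have h2 : MulAut.conj g • A ≤ centralizer (A : Set G) := le_sup_right.trans h1
  have h3 : A ≤ MulAut.conj g • centralizer (A : Set G) := by
    intro a ha
    rw [mem_pointwise_smul_iff_inv_smul_mem, mem_centralizer_iff]
    intro b hb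
    have hb' : g * b * g⁻¹ ∈ centralizer (A : Set G) :=
      h2 (smul_mem_pointwise_smul b (MulAut.conj g) A hb)
    have h := (mem_centralizer_iff.mp hb') a ha
    have e : (MulAut.conj g)⁻¹ • a = g⁻¹ * a * g := by
      simp [MulAut.smul_def, MulAut.conj_inv_apply]
    rw [e]
    calc b * (g⁻¹ * a * g) = g⁻¹ * ((g * b * g⁻¹) * a) * g := by group
      _ = g⁻¹ * (a * (g * b * g⁻¹)) * g := by rw [h]
      _ = g⁻¹ * a * g * b := by group
  have hcard : Nat.card (MulAut.conj g • centralizer (A : Set G) : Subgroup G)
      = Nat.card (centralizer (A : Set G)) :=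
    (Nat.card_congr (Subgroup.equivSMul (MulAut.conj g) (centralizer (A : Set G))).toEquiv).symm
  have h4 : MulAut.conj g • centralizer (A : Set G) ≠ ⊤ := by
    intro h
    apply hCtop
    rw [← Subgroup.card_eq_iff_eq_top, ← hcard, h, Subgroup.card_top]
  have h5 : MulAut.conj g • centralizer (A : Set G) ≤ centralizer (A : Set G) :=
    inherit IH A hA hc _ h3 h4
  have h6 : MulAut.conj g • centralizer (A : Set G) = centralizer (A : Set G) :=
    eq_of_le_of_card_ge h5 hcard.ge
  have h7 : g ∈ normalizer (centralizer (A : Set G) : Set G) := by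
    rw [mem_normalizer_iff]
    intro h
    constructor
    · intro hh
      exact h5 (smul_mem_pointwise_smul h (MulAut.conj g) _ hh)
    · intro hh
      rw [← h6, mem_pointwise_smul_iff_inv_smul_mem] at hh
      have e : (MulAut.conj g)⁻¹ • (g * h * g⁻¹) = h := by
        simp [MulAut.smul_def, MulAut.conj_inv_apply]
        try group
      rwa [e] at hh
  by_cases hN : normalizer (centralizer (A : Set G) : Set G) = ⊤
  · haveI : (centralizer (A : Set G)).Normal := normalizer_eq_top_iff.mp hN
    have hYC : centralizer (centralizer (A : Set G) : Set G) ≤ centralizer (A : Set G) :=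
      centralizer_le hAC
    have hYs : Group.IsSolvable (centralizer (centralizer (A : Set G) : Set G)) := by
      apply Group.isSolvable_of_comm
      rintro ⟨a, ha⟩ ⟨b, hb⟩
      exact Subtype.ext ((mem_centralizer_iff.mp hb) a (hYC ha))
    have hAY : A ≤ centralizer (centralizer (A : Set G) : Set G) :=
      le_centralizer_iff.mp le_rfl
    exact hn (normal_solv A hc _ hYs hAY)
  · exact hg (inherit IH A hA hc _ (hAC.trans le_normalizer) hN h7)

theorem main_step {G : Type u} [Group G] [Finite G] (IH : IndH G)
    (A : Subgroup G) (hA : Group.IsSolvable A) (hc : Hyp A) : A ≤ center G := by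
  by_contra hn
  have hAC : A ≤ centralizer (A : Set G) := fun a ha => by
    rw [mem_centralizer_iff]; intro b hb; exact hc A le_rfl hA b hb a ha
  have hCtop : centralizer (A : Set G) ≠ ⊤ := by
    intro h; apply hn; rw [centralizer_eq_top_iff_subset] at h; exact h
  have hZ := center_bot IH A hA hc hn
  have hfrob : IsFrobeniusComplement (centralizer (A : Set G)) := by
    refine ⟨?_, hCtop, ?_⟩
    · intro hb
      apply hn
      rw [hb] at hAC
      exact hAC.trans bot_le
    · intro g hg
      rw [eq_bot_iff]
      rintro x ⟨hx1, hx2⟩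
      have hx2' : x ∈ MulAut.conj g • centralizer (A : Set G) := hx2
      have hh : A ⊔ (MulAut.conj g • A) ≤ centralizer ({x} : Set G) := by
        refine sup_le ?_ ?_
        · intro a ha
          rw [mem_centralizer_singleton_iff]
          exact (mem_centralizer_iff.mp hx1) a ha
        · intro a ha
          rw [mem_pointwise_smul_iff_inv_smul_mem] at ha hx2'
          have e1 : (MulAut.conj g)⁻¹ • a = g⁻¹ * a * g := by
            simp [MulAut.smul_def, MulAut.conj_inv_apply]
          have e2 : (MulAut.conj g)⁻¹ • x = g⁻¹ * x * g := by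
            simp [MulAut.smul_def, MulAut.conj_inv_apply]
          rw [e1] at ha
          rw [e2] at hx2'
          have h := (mem_centralizer_iff.mp hx2') _ ha
          rw [mem_centralizer_singleton_iff]
          calc a * x = g * ((g⁻¹ * a * g) * (g⁻¹ * x * g)) * g⁻¹ := by group
            _ = g * ((g⁻¹ * x * g) * (g⁻¹ * a * g)) * g⁻¹ := by rw [h]
            _ = x * a := by group
      rw [gen_top IH A hA hc hn g hg] at hh
      have hxc : x ∈ center G := by
        rw [mem_center_iff]
        intro y
        exact (mem_centralizer_singleton_iff.mp (hh (mem_top y)))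
      rwa [hZ] at hxc
  obtain ⟨N, hN, hNn, hNnil⟩ := Cfsg.Agent.S0042.result _ hfrob
  obtain ⟨N', hN', _, hcompl⟩ := Cfsg.Agent.S0035.result _ hfrob
  have hNN : N' = N := SetLike.coe_injective (hN'.trans hN.symm)
  rw [hNN] at hcompl
  have hNs : Group.IsSolvable N := inferInstance
  have hs := sup_solv N A hNs hA
  have hNbot : N = ⊥ := by
    rw [eq_bot_iff]
    intro k hk
    have hkC : k ∈ centralizer (A : Set G) :=
      mem_centralizer_iff.mpr (fun a ha => hc _ le_sup_right hs a ha k (le_sup_left (b := A) hk))
    have hk' : k ∈ frobeniusKernel (centralizer (A : Set G)) := by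
      rw [← hN]; exact hk
    rcases hk' with h | h
    · exact h
    · exact absurd (by simpa using hkC) (h 1)
  rw [hNbot] at hcompl
  exact hCtop (isComplement'_bot_left.mp hcompl)

theorem all (n : ℕ) : ∀ (G : Type u) [Group G] [Finite G], Nat.card G = n →
    ∀ A : Subgroup G, Group.IsSolvable A → Hyp A → A ≤ center G := by
  induction n using Nat.strong_induction_on with
  | _ n ih =>
    intro G _ _ hn A hA hc
    exact main_step (fun H _ _ hlt B hB hyp => ih (Nat.card H) (hn ▸ hlt) H rfl B hB hyp) A hA hc

/-- Let A be a solvable subgroup of a finite group G such that A lies in the centre of every solvable subgroup of G containing A. Then A lies in the centre of G. -/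
theorem result {G : Type*} [Group G] [Finite G]
    (A : Subgroup G) (hA : Group.IsSolvable A)
    (hc : ∀ S : Subgroup G, A ≤ S → Group.IsSolvable S → ∀ a ∈ A, ∀ s ∈ S, a * s = s * a) : A ≤ Subgroup.center G := by
  exact all _ G rfl A hA hc

end Cfsg.Agent.S4097
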