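import Cfsg.Statements.S4113
-- import your own Cfsg.Agent.* helpers here

set_option autoImplicit false
open Cfsg

namespace Cfsg.Agent.S4113

/-- Let G be a finite group, M ≤ N non-trivial proper normal subgroups, and H a subgroup with HM = G and H ∩ M = 1. Then every element of G outside N acts fixed-point-freely on M (C_G(x) ≤ N for every x ∈ M, x ≠ 1) if and only if H ∩ gHg⁻¹ ≤ H ∩ N for every g outside H, with H proper and non-trivial and H ∩ N proper in H. -/
theorem result {G : Type*} [Group G] [Finite G] (N M : Subgroup G) [N.Normal] [M.Normal] (hMN : M ≤ N) (hM1 : M ≠ ⊥) (hN2 : N ≠ ⊤)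
    (H : Subgroup G) (hHM : H ⊔ M = ⊤) (hHM' : H ⊓ M = ⊥) :
    (∀ x ∈ M, x ≠ 1 → Subgroup.centralizer ({x} : Set G) ≤ N) ↔
      (H ≠ ⊥ ∧ H ≠ ⊤ ∧ H ⊓ N < H ∧ ∀ g : G, g ∉ H → H ⊓ H.map (MulAut.conj g).toMonoidHom ≤ N) := by
  have hdecomp : ∀ g : G, ∃ m ∈ M, ∃ h ∈ H, m * h = g := by
    intro g
    have hg : g ∈ M ⊔ H := by rw [sup_comm, hHM]; exact Subgroup.mem_top g
    exact Subgroup.mem_sup_of_normal_left.mp hg
  have hdisj : ∀ z : G, z ∈ H → z ∈ M → z = 1 := by
    intro z hzH hzM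
    have : z ∈ H ⊓ M := ⟨hzH, hzM⟩
    rw [hHM'] at this
    exact Subgroup.mem_bot.mp this
  constructor
  · intro hC
    refine ⟨?_, ?_, ?_, ?_⟩
    · rintro rfl
      rw [bot_sup_eq] at hHM
      exact hN2 (top_le_iff.mp (hHM ▸ hMN))
    · rintro rfl
      rw [top_inf_eq] at hHM'
      exact hM1 hHM'
    · refine lt_of_le_of_ne inf_le_left ?_
      intro h
      have hHN : H ≤ N := inf_eq_left.mp h
      exact hN2 (top_le_iff.mp (hHM ▸ sup_le hHN hMN))
    · rintro g hg y ⟨hyH, hy⟩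
      obtain ⟨h', hh', rfl⟩ := hy
      obtain ⟨m, hm, h, hh, rfl⟩ := hdecomp g
      have hm1 : m ≠ 1 := by
        rintro rfl
        exact hg (by simpa using hh)
      have hh'' : h * h' * h⁻¹ ∈ H := H.mul_mem (H.mul_mem hh hh') (H.inv_mem hh)
      set k := h * h' * h⁻¹ with hk
      have hy_eq : (MulAut.conj (m * h)).toMonoidHom h' = m * k * m⁻¹ := by
        simp [hk, mul_assoc]
      rw [hy_eq] at hyH ⊢
      have h1 : m * k * m⁻¹ * k⁻¹ = 1 := by
        apply hdisj
        · exact H.mul_mem hyH (H.inv_mem hh'')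
        · have : m * k * m⁻¹ * k⁻¹ = m * (k * m⁻¹ * k⁻¹) := by group
          rw [this]
          exact M.mul_mem hm (‹M.Normal›.conj_mem _ (M.inv_mem hm) k)
      have h2 : m * k * m⁻¹ = k := by
        have := mul_eq_one_iff_eq_inv.mp h1
        simpa using this
      rw [h2]
      apply hC m hm hm1
      rw [Subgroup.mem_centralizer_singleton_iff]
      have : m * k = k * m := by
        calc m * k = m * k * m⁻¹ * m := by group
          _ = k * m := by rw [h2]
      exact this.symm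
  · rintro ⟨-, -, -, hFW⟩ x hxM hx1 g hg
    rw [Subgroup.mem_centralizer_singleton_iff] at hg
    by_contra hgN
    obtain ⟨m, hm, h, hh, rfl⟩ := hdecomp g
    have hhN : h ∉ N := by
      intro hhN
      exact hgN (N.mul_mem (hMN hm) hhN)
    -- an element of M commuting with h is trivial
    have hfix : ∀ c ∈ M, c * h * c⁻¹ = h → c = 1 := by
      intro c hc hch
      by_contra hc1
      have hcH : c ∉ H := fun hcH => hc1 (hdisj c hcH hc)
      apply hhN
      apply hFW c hcH
      refine ⟨hh, h, hh, ?_⟩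
      simpa using hch
    let φ : M → M := fun k => ⟨(k : G) * h * (k : G)⁻¹ * h⁻¹, by
      have : (k : G) * h * (k : G)⁻¹ * h⁻¹ = (k : G) * (h * (k : G)⁻¹ * h⁻¹) := by group
      rw [this]
      exact M.mul_mem k.2 (‹M.Normal›.conj_mem _ (M.inv_mem k.2) h)⟩
    have hφinj : Function.Injective φ := by
      intro k k' hkk
      have h1 : (k : G) * h * (k : G)⁻¹ * h⁻¹ = (k' : G) * h * (k' : G)⁻¹ * h⁻¹ :=
        congrArg Subtype.val hkk
      have h2 : (k : G) * h * (k : G)⁻¹ = (k' : G) * h * (k' : G)⁻¹ := mul_right_cancel h1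
      have h3 : ((k' : G)⁻¹ * k) * h * ((k' : G)⁻¹ * k)⁻¹ = h := by
        calc ((k' : G)⁻¹ * k) * h * ((k' : G)⁻¹ * k)⁻¹
            = (k' : G)⁻¹ * ((k : G) * h * (k : G)⁻¹) * k' := by group
          _ = (k' : G)⁻¹ * ((k' : G) * h * (k' : G)⁻¹) * k' := by rw [h2]
          _ = h := by group
      have h4 := hfix _ (M.mul_mem (M.inv_mem k'.2) k.2) h3
      apply Subtype.ext
      have := inv_mul_eq_one.mp h4
      exact this.symm
    have hφsurj : Function.Surjective φ := Finite.injective_iff_surjective.mp hφinj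
    obtain ⟨k, hk⟩ := hφsurj ⟨m, hm⟩
    have hk' : (k : G) * h * (k : G)⁻¹ * h⁻¹ = m := congrArg Subtype.val hk
    have hmh : m * h = (k : G) * h * (k : G)⁻¹ := by
      rw [← hk']; group
    rw [hmh] at hg
    have hx' : (k : G)⁻¹ * x * k ∈ M := ‹M.Normal›.conj_mem' x hxM k
    have h5 : ((k : G)⁻¹ * x * k) * h * ((k : G)⁻¹ * x * k)⁻¹ = h := by
      calc ((k : G)⁻¹ * x * k) * h * ((k : G)⁻¹ * x * k)⁻¹
          = (k : G)⁻¹ * (x * ((k : G) * h * (k : G)⁻¹)) * x⁻¹ * k := by group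
        _ = (k : G)⁻¹ * (((k : G) * h * (k : G)⁻¹) * x) * x⁻¹ * k := by rw [hg]
        _ = h := by group
    have h6 := hfix _ hx' h5
    apply hx1
    have : x = (k : G) * ((k : G)⁻¹ * x * k) * (k : G)⁻¹ := by group
    rw [this, h6]; group

end Cfsg.Agent.S4113
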