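import Cfsg.Statements.S4118
import Cfsg.Agent.Lib.Helper72TIHall
import Cfsg.Agent.Lib.Helper71ZaMain
import Cfsg.Agent.Lib.Helper1TIHallFC
import Cfsg.Agent.Lib.Helper1TIHallSolv
import Cfsg.Agent.Lib.Helper1Fitting
import Cfsg.Agent.Lib.Helper27Coprime

set_option autoImplicit false
open Cfsg

namespace Cfsg.Agent.S4118

open Subgroup Cfsg.Agent.Lib.Helper72TIHall Cfsg.Agent.Lib.Helper71ZaDefs
  Cfsg.Agent.Lib.Helper1TIHallFC Cfsg.Agent.Lib.Helper1TIHallSolv Cfsg.Agent.Lib.Helper1Basic

/-- Let G be a finite group and H a non-normal subgroup meeting each of its conjugates by elements outside N_G(H) trivially, with the order of H coprime to its index in N_G(H); let π be the set of primes dividing the order of H and suppose G is π-separable (it has a chain of normal subgroups from 1 to G each of whose factors has order divisible only by primes in π or coprime to the order of H). Let O be the largest normal subgroup of G of order coprime to the order of H. Then G = O·N_G(H), O·H is normal in G, and G is solvable if and only if O is solvable and H has no subgroup isomorphic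 to SL₂(5). -/
theorem result {G : Type*} [Group G] [Finite G] (H : Subgroup G)
    (hTI : Cfsg.IsTISubset (H : Set G)) (hnn : ¬ H.Normal)
    (hHall : (Nat.card H).Coprime (H.subgroupOf (Subgroup.normalizer (H : Set G))).index)
    (hsep : ∃ (n : ℕ) (M : Fin (n + 1) → Subgroup G), M 0 = ⊥ ∧ M (Fin.last n) = ⊤ ∧ Monotone M ∧ (∀ i, (M i).Normal) ∧
      ∀ i : Fin n, (∀ q : ℕ, q.Prime → q ∣ (M i.castSucc).relIndex (M i.succ) → q ∣ Nat.card H) ∨
        ((M i.castSucc).relIndex (M i.succ)).Coprime (Nat.card H))
    (O : Subgroup G) (hO : O = sSup {K : Subgroup G | K.Normal ∧ (Nat.card K).Coprime (Nat.card H)}) :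
    O ⊔ Subgroup.normalizer (H : Set G) = ⊤ ∧ (O ⊔ H).Normal ∧
    (Group.IsSolvable G ↔ Group.IsSolvable O ∧
      ∀ K : Subgroup G, K ≤ H → ¬ Nonempty (K ≃* Matrix.SpecialLinearGroup (Fin 2) (ZMod 5))) := by
  classical
  have hOc := (Cfsg.Agent.Lib.Helper1Fitting.coprime_card_sSup (Nat.card H)
    {K : Subgroup G | K.Normal ∧ (Nat.card K).Coprime (Nat.card H)} (fun N hN => hN))
  rw [← hO] at hOc
  have hOn : O.Normal := hOc.1
  have htop := sup_normalizer_eq_top hTI hHall hsep O hO
  have hON : ¬ O ≤ normalizer (H : Set G) := by
    intro h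
    apply hnn
    rw [sup_eq_right.mpr h] at htop
    exact normalizer_eq_top_iff.mp htop
  have hOtop : normalizer (O : Set G) = ⊤ := normalizer_eq_top_iff.2 hOn
  have hOHn : (O ⊔ H).Normal := by
    rw [← normalizer_eq_top_iff, eq_top_iff, ← htop]
    refine sup_le (le_sup_left.trans le_normalizer) ?_
    refine le_trans ?_ (normalizer_inf_le_normalizer_sup O H)
    rw [hOtop]
    exact le_inf le_top le_rfl
  refine ⟨htop, hOHn, ?_, ?_⟩
  · intro hG
    refine ⟨inferInstance, ?_⟩
    rintro K - ⟨e⟩
    have h1 : Group.IsSolvable (Matrix.SpecialLinearGroup (Fin 2) (ZMod 5)) :=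
      Group.isSolvable_of_surjective (f := e.toMonoidHom) e.surjective
    exact not_solvable_SL25 h1
  · rintro ⟨hOs, hno⟩
    -- `H` has a fixed-point-free representation
    have hdisj : O ⊓ H = ⊥ := (Subgroup.disjoint_of_coprime_natCard hOc.2).eq_bot
    have hFC : FC H := by
      refine fc_of_const_centralizer O H hOs hOc.2 ?_ ?_
      · intro h hh hh1 x hx hc
        have hxN : x ∈ normalizer (H : Set G) := by
          apply mem_normalizer_of_TI hTI hh hh1
          rw [← hc]
          simpa using hh
        rw [mem_centralizer_iff]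
        intro k hk
        have h1 : x * k * x⁻¹ * k⁻¹ ∈ O ⊓ H := by
          refine mem_inf.2 ⟨?_, ?_⟩
          · have : x * k * x⁻¹ * k⁻¹ = x * (k * x⁻¹ * k⁻¹) := by group
            rw [this]
            exact mul_mem hx (hOn.conj_mem _ (inv_mem hx) k)
          · exact mul_mem ((mem_normalizer_iff.mp hxN k).mp hk) (inv_mem hk)
        rw [hdisj, mem_bot] at h1
        calc k * x = (x * k * x⁻¹ * k⁻¹)⁻¹ * (x * k) := by group
          _ = x * k := by rw [h1]; simp
      · intro hle
        exact hON (hle.trans (centralizer_le_normalizer _))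
    have hHs : Group.IsSolvable H := by
      by_contra hns
      obtain ⟨S, -, -, -, -, -, -, ⟨e⟩, -⟩ :=
        Cfsg.Agent.Lib.Helper71ZaMain.structure_nonsolvable hFC hns
      exact hno (S.map H.subtype) (map_subtype_le S)
        ⟨(S.equivMapOfInjective H.subtype H.subtype_injective).symm.trans e⟩
    have hab := isCyclic_of_abelian hTI hOc.2 hON
    -- a complement of `H` in its normalizer
    have hHN : H ≤ normalizer (H : Set G) := le_normalizer
    obtain ⟨W', hW'⟩ := exists_right_complement'_of_coprime
      (N := H.subgroupOf (normalizer (H : Set G)))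
      (by rw [card_subgroupOf_of_le hHN]; exact hHall)
    set W : Subgroup G := W'.map (normalizer (H : Set G)).subtype with hW
    have hWN : W ≤ normalizer (H : Set G) := map_subtype_le W'
    have hWcard : Nat.card W = (H.subgroupOf (normalizer (H : Set G))).index := by
      rw [hW, Subgroup.card_map_of_injective (Subgroup.subtype_injective _)]
      exact (hW'.symm.index_eq_card).symm
    have hWc : (Nat.card W).Coprime (Nat.card H) := by
      rw [hWcard]; exact hHall.symm
    have hHW : H ⊔ W = normalizer (H : Set G) := by
      have h1 := congrArg (Subgroup.map (normalizer (H : Set G)).subtype) hW'.sup_eq_top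
      rw [Subgroup.map_sup, subgroupOf_map_subtype, inf_eq_left.2 hHN, ← MonoidHom.range_eq_map,
        Subgroup.range_subtype] at h1
      exact h1
    set W1 : Subgroup G := W ⊓ centralizer (H : Set G) with hW1
    have hW1O : W1 ≤ O := by
      have hn : (O ⊔ W1).Normal := by
        rw [← normalizer_eq_top_iff, eq_top_iff, ← htop, ← hHW]
        refine sup_le (le_sup_left.trans le_normalizer) ?_
        refine le_trans ?_ (normalizer_inf_le_normalizer_sup O W1)
        rw [hOtop]
        refine le_inf le_top (sup_le ?_ ?_)
        · apply le_normalizer_of_forall_conj_mem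
          intro h hh x hx
          have := (mem_centralizer_iff.1 (mem_inf.1 hx).2) h hh
          rw [this]
          simpa using hx
        · apply le_normalizer_of_forall_conj_mem
          intro w hw x hx
          rw [hW1, mem_inf] at hx
          refine mem_inf.2 ⟨mul_mem (mul_mem hw hx.1) (inv_mem hw), ?_⟩
          exact conj_mem_of_le_normalizer (normalizer_le_normalizer_centralizer H) (hWN hw) hx.2
      have hc : (Nat.card (O ⊔ W1 : Subgroup G)).Coprime (Nat.card H) := by
        refine Nat.Coprime.coprime_dvd_left
          (Cfsg.Agent.Lib.Helper1Fitting.card_sup_dvd_of_normal O W1) (Nat.Coprime.mul_left hOc.2 ?_)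
        exact Nat.Coprime.coprime_dvd_left (card_dvd_of_le inf_le_left) hWc
      have h1 : O ⊔ W1 ≤ O := by
        conv_rhs => rw [hO]
        exact le_sSup ⟨hn, hc⟩
      exact le_sup_right.trans h1
    have hW1s : Group.IsSolvable W1 := isSolvable_of_le hW1O
    have hWs : Group.IsSolvable W := solvable_of_acts H W hWN hWc hHs hab hW1s
    have hNs : Group.IsSolvable (normalizer (H : Set G)) := by
      rw [← hHW]
      exact Cfsg.Agent.Lib.Helper27Coprime.isSolvable_sup hHs hWs hWN
    have hTs : Group.IsSolvable (⊤ : Subgroup G) := by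
      rw [← htop]
      refine Cfsg.Agent.Lib.Helper27Coprime.isSolvable_sup hOs hNs ?_
      rw [hOtop]; exact le_top
    exact Group.isSolvable_of_surjective (f := (Subgroup.topEquiv (G := G)).toMonoidHom)
      Subgroup.topEquiv.surjective

end Cfsg.Agent.S4118
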