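import Cfsg.Statements.S4126
import Cfsg.Agent.S1946

set_option autoImplicit false
open Cfsg

namespace Cfsg.Agent.S4126

open Subgroup

theorem exists_mul_of_index_pow {G : Type*} [Group G] [Finite G] {p : ℕ} [Fact p.Prime]
    (P : Sylow p G) (C : Subgroup G) (k : ℕ) (hC : C.index = p ^ k) (g : G) :
    ∃ x ∈ (P : Subgroup G), ∃ c ∈ C, g = x * c := by
  have hp : p.Prime := Fact.out
  have e1 : C.relIndex P * (P : Subgroup G).index = (C ⊓ P : Subgroup G).index := by
    rw [← inf_relIndex_right]; exact relIndex_mul_index inf_le_right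
  have e2 : (P : Subgroup G).relIndex C * C.index = (C ⊓ P : Subgroup G).index := by
    rw [← inf_relIndex_left]; exact relIndex_mul_index inf_le_left
  have h1 : p ^ k ∣ C.relIndex P := by
    have : p ^ k ∣ C.relIndex P * (P : Subgroup G).index := by
      rw [e1, ← e2, hC]; exact Dvd.intro_left _ rfl
    exact (Nat.Coprime.pow_left k
      ((Nat.Prime.coprime_iff_not_dvd hp).mpr P.not_dvd_index)).dvd_of_dvd_mul_right this
  have hne : C.relIndex (P : Subgroup G) ≠ 0 := by
    unfold relIndex; exact index_ne_zero_of_finite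
  have h2 : C.relIndex P ≤ p ^ k := by
    rw [← hC, ← relIndex_top_right]
    apply relIndex_le_of_le_right le_top
    rw [relIndex_top_right]; exact index_ne_zero_of_finite
  have h3 : C.relIndex P = p ^ k := le_antisymm h2 (Nat.le_of_dvd (Nat.pos_of_ne_zero hne) h1)
  have hstab : MulAction.stabilizer (P : Subgroup G) ((1 : G) : G ⧸ C) = C.subgroupOf P := by
    ext x
    rw [MulAction.mem_stabilizer_iff, mem_subgroupOf]
    show (((x : G) * 1 : G) : G ⧸ C) = ((1 : G) : G ⧸ C) ↔ _
    rw [eq_comm, QuotientGroup.eq]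
    simp
  have horb : MulAction.orbit (P : Subgroup G) ((1 : G) : G ⧸ C) = Set.univ := by
    apply Set.eq_of_subset_of_ncard_le (Set.subset_univ _)
    rw [Set.ncard_univ, ← MulAction.index_stabilizer, hstab]
    exact (hC.trans h3.symm).le
  have hg : (g : G ⧸ C) ∈ MulAction.orbit (P : Subgroup G) ((1 : G) : G ⧸ C) := by
    rw [horb]; trivial
  obtain ⟨x, hx⟩ := hg
  have hx' : (((x : G) * 1 : G) : G ⧸ C) = (g : G ⧸ C) := hx
  rw [QuotientGroup.eq] at hx'
  refine ⟨x, x.2, _, hx', ?_⟩
  group


/-- Let G be a finite group and p a prime. Suppose every element of order p, and when p = 2 also every element of order 4, has a conjugacy class of p-power size. Then G has a normal p-complement. -/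
theorem result {G : Type*} [Group G] [Finite G] (p : ℕ) [Fact p.Prime]
    (h : ∀ x : G, (orderOf x = p ∨ (p = 2 ∧ orderOf x = 4)) → ∃ a : ℕ, (Subgroup.centralizer ({x} : Set G)).index = p ^ a) :
    Cfsg.HasNormalPComplement p G := by
  let P : Sylow p G := default
  apply (Cfsg.Agent.S1946.result P).mpr
  intro a ha hsmall g _
  by_cases ha1 : a = 1
  · exact ⟨1, one_mem _, by rw [ha1]; simp⟩
  have hp : p.Prime := Fact.out
  have hord : orderOf a = p ∨ (p = 2 ∧ orderOf a = 4) := by
    rcases hsmall with h1 | ⟨h2, h4⟩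
    · left
      exact orderOf_eq_prime h1 ha1
    · have hd : orderOf a ∣ 2 ^ 2 := orderOf_dvd_of_pow_eq_one (by norm_num; exact h4)
      obtain ⟨j, hj, hje⟩ := (Nat.dvd_prime_pow Nat.prime_two).mp hd
      interval_cases j
      · exfalso; apply ha1; rw [← orderOf_eq_one_iff]; simpa using hje
      · left; rw [h2]; simpa using hje
      · right; exact ⟨h2, by simpa using hje⟩
  obtain ⟨k, hk⟩ := h a hord
  obtain ⟨x, hx, c, hc, rfl⟩ := exists_mul_of_index_pow P _ k hk g
  refine ⟨x, hx, ?_⟩
  have hca : c * a = a * c := (mem_centralizer_singleton_iff.mp hc)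
  calc x * c * a * (x * c)⁻¹ = x * (c * a) * c⁻¹ * x⁻¹ := by group
    _ = x * a * x⁻¹ := by rw [hca]; group

end Cfsg.Agent.S4126
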