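import Cfsg.Statements.S4172
import Cfsg.Agent.Lib.H73TgDefs
import Cfsg.Agent.Lib.H73TgTwo
import Cfsg.Agent.Lib.H73TgNF
import Cfsg.Agent.Lib.H73TgMono
import Cfsg.Agent.Lib.H73TgFSne
import Cfsg.Agent.Lib.H73TgC2
import Cfsg.Agent.Lib.H73TgFP
import Cfsg.Agent.Lib.H73TgE0
import Cfsg.Agent.Lib.H73TgC1
import Cfsg.Agent.Lib.H73TgEA
import Cfsg.Agent.Lib.H73TgGenG
import Cfsg.Agent.Lib.H73TgCyc
import Cfsg.Agent.Lib.H73TgTrans

set_option autoImplicit false
open Cfsg

namespace Cfsg.Agent.S4172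

/-- Let p be a prime and G a finite group with a non-commutative Sylow p-subgroup P whose Frattini subgroup has index p² in P (P is generated by two elements). Suppose G has no nontrivial normal subgroup of order prime to p and the Frattini subgroup of P contains no nontrivial normal subgroup of G. Then the generalized Fitting subgroup F*(G) is the unique minimal normal subgroup of G, the image of P in G/F*(G) is cyclic, and if F*(G) is not commutative then P permutes the components of G transitively by conjugation. -/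
theorem result {G : Type*} [Group G] [Finite G] (p : ℕ) [Fact p.Prime] (P : Sylow p G) (hna : ¬ IsMulCommutative (P : Subgroup G)) (hgen : (frattini ↥(P : Subgroup G)).index = p ^ 2) (hcore : Cfsg.pPrimeCore p G = ⊥) (hfrat : ((frattini ↥(P : Subgroup G)).map (P : Subgroup G).subtype).normalCore = ⊥) [hFn : (Cfsg.generalizedFittingSubgroup G).Normal] :
    (Cfsg.generalizedFittingSubgroup G ≠ ⊥ ∧ ∀ K : Subgroup G, K.Normal → K ≠ ⊥ → Cfsg.generalizedFittingSubgroup G ≤ K) ∧
      IsCyclic ↥((P : Subgroup G).map (QuotientGroup.mk' (Cfsg.generalizedFittingSubgroup G))) ∧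
      (¬ IsMulCommutative (Cfsg.generalizedFittingSubgroup G) → ∀ K L : Subgroup G, Cfsg.IsComponent K → Cfsg.IsComponent L → ∃ x ∈ (P : Subgroup G), L = K.map (MulAut.conj x).toMonoidHom) := by
  have h : Cfsg.Agent.Lib.H73TgDefs.Hyp p P := ⟨hna, hgen, hcore, hfrat⟩
  have hnt : Nontrivial G := by
    by_contra hnt
    rw [not_nontrivial_iff_subsingleton] at hnt
    exact hna ⟨⟨fun a b => Subsingleton.elim _ _⟩⟩
  have htop : ∀ K : Subgroup G, K.Normal → (P : Subgroup G) ≤ Subgroup.normalizer (K : Set G) := by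
    intro K hK
    rw [Subgroup.normalizer_eq_top_iff.mpr hK]
    exact le_top
  have hint : ∀ K1 K2 : Subgroup G, K1.Normal → K2.Normal → K1 ≠ ⊥ → K2 ≠ ⊥ → K1 ⊓ K2 ≠ ⊥ :=
    fun K1 K2 h1 h2 h1' h2' h0 =>
      Cfsg.Agent.Lib.H73TgTwo.false_of_two P h K1 K2 (htop K1 h1) (htop K2 h2) h0
        (Cfsg.Agent.Lib.H73TgNF.not_le_Phi P h K1 h1 h1') (Cfsg.Agent.Lib.H73TgNF.not_le_Phi P h K2 h2 h2')
  obtain ⟨N, hN⟩ := Cfsg.Agent.Lib.H73TgMono.exists_mono hint
  have hne : Cfsg.generalizedFittingSubgroup G ≠ ⊥ := Cfsg.Agent.Lib.H73TgFSne.fstar_ne_bot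
  have hFp := Cfsg.Agent.Lib.H73TgFP.fitting_isPGroup (G := G) (p := p) hcore
  have hle : Cfsg.generalizedFittingSubgroup G ≤ N := by
    by_cases hF : Cfsg.fittingSubgroup G = ⊥
    · exact Cfsg.Agent.Lib.H73TgC2.fstar_le N hN hF
    · have hE := Cfsg.Agent.Lib.H73TgE0.layer_eq_bot P h N hN hF hFp
      unfold Cfsg.generalizedFittingSubgroup
      rw [hE, bot_sup_eq]
      exact Cfsg.Agent.Lib.H73TgC1.fitting_le P h N hN hF hFp
  refine ⟨⟨hne, fun K hK hK1 => hle.trans (hN.2.2 K hK hK1)⟩, ?_, ?_⟩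
  · obtain ⟨g, hg, hgen'⟩ := Cfsg.Agent.Lib.H73TgGenG.exists_gen P hgen (Cfsg.generalizedFittingSubgroup G) hFn
      (Cfsg.Agent.Lib.H73TgNF.not_le_Phi P h _ hFn hne)
    exact Cfsg.Agent.Lib.H73TgCyc.isCyclic_map (P : Subgroup G) _ g hg hgen'
  · intro hnc K L hK hL
    have hF : Cfsg.fittingSubgroup G = ⊥ := by
      by_contra hF
      have hE := Cfsg.Agent.Lib.H73TgE0.layer_eq_bot P h N hN hF hFp
      have hEA := Cfsg.Agent.Lib.H73TgEA.normal_pgroup_elem P h (Cfsg.fittingSubgroup G)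
        Cfsg.Agent.Lib.Helper28Fitting.fitting_normal hFp
      have hFS : Cfsg.generalizedFittingSubgroup G = Cfsg.fittingSubgroup G := by
        unfold Cfsg.generalizedFittingSubgroup
        rw [hE, bot_sup_eq]
      apply hnc
      rw [hFS]
      exact ⟨⟨fun a b => Subtype.ext (hEA.1 _ a.2 _ b.2)⟩⟩
    exact Cfsg.Agent.Lib.H73TgTrans.trans P h hF K L hK hL

end Cfsg.Agent.S4172
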