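import Cfsg.Statements.S4189
import Cfsg.Agent.S4399

set_option autoImplicit false
open Cfsg

namespace Cfsg.Agent.S4189

open Cfsg.Agent.Lib

theorem odd_pow_two_pow (r : ℤ) (hr : Odd r) (m : ℕ) : (2:ℤ) ^ m ∣ r ^ (2 ^ m) - 1 := by
  induction m with
  | zero => simp
  | succ m ih =>
    have e : r ^ (2 ^ (m + 1)) - 1 = (r ^ (2 ^ m) - 1) * (r ^ (2 ^ m) + 1) := by
      rw [pow_succ 2 m, pow_mul]; ring
    rw [e, pow_succ]
    apply mul_dvd_mul ih
    have : Odd (r ^ (2 ^ m)) := hr.pow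
    exact (this.add_odd odd_one).two_dvd

theorem aut_two_group {P : Type*} [Group P] [Finite P] (m : ℕ) (a b : P) (ha : orderOf a = 2 ^ (m + 1))
    (hAi : (Subgroup.zpowers a).index = 2) (hb : b ∉ Subgroup.zpowers a)
    (hchar : ∀ β : MulAut P, β a ∈ Subgroup.zpowers a) : IsPGroup 2 (MulAut P) := by
  have htop : ∀ K : Subgroup P, a ∈ K → b ∈ K → K = ⊤ := by
    intro K haK hbK
    rw [Subgroup.eq_top_iff']
    intro x
    by_cases hx : x ∈ Subgroup.zpowers a
    · exact (Subgroup.zpowers_le.mpr haK) hx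
    · have h1 : x * b ∈ Subgroup.zpowers a := by
        rw [Subgroup.mul_mem_iff_of_index_two hAi]
        exact iff_of_false hx hb
      have := K.mul_mem ((Subgroup.zpowers_le.mpr haK) h1) (K.inv_mem hbK)
      simpa using this
  intro β
  obtain ⟨r, hr⟩ := Subgroup.mem_zpowers_iff.mp (hchar β)
  have hodd : Odd r := by
    by_contra h
    rw [Int.not_odd_iff_even] at h
    obtain ⟨j, rfl⟩ := h
    have h1 : (β a) ^ (2 ^ m) = 1 := by
      rw [← hr, ← zpow_natCast, ← zpow_mul]
      have : (j + j) * ((2 ^ m : ℕ) : ℤ) = ((2 ^ (m + 1) : ℕ) : ℤ) * j := by push_cast; ring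
      rw [this, zpow_mul, zpow_natCast, ← ha, pow_orderOf_eq_one, one_zpow]
    rw [← map_pow] at h1
    have h2 : a ^ (2 ^ m) = 1 := β.injective (by rw [h1, map_one])
    have h3 := orderOf_dvd_of_pow_eq_one h2
    rw [ha] at h3
    have := (Nat.pow_dvd_pow_iff_le_right (by norm_num : 1 < 2)).mp h3
    omega
  have hpow : ∀ j : ℕ, (β ^ j) a = a ^ (r ^ j) := by
    intro j
    induction j with
    | zero => simp
    | succ j ih =>
      rw [pow_succ', MulAut.mul_apply, ih, map_zpow, ← hr, ← zpow_mul, pow_succ']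
  have hγa : (β ^ (2 ^ (m + 1))) a = a := by
    rw [hpow]
    obtain ⟨c, hc⟩ := odd_pow_two_pow r hodd (m + 1)
    have : r ^ (2 ^ (m + 1)) = 1 + ((2 ^ (m + 1) : ℕ) : ℤ) * c := by push_cast; linarith
    rw [this, zpow_add, zpow_one, zpow_mul, zpow_natCast, ← ha, pow_orderOf_eq_one, one_zpow, mul_one]
  have key : ∀ γ : MulAut P, γ a = a → γ ^ (2 ^ (m + 1)) = 1 := by
    intro γ hγ
    have hγz : ∀ i : ℤ, γ (a ^ i) = a ^ i := by
      intro i
      rw [map_zpow, hγ]
    have hγb : γ b ∉ Subgroup.zpowers a := by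
      intro h
      obtain ⟨i, hi⟩ := Subgroup.mem_zpowers_iff.mp h
      apply hb
      have : b = a ^ i := γ.injective (by rw [hγz, hi])
      rw [this]
      exact Subgroup.zpow_mem_zpowers a i
    have hc : b⁻¹ * γ b ∈ Subgroup.zpowers a := by
      rw [Subgroup.mul_mem_iff_of_index_two hAi, inv_mem_iff]
      exact iff_of_false hb hγb
    obtain ⟨i, hi⟩ := Subgroup.mem_zpowers_iff.mp hc
    have hγb' : γ b = b * a ^ i := by rw [hi]; group
    have h1 : ∀ j : ℕ, (γ ^ j) a = a := by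
      intro j
      induction j with
      | zero => simp
      | succ j ih => rw [pow_succ', MulAut.mul_apply, ih, hγ]
    have h2 : ∀ j : ℕ, (γ ^ j) b = b * (a ^ i) ^ j := by
      intro j
      induction j with
      | zero => simp
      | succ j ih =>
        rw [pow_succ', MulAut.mul_apply, ih, map_mul, map_pow, hγz, hγb', pow_succ', mul_assoc]
    have h3 : (γ ^ (2 ^ (m + 1))) b = b := by
      rw [h2, ← zpow_natCast, ← zpow_mul, mul_comm, zpow_mul, zpow_natCast, ← ha, pow_orderOf_eq_one,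
        one_zpow, mul_one]
    have h4 : ((γ ^ (2 ^ (m + 1))).toMonoidHom).eqLocus (MonoidHom.id P) = ⊤ :=
      htop _ (h1 _) h3
    ext x
    have : x ∈ ((γ ^ (2 ^ (m + 1))).toMonoidHom).eqLocus (MonoidHom.id P) := h4 ▸ Subgroup.mem_top x
    exact this
  refine ⟨(m + 1) + (m + 1), ?_⟩
  rw [pow_add, pow_mul]
  exact key _ hγa

/-- Let P be a finite non-abelian 2-group whose commutator subgroup has index 4 and whose automorphism group is not a 2-group (some automorphism has order that is not a power of 2). Then P is isomorphic to the quaternion group of order 8. -/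
theorem result {P : Type*} [Group P] [Finite P] (hP : IsPGroup 2 P) (hna : ¬ IsMulCommutative P) (h4 : (commutator P).index = 4) (haut : ¬ IsPGroup 2 (MulAut P)) : Nonempty (P ≃* QuaternionGroup 2) := by
  obtain ⟨m, hm⟩ := IsPGroup.iff_card.mp hP
  have hd4 : 4 ∣ Nat.card P := h4 ▸ (commutator P).index_dvd_card
  have hm2 : 2 ≤ m := by
    rw [hm] at hd4
    exact (Nat.pow_dvd_pow_iff_le_right (by norm_num : 1 < 2)).mp (by simpa using hd4)
  have hna' : ∃ x y : P, x * y ≠ y * x := by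
    by_contra h
    push Not at h
    exact hna (isMulCommutative_iff.mpr h)
  have hm3 : m ≠ 2 := by
    rintro rfl
    have h1 := (commutator P).card_mul_index
    rw [h4, hm] at h1
    have h2 : Nat.card (commutator P) = 1 := by omega
    have h3 : commutator P = ⊥ := Subgroup.card_eq_one.mp h2
    rw [commutator_eq_bot_iff_center_eq_top] at h3
    obtain ⟨x, y, hxy⟩ := hna'
    apply hxy
    have : y ∈ Subgroup.center P := h3 ▸ Subgroup.mem_top y
    exact Subgroup.mem_center_iff.mp this x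
  obtain ⟨n, rfl⟩ : ∃ n, m = n + 3 := ⟨m - 3, by omega⟩
  obtain ⟨C, hC, hCi⟩ := Cfsg.Agent.S4399.exists_cyclic_index_two n P hm h4
  obtain ⟨a, b, ha, hb, hcases⟩ := Cfsg.Agent.S0646.result (n + 3) (by omega) hm C hC hCi hna'
  have e1 : n + 3 - 1 = n + 2 := by omega
  have e2 : n + 3 - 2 = n + 1 := by omega
  rw [e1] at ha
  rw [e2] at hcases
  have hAi : (Subgroup.zpowers a).index = 2 := by
    have h1 := (Subgroup.zpowers a).card_mul_index
    rw [Nat.card_zpowers, ha, hm, pow_succ 2 (n + 2)] at h1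
    exact Nat.eq_of_mul_eq_mul_left (by positivity) h1
  have htop : ∀ K : Subgroup P, a ∈ K → b ∈ K → K = ⊤ := by
    intro K haK hbK
    rw [Subgroup.eq_top_iff']
    intro x
    by_cases hx : x ∈ Subgroup.zpowers a
    · exact (Subgroup.zpowers_le.mpr haK) hx
    · have h1 : x * b ∈ Subgroup.zpowers a := by
        rw [Subgroup.mul_mem_iff_of_index_two hAi]
        exact iff_of_false hx hb
      have := K.mul_mem ((Subgroup.zpowers_le.mpr haK) h1) (K.inv_mem hbK)
      simpa using this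
  -- criterion
  have crit : ∀ e : ℕ, 0 < e → e < 2 ^ (n + 2) → (∀ x, x ∉ Subgroup.zpowers a → x ^ e = 1) → False := by
    intro e he0 he hx
    apply haut
    apply aut_two_group (n + 1) a b ha hAi hb
    intro β
    by_contra hβ
    have h1 := hx _ hβ
    rw [← map_pow] at h1
    have h2 : a ^ e = 1 := β.injective (by rw [h1, map_one])
    have h3 := Nat.le_of_dvd he0 (orderOf_dvd_of_pow_eq_one h2)
    omega
  have hform : ∀ x, x ∉ Subgroup.zpowers a → ∃ i : ℤ, x = b * a ^ i := by
    intro x hx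
    have hc : b⁻¹ * x ∈ Subgroup.zpowers a := by
      rw [Subgroup.mul_mem_iff_of_index_two hAi, inv_mem_iff]
      exact iff_of_false hb hx
    obtain ⟨i, hi⟩ := Subgroup.mem_zpowers_iff.mp hc
    exact ⟨i, by rw [hi]; group⟩
  have hsq : ∀ i : ℤ, (b * a ^ i) ^ 2 = (b * a * b⁻¹) ^ i * b ^ 2 * a ^ i := by
    intro i
    rw [conj_zpow, pow_two, pow_two]; group
  have h44 : 2 ^ 2 ≤ 2 ^ (n + 2) := Nat.pow_le_pow_right (by norm_num) (by omega)
  rcases hcases with ⟨hb2, hc⟩ | ⟨hb2, hc⟩ | ⟨hn4, hb2, hc⟩ | ⟨hn4, hb2, hc⟩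
  · exfalso
    apply crit 2 (by norm_num) (by omega)
    intro x hx
    obtain ⟨i, rfl⟩ := hform x hx
    rw [hsq, hc, hb2]; group
  · rcases Nat.eq_zero_or_pos n with rfl | hn
    · have hq := Helper25Quat.nonempty_equiv (n := 2) (A := a) (B := b)
        (by rw [ha]; norm_num) (by rw [← pow_two]; exact hb2) hc hb ⊤
        (by rw [Nat.card_congr Subgroup.topEquiv.toEquiv, hm]; norm_num) (Subgroup.mem_top _)
        (Subgroup.mem_top _)
      obtain ⟨f⟩ := hq
      exact ⟨Subgroup.topEquiv.symm.trans f⟩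
    · exfalso
      have h88 : 2 ^ 3 ≤ 2 ^ (n + 2) := Nat.pow_le_pow_right (by norm_num) (by omega)
      apply crit 4 (by norm_num) (by omega)
      intro x hx
      obtain ⟨i, rfl⟩ := hform x hx
      have : (b * a ^ i) ^ 4 = ((b * a ^ i) ^ 2) ^ 2 := by rw [← pow_mul]
      rw [this, hsq, hc, hb2]
      have e3 : a⁻¹ ^ i * a ^ 2 ^ (n + 1) * a ^ i = a ^ 2 ^ (n + 1) := by
        rw [← zpow_natCast a (2 ^ (n + 1)), inv_zpow', ← zpow_add, ← zpow_add]
        congr 1; ring
      rw [e3, ← pow_mul, ← pow_succ, ← ha, pow_orderOf_eq_one]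
  · exfalso
    have hAc : IsMulCommutative ↥(Subgroup.zpowers a) := inferInstance
    have hcen := Cfsg.Agent.S4399.card_inf_center _ hAi hAc h4
    have ha2 : a ^ 2 ∈ Subgroup.center P := by
      have t1 : Subgroup.centralizer {a ^ 2} = ⊤ := by
        apply htop
        · rw [Subgroup.mem_centralizer_singleton_iff, ← pow_succ, ← pow_succ']
        · rw [Subgroup.mem_centralizer_singleton_iff, ← mul_inv_eq_iff_eq_mul, ← conj_pow, hc,
            ← pow_mul]
          have : (1 + 2 ^ (n + 1)) * 2 = 2 + 2 ^ (n + 2) := by ring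
          rw [this, pow_add, ← ha, pow_orderOf_eq_one, mul_one]
      rw [Subgroup.mem_center_iff]
      intro g
      have : g ∈ Subgroup.centralizer {a ^ 2} := t1 ▸ Subgroup.mem_top g
      exact Subgroup.mem_centralizer_singleton_iff.mp this
    have hle : Subgroup.zpowers (a ^ 2) ≤ Subgroup.zpowers a ⊓ Subgroup.center P := by
      rw [Subgroup.zpowers_le]
      exact ⟨Subgroup.pow_mem _ (Subgroup.mem_zpowers a) 2, ha2⟩
    have h5 := Subgroup.card_le_of_le hle
    rw [hcen, Nat.card_zpowers, orderOf_pow_of_dvd (by norm_num)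
      (by rw [ha]; exact dvd_pow_self 2 (by omega)), ha, pow_succ,
      Nat.mul_div_cancel _ (by norm_num)] at h5
    have : 2 ^ 2 ≤ 2 ^ (n + 1) := Nat.pow_le_pow_right (by norm_num) (by omega)
    omega
  · exfalso
    have h88 : 2 ^ 3 ≤ 2 ^ (n + 2) := Nat.pow_le_pow_right (by norm_num) (by omega)
    apply crit 4 (by norm_num) (by omega)
    intro x hx
    obtain ⟨i, rfl⟩ := hform x hx
    have : (b * a ^ i) ^ 4 = ((b * a ^ i) ^ 2) ^ 2 := by rw [← pow_mul]
    rw [this, hsq, hc, hb2, mul_one]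
    have e3 : (a ^ (2 ^ (n + 1) - 1)) ^ i * a ^ i = (a ^ (2 ^ (n + 1))) ^ i := by
      rw [← zpow_natCast a (2 ^ (n + 1) - 1), ← zpow_natCast a (2 ^ (n + 1)), ← zpow_mul, ← zpow_mul,
        ← zpow_add, Nat.cast_sub Nat.one_le_two_pow]
      congr 1; push_cast; ring
    rw [e3, ← zpow_natCast _ 2, ← zpow_mul, mul_comm, zpow_mul, zpow_natCast, ← pow_mul, ← pow_succ,
      ← ha, pow_orderOf_eq_one, one_zpow]

end Cfsg.Agent.S4189
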