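import Cfsg.Statements.S4207
-- import your own Cfsg.Agent.* helpers here
import Cfsg.Agent.Lib.Helper73Frattini

set_option autoImplicit false
open Cfsg

namespace Cfsg.Agent.S4207

theorem card_frattini {P : Type*} [Group P] [Finite P] {p n r : ℕ} [Fact p.Prime]
    (hP : Nat.card P = p ^ n) (hr : (frattini P).index = p ^ r) :
    Nat.card (frattini P) = p ^ (n - r) := by
  have hp : p.Prime := Fact.out
  have h1 := (frattini P).card_mul_index
  rw [hr, hP] at h1
  have hle : r ≤ n := (Nat.pow_dvd_pow_iff_le_right hp.one_lt).mp (Dvd.intro_left _ h1)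
  have h2 : p ^ n = p ^ (n - r) * p ^ r := by
    rw [← pow_add]; congr 1; omega
  rw [h2] at h1
  exact Nat.eq_of_mul_eq_mul_right (pow_pos hp.pos r) h1


/-- Let `P` be a group of order `p^n` whose Frattini subgroup has index `p^r`. Then any group of automorphisms of `P` each of which induces the identity on the Frattini quotient has order dividing `p^(r(n-r))`; in particular it is a `p`-group. -/
theorem result {P : Type*} [Group P] [Finite P] {p n r : ℕ} [Fact p.Prime] (hP : Nat.card P = p ^ n) (hr : (frattini P).index = p ^ r) (A : Subgroup (MulAut P)) (hA : ∀ α ∈ A, ∀ x : P, α x * x⁻¹ ∈ frattini P) : Nat.card A ∣ p ^ (r * (n - r)) := by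
  obtain ⟨x, hx⟩ := Cfsg.Agent.Lib.Helper73Frattini.exists_generators_of_index_frattini hr
  let Ω := {y : Fin r → P // ∀ i, y i * (x i)⁻¹ ∈ frattini P}
  let act : MulAction A Ω :=
    { smul := fun α y => ⟨fun i => (α : MulAut P) (y.1 i), fun i => by
          have h1 := hA α α.2 (y.1 i)
          have h2 := y.2 i
          have h3 : (α : MulAut P) (y.1 i) * (x i)⁻¹ =
              ((α : MulAut P) (y.1 i) * (y.1 i)⁻¹) * (y.1 i * (x i)⁻¹) := by group
          rw [h3]
          exact Subgroup.mul_mem _ h1 h2⟩
      one_smul := fun y => Subtype.ext (funext fun i => rfl)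
      mul_smul := fun α β y => Subtype.ext (funext fun i => rfl) }
  have hfree : ∀ (α : A) (y : Ω), α • y = y → α = 1 := by
    intro α y h
    apply Subtype.ext
    apply Cfsg.Agent.Lib.Helper73Frattini.eq_one_of_fix_generators y.1
      (Cfsg.Agent.Lib.Helper73Frattini.closure_eq_top_of_congr x y.1 hx y.2)
    intro i
    exact congrFun (congrArg Subtype.val h) i
  have hdvd := Cfsg.Agent.Lib.Helper73Frattini.card_dvd_of_free hfree
  have hcard : Nat.card Ω = p ^ (r * (n - r)) := by
    let e : Ω ≃ (Fin r → frattini P) :=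
      { toFun := fun y i => ⟨y.1 i * (x i)⁻¹, y.2 i⟩
        invFun := fun z => ⟨fun i => (z i : P) * x i, fun i => by simp⟩
        left_inv := fun y => Subtype.ext (funext fun i => by simp)
        right_inv := fun z => funext fun i => Subtype.ext (by simp) }
    rw [Nat.card_congr e, Nat.card_fun, card_frattini hP hr, Nat.card_eq_fintype_card,
      Fintype.card_fin, ← pow_mul, mul_comm]
  rwa [hcard] at hdvd

end Cfsg.Agent.S4207
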