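import Cfsg.Statements.S4208
-- import your own Cfsg.Agent.* helpers here
import Cfsg.Agent.Lib.Helper73Frattini
import Cfsg.Agent.Lib.Helper3PGroup
import Cfsg.Agent.S4207

set_option autoImplicit false
open Cfsg

namespace Cfsg.Agent.S4208

open Cfsg.Agent.Lib.Helper73Frattini

section abs

variable {P V : Type*} [Group P] [Finite P] {p : ℕ} [Fact p.Prime] [AddCommGroup V]
  [Module (ZMod p) V] [Finite V] (π : P → V) (hmul : ∀ x y, π (x * y) = π x + π y)
  (hsurj : Function.Surjective π) (hker : ∀ x, π x = 0 ↔ x ∈ frattini P)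

include hmul in
theorem pi_one : π 1 = 0 := by
  have := hmul 1 1
  rw [mul_one] at this
  exact left_eq_add.mp this

include hmul in
theorem pi_inv (x : P) : π x⁻¹ = - π x := by
  have := hmul x⁻¹ x
  rw [inv_mul_cancel, pi_one π hmul] at this
  exact eq_neg_of_add_eq_zero_left this.symm

include hmul in
theorem pi_pow (x : P) (k : ℕ) : π (x ^ k) = k • π x := by
  induction k with
  | zero => simp [pi_one π hmul]
  | succ k ih => rw [pow_succ, hmul, ih, succ_nsmul]

include hmul hsurj hker in
theorem gen_iff_li {r : ℕ} (hfin : Module.finrank (ZMod p) V = r) (y : Fin r → P) :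
    Subgroup.closure (Set.range y) = ⊤ ↔ LinearIndependent (ZMod p) (fun i => π (y i)) := by
  constructor
  · intro hgen
    apply linearIndependent_of_top_le_span_of_card_eq_finrank _ (by rw [Fintype.card_fin, hfin])
    intro v hv
    clear hv
    obtain ⟨g, rfl⟩ := hsurj v
    have hg : g ∈ Subgroup.closure (Set.range y) := hgen ▸ Subgroup.mem_top g
    induction hg using Subgroup.closure_induction with
    | mem x hx =>
      obtain ⟨i, rfl⟩ := hx
      exact Submodule.subset_span ⟨i, rfl⟩
    | one => rw [pi_one π hmul]; exact Submodule.zero_mem _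
    | mul x z _ _ hx hz => rw [hmul]; exact Submodule.add_mem _ hx hz
    | inv x _ hx => rw [pi_inv π hmul]; exact Submodule.neg_mem _ hx
  · intro hli
    have hspan := hli.span_eq_top_of_card_eq_finrank' (by rw [Fintype.card_fin, hfin])
    have key : ∀ v ∈ Submodule.span (ZMod p) (Set.range fun i => π (y i)),
        ∃ s ∈ Subgroup.closure (Set.range y), π s = v := by
      intro v hv
      induction hv using Submodule.span_induction with
      | mem x hx =>
        obtain ⟨i, rfl⟩ := hx
        exact ⟨y i, Subgroup.subset_closure ⟨i, rfl⟩, rfl⟩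
      | zero => exact ⟨1, Subgroup.one_mem _, pi_one π hmul⟩
      | add a b _ _ ha hb =>
        obtain ⟨s, hs, rfl⟩ := ha
        obtain ⟨t, ht, rfl⟩ := hb
        exact ⟨s * t, Subgroup.mul_mem _ hs ht, hmul s t⟩
      | smul c a _ ha =>
        obtain ⟨s, hs, rfl⟩ := ha
        refine ⟨s ^ c.val, Subgroup.pow_mem _ hs _, ?_⟩
        rw [pi_pow π hmul, ← Nat.cast_smul_eq_nsmul (ZMod p), ZMod.natCast_zmod_val]
    apply frattini_nongenerating
    rw [eq_top_iff]
    intro g _
    obtain ⟨s, hs, hsg⟩ := key (π g) (hspan ▸ Submodule.mem_top)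
    have h1 : s⁻¹ * g ∈ frattini P := by
      rw [← hker, hmul, pi_inv π hmul, hsg]; simp
    have h2 : g = s * (s⁻¹ * g) := by group
    rw [h2]
    exact Subgroup.mul_mem _ ((le_sup_left : _ ≤ Subgroup.closure (Set.range y) ⊔ frattini P) hs)
      ((le_sup_right : _ ≤ Subgroup.closure (Set.range y) ⊔ frattini P) h1)

include hmul hsurj hker in
theorem card_gen {r : ℕ} (hfin : Module.finrank (ZMod p) V = r) :
    Nat.card {y : Fin r → P // Subgroup.closure (Set.range y) = ⊤} =
      (∏ i : Fin r, (p ^ r - p ^ i.val)) * Nat.card (frattini P) ^ r := by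
  classical
  let σ : V → P := Function.surjInv hsurj
  have hσ : ∀ v, π (σ v) = v := Function.surjInv_eq hsurj
  let e₀ : P ≃ V × frattini P :=
    { toFun := fun x => (π x, ⟨(σ (π x))⁻¹ * x, by
        rw [← hker, hmul, pi_inv π hmul, hσ]; simp⟩)
      invFun := fun z => σ z.1 * z.2
      left_inv := fun x => by simp
      right_inv := fun z => by
        have h1 : π (σ z.1 * (z.2 : P)) = z.1 := by
          rw [hmul, hσ, (hker _).mpr z.2.2, add_zero]
        apply Prod.ext
        · exact h1
        · apply Subtype.ext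
          show (σ (π (σ z.1 * (z.2 : P))))⁻¹ * (σ z.1 * (z.2 : P)) = z.2
          rw [h1]; simp }
  let e₁ : (Fin r → P) ≃ (Fin r → V) × (Fin r → frattini P) :=
    (Equiv.piCongrRight fun _ => e₀).trans (Equiv.arrowProdEquivProdArrow (Fin r) _ _)
  let e₂ : {y : Fin r → P // Subgroup.closure (Set.range y) = ⊤} ≃
      {z : (Fin r → V) × (Fin r → frattini P) // LinearIndependent (ZMod p) z.1} :=
    Equiv.subtypeEquiv e₁ (fun y => gen_iff_li π hmul hsurj hker hfin y)
  rw [Nat.card_congr (e₂.trans (Equiv.prodSubtypeFstEquivSubtypeProd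
    (p := fun s : Fin r → V => LinearIndependent (ZMod p) s))), Nat.card_prod,
    card_linearIndependent (by rw [hfin]), hfin, ZMod.card, Nat.card_fun,
    Nat.card_eq_fintype_card (α := Fin r), Fintype.card_fin]

include hmul hsurj hker in
theorem card_aut_dvd {r : ℕ} (hfin : Module.finrank (ZMod p) V = r) :
    Nat.card (MulAut P) ∣ (∏ i : Fin r, (p ^ r - p ^ i.val)) * Nat.card (frattini P) ^ r := by
  rw [← card_gen π hmul hsurj hker hfin]
  let act : MulAction (MulAut P) {y : Fin r → P // Subgroup.closure (Set.range y) = ⊤} :=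
    { smul := fun α y => ⟨fun i => α (y.1 i), by
        have h1 : Set.range (fun i => α (y.1 i)) = α.toMonoidHom '' Set.range y.1 := by
          rw [← Set.range_comp]; rfl
        rw [h1, ← MonoidHom.map_closure, y.2, ← MonoidHom.range_eq_map,
          MonoidHom.range_eq_top]
        exact α.surjective⟩
      one_smul := fun y => Subtype.ext (funext fun i => rfl)
      mul_smul := fun α β y => Subtype.ext (funext fun i => rfl) }
  apply card_dvd_of_free
  intro α y h
  apply eq_one_of_fix_generators y.1 y.2
  intro i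
  exact congrFun (congrArg Subtype.val h) i

end abs

open scoped IsMulCommutative in
theorem final {P : Type*} [Group P] [Finite P] {p n r : ℕ} [Fact p.Prime]
    (hP : Nat.card P = p ^ n) (hr : (frattini P).index = p ^ r) :
    Nat.card (MulAut P) ∣ (∏ i : Fin r, (p ^ r - p ^ i.val)) * Nat.card (frattini P) ^ r := by
  have hPG : IsPGroup p P := IsPGroup.of_card hP
  have hcomm : IsMulCommutative (P ⧸ frattini P) :=
    Subgroup.Normal.quotient_commutative_iff_commutator_le.mpr
      (Cfsg.Agent.Lib.Helper3PGroup.commutator_le_frattini hPG)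
  let _ : Module (ZMod p) (Additive (P ⧸ frattini P)) := AddCommGroup.zmodModule (n := p) (by
    intro x
    obtain ⟨g, hg⟩ := QuotientGroup.mk'_surjective (frattini P) (Additive.toMul x)
    have h1 : (Additive.toMul x) ^ p = 1 := by
      rw [← hg, ← map_pow]
      exact (QuotientGroup.eq_one_iff _).mpr (Cfsg.Agent.Lib.Helper3PGroup.pow_mem_frattini hPG g)
    exact congrArg Additive.ofMul h1)
  apply card_aut_dvd (V := Additive (P ⧸ frattini P))
    (fun x => Additive.ofMul (QuotientGroup.mk x : P ⧸ frattini P))
  · intro x y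
    rfl
  · intro v
    obtain ⟨g, hg⟩ := QuotientGroup.mk'_surjective (frattini P) (Additive.toMul v)
    exact ⟨g, congrArg Additive.ofMul hg⟩
  · intro x
    exact QuotientGroup.eq_one_iff x
  · have h1 : Nat.card (Additive (P ⧸ frattini P)) = p ^ r := by
      rw [← hr]; rfl
    have hfin : Finite (Additive (P ⧸ frattini P)) := inferInstanceAs (Finite (P ⧸ frattini P))
    have hmf : Module.Finite (ZMod p) (Additive (P ⧸ frattini P)) := Module.Finite.of_finite
    have h2 := @Module.natCard_eq_pow_finrank (ZMod p) (Additive (P ⧸ frattini P)) _ _ _ hmf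
    rw [h1, Nat.card_zmod] at h2
    exact (Nat.pow_right_injective (Fact.out : p.Prime).two_le h2).symm


/-- Let `P` be a group of order `p^n` whose Frattini subgroup has index `p^r`. Then the order of the automorphism group of `P` divides `p^(r(n-r)) · (p^r - 1)(p^r - p) ⋯ (p^r - p^(r-1))`. -/
theorem result {P : Type*} [Group P] [Finite P] {p n r : ℕ} [Fact p.Prime] (hP : Nat.card P = p ^ n) (hr : (frattini P).index = p ^ r) : Nat.card (MulAut P) ∣ p ^ (r * (n - r)) * ∏ i ∈ Finset.range r, (p ^ r - p ^ i) := by
  have h := final hP hr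
  rw [Cfsg.Agent.S4207.card_frattini hP hr, ← pow_mul, mul_comm,
    Fin.prod_univ_eq_prod_range (fun i => p ^ r - p ^ i) r, mul_comm (n - r) r] at h
  exact h

end Cfsg.Agent.S4208
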