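import Cfsg.Statements.S4249
import Cfsg.Agent.Lib.Helper71Kegel
-- import your own Cfsg.Agent.* helpers here

set_option autoImplicit false
open Cfsg

namespace Cfsg.Agent.S4249

/-- Let G be a finite group and p a prime such that G is not a p-group, and suppose the Hughes subgroup H_p(G), generated by all elements g with g^p ≠ 1, is a proper subgroup. Then H_p(G) is nilpotent and has index p in G. -/
theorem result {G : Type*} [Group G] [Finite G] (p : ℕ) (hp : p.Prime) (hG : ¬ IsPGroup p G)
    (hH : Subgroup.closure {g : G | g ^ p ≠ 1} ≠ ⊤) :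
    Group.IsNilpotent (Subgroup.closure {g : G | g ^ p ≠ 1}) ∧ (Subgroup.closure {g : G | g ^ p ≠ 1}).index = p := by
  have hHT : Cfsg.Agent.Lib.Helper71Kegel.HT p (Subgroup.closure {g : G | g ^ p ≠ 1}) := by
    refine ⟨⟨?_⟩, hH, ?_⟩
    · intro n hn g
      have h1 : (Subgroup.closure {g : G | g ^ p ≠ 1}).map (MulAut.conj g).toMonoidHom ≤
          Subgroup.closure {g : G | g ^ p ≠ 1} := by
        rw [MonoidHom.map_closure, Subgroup.closure_le]
        rintro _ ⟨y, hy, rfl⟩
        apply Subgroup.subset_closure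
        show (g * y * g⁻¹) ^ p ≠ 1
        rw [conj_pow]
        intro h2
        apply hy
        have h3 : y ^ p = g⁻¹ * (g * y ^ p * g⁻¹) * g := by group
        rw [h3, h2]; group
      exact h1 ⟨n, hn, rfl⟩
    · intro y hy
      by_contra h1
      exact hy (Subgroup.subset_closure h1)
  exact ⟨Cfsg.Agent.Lib.Helper71Kegel.nilpotent_of_HT hp _ hHT, hHT.index_eq hp hG⟩

end Cfsg.Agent.S4249
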