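import Cfsg.Statements.S4263
import Cfsg.Prelude.Def_Local
-- import your own Cfsg.Agent.* helpers here

set_option autoImplicit false
open Cfsg

namespace Cfsg.Agent.S4263

section Fitting

open Subgroup

variable {G : Type*} [Group G]


theorem pCore_isPGroup (p : ℕ) : IsPGroup p (Cfsg.pCore p G) :=
  Sylow.sSup_of_normal _ (fun _ h => h.2) (fun _ h => h.1)

theorem le_pCore {p : ℕ} {N : Subgroup G} (hN : N.Normal) (hp : IsPGroup p N) :
    N ≤ Cfsg.pCore p G := le_sSup ⟨hN, hp⟩

theorem fitting_normal : (Cfsg.fittingSubgroup G).Normal :=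
  Subgroup.sSup_normal _ (fun _ h => h.1)

theorem le_fitting {N : Subgroup G} (hN : N.Normal) (hn : Group.IsNilpotent N) :
    N ≤ Cfsg.fittingSubgroup G := le_sSup ⟨hN, hn⟩

/-- A finite group is generated by a choice of Sylow subgroups, one for each prime. -/
theorem iSup_sylow_eq_top [Finite G] (P : ∀ p : Nat.Primes, Sylow (p : ℕ) G) :
    ⨆ p : Nat.Primes, (P p : Subgroup G) = ⊤ := by
  rw [← index_eq_one]
  by_contra hne
  obtain ⟨q, hq, hdvd⟩ := Nat.exists_prime_and_dvd hne
  have : Fact q.Prime := ⟨hq⟩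
  have hle : (P ⟨q, hq⟩ : Subgroup G) ≤ ⨆ p : Nat.Primes, (P p : Subgroup G) :=
    le_iSup (fun p : Nat.Primes => (P p : Subgroup G)) ⟨q, hq⟩
  exact (P ⟨q, hq⟩).not_dvd_index (hdvd.trans (index_dvd_of_le hle))

theorem le_iSup_pCore_of_nilpotent [Finite G] {N : Subgroup G} (hN : N.Normal)
    (hn : Group.IsNilpotent N) : N ≤ ⨆ p : Nat.Primes, Cfsg.pCore (p : ℕ) G := by
  classical
  have hP : ∀ p : Nat.Primes, Nonempty (Sylow (p : ℕ) N) := fun p => inferInstance
  let P : ∀ p : Nat.Primes, Sylow (p : ℕ) N := fun p => Classical.choice (hP p)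
  have htop := iSup_sylow_eq_top P
  have h1 : N = (⨆ p : Nat.Primes, (P p : Subgroup N)).map N.subtype := by
    rw [htop, ← MonoidHom.range_eq_map, range_subtype]
  rw [h1, Subgroup.map_iSup]
  apply iSup_mono
  intro p
  have : Fact (p : ℕ).Prime := ⟨p.2⟩
  have hnorm : (P p : Subgroup N).Normal := inferInstance
  have hchar : (P p : Subgroup N).Characteristic := (P p).characteristic_of_normal hnorm
  have hG : ((P p : Subgroup N).map N.subtype).Normal := ConjAct.normal_of_characteristic_of_normal
  exact le_pCore hG ((P p).2.map N.subtype)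

theorem pCore_le_fitting [Finite G] (p : ℕ) [Fact p.Prime] :
    Cfsg.pCore p G ≤ Cfsg.fittingSubgroup G :=
  le_fitting inferInstance (pCore_isPGroup p).isNilpotent

theorem fitting_eq_iSup_pCore [Finite G] :
    Cfsg.fittingSubgroup G = ⨆ p : Nat.Primes, Cfsg.pCore (p : ℕ) G := by
  apply le_antisymm
  · exact sSup_le fun N hN => le_iSup_pCore_of_nilpotent hN.1 hN.2
  · apply iSup_le
    intro p
    have : Fact (p : ℕ).Prime := ⟨p.2⟩
    exact pCore_le_fitting p

theorem pCore_eq_bot_of_not_dvd [Finite G] {p : ℕ} [Fact p.Prime] (h : ¬ p ∣ Nat.card G) :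
    Cfsg.pCore p G = ⊥ := by
  obtain ⟨n, hn⟩ := IsPGroup.iff_card.mp (pCore_isPGroup (G := G) p)
  have hdvd : Nat.card (Cfsg.pCore p G) ∣ Nat.card G := card_subgroup_dvd_card _
  rcases Nat.eq_zero_or_pos n with h0 | h0
  · rw [h0, pow_zero] at hn
    exact (Subgroup.card_eq_one).mp hn
  · exfalso
    apply h
    refine dvd_trans ?_ hdvd
    rw [hn]
    exact dvd_pow_self p (by omega)

theorem fitting_isNilpotent [Finite G] : Group.IsNilpotent (Cfsg.fittingSubgroup G) := by
  classical
  let ι := {p : ℕ // p ∈ (Nat.card G).primeFactors}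
  have hprime : ∀ i : ι, Fact (i : ℕ).Prime := fun i => ⟨Nat.prime_of_mem_primeFactors i.2⟩
  let H : ι → Subgroup G := fun i => Cfsg.pCore (i : ℕ) G
  have hcomm : Pairwise fun i j : ι => ∀ x y : G, x ∈ H i → y ∈ H j → Commute x y := by
    intro i j hij x y hx hy
    have := hprime i
    have := hprime j
    have hne : (i : ℕ) ≠ (j : ℕ) := fun h => hij (Subtype.ext h)
    exact commute_of_normal_of_disjoint _ _ inferInstance inferInstance
      (IsPGroup.disjoint_of_ne _ _ hne _ _ (pCore_isPGroup _) (pCore_isPGroup _)) x y hx hy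
  have hrange : (noncommPiCoprod hcomm).range = Cfsg.fittingSubgroup G := by
    rw [noncommPiCoprod_range, fitting_eq_iSup_pCore]
    apply le_antisymm
    · apply iSup_le
      intro i
      exact le_iSup (fun p : Nat.Primes => Cfsg.pCore (p : ℕ) G) ⟨i, (hprime i).out⟩
    · apply iSup_le
      intro p
      have : Fact (p : ℕ).Prime := ⟨p.2⟩
      by_cases hp : (p : ℕ) ∣ Nat.card G
      · exact le_iSup H ⟨p, Nat.mem_primeFactors.mpr ⟨p.2, hp, Nat.card_pos.ne'⟩⟩
      · rw [pCore_eq_bot_of_not_dvd hp]; exact bot_le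
  have hnil : ∀ i : ι, Group.IsNilpotent (H i) := fun i => by
    have := hprime i
    exact (pCore_isPGroup (G := G) (i : ℕ)).isNilpotent
  have hpi : Group.IsNilpotent (∀ i : ι, H i) := Group.isNilpotent_pi
  rw [← hrange]
  exact Group.nilpotent_of_surjective (noncommPiCoprod hcomm).rangeRestrict
    (MonoidHom.rangeRestrict_surjective _)


end Fitting

theorem relIndex_dvd_index {G : Type*} [Group G] [Finite G] (N K : Subgroup G) [N.Normal] :
    K.relIndex N ∣ K.index := by
  have h1 : (K ⊓ N).relIndex N * N.relIndex (K ⊔ N) = (K ⊓ N).relIndex (K ⊔ N) :=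
    Subgroup.relIndex_mul_relIndex _ _ _ inf_le_right le_sup_right
  have h2 : (K ⊓ N).relIndex K * K.relIndex (K ⊔ N) = (K ⊓ N).relIndex (K ⊔ N) :=
    Subgroup.relIndex_mul_relIndex _ _ _ inf_le_left le_sup_left
  rw [Subgroup.relIndex_sup_right, Subgroup.inf_relIndex_right] at h1
  rw [Subgroup.inf_relIndex_left] at h2
  have h3 : K.relIndex N = K.relIndex (K ⊔ N) := by
    have hne : N.relIndex K ≠ 0 := Subgroup.index_ne_zero_of_finite
    have : K.relIndex N * N.relIndex K = N.relIndex K * K.relIndex (K ⊔ N) := by rw [h1, h2]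
    rw [mul_comm] at this
    exact Nat.eq_of_mul_eq_mul_left (Nat.pos_of_ne_zero hne) this
  rw [h3]
  exact Subgroup.relIndex_dvd_index_of_le le_sup_left

theorem pow_index_mem_of_nilpotent {N : Type*} [Group N] [Finite N] [hN : Group.IsNilpotent N] :
    ∀ (n : ℕ) (K : Subgroup N), K.index = n → ∀ y : N, y ^ K.index ∈ K := by
  intro n
  induction n using Nat.strong_induction_on with
  | _ n ih =>
    intro K hK y
    by_cases hKtop : K = ⊤
    · rw [hKtop]; trivial
    · have hlt : K < Subgroup.normalizer (K : Set N) :=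
        Group.normalizerCondition_of_isNilpotent K (lt_top_iff_ne_top.mpr hKtop)
      have hidx : K.relIndex (Subgroup.normalizer (K : Set N)) *
          (Subgroup.normalizer (K : Set N)).index = K.index := Subgroup.relIndex_mul_index hlt.le
      have hrel1 : K.relIndex (Subgroup.normalizer (K : Set N)) ≠ 1 := by
        rw [Ne, Subgroup.relIndex_eq_one]
        exact not_le_of_gt hlt
      have hrel0 : K.relIndex (Subgroup.normalizer (K : Set N)) ≠ 0 :=
        Subgroup.index_ne_zero_of_finite
      have hL0 : (Subgroup.normalizer (K : Set N)).index ≠ 0 := Subgroup.index_ne_zero_of_finite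
      have hLlt : (Subgroup.normalizer (K : Set N)).index < n := by
        rw [← hK, ← hidx]
        have : 2 ≤ K.relIndex (Subgroup.normalizer (K : Set N)) := by omega
        nlinarith [Nat.pos_of_ne_zero hL0]
      have h1 := ih _ hLlt (Subgroup.normalizer (K : Set N)) rfl y
      have hnorm : (K.subgroupOf (Subgroup.normalizer (K : Set N))).Normal :=
        Subgroup.normal_in_normalizer
      have h2 := Subgroup.pow_index_mem (K.subgroupOf (Subgroup.normalizer (K : Set N)))
        ⟨y ^ (Subgroup.normalizer (K : Set N)).index, h1⟩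
      rw [← hidx, mul_comm, pow_mul]
      exact h2

/-- Let G be a finite group. An element x lies in the Fitting subgroup F(G) if and only if, for every subgroup H of G, the power x^[G : H] lies in H. -/
theorem result {G : Type*} [Group G] [Finite G] (x : G) :
    x ∈ Cfsg.fittingSubgroup G ↔ ∀ H : Subgroup G, x ^ H.index ∈ H := by
  have hFn : (Cfsg.fittingSubgroup G).Normal := fitting_normal
  have hFnil : Group.IsNilpotent (Cfsg.fittingSubgroup G) := fitting_isNilpotent
  constructor
  · intro hx H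
    have h1 := pow_index_mem_of_nilpotent _ (H.subgroupOf (Cfsg.fittingSubgroup G)) rfl
      (⟨x, hx⟩ : Cfsg.fittingSubgroup G)
    have h2 : x ^ H.relIndex (Cfsg.fittingSubgroup G) ∈ H := h1
    obtain ⟨c, hc⟩ := relIndex_dvd_index (Cfsg.fittingSubgroup G) H
    rw [hc, pow_mul]
    exact H.pow_mem h2 c
  · intro h
    by_contra hx
    have hd : orderOf (x : G ⧸ Cfsg.fittingSubgroup G) ≠ 1 := by
      rw [Ne, orderOf_eq_one_iff, QuotientGroup.eq_one_iff]
      exact hx
    obtain ⟨p, hp, hpd⟩ := Nat.exists_prime_and_dvd hd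
    have : Fact p.Prime := ⟨hp⟩
    have hn0 : orderOf x ≠ 0 := (orderOf_pos x).ne'
    have hy1 : (x ^ (ordCompl[p] (orderOf x))) ^ (ordProj[p] (orderOf x)) = 1 := by
      rw [← pow_mul, mul_comm, Nat.ordProj_mul_ordCompl_eq_self, pow_orderOf_eq_one]
    have hyP : ∀ P : Sylow p G, x ^ (ordCompl[p] (orderOf x)) ∈ (P : Subgroup G) := by
      intro P
      have hcop : ((P : Subgroup G).index).Coprime (orderOf (x ^ (ordCompl[p] (orderOf x)))) := by
        apply Nat.Coprime.coprime_dvd_right (orderOf_dvd_of_pow_eq_one hy1)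
        apply Nat.Coprime.pow_right
        exact ((Nat.Prime.coprime_iff_not_dvd hp).mpr P.not_dvd_index).symm
      obtain ⟨k, hk⟩ := exists_pow_eq_self_of_coprime hcop
      rw [← hk]
      apply Subgroup.pow_mem
      rw [← pow_mul, mul_comm, pow_mul]
      exact Subgroup.pow_mem _ (h P) _
    obtain ⟨P⟩ : Nonempty (Sylow p G) := inferInstance
    have hcore : x ^ (ordCompl[p] (orderOf x)) ∈ (P : Subgroup G).normalCore := by
      intro b
      have := hyP (b⁻¹ • P)
      rw [Sylow.coe_subgroup_smul, Subgroup.mem_pointwise_smul_iff_inv_smul_mem, MulAut.smul_def,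
        ← map_inv, inv_inv, MulAut.conj_apply] at this
      exact this
    have hle : (P : Subgroup G).normalCore ≤ Cfsg.fittingSubgroup G := by
      apply le_fitting inferInstance
      exact (P.2.to_le (Subgroup.normalCore_le _)).isNilpotent
    have hF := hle hcore
    rw [← QuotientGroup.eq_one_iff, QuotientGroup.mk_pow] at hF
    exact Nat.not_dvd_ordCompl hp hn0 (hpd.trans (orderOf_dvd_of_pow_eq_one hF))

end Cfsg.Agent.S4263
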