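import Cfsg.Statements.S4291
import Cfsg.Agent.Lib.Helper75FcH
import Cfsg.Agent.Lib.Helper71ZaMain

set_option autoImplicit false
open Cfsg

namespace Cfsg.Agent.S4291

open Cfsg.Agent.Lib.Helper71ZaDefs in
theorem data_of_fc {G : Type*} [Group G] [Finite G] (h : FC G) (hns : ¬ Group.IsSolvable G) :
    ZG G ∧ ∃ (S : Subgroup G) (_ : S.Normal)
      (φ : S →* alternatingGroup (Fin 5)), Function.Surjective φ ∧ Nat.card φ.ker = 2 := by
  have heven : 2 ∣ Nat.card G := by
    by_contra hodd
    exact hns (Cfsg.Agent.Lib.Helper70ZaODD_PC.solvable_of_fc_odd h hodd)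
  have hZ := Cfsg.Agent.Lib.Helper71ZaAsmA.zg_of_fc h heven
  obtain ⟨S, hSn, hSne, hSperf⟩ := Cfsg.Agent.Lib.Helper70ZaODD_PC.exists_perfect_core hns
  have hFS : FC S := Cfsg.Agent.Lib.Helper36ZaLIN1.fc_of_injective h S.subtype S.subtype_injective
  have hSnt : Nontrivial S := (Subgroup.nontrivial_iff_ne_bot S).mpr hSne
  have hZS := Cfsg.Agent.Lib.Helper71ZaAsmA.zg_of_fc hFS
    (Cfsg.Agent.Lib.Helper71ZaMain.even_of_perfect hFS hSperf hSnt)
  obtain ⟨L, hL, f, hf, hk⟩ := Cfsg.Agent.Lib.Helper71ZaAsmB.exists_A5 hZS hSperf hSnt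
  have htop := Cfsg.Agent.Lib.Helper71ZaAsmB.eq_top_of_A5 hZS hSperf L f hf hk
  subst htop
  let e : S ≃* (⊤ : Subgroup S) := Subgroup.topEquiv.symm
  have hk' : Nat.card (f.comp e.toMonoidHom).ker = 2 := by
    have h1 : (f.comp e.toMonoidHom).ker = f.ker.comap e.toMonoidHom := rfl
    rw [h1, ← hk]
    have h2 : f.ker.comap e.toMonoidHom = f.ker.map e.symm.toMonoidHom :=
      (Subgroup.map_equiv_eq_comap_symm e.symm f.ker).symm
    rw [h2]
    exact Subgroup.card_map_of_injective e.symm.injective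
  exact ⟨hZ, S, hSn, f.comp e.toMonoidHom, hf.comp e.surjective, hk'⟩

/-- Let G be a finite group that occurs as a Frobenius complement. Then G has exactly one normal subgroup N such that every Sylow subgroup of N is cyclic and the quotient of G by N is trivial or isomorphic to one of the following five groups: the Klein four-group, the alternating group of degree 4, the symmetric group of degree 4, the alternating group of degree 5, the symmetric group of degree 5. (The quotient is described by a surjective homomorphism with kernel N; the Klein four-group is written as the dihedral group of order 4.) -/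
theorem result {G : Type*} [Group G] [Finite G]
    (hFC : (∃ (L : Type) (_ : Group L) (_ : Finite L) (H : Subgroup L), Cfsg.IsFrobeniusComplement H ∧ Nonempty (G ≃* H))) :
    ∃! N : Subgroup G, N.Normal ∧ (∀ (p : ℕ) [Fact p.Prime] (P : Sylow p N), IsCyclic P) ∧
      (N = ⊤ ∨
        (∃ f : G →* DihedralGroup 2, Function.Surjective f ∧ f.ker = N) ∨
        (∃ f : G →* alternatingGroup (Fin 4), Function.Surjective f ∧ f.ker = N) ∨
        (∃ f : G →* Equiv.Perm (Fin 4), Function.Surjective f ∧ f.ker = N) ∨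
        (∃ f : G →* alternatingGroup (Fin 5), Function.Surjective f ∧ f.ker = N) ∨
        (∃ f : G →* Equiv.Perm (Fin 5), Function.Surjective f ∧ f.ker = N)) := by
  obtain ⟨L, _, _, H, hH, ⟨e⟩⟩ := hFC
  have hFH := Cfsg.Agent.Lib.Helper36ZaLIN2.fc_of_frobenius_complement H hH
  have hFG := Cfsg.Agent.Lib.Helper36ZaLIN1.fc_of_injective hFH e.toMonoidHom e.injective
  obtain ⟨p, _, d, ρ, hd, hρ⟩ := id hFG
  have : Nonempty (Fin d) := ⟨⟨0, hd⟩⟩
  exact Cfsg.Agent.Lib.Helper75FcH.core (Cfsg.Agent.Lib.Helper76ZaZ12.zg_invol hρ)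
    (Cfsg.Agent.Lib.Helper76ZaZ12.zg_cyc hρ) (data_of_fc hFG)

end Cfsg.Agent.S4291
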