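import Cfsg.Statements.S4292
import Cfsg.Agent.Lib.H11FpMain
import Cfsg.Agent.Lib.H11FpToFrob
import Cfsg.Agent.Lib.H11FpProd
import Cfsg.Agent.Lib.H11FpCop

set_option autoImplicit false
open Cfsg

namespace Cfsg.Agent.S4292

open Cfsg.Agent.Lib.H11FpDefs

/-- Let A and B be nontrivial finite groups. Then the direct product A × B occurs as a Frobenius complement if and only if A and B both occur as Frobenius complements and the orders of A and B are coprime. -/
theorem result {A B : Type*} [Group A] [Finite A] [Nontrivial A] [Group B] [Finite B] [Nontrivial B] :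
    (∃ (L : Type) (_ : Group L) (_ : Finite L) (H : Subgroup L), Cfsg.IsFrobeniusComplement H ∧ Nonempty ((A × B) ≃* H)) ↔
    ((∃ (L : Type) (_ : Group L) (_ : Finite L) (H : Subgroup L), Cfsg.IsFrobeniusComplement H ∧ Nonempty (A ≃* H)) ∧
     (∃ (L : Type) (_ : Group L) (_ : Finite L) (H : Subgroup L), Cfsg.IsFrobeniusComplement H ∧ Nonempty (B ≃* H)) ∧
     (Nat.card A).Coprime (Nat.card B)) := by
  constructor
  · intro h
    obtain ⟨p, hp, hpG, hc⟩ := Cfsg.Agent.Lib.H11FpMain.cert_of_frob h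
    rw [Nat.card_prod] at hpG
    refine ⟨?_, ?_, Cfsg.Agent.Lib.H11FpCop.coprime_of_frob h⟩
    · exact Cfsg.Agent.Lib.H11FpToFrob.frob_of_cert p (fun h1 => hpG (h1.mul_right _))
        (hc.of_injective (MonoidHom.inl A B) (fun x y hxy => congrArg Prod.fst hxy))
    · exact Cfsg.Agent.Lib.H11FpToFrob.frob_of_cert p (fun h1 => hpG (h1.mul_left _))
        (hc.of_injective (MonoidHom.inr A B) (fun x y hxy => congrArg Prod.snd hxy))
  · rintro ⟨hA, hB, hcop⟩
    obtain ⟨l, hl1, hl⟩ := Nat.exists_infinite_primes (Nat.card (A × B) + 1)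
    have : Fact l.Prime := ⟨hl⟩
    have hnd : ¬ l ∣ Nat.card (A × B) := fun h1 => by
      have := Nat.le_of_dvd Nat.card_pos h1
      omega
    exact Cfsg.Agent.Lib.H11FpToFrob.frob_of_cert l hnd
      (Cfsg.Agent.Lib.H11FpProd.cert_prod hcop ((Cfsg.Agent.Lib.H11FpMain.cert_all hA).2 l)
        ((Cfsg.Agent.Lib.H11FpMain.cert_all hB).2 l))

end Cfsg.Agent.S4292
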