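import Cfsg.Statements.S4305
import Cfsg.Agent.Lib.Helper66S3k

set_option autoImplicit false
open Cfsg

namespace Cfsg.Agent.S4305

open Cfsg.Agent.Lib.Helper66S3k

/-- a 3-cycle -/
def c₀ : Equiv.Perm (Fin 3) := Equiv.swap 0 1 * Equiv.swap 1 2

/-- a transposition -/
def τ₀ : Equiv.Perm (Fin 3) := Equiv.swap 0 1

theorem all6 : ∀ a : Equiv.Perm (Fin 3),
    a = 1 ∨ a = c₀ ∨ a = c₀⁻¹ ∨ a = 1 * τ₀ ∨ a = c₀ * τ₀ ∨ a = c₀⁻¹ * τ₀ := by decide

theorem g3 : S3G c₀ τ₀ where
  c3 := by decide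
  t2 := by decide
  rel := by decide
  gen := by
    intro a
    rcases all6 a with h | h | h | h | h | h
    · exact ⟨1, Subgroup.one_mem _, Or.inl h⟩
    · exact ⟨c₀, Subgroup.mem_zpowers _, Or.inl h⟩
    · exact ⟨c₀⁻¹, Subgroup.inv_mem _ (Subgroup.mem_zpowers _), Or.inl h⟩
    · exact ⟨1, Subgroup.one_mem _, Or.inr h⟩
    · exact ⟨c₀, Subgroup.mem_zpowers _, Or.inr h⟩
    · exact ⟨c₀⁻¹, Subgroup.inv_mem _ (Subgroup.mem_zpowers _), Or.inr h⟩

/-- Let the symmetric group of degree 3 act by automorphisms on a finite solvable group `G` of order prime to 6, so that only the identity of `G` is fixed by all of it. Then the derived subgroup of `G` is nilpotent. -/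
theorem result {G : Type*} [Group G] [Finite G] [Group.IsSolvable G]
    [MulDistribMulAction (Equiv.Perm (Fin 3)) G] (hcop : (Nat.card G).Coprime 6)
    (hfpf : ∀ g : G, (∀ a : Equiv.Perm (Fin 3), a • g = g) → g = 1) :
    Group.IsNilpotent ↥(commutator G) := by
  obtain ⟨N, _, hNnil, hle⟩ := main3 g3 _ G rfl inferInstance hcop
    (MulDistribMulAction.toMulAut (Equiv.Perm (Fin 3)) G) (fun g hg => hfpf g hg)
  exact Subgroup.isNilpotent_of_ker_le_center (Subgroup.inclusion hle) (by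
    rw [(Subgroup.inclusion hle).ker_eq_bot (Subgroup.inclusion_injective hle)]
    exact bot_le)

end Cfsg.Agent.S4305
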