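import Cfsg.Statements.S4334
import Cfsg.Agent.S4263
import Cfsg.Agent.Lib.Helper11Schmidt
import Cfsg.Agent.Lib.Helper1SylowInv
import Cfsg.Agent.Lib.Helper31Nilpotent
import Cfsg.Agent.Lib.Helper74Pronormal

set_option autoImplicit false
set_option linter.unusedSectionVars false
open Cfsg

namespace Cfsg.Agent.S4334

open Subgroup Cfsg.Agent.Lib.Helper40Sylow Cfsg.Agent.Lib.Helper11Frobenius
  Cfsg.Agent.Lib.Helper11Counting Cfsg.Agent.Lib.Helper74Pronormal

section Basic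

variable {G : Type*} [Group G]

theorem mem_sup_comm {Hs Ht : Subgroup G} (hcomm : ∀ a ∈ Hs, ∀ b ∈ Ht, a * b = b * a) {x : G}
    (hx : x ∈ Hs ⊔ Ht) : ∃ s ∈ Hs, ∃ t ∈ Ht, x = s * t := by
  rw [sup_eq_closure] at hx
  induction hx using closure_induction with
  | mem x hx =>
    rcases hx with h | h
    · exact ⟨x, h, 1, one_mem _, (mul_one x).symm⟩
    · exact ⟨1, one_mem _, x, h, (one_mul x).symm⟩
  | one => exact ⟨1, one_mem _, 1, one_mem _, (mul_one 1).symm⟩
  | mul x y _ _ hx hy =>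
    obtain ⟨s, hs, t, ht, rfl⟩ := hx
    obtain ⟨s', hs', t', ht', rfl⟩ := hy
    refine ⟨s * s', mul_mem hs hs', t * t', mul_mem ht ht', ?_⟩
    calc s * t * (s' * t') = s * (t * s') * t' := by group
      _ = s * (s' * t) * t' := by rw [hcomm s' hs' t ht]
      _ = _ := by group
  | inv x _ hx =>
    obtain ⟨s, hs, t, ht, rfl⟩ := hx
    refine ⟨s⁻¹, inv_mem hs, t⁻¹, inv_mem ht, ?_⟩
    rw [hcomm s hs t ht, mul_inv_rev]

theorem eq_one_of_pow [Finite G] {ρ : Set ℕ} {T : Subgroup G} (hT : Cfsg.IsPiSubgroup ρ T) {p : ℕ}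
    (hp : p.Prime) (hpρ : p ∉ ρ) {t : G} (ht : t ∈ T) {k : ℕ} (h : t ^ p ^ k = 1) : t = 1 := by
  by_contra h1
  have h2 : orderOf t ∣ p ^ k := orderOf_dvd_of_pow_eq_one h
  obtain ⟨j, -, hj⟩ := (Nat.dvd_prime_pow hp).1 h2
  have hj0 : j ≠ 0 := by
    rintro rfl
    rw [pow_zero, orderOf_eq_one_iff] at hj
    exact h1 hj
  have h3 : p ∣ orderOf t := by rw [hj]; exact dvd_pow_self p hj0
  have h4 : orderOf t ∣ Nat.card T := by
    have := orderOf_dvd_natCard (⟨t, ht⟩ : T)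
    rwa [Subgroup.orderOf_mk] at this
  exact hpρ (hT p hp (h3.trans h4))

theorem isPGroup_zpowers {s k : ℕ} [Fact s.Prime] {y : G} (h : y ^ s ^ k = 1) :
    IsPGroup s (zpowers y) := by
  obtain ⟨j, -, hj⟩ := (Nat.dvd_prime_pow Fact.out).1 (orderOf_dvd_of_pow_eq_one h)
  exact IsPGroup.of_card (n := j) (by rw [Nat.card_zpowers, hj])

theorem coprime_of_pow {r s j : ℕ} (hr : r.Prime) (hs : s.Prime) (hrs : r ≠ s) {t : G}
    (h : t ^ s ^ j = 1) : (orderOf t).Coprime r :=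
  Nat.Coprime.coprime_dvd_left (orderOf_dvd_of_pow_eq_one h)
    (Nat.Coprime.pow_left j ((Nat.coprime_primes hs hr).2 hrs.symm))

end Basic

section Main

variable {G : Type*} [Group G] [Finite G] {σ τ π : Set ℕ} (hπ : π = σ ∪ τ) (hd : Disjoint σ τ)
  {H Hs Ht : Subgroup G} (hH : Cfsg.IsPiHall π H)
  (hs : Cfsg.IsPiSubgroup σ Hs) (ht : Cfsg.IsPiSubgroup τ Ht) (hsn : Group.IsNilpotent Hs)
  (hjoin : Hs ⊔ Ht = H) (hcomm : ∀ a ∈ Hs, ∀ b ∈ Ht, a * b = b * a)

include hd hs ht in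
theorem inf_bot : Hs ⊓ Ht = ⊥ := by
  rw [← disjoint_iff]
  apply disjoint_of_coprime_natCard
  apply Nat.coprime_of_dvd
  intro q hq h1 h2
  exact Set.disjoint_left.1 hd (hs q hq h1) (ht q hq h2)

include hd hs ht hjoin hcomm in
theorem split {x : G} (hx : x ∈ H) {n : ℕ} (hn : x ^ n = 1) :
    ∃ s ∈ Hs, ∃ t ∈ Ht, x = s * t ∧ s ^ n = 1 ∧ t ^ n = 1 := by
  rw [← hjoin] at hx
  obtain ⟨s, hs', t, ht', rfl⟩ := mem_sup_comm hcomm hx
  have hc : Commute s t := hcomm s hs' t ht'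
  rw [hc.mul_pow] at hn
  have h1 : s ^ n = (t ^ n)⁻¹ := eq_inv_of_mul_eq_one_left hn
  have h2 : s ^ n ∈ Hs ⊓ Ht := by
    refine mem_inf.2 ⟨pow_mem hs' n, ?_⟩
    rw [h1]
    exact Ht.inv_mem (Ht.pow_mem ht' n)
  rw [inf_bot hd hs ht, mem_bot] at h2
  refine ⟨s, hs', t, ht', rfl, h2, ?_⟩
  rw [h2, one_mul] at hn
  exact hn

include hd hs ht hsn hjoin hcomm in
theorem commC {p : ℕ} (hp : p.Prime) (hpσ : p ∈ σ) {x y : G} (hx : x ∈ H) (hy : y ∈ H) {k : ℕ}
    (hxk : x ^ p ^ k = 1) (hyp : (orderOf y).Coprime p) : Commute x y := by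
  obtain ⟨s, hs', t, ht', rfl, h1, h2⟩ := split hd hs ht hjoin hcomm hx hxk
  have ht1 : t = 1 := eq_one_of_pow ht hp (Set.disjoint_left.1 hd hpσ) ht' h2
  subst ht1
  rw [mul_one]
  obtain ⟨s2, hs2, t2, ht2, rfl, h3, h4⟩ := split hd hs ht hjoin hcomm hy (pow_orderOf_eq_one y)
  apply Commute.mul_right
  · have hco : (orderOf s).Coprime (orderOf s2) := by
      have a1 : orderOf s ∣ p ^ k := orderOf_dvd_of_pow_eq_one h1
      have a2 : orderOf s2 ∣ orderOf (s2 * t2) := orderOf_dvd_of_pow_eq_one h3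
      exact Nat.Coprime.coprime_dvd_left a1
        (Nat.Coprime.coprime_dvd_right a2 (Nat.Coprime.pow_left k hyp.symm))
    have := Cfsg.Agent.Lib.Helper31Nilpotent.coprime_commute Hs ⟨s, hs'⟩ ⟨s2, hs2⟩
      (by rwa [Subgroup.orderOf_mk, Subgroup.orderOf_mk])
    exact congrArg Subtype.val this
  · exact hcomm s hs' t2 ht2

include hH in
theorem exists_syl {r : ℕ} [Fact r.Prime] (hr : r ∈ π) :
    ∃ T : Subgroup G, T ≤ H ∧ IsSylowIn r T ⊤ := by
  obtain ⟨T, hT, -⟩ := exists_isSylowIn_ge (p := r) (Q := (⊥ : Subgroup G)) (H := H)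
    IsPGroup.of_bot bot_le
  refine ⟨T, hT.1, le_top, hT.2.1, ?_⟩
  rw [relIndex_top_right, ← relIndex_mul_index hT.1]
  intro h
  rcases (Nat.Prime.dvd_mul Fact.out).1 h with h | h
  · exact hT.2.2 h
  · exact hH.2 r Fact.out hr h

include hd hH hs ht hsn hjoin hcomm in
theorem cent_of_norm0 {r s : ℕ} [hr : Fact r.Prime] [hs' : Fact s.Prime] (hrs : r ≠ s) (hsπ : s ∈ π)
    (hor : r ∈ σ ∨ s ∈ σ) {R : Subgroup G} (hRH : R ≤ H) (hR : IsPGroup r R) {y : G}
    (hy : y ∈ normalizer (R : Set G)) {k : ℕ} (hyk : y ^ s ^ k = 1) :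
    y ∈ centralizer (R : Set G) := by
  obtain ⟨T, hTH, hT⟩ := exists_syl hH hsπ (r := s)
  have hTC : T ≤ centralizer (R : Set G) := by
    intro t ht'
    rw [mem_centralizer_iff]
    intro x hx
    obtain ⟨i, hi⟩ := hR ⟨x, hx⟩
    have hi' : x ^ r ^ i = 1 := by simpa using congrArg Subtype.val hi
    obtain ⟨j, hj⟩ := hT.2.1 ⟨t, ht'⟩
    have hj' : t ^ s ^ j = 1 := by simpa using congrArg Subtype.val hj
    rcases hor with h | h
    · exact (commC hd hs ht hsn hjoin hcomm hr.out h (hRH hx) (hTH ht') hi'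
        (coprime_of_pow hr.out hs'.out hrs hj')).eq
    · exact (commC hd hs ht hsn hjoin hcomm hs'.out h (hTH ht') (hRH hx) hj'
        (coprime_of_pow hs'.out hr.out hrs.symm hi')).eq.symm
  have hTN : IsSylowIn s T (normalizer (R : Set G)) :=
    hT.of_le (hTC.trans (centralizer_le_normalizer _)) le_top
  obtain ⟨n, hn, hle⟩ := hTN.exists_conj_le (isPGroup_zpowers hyk) (zpowers_le.2 hy)
  have h1 : n * y * n⁻¹ ∈ centralizer (R : Set G) := hTC (hle (conj_mem_cj (mem_zpowers y)))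
  have h2 : cj n⁻¹ (centralizer (R : Set G)) = centralizer (R : Set G) := by
    rw [← centralizer_cj, mem_normalizer_iff_cj.1 (inv_mem hn)]
  rw [← h2, mem_cj]
  simpa using h1

include hd hH hs ht hsn hjoin hcomm in
theorem cent_of_norm {r s : ℕ} [hr : Fact r.Prime] [hs' : Fact s.Prime] (hrs : r ≠ s) (hrπ : r ∈ π)
    (hsπ : s ∈ π) (hor : r ∈ σ ∨ s ∈ σ) {R : Subgroup G} (hR : IsPGroup r R) {y : G}
    (hy : y ∈ normalizer (R : Set G)) {k : ℕ} (hyk : y ^ s ^ k = 1) :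
    y ∈ centralizer (R : Set G) := by
  obtain ⟨T, hTH, hT⟩ := exists_syl hH hrπ (r := r)
  obtain ⟨x, -, hx⟩ := hT.exists_conj_le hR le_top
  have h1 : x * y * x⁻¹ ∈ normalizer ((cj x R : Subgroup G) : Set G) := by
    rw [normalizer_cj]; exact conj_mem_cj hy
  have h2 := cent_of_norm0 hd hH hs ht hsn hjoin hcomm hrs hsπ hor (hx.trans hTH)
    (isPGroup_cj hR x) h1 (k := k) (by rw [conj_pow, hyk]; group)
  rw [centralizer_cj, conj_mem_cj_iff] at h2
  exact h2

include hπ hd hH hs ht hsn hjoin hcomm in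
theorem decomp {K : Subgroup G} (hK : Cfsg.IsPiSubgroup π K) {p : ℕ} [hp : Fact p.Prime]
    (hpσ : p ∈ σ) :
    ∃ P N : Subgroup G, IsPGroup p P ∧ N ≤ K ∧ ¬ p ∣ Nat.card N ∧
      (∀ x ∈ P, ∀ y ∈ N, Commute x y) ∧ P ⊔ N = K := by
  have hpπ : p ∈ π := by rw [hπ]; exact Or.inl hpσ
  have hF : FrobCond p K := by
    intro Q hQ g hg hgp
    have hg' : (g : G) ∈ normalizer ((Q.map K.subtype : Subgroup G) : Set G) :=
      le_normalizer_map K.subtype ⟨g, hg, rfl⟩
    have hc : (g : G) ∈ centralizer ((Q.map K.subtype : Subgroup G) : Set G) := by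
      by_contra hgC
      obtain ⟨s, hs', hsd, R, hRz, hRs, hRC⟩ :=
        exists_prime_subgroup_not_centralizing _ (g : G) (isOfFinOrder_of_finite _) hgC
      apply hRC
      intro y hy
      have : Fact s.Prime := ⟨hs'⟩
      rw [Subgroup.orderOf_coe] at hsd
      have hsK : s ∣ Nat.card K := hsd.trans (orderOf_dvd_natCard g)
      have hsp : p ≠ s := by
        rintro rfl
        exact hs'.one_lt.ne' (Nat.Coprime.eq_one_of_dvd hgp.symm hsd)
      obtain ⟨k, hk⟩ := hRs ⟨y, hy⟩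
      exact cent_of_norm hd hH hs ht hsn hjoin hcomm (r := p) (s := s) hsp hpπ (hK s hs' hsK)
        (Or.inl hpσ) (hQ.map _) (zpowers_le.2 hg' (hRz hy)) (k := k)
        (by simpa using congrArg Subtype.val hk)
    rw [mem_centralizer_iff] at hc ⊢
    intro x hx
    exact Subtype.ext (hc x ⟨x, hx, rfl⟩)
  obtain ⟨N0, hN0, hcop, k, hidx⟩ := frobenius hF
  obtain ⟨P0⟩ : Nonempty (Sylow p K) := inferInstance
  have hcompl := isComplement'_of_npc N0 hcop k hidx P0
  have hPp : IsPGroup p ((P0 : Subgroup K).map K.subtype) := P0.2.map _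
  have hNK : N0.map K.subtype ≤ K := map_subtype_le _
  have hpN : ¬ p ∣ Nat.card (N0.map K.subtype) := by
    rw [card_map_of_injective K.subtype_injective]
    exact (Nat.Prime.coprime_iff_not_dvd hp.out).1 hcop.symm
  have hsup : (P0 : Subgroup K).map K.subtype ⊔ N0.map K.subtype = K := by
    rw [← Subgroup.map_sup, sup_comm, hcompl.sup_eq_top, ← MonoidHom.range_eq_map, range_subtype]
  have hPN : (P0 : Subgroup K).map K.subtype ≤ normalizer ((N0.map K.subtype : Subgroup G) : Set G) := by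
    rintro _ ⟨x0, -, rfl⟩
    exact le_normalizer_map K.subtype
      ⟨x0, by rw [normalizer_eq_top_iff.2 hN0]; exact mem_top _, rfl⟩
  generalize (P0 : Subgroup K).map K.subtype = P at hPp hsup hPN
  generalize N0.map K.subtype = N at hNK hpN hsup hPN
  refine ⟨P, N, hPp, hNK, hpN, ?_, hsup⟩
  have hcopPN : (Nat.card P).Coprime (Nat.card N) := by
    obtain ⟨m, hm⟩ := IsPGroup.iff_card.1 hPp
    rw [hm]
    exact Nat.Coprime.pow_left m ((Nat.Prime.coprime_iff_not_dvd hp.out).2 hpN)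
  have hsolP : Group.IsSolvable P := by
    have := hPp.isNilpotent
    infer_instance
  have key : ∀ q : Nat.Primes, ∃ Q : Sylow (q : ℕ) N, ∀ y ∈ (Q : Subgroup N),
      (y : G) ∈ centralizer (P : Set G) := by
    intro q
    have : Fact (q : ℕ).Prime := ⟨q.2⟩
    obtain ⟨Q, hQ⟩ := Cfsg.Agent.Lib.Helper1SylowInv.exists_invariant_sylow P N hPN hcopPN
      (Or.inl hsolP) q
    refine ⟨Q, fun y hy => ?_⟩
    rw [mem_centralizer_iff]
    intro x hx
    by_cases hy1 : y = 1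
    · rw [hy1]; simp
    · have hqN : (q : ℕ) ∣ Nat.card N := by
        obtain ⟨j, hj⟩ := (IsPGroup.iff_orderOf.1 Q.2) ⟨y, hy⟩
        rw [Subgroup.orderOf_mk] at hj
        have hj0 : j ≠ 0 := by
          rintro rfl
          rw [pow_zero, orderOf_eq_one_iff] at hj
          exact hy1 hj
        have h3 : (q : ℕ) ∣ orderOf y := by rw [hj]; exact dvd_pow_self _ hj0
        exact h3.trans (orderOf_dvd_natCard y)
      have hqK : (q : ℕ) ∣ Nat.card K := hqN.trans (card_dvd_of_le hNK)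
      have hqp : (q : ℕ) ≠ p := by
        intro h
        exact hpN (h ▸ hqN)
      obtain ⟨k, hk⟩ := hPp ⟨x, hx⟩
      have h5 := cent_of_norm hd hH hs ht hsn hjoin hcomm (r := q) (s := p) hqp (hK q q.2 hqK) hpπ
        (Or.inr hpσ) (Q.2.map N.subtype) (hQ hx) (k := k) (by simpa using congrArg Subtype.val hk)
      exact (mem_centralizer_iff.1 h5 y ⟨y, hy, rfl⟩).symm
  choose Qf hQf using key
  have htop := Cfsg.Agent.S4263.iSup_sylow_eq_top Qf
  have hle : (⊤ : Subgroup N) ≤ (centralizer (P : Set G)).comap N.subtype := by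
    rw [← htop]
    exact iSup_le fun q y hy => hQf q y hy
  intro x hx y hy
  have h6 : y ∈ centralizer (P : Set G) := hle (mem_top (⟨y, hy⟩ : N))
  exact mem_centralizer_iff.1 h6 x hx

include hd hH hs ht hjoin hcomm hπ in
theorem maximal_Ht : Maximal (Cfsg.IsPiSubgroup τ) Ht := by
  refine ⟨ht, fun T' hT' hle => ?_⟩
  rw [← relIndex_eq_one]
  by_contra hne
  obtain ⟨q, hq, hqd⟩ := Nat.exists_prime_and_dvd hne
  have : Fact q.Prime := ⟨hq⟩
  have hqτ : q ∈ τ := hT' q hq (hqd.trans (relIndex_dvd_card _ _))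
  have hqπ : q ∈ π := by rw [hπ]; exact Or.inr hqτ
  obtain ⟨T, hTH, hT⟩ := exists_syl hH hqπ (r := q)
  have hTt : T ≤ Ht := by
    intro x hx
    obtain ⟨k, hk⟩ := hT.2.1 ⟨x, hx⟩
    have hk' : x ^ q ^ k = 1 := by simpa using congrArg Subtype.val hk
    obtain ⟨s, hs', t, ht', rfl, h1, h2⟩ := split hd hs ht hjoin hcomm (hTH hx) hk'
    have hs1 : s = 1 := eq_one_of_pow hs hq (Set.disjoint_right.1 hd hqτ) hs' h1
    rw [hs1, one_mul]
    exact ht'
  have h3 := (hT.of_le (hTt.trans hle) le_top).2.2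
  rw [← relIndex_mul_relIndex T Ht T' hTt hle] at h3
  exact h3 (Dvd.dvd.mul_left hqd _)

include hπ hd hH hs ht hsn hjoin hcomm in
theorem conj_le (hD : Cfsg.IsDPiGroup τ G) : ∀ (n : ℕ) (K : Subgroup G), Nat.card K = n →
    Cfsg.IsPiSubgroup π K → ∃ g : G, cj g K ≤ H := by
  intro n
  induction n using Nat.strong_induction_on with
  | _ n ih =>
    intro K hn hK
    by_cases hex : ∃ p : ℕ, p.Prime ∧ p ∈ σ ∧ p ∣ Nat.card K
    · obtain ⟨p, hp, hpσ, hpK⟩ := hex
      have : Fact p.Prime := ⟨hp⟩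
      have hpπ : p ∈ π := by rw [hπ]; exact Or.inl hpσ
      obtain ⟨P, N, hPp, hNK, hpN, hPNc, hsup⟩ :=
        decomp hπ hd hH hs ht hsn hjoin hcomm hK hpσ
      have hlt : Nat.card N < n := by
        rw [← hn]
        apply card_lt_of_lt
        apply lt_of_le_of_ne hNK
        rintro rfl
        exact hpN hpK
      have hNπ : Cfsg.IsPiSubgroup π N := fun q hq hqN => hK q hq (hqN.trans (card_dvd_of_le hNK))
      obtain ⟨g, hg⟩ := ih _ hlt N rfl hNπ
      obtain ⟨T, hTH, hT⟩ := exists_syl hH hpπ (r := p)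
      have hTC : T ≤ centralizer ((cj g N : Subgroup G) : Set G) := by
        intro t ht'
        rw [mem_centralizer_iff]
        intro y hy
        obtain ⟨j, hj⟩ := hT.2.1 ⟨t, ht'⟩
        have hj' : t ^ p ^ j = 1 := by simpa using congrArg Subtype.val hj
        have hyo : (orderOf y).Coprime p := by
          have h1 : orderOf y ∣ Nat.card (cj g N) := by
            have := orderOf_dvd_natCard (⟨y, hy⟩ : cj g N)
            rwa [Subgroup.orderOf_mk] at this
          rw [card_cj] at h1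
          exact Nat.Coprime.coprime_dvd_left h1 ((Nat.Prime.coprime_iff_not_dvd hp).2 hpN).symm
        exact (commC hd hs ht hsn hjoin hcomm hp hpσ (hTH ht') (hg hy) hj' hyo).eq.symm
      have hPC : cj g P ≤ centralizer ((cj g N : Subgroup G) : Set G) := by
        rw [centralizer_cj]
        apply cj_mono
        intro x hx
        rw [mem_centralizer_iff]
        intro y hy
        exact (hPNc x hx y hy).eq.symm
      obtain ⟨c, hc, hle⟩ := (hT.of_le hTC le_top).exists_conj_le (isPGroup_cj hPp g) hPC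
      refine ⟨c * g, ?_⟩
      rw [cj_mul, ← hsup, cj_sup, cj_sup]
      apply sup_le (hle.trans hTH)
      rw [mem_normalizer_iff_cj.1 (centralizer_le_normalizer _ hc)]
      exact hg
    · push Not at hex
      have hKτ : Cfsg.IsPiSubgroup τ K := by
        intro q hq hqK
        have h1 := hK q hq hqK
        rw [hπ] at h1
        rcases h1 with h1 | h1
        · exact absurd hqK (hex q hq h1)
        · exact h1
      obtain ⟨K', hKK', hK'⟩ := (Set.toFinite {T : Subgroup G | Cfsg.IsPiSubgroup τ T}).exists_le_maximal hKτ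
      obtain ⟨g, hg⟩ := hD K' Ht hK' (maximal_Ht hπ hd hH hs ht hjoin hcomm)
      refine ⟨g, ?_⟩
      calc cj g K ≤ cj g K' := cj_mono hKK'
        _ = Ht := hg.symm
        _ ≤ H := by rw [← hjoin]; exact le_sup_right

end Main

/-- Let σ and τ be disjoint sets of primes with union π. Suppose a finite group G has a Hall π-subgroup H which is the direct product of a nilpotent σ-subgroup and a τ-subgroup (two elementwise-commuting subgroups generating H), and that the maximal τ-subgroups of G are pairwise conjugate. Then the maximal π-subgroups of G are pairwise conjugate. -/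
theorem result {G : Type*} [Group G] [Finite G]
    (σ τ π : Set ℕ) (hπ : π = σ ∪ τ) (hd : Disjoint σ τ) (H Hs Ht : Subgroup G) (hH : Cfsg.IsPiHall π H)
    (hs : Cfsg.IsPiSubgroup σ Hs) (ht : Cfsg.IsPiSubgroup τ Ht) (hsn : Group.IsNilpotent Hs)
    (hjoin : Hs ⊔ Ht = H) (hcomm : ∀ a ∈ Hs, ∀ b ∈ Ht, a * b = b * a) (hD : Cfsg.IsDPiGroup τ G) :
    Cfsg.IsDPiGroup π G := by
  have key : ∀ K : Subgroup G, Maximal (Cfsg.IsPiSubgroup π) K → ∃ g : G, K = cj g H := by
    intro K hK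
    obtain ⟨g, hg⟩ := conj_le hπ hd hH hs ht hsn hjoin hcomm hD _ K rfl hK.1
    refine ⟨g⁻¹, ?_⟩
    have h1 : K ≤ cj g⁻¹ H := cj_le_iff.1 hg
    have h2 : Cfsg.IsPiSubgroup π (cj g⁻¹ H) := by
      intro q hq hqd
      rw [card_cj] at hqd
      exact hH.1 q hq hqd
    exact le_antisymm h1 (hK.2 h2 h1)
  intro K1 K2 hK1 hK2
  obtain ⟨g1, rfl⟩ := key K1 hK1
  obtain ⟨g2, rfl⟩ := key K2 hK2
  refine ⟨g2 * g1⁻¹, ?_⟩
  show cj g2 H = cj (g2 * g1⁻¹) (cj g1 H)
  rw [cj_mul, cj_inv_cj]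

end Cfsg.Agent.S4334
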