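import Cfsg.Statements.S4376
import Cfsg.Agent.Lib.Helper47ThomC

set_option autoImplicit false
open Cfsg

namespace Cfsg.Agent.S4376



section aux
open Cfsg.Agent.Lib.Helper47Thom Cfsg.Agent.Lib.Helper47ThomB Cfsg.Agent.Lib.Helper47ThomC

abbrev X0 : Type := Multiplicative (ZMod 2)

theorem X0_sol (d : ℕ) : sol X0 d = (Finset.univ.filter (fun x : X0 => x ^ d = 1)).card :=
  sol_eq_card _ d

abbrev X1 : Type := Multiplicative (ZMod 3)

theorem X1_sol (d : ℕ) : sol X1 d = (Finset.univ.filter (fun x : X1 => x ^ d = 1)).card :=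
  sol_eq_card _ d

abbrev X2 : Type := Multiplicative (ZMod 4)

theorem X2_sol (d : ℕ) : sol X2 d = (Finset.univ.filter (fun x : X2 => x ^ d = 1)).card :=
  sol_eq_card _ d

abbrev X3 : Type := Cyc z3 2 z3_2

theorem X3_sol (d : ℕ) : sol X3 d = ∑ q, cnt z3 2 z3_2 d q := by
  rw [sol_eq_sum (cycPr z3 2 z3_2)]
  simp only [solOver_cyc]

abbrev X4 : Type := Multiplicative (ZMod 7)

theorem X4_sol (d : ℕ) : sol X4 d = (Finset.univ.filter (fun x : X4 => x ^ d = 1)).card :=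
  sol_eq_card _ d

abbrev X5 : Type := Cyc z4 2 z4_2

theorem X5_sol (d : ℕ) : sol X5 d = ∑ q, cnt z4 2 z4_2 d q := by
  rw [sol_eq_sum (cycPr z4 2 z4_2)]
  simp only [solOver_cyc]

abbrev X6 : Type := Cyc z3 4 z3_4

theorem X6_sol (d : ℕ) : sol X6 d = ∑ q, cnt z3 4 z3_4 d q := by
  rw [sol_eq_sum (cycPr z3 4 z3_4)]
  simp only [solOver_cyc]

abbrev X7 : Type := Cyc z7c 2 z7c_2

theorem X7_sol (d : ℕ) : sol X7 d = ∑ q, cnt z7c 2 z7c_2 d q := by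
  rw [sol_eq_sum (cycPr z7c 2 z7c_2)]
  simp only [solOver_cyc]

abbrev X8 : Type := ↥(fib (cycPr z3 2 z3_2) (cycPr z3 2 z3_2))

theorem X8_sol (d : ℕ) : sol X8 d = ∑ q, cnt z3 2 z3_2 d q * cnt z3 2 z3_2 d q := by
  rw [sol_eq_sum (fibHom (cycPr z3 2 z3_2) (cycPr z3 2 z3_2))]
  simp only [solOver_fib, solOver_cyc]

abbrev X9 : Type := Cyc z7b 3 z7b_3

theorem X9_sol (d : ℕ) : sol X9 d = ∑ q, cnt z7b 3 z7b_3 d q := by
  rw [sol_eq_sum (cycPr z7b 3 z7b_3)]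
  simp only [solOver_cyc]

abbrev X10 : Type := ↥(fib (cycPr z3 2 z3_2) (cycPr j2 2 j2_2))

theorem X10_sol (d : ℕ) : sol X10 d = ∑ q, cnt z3 2 z3_2 d q * cnt j2 2 j2_2 d q := by
  rw [sol_eq_sum (fibHom (cycPr z3 2 z3_2) (cycPr j2 2 j2_2))]
  simp only [solOver_fib, solOver_cyc]

abbrev X11 : Type := Cyc z7c 4 z7c_4

theorem X11_sol (d : ℕ) : sol X11 d = ∑ q, cnt z7c 4 z7c_4 d q := by
  rw [sol_eq_sum (cycPr z7c 4 z7c_4)]
  simp only [solOver_cyc]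

abbrev X12 : Type := ↥(fib (cycPr z3 4 z3_4) (cycPr z3 4 z3_4))

theorem X12_sol (d : ℕ) : sol X12 d = ∑ q, cnt z3 4 z3_4 d q * cnt z3 4 z3_4 d q := by
  rw [sol_eq_sum (fibHom (cycPr z3 4 z3_4) (cycPr z3 4 z3_4))]
  simp only [solOver_fib, solOver_cyc]

abbrev X13 : Type := Cyc z7a 6 z7a_6

theorem X13_sol (d : ℕ) : sol X13 d = ∑ q, cnt z7a 6 z7a_6 d q := by
  rw [sol_eq_sum (cycPr z7a 6 z7a_6)]
  simp only [solOver_cyc]

abbrev X14 : Type := ↥(fib (cycPr z7c 2 z7c_2) (cycPr z3 2 z3_2))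

theorem X14_sol (d : ℕ) : sol X14 d = ∑ q, cnt z7c 2 z7c_2 d q * cnt z3 2 z3_2 d q := by
  rw [sol_eq_sum (fibHom (cycPr z7c 2 z7c_2) (cycPr z3 2 z3_2))]
  simp only [solOver_fib, solOver_cyc]

abbrev X15 : Type := ↥(fib (cycPr z7c 2 z7c_2) (cycPr j2 2 j2_2))

theorem X15_sol (d : ℕ) : sol X15 d = ∑ q, cnt z7c 2 z7c_2 d q * cnt j2 2 j2_2 d q := by
  rw [sol_eq_sum (fibHom (cycPr z7c 2 z7c_2) (cycPr j2 2 j2_2))]
  simp only [solOver_fib, solOver_cyc]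

abbrev X16 : Type := ↥(fib (cycPr z7c 2 z7c_2) (cycPr z4 2 z4_2))

theorem X16_sol (d : ℕ) : sol X16 d = ∑ q, cnt z7c 2 z7c_2 d q * cnt z4 2 z4_2 d q := by
  rw [sol_eq_sum (fibHom (cycPr z7c 2 z7c_2) (cycPr z4 2 z4_2))]
  simp only [solOver_fib, solOver_cyc]

abbrev X17 : Type := ↥(fib (cycPr z7c 4 z7c_4) (cycPr z3 4 z3_4))

theorem X17_sol (d : ℕ) : sol X17 d = ∑ q, cnt z7c 4 z7c_4 d q * cnt z3 4 z3_4 d q := by
  rw [sol_eq_sum (fibHom (cycPr z7c 4 z7c_4) (cycPr z3 4 z3_4))]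
  simp only [solOver_fib, solOver_cyc]

abbrev X18 : Type := Cyc z7a 12 z7a_12

theorem X18_sol (d : ℕ) : sol X18 d = ∑ q, cnt z7a 12 z7a_12 d q := by
  rw [sol_eq_sum (cycPr z7a 12 z7a_12)]
  simp only [solOver_cyc]

abbrev X19 : Type := ↥(fib (cycPr z7c 2 z7c_2) (cycPr z7c 2 z7c_2))

theorem X19_sol (d : ℕ) : sol X19 d = ∑ q, cnt z7c 2 z7c_2 d q * cnt z7c 2 z7c_2 d q := by
  rw [sol_eq_sum (fibHom (cycPr z7c 2 z7c_2) (cycPr z7c 2 z7c_2))]
  simp only [solOver_fib, solOver_cyc]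

abbrev X20 : Type := ↥(fib (fibHom (cycPr z7c 2 z7c_2) (cycPr z3 2 z3_2)) (cycPr z3 2 z3_2))

theorem X20_sol (d : ℕ) : sol X20 d = ∑ q, cnt z7c 2 z7c_2 d q * cnt z3 2 z3_2 d q * cnt z3 2 z3_2 d q := by
  rw [sol_eq_sum (fibHom (fibHom (cycPr z7c 2 z7c_2) (cycPr z3 2 z3_2)) (cycPr z3 2 z3_2))]
  simp only [solOver_fib, solOver_cyc]

abbrev X21 : Type := AG8

abbrev X22 : Type := ↥(fib (cycPr z7a 6 z7a_6) (cycPr j2 6 j2_6))

theorem X22_sol (d : ℕ) : sol X22 d = ∑ q, cnt z7a 6 z7a_6 d q * cnt j2 6 j2_6 d q := by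
  rw [sol_eq_sum (fibHom (cycPr z7a 6 z7a_6) (cycPr j2 6 j2_6))]
  simp only [solOver_fib, solOver_cyc]

abbrev X23 : Type := ↥(fib (cycPr z7a 6 z7a_6) (cycPr z4 6 z4_6))

theorem X23_sol (d : ℕ) : sol X23 d = ∑ q, cnt z7a 6 z7a_6 d q * cnt z4 6 z4_6 d q := by
  rw [sol_eq_sum (fibHom (cycPr z7a 6 z7a_6) (cycPr z4 6 z4_6))]
  simp only [solOver_fib, solOver_cyc]

abbrev X24 : Type := ↥(fib (fibHom (cycPr z7c 2 z7c_2) (cycPr z3 2 z3_2)) (cycPr z4 2 z4_2))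

theorem X24_sol (d : ℕ) : sol X24 d = ∑ q, cnt z7c 2 z7c_2 d q * cnt z3 2 z3_2 d q * cnt z4 2 z4_2 d q := by
  rw [sol_eq_sum (fibHom (fibHom (cycPr z7c 2 z7c_2) (cycPr z3 2 z3_2)) (cycPr z4 2 z4_2))]
  simp only [solOver_fib, solOver_cyc]

abbrev X25 : Type := ↥(fib (fibHom (cycPr z7c 2 z7c_2) (cycPr j2 2 j2_2)) (cycPr j2 2 j2_2))

theorem X25_sol (d : ℕ) : sol X25 d = ∑ q, cnt z7c 2 z7c_2 d q * cnt j2 2 j2_2 d q * cnt j2 2 j2_2 d q := by
  rw [sol_eq_sum (fibHom (fibHom (cycPr z7c 2 z7c_2) (cycPr j2 2 j2_2)) (cycPr j2 2 j2_2))]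
  simp only [solOver_fib, solOver_cyc]

abbrev X26 : Type := ↥(fib (fibHom (cycPr z7c 4 z7c_4) (cycPr z3 4 z3_4)) (cycPr z3 4 z3_4))

theorem X26_sol (d : ℕ) : sol X26 d = ∑ q, cnt z7c 4 z7c_4 d q * cnt z3 4 z3_4 d q * cnt z3 4 z3_4 d q := by
  rw [sol_eq_sum (fibHom (fibHom (cycPr z7c 4 z7c_4) (cycPr z3 4 z3_4)) (cycPr z3 4 z3_4))]
  simp only [solOver_fib, solOver_cyc]

abbrev X27 : Type := ↥(fib (cycPr z7a 6 z7a_6) (cycPr z7c 6 z7c_6))

theorem X27_sol (d : ℕ) : sol X27 d = ∑ q, cnt z7a 6 z7a_6 d q * cnt z7c 6 z7c_6 d q := by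
  rw [sol_eq_sum (fibHom (cycPr z7a 6 z7a_6) (cycPr z7c 6 z7c_6))]
  simp only [solOver_fib, solOver_cyc]

abbrev X28 : Type := ↥(fib (cycPr z7b 3 z7b_3) (cycPr w4 3 w4_3))

theorem X28_sol (d : ℕ) : sol X28 d = ∑ q, cnt z7b 3 z7b_3 d q * cnt w4 3 w4_3 d q := by
  rw [sol_eq_sum (fibHom (cycPr z7b 3 z7b_3) (cycPr w4 3 w4_3))]
  simp only [solOver_fib, solOver_cyc]

abbrev X29 : Type := ↥(fib (fibHom (cycPr z7b 3 z7b_3) (cycPr f4 3 f4_3)) (cycPr f4 3 f4_3))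

theorem X29_sol (d : ℕ) : sol X29 d = ∑ q, cnt z7b 3 z7b_3 d q * cnt f4 3 f4_3 d q * cnt f4 3 f4_3 d q := by
  rw [sol_eq_sum (fibHom (fibHom (cycPr z7b 3 z7b_3) (cycPr f4 3 f4_3)) (cycPr f4 3 f4_3))]
  simp only [solOver_fib, solOver_cyc]

abbrev X30 : Type := ↥(fib (fibHom (cycPr z7c 2 z7c_2) (cycPr z7c 2 z7c_2)) (cycPr j2 2 j2_2))

theorem X30_sol (d : ℕ) : sol X30 d = ∑ q, cnt z7c 2 z7c_2 d q * cnt z7c 2 z7c_2 d q * cnt j2 2 j2_2 d q := by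
  rw [sol_eq_sum (fibHom (fibHom (cycPr z7c 2 z7c_2) (cycPr z7c 2 z7c_2)) (cycPr j2 2 j2_2))]
  simp only [solOver_fib, solOver_cyc]

abbrev X31 : Type := ↥(fib (cycPr z7a 12 z7a_12) (cycPr z7a 12 z7a_12))

theorem X31_sol (d : ℕ) : sol X31 d = ∑ q, cnt z7a 12 z7a_12 d q * cnt z7a 12 z7a_12 d q := by
  rw [sol_eq_sum (fibHom (cycPr z7a 12 z7a_12) (cycPr z7a 12 z7a_12))]
  simp only [solOver_fib, solOver_cyc]

abbrev X32 : Type := ↥(fib (fibHom (fibHom (cycPr z7c 2 z7c_2) (cycPr z3 2 z3_2)) (cycPr j2 2 j2_2)) (cycPr j2 2 j2_2))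

theorem X32_sol (d : ℕ) : sol X32 d = ∑ q, cnt z7c 2 z7c_2 d q * cnt z3 2 z3_2 d q * cnt j2 2 j2_2 d q * cnt j2 2 j2_2 d q := by
  rw [sol_eq_sum (fibHom (fibHom (fibHom (cycPr z7c 2 z7c_2) (cycPr z3 2 z3_2)) (cycPr j2 2 j2_2)) (cycPr j2 2 j2_2))]
  simp only [solOver_fib, solOver_cyc]

abbrev X33 : Type := ↥(fib (fibHom (cycPr z7a 6 z7a_6) (cycPr z7a 6 z7a_6)) (cycPr j2 6 j2_6))

theorem X33_sol (d : ℕ) : sol X33 d = ∑ q, cnt z7a 6 z7a_6 d q * cnt z7a 6 z7a_6 d q * cnt j2 6 j2_6 d q := by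
  rw [sol_eq_sum (fibHom (fibHom (cycPr z7a 6 z7a_6) (cycPr z7a 6 z7a_6)) (cycPr j2 6 j2_6))]
  simp only [solOver_fib, solOver_cyc]

abbrev X34 : Type := ↥(fib (fibHom (cycPr z7a 6 z7a_6) (cycPr z7b 6 z7b_6)) (cycPr z7b 6 z7b_6))

theorem X34_sol (d : ℕ) : sol X34 d = ∑ q, cnt z7a 6 z7a_6 d q * cnt z7b 6 z7b_6 d q * cnt z7b 6 z7b_6 d q := by
  rw [sol_eq_sum (fibHom (fibHom (cycPr z7a 6 z7a_6) (cycPr z7b 6 z7b_6)) (cycPr z7b 6 z7b_6))]
  simp only [solOver_fib, solOver_cyc]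

abbrev X35 : Type := ↥(fib (fibHom (cycPr z7a 6 z7a_6) (cycPr z7a 6 z7a_6)) (cycPr z7a 6 z7a_6))

theorem X35_sol (d : ℕ) : sol X35 d = ∑ q, cnt z7a 6 z7a_6 d q * cnt z7a 6 z7a_6 d q * cnt z7a 6 z7a_6 d q := by
  rw [sol_eq_sum (fibHom (fibHom (cycPr z7a 6 z7a_6) (cycPr z7a 6 z7a_6)) (cycPr z7a 6 z7a_6))]
  simp only [solOver_fib, solOver_cyc]

abbrev X36 : Type := ↥(fib (fibHom (cycPr z7a 12 z7a_12) (cycPr z7b 12 z7b_12)) (cycPr z7b 12 z7b_12))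

theorem X36_sol (d : ℕ) : sol X36 d = ∑ q, cnt z7a 12 z7a_12 d q * cnt z7b 12 z7b_12 d q * cnt z7b 12 z7b_12 d q := by
  rw [sol_eq_sum (fibHom (fibHom (cycPr z7a 12 z7a_12) (cycPr z7b 12 z7b_12)) (cycPr z7b 12 z7b_12))]
  simp only [solOver_fib, solOver_cyc]

abbrev X37 : Type := ↥(fib (fibHom (cycPr z7a 12 z7a_12) (cycPr z7a 12 z7a_12)) (cycPr z7a 12 z7a_12))

theorem X37_sol (d : ℕ) : sol X37 d = ∑ q, cnt z7a 12 z7a_12 d q * cnt z7a 12 z7a_12 d q * cnt z7a 12 z7a_12 d q := by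
  rw [sol_eq_sum (fibHom (fibHom (cycPr z7a 12 z7a_12) (cycPr z7a 12 z7a_12)) (cycPr z7a 12 z7a_12))]
  simp only [solOver_fib, solOver_cyc]

abbrev GG : Type := (Fin 67 → X0) × (Fin 2 → X4) × (Fin 34 → X5) × (Fin 52 → X6) × (Fin 44 → X8) × (Fin 23 → X11) × (Fin 30 → X13) × (Fin 12 → X14) × (Fin 12 → X16) × (Fin 22 → X18) × (Fin 10 → X19) × (Fin 2 → X20) × (Fin 6 → X21) × (Fin 6 → X22) × (Fin 46 → X28) × (Fin 6 → X32) × (Fin 6 → X33) × (Fin 6 → X35) × (Fin 6 → X36)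

abbrev HH : Type := (Fin 6 → L27) × (Fin 6 → X1) × (Fin 33 → X2) × (Fin 12 → X3) × (Fin 29 → X7) × (Fin 8 → X9) × (Fin 34 → X10) × (Fin 44 → X12) × (Fin 6 → X15) × (Fin 12 → X17) × (Fin 46 → X23) × (Fin 6 → X24) × (Fin 6 → X25) × (Fin 2 → X26) × (Fin 4 → X27) × (Fin 46 → X29) × (Fin 6 → X30) × (Fin 6 → X31) × (Fin 6 → X34) × (Fin 6 → X37)

set_option maxRecDepth 100000 in
theorem key_1 : sol GG 1 = sol HH 1 := by
  simp only [sol_prod, sol_pi, ag8_1, l27_1, X0_sol, X1_sol, X2_sol, X3_sol, X4_sol, X5_sol, X6_sol, X7_sol, X8_sol, X9_sol, X10_sol, X11_sol, X12_sol, X13_sol, X14_sol, X15_sol, X16_sol, X17_sol, X18_sol, X19_sol, X20_sol, X22_sol, X23_sol, X24_sol, X25_sol, X26_sol, X27_sol, X28_sol, X29_sol, X30_sol, X31_sol, X32_sol, X33_sol, X34_sol, X35_sol, X36_sol, X37_sol]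
  decide +kernel

set_option maxRecDepth 100000 in
theorem key_2 : sol GG 2 = sol HH 2 := by
  simp only [sol_prod, sol_pi, ag8_2, l27_2, X0_sol, X1_sol, X2_sol, X3_sol, X4_sol, X5_sol, X6_sol, X7_sol, X8_sol, X9_sol, X10_sol, X11_sol, X12_sol, X13_sol, X14_sol, X15_sol, X16_sol, X17_sol, X18_sol, X19_sol, X20_sol, X22_sol, X23_sol, X24_sol, X25_sol, X26_sol, X27_sol, X28_sol, X29_sol, X30_sol, X31_sol, X32_sol, X33_sol, X34_sol, X35_sol, X36_sol, X37_sol]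
  decide +kernel

set_option maxRecDepth 100000 in
theorem key_3 : sol GG 3 = sol HH 3 := by
  simp only [sol_prod, sol_pi, ag8_3, l27_3, X0_sol, X1_sol, X2_sol, X3_sol, X4_sol, X5_sol, X6_sol, X7_sol, X8_sol, X9_sol, X10_sol, X11_sol, X12_sol, X13_sol, X14_sol, X15_sol, X16_sol, X17_sol, X18_sol, X19_sol, X20_sol, X22_sol, X23_sol, X24_sol, X25_sol, X26_sol, X27_sol, X28_sol, X29_sol, X30_sol, X31_sol, X32_sol, X33_sol, X34_sol, X35_sol, X36_sol, X37_sol]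
  decide +kernel

set_option maxRecDepth 100000 in
theorem key_4 : sol GG 4 = sol HH 4 := by
  simp only [sol_prod, sol_pi, ag8_4, l27_4, X0_sol, X1_sol, X2_sol, X3_sol, X4_sol, X5_sol, X6_sol, X7_sol, X8_sol, X9_sol, X10_sol, X11_sol, X12_sol, X13_sol, X14_sol, X15_sol, X16_sol, X17_sol, X18_sol, X19_sol, X20_sol, X22_sol, X23_sol, X24_sol, X25_sol, X26_sol, X27_sol, X28_sol, X29_sol, X30_sol, X31_sol, X32_sol, X33_sol, X34_sol, X35_sol, X36_sol, X37_sol]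
  decide +kernel

set_option maxRecDepth 100000 in
theorem key_6 : sol GG 6 = sol HH 6 := by
  simp only [sol_prod, sol_pi, ag8_6, l27_6, X0_sol, X1_sol, X2_sol, X3_sol, X4_sol, X5_sol, X6_sol, X7_sol, X8_sol, X9_sol, X10_sol, X11_sol, X12_sol, X13_sol, X14_sol, X15_sol, X16_sol, X17_sol, X18_sol, X19_sol, X20_sol, X22_sol, X23_sol, X24_sol, X25_sol, X26_sol, X27_sol, X28_sol, X29_sol, X30_sol, X31_sol, X32_sol, X33_sol, X34_sol, X35_sol, X36_sol, X37_sol]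
  decide +kernel

set_option maxRecDepth 100000 in
theorem key_7 : sol GG 7 = sol HH 7 := by
  simp only [sol_prod, sol_pi, ag8_7, l27_7, X0_sol, X1_sol, X2_sol, X3_sol, X4_sol, X5_sol, X6_sol, X7_sol, X8_sol, X9_sol, X10_sol, X11_sol, X12_sol, X13_sol, X14_sol, X15_sol, X16_sol, X17_sol, X18_sol, X19_sol, X20_sol, X22_sol, X23_sol, X24_sol, X25_sol, X26_sol, X27_sol, X28_sol, X29_sol, X30_sol, X31_sol, X32_sol, X33_sol, X34_sol, X35_sol, X36_sol, X37_sol]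
  decide +kernel

set_option maxRecDepth 100000 in
theorem key_12 : sol GG 12 = sol HH 12 := by
  simp only [sol_prod, sol_pi, ag8_12, l27_12, X0_sol, X1_sol, X2_sol, X3_sol, X4_sol, X5_sol, X6_sol, X7_sol, X8_sol, X9_sol, X10_sol, X11_sol, X12_sol, X13_sol, X14_sol, X15_sol, X16_sol, X17_sol, X18_sol, X19_sol, X20_sol, X22_sol, X23_sol, X24_sol, X25_sol, X26_sol, X27_sol, X28_sol, X29_sol, X30_sol, X31_sol, X32_sol, X33_sol, X34_sol, X35_sol, X36_sol, X37_sol]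
  decide +kernel

set_option maxRecDepth 100000 in
theorem key_14 : sol GG 14 = sol HH 14 := by
  simp only [sol_prod, sol_pi, ag8_14, l27_14, X0_sol, X1_sol, X2_sol, X3_sol, X4_sol, X5_sol, X6_sol, X7_sol, X8_sol, X9_sol, X10_sol, X11_sol, X12_sol, X13_sol, X14_sol, X15_sol, X16_sol, X17_sol, X18_sol, X19_sol, X20_sol, X22_sol, X23_sol, X24_sol, X25_sol, X26_sol, X27_sol, X28_sol, X29_sol, X30_sol, X31_sol, X32_sol, X33_sol, X34_sol, X35_sol, X36_sol, X37_sol]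
  decide +kernel

set_option maxRecDepth 100000 in
theorem key_21 : sol GG 21 = sol HH 21 := by
  simp only [sol_prod, sol_pi, ag8_21, l27_21, X0_sol, X1_sol, X2_sol, X3_sol, X4_sol, X5_sol, X6_sol, X7_sol, X8_sol, X9_sol, X10_sol, X11_sol, X12_sol, X13_sol, X14_sol, X15_sol, X16_sol, X17_sol, X18_sol, X19_sol, X20_sol, X22_sol, X23_sol, X24_sol, X25_sol, X26_sol, X27_sol, X28_sol, X29_sol, X30_sol, X31_sol, X32_sol, X33_sol, X34_sol, X35_sol, X36_sol, X37_sol]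
  decide +kernel

set_option maxRecDepth 100000 in
theorem key_28 : sol GG 28 = sol HH 28 := by
  simp only [sol_prod, sol_pi, ag8_28, l27_28, X0_sol, X1_sol, X2_sol, X3_sol, X4_sol, X5_sol, X6_sol, X7_sol, X8_sol, X9_sol, X10_sol, X11_sol, X12_sol, X13_sol, X14_sol, X15_sol, X16_sol, X17_sol, X18_sol, X19_sol, X20_sol, X22_sol, X23_sol, X24_sol, X25_sol, X26_sol, X27_sol, X28_sol, X29_sol, X30_sol, X31_sol, X32_sol, X33_sol, X34_sol, X35_sol, X36_sol, X37_sol]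
  decide +kernel

set_option maxRecDepth 100000 in
theorem key_42 : sol GG 42 = sol HH 42 := by
  simp only [sol_prod, sol_pi, ag8_42, l27_42, X0_sol, X1_sol, X2_sol, X3_sol, X4_sol, X5_sol, X6_sol, X7_sol, X8_sol, X9_sol, X10_sol, X11_sol, X12_sol, X13_sol, X14_sol, X15_sol, X16_sol, X17_sol, X18_sol, X19_sol, X20_sol, X22_sol, X23_sol, X24_sol, X25_sol, X26_sol, X27_sol, X28_sol, X29_sol, X30_sol, X31_sol, X32_sol, X33_sol, X34_sol, X35_sol, X36_sol, X37_sol]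
  decide +kernel

set_option maxRecDepth 100000 in
theorem key_84 : sol GG 84 = sol HH 84 := by
  simp only [sol_prod, sol_pi, ag8_84, l27_84, X0_sol, X1_sol, X2_sol, X3_sol, X4_sol, X5_sol, X6_sol, X7_sol, X8_sol, X9_sol, X10_sol, X11_sol, X12_sol, X13_sol, X14_sol, X15_sol, X16_sol, X17_sol, X18_sol, X19_sol, X20_sol, X22_sol, X23_sol, X24_sol, X25_sol, X26_sol, X27_sol, X28_sol, X29_sol, X30_sol, X31_sol, X32_sol, X33_sol, X34_sol, X35_sol, X36_sol, X37_sol]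
  decide +kernel

theorem key (n : ℕ) : sol GG n = sol HH n := by
  apply sol_eq_of_divisors
  intro d hd
  simp only [Finset.mem_insert, Finset.mem_singleton] at hd
  rcases hd with rfl | rfl | rfl | rfl | rfl | rfl | rfl | rfl | rfl | rfl | rfl | rfl
  · exact key_1
  · exact key_2
  · exact key_3
  · exact key_4
  · exact key_6
  · exact key_7
  · exact key_12
  · exact key_14
  · exact key_21
  · exact key_28
  · exact key_42
  · exact key_84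

theorem HH_not_solvable : ¬ Group.IsSolvable HH := by
  intro h
  apply l27_not_solvable
  let f : L27 →* HH := (MonoidHom.inl _ _).comp (MonoidHom.pi fun _ => MonoidHom.id L27)
  refine Group.isSolvable_of_isSolvable_injective (f := f) ?_
  intro a b hab
  have h1 := congrArg (fun z : HH => z.1 0) hab
  exact h1

set_option synthInstance.maxHeartbeats 4000000 in
set_option synthInstance.maxSize 100000 in
theorem GG_finite : Finite GG := inferInstance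

set_option synthInstance.maxHeartbeats 4000000 in
set_option synthInstance.maxSize 100000 in
theorem HH_finite : Finite HH := inferInstance

set_option synthInstance.maxHeartbeats 4000000 in
set_option synthInstance.maxSize 100000 in
theorem GG_solvable : Group.IsSolvable GG := inferInstance

theorem main (n : ℕ) :
    Nat.card {g : GG // orderOf g = n} = Nat.card {h : HH // orderOf h = n} :=
  haveI := GG_finite
  haveI := HH_finite
  ord_eq_of_sol_eq key n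

end aux

/-- There are finite groups G and H having the same number of elements of each order (the same order type) with G solvable and H not solvable. -/
theorem result :
    ∃ (G : Type) (_ : Group G) (_ : Finite G) (H : Type) (_ : Group H) (_ : Finite H),
      Group.IsSolvable G ∧ ¬ Group.IsSolvable H ∧ ∀ n : ℕ, Nat.card {g : G // orderOf g = n} = Nat.card {h : H // orderOf h = n} := by
  exact ⟨GG, inferInstance, GG_finite, HH, inferInstance, HH_finite, GG_solvable,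
    HH_not_solvable, main⟩

end Cfsg.Agent.S4376
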