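import Cfsg.Statements.S4394
import Cfsg.Agent.Lib.H87SMMain
import Cfsg.Agent.Lib.H87SMS1
import Cfsg.Agent.Lib.H87SMSTrans
import Cfsg.Agent.Lib.H87SMGIso
import Cfsg.Agent.Lib.H87WRPick
import Cfsg.Agent.Lib.Helper31PLength

set_option autoImplicit false
open Cfsg

namespace Cfsg.Agent.S4394

open Cfsg.Agent.Lib Cfsg.Agent.Lib.Helper87SMDefs

/-- Let X be a finite minimal non-nilpotent group (not nilpotent, every proper subgroup nilpotent) with a nontrivial normal Sylow p-subgroup P. If G is a finite p-solvable group whose Sylow p-subgroups are isomorphic to P, then G has p-length at most 1. -/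
theorem result {G X : Type*} [Group G] [Finite G] [Group X] [Finite X] (p : ℕ) [Fact p.Prime]
    (hX : Cfsg.IsMinimalNonNilpotent X) (P : Sylow p X) (hPn : (P : Subgroup X).Normal) (hP1 : (P : Subgroup X) ≠ ⊥)
    (hG : Cfsg.IsPSolvable p G) (Q : Sylow p G) (hQ : Nonempty (↥(Q : Subgroup G) ≃* ↥(P : Subgroup X))) : Cfsg.PLengthLE p 1 G := by
  rw [Helper31PLength.pLengthLE_one_iff]
  by_contra hcon
  obtain ⟨-, x, hxP, hxV, -⟩ := H87WRPick.pick Q hcon
  have hs : IsPSolvable p (G ⧸ pPrimeCore p G) := Helper38PSolv.isPSolvable_quotient _ hG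
  have h0 : pPrimeCore p (G ⧸ pPrimeCore p G) = ⊥ := Helper60Core.pPrimeCore_quotient_eq_bot p
  obtain ⟨e⟩ := hQ
  obtain ⟨e'⟩ := H87SMGIso.iso Q
  have hsd : SD p ↥(P : Subgroup X) := H87SMS1.sd p hX P hPn hP1
  have hsd' : SD p ↥((Q : Subgroup G).map (QuotientGroup.mk' (pPrimeCore p G))) :=
    H87SMSTrans.trans (e.symm.trans e') hsd
  have key := H87SMMain.main hs h0
    (Q.mapSurjective (QuotientGroup.mk'_surjective (pPrimeCore p G))) hsd'
  exact hxV (key hxP)

end Cfsg.Agent.S4394
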