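import Cfsg.Statements.S4408
import Mathlib
import Cfsg.Agent.S1349
import Cfsg.Agent.S0044
import Cfsg.Agent.Lib.Helper1Fitting

set_option autoImplicit false
open Cfsg

namespace Cfsg.Agent.S4408

open Subgroup in
theorem dih_conj {m : ℕ} (g : DihedralGroup m) (k : ZMod m) :
    g * DihedralGroup.r k * g⁻¹ = DihedralGroup.r k ∨
      g * DihedralGroup.r k * g⁻¹ = (DihedralGroup.r k)⁻¹ := by
  rcases g with j | j
  · left
    simp [DihedralGroup.inv_r, DihedralGroup.r_mul_r]
  · right
    simp [DihedralGroup.inv_r, DihedralGroup.inv_sr, DihedralGroup.sr_mul_r, DihedralGroup.sr_mul_sr]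

theorem dih_fix {m : ℕ} (hm : Odd m) (g : DihedralGroup m) (k : ZMod m) (hk : k ≠ 0)
    (hg : g ^ 2 = 1) (hc : g * DihedralGroup.r k * g⁻¹ = DihedralGroup.r k) : g = 1 := by
  have hm0 : NeZero m := ⟨by rintro rfl; simp at hm⟩
  have h2 : ∀ j : ZMod m, j + j = 0 → j = 0 := by
    intro j hj
    have h1 : (2 : ℕ) • j = 0 := by rw [two_nsmul]; exact hj
    have h3 : addOrderOf j ∣ 2 := addOrderOf_dvd_of_nsmul_eq_zero h1
    have h4 : addOrderOf j ∣ m := by
      have := addOrderOf_dvd_card (x := j)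
      rwa [ZMod.card] at this
    have h5 : addOrderOf j ∣ Nat.gcd 2 m := Nat.dvd_gcd h3 h4
    have h6 : Nat.gcd 2 m = 1 := by
      have := Nat.Coprime.symm (Nat.Coprime.symm (Nat.coprime_two_left.mpr hm))
      exact this
    rw [h6, Nat.dvd_one, AddMonoid.addOrderOf_eq_one_iff] at h5
    exact h5
  rcases g with j | j
  · have : DihedralGroup.r (j + j) = (1 : DihedralGroup m) := by
      rw [← DihedralGroup.r_mul_r, ← sq]; exact hg
    rw [DihedralGroup.one_def] at this
    have h3 : j + j = 0 := by injection this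
    rw [h2 j h3, DihedralGroup.one_def]
  · exfalso
    have h3 : DihedralGroup.sr j * DihedralGroup.r k * (DihedralGroup.sr j)⁻¹ = DihedralGroup.r (-k) := by
      simp [DihedralGroup.inv_sr, DihedralGroup.sr_mul_r, DihedralGroup.sr_mul_sr]
    rw [h3] at hc
    have h4 : -k = k := by injection hc
    apply hk
    apply h2
    nth_rewrite 1 [← h4]
    simp

/-- Let S be a finite solvable group whose Fitting subgroup F(S) has odd order, and let I be an elementary abelian 2-subgroup of S of order 2ⁿ with n ≥ 1. Then F(S) contains subgroups A₁, …, Aₙ of prime order, each normalized by I, pairwise commuting and generating a subgroup A of order |A₁|⋯|Aₙ| (their internal direct product), such that no non-identity element of I centralizes A. -/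
theorem result {S : Type*} [Group S] [Finite S]
    [Group.IsSolvable S] (hF : Odd (Nat.card ↥(Cfsg.fittingSubgroup S)))
    (I : Subgroup S) (hI : Cfsg.IsElementaryAbelian 2 I) (n : ℕ) (hn : 1 ≤ n) (hIn : Nat.card ↥I = 2 ^ n) :
    ∃ f : Fin n → Subgroup S, (∀ i, (Nat.card ↥(f i)).Prime) ∧ (∀ i, f i ≤ Cfsg.fittingSubgroup S) ∧
      (∀ i, I ≤ Subgroup.normalizer ((f i) : Set S)) ∧ (∀ i j, i ≠ j → ∀ a ∈ f i, ∀ b ∈ f j, a * b = b * a) ∧
      Nat.card ↥(⨆ i, f i) = ∏ i, Nat.card ↥(f i) ∧ I ⊓ Subgroup.centralizer ((⨆ i, f i : Subgroup S) : Set S) = ⊥ := by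
  classical
  have hFn : (Cfsg.fittingSubgroup S).Normal := Cfsg.Agent.Lib.Helper1Fitting.fitting_normal
  have hI2 : ∀ b ∈ I, b ^ 2 = 1 := hI.2
  have hfaith : I ⊓ Subgroup.centralizer ((Cfsg.fittingSubgroup S : Subgroup S) : Set S) = ⊥ := by
    rw [eq_bot_iff]
    rintro x ⟨hxI, hxC⟩
    have hxF : x ∈ Cfsg.fittingSubgroup S := Cfsg.Agent.S0044.result (G := S) hxC
    have h1 : orderOf x ∣ 2 := orderOf_dvd_of_pow_eq_one (hI2 x hxI)
    have h2 : orderOf x ∣ Nat.card (Cfsg.fittingSubgroup S) := by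
      have := orderOf_dvd_natCard (⟨x, hxF⟩ : Cfsg.fittingSubgroup S)
      rwa [Subgroup.orderOf_mk] at this
    have h3 : orderOf x ∣ Nat.gcd 2 (Nat.card (Cfsg.fittingSubgroup S)) := Nat.dvd_gcd h1 h2
    rw [Nat.coprime_two_left.mpr hF, Nat.dvd_one, orderOf_eq_one_iff] at h3
    exact Subgroup.mem_bot.mpr h3
  obtain ⟨Ai, Li, m, hdata, hsup, hcomm⟩ := Cfsg.Agent.S1349.result (Cfsg.fittingSubgroup S) I
    inferInstance hF hI n hn hIn (by rw [Subgroup.normalizer_eq_top]; exact le_top) hfaith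
  have key : ∀ i, ∃ x a : S, x ∈ Ai i ⊔ Li i ∧ (orderOf x).Prime ∧ Odd (orderOf x) ∧ a ∈ Ai i ∧
      a * x * a⁻¹ = x⁻¹ ∧ (∀ b ∈ Ai i, b * x * b⁻¹ = x → b = 1) ∧
      (∀ b ∈ Ai i, b * x * b⁻¹ = x ∨ b * x * b⁻¹ = x⁻¹) := by
    intro i
    obtain ⟨hAI, hA2, hLF, hmodd, hm3, ⟨e⟩⟩ := hdata i
    have hm0 : NeZero (m i) := ⟨by omega⟩
    set q := (m i).minFac with hq
    have hqp : q.Prime := Nat.minFac_prime (by omega)
    have hqd : q ∣ m i := Nat.minFac_dvd _
    have hqodd : Odd q := hmodd.of_dvd_nat hqd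
    set k : ZMod (m i) := ((m i / q : ℕ) : ZMod (m i)) with hk
    have hρ : (DihedralGroup.r k : DihedralGroup (m i)) = (DihedralGroup.r 1) ^ (m i / q) := by
      rw [DihedralGroup.r_one_pow]
    have hord : orderOf (DihedralGroup.r k : DihedralGroup (m i)) = q := by
      rw [hρ]
      have h1 : orderOf (DihedralGroup.r 1 : DihedralGroup (m i)) = m i := DihedralGroup.orderOf_r_one
      have := orderOf_pow_orderOf_div (x := (DihedralGroup.r 1 : DihedralGroup (m i))) (n := q)
        (by rw [h1]; omega) (by rw [h1]; exact hqd)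
      rwa [h1] at this
    have hk0 : k ≠ 0 := by
      intro h0
      rw [h0, ← DihedralGroup.one_def, orderOf_one] at hord
      exact hqp.one_lt.ne hord
    set x' : ↥(Ai i ⊔ Li i) := e.symm (DihedralGroup.r k) with hx'
    have hordx : orderOf (x' : S) = q := by
      rw [Subgroup.orderOf_coe, hx', MulEquiv.orderOf_eq, hord]
    have hor : ∀ b ∈ Ai i, b * (x' : S) * b⁻¹ = x' ∨ b * (x' : S) * b⁻¹ = (x' : S)⁻¹ := by
      intro b hb
      set b' : ↥(Ai i ⊔ Li i) := ⟨b, le_sup_left (a := Ai i) hb⟩ with hb'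
      rcases dih_conj (e b') k with h | h
      · left
        have h1 : b' * x' * b'⁻¹ = x' := by
          apply e.injective
          rw [map_mul, map_mul, map_inv, hx', MulEquiv.apply_symm_apply, h]
        exact congrArg (Subtype.val : ↥(Ai i ⊔ Li i) → S) h1
      · right
        have h1 : b' * x' * b'⁻¹ = x'⁻¹ := by
          apply e.injective
          rw [map_mul, map_mul, map_inv, map_inv, hx', MulEquiv.apply_symm_apply, h]
        exact congrArg (Subtype.val : ↥(Ai i ⊔ Li i) → S) h1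
    have hfix : ∀ b ∈ Ai i, b * (x' : S) * b⁻¹ = x' → b = 1 := by
      intro b hb hbx
      set b' : ↥(Ai i ⊔ Li i) := ⟨b, le_sup_left (a := Ai i) hb⟩ with hb'
      have h1 : b' * x' * b'⁻¹ = x' := Subtype.ext hbx
      have h2 : e b' * DihedralGroup.r k * (e b')⁻¹ = DihedralGroup.r k := by
        have := congrArg e h1
        rwa [map_mul, map_mul, map_inv, hx', MulEquiv.apply_symm_apply] at this
      have h3 : (e b') ^ 2 = 1 := by
        rw [← map_pow]
        have : b' ^ 2 = 1 := Subtype.ext (hI2 b (hAI hb))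
        rw [this, map_one]
      have h4 := dih_fix hmodd (e b') k hk0 h3 h2
      have h5 : b' = 1 := e.injective (by rw [h4, map_one])
      exact congrArg (Subtype.val : ↥(Ai i ⊔ Li i) → S) h5
    obtain ⟨a, ha, ha1⟩ : ∃ a ∈ Ai i, a ≠ 1 := by
      by_contra hcon
      push Not at hcon
      have : Ai i = ⊥ := (Subgroup.eq_bot_iff_forall _).mpr hcon
      rw [this, Subgroup.card_bot] at hA2
      omega
    refine ⟨x', a, x'.2, by rw [hordx]; exact hqp, by rw [hordx]; exact hqodd, ha, ?_, hfix, hor⟩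
    rcases hor a ha with h | h
    · exact absurd (hfix a ha h) ha1
    · exact h
  choose x a hxD hxp hxodd haA hinv hfix hor using key
  have hcommD : ∀ i j, i ≠ j → ∀ u ∈ Ai i ⊔ Li i, ∀ v ∈ Ai j ⊔ Li j, u * v = v * u := hcomm
  have hzD : ∀ i, Subgroup.zpowers (x i) ≤ Ai i ⊔ Li i := fun i => by
    rw [Subgroup.zpowers_le]; exact hxD i
  -- `x i ∈ F(S)`
  have hxF : ∀ i, x i ∈ Cfsg.fittingSubgroup S := by
    intro i
    obtain ⟨hAI, hA2, hLF, -⟩ := hdata i
    have h1 : (QuotientGroup.mk' (Cfsg.fittingSubgroup S)) (x i) ∈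
        (Ai i ⊔ Li i).map (QuotientGroup.mk' (Cfsg.fittingSubgroup S)) := ⟨x i, hxD i, rfl⟩
    have h2 : (Li i).map (QuotientGroup.mk' (Cfsg.fittingSubgroup S)) = ⊥ := by
      rw [eq_bot_iff]
      rintro _ ⟨y, hy, rfl⟩
      rw [Subgroup.mem_bot]
      exact (QuotientGroup.eq_one_iff y).mpr (hLF hy)
    rw [Subgroup.map_sup, h2, sup_bot_eq] at h1
    obtain ⟨b, hb, hbx⟩ := h1
    have h3 : ((QuotientGroup.mk' (Cfsg.fittingSubgroup S)) (x i)) ^ 2 = 1 := by
      rw [← hbx, ← map_pow, hI2 b (hAI hb), map_one]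
    have h4 : ((QuotientGroup.mk' (Cfsg.fittingSubgroup S)) (x i)) ^ (orderOf (x i)) = 1 := by
      rw [← map_pow, pow_orderOf_eq_one, map_one]
    have h5 : orderOf ((QuotientGroup.mk' (Cfsg.fittingSubgroup S)) (x i)) ∣ Nat.gcd 2 (orderOf (x i)) :=
      Nat.dvd_gcd (orderOf_dvd_of_pow_eq_one h3) (orderOf_dvd_of_pow_eq_one h4)
    rw [Nat.coprime_two_left.mpr (hxodd i), Nat.dvd_one, orderOf_eq_one_iff] at h5
    exact (QuotientGroup.eq_one_iff (x i)).mp h5
  have hconjz : ∀ (b y z : S), (b * z * b⁻¹ = z ∨ b * z * b⁻¹ = z⁻¹) → y ∈ Subgroup.zpowers z →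
      b * y * b⁻¹ ∈ Subgroup.zpowers z := by
    rintro b _ z h ⟨k, rfl⟩
    have h1 : b * z ^ k * b⁻¹ = (b * z * b⁻¹) ^ k := by
      simp only [conj_zpow]
    simp only
    rw [h1]
    rcases h with h | h <;> rw [h]
    · exact Subgroup.zpow_mem _ (Subgroup.mem_zpowers z) k
    · exact Subgroup.zpow_mem _ (Subgroup.inv_mem _ (Subgroup.mem_zpowers z)) k
  have hind : iSupIndep (fun i => Subgroup.zpowers (x i)) := by
    intro i
    rw [disjoint_iff, eq_bot_iff]
    rintro y ⟨hy1, hy2⟩
    have h1 : (⨆ j, ⨆ (_ : j ≠ i), Subgroup.zpowers (x j)) ≤ Subgroup.centralizer {a i} := by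
      refine iSup_le fun j => iSup_le fun hj => ?_
      intro z hz
      rw [Subgroup.mem_centralizer_singleton_iff]
      exact hcommD j i hj z (hzD j hz) (a i) (le_sup_left (a := Ai i) (haA i))
    have h2 := Subgroup.mem_centralizer_singleton_iff.mp (h1 hy2)
    obtain ⟨k, rfl⟩ := hy1
    simp only at h2
    have h3 : a i * x i ^ k * (a i)⁻¹ = (x i ^ k)⁻¹ := by
      rw [← conj_zpow, hinv i, inv_zpow]
    have h4 : a i * x i ^ k * (a i)⁻¹ = x i ^ k := by
      rw [← h2]; group
    have h5 : (x i ^ k) ^ 2 = 1 := by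
      rw [sq]
      nth_rewrite 1 [← h4]
      rw [h3]; group
    have h6 : (x i ^ k) ^ (orderOf (x i)) = 1 := by
      rw [← zpow_natCast, ← zpow_mul, mul_comm, zpow_mul, zpow_natCast, pow_orderOf_eq_one, one_zpow]
    have h7 : orderOf (x i ^ k) ∣ Nat.gcd 2 (orderOf (x i)) :=
      Nat.dvd_gcd (orderOf_dvd_of_pow_eq_one h5) (orderOf_dvd_of_pow_eq_one h6)
    rw [Nat.coprime_two_left.mpr (hxodd i), Nat.dvd_one, orderOf_eq_one_iff] at h7
    exact Subgroup.mem_bot.mpr h7
  have hcz : Pairwise fun i j : Fin n => ∀ u v : S, u ∈ Subgroup.zpowers (x i) →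
      v ∈ Subgroup.zpowers (x j) → Commute u v := by
    intro i j hij u v hu hv
    exact hcommD i j hij u (hzD i hu) v (hzD j hv)
  have hcA : Pairwise fun i j : Fin n => ∀ u v : S, u ∈ Ai i → v ∈ Ai j → Commute u v := by
    intro i j hij u v hu hv
    exact hcommD i j hij u (le_sup_left (a := Ai i) hu) v (le_sup_left (a := Ai j) hv)
  refine ⟨fun i => Subgroup.zpowers (x i), ?_, ?_, ?_, ?_, ?_, ?_⟩
  · intro i
    rw [Nat.card_zpowers]; exact hxp i
  · intro i
    rw [Subgroup.zpowers_le]; exact hxF i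
  · intro i
    rw [← hsup]
    refine iSup_le fun j => ?_
    rw [Subgroup.le_normalizer_iff]
    intro b hb y hy
    by_cases hij : j = i
    · subst hij
      exact hconjz b y (x j) (hor j b hb) hy
    · have : b * y * b⁻¹ = y := by
        rw [hcommD j i hij b (le_sup_left (a := Ai j) hb) y (hzD i hy)]; group
      rw [this]; exact hy
  · intro i j hij u hu v hv
    exact hcz hij u v hu hv
  · have hinj := Subgroup.injective_noncommPiCoprod_of_iSupIndep (hcomm := hcz) hind
    rw [← Subgroup.noncommPiCoprod_range (hcomm := hcz)]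
    rw [Nat.card_congr (MonoidHom.ofInjective hinj).symm.toEquiv, Nat.card_pi]
  · rw [eq_bot_iff]
    rintro t ⟨htI, htC⟩
    rw [← hsup, ← Subgroup.noncommPiCoprod_range (hcomm := hcA)] at htI
    obtain ⟨u, rfl⟩ := htI
    have hu1 : ∀ i, u i = 1 := by
      intro i
      have h1 : u = Pi.mulSingle i (u i) * Function.update u i 1 := by
        funext j
        by_cases hj : j = i
        · subst hj; simp
        · simp [hj]
      have h2 : Subgroup.noncommPiCoprod hcA (Function.update u i 1) ∈ Subgroup.centralizer {x i} := by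
        rw [Subgroup.noncommPiCoprod_apply]
        apply Subgroup.noncommProd_mem
        intro j _
        rw [Subgroup.mem_centralizer_singleton_iff]
        by_cases hj : j = i
        · subst hj; simp
        · rw [Function.update_of_ne hj]
          exact hcommD j i hj _ (le_sup_left (a := Ai j) (u j).2) _ (hxD i)
      have h3 : Subgroup.noncommPiCoprod hcA u ∈ Subgroup.centralizer {x i} := by
        rw [Subgroup.mem_centralizer_singleton_iff]
        have := Subgroup.mem_centralizer_iff.mp htC (x i)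
          (le_iSup (fun i => Subgroup.zpowers (x i)) i (Subgroup.mem_zpowers _))
        exact this.symm
      rw [h1, map_mul, Subgroup.noncommPiCoprod_mulSingle] at h3
      have h4 : ((u i : ↥(Ai i)) : S) ∈ Subgroup.centralizer {x i} := by
        have := Subgroup.mul_mem _ h3 (Subgroup.inv_mem _ h2)
        simpa using this
      have h5 := Subgroup.mem_centralizer_singleton_iff.mp h4
      have h6 : ((u i : ↥(Ai i)) : S) = 1 := by
        apply hfix i _ (u i).2
        rw [h5]; group
      exact Subtype.ext h6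
    have : u = 1 := funext hu1
    rw [this, map_one]
    exact Subgroup.one_mem _

end Cfsg.Agent.S4408
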