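import Cfsg.Statements.S4419
import Cfsg.Agent.S0071
import Cfsg.Agent.S4208
import Cfsg.Agent.S0012
import Cfsg.Agent.Lib.Helper60Core

set_option autoImplicit false
open Cfsg

namespace Cfsg.Agent.S4419

open Cfsg.Agent.Lib

/-- a cyclic group of exponent `p` has at most `p` elements -/
theorem card_le_of_cyclic {C : Type*} [Group C] [Finite C] [hC : IsCyclic C] {p : ℕ} (hp : 0 < p)
    (h : ∀ c : C, c ^ p = 1) : Nat.card C ≤ p := by
  obtain ⟨g, hg⟩ := hC.exists_generator
  have h1 : orderOf g = Nat.card C := orderOf_eq_card_of_forall_mem_zpowers hg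
  rw [← h1]
  exact Nat.le_of_dvd hp (orderOf_dvd_of_pow_eq_one (h g))

/-- the Frattini quotient of a metacyclic `p`-group has order at most `p²` -/
theorem index_frattini_le {Q : Type*} [Group Q] [Finite Q] {p : ℕ} [Fact p.Prime]
    (hQ : IsPGroup p Q) (hm : IsMetacyclic Q) : (frattini Q).index ≤ p ^ 2 := by
  obtain ⟨M, hMn, hMc, hQMc⟩ := hm
  have hp : 0 < p := (Fact.out : p.Prime).pos
  have hexp : ∀ e : Q ⧸ frattini Q, e ^ p = 1 := by
    intro e
    obtain ⟨x, rfl⟩ := QuotientGroup.mk'_surjective (frattini Q) e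
    rw [← map_pow]
    exact (QuotientGroup.eq_one_iff _).2 ((Cfsg.Agent.S0012.result p hQ).2 x)
  set π := QuotientGroup.mk' (frattini Q) with hπ
  set Mb := M.map π with hMb
  have hMbn : Mb.Normal := hMn.map π (QuotientGroup.mk'_surjective _)
  have hMbc : IsCyclic Mb :=
    isCyclic_of_surjective (π.subgroupMap M) (π.subgroupMap_surjective M)
  have h1 : Nat.card Mb ≤ p := card_le_of_cyclic hp (fun c => by
    apply Subtype.ext
    simpa using hexp c)
  let f : Q ⧸ M →* (Q ⧸ frattini Q) ⧸ Mb := QuotientGroup.map M Mb π (Subgroup.le_comap_map _ _)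
  have hf : Function.Surjective f := by
    intro z
    obtain ⟨y, rfl⟩ := QuotientGroup.mk'_surjective Mb z
    obtain ⟨x, rfl⟩ := QuotientGroup.mk'_surjective (frattini Q) y
    exact ⟨QuotientGroup.mk' M x, rfl⟩
  have hc2 : IsCyclic ((Q ⧸ frattini Q) ⧸ Mb) := isCyclic_of_surjective f hf
  have h2 : Nat.card ((Q ⧸ frattini Q) ⧸ Mb) ≤ p := card_le_of_cyclic hp (fun c => by
    obtain ⟨y, rfl⟩ := QuotientGroup.mk'_surjective Mb c
    rw [← map_pow, hexp, map_one])
  have h3 : Nat.card (Q ⧸ frattini Q) = Nat.card ((Q ⧸ frattini Q) ⧸ Mb) * Nat.card Mb :=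
    Subgroup.card_eq_card_quotient_mul_card_subgroup Mb
  rw [Subgroup.index_eq_card, h3, pow_two]
  exact Nat.mul_le_mul h2 h1

/-- subgroups of metacyclic groups are metacyclic -/
theorem metacyclic_of_injective {S Q : Type*} [Group S] [Group Q] (ι : Q →* S)
    (hι : Function.Injective ι) (hS : IsMetacyclic S) : IsMetacyclic Q := by
  obtain ⟨N, hNn, hNc, hSNc⟩ := hS
  let f : Q →* S ⧸ N := (QuotientGroup.mk' N).comp ι
  refine ⟨f.ker, inferInstance, ?_, ?_⟩
  · have hmem : ∀ x : f.ker, ι x ∈ N := by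
      intro x
      have := x.2
      rw [MonoidHom.mem_ker] at this
      exact (QuotientGroup.eq_one_iff _).1 this
    let j : f.ker →* N :=
      { toFun := fun x => ⟨ι x, hmem x⟩
        map_one' := by apply Subtype.ext; simp
        map_mul' := by intro a b; apply Subtype.ext; simp }
    apply isCyclic_of_injective j
    intro a b hab
    have := congrArg Subtype.val hab
    exact Subtype.ext (hι this)
  · exact isCyclic_of_injective (QuotientGroup.kerLift f) (QuotientGroup.kerLift_injective f)

/-- Let p be a prime and G a finite group whose Sylow p-subgroups are metacyclic (a cyclic normal subgroup with cyclic quotient). Then G has a normal p-complement if and only if the order of G/O_{p′,p}(G) is coprime to p² − 1. -/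
theorem result {G : Type*} [Group G] [Finite G] (p : ℕ) [Fact p.Prime] (S : Sylow p G) (hS : Cfsg.IsMetacyclic ↥(S : Subgroup G)) : Cfsg.HasNormalPComplement p G ↔ Nat.Coprime (Nat.card (G ⧸ Cfsg.pPrimePCore p G)) (p ^ 2 - 1) := by
  have hpp : p.Prime := Fact.out
  set N₀ := pPrimeCore p G with hN₀
  set K := pPrimePCore p G with hK
  have hKn : K.Normal :=
    Subgroup.Normal.comap (inferInstance : (pCore p (G ⧸ pPrimeCore p G)).Normal) _
  constructor
  · rintro ⟨P, N, hNn, hc⟩
    have h1 : (P : Subgroup G).index = Nat.card N := hc.index_eq_card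
    have hcop : (Nat.card N).Coprime p := by
      rw [← h1]
      exact ((Nat.Prime.coprime_iff_not_dvd hpp).2 P.not_dvd_index).symm
    have hle : N ≤ N₀ := Helper60Core.le_pPrimeCore hNn hcop
    have h2 : N.index = Nat.card (P : Subgroup G) := hc.symm.index_eq_card
    have hQp : IsPGroup p (G ⧸ N₀) := by
      obtain ⟨k, hk⟩ := P.2.exists_card_eq
      have h3 : Nat.card (G ⧸ N₀) ∣ p ^ k := by
        rw [← hk, ← h2, ← Subgroup.index_eq_card]
        exact Subgroup.index_dvd_of_le hle
      obtain ⟨j, _, hj⟩ := (Nat.dvd_prime_pow hpp).1 h3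
      exact IsPGroup.of_card hj
    have h4 : pCore p (G ⧸ N₀) = ⊤ := by
      rw [eq_top_iff]
      exact Helper60Core.le_pCore inferInstance (hQp.to_subgroup ⊤)
    have h5 : K = ⊤ := by
      rw [hK, pPrimePCore, h4, Subgroup.comap_top]
    rw [← Subgroup.index_eq_card, h5, Subgroup.index_top]
    exact Nat.coprime_one_left _
  · intro hcop
    obtain ⟨N, hNn, hc⟩ := (Cfsg.Agent.S0071.result S).2 (by
      intro Q hQS g hg hgp
      have hQp : IsPGroup p Q := S.2.to_le hQS
      have hQm : IsMetacyclic Q :=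
        metacyclic_of_injective (Subgroup.inclusion hQS) (Subgroup.inclusion_injective hQS) hS
      obtain ⟨n, hn⟩ := hQp.exists_card_eq
      obtain ⟨r, hr⟩ : ∃ r, (frattini Q).index = p ^ r := by
        have : (frattini Q).index ∣ p ^ n := by rw [← hn]; exact Subgroup.index_dvd_card _
        obtain ⟨j, _, hj⟩ := (Nat.dvd_prime_pow hpp).1 this
        exact ⟨j, hj⟩
      have hr2 : r ≤ 2 := by
        have := index_frattini_le hQp hQm
        rw [hr] at this
        exact (Nat.pow_le_pow_iff_right hpp.one_lt).1 this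
      have hAut := Cfsg.Agent.S4208.result hn hr
      set m := Nat.card (G ⧸ K) with hm
      set α := Q.normalizerMonoidHom ⟨g, hg⟩ with hα
      -- order of α
      have ho1 : orderOf α ∣ orderOf g := by
        have := orderOf_map_dvd Q.normalizerMonoidHom (⟨g, hg⟩ : Subgroup.normalizer (Q : Set G))
        rwa [Subgroup.orderOf_mk] at this
      have ho2 : orderOf α ∣ Nat.card (MulAut Q) := orderOf_dvd_natCard α
      have hop : (orderOf α).Coprime p := Nat.Coprime.coprime_dvd_left ho1 hgp
      have ho3 : orderOf α ∣ ∏ i ∈ Finset.range r, (p ^ r - p ^ i) :=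
        (Nat.Coprime.pow_right _ hop).dvd_of_dvd_mul_left (ho2.trans hAut)
      have hm1 : m.Coprime (p - 1) := by
        apply Nat.Coprime.coprime_dvd_right _ hcop
        exact ⟨p + 1, by
          have := Nat.sq_sub_sq p 1
          rw [one_pow] at this
          rw [this, mul_comm]⟩
      have ho4 : (orderOf α).Coprime m := by
        interval_cases r
        · simp at ho3
          rw [ho3, orderOf_one]; exact Nat.coprime_one_left _
        · simp at ho3
          exact (Nat.Coprime.coprime_dvd_right ho3 hm1).symm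
        · rw [Finset.prod_range_succ, Finset.prod_range_one] at ho3
          have e1 : p ^ 2 - p ^ 1 = p * (p - 1) := by
            obtain ⟨q, rfl⟩ : ∃ q, p = q + 1 := ⟨p - 1, by have := hpp.pos; omega⟩
            simp; ring_nf; omega
          rw [pow_zero, e1, ← mul_assoc, mul_comm (p ^ 2 - 1) p, mul_assoc] at ho3
          have ho5 : orderOf α ∣ (p ^ 2 - 1) * (p - 1) := hop.dvd_of_dvd_mul_left ho3
          exact (Nat.Coprime.coprime_dvd_right ho5 (Nat.Coprime.mul_right hcop hm1)).symm
      -- g^m lies in K, hence in N₀, hence centralizes Q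
      have hgK : g ^ m ∈ K := by
        rw [← QuotientGroup.eq_one_iff, QuotientGroup.mk_pow]
        exact pow_card_eq_one'
      have hgN : g ^ m ∈ N₀ := by
        have h1 : QuotientGroup.mk' N₀ (g ^ m) ∈ pCore p (G ⧸ N₀) := hgK
        obtain ⟨j, hj⟩ := (Helper60Core.pCore_isPGroup p) ⟨_, h1⟩
        have hj' : (QuotientGroup.mk' N₀ (g ^ m)) ^ (p ^ j) = 1 := by
          simpa using congrArg Subtype.val hj
        have h2 : (QuotientGroup.mk' N₀ (g ^ m)) ^ (orderOf g) = 1 := by
          rw [← map_pow, ← pow_mul, mul_comm, pow_mul, pow_orderOf_eq_one, one_pow, map_one]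
        have h3 : orderOf (QuotientGroup.mk' N₀ (g ^ m)) ∣ Nat.gcd (orderOf g) (p ^ j) :=
          Nat.dvd_gcd (orderOf_dvd_of_pow_eq_one h2) (orderOf_dvd_of_pow_eq_one hj')
        rw [Nat.Coprime.pow_right j hgp, Nat.dvd_one, orderOf_eq_one_iff] at h3
        exact (QuotientGroup.eq_one_iff _).1 h3
      have hN₀n : N₀.Normal := inferInstance
      have hgC : g ^ m ∈ Subgroup.centralizer (Q : Set G) := by
        rw [Subgroup.mem_centralizer_iff]
        intro x hx
        have hgm : g ^ m ∈ Subgroup.normalizer (Q : Set G) := Subgroup.pow_mem _ hg _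
        have h1 : g ^ m * x * (g ^ m)⁻¹ ∈ Q := (Subgroup.mem_normalizer_iff.1 hgm x).1 hx
        have h2 : g ^ m * x * (g ^ m)⁻¹ * x⁻¹ ∈ Q := Q.mul_mem h1 (Q.inv_mem hx)
        have h3 : g ^ m * x * (g ^ m)⁻¹ * x⁻¹ ∈ N₀ := by
          have := hN₀n.conj_mem _ (N₀.inv_mem hgN) x
          have h4 := N₀.mul_mem hgN this
          have e : g ^ m * x * (g ^ m)⁻¹ * x⁻¹ = g ^ m * (x * (g ^ m)⁻¹ * x⁻¹) := by group
          rw [e]; exact h4
        have h5 : g ^ m * x * (g ^ m)⁻¹ * x⁻¹ = 1 := by
          obtain ⟨j, hj⟩ := hQp ⟨_, h2⟩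
          have hj' : (g ^ m * x * (g ^ m)⁻¹ * x⁻¹) ^ (p ^ j) = 1 := by
            simpa using congrArg Subtype.val hj
          have h6 : (g ^ m * x * (g ^ m)⁻¹ * x⁻¹) ^ Nat.card N₀ = 1 := by
            have := congrArg Subtype.val (pow_card_eq_one' (G := N₀) (x := ⟨_, h3⟩))
            simpa only [Subgroup.coe_pow, Subgroup.coe_one] using this
          have h7 : orderOf (g ^ m * x * (g ^ m)⁻¹ * x⁻¹) ∣ Nat.gcd (Nat.card N₀) (p ^ j) :=
            Nat.dvd_gcd (orderOf_dvd_of_pow_eq_one h6) (orderOf_dvd_of_pow_eq_one hj')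
          rw [Nat.Coprime.pow_right j (Helper60Core.card_pPrimeCore_coprime p), Nat.dvd_one,
            orderOf_eq_one_iff] at h7
          exact h7
        have : g ^ m * x = x * g ^ m := by
          have e : g ^ m * x = (g ^ m * x * (g ^ m)⁻¹ * x⁻¹) * (x * g ^ m) := by group
          rw [e, h5, one_mul]
        exact this.symm
      have hαm : α ^ m = 1 := by
        rw [hα, ← map_pow]
        have : (⟨g, hg⟩ : Subgroup.normalizer (Q : Set G)) ^ m ∈ Q.normalizerMonoidHom.ker := by
          rw [Subgroup.normalizerMonoidHom_ker, Subgroup.mem_subgroupOf]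
          simpa using hgC
        exact this
      have hα1 : α = 1 := by
        have h1 : orderOf α ∣ m := orderOf_dvd_of_pow_eq_one hαm
        have h2 : orderOf α ∣ Nat.gcd (orderOf α) m := Nat.dvd_gcd dvd_rfl h1
        rw [ho4, Nat.dvd_one, orderOf_eq_one_iff] at h2
        exact h2
      have : (⟨g, hg⟩ : Subgroup.normalizer (Q : Set G)) ∈ Q.normalizerMonoidHom.ker := hα1
      rw [Subgroup.normalizerMonoidHom_ker, Subgroup.mem_subgroupOf] at this
      exact this)
    exact ⟨S, N, hNn, hc⟩

end Cfsg.Agent.S4419
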