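import Cfsg.Statements.S4456
import Cfsg.Agent.S0081
import Cfsg.Agent.Lib.Helper82Mult
import Cfsg.Agent.Lib.Helper82Linear
import Cfsg.Agent.Lib.Helper4Char2
import Cfsg.Agent.Lib.Helper3PGroup

set_option autoImplicit false
open Cfsg

namespace Cfsg.Agent.S4456

open Cfsg.Agent.Lib.Helper82Irr Cfsg.Agent.Lib.Helper82Linear Cfsg.Agent.Lib.Helper82Mult
  Cfsg.Agent.Lib.Helper4Char Cfsg.Agent.Lib.Helper4Char2
open scoped ComplexConjugate

variable {G : Type*} [Group G] [Finite G]

/-- the regular character restricted to a subgroup contains every linear character `μ`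
with multiplicity the index. -/
theorem sum_degree_mul_inner [Fintype G] (P : Subgroup G) [Fintype P] (μ : P →* ℂˣ) :
    ∑ χ : Cfsg.IrrCharacter G, (χ : G → ℂ) 1 *
      Cfsg.classInner (fun x : P => (χ : G → ℂ) x) (fun x : P => ((μ x : ℂˣ) : ℂ)) = (P.index : ℂ) := by
  classical
  unfold Cfsg.classInner
  have h1 : ∀ χ : Cfsg.IrrCharacter G, (χ : G → ℂ) 1 * ((Nat.card P : ℂ)⁻¹ *
      ∑ x : P, (χ : G → ℂ) x * conj ((μ x : ℂˣ) : ℂ)) =
      (Nat.card P : ℂ)⁻¹ * ∑ x : P, conj ((μ x : ℂˣ) : ℂ) * ((χ : G → ℂ) 1 * (χ : G → ℂ) x) := by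
    intro χ
    rw [Finset.mul_sum, Finset.mul_sum, Finset.mul_sum]
    exact Finset.sum_congr rfl fun x _ => by ring
  rw [Finset.sum_congr rfl fun χ _ => h1 χ, ← Finset.mul_sum, Finset.sum_comm]
  have h2 : ∀ x : P, ∑ χ : Cfsg.IrrCharacter G,
      conj ((μ x : ℂˣ) : ℂ) * ((χ : G → ℂ) 1 * (χ : G → ℂ) x) =
      if x = 1 then (Nat.card G : ℂ) else 0 := by
    intro x
    rw [← Finset.mul_sum, sum_degree_mul]
    by_cases hx : x = 1
    · subst hx
      simp
    · have : (x : G) ≠ 1 := fun h => hx (Subtype.ext h)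
      rw [if_neg this, if_neg hx, mul_zero]
  rw [Finset.sum_congr rfl fun x _ => h2 x, Finset.sum_ite_eq' Finset.univ (1 : P), if_pos (Finset.mem_univ _)]
  have h3 : (Nat.card G : ℂ) = (Nat.card P : ℂ) * (P.index : ℂ) := by
    rw [← Nat.cast_mul, Subgroup.card_mul_index]
  have h4 : (Nat.card P : ℂ) ≠ 0 := by exact_mod_cast Nat.card_pos.ne'
  rw [h3]
  field_simp

theorem exists_extension (p : ℕ) [Fact p.Prime]
    (hdeg : ∀ χ : Cfsg.IrrCharacter G, Cfsg.charDegree (χ : G → ℂ) ≠ 1 →
      p ∣ Cfsg.charDegree (χ : G → ℂ)) (P : Sylow p G) (μ : (P : Subgroup G) →* ℂˣ) :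
    ∃ f : G →* ℂˣ, ∀ x : (P : Subgroup G), f x = μ x := by
  classical
  have := Fintype.ofFinite G
  have := Fintype.ofFinite (P : Subgroup G)
  have hμ := isIrrCharacter_of_hom μ
  choose n hn using fun χ : Cfsg.IrrCharacter G =>
    exists_nat_classInner (isCharacter_restrict (irr_isCharacter χ) (P : Subgroup G)) (IsIrrCharacter.isCharacter hμ)
  have hsum : ∑ χ : Cfsg.IrrCharacter G, Cfsg.charDegree (χ : G → ℂ) * n χ = (P : Subgroup G).index := by
    have h := sum_degree_mul_inner (P : Subgroup G) μ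
    have h2 : ((∑ χ : Cfsg.IrrCharacter G, Cfsg.charDegree (χ : G → ℂ) * n χ : ℕ) : ℂ) =
        ((P : Subgroup G).index : ℂ) := by
      rw [← h, Nat.cast_sum]
      refine Finset.sum_congr rfl fun χ _ => ?_
      rw [Nat.cast_mul, irr_charDegree_cast, hn χ]
    exact_mod_cast h2
  have hex : ∃ χ : Cfsg.IrrCharacter G, Cfsg.charDegree (χ : G → ℂ) = 1 ∧ n χ ≠ 0 := by
    by_contra hcon
    push Not at hcon
    apply P.not_dvd_index
    rw [← hsum]
    refine Finset.dvd_sum fun χ _ => ?_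
    by_cases h1 : Cfsg.charDegree (χ : G → ℂ) = 1
    · rw [hcon χ h1, mul_zero]; exact dvd_zero p
    · exact (hdeg χ h1).mul_right _
  obtain ⟨χ, h1, hne⟩ := hex
  have h1' : (χ : G → ℂ) 1 = 1 := by rw [← irr_charDegree_cast, h1]; simp
  refine ⟨homOfLinear χ h1', fun x => ?_⟩
  have hirr := isIrrCharacter_of_hom ((homOfLinear χ h1').comp (P : Subgroup G).subtype)
  by_contra hx
  apply hne
  have h0 : Cfsg.classInner (fun x : (P : Subgroup G) => (χ : G → ℂ) x)
      (fun x : (P : Subgroup G) => ((μ x : ℂˣ) : ℂ)) = 0 := by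
    apply classInner_irr_ne hirr hμ
    intro heq
    apply hx
    have := congrFun heq x
    exact Units.ext this
  rw [hn χ] at h0
  exact_mod_cast h0

/-- if all homomorphisms to `ℂˣ` are trivial at `x`, then `x` lies in the commutator subgroup. -/
theorem mem_commutator_of_forall_hom {P : Type*} [Group P] [Finite P] (x : P)
    (h : ∀ μ : P →* ℂˣ, μ x = 1) : x ∈ commutator P := by
  by_contra hx
  have hne : Abelianization.of x ≠ 1 := by
    intro h1
    apply hx
    rw [← Abelianization.ker_of, MonoidHom.mem_ker]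
    exact h1
  obtain ⟨φ, hφ⟩ := CommGroup.exists_apply_ne_one_of_hasEnoughRootsOfUnity (Abelianization P) ℂ hne
  exact hφ (h (φ.comp Abelianization.of))

/-- the intersection of the kernels of the `m`-th powers of all linear characters. -/
noncomputable def Nsub (G : Type*) [Group G] (m : ℕ) : Subgroup G := ⨅ f : G →* ℂˣ, (f ^ m).ker

omit [Finite G] in
theorem mem_Nsub (m : ℕ) (g : G) : g ∈ Nsub G m ↔ ∀ f : G →* ℂˣ, f g ^ m = 1 := by
  unfold Nsub
  rw [Subgroup.mem_iInf]
  rfl

instance Nsub_normal (G : Type*) [Group G] (m : ℕ) : (Nsub G m).Normal :=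
  Subgroup.normal_iInf_normal fun _ => MonoidHom.normal_ker _

/-- a normal `p`-complement of a normal subgroup of `p`-power index. -/
theorem complement_of_normal (p : ℕ) [Fact p.Prime] (N : Subgroup G) [hN : N.Normal]
    (hidx : ∃ k : ℕ, N.index = p ^ k) (h : Cfsg.HasNormalPComplement p N) :
    ∃ K : Subgroup G, K.Normal ∧ (Nat.card K).Coprime p ∧ ∃ k : ℕ, K.index = p ^ k := by
  obtain ⟨Q, K, hK, hcompl⟩ := h
  obtain ⟨k, hk⟩ := hidx
  have hmul : Nat.card K * Nat.card (Q : Subgroup N) = Nat.card N := hcompl.card_mul_card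
  obtain ⟨j, hj⟩ := IsPGroup.iff_card.mp Q.2
  have hKidx : K.index = p ^ j := by
    have h1 := K.card_mul_index
    rw [← hmul] at h1
    have := Nat.eq_of_mul_eq_mul_left Nat.card_pos h1
    rw [this]; exact hj
  have hcop : (Nat.card K).Coprime p := by
    rw [Nat.coprime_comm, Nat.Prime.coprime_iff_not_dvd Fact.out]
    intro hdvd
    apply Q.not_dvd_index
    have h1 := (Q : Subgroup N).card_mul_index
    rw [← hmul, mul_comm] at h1
    have := Nat.eq_of_mul_eq_mul_right Nat.card_pos h1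
    rw [this]; exact hdvd
  refine ⟨K.map N.subtype, ?_, ?_, k + j, ?_⟩
  · constructor
    rintro _ ⟨y, hy, rfl⟩ g
    have hmem : g * (y : G) * g⁻¹ ∈ N := hN.conj_mem _ y.2 g
    refine ⟨⟨_, hmem⟩, ?_, rfl⟩
    set z : N := ⟨g * (y : G) * g⁻¹, hmem⟩ with hz
    change z ∈ K
    rw [← QuotientGroup.eq_one_iff]
    have ho : orderOf z = orderOf y := by
      rw [← Subgroup.orderOf_coe z, ← Subgroup.orderOf_coe y, hz]
      exact orderOf_injective (MulAut.conj g).toMonoidHom (MulAut.conj g).injective (y : G)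
    have h1 : orderOf (z : N ⧸ K) ∣ orderOf z := orderOf_map_dvd (QuotientGroup.mk' K) z
    have h2 : orderOf y ∣ Nat.card K := by
      have := orderOf_dvd_natCard (⟨y, hy⟩ : K)
      rwa [← Subgroup.orderOf_coe] at this
    have h3 : orderOf (z : N ⧸ K) ∣ p ^ j := by
      rw [← hKidx, Subgroup.index_eq_card]
      exact orderOf_dvd_natCard _
    have h4 : orderOf (z : N ⧸ K) ∣ Nat.card K := h1.trans (ho ▸ h2)
    have h5 : (Nat.card K).Coprime (p ^ j) := hcop.pow_right j
    exact orderOf_eq_one_iff.mp (Nat.eq_one_of_dvd_coprimes h5 h4 h3)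
  · rw [Subgroup.card_map_of_injective N.subtype_injective]
    exact hcop
  · have h1 : (K.map N.subtype).index = K.index * N.index := by
      rw [Subgroup.index_map_subtype]
    rw [h1, hKidx, hk, pow_add, mul_comm]

/-- Let p be a prime and G a finite group such that p divides the degree of every irreducible character of G of degree greater than one. Then G has a normal p-complement: a normal subgroup of order prime to p whose index is a power of p. -/
theorem result {G : Type*} [Group G] [Finite G] (p : ℕ) (hp : p.Prime) (hdeg : ∀ χ : Cfsg.IrrCharacter G, Cfsg.charDegree (χ : G → ℂ) ≠ 1 → p ∣ Cfsg.charDegree (χ : G → ℂ)) : ∃ N : Subgroup G, N.Normal ∧ (Nat.card N).Coprime p ∧ ∃ k : ℕ, N.index = p ^ k := by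
  have : Fact p.Prime := ⟨hp⟩
  let P : Sylow p G := default
  set a := (Nat.card G).factorization p with ha
  set m := Nat.card G / p ^ a with hm
  have hGm : p ^ a * m = Nat.card G := Nat.ordProj_mul_ordCompl_eq_self (Nat.card G) p
  have hcop : Nat.Coprime p m := Nat.coprime_ordCompl hp Nat.card_pos.ne'
  have hPcard : Nat.card (P : Subgroup G) = p ^ a := P.card_eq_multiplicity
  apply complement_of_normal p (Nsub G m)
  · have hpg : IsPGroup p (G ⧸ Nsub G m) := by
      intro y
      obtain ⟨g, rfl⟩ := QuotientGroup.mk_surjective y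
      refine ⟨a, ?_⟩
      rw [← QuotientGroup.mk_pow, QuotientGroup.eq_one_iff, mem_Nsub]
      intro f
      rw [map_pow, ← pow_mul, hGm, ← map_pow, pow_card_eq_one', map_one]
    obtain ⟨k, hk⟩ := IsPGroup.iff_card.mp hpg
    exact ⟨k, by rw [Subgroup.index_eq_card, hk]⟩
  · apply Cfsg.Agent.S0081.result P (Nsub G m)
    rintro x ⟨hxN, hxP⟩
    refine ⟨⟨x, hxP⟩, ?_, rfl⟩
    apply Cfsg.Agent.Lib.Helper3PGroup.commutator_le_frattini P.2
    apply mem_commutator_of_forall_hom
    intro μ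
    obtain ⟨f, hf⟩ := exists_extension p hdeg P μ
    have h1 : μ ⟨x, hxP⟩ ^ m = 1 := by
      rw [← hf]
      exact (mem_Nsub m x).mp hxN f
    have h2 : μ ⟨x, hxP⟩ ^ (p ^ a) = 1 := by
      rw [← map_pow, ← hPcard, pow_card_eq_one', map_one]
    have h3 := pow_gcd_eq_one.mpr ⟨h2, h1⟩
    rw [Nat.Coprime.gcd_eq_one (hcop.pow_left a), pow_one] at h3
    exact h3

end Cfsg.Agent.S4456
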