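import Cfsg.Statements.S4996
import Cfsg.Agent.Lib.Helper79Coset
import Cfsg.Agent.Lib.Helper19Lin
-- import your own Cfsg.Agent.* helpers here

set_option autoImplicit false
open Cfsg

namespace Cfsg.Agent.S4996

open Cfsg.Agent.Lib

/-- Let N be a normal subgroup of the finite group G and χ an irreducible complex character of G. Then the restriction of χ to N is not irreducible if and only if χ vanishes on some whole coset Nx of N in G. -/
theorem result {G : Type*} [Group G] [Finite G] (N : Subgroup G) [N.Normal] (χ : Cfsg.IrrCharacter G) : ¬ Cfsg.IsIrrCharacter ↥N (fun n : ↥N => (χ : G → ℂ) n) ↔ ∃ x : G, ∀ n : ↥N, (χ : G → ℂ) ((n : G) * x) = 0 := by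
  classical
  have := Fintype.ofFinite G
  have := Fintype.ofFinite N
  have hχc := Helper4Char.IsIrrCharacter.isCharacter χ.2
  have hα : Cfsg.IsCharacter G (Helper79Coset.cosetNorm N (χ : G → ℂ)) :=
    Helper79Coset.cosetNorm_isCharacter N hχc
  have hres : Cfsg.IsCharacter ↥N (fun n : ↥N => (χ : G → ℂ) n) :=
    Helper4Char4.IsCharacter.restrict N hχc
  have h1 := Helper79Coset.cosetNorm_one N (χ : G → ℂ)
  constructor
  · intro hnot
    by_contra hno
    push Not at hno
    have hne : ∀ g, Helper79Coset.cosetNorm N (χ : G → ℂ) g ≠ 0 := by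
      intro g h0
      rw [Helper79Coset.cosetNorm_eq_zero_iff] at h0
      obtain ⟨n, hn⟩ := hno g
      exact hn (h0 n)
    have key := Helper79Zeros.card_nonzero_le_sum hα (Finset.univ.erase 1) (by
      intro k hk g
      have := Helper79Zeros.pow_mem_iff (⊥ : Subgroup G) k hk g
      simp only [Subgroup.mem_bot] at this
      simp only [Finset.mem_erase, Finset.mem_univ, and_true, ne_eq, this]) 1
    have hfil : (Finset.univ.erase (1 : G)).filter
        (fun g => Helper79Coset.cosetNorm N (χ : G → ℂ) g ≠ 0) = Finset.univ.erase 1 :=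
      Finset.filter_true_of_mem (fun g _ => hne g)
    rw [hfil, Finset.card_erase_of_mem (Finset.mem_univ _), Finset.card_univ] at key
    have hsum := Helper79Coset.sum_norm_cosetNorm N χ.2
    rw [← Finset.add_sum_erase _ _ (Finset.mem_univ (1 : G)), Nat.card_eq_fintype_card] at hsum
    simp only [pow_one] at key
    have hpos : 1 ≤ Fintype.card G := Fintype.card_pos
    rw [Nat.cast_sub hpos] at key
    have hle : ‖Helper79Coset.cosetNorm N (χ : G → ℂ) 1‖ ≤ 1 := by
      push_cast at key
      linarith
    obtain ⟨m, hm⟩ := Helper4Char4.IsCharacter.classInner_nat hres hres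
    rw [h1, hm, Complex.norm_natCast] at hle
    have hm0 : m ≠ 0 := by
      rintro rfl
      apply hne 1
      rw [h1, hm, Nat.cast_zero]
    have hm1 : m = 1 := by
      have : m ≤ 1 := by exact_mod_cast hle
      omega
    apply hnot
    rw [Helper4Char4.isIrrCharacter_iff]
    exact ⟨hres, by rw [hm, hm1, Nat.cast_one]⟩
  · rintro ⟨x, hx⟩ hirr
    rw [Helper4Char.classInner_irr_self hirr] at h1
    obtain ⟨f, hf⟩ := Helper19Lin.isLinear_iff.mp ⟨hα, h1⟩
    have h0 := (Helper79Coset.cosetNorm_eq_zero_iff N (χ : G → ℂ) x).mpr hx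
    rw [← hf, Helper19Lin.homFun_apply] at h0
    exact (f x).ne_zero h0

end Cfsg.Agent.S4996
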