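import Cfsg.Statements.S4565
import Cfsg.Agent.Lib.Helper79Ramified
import Cfsg.Agent.Lib.Helper82Quot
import Cfsg.Agent.S0886
import Cfsg.Agent.S4996
-- import your own Cfsg.Agent.* helpers here

set_option autoImplicit false
open Cfsg

namespace Cfsg.Agent.S4565

open Cfsg.Agent.Lib
open scoped ComplexConjugate

/-- Let χ be an irreducible character of the finite group H that is fully ramified over the normal subgroup Z: the restriction of χ to Z is e times an irreducible character of Z with e ^ 2 equal to the index of Z. If Z ≠ H, then H/Z has no cyclic subgroup that is its own centralizer. -/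
theorem result {H : Type*} [Group H] [Finite H] (Z : Subgroup H) [Z.Normal] (χ : Cfsg.IrrCharacter H) (hfr : ∃ (θ : Cfsg.IrrCharacter ↥Z) (e : ℕ), e ^ 2 = Z.index ∧ ∀ z : ↥Z, (χ : H → ℂ) z = (e : ℂ) * (θ : ↥Z → ℂ) z) (hZ : Z ≠ ⊤) (C : Subgroup (H ⧸ Z)) (hC : IsCyclic C) : Subgroup.centralizer (C : Set (H ⧸ Z)) ≠ C := by
  classical
  intro hcent
  have := Fintype.ofFinite H
  have := Fintype.ofFinite Z
  obtain ⟨θ, e, he, hres⟩ := hfr
  obtain ⟨⟨c, hcC⟩, hgen⟩ := hC.exists_generator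
  obtain ⟨x, rfl⟩ := QuotientGroup.mk_surjective c
  have hCpow : ∀ d ∈ C, d ∈ Subgroup.zpowers (QuotientGroup.mk x : H ⧸ Z) := by
    intro d hd
    obtain ⟨k, hk⟩ := hgen ⟨d, hd⟩
    refine ⟨k, ?_⟩
    have := congrArg Subtype.val hk
    simpa using this
  have hcomm : ∀ t : H ⧸ Z, t * QuotientGroup.mk x = QuotientGroup.mk x * t → t ∈ C := by
    intro t ht
    rw [← hcent, Subgroup.mem_centralizer_iff]
    intro d hd
    obtain ⟨k, rfl⟩ := hCpow d hd
    have : Commute t (QuotientGroup.mk x : H ⧸ Z) := ht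
    exact (this.zpow_right k).eq.symm
  have hcomm' : ∀ t ∈ C, t * QuotientGroup.mk x = QuotientGroup.mk x * t := by
    intro t ht
    obtain ⟨k, rfl⟩ := hCpow t ht
    exact ((Commute.refl (QuotientGroup.mk x : H ⧸ Z)).zpow_left k).eq
  have hxZ : x ∉ Z := by
    intro hx
    apply hZ
    have h1 : (QuotientGroup.mk x : H ⧸ Z) = 1 := (QuotientGroup.eq_one_iff x).mpr hx
    rw [eq_top_iff]
    intro g _
    have hg : (QuotientGroup.mk g : H ⧸ Z) ∈ C := hcomm _ (by rw [h1, mul_one, one_mul])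
    obtain ⟨k, hk⟩ := hCpow _ hg
    rw [h1] at hk
    simp only [one_zpow] at hk
    exact (QuotientGroup.eq_one_iff g).mp hk.symm
  set U : Subgroup H := C.comap (QuotientGroup.mk' Z) with hU
  have hmemU : ∀ g : H, g ∈ U ↔ (QuotientGroup.mk g : H ⧸ Z) ∈ C := fun g => Iff.rfl
  have hZU : Z ≤ U := by
    intro z hz
    rw [hmemU, (QuotientGroup.eq_one_iff z).mpr hz]
    exact C.one_mem
  have hxU : x ∈ U := hcC
  have := Fintype.ofFinite U
  set N : Subgroup U := Z.subgroupOf U with hN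
  have hNn : N.Normal := Subgroup.normal_subgroupOf
  have := Fintype.ofFinite N
  have hcyc : IsCyclic (U ⧸ N) := by
    refine ⟨⟨QuotientGroup.mk ⟨x, hxU⟩, fun q => ?_⟩⟩
    obtain ⟨u, rfl⟩ := QuotientGroup.mk_surjective q
    obtain ⟨k, hk⟩ := hCpow _ u.2
    refine ⟨k, ?_⟩
    show (QuotientGroup.mk ⟨x, hxU⟩ : U ⧸ N) ^ k = QuotientGroup.mk u
    rw [← QuotientGroup.mk_zpow, QuotientGroup.eq, hN, Subgroup.mem_subgroupOf]
    have hk' : (QuotientGroup.mk (x ^ k) : H ⧸ Z) = QuotientGroup.mk (u : H) := by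
      rw [QuotientGroup.mk_zpow]; exact hk
    have := QuotientGroup.eq.mp hk'
    simpa using this
  let eq : N ≃* Z := Subgroup.subgroupOfEquivOfLe hZU
  have heq : ∀ n : N, ((eq n : Z) : H) = ((n : U) : H) := fun n => rfl
  let ϑ : N → ℂ := (θ : Z → ℂ) ∘ eq.toMonoidHom
  have hϑ : Cfsg.IsIrrCharacter N ϑ := Helper82Quot.isIrrCharacter_comp θ.2 eq.toMonoidHom eq.surjective
  have hinv : ∀ (g : U) (n : N), ϑ ⟨g * n * g⁻¹, hNn.conj_mem (n : U) n.2 g⟩ = ϑ n := by
    intro g n
    have := Helper79Ramified.invariant Z χ.2 he hres (g : H) (eq n)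
    exact this
  obtain ⟨φ, hφ, hφres⟩ := Cfsg.Agent.S0886.result N hcyc ϑ hϑ hinv
  -- a point of the coset where φ does not vanish
  have hnv : ∃ n : N, φ ((n : U) * ⟨x, hxU⟩) ≠ 0 := by
    by_contra hcon
    push Not at hcon
    have h1 := (Cfsg.Agent.S4996.result N ⟨φ, hφ⟩).mpr ⟨⟨x, hxU⟩, hcon⟩
    apply h1
    have : (fun n : N => φ n) = ϑ := funext hφres
    show Cfsg.IsIrrCharacter N (fun n : N => φ n)
    rw [this]; exact hϑ
  obtain ⟨n₀, hn₀⟩ := hnv
  set x' : U := (n₀ : U) * ⟨x, hxU⟩ with hx'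
  have hmkN : ∀ (n : N) (u : U), (QuotientGroup.mk (((n : U) * u : U) : H) : H ⧸ Z) =
      QuotientGroup.mk (u : H) := by
    intro n u
    have hn : ((n : U) : H) ∈ Z := n.2
    rw [Subgroup.coe_mul, QuotientGroup.mk_mul, (QuotientGroup.eq_one_iff _).mpr hn, one_mul]
  have hmkx' : (QuotientGroup.mk (x' : H) : H ⧸ Z) = QuotientGroup.mk x := hmkN n₀ ⟨x, hxU⟩
  let f₀ : U → ℂ := fun u => if (QuotientGroup.mk (u : H) : H ⧸ Z) = QuotientGroup.mk x then φ u else 0
  have hφ1 : φ 1 ≠ 0 := Helper83Char.irr_one_ne_zero hφ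
  have hNc : (Nat.card N : ℂ) ≠ 0 := by exact_mod_cast (Nat.card_pos (α := N)).ne'
  have hsumN : ∑ n : N, conj (ϑ n) * φ n = (Nat.card N : ℂ) := by
    have h := Helper4Char.classInner_irr_self hϑ
    unfold Cfsg.classInner at h
    have h' : ∑ n : N, ϑ n * conj (ϑ n) = (Nat.card N : ℂ) := by
      field_simp at h
      exact h
    rw [← h']
    refine Finset.sum_congr rfl fun n _ => ?_
    rw [hφres n, mul_comm]
  have hbφ : ∀ u : U, ∑ n : N, conj (ϑ n) * φ ((n : U) * u) = ((Nat.card N : ℂ) / φ 1) * φ u := by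
    intro u
    rw [Helper79Ramified.twist N (fun n => conj (ϑ n)) (fun g n => by rw [hinv g n]) hφ u, hsumN]
    ring
  have hbf : ∀ u : U, ∑ n : N, conj (ϑ n) * f₀ ((n : U) * u) = ((Nat.card N : ℂ) / φ 1) * f₀ u := by
    intro u
    simp only [f₀, hmkN]
    split_ifs with h
    · exact hbφ u
    · simp
  have hϑinv : ∀ n : N, ϑ n⁻¹ = conj (ϑ n) := fun n => Helper83Char.irr_inv hϑ n
  have hT : ∀ ψ : H → ℂ, Cfsg.IsIrrCharacter H ψ → ∑ u : U, f₀ u * conj (ψ u) = 0 := by
    intro ψ hψ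
    by_cases hne : ψ = (χ : H → ℂ)
    · apply Finset.sum_eq_zero
      intro u _
      simp only [f₀]
      split_ifs with h
      · have huZ : (u : H) ∉ Z := by
          intro hu
          apply hxZ
          rw [← QuotientGroup.eq_one_iff, ← h, QuotientGroup.eq_one_iff]
          exact hu
        rw [hne, Helper79Ramified.vanish Z χ.2 θ.2 he hres _ huZ]
        simp
      · simp
    · apply Helper79Ramified.orth_trick N ϑ hϑinv f₀ (fun u => ψ u) _ (div_ne_zero hNc hφ1) hbf
      intro u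
      have := Helper79Ramified.twist_zero Z χ.2 θ.2 he hres hψ hne (u : H)
      rw [← this]
      exact Fintype.sum_equiv eq.toEquiv _ _ (fun n => rfl)
  have hF : Cfsg.indFun U f₀ = 0 := by
    apply Helper4Char.eq_zero_of_classInner_irr_eq_zero _ (Helper19Ind.indFun_isClassFunction U f₀)
    intro ψ hψ
    rw [Helper32Ind.frobenius U f₀ ψ (Helper4Char.IsIrrCharacter.isClassFunction hψ)]
    unfold Cfsg.classInner
    rw [hT ψ hψ, mul_zero]
  have hFx := congrFun hF (x' : H)
  rw [Helper19Ind.indFun_apply] at hFx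
  have hterm : ∀ t : H, Cfsg.extendByZero U f₀ (t⁻¹ * (x' : H) * t) = if t ∈ U then φ x' else 0 := by
    intro t
    split_ifs with ht
    · have hmem : t⁻¹ * (x' : H) * t ∈ U := U.mul_mem (U.mul_mem (U.inv_mem ht) x'.2) ht
      rw [Helper19Ind.extendByZero_of_mem U f₀ hmem]
      have hmk : (QuotientGroup.mk (t⁻¹ * (x' : H) * t) : H ⧸ Z) = QuotientGroup.mk x := by
        rw [QuotientGroup.mk_mul, QuotientGroup.mk_mul, hmkx', QuotientGroup.mk_inv, mul_assoc,
          ← hcomm' _ ((hmemU t).mp ht), inv_mul_cancel_left]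
      simp only [f₀, hmk, if_true]
      have := Helper4Char.IsIrrCharacter.isClassFunction hφ x' (⟨t, ht⟩⁻¹ : U)
      rw [← this]
      congr 1
      apply Subtype.ext
      simp
    · by_cases hmem : t⁻¹ * (x' : H) * t ∈ U
      · rw [Helper19Ind.extendByZero_of_mem U f₀ hmem]
        simp only [f₀]
        rw [if_neg]
        intro hmk
        apply ht
        rw [hmemU]
        apply hcomm
        rw [QuotientGroup.mk_mul, QuotientGroup.mk_mul, hmkx', QuotientGroup.mk_inv] at hmk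
        calc (QuotientGroup.mk t : H ⧸ Z) * QuotientGroup.mk x
            = QuotientGroup.mk t * ((QuotientGroup.mk t)⁻¹ * QuotientGroup.mk x * QuotientGroup.mk t) := by
              rw [hmk]
          _ = QuotientGroup.mk x * QuotientGroup.mk t := by group
      · exact Helper19Ind.extendByZero_of_not_mem U f₀ hmem
  simp only [hterm] at hFx
  rw [Finset.sum_ite, Finset.sum_const, Finset.sum_const_zero, add_zero, nsmul_eq_mul] at hFx
  have hUc : (Nat.card U : ℂ) ≠ 0 := by exact_mod_cast (Nat.card_pos (α := U)).ne'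
  have hcardU : ((Finset.univ.filter (fun t : H => t ∈ U)).card : ℂ) ≠ 0 := by
    have : (Finset.univ.filter (fun t : H => t ∈ U)).card ≠ 0 := by
      rw [Finset.card_ne_zero]
      exact ⟨1, by simp [U.one_mem]⟩
    exact_mod_cast this
  simp only [Pi.zero_apply, mul_eq_zero, inv_eq_zero] at hFx
  rcases hFx with h | h | h
  · exact hUc h
  · exact hcardU h
  · exact hn₀ h

end Cfsg.Agent.S4565
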