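import Cfsg.Statements.S4573
import Cfsg.Agent.Lib.H4MgDefs
import Cfsg.Agent.Lib.H4MgCase
import Cfsg.Agent.Lib.H4MgKK
import Cfsg.Agent.Lib.H4MgPrimeIdx
import Cfsg.Agent.S0176

set_option autoImplicit false
open Cfsg

universe u

namespace Cfsg.Agent.S4573

open RegularWreathProduct Cfsg.Agent.Lib.H4MgDefs

theorem aux : ∀ (n : ℕ) (G : Type u) [Group G] [Finite G], Group.IsSolvable G → Nat.card G = n →
    ∃ (M : Type u) (_ : Group M) (_ : Fintype M), IsM M ∧ ∃ f : G →* M, Function.Injective f := by
  intro n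
  induction n using Nat.strong_induction_on with
  | _ n ih =>
    intro G _ _ hs hn
    classical
    rcases subsingleton_or_nontrivial G with hsub | hnt
    · have : Fintype G := Fintype.ofFinite G
      refine ⟨G, inferInstance, inferInstance, ?_, MonoidHom.id G, Function.injective_id⟩
      intro χ hχ
      exact Cfsg.Agent.S0176.result χ hχ
    · obtain ⟨N, hN, hp⟩ := Cfsg.Agent.Lib.H4MgPrimeIdx.exists_normal_prime_index hs
      have hlt : Nat.card N < n := by
        rw [← hn, ← N.card_mul_index]
        have h1 : 0 < Nat.card N := Nat.card_pos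
        have h2 := hp.one_lt
        nlinarith
      have hsN : Group.IsSolvable N := inferInstance
      obtain ⟨H, iH, fH, hM, f, hf⟩ := ih (Nat.card N) hlt N hsN rfl
      have : Fintype (G ⧸ N) := Fintype.ofFinite _
      have : Fintype (H ≀ᵣ (G ⧸ N)) := Fintype.ofFinite _
      have hpQ : (Nat.card (G ⧸ N)).Prime := hp
      refine ⟨H ≀ᵣ (G ⧸ N), inferInstance, inferInstance,
        Cfsg.Agent.Lib.H4MgCase.isM_wreath hpQ hM, ?_⟩
      obtain ⟨e, he⟩ := Cfsg.Agent.Lib.H4MgKK.exists_embedding N
      obtain ⟨F, hF⟩ := Cfsg.Agent.Lib.H4MgKK.exists_map (Q := G ⧸ N) f hf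
      exact ⟨F.comp e, hF.comp he⟩

/-- Every finite solvable group is isomorphic to a subgroup of a finite M-group, a group each of whose irreducible characters is induced from a homomorphism of some subgroup into ℂˣ. -/
theorem result {G : Type u} [Group G] [Finite G] (hsolv : Group.IsSolvable G) : ∃ (M : Type u) (_ : Group M) (_ : Fintype M), (∀ χ : M → ℂ, Cfsg.IsIrrCharacter M χ → (∃ (H : Subgroup M) (lam : ↥H →* ℂˣ), χ = Cfsg.indFun H (fun h => (lam h : ℂ)))) ∧ ∃ f : G →* M, Function.Injective f := by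
  exact aux (Nat.card G) G hsolv rfl

end Cfsg.Agent.S4573
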