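import Cfsg.Statements.S4587
import Cfsg.Agent.S4172
import Cfsg.Agent.Lib.H73TsHypOf
import Cfsg.Agent.Lib.H73TsAbCase
import Cfsg.Agent.Lib.H73TsBack
import Cfsg.Agent.Lib.H73TsCommLe
import Cfsg.Agent.Lib.H73TsIdx
import Cfsg.Agent.Lib.H73TsNotLe
import Cfsg.Agent.Lib.H73TsQAb
import Cfsg.Agent.Lib.H73TsCenYG
import Cfsg.Agent.Lib.H73TsSylC2

set_option autoImplicit false
open Cfsg

namespace Cfsg.Agent.S4587

/-- Let G be a finite group, p a prime and P a Sylow p-subgroup of order at least p². Assume that G has no nontrivial normal subgroup of order prime to p, that the derived subgroup P' of P contains no nontrivial normal subgroup of G, and that G is not almost simple (there is no non-abelian simple normal subgroup of G with trivial centralizer). Then [P : P'] = p² if and only if some p-element x of G has centralizer whose order has p-part exactly p². -/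
theorem result {G : Type*} [Group G] [Finite G] (p : ℕ) [Fact p.Prime] (P : Sylow p G) (hbig : p ^ 2 ∣ Nat.card G) (hcore : Cfsg.pPrimeCore p G = ⊥)
    (hcore' : (⁅(P : Subgroup G), (P : Subgroup G)⁆).normalCore = ⊥) (hnas : ¬ ∃ S : Subgroup G, S.Normal ∧ IsSimpleGroup S ∧ ¬ IsMulCommutative S ∧ Subgroup.centralizer (S : Set G) = ⊥) :
    (⁅(P : Subgroup G), (P : Subgroup G)⁆).relIndex (P : Subgroup G) = p ^ 2 ↔
      ∃ x : G, (∃ k : ℕ, orderOf x = p ^ k) ∧ (Nat.card (Subgroup.centralizer ({x} : Set G))).factorization p = 2 := by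
  constructor
  · intro hidx
    by_cases hab : IsMulCommutative (P : Subgroup G)
    · exact Cfsg.Agent.Lib.H73TsAbCase.ab P hab hidx
    · obtain ⟨h, hPhi⟩ := Cfsg.Agent.Lib.H73TsHypOf.hyp_of P hab hcore hcore' hidx
      have hFn : (Cfsg.generalizedFittingSubgroup G).Normal := by
        unfold Cfsg.generalizedFittingSubgroup
        haveI := Cfsg.Agent.Lib.Helper27Balance.layer_normal G
        haveI := Cfsg.Agent.Lib.Helper28Fitting.fitting_normal (G := G)
        infer_instance
      obtain ⟨⟨hne, hmin⟩, -, -⟩ := @Cfsg.Agent.S4172.result G _ _ p _ P hab h.gen hcore h.frat hFn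
      have hMono : Cfsg.Agent.Lib.H73TgDefs.Mono (Cfsg.generalizedFittingSubgroup G) := ⟨hFn, hne, hmin⟩
      have hFp := Cfsg.Agent.Lib.H73TgFP.fitting_isPGroup (G := G) (p := p) hcore
      obtain ⟨N, hNdef⟩ : ∃ N : Subgroup G, N = Cfsg.generalizedFittingSubgroup G := ⟨_, rfl⟩
      rw [← hNdef] at hFn hne hMono
      have hNF := Cfsg.Agent.Lib.H73TgNF.not_le_Phi P h N hFn hne
      obtain ⟨g, hg, hgen⟩ := Cfsg.Agent.Lib.H73TgGenG.exists_gen P h.gen N hFn hNF
      have hcl : ⁅(P : Subgroup G), (P : Subgroup G)⁆ ≤ N :=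
        Cfsg.Agent.Lib.H73TsCommLe.comm_le (P : Subgroup G) N hFn g hgen
      have hcase : ¬ ((P : Subgroup G) ≤ N) ∧ ((N ⊓ (P : Subgroup G)).relIndex (P : Subgroup G) = p →
          ∀ a ∈ N ⊓ (P : Subgroup G), ∀ b ∈ N ⊓ (P : Subgroup G), a * b = b * a) := by
        by_cases hF : Cfsg.fittingSubgroup G = ⊥
        · have hNl : N = Cfsg.layer G := by
            rw [hNdef]
            unfold Cfsg.generalizedFittingSubgroup
            rw [hF, sup_bot_eq]
          rw [hNl]
          exact ⟨Cfsg.Agent.Lib.H73TsNotLe.not_le P h hnas hF,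
            fun h1 => Cfsg.Agent.Lib.H73TsQAb.q_comm P h hnas hF h1 hidx⟩
        · have hE := Cfsg.Agent.Lib.H73TgE0.layer_eq_bot P h N hMono hF hFp
          have hEA := Cfsg.Agent.Lib.H73TgEA.normal_pgroup_elem P h (Cfsg.fittingSubgroup G)
            Cfsg.Agent.Lib.Helper28Fitting.fitting_normal hFp
          have hNf : N = Cfsg.fittingSubgroup G := by
            rw [hNdef]
            unfold Cfsg.generalizedFittingSubgroup
            rw [hE, bot_sup_eq]
          rw [hNf]
          exact ⟨fun hle => hab ⟨⟨fun a b => Subtype.ext (hEA.1 _ (hle a.2) _ (hle b.2))⟩⟩,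
            fun _ a ha b hb => hEA.1 a ha.1 b hb.1⟩
      obtain ⟨hnle, hq⟩ := hcase
      have hI := Cfsg.Agent.Lib.H73TsIdx.idx (p := p) (P : Subgroup G) N hidx hcl (by rw [← hPhi]; exact hNF) hnle
      have hab' := hq hI.1
      obtain ⟨y, hyP, hyN⟩ := SetLike.not_le_iff_exists.1 hnle
      have hyp : ∃ k : ℕ, orderOf y = p ^ k := by
        obtain ⟨k, hk⟩ := (IsPGroup.iff_orderOf.1 P.2) ⟨y, hyP⟩
        exact ⟨k, by rw [← hk, Subgroup.orderOf_mk]⟩
      obtain ⟨c, hc1, hc2⟩ := Cfsg.Agent.Lib.H73TsSylC2.exists_conj P y hyp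
      have hcN : c * y * c⁻¹ ∉ N := by
        intro hh
        apply hyN
        have := hFn.conj_mem _ hh c⁻¹
        simpa [mul_assoc] using this
      have h3 := Cfsg.Agent.Lib.H73TsCenYG.card_inf_centralizer P N hFn hI.1 hab' hidx _ hc1 hcN
      rw [h3] at hc2
      exact ⟨y, hyp, (Nat.pow_right_injective (Fact.out : p.Prime).two_le hc2).symm⟩
  · rintro ⟨x, hx, hc⟩
    exact Cfsg.Agent.Lib.H73TsBack.back P hbig x hx hc

end Cfsg.Agent.S4587
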