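import Cfsg.Statements.S4593
-- import your own Cfsg.Agent.* helpers here
import Cfsg.Agent.S0215
import Cfsg.Agent.Lib.Helper60Core

set_option autoImplicit false
open Cfsg

namespace Cfsg.Agent.S4593

open Subgroup in
theorem sylow_le_of_abelian {X : Type*} [Group X] [Finite X] (Q : Sylow 2 X)
    (hQ : IsMulCommutative (Q : Subgroup X))
    (hO : ∀ M : Subgroup X, M.Normal → Odd (Nat.card M) → M = ⊥)
    (hZ : ∀ z : X, (∀ g : X, z * g = g * z) → z = 1)
    (I : Subgroup X) (hI : ∀ x y : X, x * y * x⁻¹ * y⁻¹ ∈ I) :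
    (Q : Subgroup X) ≤ I := by
  classical
  have : Fact (Nat.Prime 2) := ⟨Nat.prime_two⟩
  let _ : CommGroup (Q : Subgroup X) :=
    { (inferInstance : Group (Q : Subgroup X)) with mul_comm := fun a b => hQ.is_comm.comm a b }
  let φ := (Q : Subgroup X).normalizerMonoidHom
  have hfin : Finite φ.range := inferInstance
  let _ : Fintype φ.range := Fintype.ofFinite _
  -- odd order of the automizer
  have hodd : Nat.Coprime (Nat.card φ.range) 2 := by
    rw [← Subgroup.index_ker, normalizerMonoidHom_ker, ← relIndex]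
    apply Nat.Coprime.coprime_dvd_left (relIndex_dvd_of_le_left _ Q.le_centralizer)
    apply Nat.Coprime.coprime_dvd_left (relIndex_dvd_index_of_le Q.le_normalizer)
    rw [Nat.coprime_comm, Nat.Prime.coprime_iff_not_dvd Nat.prime_two]
    exact Q.not_dvd_index
  intro a ha
  let a' : (Q : Subgroup X) := ⟨a, ha⟩
  let β : (Q : Subgroup X) := ∏ σ : φ.range, (σ : MulAut (Q : Subgroup X)) a'
  have hfix : ∀ τ : φ.range, (τ : MulAut (Q : Subgroup X)) β = β := by
    intro τ
    simp only [β, map_prod]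
    exact Fintype.prod_equiv (Equiv.mulLeft τ) _ _ (fun σ => by simp [MulAut.mul_apply])
  have hfixN : ∀ n ∈ normalizer ((Q : Subgroup X) : Set X), n * (β : X) * n⁻¹ = β := by
    intro n hn
    have := hfix ⟨φ ⟨n, hn⟩, ⟨_, rfl⟩⟩
    exact congrArg Subtype.val this
  -- the quotient of β by a power of a lies in I
  have hβI : (β : X) * (a ^ Nat.card φ.range)⁻¹ ∈ I := by
    have h1 : β / a' ^ Nat.card φ.range ∈ I.subgroupOf (Q : Subgroup X) := by
      have : β / a' ^ Nat.card φ.range = ∏ σ : φ.range, ((σ : MulAut (Q : Subgroup X)) a' / a') := by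
        rw [Finset.prod_div_distrib, Finset.prod_const, Finset.card_univ, Nat.card_eq_fintype_card]
      rw [this]
      refine Subgroup.prod_mem _ (fun σ _ => ?_)
      obtain ⟨⟨n, hn⟩, hσ⟩ := σ.2
      rw [← hσ, Subgroup.mem_subgroupOf]
      have := hI n a
      rw [div_eq_mul_inv]
      exact this
    rw [Subgroup.mem_subgroupOf] at h1
    simpa [div_eq_mul_inv] using h1
  -- β = 1 by the Z*-theorem
  have hβ1 : β = 1 := by
    by_contra hne
    obtain ⟨k, hk⟩ := (IsPGroup.iff_orderOf.mp Q.2) β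
    have hk0 : k ≠ 0 := by
      rintro rfl
      rw [pow_zero, orderOf_eq_one_iff] at hk
      exact hne hk
    obtain ⟨j, rfl⟩ := Nat.exists_eq_succ_of_ne_zero hk0
    let z : X := (β : X) ^ (2 ^ j)
    have hzo : orderOf z = 2 := by
      have h1 : orderOf (β : X) = 2 ^ (j + 1) := by rw [Subgroup.orderOf_coe]; exact hk
      have := orderOf_pow_of_dvd (x := (β : X)) (n := 2 ^ j) (by positivity) (by rw [h1]; exact pow_dvd_pow 2 (Nat.le_succ j))
      rw [this, h1, pow_succ]
      exact Nat.mul_div_cancel_left 2 (by positivity)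
    have hzQ : z ∈ (Q : Subgroup X) := Subgroup.pow_mem _ β.2 _
    have hzN : ∀ n ∈ normalizer ((Q : Subgroup X) : Set X), n * z * n⁻¹ = z := by
      intro n hn
      simp only [z]
      rw [← conj_pow, hfixN n hn]
    obtain ⟨M, hMn, hModd, hM⟩ := Cfsg.Agent.S0215.result Q z hzo hzQ (by
      intro g hg
      obtain ⟨n, hn, hgn⟩ := Q.conj_eq_normalizer_conj_of_mem z g⁻¹ hzQ (by simpa using hg)
      have h3 := hzN n⁻¹ (inv_mem hn)
      rw [inv_inv] at h3 hgn
      rw [hgn, h3])
    have hMbot := hO M hMn hModd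
    have hz1 : z = 1 := by
      apply hZ
      intro g
      have := hM g
      rw [hMbot, Subgroup.mem_bot] at this
      have h4 : z * g * z⁻¹ = g := by
        rwa [mul_inv_eq_one] at this
      rw [mul_inv_eq_iff_eq_mul] at h4
      exact h4
    rw [hz1, orderOf_one] at hzo
    omega
  rw [hβ1] at hβI
  have haI : a ^ Nat.card φ.range ∈ I := by
    have := inv_mem hβI
    simpa using this
  obtain ⟨k, hk⟩ := (IsPGroup.iff_orderOf.mp Q.2) a'
  have hcop : Nat.Coprime (Nat.card φ.range) (orderOf a) := by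
    have : orderOf a = 2 ^ k := by rw [← hk]; exact (Subgroup.orderOf_coe a')
    rw [this]
    exact Nat.Coprime.pow_right _ hodd
  obtain ⟨m, hm⟩ := exists_pow_eq_self_of_coprime hcop
  rw [← hm]
  exact Subgroup.pow_mem _ haI _

theorem conj_conj {G : Type*} [Group G] (β : MulAut G) (g : G) :
    β * MulAut.conj g * β⁻¹ = MulAut.conj (β g) := by
  ext x
  simp [MulAut.mul_apply, MulAut.conj_apply]

theorem main {G : Type*} [Group G] [Finite G] (hZ : Subgroup.center G = ⊥) (hcore : Cfsg.pPrimeCore 2 G = ⊥) (P : Sylow 2 G) (hab : IsMulCommutative (P : Subgroup G))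
    (α : MulAut G) (h2 : ∃ j : ℕ, orderOf α = 2 ^ j) (hfix : ∀ x ∈ (P : Subgroup G), α x = x) :
    ∃ g : G, ∀ x : G, α x = g * x * g⁻¹ := by
  classical
  have : Fact (Nat.Prime 2) := ⟨Nat.prime_two⟩
  obtain ⟨j, hj⟩ := h2
  let c : G →* MulAut G := MulAut.conj
  have hcinj : Function.Injective c := by
    intro a b hab'
    have h1 : b⁻¹ * a ∈ Subgroup.center G := by
      rw [Subgroup.mem_center_iff]
      intro g
      have := DFunLike.congr_fun hab' g
      simp only [c, MulAut.conj_apply] at this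
      calc g * (b⁻¹ * a) = b⁻¹ * (b * g * b⁻¹) * a := by group
        _ = b⁻¹ * (a * g * a⁻¹) * a := by rw [this]
        _ = b⁻¹ * a * g := by group
    rw [hZ, Subgroup.mem_bot] at h1
    exact (inv_mul_eq_one.mp h1).symm
  let I₀ : Subgroup (MulAut G) := c.range
  have hI₀n : I₀.Normal := by
    constructor
    rintro _ ⟨g, rfl⟩ β
    exact ⟨β g, (conj_conj β g).symm⟩
  let X : Subgroup (MulAut G) := I₀ ⊔ Subgroup.zpowers α
  have hXmem : ∀ x ∈ X, ∃ g : G, ∃ k : ℤ, x = c g * α ^ k := by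
    intro x hx
    obtain ⟨y, ⟨g, rfl⟩, z, ⟨k, rfl⟩, rfl⟩ := Subgroup.mem_sup_of_normal_left.mp hx
    exact ⟨g, k, rfl⟩
  have hαX : α ∈ X := (le_sup_right : Subgroup.zpowers α ≤ X) (Subgroup.mem_zpowers α)
  have hcX : ∀ g : G, c g ∈ X := fun g => (le_sup_left : I₀ ≤ X) ⟨g, rfl⟩
  let c' : G →* X := c.codRestrict X hcX
  have hc'inj : Function.Injective c' := by
    intro a b h
    exact hcinj (congrArg Subtype.val h)
  let α' : X := ⟨α, hαX⟩
  let π := QuotientGroup.mk' I₀
  have hπ : ∀ x ∈ X, ∃ k : ℤ, π x = π α ^ k := by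
    intro x hx
    obtain ⟨g, k, rfl⟩ := hXmem x hx
    refine ⟨k, ?_⟩
    have : π (c g) = 1 := (QuotientGroup.eq_one_iff _).mpr ⟨g, rfl⟩
    rw [map_mul, this, one_mul, map_zpow]
  have hpowI : ∀ x ∈ X, x ^ (2 ^ j) ∈ I₀ := by
    intro x hx
    obtain ⟨k, hk⟩ := hπ x hx
    rw [← QuotientGroup.eq_one_iff]
    change π (x ^ 2 ^ j) = 1
    rw [map_pow, hk, ← zpow_natCast, ← zpow_mul, mul_comm, zpow_mul, zpow_natCast, ← map_pow, ← hj, pow_orderOf_eq_one, map_one, one_zpow]
  have hcommI : ∀ x ∈ X, ∀ y ∈ X, x * y * x⁻¹ * y⁻¹ ∈ I₀ := by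
    intro x hx y hy
    obtain ⟨k, hk⟩ := hπ x hx
    obtain ⟨l, hl⟩ := hπ y hy
    rw [← QuotientGroup.eq_one_iff]
    change π (x * y * x⁻¹ * y⁻¹) = 1
    rw [map_mul, map_mul, map_mul, map_inv, map_inv, hk, hl]
    rw [(Commute.zpow_zpow_self (π α) k l).eq]
    group
  -- α commutes with c x for x ∈ P
  have hαc : ∀ x ∈ (P : Subgroup G), α * c x = c x * α := by
    intro x hx
    have := conj_conj α x
    rw [hfix x hx] at this
    exact mul_inv_eq_iff_eq_mul.mp this
  -- the 2-subgroup generated by c P and α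
  have hQ₀ : IsPGroup 2 ((Subgroup.zpowers α ⊔ (P : Subgroup G).map c : Subgroup (MulAut G))) := by
    apply IsPGroup.to_sup_of_normal_right'
    · rw [IsPGroup.iff_orderOf]
      intro x
      obtain ⟨y, hy⟩ := x
      have h1 : orderOf y ∣ 2 ^ j := by
        rw [← hj]
        exact orderOf_dvd_of_mem_zpowers hy
      obtain ⟨k, _, hk⟩ := (Nat.dvd_prime_pow Nat.prime_two).mp h1
      exact ⟨k, by rw [Subgroup.orderOf_mk]; exact hk⟩
    · exact P.2.map c
    · rw [Subgroup.zpowers_le, Subgroup.mem_normalizer_iff]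
      intro h
      constructor
      · rintro ⟨x, hx, rfl⟩
        exact ⟨x, hx, by rw [hαc x hx]; group⟩
      · rintro ⟨x, hx, hxe⟩
        refine ⟨x, hx, ?_⟩
        have : h = α⁻¹ * (c x) * α := by rw [hxe]; group
        rw [this, mul_assoc, ← hαc x hx]; group
  have hQ₀X : (Subgroup.zpowers α ⊔ (P : Subgroup G).map c : Subgroup (MulAut G)) ≤ X := by
    apply sup_le
    · exact le_sup_right
    · rintro _ ⟨x, _, rfl⟩
      exact hcX x
  obtain ⟨Q, hQ⟩ := (hQ₀.comap_subtype (K := X)).exists_le_sylow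
  have hαQ : α' ∈ (Q : Subgroup X) := hQ (by
    rw [Subgroup.mem_comap]
    exact (le_sup_left : Subgroup.zpowers α ≤ _) (Subgroup.mem_zpowers α))
  have hcQ : ∀ x ∈ (P : Subgroup G), c' x ∈ (Q : Subgroup X) := fun x hx => hQ (by
    rw [Subgroup.mem_comap]
    exact (le_sup_right : (P : Subgroup G).map c ≤ _) ⟨x, hx, rfl⟩)
  have hcomap : (Q : Subgroup X).comap c' = P :=
    P.is_maximal' (Q.2.comap_of_injective c' hc'inj) (fun x hx => hcQ x hx)
  have hQform : ∀ q ∈ (Q : Subgroup X), ∃ x ∈ (P : Subgroup G), ∃ k : ℤ, q = c' x * α' ^ k := by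
    intro q hq
    obtain ⟨g, k, hgk⟩ := hXmem q.1 q.2
    have h1 : q = c' g * α' ^ k := Subtype.ext (by simpa [c', α'] using hgk)
    have h2 : c' g ∈ (Q : Subgroup X) := by
      have : c' g = q * (α' ^ k)⁻¹ := by rw [h1]; group
      rw [this]
      exact mul_mem hq (inv_mem (zpow_mem hαQ k))
    have h3 : g ∈ (Q : Subgroup X).comap c' := h2
    rw [hcomap] at h3
    exact ⟨g, h3, k, h1⟩
  have hα'c : ∀ x ∈ (P : Subgroup G), Commute α' (c' x) := fun x hx => Subtype.ext (hαc x hx)
  have hcc : ∀ x ∈ (P : Subgroup G), ∀ y ∈ (P : Subgroup G), Commute (c' x) (c' y) := by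
    intro x hx y hy
    have : x * y = y * x := congrArg Subtype.val (hab.is_comm.comm ⟨x, hx⟩ ⟨y, hy⟩)
    change c' x * c' y = c' y * c' x
    rw [← map_mul, ← map_mul, this]
  have hQcomm : IsMulCommutative (Q : Subgroup X) := by
    refine ⟨⟨fun a b => Subtype.ext ?_⟩⟩
    obtain ⟨x, hx, k, hxk⟩ := hQform a.1 a.2
    obtain ⟨y, hy, l, hyl⟩ := hQform b.1 b.2
    change (a : X) * (b : X) = (b : X) * (a : X)
    rw [hxk, hyl]
    have h1 : Commute (c' x * α' ^ k) (c' y * α' ^ l) := by
      apply Commute.mul_left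
      · apply Commute.mul_right (hcc x hx y hy)
        exact ((hα'c x hx).zpow_left l).symm
      · apply Commute.mul_right
        · exact (hα'c y hy).zpow_left k
        · exact Commute.zpow_zpow_self α' k l
    exact h1.eq
  have hO : ∀ M : Subgroup X, M.Normal → Odd (Nat.card M) → M = ⊥ := by
    intro M hMn hModd
    have h1 : M.comap c' = ⊥ := by
      rw [eq_bot_iff, ← hcore]
      apply Cfsg.Agent.Lib.Helper60Core.le_pPrimeCore (hMn.comap c')
      apply Nat.Coprime.coprime_dvd_left (Subgroup.card_comap_dvd_of_injective M c' hc'inj)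
      exact hModd.coprime_two_right
    rw [eq_bot_iff]
    intro m hm
    rw [Subgroup.mem_bot]
    have h2 : m ^ (2 ^ j) = 1 := by
      obtain ⟨g, hg⟩ := hpowI m.1 m.2
      have h3 : c' g = m ^ (2 ^ j) := Subtype.ext (by simpa [c'] using hg)
      have h4 : g ∈ M.comap c' := by
        rw [Subgroup.mem_comap, h3]
        exact pow_mem hm _
      rw [h1, Subgroup.mem_bot] at h4
      rw [← h3, h4, map_one]
    have h5 : m ^ Nat.card M = 1 := by
      have := pow_card_eq_one' (G := M) (x := ⟨m, hm⟩)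
      simpa only [Subgroup.coe_pow, Subgroup.coe_one, Subtype.ext_iff] using this
    have h6 : orderOf m ∣ Nat.gcd (2 ^ j) (Nat.card M) :=
      Nat.dvd_gcd (orderOf_dvd_of_pow_eq_one h2) (orderOf_dvd_of_pow_eq_one h5)
    have h7 : Nat.gcd (2 ^ j) (Nat.card M) = 1 :=
      Nat.Coprime.pow_left _ hModd.coprime_two_left
    rw [h7, Nat.dvd_one, orderOf_eq_one_iff] at h6
    exact h6
  have hZ' : ∀ z : X, (∀ g : X, z * g = g * z) → z = 1 := by
    intro z hz
    apply Subtype.ext
    change (z : MulAut G) = 1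
    ext g
    have h1 := congrArg Subtype.val (hz (c' g))
    change (z : MulAut G) * c g = c g * (z : MulAut G) at h1
    have h2 := conj_conj (z : MulAut G) g
    rw [h1, mul_inv_cancel_right] at h2
    exact (hcinj h2).symm
  have hfinal := sylow_le_of_abelian Q hQcomm hO hZ' (I₀.subgroupOf X)
    (fun x y => by
      rw [Subgroup.mem_subgroupOf]
      exact hcommI x.1 x.2 y.1 y.2) hαQ
  rw [Subgroup.mem_subgroupOf] at hfinal
  obtain ⟨g, hg⟩ := hfinal
  refine ⟨g, fun x => ?_⟩
  have : α = c g := hg.symm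
  rw [this]
  rfl


/-- Let G be a finite group with trivial centre and no nontrivial normal subgroup of odd order, whose Sylow 2-subgroups are abelian, and let P be a Sylow 2-subgroup. Every automorphism of G of 2-power order that fixes P elementwise is inner. -/
theorem result {G : Type*} [Group G] [Finite G] (hZ : Subgroup.center G = ⊥) (hcore : Cfsg.pPrimeCore 2 G = ⊥) (P : Sylow 2 G) (hab : IsMulCommutative (P : Subgroup G))
    (α : MulAut G) (h2 : ∃ j : ℕ, orderOf α = 2 ^ j) (hfix : ∀ x ∈ (P : Subgroup G), α x = x) :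
    ∃ g : G, ∀ x : G, α x = g * x * g⁻¹ := by
  exact main hZ hcore P hab α h2 hfix

end Cfsg.Agent.S4593
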