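import Cfsg.Statements.S4798
import Cfsg.Agent.S0146
import Cfsg.Agent.S0148
import Cfsg.Agent.Lib.Helper82Cod
import Cfsg.Agent.Lib.Helper82Mult
-- import your own Cfsg.Agent.* helpers here

set_option autoImplicit false
open Cfsg

namespace Cfsg.Agent.S4798

open Cfsg.Agent.Lib.Helper82Schur Cfsg.Agent.Lib.Helper82Irr
  Cfsg.Agent.Lib.Helper82Quot Cfsg.Agent.Lib.Helper82Linear Cfsg.Agent.Lib.Helper82Cod
  Cfsg.Agent.Lib.Helper82Mult

theorem forward {G : Type*} [Group G] [Fintype G] (p : ℕ) [Fact p.Prime]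
    (χ : Cfsg.IrrCharacter G) (k : ℕ)
    (hk : Nat.card G = p ^ k * Cfsg.charDegree (χ : G → ℂ)) (P : Sylow p G) :
    ∃ θ : Cfsg.IrrCharacter ↥(P : Subgroup G),
      (χ : G → ℂ) = Cfsg.indFun (P : Subgroup G) (θ : ↥(P : Subgroup G) → ℂ) := by
  classical
  have hp : p.Prime := Fact.out
  have := Fintype.ofFinite ↥(P : Subgroup G)
  set φ : ↥(P : Subgroup G) → ℂ := fun h => (χ : G → ℂ) h with hφdef
  have hφ : Cfsg.IsCharacter ↥(P : Subgroup G) φ :=
    isCharacter_restrict (irr_isCharacter χ) (P : Subgroup G)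
  obtain ⟨e, he, hsum⟩ := exists_mult hφ
  have hd := degree_eq_sum_mult hφ e hsum
  have hdφ : Cfsg.charDegree φ = Cfsg.charDegree (χ : G → ℂ) := rfl
  rw [hdφ] at hd
  set a := (Nat.card G).factorization p with ha
  have hPcard : Nat.card ↥(P : Subgroup G) = p ^ a := P.card_eq_multiplicity
  have hidx : (P : Subgroup G).index * p ^ a = Nat.card G := by
    rw [← hPcard, mul_comm]; exact (P : Subgroup G).card_mul_index
  have hex : ∃ θ : Cfsg.IrrCharacter ↥(P : Subgroup G), e θ ≠ 0 ∧
      (P : Subgroup G).index * Cfsg.charDegree (θ : ↥(P : Subgroup G) → ℂ) ≤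
        Cfsg.charDegree (χ : G → ℂ) := by
    by_contra hcon
    push Not at hcon
    have hdvd : p ^ (a + 1) ∣ Nat.card G := by
      rw [hk, hd, Finset.mul_sum]
      refine Finset.dvd_sum fun θ _ => ?_
      by_cases h0 : e θ = 0
      · rw [h0]; simp
      have h1 := hcon θ h0
      have h2 : Cfsg.charDegree (θ : ↥(P : Subgroup G) → ℂ) ∣ p ^ a := by
        rw [← hPcard]; exact irr_degree_dvd_card θ
      obtain ⟨j, -, hj⟩ := (Nat.dvd_prime_pow hp).mp h2
      rw [hj] at h1 ⊢
      have h3 : a + 1 ≤ k + j := by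
        by_contra h4
        push Not at h4
        have h5 : k + j ≤ a := by omega
        have h6 : (P : Subgroup G).index * p ^ (k + j) ≤ (P : Subgroup G).index * p ^ a :=
          Nat.mul_le_mul_left _ (Nat.pow_le_pow_right hp.pos h5)
        rw [hidx, hk, pow_add] at h6
        have h7 : p ^ k * ((P : Subgroup G).index * p ^ j) ≤
            p ^ k * Cfsg.charDegree (χ : G → ℂ) := by
          calc p ^ k * ((P : Subgroup G).index * p ^ j)
              = (P : Subgroup G).index * (p ^ k * p ^ j) := by ring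
            _ ≤ _ := h6
        have h8 := Nat.le_of_mul_le_mul_left h7 (pow_pos hp.pos k)
        omega
      have : p ^ k * (e θ * p ^ j) = e θ * p ^ (k + j) := by rw [pow_add]; ring
      rw [this]
      exact Dvd.dvd.mul_left (pow_dvd_pow p h3) _
    exact Nat.pow_succ_factorization_not_dvd Nat.card_pos.ne' hp hdvd
  obtain ⟨θ, hθ0, hθdeg⟩ := hex
  refine ⟨θ, ?_⟩
  have hind : Cfsg.IsCharacter G (Cfsg.indFun (P : Subgroup G) (θ : ↥(P : Subgroup G) → ℂ)) :=
    Cfsg.Agent.S0148.result _ _ (irr_isCharacter θ)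
  symm
  apply eq_of_degree_le hind χ
  · rw [Cfsg.Agent.S0146.result (P : Subgroup G) _ _
      (Cfsg.Agent.Lib.Helper4Char.IsCharacter.isClassFunction (irr_isCharacter χ))]
    rw [classInner_comm_of_nat (irr_isCharacter θ) hφ, he θ]
    exact_mod_cast hθ0
  · have h1 : ((Cfsg.charDegree (Cfsg.indFun (P : Subgroup G)
        (θ : ↥(P : Subgroup G) → ℂ)) : ℕ) : ℂ) =
        (((P : Subgroup G).index * Cfsg.charDegree (θ : ↥(P : Subgroup G) → ℂ) : ℕ) : ℂ) := by
      rw [charDegree_cast hind, indFun_one]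
      push_cast
      rw [irr_charDegree_cast]
    rw [Nat.cast_inj.mp h1]
    exact hθdeg

/-- Let p be a prime and χ a faithful irreducible complex character of the finite group G (χ(g) = χ(1) only for g = 1), so that its codegree is #G / χ(1). Then #G / χ(1) is a power of p if and only if χ is induced from a character of a Sylow p-subgroup of G. -/
theorem result {G : Type*} [Group G] [Fintype G] (p : ℕ) [Fact p.Prime] (χ : Cfsg.IrrCharacter G) (hfaith : ∀ g : G, (χ : G → ℂ) g = (χ : G → ℂ) 1 → g = 1) : (∃ k : ℕ, Nat.card G = p ^ k * Cfsg.charDegree (χ : G → ℂ)) ↔ ∃ (P : Sylow p G) (θ : ↥(P : Subgroup G) → ℂ), Cfsg.IsCharacter ↥(P : Subgroup G) θ ∧ (χ : G → ℂ) = Cfsg.indFun (P : Subgroup G) θ := by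
  have hp : p.Prime := Fact.out
  constructor
  · rintro ⟨k, hk⟩
    obtain ⟨P⟩ : Nonempty (Sylow p G) := inferInstance
    obtain ⟨θ, hθ⟩ := forward p χ k hk P
    exact ⟨P, θ, irr_isCharacter θ, hθ⟩
  · rintro ⟨P, θ, hθ, hχ⟩
    set a := (Nat.card G).factorization p with ha
    have hPcard : Nat.card ↥(P : Subgroup G) = p ^ a := P.card_eq_multiplicity
    have hidx : (P : Subgroup G).index * p ^ a = Nat.card G := by
      rw [← hPcard, mul_comm]; exact (P : Subgroup G).card_mul_index
    have h1 : ((Cfsg.charDegree (χ : G → ℂ) : ℕ) : ℂ) =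
        (((P : Subgroup G).index * Cfsg.charDegree θ : ℕ) : ℂ) := by
      rw [irr_charDegree_cast, hχ, indFun_one]
      push_cast
      rw [charDegree_cast hθ]
    have h2 : Cfsg.charDegree (χ : G → ℂ) = (P : Subgroup G).index * Cfsg.charDegree θ :=
      Nat.cast_inj.mp h1
    have h3 := irr_degree_dvd_card χ
    rw [h2, ← hidx] at h3
    have hipos : 0 < (P : Subgroup G).index := Nat.pos_of_ne_zero (Subgroup.index_ne_zero_of_finite)
    have h4 : Cfsg.charDegree θ ∣ p ^ a := Nat.dvd_of_mul_dvd_mul_left hipos h3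
    obtain ⟨j, hj, hj'⟩ := (Nat.dvd_prime_pow hp).mp h4
    refine ⟨a - j, ?_⟩
    rw [h2, hj', ← hidx]
    have : p ^ a = p ^ (a - j) * p ^ j := by rw [← pow_add]; congr 1; omega
    rw [this]; ring

end Cfsg.Agent.S4798
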