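import Cfsg.Statements.S4796
import Cfsg.Agent.S4798
import Cfsg.Agent.Lib.Helper82Frob
-- import your own Cfsg.Agent.* helpers here

set_option autoImplicit false
open Cfsg

namespace Cfsg.Agent.S4796

open Cfsg.Agent.Lib.Helper82Schur Cfsg.Agent.Lib.Helper82Irr
  Cfsg.Agent.Lib.Helper82Quot Cfsg.Agent.Lib.Helper82Linear Cfsg.Agent.Lib.Helper82Cod
  Cfsg.Agent.Lib.Helper82Mult Cfsg.Agent.Lib.Helper82Frob

theorem degree_lt {G : Type*} [Group G] [Finite G] (χ : Cfsg.IrrCharacter G) (p : ℕ)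
    (hp : p.Prime) (hcod : Nat.card G = p * Cfsg.charDegree (χ : G → ℂ)) :
    Cfsg.charDegree (χ : G → ℂ) < p := by
  classical
  have h1 : Cfsg.charDegree ((irrOne G : Cfsg.IrrCharacter G) : G → ℂ) = 1 := by
    simp [Cfsg.charDegree, irrOne]
  by_cases hχ : χ = irrOne G
  · rw [hχ, h1]; exact hp.one_lt
  have hs := sum_degree_sq (G := G)
  have h2 : ∑ ψ ∈ ({irrOne G, χ} : Finset (Cfsg.IrrCharacter G)),
      Cfsg.charDegree (ψ : G → ℂ) ^ 2 ≤ ∑ ψ : Cfsg.IrrCharacter G,
      Cfsg.charDegree (ψ : G → ℂ) ^ 2 :=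
    Finset.sum_le_sum_of_subset (Finset.subset_univ _)
  rw [Finset.sum_pair (Ne.symm hχ), h1, hs, hcod] at h2
  have hpos := irr_charDegree_pos χ
  by_contra hge
  push Not at hge
  have : p * Cfsg.charDegree (χ : G → ℂ) ≤ Cfsg.charDegree (χ : G → ℂ) ^ 2 := by
    rw [sq]; exact Nat.mul_le_mul_right _ hge
  omega

/-- a normal subgroup on whose non-identity elements a faithful irreducible character vanishes
is trivial. -/
theorem eq_bot_of_vanish {G : Type*} [Group G] [Finite G] (χ : Cfsg.IrrCharacter G)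
    (hfaith : ∀ g : G, (χ : G → ℂ) g = (χ : G → ℂ) 1 → g = 1) (K : Subgroup G) [K.Normal]
    (hK : ∀ k ∈ K, k ≠ 1 → (χ : G → ℂ) k = 0) : K = ⊥ := by
  classical
  have := Fintype.ofFinite K
  rcases irr_sum_normal_eq_zero_or χ K with h | h
  · rw [eq_bot_iff]
    intro k hk
    exact hfaith k (h k hk)
  · exfalso
    have h1 := h 1
    rw [Finset.sum_eq_single (1 : K)] at h1
    · simp only [Subgroup.coe_one, mul_one] at h1
      exact irr_one_ne_zero χ h1
    · intro b _ hb
      rw [one_mul]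
      exact hK b b.2 (fun h3 => hb (Subtype.ext h3))
    · intro h2; exact absurd (Finset.mem_univ _) h2

theorem structure_lemma {G : Type*} [Group G] [Finite G] (χ : Cfsg.IrrCharacter G)
    (hfaith : ∀ g : G, (χ : G → ℂ) g = (χ : G → ℂ) 1 → g = 1) (p : ℕ) (hp : p.Prime)
    (hcod : Nat.card G = p * Cfsg.charDegree (χ : G → ℂ))
    (hd1 : Cfsg.charDegree (χ : G → ℂ) ≠ 1) :
    ∃ P H : Subgroup G, P.Normal ∧ Nat.card P = p ∧ P.IsComplement' H ∧ H ≠ ⊥ ∧
      ∀ h ∈ H, (∀ x ∈ P, h * x = x * h) → h = 1 := by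
  classical
  have : Fact p.Prime := ⟨hp⟩
  have := Fintype.ofFinite G
  set d := Cfsg.charDegree (χ : G → ℂ) with hd
  have hdpos : 0 < d := irr_charDegree_pos χ
  have hdlt : d < p := degree_lt χ p hp hcod
  obtain ⟨P⟩ : Nonempty (Sylow p G) := inferInstance
  have hpd : ¬ p ∣ d := Nat.not_dvd_of_pos_of_lt hdpos hdlt
  have hfac : (Nat.card G).factorization p = 1 := by
    rw [hcod, Nat.factorization_mul hp.ne_zero hdpos.ne', Finsupp.add_apply,
      Nat.factorization_eq_zero_of_not_dvd hpd, hp.factorization_self]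
  have hPcard : Nat.card ↥(P : Subgroup G) = p := by
    rw [P.card_eq_multiplicity, hfac, pow_one]
  have hidx : (P : Subgroup G).index = d := by
    have h1 := (P : Subgroup G).card_mul_index
    rw [hPcard, hcod] at h1
    exact Nat.eq_of_mul_eq_mul_left hp.pos h1
  have hn1 : Nat.card (Sylow p G) = 1 := by
    have h1 := card_sylow_modEq_one p G
    have h2 := P.card_dvd_index
    rw [hidx] at h2
    have h3 : Nat.card (Sylow p G) ≤ d := Nat.le_of_dvd hdpos h2
    have h4 : Nat.card (Sylow p G) < p := lt_of_le_of_lt h3 hdlt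
    unfold Nat.ModEq at h1
    rw [Nat.mod_eq_of_lt h4, Nat.mod_eq_of_lt hp.one_lt] at h1
    exact h1
  have hsub : Subsingleton (Sylow p G) := (Nat.card_eq_one_iff_unique.mp hn1).1
  have hPn : (P : Subgroup G).Normal := P.normal_of_subsingleton
  have hcop : Nat.Coprime (Nat.card ↥(P : Subgroup G)) (P : Subgroup G).index := by
    rw [hPcard, hidx]
    exact (Nat.Prime.coprime_iff_not_dvd hp).mpr hpd
  obtain ⟨H, hH⟩ := Subgroup.exists_right_complement'_of_coprime hcop
  have hHcard : Nat.card H = d := by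
    have h1 := hH.card_mul_card
    rw [hPcard, hcod] at h1
    exact Nat.eq_of_mul_eq_mul_left hp.pos h1
  have hHbot : H ≠ ⊥ := by
    rintro rfl
    rw [Subgroup.card_bot] at hHcard
    exact hd1 hHcard.symm
  obtain ⟨θ, hθ⟩ := Cfsg.Agent.S4798.forward p χ 1 (by rw [pow_one]; exact hcod) P
  have hvan : ∀ g : G, g ∉ (P : Subgroup G) → (χ : G → ℂ) g = 0 := by
    intro g hg
    rw [hθ, Cfsg.Agent.Lib.Helper19Ind.indFun_apply]
    rw [Finset.sum_eq_zero, mul_zero]
    intro x _
    apply Cfsg.Agent.Lib.Helper19Ind.extendByZero_of_not_mem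
    intro hx
    apply hg
    have := hPn.conj_mem _ hx x
    simpa [mul_assoc] using this
  have hdisj : ∀ x, x ∈ (P : Subgroup G) → x ∈ H → x = 1 := by
    intro x hxP hxH
    have : x ∈ (P : Subgroup G) ⊓ H := ⟨hxP, hxH⟩
    rw [hH.disjoint.eq_bot] at this
    exact this
  have hdec : ∀ g : G, ∃ x ∈ (P : Subgroup G), ∃ h ∈ H, g = x * h := by
    intro g
    obtain ⟨⟨x, h⟩, hxh, -⟩ := (Subgroup.isComplement_iff_existsUnique.mp hH) g
    exact ⟨x.1, x.2, h.1, h.2, hxh.symm⟩
  set K : Subgroup G := H ⊓ Subgroup.centralizer ((P : Subgroup G) : Set G) with hKdef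
  have hKn : K.Normal := by
    constructor
    intro k hk g
    obtain ⟨hk1, hk2⟩ := Subgroup.mem_inf.mp hk
    obtain ⟨x, hx, h, hh, rfl⟩ := hdec g
    have h1 : h * k * h⁻¹ ∈ H := H.mul_mem (H.mul_mem hh hk1) (H.inv_mem hh)
    have h2 : h * k * h⁻¹ ∈ Subgroup.centralizer ((P : Subgroup G) : Set G) :=
      (Subgroup.normal_centralizer (H := (P : Subgroup G))).conj_mem k hk2 h
    have h3 : x * (h * k * h⁻¹) = (h * k * h⁻¹) * x :=
      (Subgroup.mem_centralizer_iff.mp h2 x hx)
    have h4 : x * h * k * (x * h)⁻¹ = h * k * h⁻¹ := by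
      calc x * h * k * (x * h)⁻¹ = x * (h * k * h⁻¹) * x⁻¹ := by group
        _ = (h * k * h⁻¹) * x * x⁻¹ := by rw [h3]
        _ = h * k * h⁻¹ := by group
    rw [h4]
    exact Subgroup.mem_inf.mpr ⟨h1, h2⟩
  have hKbot : K = ⊥ := by
    apply eq_bot_of_vanish χ hfaith K
    intro k hk hk1
    apply hvan
    intro hkP
    exact hk1 (hdisj k hkP (Subgroup.mem_inf.mp hk).1)
  refine ⟨P, H, hPn, hPcard, hH, hHbot, ?_⟩
  intro h hh hcomm
  have : h ∈ K := by
    refine Subgroup.mem_inf.mpr ⟨hh, ?_⟩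
    rw [Subgroup.mem_centralizer_iff]
    intro x hx
    exact (hcomm x hx).symm
  rw [hKbot] at this
  exact this


/-- Let G be a finite group with a faithful irreducible complex character χ whose codegree #G / χ(1) is a prime p (for a faithful character the kernel is trivial, so the codegree is #G / χ(1)). Then either G is cyclic of order p, or G is a Frobenius group whose Frobenius kernel has order p: some proper non-trivial subgroup H satisfies H ∩ gHg⁻¹ = 1 for every element g outside H, and the set of elements lying in no conjugate of H, together with the identity, has exactly p elements. -/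
theorem result {G : Type*} [Group G] [Finite G] (χ : Cfsg.IrrCharacter G) (hfaith : ∀ g : G, (χ : G → ℂ) g = (χ : G → ℂ) 1 → g = 1) (p : ℕ) (hp : p.Prime) (hcod : Nat.card G = p * Cfsg.charDegree (χ : G → ℂ)) : (IsCyclic G ∧ Nat.card G = p) ∨ ∃ H : Subgroup G, Cfsg.IsFrobeniusComplement H ∧ Nat.card ↥(Cfsg.frobeniusKernel H) = p := by
  have : Fact p.Prime := ⟨hp⟩
  by_cases hd1 : Cfsg.charDegree (χ : G → ℂ) = 1
  · left
    rw [hd1, mul_one] at hcod
    exact ⟨isCyclic_of_prime_card hcod, hcod⟩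
  right
  obtain ⟨P, H, hPn, hPcard, hH, hHbot, hC⟩ := structure_lemma χ hfaith p hp hcod hd1
  exact ⟨H, frobenius_of_prime_kernel hPcard hH hHbot hC⟩

end Cfsg.Agent.S4796
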