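import Cfsg.Statements.S4797
import Cfsg.Agent.S4796
-- import your own Cfsg.Agent.* helpers here

set_option autoImplicit false
open Cfsg

namespace Cfsg.Agent.S4797

open Cfsg.Agent.Lib.Helper82Schur Cfsg.Agent.Lib.Helper82Irr
  Cfsg.Agent.Lib.Helper82Quot Cfsg.Agent.Lib.Helper82Linear Cfsg.Agent.Lib.Helper82Cod
  Cfsg.Agent.Lib.Helper82Mult Cfsg.Agent.Lib.Helper82Frob

theorem commutator_le_centralizer_of_isCyclic {Q : Type*} [Group Q] (Z : Subgroup Q) [Z.Normal]
    (hZ : IsCyclic Z) : commutator Q ≤ Subgroup.centralizer (Z : Set Q) := by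
  let _ := (hZ.mulAutMulEquiv _).toMonoidHom.commGroupOfInjective (hZ.mulAutMulEquiv _).injective
  have h := Abelianization.commutator_subset_ker Z.normalizerMonoidHom
  rw [Subgroup.normalizerMonoidHom_ker, Subgroup.normalizer_eq_top,
      ← Subgroup.map_subtype_le_map_subtype, Subgroup.map_subtype_commutator,
        Subgroup.map_subgroupOf_eq_of_le le_top] at h
  simpa [commutator_def] using h

/-- a non-perfect finite group has a homomorphism to `ℂˣ` whose kernel has prime index. -/
theorem exists_hom_prime_index {G : Type*} [Group G] [Finite G] (h : commutator G ≠ ⊤) :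
    ∃ (f : G →* ℂˣ) (p : ℕ), p.Prime ∧ f.ker.index = p := by
  have hA : Nat.card (Abelianization G) ≠ 1 := by
    intro h1
    apply h
    rw [← Subgroup.index_eq_one, Subgroup.index_eq_card]
    exact h1
  set p := (Nat.card (Abelianization G)).minFac with hp
  have hpp : p.Prime := Nat.minFac_prime hA
  have : Fact p.Prime := ⟨hpp⟩
  have hcard : Nat.card (Abelianization G →* ℂˣ) = Nat.card (Abelianization G) :=
    CommGroup.card_monoidHom_of_hasEnoughRootsOfUnity (Abelianization G) ℂ
  have hfin : Finite (Abelianization G →* ℂˣ) := by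
    apply Nat.finite_of_card_ne_zero
    rw [hcard]
    exact Nat.card_pos.ne'
  obtain ⟨φ, hφ⟩ := exists_prime_orderOf_dvd_card' (G := Abelianization G →* ℂˣ) p
    (by rw [hcard]; exact Nat.minFac_dvd _)
  refine ⟨φ.comp Abelianization.of, p, hpp, ?_⟩
  rw [Subgroup.index_ker]
  have hle : (φ.comp Abelianization.of).range ≤ rootsOfUnity p ℂ := by
    rintro _ ⟨g, rfl⟩
    rw [mem_rootsOfUnity]
    have h1 : φ ^ p = 1 := by rw [← hφ]; exact pow_orderOf_eq_one φ
    have h2 := congrArg (fun ψ : Abelianization G →* ℂˣ => ψ (Abelianization.of g)) h1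
    simpa using h2
  have hdvd := Subgroup.card_dvd_of_le hle
  have : NeZero p := ⟨hpp.ne_zero⟩
  have hroots : Nat.card (rootsOfUnity p ℂ) = p := Complex.card_rootsOfUnity p
  rw [hroots] at hdvd
  rcases (Nat.dvd_prime hpp).mp hdvd with h1 | h1
  · exfalso
    rw [Subgroup.card_eq_one] at h1
    have h2 : φ = 1 := by
      apply Abelianization.hom_ext
      ext g
      have : (φ.comp Abelianization.of) g ∈ (φ.comp Abelianization.of).range := ⟨g, rfl⟩
      rw [h1, Subgroup.mem_bot] at this
      simpa using congrArg Units.val this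
    rw [h2, orderOf_one] at hφ
    exact hpp.one_lt.ne hφ
  · exact h1

/-- The codegree of an irreducible complex character χ of a finite group G is [G : ker χ] / χ(1), where ker χ is the set of elements at which χ takes the value χ(1). A non-trivial finite group is perfect if and only if no irreducible complex character of it has prime codegree. -/
theorem result {G : Type*} [Group G] [Finite G] [Nontrivial G] : commutator G = ⊤ ↔ ∀ χ : Cfsg.IrrCharacter G, ¬ ((Nat.card G / (Nat.card {g : G // (χ : G → ℂ) g = (χ : G → ℂ) 1} * Cfsg.charDegree (χ : G → ℂ)))).Prime := by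
  constructor
  · intro hperf χ hprime
    change (cod χ).Prime at hprime
    set p := cod χ with hp
    obtain ⟨ψ, hψ⟩ := exists_deflate (irrKer χ) χ (fun n hn => hn)
    have hval : ∀ x : G, (χ : G → ℂ) x = (ψ : G ⧸ irrKer χ → ℂ) (x : G ⧸ irrKer χ) := by
      intro x
      have := congrFun (congrArg Subtype.val hψ) x
      rw [← this, inflate_apply]
    have hdeg : Cfsg.charDegree (ψ : G ⧸ irrKer χ → ℂ) = Cfsg.charDegree (χ : G → ℂ) := by
      unfold Cfsg.charDegree
      rw [hval 1]
      rfl
    have hfaith : ∀ y : G ⧸ irrKer χ, (ψ : G ⧸ irrKer χ → ℂ) y = (ψ : G ⧸ irrKer χ → ℂ) 1 →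
        y = 1 := by
      intro y hy
      obtain ⟨g, rfl⟩ := QuotientGroup.mk_surjective y
      rw [QuotientGroup.eq_one_iff]
      change (χ : G → ℂ) g = (χ : G → ℂ) 1
      rw [hval g, hval 1]
      exact hy
    have hcod : Nat.card (G ⧸ irrKer χ) = p * Cfsg.charDegree (ψ : G ⧸ irrKer χ → ℂ) := by
      rw [hdeg, hp, cod_mul_degree, Subgroup.index_eq_card]
    have hperf' : commutator (G ⧸ irrKer χ) = ⊤ := by
      have h1 : (commutator G).map (QuotientGroup.mk' (irrKer χ)) = commutator (G ⧸ irrKer χ) := by
        rw [commutator_def, commutator_def, Subgroup.map_commutator,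
          ← MonoidHom.range_eq_map, MonoidHom.range_eq_top.mpr (QuotientGroup.mk'_surjective _)]
      rw [← h1, hperf, ← MonoidHom.range_eq_map,
        MonoidHom.range_eq_top.mpr (QuotientGroup.mk'_surjective _)]
    by_cases hd1 : Cfsg.charDegree (ψ : G ⧸ irrKer χ → ℂ) = 1
    · rw [hd1, mul_one] at hcod
      have : Fact p.Prime := ⟨hprime⟩
      have hcyc : IsCyclic (G ⧸ irrKer χ) := isCyclic_of_prime_card hcod
      have hcomm : commutator (G ⧸ irrKer χ) = ⊥ := by
        rw [commutator_eq_bot_iff_center_eq_top]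
        rw [eq_top_iff]
        intro x _
        rw [Subgroup.mem_center_iff]
        intro y
        have := hcyc.isMulCommutative
        exact mul_comm' y x
      rw [hcomm] at hperf'
      have h2 : Nat.card (G ⧸ irrKer χ) = 1 := by
        rw [← Subgroup.card_top, ← hperf', Subgroup.card_bot]
      rw [h2] at hcod
      exact hprime.one_lt.ne hcod
    · obtain ⟨P, H, hPn, hPcard, hH, hHbot, hC⟩ :=
        Cfsg.Agent.S4796.structure_lemma ψ hfaith p hprime hcod hd1
      have : Fact p.Prime := ⟨hprime⟩
      have hcyc : IsCyclic P := isCyclic_of_prime_card hPcard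
      have hle := commutator_le_centralizer_of_isCyclic P hcyc
      rw [hperf'] at hle
      apply hHbot
      rw [eq_bot_iff]
      intro h hh
      apply hC h hh
      intro x hx
      have : h ∈ Subgroup.centralizer (P : Set (G ⧸ irrKer χ)) := hle (Subgroup.mem_top h)
      exact (Subgroup.mem_centralizer_iff.mp this x hx).symm
  · intro hall
    by_contra hne
    obtain ⟨f, p, hp, hidx⟩ := exists_hom_prime_index hne
    apply hall ⟨fun g => ((f g : ℂˣ) : ℂ), isIrrCharacter_of_hom f⟩
    have hdeg : Cfsg.charDegree (fun g => ((f g : ℂˣ) : ℂ)) = 1 := by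
      simp [Cfsg.charDegree]
    have hker : Nat.card {g : G // ((f g : ℂˣ) : ℂ) = ((f 1 : ℂˣ) : ℂ)} = Nat.card f.ker := by
      apply Nat.card_congr
      refine Equiv.subtypeEquivRight fun g => ?_
      rw [MonoidHom.mem_ker, map_one, Units.val_one, Units.val_eq_one]
    simp only [hdeg, mul_one]
    rw [hker, ← f.ker.card_mul_index, Nat.mul_div_cancel_left _ Nat.card_pos, hidx]
    exact hp

end Cfsg.Agent.S4797
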