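import Cfsg.Statements.S4757
import Cfsg.Agent.S0145
import Cfsg.Agent.S4797
import Cfsg.Agent.Lib.Helper60Core
import Cfsg.Agent.Lib.Helper6Inv
-- import your own Cfsg.Agent.* helpers here

set_option autoImplicit false
open Cfsg

namespace Cfsg.Agent.S4757

open Cfsg.Agent.Lib.Helper82Schur Cfsg.Agent.Lib.Helper82Irr
  Cfsg.Agent.Lib.Helper82Quot Cfsg.Agent.Lib.Helper82Linear Cfsg.Agent.Lib.Helper82Cod

variable {G : Type*} [Group G] [Finite G]

/-- the irreducible character attached to a homomorphism -/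
noncomputable def irrOfHom (f : G →* ℂˣ) : Cfsg.IrrCharacter G :=
  ⟨fun g => ((f g : ℂˣ) : ℂ), isIrrCharacter_of_hom f⟩

omit [Finite G] in
theorem irrOfHom_apply (f : G →* ℂˣ) (g : G) : (irrOfHom f : G → ℂ) g = ((f g : ℂˣ) : ℂ) := rfl

omit [Finite G] in
theorem irrOfHom_ne_one {f : G →* ℂˣ} (hf : f ≠ 1) :
    (irrOfHom f : G → ℂ) ≠ (fun _ => (1 : ℂ)) := by
  intro h
  apply hf
  ext g
  have := congrFun h g
  simpa [irrOfHom_apply] using this

omit [Finite G] in
theorem irrOfHom_homOfLinear (χ : Cfsg.IrrCharacter G) (h1 : (χ : G → ℂ) 1 = 1) :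
    irrOfHom (homOfLinear χ h1) = χ := by
  ext g
  rfl

theorem sum_col (u : G) (hu : u ≠ 1) [Fintype (Cfsg.IrrCharacter G)] :
    ∑ χ : Cfsg.IrrCharacter G, (χ : G → ℂ) u * (χ : G → ℂ) 1 = 0 := by
  have hnc : ¬ IsConj u 1 := by rw [isConj_one_left]; exact hu
  have hsum := (Cfsg.Agent.S0145.result u 1).2 hnc
  rw [finsum_eq_sum_of_fintype] at hsum
  simpa only [irr_conj_one] using hsum

/-- if all non-principal terms are nonnegative the column sum cannot vanish -/
theorem false_of_nonneg (u : G) (hu : u ≠ 1)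
    (h : ∀ χ : Cfsg.IrrCharacter G, χ ≠ irrOne G → 0 ≤ ((χ : G → ℂ) u * (χ : G → ℂ) 1).re) :
    False := by
  classical
  have hfin : Finite (Cfsg.IrrCharacter G) := finite_irr
  have := Fintype.ofFinite (Cfsg.IrrCharacter G)
  have hs := congrArg Complex.re (sum_col u hu)
  rw [Complex.re_sum, Complex.zero_re,
    ← Finset.add_sum_erase _ _ (Finset.mem_univ (irrOne G))] at hs
  have h1 : (((irrOne G : Cfsg.IrrCharacter G) : G → ℂ) u *
      ((irrOne G : Cfsg.IrrCharacter G) : G → ℂ) 1).re = 1 := by simp [irrOne]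
  have h2 : 0 ≤ ∑ χ ∈ Finset.univ.erase (irrOne G), ((χ : G → ℂ) u * (χ : G → ℂ) 1).re :=
    Finset.sum_nonneg fun χ hχ => h χ (Finset.ne_of_mem_erase hχ)
  linarith

omit [Finite G] in
theorem ne_irrOne_iff (χ : Cfsg.IrrCharacter G) :
    χ ≠ irrOne G ↔ (χ : G → ℂ) ≠ (fun _ => (1 : ℂ)) := by
  constructor
  · intro h h'
    exact h (Subtype.ext h')
  · intro h h'
    exact h (congrArg Subtype.val h')

section Main

variable (u : G) (hu : u ≠ 1) (c : ℂ)
  (hyp : ∀ χ : Cfsg.IrrCharacter G, (χ : G → ℂ) ≠ (fun _ => (1 : ℂ)) →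
    ((χ : G → ℂ) 1 - (χ : G → ℂ) u = c ∨ (χ : G → ℂ) u = 0))

include hu hyp

theorem c_ne_zero : c ≠ 0 := by
  rintro rfl
  apply false_of_nonneg u hu
  intro χ hχ
  rcases hyp χ ((ne_irrOne_iff χ).mp hχ) with h | h
  · have : (χ : G → ℂ) u = (χ : G → ℂ) 1 := (sub_eq_zero.mp h).symm
    rw [this, ← irr_charDegree_cast]
    norm_cast
    positivity
  · rw [h]; simp

omit [Finite G] hu in
theorem hom_apply_u {f : G →* ℂˣ} (hf : f ≠ 1) : ((f u : ℂˣ) : ℂ) = 1 - c := by
  rcases hyp (irrOfHom f) (irrOfHom_ne_one hf) with h | h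
  · simp only [irrOfHom_apply, map_one, Units.val_one] at h
    linear_combination -h
  · simp only [irrOfHom_apply] at h
    exact absurd h (Units.ne_zero _)

theorem hom_sq {f : G →* ℂˣ} (hf : f ≠ 1) : f * f = 1 := by
  by_contra h2
  have h3 := hom_apply_u u c hyp h2
  have h4 := hom_apply_u u c hyp hf
  simp only [MonoidHom.mul_apply, Units.val_mul] at h3
  rw [h4] at h3
  have h5 : (1 - c) * c = 0 := by linear_combination -h3
  rcases mul_eq_zero.mp h5 with h6 | h6
  · rw [h6] at h4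
    exact Units.ne_zero _ h4
  · exact c_ne_zero u hu c hyp h6

theorem c_eq_two {f : G →* ℂˣ} (hf : f ≠ 1) : c = 2 := by
  have h2 := hom_sq u hu c hyp hf
  have h4 := hom_apply_u u c hyp hf
  have h3 : ((f u : ℂˣ) : ℂ) * ((f u : ℂˣ) : ℂ) = 1 := by
    have := congrArg (fun g : G →* ℂˣ => ((g u : ℂˣ) : ℂ)) h2
    simpa using this
  rw [h4] at h3
  have h5 : c * (c - 2) = 0 := by linear_combination h3
  rcases mul_eq_zero.mp h5 with h6 | h6
  · exact absurd h6 (c_ne_zero u hu c hyp)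
  · linear_combination h6

theorem hom_unique {f g : G →* ℂˣ} (hf : f ≠ 1) (hg : g ≠ 1) : f = g := by
  by_contra hne
  have hc := c_eq_two u hu c hyp hf
  have hfg : f * g ≠ 1 := by
    intro h
    apply hne
    have h2 := hom_sq u hu c hyp hf
    ext x
    have e1 : f x * g x = 1 := congrArg (fun k : G →* ℂˣ => k x) h
    have e2 : f x * f x = 1 := congrArg (fun k : G →* ℂˣ => k x) h2
    have e3 : f x = g x := mul_left_cancel (e2.trans e1.symm)
    rw [e3]
  have h1 := hom_apply_u u c hyp hf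
  have h2 := hom_apply_u u c hyp hg
  have h3 := hom_apply_u u c hyp hfg
  simp only [MonoidHom.mul_apply, Units.val_mul] at h3
  rw [h1, h2, hc] at h3
  norm_num at h3

theorem not_perfect_of_c (hc : c = 2) : commutator G ≠ ⊤ := by
  intro hperf
  apply false_of_nonneg u hu
  intro χ hχ
  have hd : 2 ≤ Cfsg.charDegree (χ : G → ℂ) := by
    by_contra hlt
    have hpos := irr_charDegree_pos χ
    have h1 : Cfsg.charDegree (χ : G → ℂ) = 1 := by omega
    have h2 : (χ : G → ℂ) 1 = 1 := by rw [← irr_charDegree_cast, h1]; simp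
    apply hχ
    ext g
    exact irr_linear_eq_one_of_mem_commutator χ h2 (by rw [hperf]; exact Subgroup.mem_top g)
  rcases hyp χ ((ne_irrOne_iff χ).mp hχ) with h | h
  · have : (χ : G → ℂ) u = (χ : G → ℂ) 1 - 2 := by rw [← hc]; linear_combination -h
    rw [this, ← irr_charDegree_cast]
    have h3 : ((Cfsg.charDegree (χ : G → ℂ) : ℂ) - 2) * (Cfsg.charDegree (χ : G → ℂ) : ℂ) =
        (((Cfsg.charDegree (χ : G → ℂ) - 2) * Cfsg.charDegree (χ : G → ℂ) : ℕ) : ℂ) := by
      push_cast [Nat.cast_sub hd]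
      ring
    rw [h3, Complex.natCast_re]
    positivity
  · rw [h]; simp

omit [Finite G] hu in
theorem term_nonneg (hc : c = 2) (χ : Cfsg.IrrCharacter G) (h1 : (χ : G → ℂ) 1 ≠ 1) :
    0 ≤ ((χ : G → ℂ) u * (χ : G → ℂ) 1).re ∧
      (((χ : G → ℂ) u * (χ : G → ℂ) 1).re = 0 → (χ : G → ℂ) u = 0) := by
  have hd : 2 ≤ Cfsg.charDegree (χ : G → ℂ) := by
    by_contra hlt
    have hpos := irr_charDegree_pos χ
    have h2 : Cfsg.charDegree (χ : G → ℂ) = 1 := by omega
    apply h1
    rw [← irr_charDegree_cast, h2]; simp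
  have hne : (χ : G → ℂ) ≠ (fun _ => (1 : ℂ)) := by
    intro h
    apply h1
    rw [h]
  rcases hyp χ hne with h | h
  · have hu' : (χ : G → ℂ) u = (χ : G → ℂ) 1 - 2 := by rw [← hc]; linear_combination -h
    rw [hu', ← irr_charDegree_cast]
    have h3 : ((Cfsg.charDegree (χ : G → ℂ) : ℂ) - 2) * (Cfsg.charDegree (χ : G → ℂ) : ℂ) =
        (((Cfsg.charDegree (χ : G → ℂ) - 2) * Cfsg.charDegree (χ : G → ℂ) : ℕ) : ℂ) := by
      push_cast [Nat.cast_sub hd]
      ring
    rw [h3, Complex.natCast_re]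
    refine ⟨by positivity, ?_⟩
    intro h0
    have h4 : (Cfsg.charDegree (χ : G → ℂ) - 2) * Cfsg.charDegree (χ : G → ℂ) = 0 := by
      exact_mod_cast h0
    rcases Nat.mul_eq_zero.mp h4 with h5 | h5
    · have : Cfsg.charDegree (χ : G → ℂ) = 2 := by omega
      rw [this]; norm_num
    · omega
  · rw [h]; simp

theorem vanish_and_card {f : G →* ℂˣ} (hf : f ≠ 1) :
    (∀ χ : Cfsg.IrrCharacter G, (χ : G → ℂ) 1 ≠ 1 → (χ : G → ℂ) u = 0) ∧
      Nat.card (Subgroup.centralizer ({u} : Set G)) = 2 := by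
  classical
  have hfin : Finite (Cfsg.IrrCharacter G) := finite_irr
  have := Fintype.ofFinite (Cfsg.IrrCharacter G)
  have hc := c_eq_two u hu c hyp hf
  have hfu : ((f u : ℂˣ) : ℂ) = -1 := by
    rw [hom_apply_u u c hyp hf, hc]; norm_num
  have hne : irrOfHom f ≠ irrOne G := (ne_irrOne_iff _).mpr (irrOfHom_ne_one hf)
  have hmem : irrOfHom f ∈ Finset.univ.erase (irrOne G) :=
    Finset.mem_erase.mpr ⟨hne, Finset.mem_univ _⟩
  have hrest : ∀ χ ∈ (Finset.univ.erase (irrOne G)).erase (irrOfHom f), (χ : G → ℂ) 1 ≠ 1 := by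
    intro χ hχ h1
    have h2 := Finset.ne_of_mem_erase hχ
    have h3 := Finset.ne_of_mem_erase (Finset.mem_of_mem_erase hχ)
    by_cases h4 : homOfLinear χ h1 = 1
    · apply h3
      rw [← irrOfHom_homOfLinear χ h1, h4]
      ext g
      simp [irrOfHom_apply, irrOne]
    · apply h2
      rw [← irrOfHom_homOfLinear χ h1, hom_unique u hu c hyp h4 hf]
  have hs := congrArg Complex.re (sum_col u hu)
  rw [Complex.re_sum, Complex.zero_re,
    ← Finset.add_sum_erase _ _ (Finset.mem_univ (irrOne G)),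
    ← Finset.add_sum_erase _ _ hmem] at hs
  have h1 : (((irrOne G : Cfsg.IrrCharacter G) : G → ℂ) u *
      ((irrOne G : Cfsg.IrrCharacter G) : G → ℂ) 1).re = 1 := by simp [irrOne]
  have h2 : ((irrOfHom f : G → ℂ) u * (irrOfHom f : G → ℂ) 1).re = -1 := by
    simp [irrOfHom_apply, hfu]
  rw [h1, h2] at hs
  have h3 : ∑ χ ∈ (Finset.univ.erase (irrOne G)).erase (irrOfHom f),
      ((χ : G → ℂ) u * (χ : G → ℂ) 1).re = 0 := by linarith
  have h4 := (Finset.sum_eq_zero_iff_of_nonneg
    (fun χ hχ => (term_nonneg u c hyp hc χ (hrest χ hχ)).1)).mp h3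
  have hvan : ∀ χ : Cfsg.IrrCharacter G, (χ : G → ℂ) 1 ≠ 1 → (χ : G → ℂ) u = 0 := by
    intro χ hχ1
    apply (term_nonneg u c hyp hc χ hχ1).2
    apply h4
    refine Finset.mem_erase.mpr ⟨?_, Finset.mem_erase.mpr ⟨?_, Finset.mem_univ _⟩⟩
    · rintro rfl
      apply hχ1
      simp [irrOfHom_apply]
    · rintro rfl
      apply hχ1
      simp [irrOne]
  refine ⟨hvan, ?_⟩
  have hcol := (Cfsg.Agent.S0145.result u u).1 (IsConj.refl u)
  rw [finsum_eq_sum_of_fintype, ← Finset.add_sum_erase _ _ (Finset.mem_univ (irrOne G)),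
    ← Finset.add_sum_erase _ _ hmem] at hcol
  rw [Finset.sum_eq_zero (fun χ hχ => by rw [hvan χ (hrest χ hχ), zero_mul])] at hcol
  simp only [irrOne, irrOfHom_apply, hfu, map_one, map_neg, mul_one, add_zero] at hcol
  have : (Nat.card (Subgroup.centralizer ({u} : Set G)) : ℂ) = ((2 : ℕ) : ℂ) := by
    rw [← hcol]; norm_num
  exact_mod_cast this

end Main

theorem order_and_centralizer (u : G) (hu : u ≠ 1)
    (hcard : Nat.card (Subgroup.centralizer ({u} : Set G)) = 2) :
    orderOf u = 2 ∧ Subgroup.centralizer ({u} : Set G) = Subgroup.zpowers u := by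
  have hle : Subgroup.zpowers u ≤ Subgroup.centralizer ({u} : Set G) := by
    rw [Subgroup.zpowers_le, Subgroup.mem_centralizer_singleton_iff]
  have hdvd := Subgroup.card_dvd_of_le hle
  rw [Nat.card_zpowers, hcard] at hdvd
  have ho : orderOf u = 2 := by
    rcases (Nat.dvd_prime Nat.prime_two).mp hdvd with h | h
    · exact absurd (orderOf_eq_one_iff.mp h) hu
    · exact h
  refine ⟨ho, (Subgroup.eq_of_le_of_card_ge hle ?_).symm⟩
  rw [Nat.card_zpowers, hcard, ho]

omit [Finite G] in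
theorem mul_zpow_self_aux (u : G) (huu : u * u = 1) (m : ℤ) : 1 = u ^ m * u ^ m := by
  rw [← (Commute.refl u).mul_zpow, huu, one_zpow]

theorem sup_oddCore (u : G) (ho : orderOf u = 2)
    (hcent : Subgroup.centralizer ({u} : Set G) = Subgroup.zpowers u)
    (f : G →* ℂˣ) (hff : f * f = 1) (hfu : ((f u : ℂˣ) : ℂ) = -1) :
    Subgroup.zpowers u ⊔ Cfsg.oddCore G = ⊤ := by
  have huu : u * u = 1 := by rw [← sq, ← ho]; exact pow_orderOf_eq_one u
  have huinv : u⁻¹ = u := inv_eq_of_mul_eq_one_left huu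
  have huN : u ∉ f.ker := by
    intro h
    rw [MonoidHom.mem_ker] at h
    rw [h] at hfu
    norm_num at hfu
  -- the kernel has odd order
  have hodd : (Nat.card f.ker).Coprime 2 := by
    let σ : f.ker → f.ker := fun n => MulAut.conjNormal u n
    have hσ : Function.Involutive σ := by
      intro n
      ext
      simp only [σ, MulAut.conjNormal_apply, huinv]
      calc u * (u * n * u) * u = (u * u) * n * (u * u) := by group
        _ = n := by rw [huu]; simp
    have h1 := Cfsg.Agent.Lib.Helper6Inv.card_fixed_involutive_mod_two σ hσ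
    have h2 : Nat.card {a : f.ker // σ a = a} = 1 := by
      rw [Nat.card_eq_one_iff_unique]
      refine ⟨⟨?_⟩, ⟨⟨1, by ext; simp [σ]⟩⟩⟩
      have key : ∀ a : f.ker, σ a = a → a = 1 := by
        intro a ha
        have h3 : u * (a : G) * u⁻¹ = a := by
          have := congrArg Subtype.val ha
          simpa [σ, MulAut.conjNormal_apply] using this
        have h4 : (a : G) ∈ Subgroup.centralizer ({u} : Set G) := by
          rw [Subgroup.mem_centralizer_singleton_iff]
          calc (a : G) * u = (u * a * u⁻¹) * u := by rw [h3]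
            _ = u * a := by group
        rw [hcent, Subgroup.mem_zpowers_iff] at h4
        obtain ⟨k, hk⟩ := h4
        rcases Int.even_or_odd k with hk2 | hk2
        · obtain ⟨m, rfl⟩ := hk2
          ext
          rw [← hk, zpow_add, ← mul_zpow_self_aux u huu m]
          rfl
        · obtain ⟨m, rfl⟩ := hk2
          exfalso
          apply huN
          have h5 : u ^ (2 * m + 1) = u := by
            rw [zpow_add, zpow_one, two_mul, zpow_add, ← mul_zpow_self_aux u huu m, one_mul]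
          rw [h5] at hk
          rw [hk]
          exact a.2
      rintro ⟨a, ha⟩ ⟨b, hb⟩
      apply Subtype.ext
      exact (key a ha).trans (key b hb).symm
    rw [h2] at h1
    rw [Nat.coprime_comm, Nat.coprime_two_left, Nat.odd_iff]
    exact h1.symm
  have hle : f.ker ≤ Cfsg.oddCore G :=
    Cfsg.Agent.Lib.Helper60Core.le_pPrimeCore (MonoidHom.normal_ker f) hodd
  rw [eq_top_iff]
  intro g _
  have hg2 : ((f g : ℂˣ) : ℂ) * ((f g : ℂˣ) : ℂ) = 1 := by
    have := congrArg (fun k : G →* ℂˣ => ((k g : ℂˣ) : ℂ)) hff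
    simpa using this
  have hg : ((f g : ℂˣ) : ℂ) = 1 ∨ ((f g : ℂˣ) : ℂ) = -1 := mul_self_eq_one_iff.mp hg2
  rcases hg with h | h
  · apply Subgroup.mem_sup_right
    apply hle
    rw [MonoidHom.mem_ker]
    exact Units.ext h
  · have h1 : u * g ∈ f.ker := by
      rw [MonoidHom.mem_ker, map_mul]
      apply Units.ext
      rw [Units.val_mul, hfu, h]
      norm_num
    have h2 : g = u * (u * g) := by
      rw [← mul_assoc, huu, one_mul]
    rw [h2]
    exact Subgroup.mul_mem_sup (Subgroup.mem_zpowers u) (hle h1)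

theorem exists_hom_ne_one (h : commutator G ≠ ⊤) : ∃ f : G →* ℂˣ, f ≠ 1 := by
  obtain ⟨f, p, hp, hidx⟩ := Cfsg.Agent.S4797.exists_hom_prime_index h
  refine ⟨f, ?_⟩
  rintro rfl
  rw [MonoidHom.ker_one, Subgroup.index_top] at hidx
  exact hp.one_lt.ne hidx

theorem not_perfect_of_sup (u : G) (ho : orderOf u = 2)
    (hsup : Subgroup.zpowers u ⊔ Cfsg.oddCore G = ⊤) : commutator G ≠ ⊤ := by
  intro htop
  have hle : commutator G ≤ Cfsg.oddCore G := by
    rw [commutator_def, Subgroup.commutator_le]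
    intro a _ b _
    have key : ∀ g : G, (QuotientGroup.mk' (Cfsg.oddCore G)) g ∈
        Subgroup.zpowers ((QuotientGroup.mk' (Cfsg.oddCore G)) u) := by
      intro g
      have hg : g ∈ Subgroup.zpowers u ⊔ Cfsg.oddCore G := by rw [hsup]; trivial
      rw [Subgroup.mem_sup_of_normal_right] at hg
      obtain ⟨x, hx, y, hy, rfl⟩ := hg
      rw [map_mul]
      have hy1 : (QuotientGroup.mk' (Cfsg.oddCore G)) y = 1 := by
        rw [QuotientGroup.mk'_apply, QuotientGroup.eq_one_iff]; exact hy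
      rw [hy1, mul_one]
      obtain ⟨k, rfl⟩ := Subgroup.mem_zpowers_iff.mp hx
      rw [map_zpow]
      exact Subgroup.zpow_mem_zpowers _ k
    obtain ⟨i, hi⟩ := Subgroup.mem_zpowers_iff.mp (key a)
    obtain ⟨j, hj⟩ := Subgroup.mem_zpowers_iff.mp (key b)
    rw [← QuotientGroup.eq_one_iff, ← QuotientGroup.mk'_apply, map_commutatorElement, ← hi, ← hj,
      commutatorElement_eq_one_iff_mul_comm, ← zpow_add, ← zpow_add, add_comm]
  have htop2 : Cfsg.oddCore G = ⊤ := by
    rw [eq_top_iff, ← htop]; exact hle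
  have hcop := Cfsg.Agent.Lib.Helper60Core.card_pPrimeCore_coprime (G := G) 2
  have hcop2 : (Nat.card (Cfsg.oddCore G)).Coprime 2 := hcop
  rw [htop2, Subgroup.card_top] at hcop2
  have hdvd : 2 ∣ Nat.card G := ho ▸ orderOf_dvd_natCard u
  have := Nat.Coprime.eq_one_of_dvd hcop2.symm hdvd
  omega

/-- Let u ≠ 1 be an element of the finite group G and c a complex number such that every non-principal irreducible character χ satisfies χ(1) − χ(u) = c or χ(u) = 0. Then the following are equivalent: (a) u has order 2, G is generated by u together with O(G), the largest normal subgroup of G of odd order, and the centralizer of u is {1, u}; (b) G is not perfect; (c) c = 2. -/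
theorem result {G : Type*} [Group G] [Finite G] (u : G) (hu : u ≠ 1) (c : ℂ) (hyp : ∀ χ : Cfsg.IrrCharacter G, (χ : G → ℂ) ≠ (fun _ => (1 : ℂ)) → ((χ : G → ℂ) 1 - (χ : G → ℂ) u = c ∨ (χ : G → ℂ) u = 0)) : ((orderOf u = 2 ∧ Subgroup.zpowers u ⊔ Cfsg.oddCore G = ⊤ ∧ Subgroup.centralizer ({u} : Set G) = Subgroup.zpowers u) ↔ commutator G ≠ ⊤) ∧ (commutator G ≠ ⊤ ↔ c = 2) := by
  have hbc : commutator G ≠ ⊤ ↔ c = 2 := by
    constructor
    · intro h
      obtain ⟨f, hf⟩ := exists_hom_ne_one h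
      exact c_eq_two u hu c hyp hf
    · exact not_perfect_of_c u hu c hyp
  refine ⟨⟨?_, ?_⟩, hbc⟩
  · rintro ⟨ho, hsup, -⟩
    exact not_perfect_of_sup u ho hsup
  · intro h
    obtain ⟨f, hf⟩ := exists_hom_ne_one h
    have hc := c_eq_two u hu c hyp hf
    have hfu : ((f u : ℂˣ) : ℂ) = -1 := by
      rw [hom_apply_u u c hyp hf, hc]; norm_num
    obtain ⟨-, hcard⟩ := vanish_and_card u hu c hyp hf
    obtain ⟨ho, hcent⟩ := order_and_centralizer u hu hcard
    exact ⟨ho, sup_oddCore u ho hcent f (hom_sq u hu c hyp hf) hfu, hcent⟩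

end Cfsg.Agent.S4757
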