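import Cfsg.Statements.S5135
import Cfsg.Agent.Lib.Helper87ConGrp

set_option autoImplicit false
open Cfsg

namespace Cfsg.Agent.S5135

open Cfsg.Agent.Lib.Helper87Realized Cfsg.Agent.Lib.Helper88Factor

/-- Let G be a finite group, S a Sylow p-subgroup and H a normal subgroup of G. Then the fusion system of G/H on the image SH/H of S is the factor system of the fusion system of G on S modulo S ∩ H, read through the quotient map restricted to S: for each subgroup P' of SH/H, the conjugation maps by elements of G/H defined on P' with values in SH/H are exactly the homomorphisms induced by the conjugation maps by elements of G defined on the full preimage of P' in S with values in S. -/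
theorem result {G : Type*} [Group G] [Finite G] (p : ℕ) [Fact p.Prime] (S : Sylow p G) (H : Subgroup G) [H.Normal] : (Cfsg.groupFusionSystem (S : Subgroup G)).IsFactorSystem ((S : Subgroup G) ⊓ H) ((QuotientGroup.mk' H).comp (S : Subgroup G).subtype) (Cfsg.groupFusionSystem ((S : Subgroup G).map (QuotientGroup.mk' H))) := by
  have hθmem : ∀ x (hx : x ∈ (S : Subgroup G)), (QuotientGroup.mk' H) x ∈
      (S : Subgroup G).map (QuotientGroup.mk' H) := fun x hx => ⟨x, hx, rfl⟩
  refine Cfsg.Agent.Lib.Helper87ConGrp.factor_of_realized (p := p)
    (groupFusionSystem_realized (S : Subgroup G))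
    (groupFusionSystem_realized ((S : Subgroup G).map (QuotientGroup.mk' H))) S
    (Subgroup.range_subtype _).symm (π := QuotientGroup.mk' H) (QuotientGroup.mk'_surjective H)
    ?_ ?_ inf_le_left ?_
  · rw [MonoidHom.range_comp, Subgroup.range_subtype]
  · intro x hx
    rw [tt_of_mem _ hx, iot_of_mem _ hx]
    exact iot_of_mem _ (hθmem x hx)
  · intro x hx
    rw [iot_of_mem _ hx]
    show _ ↔ (QuotientGroup.mk' H) x = 1
    rw [QuotientGroup.mk'_apply, QuotientGroup.eq_one_iff]
    exact ⟨fun h => h.2, fun h => ⟨hx, h⟩⟩
end Cfsg.Agent.S5135
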