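import Cfsg.Statements.S5156
import Cfsg.Agent.Lib.Helper86TRDefs
import Cfsg.Agent.Lib.Helper86ResLim
import Cfsg.Agent.Lib.Helper87PPower
import Cfsg.Agent.Lib.Helper2Residual
import Cfsg.Agent.Lib.H86TRPP
import Cfsg.Agent.Lib.H86TRP
import Cfsg.Agent.Lib.H86TRConPP
import Cfsg.Agent.Lib.H86TRConP
import Cfsg.Agent.Lib.H86TRBase
import Cfsg.Agent.Lib.H86TRPSSub
import Cfsg.Agent.Lib.H86TRPSTop
import Cfsg.Agent.Lib.H86TRPSTriv
import Cfsg.Agent.Lib.H86TROpp
import Cfsg.Agent.S5090

set_option autoImplicit false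
universe u
open Cfsg

namespace Cfsg.Agent.S5156

open Cfsg.FusionSystem Cfsg.Agent.Lib.Helper87Fusion Cfsg.Agent.Lib.Helper86TRDefs

theorem fwd {Ω : Type u} [Group Ω] {S : Subgroup Ω} {F : FusionSystem S} {p : ℕ}
    (h : F.HasTerminatingResidualSeries p) : ∀ [Fact p.Prime] [Finite S], IsPGroup p S →
      F.IsSaturated p → (F.IsConstrained p ∧ ∀ (G : Type u) [Group G] (ι : S →* G),
        F.IsModel p G ι → IsPSolvable p G) := by
  induction h with
  | trivial F p hS =>
    intro _ _ _ hF
    exact ⟨Cfsg.Agent.Lib.H86TRBase.constrained_of_bot F hF hS, fun G _ ι hM =>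
      Cfsg.Agent.Lib.H86TRBase.psolv_of_bot F hS ι hM⟩
  | @step S F E p D hE hD _ ih =>
    intro _ _ hS hF
    have hle : E.hyperfocalSubgroup p ≤ S := Cfsg.Agent.Lib.Helper87Hyperfocal.subsystem_le hD.2.1
    have : Finite (E.hyperfocalSubgroup p) := Cfsg.Agent.Lib.Helper86Fusion.finite_of_le hle
    obtain ⟨hDc, hDm⟩ := ih (hS.to_le hle) hD.1
    have hEc := Cfsg.Agent.Lib.H86TRConP.con_p hS E hE.1 D hD hDc
    refine ⟨Cfsg.Agent.Lib.H86TRConPP.con_pprime hS F E hF hE hEc, fun G _ ι hM => ?_⟩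
    have : Finite G := hM.1
    obtain ⟨E', j, hE', hM'⟩ := Cfsg.Agent.Lib.H86TRPP.pp_step hS F ι hM
    obtain rfl := Cfsg.Agent.Lib.Helper86ResLim.pPrimeResidual_unique hE hE'
    obtain ⟨D', j', hD', hM''⟩ := Cfsg.Agent.Lib.H86TRP.p_step hS E j hM'
    obtain rfl := Cfsg.Agent.Lib.Helper87PPower.pPowerIndex_unique hS D D' hD.1 hD.2 hD'.1 hD'.2
    have h1 := hDm _ j' hM''
    have := Cfsg.Agent.Lib.Helper2Residual.pResidual_normal (G := Opp p G) p
    have h2 : IsPSolvable p (Opp p G) := Cfsg.Agent.Lib.H86TRPSTop.psolv_of_normal _ h1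
      (Or.inl (Cfsg.Agent.Lib.Helper2Residual.index_pResidual Fact.out))
    have := Cfsg.Agent.Lib.H86TROpp.Opp_normal (G := G) p
    exact Cfsg.Agent.Lib.H86TRPSTop.psolv_of_normal _ h2
      (Or.inr (Cfsg.Agent.Lib.H86TROpp.Opp_index_coprime p))

theorem bwd {Ω : Type u} [Group Ω] (p : ℕ) [Fact p.Prime] : ∀ (n : ℕ) (S : Subgroup Ω) [Finite S],
    IsPGroup p S → ∀ (F : FusionSystem S) (G : Type u) [Group G] (ι : S →* G), Nat.card G = n →
      F.IsModel p G ι → IsPSolvable p G → F.HasTerminatingResidualSeries p := by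
  intro n
  induction n using Nat.strong_induction_on with
  | _ n ih =>
    intro S _ hS F G _ ι hn hM hG
    by_cases hbot : S = ⊥
    · exact HasTerminatingResidualSeries.trivial F p hbot
    have : Finite G := hM.1
    obtain ⟨E, j, hE, hM'⟩ := Cfsg.Agent.Lib.H86TRPP.pp_step hS F ι hM
    obtain ⟨D, j', hD, hM''⟩ := Cfsg.Agent.Lib.H86TRP.p_step hS E j hM'
    have hle : E.hyperfocalSubgroup p ≤ S := Cfsg.Agent.Lib.Helper87Hyperfocal.subsystem_le hD.2.1
    have : Finite (E.hyperfocalSubgroup p) := Cfsg.Agent.Lib.Helper86Fusion.finite_of_le hle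
    have h2 : IsPSolvable p (Opp p G) := Cfsg.Agent.Lib.H86TRPSSub.psolv_subgroup Fact.out hG _
    have h1 : IsPSolvable p (pResidual p (Opp p G)) :=
      Cfsg.Agent.Lib.H86TRPSSub.psolv_subgroup Fact.out h2 _
    have hne : pResidual p (Opp p G) ≠ ⊤ := by
      intro htop
      have h3 := Cfsg.Agent.Lib.H86TRPSTriv.trivial_of_top h2 (Cfsg.Agent.Lib.H86TROpp.Opp_Opp p) htop
      apply hbot
      rw [eq_bot_iff]
      intro x hx
      have h4 : j ⟨x, hx⟩ = j 1 := by rw [h3 (j ⟨x, hx⟩), h3 (j 1)]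
      have h5 := hM'.2.1.1 h4
      exact congrArg Subtype.val h5
    have hlt : Nat.card (pResidual p (Opp p G)) < n := by
      rw [← hn]
      calc Nat.card (pResidual p (Opp p G)) < Nat.card (Opp p G) := by
            by_contra hcon
            exact hne (Subgroup.eq_top_of_card_eq _ (le_antisymm (Subgroup.card_le_card_group _)
              (not_lt.1 hcon)))
        _ ≤ Nat.card G := Subgroup.card_le_card_group _
    exact HasTerminatingResidualSeries.step F E p D hE hD
      (ih _ hlt _ (hS.to_le hle) D _ j' rfl hM'' h1)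

/-- A saturated fusion system over a finite p-group has a terminating alternating chain of p'-residual and p-residual subsystems (the chain reaches the trivial system — the notion of solvability adapted to fusion systems of p-solvable groups) if and only if it is constrained and its models are p-solvable (a model is a finite group realizing the system on a Sylow p-subgroup with self-centralizing largest normal p-subgroup; it exists and is unique up to isomorphism for constrained systems). -/
theorem result {Ω : Type u} [Group Ω] {S : Subgroup Ω} [Finite S] (p : ℕ) [Fact p.Prime] (hS : IsPGroup p S) (F : Cfsg.FusionSystem S) (hF : F.IsSaturated p) : F.HasTerminatingResidualSeries p ↔ (F.IsConstrained p ∧ ∀ (G : Type u) [Group G] (ι : S →* G), F.IsModel p G ι → Cfsg.IsPSolvable p G) := by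
  constructor
  · intro h
    exact fwd h hS hF
  · rintro ⟨hc, hm⟩
    obtain ⟨G, _, ι, hM⟩ := Cfsg.Agent.S5090.result p hS F hc
    exact bwd p _ S hS F G ι rfl hM (hm G ι hM)

end Cfsg.Agent.S5156
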