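import Cfsg.Statements.S5166
import Cfsg.Agent.Lib.Helper88Mathieu

set_option autoImplicit false
open Cfsg

namespace Cfsg.Agent.S5166

open Cfsg.Agent.Lib.Helper88PC Cfsg.Agent.Lib.Helper88NormCalc Cfsg.Agent.Lib.Helper88FusCert
  Cfsg.Agent.Lib.Helper88Mathieu

/-- polycyclic generating sequence of a Sylow 2-subgroup: `(x, x⁻¹, B)` -/
def pcData : List (ℕ × ℕ × ℕ) := [(974394253445852827453174153132214848, 974394253445852827453174153132214848, 2), (641704445063623675702240319674454048, 629864588461132948473621610273839136, 163840), (816096643313514173455979035738121248, 816923151502440406496064250233270304, 32768), (969202056781860934635753244362607648, 969202056781860934635753244362607648, 4)]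

def stages : List (ℕ × List (ℕ × ℕ × ℕ)) := [(5, [(1, 0, 1), (1, 2, 3), (3, 99999, 1), (0, 1, 0), (1, 2, 0), (3, 99999, 2), (1, 1, 0), (3, 99999, 8), (0, 7, 0), (1, 8, 0)]), (15, [(1, 0, 1), (1, 2, 3), (1, 1, 5), (3, 99999, 1), (0, 2, 0), (1, 3, 0), (3, 99999, 2), (1, 1, 0), (3, 99999, 8), (0, 6, 0), (1, 7, 0), (3, 14, 1), (0, 4, 0), (1, 5, 0), (0, 4, 2), (1, 5, 0), (0, 5, 4), (1, 6, 0)])]

def finProg : List (ℕ × ℕ × ℕ) := [(1, 0, 1), (1, 2, 3), (1, 1, 5), (1, 0, 7), (3, 99999, 1), (0, 3, 0), (1, 4, 0), (3, 99999, 2), (1, 1, 0), (3, 99999, 8), (0, 6, 0), (1, 7, 0), (3, 15, 1), (0, 1, 0), (1, 2, 0), (3, 18, 2), (0, 7, 0), (1, 8, 0), (0, 7, 2), (1, 8, 0), (3, 24, 1), (0, 3, 0), (1, 4, 0), (0, 3, 2), (1, 4, 0), (1, 27, 17), (1, 0, 29), (1, 0, 31), (2, 298027, 0), (0, 12, 0), (1, 13, 0), (0, 12, 2), (1, 13, 0), (0, 8, 4), (1, 9, 0), (1, 8, 11), (2, 4505735, 0), (0, 6, 0), (1, 7, 0), (0, 6, 2), (1, 7, 0), (1, 15, 45), (1, 0, 28), (2, 13893731, 0), (0, 5, 0), (1, 6, 0), (0, 5, 2), (1, 6, 0), (1, 22, 18), (1, 0, 4),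 (2, 806987, 0), (0, 29, 0), (1, 30, 0), (0, 38, 2), (1, 39, 0), (1, 6, 9), (2, 4587803, 0), (0, 34, 0), (1, 35, 0), (1, 61, 29), (1, 0, 22), (1, 0, 39), (2, 430605, 0), (0, 55, 0), (1, 56, 0)]

def zc : ℕ := 969202056781860934635753244362607648

def fusProg : List (ℕ × ℕ × ℕ) := [(1, 316028745221250351140691000632291744, 974394253445852827453174153132214848), (2, 736442385509991070868501261869188384, 636355017635266933539822988605723200), (0, 0, 1), (1, 798749774632051270773201207162089888, 816096643313514173455979035738121248)]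

set_option maxRecDepth 100000 in
theorem pc_ok : pcOK pcData = true := by decide +kernel

set_option maxRecDepth 100000 in
theorem gens_ok : (gensOf pcData).all in11 = true := by decide +kernel

set_option maxRecDepth 100000 in
theorem chain_ok : chainOK (elems (gensOf pcData)) [16777215, 340831, 2 ^ 0] [] stages finProg = true := by
  decide +kernel

set_option maxRecDepth 100000 in
theorem closure_ok : closureOK in11 (elems (gensOf pcData)) (gensOf pcData) zc fusProg = true := by
  decide +kernel

/-- The 2-fusion system of the Mathieu group M₁₁ (as the explicit permutation group carved out of the automorphism group of the binary Golay code) on a Sylow 2-subgroup is simple: saturated, over a nontrivial 2-group, with no normal subsystem other than the trivial one and itself. -/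
theorem result (S : Sylow 2 Cfsg.Spor.M11) : (Cfsg.groupFusionSystem (S : Subgroup Cfsg.Spor.M11)).IsSimple 2 := by
  exact master gdata11 pcData pc_ok gens_ok fact11 (by decide) stages finProg chain_ok zc fusProg closure_ok S

end Cfsg.Agent.S5166
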