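import Cfsg.Statements.S5167
import Cfsg.Agent.Lib.Helper88Mathieu

set_option autoImplicit false
open Cfsg

namespace Cfsg.Agent.S5167

open Cfsg.Agent.Lib.Helper88PC Cfsg.Agent.Lib.Helper88NormCalc Cfsg.Agent.Lib.Helper88FusCert
  Cfsg.Agent.Lib.Helper88Mathieu

/-- polycyclic generating sequence of a Sylow 2-subgroup: `(x, x⁻¹, B)` -/
def pcData : List (ℕ × ℕ × ℕ) := [(720010940336718148064555317766227969, 720010940336718148064555317766227969, 8193), (652471848225448306801127565004181069, 652471848225448306801127565004181069, 1), (974394253445852827453174153132214848, 974394253445852827453174153132214848, 2), (720652377714425869219673820019048480, 715813755372144609314002771130196000, 163840), (816096643313514173455979035738121248, 816923151502440406496064250233270304, 32768), (969202056781860934635753244362607648, 969202056781860934635753244362607648, 4)]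

def stages : List (ℕ × List (ℕ × ℕ × ℕ)) := [(5, [(1, 0, 1), (3, 99999, 4), (0, 3, 0), (1, 4, 0), (0, 3, 2), (1, 4, 0)]), (15, [(1, 0, 1), (1, 0, 3), (3, 99999, 4), (0, 4, 0), (1, 5, 0), (0, 3, 2), (1, 4, 0)]), (17, [(1, 0, 1), (1, 0, 3), (1, 0, 5), (3, 99999, 4), (0, 5, 0), (1, 6, 0), (0, 3, 2), (1, 4, 0), (3, 10, 1), (0, 2, 0), (1, 3, 0)])]

def finProg : List (ℕ × ℕ × ℕ) := [(1, 0, 1), (1, 0, 3), (1, 0, 5), (1, 0, 7), (3, 99999, 4), (0, 6, 0), (1, 7, 0), (0, 3, 2), (1, 4, 0), (3, 11, 2), (0, 2, 0), (1, 3, 0), (3, 16, 4), (0, 6, 0), (1, 7, 0), (0, 6, 2), (1, 7, 0), (3, 21, 1), (0, 1, 0), (1, 2, 0), (1, 22, 24), (3, 0, 1), (0, 16, 0), (1, 17, 0), (0, 9, 2), (1, 10, 0), (1, 3, 28), (1, 0, 30), (1, 0, 32), (2, 2269481, 0), (0, 16, 0), (1, 17, 0), (0, 6, 2), (1, 7, 0), (0, 18, 4), (1, 19, 0), (1, 8, 17), (2, 1302533, 0), (0, 6, 0), (1, 7, 0), (0, 4, 2), (1, 5, 0), (1, 15, 46), (1, 0, 32), (2, 8593633, 0), (0, 5, 0), (1, 6, 0), (0, 5, 2), (1, 6, 0), (1, 26, 18), (1, 0, 11), (1, 0, 18), (2, 4223245, 0), (0, 28, 0), (1, 29, 0), (0, 35,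 2), (1, 36, 0), (1, 7, 11), (1, 0, 25), (2, 8398155, 0), (0, 36, 0), (1, 37, 0), (1, 38, 31), (1, 0, 17), (1, 0, 66), (2, 402026, 0), (0, 43, 0), (1, 44, 0)]

def zc : ℕ := 969202056781860934635753244362607648

def fusProg : List (ℕ × ℕ × ℕ) := [(1, 856386300604639606561259421581101128, 720010940336718148064555317766227969), (2, 652510750181693597668542007895705696, 974394253445852827453174153132214848), (3, 923796984935438841799013514130561536, 652089096894960494667380851695819328), (0, 2, 0), (1, 853055742067986795380792584634044706, 816096643313514173455979035738121248), (0, 1, 1), (0, 1, 4), (0, 0, 4)]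

set_option maxRecDepth 100000 in
theorem pc_ok : pcOK pcData = true := by decide +kernel

set_option maxRecDepth 100000 in
theorem gens_ok : (gensOf pcData).all in12 = true := by decide +kernel

set_option maxRecDepth 100000 in
theorem chain_ok : chainOK (elems (gensOf pcData)) [16777215, 340831] [] stages finProg = true := by
  decide +kernel

set_option maxRecDepth 100000 in
theorem closure_ok : closureOK in12 (elems (gensOf pcData)) (gensOf pcData) zc fusProg = true := by
  decide +kernel

/-- The 2-fusion system of the Mathieu group M₁₂ (as the explicit permutation group carved out of the automorphism group of the binary Golay code) on a Sylow 2-subgroup is simple: saturated, over a nontrivial 2-group, with no normal subsystem other than the trivial one and itself. -/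
theorem result (S : Sylow 2 Cfsg.Spor.M12) : (Cfsg.groupFusionSystem (S : Subgroup Cfsg.Spor.M12)).IsSimple 2 := by
  exact master gdata12 pcData pc_ok gens_ok fact12 (by decide) stages finProg chain_ok zc fusProg closure_ok S

end Cfsg.Agent.S5167
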