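import Cfsg.Statements.S5169
import Cfsg.Agent.Lib.Helper88Mathieu

set_option autoImplicit false
open Cfsg

namespace Cfsg.Agent.S5169

open Cfsg.Agent.Lib.Helper88PC Cfsg.Agent.Lib.Helper88NormCalc Cfsg.Agent.Lib.Helper88FusCert
  Cfsg.Agent.Lib.Helper88Mathieu

/-- polycyclic generating sequence of a Sylow 2-subgroup: `(x, x⁻¹, B)` -/
def pcData : List (ℕ × ℕ × ℕ) := [(959776989238354821125224048992396320, 959776989238354821125224048992396320, 8192), (983560022009555626396609859128801888, 983560022009555626396609859128801888, 32770), (964807033003186894939333471354620384, 964807033003186894939333471354620384, 2), (983548058628271758227072553185584160, 983548058628271758227072553185584160, 4261212), (969202056781860934635753244362607648, 969202056781860934635753244362607648, 66628), (960796265644511697179202340874633248, 960796265644511697179202340874633248, 68), (966065889199318864952172779198879776, 966065889199318864952172779198879776, 4)]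

def stages : List (ℕ × List (ℕ × ℕ × ℕ)) := [(2, [(1, 0, 1), (3, 99999, 1), (0, 1, 0), (1, 2, 0), (3, 99999, 4), (1, 1, 0), (3, 99999, 16), (1, 1, 0)]), (3, [(1, 0, 1), (1, 0, 3), (3, 99999, 1), (0, 1, 0), (1, 2, 0), (3, 99999, 4), (1, 1, 0), (3, 99999, 16), (0, 1, 0), (1, 2, 0), (3, 12, 1), (0, 2, 0), (1, 3, 0), (3, 15, 4), (0, 1, 0), (1, 2, 0), (3, 18, 8), (1, 1, 0)])]

def finProg : List (ℕ × ℕ × ℕ) := [(1, 0, 1), (1, 0, 3), (1, 0, 5), (3, 99999, 1), (0, 1, 0), (1, 2, 0), (3, 99999, 4), (1, 1, 0), (3, 99999, 16), (0, 1, 0), (1, 2, 0), (3, 13, 1), (0, 2, 0), (1, 3, 0), (3, 16, 4), (0, 1, 0), (1, 2, 0), (3, 19, 8), (0, 1, 0), (1, 2, 0), (3, 23, 1), (0, 2, 0), (1, 3, 0), (3, 26, 4), (0, 1, 0), (1, 2, 0), (1, 27, 0), (1, 0, 7), (2, 8937586, 0), (0, 22, 0), (1, 23, 0), (0, 20, 2), (1, 21, 0), (1, 35, 7), (1, 0, 23), (2, 2384216, 0), (0, 20, 0), (1, 21, 0), (0, 18, 2), (1, 19, 0), (1, 43, 20), (1, 0, 30), (2, 1384564, 0), (0, 18, 0), (1, 19, 0), (0, 19, 2), (1, 20, 0), (1, 48, 10), (1, 0, 4), (2, 11731203, 0), (0, 20, 0),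 (1, 21, 0), (0, 21, 2), (1, 22, 0), (1, 56, 24), (1, 0, 11), (2, 3739786, 0), (0, 20, 0), (1, 21, 0), (0, 21, 2), (1, 22, 0), (1, 64, 31), (1, 0, 25), (2, 3672838, 0), (0, 20, 0), (1, 21, 0), (0, 21, 2), (1, 22, 0)]

def zc : ℕ := 983548058628271758227072553185584160

def fusProg : List (ℕ × ℕ × ℕ) := [(1, 963537873846524138382121735695816020, 983560022009555626396609859128801888), (2, 978223158499831104999240332067869025, 959776989238354821125224048992396320), (3, 964923729870266851813288988733941280, 969202056781860934635753244362607648), (0, 1, 2), (0, 0, 2), (0, 0, 4), (0, 0, 6), (0, 6, 4), (0, 0, 6), (0, 0, 6), (0, 0, 8), (0, 0, 10), (0, 10, 9), (0, 0, 11), (0, 0, 13), (0, 0, 13), (0, 0, 13), (0, 0, 15), (0, 0, 17)]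

set_option maxRecDepth 100000 in
theorem pc_ok : pcOK pcData = true := by decide +kernel

set_option maxRecDepth 100000 in
theorem gens_ok : (gensOf pcData).all in23 = true := by decide +kernel

set_option maxRecDepth 100000 in
theorem chain_ok : chainOK (elems (gensOf pcData)) [16777215, 2 ^ 23] [] stages finProg = true := by
  decide +kernel

set_option maxRecDepth 100000 in
theorem closure_ok : closureOK in23 (elems (gensOf pcData)) (gensOf pcData) zc fusProg = true := by
  decide +kernel

/-- The 2-fusion system of the Mathieu group M₂₃ (as the explicit permutation group carved out of the automorphism group of the binary Golay code) on a Sylow 2-subgroup is simple: saturated, over a nontrivial 2-group, with no normal subsystem other than the trivial one and itself. -/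
theorem result (S : Sylow 2 Cfsg.Spor.M23) : (Cfsg.groupFusionSystem (S : Subgroup Cfsg.Spor.M23)).IsSimple 2 := by
  exact master gdata23 pcData pc_ok gens_ok fact23 (by decide) stages finProg chain_ok zc fusProg closure_ok S

end Cfsg.Agent.S5169
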