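import Cfsg.Statements.S5226
import Cfsg.Agent.Lib.Helper86Series
import Cfsg.Agent.S5088

set_option autoImplicit false
open Cfsg

namespace Cfsg.Agent.S5226

open Cfsg Cfsg.FusionSystem Cfsg.Agent.Lib.Helper87Fusion Cfsg.Agent.Lib.Helper86Group
  Cfsg.Agent.Lib.Helper86Fusion Cfsg.Agent.Lib.Helper86Fusion2 Cfsg.Agent.Lib.Helper86Fusion3
  Cfsg.Agent.Lib.Helper86Alperin Cfsg.Agent.Lib.Helper86Fusion4 Cfsg.Agent.Lib.Helper86Sub
  Cfsg.Agent.Lib.Helper86Normal Cfsg.Agent.Lib.Helper86Series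
open Cfsg.Agent.Lib.Helper87Fusion3 hiding pCore_normal pCore_isPGroup le_pCore
open scoped commutatorElement

variable {Ω : Type*} [Group Ω] {S : Subgroup Ω}

theorem weaklyClosed_iff {F : FusionSystem S} {W : Subgroup Ω} :
    F.WeaklyClosed W ↔ W ≤ S ∧ ∀ f, IsMap F W f → f '' (W : Set Ω) = (W : Set Ω) := by
  constructor
  · rintro ⟨hW, h⟩
    refine ⟨hW, ?_⟩
    rintro f ⟨φ, hφ, hφf⟩
    have h1 := h φ hφ
    ext y
    constructor
    · rintro ⟨x, hx, rfl⟩
      rw [← hφf ⟨x, hx⟩]
      have : φ ⟨x, hx⟩ ∈ φ.range := ⟨_, rfl⟩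
      rwa [h1] at this
    · intro hy
      have : y ∈ φ.range := by rw [h1]; exact hy
      obtain ⟨x, rfl⟩ := this
      exact ⟨x, x.2, (hφf x).symm⟩
  · rintro ⟨hW, h⟩
    refine ⟨hW, fun φ hφ => ?_⟩
    have h1 := h _ (isMap_tot hφ)
    ext y
    constructor
    · rintro ⟨x, rfl⟩
      rw [← tot_apply]
      exact IsMap.mem_image h1 x.2
    · intro hy
      obtain ⟨x, hx, rfl⟩ := IsMap.exists_of_mem_image h1 hy
      exact ⟨⟨x, hx⟩, (tot_of_mem φ hx).symm⟩

theorem weaklyClosed_of_stronglyClosed [Finite S] {F : FusionSystem S} {W : Subgroup Ω}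
    (h : F.StronglyClosed W) : F.WeaklyClosed W := by
  rw [weaklyClosed_iff]
  refine ⟨h.1, fun f hf => ?_⟩
  exact image_eq_of_card_le hf h.1 (fun x hx => StronglyClosed_mem h hf hx hx) le_rfl

theorem normal_of_weak_series [Finite S] {p : ℕ} [Fact p.Prime] (hS : IsPGroup p S)
    (F : FusionSystem S) (hF : F.IsSaturated p) (Q : Subgroup Ω) (hQsc : F.StronglyClosed Q)
    (n : ℕ) (C : ℕ → Subgroup Ω) (h0 : C 0 = ⊥) (hlast : C n = Q) (hle : ∀ i ≤ n, C i ≤ Q)
    (hcomm : ∀ i < n, ⁅C (i + 1), Q⁆ ≤ C i) (hw : ∀ i < n, F.WeaklyClosed (C i)) :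
    F.IsNormal Q := by
  have hQS := hQsc.1
  rw [normal_iff_stronglyClosed_le hS F hF]
  refine ⟨hQsc, fun P hc hr => ?_⟩
  have hPS := hc.1
  have : Finite P := finite_of_le hPS
  have hcen : centralizerIn S P ≤ P := hc.2 P (isConj_refl F hPS)
  have hconj : ∀ i ≤ n, ∀ s ∈ S, ∀ q ∈ C i, s * q * s⁻¹ ∈ C i := by
    intro i hi s hs q hq
    rcases hi.lt_or_eq with hi | rfl
    · obtain ⟨h1, h2⟩ := weaklyClosed_iff.1 (hw i hi)
      exact IsMap.mem_image (h2 _ (isMap_conj F h1 hs)) hq
    · rw [hlast] at hq ⊢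
      exact StronglyClosed_conj_mem hQsc hs hq
  have main : ∀ i, i ≤ n → C i ≤ P := by
    intro i
    induction i using Nat.strong_induction_on with
    | _ i ih =>
    intro hin
    rcases Nat.eq_zero_or_pos i with rfl | hipos
    · rw [h0]; exact bot_le
    obtain ⟨i, rfl⟩ : ∃ j, i = j + 1 := ⟨i - 1, by omega⟩
    let D : ℕ → Subgroup P := fun j =>
      if j ≤ i then (C j).subgroupOf P else if j = i + 1 then Q.subgroupOf P else ⊤
    have hD1 : ∀ j, j ≤ i → ∀ x : P, x ∈ D j ↔ (x : Ω) ∈ C j := by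
      intro j hj x
      simp only [D, if_pos hj, Subgroup.mem_subgroupOf]
    have hD2 : ∀ x : P, x ∈ D (i + 1) ↔ (x : Ω) ∈ Q := by
      intro x
      simp only [D, if_neg (show ¬ i + 1 ≤ i by omega), if_true, Subgroup.mem_subgroupOf]
    have hD3 : ∀ j, i + 1 < j → D j = ⊤ := by
      intro j hj
      simp only [D, if_neg (show ¬ j ≤ i by omega), if_neg (show ¬ j = i + 1 by omega)]
    have hD0 : D 0 = ⊥ := by
      rw [eq_bot_iff]
      intro x hx
      rw [hD1 0 (Nat.zero_le _), h0, Subgroup.mem_bot] at hx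
      rw [Subgroup.mem_bot]
      exact Subtype.ext hx
    have hDN : D (i + 2) = ⊤ := hD3 _ (by omega)
    have hA : ∀ γ ∈ F.autGroup P, ∀ j, ∀ x ∈ D j, γ x ∈ D j := by
      intro γ hγ j x hx
      have hg : IsMap F P (tot (P.subtype.comp γ.toMonoidHom)) :=
        isMap_tot ((mem_autGroup_iff F hPS γ).1 hγ)
      by_cases h : j ≤ i
      · rw [hD1 j h] at hx ⊢
        have h1 := (weaklyClosed_iff.1 (hw j (by omega))).2 _ (hg.restrict (ih j (by omega) (by omega)))
        have := IsMap.mem_image h1 hx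
        rwa [tot_apply] at this
      · by_cases h' : j = i + 1
        · subst h'
          rw [hD2] at hx ⊢
          have := StronglyClosed_mem hQsc hg x.2 hx
          rwa [tot_apply] at this
        · rw [hD3 j (by omega)]; trivial
    have hnormal := stabChain_normal D (F.autGroup P) hA
    have hp : IsPGroup p (stabChain D) := stabChain_isPGroup (hS.to_le hPS) D hD0 (i + 2) hDN
    have hleInn : ∀ r ∈ stabChain D, r ∈ F.autGroup P → r ∈ Inn P := by
      intro r hrs hrA
      rw [← hr.2]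
      exact ⟨⟨r, hrA⟩, le_pCore hnormal hp.comap_subtype (by rw [Subgroup.mem_subgroupOf]; exact hrs), rfl⟩
    have key : ∀ g ∈ C (i + 1), g ∈ Subgroup.normalizer (P : Set Ω) → g ∈ P := by
      intro g hgC hgN
      have hgQ : g ∈ Q := hle _ hin hgC
      by_contra hgP
      obtain ⟨r, hr', hgr⟩ := exists_conjAut (hQS hgQ) hgN
      have hrA := autInducedBy_le_autGroup F hPS hr'
      have hrstab : r ∈ stabChain D := by
        refine ⟨fun j x hx => ⟨hA r hrA j x hx, hA r⁻¹ ((F.autGroup P).inv_mem hrA) j x hx⟩,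
          fun j x hx => ?_⟩
        by_cases h : j + 1 ≤ i
        · rw [hD1 j (by omega)]
          rw [hD1 (j + 1) h] at hx
          show (x : Ω)⁻¹ * ((r x : P) : Ω) ∈ _
          rw [hgr]
          have h2 : ⁅(x : Ω)⁻¹, g⁆ ∈ ⁅C (j + 1), Q⁆ :=
            Subgroup.commutator_mem_commutator (Subgroup.inv_mem _ hx) hgQ
          have h3 := hcomm j (by omega) h2
          have e : ⁅(x : Ω)⁻¹, g⁆ = (x : Ω)⁻¹ * (g * x * g⁻¹) := by
            rw [commutatorElement_def]; group
          rwa [e] at h3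
        · by_cases h' : j = i
          · subst h'
            rw [hD1 j le_rfl]
            rw [hD2] at hx
            show (x : Ω)⁻¹ * ((r x : P) : Ω) ∈ _
            rw [hgr]
            have h2 : ⁅g, (x : Ω)⁻¹⁆ ∈ ⁅C (j + 1), Q⁆ :=
              Subgroup.commutator_mem_commutator hgC (Subgroup.inv_mem _ hx)
            have h3 := Subgroup.inv_mem _ (hcomm j (by omega) h2)
            have e : (⁅g, (x : Ω)⁻¹⁆)⁻¹ = (x : Ω)⁻¹ * (g * x * g⁻¹) := by
              rw [commutatorElement_def]; group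
            rwa [e] at h3
          · by_cases h'' : j = i + 1
            · subst h''
              rw [hD2]
              show (x : Ω)⁻¹ * ((r x : P) : Ω) ∈ _
              rw [hgr]
              have h2 := StronglyClosed_conj_mem hQsc (S.inv_mem (hPS x.2)) hgQ
              rw [inv_inv] at h2
              have := Q.mul_mem h2 (Q.inv_mem hgQ)
              simpa [mul_assoc] using this
            · rw [hD3 j (by omega)]; trivial
      exact conjAut_not_mem_inn hcen (hQS hgQ) hgP hPS hgr (hleInn r hrstab hrA)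
    by_contra hQP
    have hCS : C (i + 1) ≤ S := (hle _ hin).trans hQS
    have hPQS : P ⊔ C (i + 1) ≤ S := sup_le hPS hCS
    have : Finite (P ⊔ C (i + 1) : Subgroup Ω) := finite_of_le hPQS
    have hlt : P < P ⊔ C (i + 1) := lt_of_le_of_ne le_sup_left (fun h => hQP (h ▸ le_sup_right))
    obtain ⟨g, hg, hgN, hgP⟩ := exists_mem_normalizer_not_mem (P ⊔ C (i + 1)) P (hS.to_le hPQS) hlt
    obtain ⟨x, hx, q, hq, rfl⟩ := mem_sup_of_normalizes (fun x hx q hq => by
      have := hconj _ hin _ (S.inv_mem (hPS hx)) q hq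
      rwa [inv_inv] at this) g hg
    have hqN : q ∈ Subgroup.normalizer (P : Set Ω) := by
      have := Subgroup.mul_mem _ (Subgroup.inv_mem _ (Subgroup.le_normalizer hx)) hgN
      rwa [inv_mul_cancel_left] at this
    exact hgP (P.mul_mem hx (key q hq hqN))
  exact hlast ▸ main n le_rfl

/-- Let F be a saturated fusion system over a finite p-group S and Q a subgroup of S. Then Q is normal in F (F equals the normalizer system of Q) if and only if Q is strongly closed in F and admits a central series 1 = Q₀ ≤ Q₁ ≤ ⋯ ≤ Qₙ = Q ([Qᵢ₊₁, Q] ≤ Qᵢ) all of whose proper terms are weakly closed in F. -/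
theorem result {Ω : Type*} [Group Ω] {S : Subgroup Ω} [Finite S] (p : ℕ) [Fact p.Prime] (hS : IsPGroup p S) (F : Cfsg.FusionSystem S) (hF : F.IsSaturated p) (Q : Subgroup Ω) : F.IsNormal Q ↔ F.StronglyClosed Q ∧ ∃ (n : ℕ) (C : Fin (n + 1) → Subgroup Ω), C 0 = ⊥ ∧ C (Fin.last n) = Q ∧ Monotone C ∧ (∀ i : Fin n, ⁅C i.succ, Q⁆ ≤ C i.castSucc) ∧ ∀ i : Fin n, F.WeaklyClosed (C i.castSucc) := by
  constructor
  · intro hQ
    refine ⟨normal_stronglyClosed hQ, ?_⟩
    obtain ⟨n, Qs, h0, hlast, hmono, hstep⟩ := (Cfsg.Agent.S5088.result p hS F hF Q).1 hQ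
    refine ⟨n, Qs, h0, hlast, hmono, fun i => ?_, fun i => ?_⟩
    · rw [Subgroup.commutator_comm]; exact (hstep i).2
    · have hsc : ∀ i : Fin (n + 1), F.StronglyClosed (Qs i) := by
        intro i
        induction i using Fin.cases with
        | zero => rw [h0]; exact stronglyClosed_bot F
        | succ i => exact (hstep i).1
      exact weaklyClosed_of_stronglyClosed (hsc _)
  · rintro ⟨hQsc, n, C, h0, hlast, hmono, hcomm, hw⟩
    refine normal_of_weak_series hS F hF Q hQsc n
      (fun i => if h : i < n + 1 then C ⟨i, h⟩ else Q) ?_ ?_ ?_ ?_ ?_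
    · simp only [dif_pos (Nat.succ_pos n)]; exact h0
    · simp only [dif_pos (Nat.lt_succ_self n)]; exact hlast
    · intro i hi
      simp only [dif_pos (Nat.lt_succ_of_le hi)]
      rw [← hlast]
      exact hmono (Fin.le_last _)
    · intro i hi
      simp only [dif_pos (show i + 1 < n + 1 by omega), dif_pos (show i < n + 1 by omega)]
      exact hcomm ⟨i, hi⟩
    · intro i hi
      simp only [dif_pos (show i < n + 1 by omega)]
      exact hw ⟨i, hi⟩

end Cfsg.Agent.S5226
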