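import Cfsg.Statements.S5233
import Cfsg.Agent.Lib.Helper89Normal
import Cfsg.Agent.Lib.Helper89Transv2
import Cfsg.Agent.Lib.Helper89GenExtra
import Cfsg.Agent.Lib.Helper89Stab
import Cfsg.Agent.S0206
import Cfsg.Agent.S5226
import Cfsg.Agent.S5234

set_option autoImplicit false
open Cfsg

namespace Cfsg.Agent.S5233

open Cfsg Cfsg.FusionSystem Cfsg.Agent.Lib.Helper87Fusion Cfsg.Agent.Lib.Helper86Group
  Cfsg.Agent.Lib.Helper86Fusion Cfsg.Agent.Lib.Helper86Fusion2 Cfsg.Agent.Lib.Helper86Fusion3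
  Cfsg.Agent.Lib.Helper86Series
  Cfsg.Agent.Lib.Helper87Fusion2
  Cfsg.Agent.Lib.Helper89Fusion Cfsg.Agent.Lib.Helper89Fusion2 Cfsg.Agent.Lib.Helper89Normal
  Cfsg.Agent.Lib.Helper89Omega Cfsg.Agent.Lib.Helper89Stab
  Cfsg.Agent.Lib.Helper89Transvection Cfsg.Agent.Lib.Helper89Transv2
  Cfsg.Agent.Lib.Helper89GenExtra Cfsg.Agent.Lib.Helper89PCube
open Cfsg.Agent.Lib.Helper87Fusion3 hiding pCore_normal pCore_isPGroup le_pCore isNormal_iff
  stronglyClosed_iff
open Cfsg.Agent.S5234 (receptive_of_conj)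
open scoped commutatorElement

variable {Ω : Type*} [Group Ω] {S : Subgroup Ω}

theorem D_stronglyClosed [Finite S] {p : ℕ} [hpf : Fact p.Prime] (hS : IsPGroup p S)
    (F : FusionSystem S) (hF : F.IsSaturated p) (P : Subgroup Ω) (hP : F.StronglyClosed P)
    (D : Subgroup Ω) (hDcard : Nat.card D = p) (hDP : D ≤ P)
    (hcommD : ∀ a ∈ P, ∀ b ∈ P, a * b * a⁻¹ * b⁻¹ ∈ D) (hpowD : ∀ a ∈ P, a ^ p ∈ D)
    (hDcen : ∀ d ∈ D, ∀ g ∈ P, g * d = d * g)
    (hnab : ∃ a ∈ P, ∃ b ∈ P, a * b * a⁻¹ * b⁻¹ ≠ 1)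
    (hnot : ¬ ∃ y ∈ P, ∃ w ∈ P, w ^ p = 1 ∧ w * y ≠ y * w ∧
      (∀ a ∈ P, ∀ b ∈ P, a * y = y * a → b * y = y * b → a * b = b * a) ∧
      (∀ a ∈ P, a * y = y * a → a ^ p = 1)) : F.StronglyClosed D := by
  by_contra hZsc
  have hPS := hP.1
  have hDS : D ≤ S := hDP.trans hPS
  have hpp := hpf.out
  have hfinD : Finite D := finite_of_le hDS
  have hDgen : ∀ w ∈ D, w ≠ 1 → D = Subgroup.zpowers w := by
    intro w hw hw1
    have hle : Subgroup.zpowers w ≤ D := by rwa [Subgroup.zpowers_le]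
    have h1 : Nat.card (Subgroup.zpowers w) ∣ p := hDcard ▸ Subgroup.card_dvd_of_le hle
    have h2 : Nat.card (Subgroup.zpowers w) = p := by
      rcases (Nat.dvd_prime hpp).1 h1 with h | h
      · exfalso
        rw [Nat.card_zpowers, orderOf_eq_one_iff] at h
        exact hw1 h
      · exact h
    exact (Subgroup.eq_of_le_of_card_ge hle (by rw [h2, hDcard])).symm
  have hDp : ∀ d ∈ D, d ^ p = 1 := by
    intro d hd
    have : (⟨d, hd⟩ : D) ^ p = 1 := by rw [← hDcard]; exact pow_card_eq_one'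
    exact congrArg Subtype.val this
  obtain ⟨a₀, ha₀, b₀, hb₀, hab₀⟩ := hnab
  have hDnorm : ∀ s ∈ S, ∀ x ∈ D, s * x * s⁻¹ ∈ D := by
    intro s hs x hx
    rw [hDgen _ (hcommD a₀ ha₀ b₀ hb₀) hab₀] at hx
    obtain ⟨k, rfl⟩ := hx
    have h1 : s * (a₀ * b₀ * a₀⁻¹ * b₀⁻¹) * s⁻¹ ∈ D := by
      have e : s * (a₀ * b₀ * a₀⁻¹ * b₀⁻¹) * s⁻¹ =
          (s * a₀ * s⁻¹) * (s * b₀ * s⁻¹) * (s * a₀ * s⁻¹)⁻¹ * (s * b₀ * s⁻¹)⁻¹ := by group
      rw [e]
      exact hcommD _ (StronglyClosed_conj_mem hP hs ha₀) _ (StronglyClosed_conj_mem hP hs hb₀)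
    show s * (a₀ * b₀ * a₀⁻¹ * b₀⁻¹) ^ k * s⁻¹ ∈ D
    rw [← conj_zpow]
    exact D.zpow_mem h1 k
  have hDrec : F.IsReceptive D := receptive_of_conj hS hF hDS hDnorm
  obtain ⟨z, hz, f, hf, hfz⟩ : ∃ z ∈ D, ∃ f, IsMap F (Subgroup.zpowers z) f ∧ f z ∉ D := by
    by_contra hcon
    push Not at hcon
    exact hZsc (stronglyClosed_iff_elt.2 ⟨hDS, hcon⟩)
  have hz1 : z ≠ 1 := by
    rintro rfl
    rw [hf.map_one] at hfz
    exact hfz D.one_mem
  have hDz := hDgen z hz hz1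
  obtain ⟨y, hy⟩ : ∃ y, y = f z := ⟨_, rfl⟩
  rw [← hy] at hfz
  have hyP : y ∈ P := hy ▸ StronglyClosed_mem hP hf (Subgroup.mem_zpowers z) (hDP hz)
  obtain ⟨ψ₀, hψ₀, hψ₀y⟩ := conjElt_symm hf
  rw [← hy] at hψ₀ hψ₀y
  have hψ₀im : ψ₀ '' (Subgroup.zpowers y : Set Ω) = (D : Set Ω) := by
    rw [IsMap.image_zpowers hψ₀ (Subgroup.mem_zpowers _), hψ₀y, hDz]
  obtain ⟨M, hMmem⟩ : ∃ M : Subgroup Ω, ∀ x, x ∈ M ↔ x ∈ P ∧ x * y = y * x :=
    ⟨P ⊓ Subgroup.centralizer {y}, fun x => by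
      rw [Subgroup.mem_inf, Subgroup.mem_centralizer_singleton_iff]⟩
  have hMP : M ≤ P := fun x hx => ((hMmem x).1 hx).1
  obtain ⟨ψ, hψ, hψψ₀⟩ := extend_centralizing (C := M) hDrec hψ₀ hψ₀im (by
    intro x hx
    rw [mem_centralizerIn_zpowers]
    exact ⟨hPS (hMP hx), ((hMmem x).1 hx).2.symm⟩)
  have hψM : IsMap F M ψ := hψ.restrict le_sup_right
  have hyM : y ∈ M := (hMmem y).2 ⟨hyP, rfl⟩
  have hDM : D ≤ M := fun d hd => (hMmem d).2 ⟨hDP hd, (hDcen d hd y hyP).symm⟩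
  have hzM : z ∈ M := hDM hz
  have hψy : ψ y = z := by rw [hψψ₀ _ (Subgroup.mem_zpowers _), hψ₀y]
  have hψP : ∀ x ∈ M, ψ x ∈ P := fun x hx => StronglyClosed_mem hP hψM hx (hMP hx)
  have star : ∀ c ∈ D, ψ c ∈ D → c = 1 := by
    intro c hcD hψc
    by_contra hc1
    have hcM := hDM hcD
    have h1 : ψ c ≠ 1 := fun h => hc1 (hψM.inj hcM M.one_mem (h.trans hψM.map_one.symm))
    have h3 : z ∈ Subgroup.zpowers (ψ c) := (hDgen (ψ c) hψc h1) ▸ hz
    obtain ⟨k, hk⟩ := h3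
    have h4 : ψ (c ^ k) = ψ y := by rw [IsMap.map_zpow' hψM hcM, hψy]; exact hk
    have h5 := hψM.inj (M.zpow_mem hcM k) hyM h4
    exact hfz (h5 ▸ D.zpow_mem hcD k)
  have hMc : ∀ a ∈ M, ∀ b ∈ M, a * b = b * a := by
    intro a ha b hb
    have h1 := star (a * b * a⁻¹ * b⁻¹) (hcommD a (hMP ha) b (hMP hb)) (by
      rw [hψM.map_mul (M.mul_mem (M.mul_mem ha hb) (M.inv_mem ha)) (M.inv_mem hb),
        hψM.map_mul (M.mul_mem ha hb) (M.inv_mem ha), hψM.map_mul ha hb, hψM.map_inv ha,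
        hψM.map_inv hb]
      exact hcommD _ (hψP a ha) _ (hψP b hb))
    calc a * b = (a * b * a⁻¹ * b⁻¹) * (b * a) := by group
      _ = b * a := by rw [h1, one_mul]
  have hMp : ∀ a ∈ M, a ^ p = 1 := by
    intro a ha
    exact star (a ^ p) (hpowD a (hMP ha)) (by
      rw [IsMap.map_pow' hψM ha]; exact hpowD _ (hψP a ha))
  have hII : ∀ w ∈ P, w * y ≠ y * w → w ^ p ≠ 1 := by
    intro w hw hwy hwp
    exact hnot ⟨y, hyP, w, hw, hwp, hwy,
      fun a ha b hb h1 h2 => hMc a ((hMmem a).2 ⟨ha, h1⟩) b ((hMmem b).2 ⟨hb, h2⟩),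
      fun a ha h1 => hMp a ((hMmem a).2 ⟨ha, h1⟩)⟩
  obtain ⟨w, hwP, hwy⟩ : ∃ w ∈ P, w * y ≠ y * w := by
    by_contra hcon
    push Not at hcon
    apply hab₀
    rw [hMc a₀ ((hMmem a₀).2 ⟨ha₀, hcon a₀ ha₀⟩) b₀ ((hMmem b₀).2 ⟨hb₀, hcon b₀ hb₀⟩)]
    group
  have hwp := hII w hwP hwy
  have hp2 : p ≠ 2 := by
    rintro rfl
    have huniq := (Nat.card_eq_two_iff' (1 : D)).1 hDcard
    have hc1 : w⁻¹ * y * w⁻¹⁻¹ * y⁻¹ ≠ 1 := by
      intro h
      apply hwy
      have e : y * w = w * (w⁻¹ * y * w⁻¹⁻¹ * y⁻¹) * y := by group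
      rw [e, h, mul_one]
    have heq : (⟨w ^ 2, hpowD w hwP⟩ : D) = ⟨w⁻¹ * y * w⁻¹⁻¹ * y⁻¹, hcommD _ (P.inv_mem hwP) _ hyP⟩ :=
      huniq.unique (fun h => hwp (congrArg Subtype.val h)) (fun h => hc1 (congrArg Subtype.val h))
    have heq' : w ^ 2 = w⁻¹ * y * w⁻¹⁻¹ * y⁻¹ := congrArg Subtype.val heq
    apply hII (w * y) (P.mul_mem hwP hyP)
    · intro h
      apply hwy
      have : w * y * y = y * w * y := by rw [h]; group
      exact mul_right_cancel this
    · have e : (w * y) ^ 2 = w ^ 2 * (w⁻¹ * y * w⁻¹⁻¹ * y⁻¹) * y ^ 2 := by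
        rw [pow_two, pow_two, pow_two]; group
      rw [e, ← heq', ← pow_add, hMp y hyM, mul_one]
      have := hDp _ (hpowD w hwP)
      rw [← pow_mul] at this
      exact this
  have hMmem' : ∀ x, x ∈ M ↔ x ∈ P ∧ x ^ p = 1 := by
    intro x
    constructor
    · intro hx
      exact ⟨hMP hx, hMp x hx⟩
    · rintro ⟨h1, h2⟩
      rw [hMmem]
      refine ⟨h1, ?_⟩
      by_contra h3
      exact hII x h1 h3 h2
  have hMS : M ≤ S := hMP.trans hPS
  have hfinM : Finite M := finite_of_le hMS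
  have hMsc : F.StronglyClosed M := by
    rw [stronglyClosed_iff]
    refine ⟨hMS, fun R f hR hf x hx => ?_⟩
    obtain ⟨h1, h2⟩ := (hMmem' x).1 (hR hx)
    rw [hMmem']
    refine ⟨StronglyClosed_mem hP hf hx h1, ?_⟩
    rw [← IsMap.map_pow' hf hx, h2, hf.map_one]
  have hMconj : ∀ s ∈ S, ∀ x ∈ M, s * x * s⁻¹ ∈ M :=
    fun s hs x hx => StronglyClosed_conj_mem hMsc hs hx
  have hMfn : F.IsFullyNormalized M :=
    isFullyNormalized_of_normalizerIn_eq F hMS (Cfsg.Agent.S5234.normalizerIn_eq_of_conj hMconj)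
  have hMrec : F.IsReceptive M := receptive_of_conj hS hF hMS hMconj
  obtain ⟨δ, hδA, hδ⟩ := hψM.exists_aut (StronglyClosed.image_eq hMsc hψM le_rfl)
  have hnormS : ∀ s ∈ S, s ∈ Subgroup.normalizer (M : Set Ω) := fun s hs =>
    mem_normalizer_of_conj_mem (hMconj s hs) (fun x hx => by
        have := hMconj s⁻¹ (S.inv_mem hs) x hx
        rwa [inv_inv] at this)
  obtain ⟨u, hu', hu⟩ := exists_conjAut (hPS hwP) (hnormS w (hPS hwP))
  have huA := autInducedBy_le_autGroup F hMS hu'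
  obtain ⟨yy, hyy⟩ : ∃ yy : M, (yy : Ω) = y := ⟨⟨y, hyM⟩, rfl⟩
  obtain ⟨zz, hzz⟩ : ∃ zz : M, (zz : Ω) = z := ⟨⟨z, hzM⟩, rfl⟩
  have hyyp : yy ^ p = 1 := Subtype.ext (by
    show (yy : Ω) ^ p = 1
    rw [hyy]; exact hMp y hyM)
  have hzzp : zz ^ p = 1 := Subtype.ext (by
    show (zz : Ω) ^ p = 1
    rw [hzz]; exact hMp z hzM)
  have hcommM : ∀ a b : M, a * b = b * a := fun a b => Subtype.ext (hMc a a.2 b b.2)
  have hlift : ∀ x : M, (x : Ω) ∈ D → ∃ n : ℕ, x = zz ^ n := by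
    intro x hx
    rw [hDz] at hx
    obtain ⟨k, hk⟩ := hx
    have h1 : x ∈ Subgroup.zpowers zz := ⟨k, Subtype.ext (by
      show ((zz ^ k : M) : Ω) = x
      rw [Subgroup.coe_zpow, hzz]; exact hk)⟩
    rw [← mem_powers_iff_mem_zpowers] at h1
    obtain ⟨n, hn⟩ := h1
    exact ⟨n, hn.symm⟩
  have hu1 : u zz = zz := by
    apply Subtype.ext
    rw [hu, hzz, hDcen z hz w hwP]
    group
  have hstep : ∀ x : M, ∃ n : ℕ, u x = x * zz ^ n := by
    intro x
    obtain ⟨n, hn⟩ := hlift (x⁻¹ * u x) (by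
      show (x : Ω)⁻¹ * ((u x : M) : Ω) ∈ D
      rw [hu]
      have := hcommD (x : Ω)⁻¹ (P.inv_mem (hMP x.2)) w hwP
      simpa [mul_assoc] using this)
    exact ⟨n, by rw [← hn]; group⟩
  obtain ⟨a, ha⟩ := hstep yy
  have hpa : ¬ p ∣ a := by
    intro h
    rw [pow_eq_one_of_dvd' hzzp h, mul_one] at ha
    apply hwy
    have h1 := congrArg Subtype.val ha
    rw [hu, hyy] at h1
    calc w * y = (w * y * w⁻¹) * w := by group
      _ = y * w := by rw [h1]
  have hδy : δ yy = zz := by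
    apply Subtype.ext
    rw [hδ, hyy, hψy, hzz]
  have hδz : δ⁻¹ zz = yy := by rw [← hδy, MulAut.inv_apply_self]
  obtain ⟨c, hc⟩ := hstep (δ zz)
  have hu'1 : (δ⁻¹ * u * δ) yy = yy := by
    rw [MulAut.mul_apply, MulAut.mul_apply, hδy, hu1, hδz]
  have hu'2 : (δ⁻¹ * u * δ) zz = zz * yy ^ c := by
    rw [MulAut.mul_apply, MulAut.mul_apply, hc, map_mul, map_pow, hδz, MulAut.inv_apply_self]
  have hstep' : ∀ x : M, ∃ n : ℕ, (δ⁻¹ * u * δ) x = x * yy ^ n := by
    intro x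
    obtain ⟨n, hn⟩ := hstep (δ x)
    exact ⟨n, by
      rw [MulAut.mul_apply, MulAut.mul_apply, hn, map_mul, map_pow, hδz, MulAut.inv_apply_self]⟩
  have hu'A : δ⁻¹ * u * δ ∈ F.autGroup M :=
    Subgroup.mul_mem _ (Subgroup.mul_mem _ (Subgroup.inv_mem _ hδA) huA) hδA
  have hzzeq : zz = ⟨z, hzM⟩ := Subtype.ext hzz
  have hc₁D : w * y * w⁻¹ * y⁻¹ ∈ D := hcommD w hwP y hyP
  have hc₁1 : w * y * w⁻¹ * y⁻¹ ≠ 1 := by
    intro h
    apply hwy
    calc w * y = (w * y * w⁻¹ * y⁻¹) * (y * w) := by group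
      _ = y * w := by rw [h, one_mul]
  have hL : ∀ h ∈ F.autGroup M, h * u * h⁻¹ ∈ autInducedBy S M → ((h zz : M) : Ω) ∈ D := by
    intro h hhA hh
    have hhM : IsMap F M (totA h) := (mem_autGroup_iff_totA F hMS h).1 hhA
    obtain ⟨N, h', hN, hh', hhh'⟩ := receptive_extend hMrec hhM (totA_image h)
    obtain ⟨s, hs, hsu⟩ := (mem_autInducedBy_iff S M _).1 hh
    have hwN : w ∈ N := by
      rw [hN]
      refine ⟨hPS hwP, hnormS w (hPS hwP), s, hs, fun x hx => ?_⟩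
      have h1 := hsu (h ⟨x, hx⟩)
      rw [MulAut.mul_apply, MulAut.mul_apply, MulAut.inv_apply_self] at h1
      rw [totA_of_mem h hx, ← h1]
      have h2 : w * x * w⁻¹ = ((u ⟨x, hx⟩ : M) : Ω) := (hu ⟨x, hx⟩).symm
      rw [h2, totA_apply]
    have hMN : M ≤ N := by
      intro g hg
      rw [hN]
      exact ⟨hMS hg, Subgroup.le_normalizer hg, totA h g, hhM.mem hg,
        fun x hx => hhM.map_conj hg hx⟩
    have hyN := hMN hyM
    have h3 : h' (w * y * w⁻¹ * y⁻¹) ∈ D := by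
      rw [hh'.map_mul (N.mul_mem (N.mul_mem hwN hyN) (N.inv_mem hwN)) (N.inv_mem hyN),
        hh'.map_mul (N.mul_mem hwN hyN) (N.inv_mem hwN), hh'.map_mul hwN hyN, hh'.map_inv hwN,
        hh'.map_inv hyN]
      exact hcommD _ (StronglyClosed_mem hP hh' hwN hwP) _ (StronglyClosed_mem hP hh' hyN hyP)
    have h4 : z ∈ Subgroup.zpowers (w * y * w⁻¹ * y⁻¹) := (hDgen _ hc₁D hc₁1) ▸ hz
    obtain ⟨k, hk⟩ := h4
    have h5 : totA h z = (h' (w * y * w⁻¹ * y⁻¹)) ^ k := by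
      rw [← hhh' z hzM, ← hk]
      exact IsMap.map_zpow' hh' (hMN (hDM hc₁D)) k
    rw [hzzeq, ← totA_of_mem h hzM, h5]
    exact D.zpow_mem h3 k
  have hpc : ¬ p ∣ c := by
    intro hdvd
    have hu'z : (δ⁻¹ * u * δ) zz = zz := by rw [hu'2, pow_eq_one_of_dvd' hyyp hdvd, mul_one]
    obtain ⟨u', hu'def⟩ : ∃ u', u' = δ⁻¹ * u * δ := ⟨_, rfl⟩
    rw [← hu'def] at hu'z hu'1 hstep' hu'A
    let C : ℕ → Subgroup M := fun i => match i with
      | 0 => ⊥
      | 1 => Subgroup.zpowers zz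
      | 2 => MonoidHom.eqLocus u'.toMonoidHom (MonoidHom.id M)
      | _ => ⊤
    have hfixz : ∀ α : MulAut M, α zz = zz → ∀ x ∈ Subgroup.zpowers zz, α x = x := by
      rintro α hα _ ⟨k, rfl⟩
      show α (zz ^ k) = zz ^ k
      rw [map_zpow, hα]
    have huC : u ∈ stabChain C := by
      apply mem_stabChain_of
      · intro i x hx
        rcases i with _ | _ | _ | i
        · have : x = 1 := Subgroup.mem_bot.1 hx
          rw [this, map_one]; exact Subgroup.one_mem _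
        · rw [hfixz u hu1 x hx]; exact hx
        · have hx' : u' x = x := hx
          obtain ⟨n, hn⟩ := hstep x
          show u' (u x) = u x
          rw [hn, map_mul, map_pow, hx', hu'z]
        · exact Subgroup.mem_top _
      · intro i x hx
        rcases i with _ | _ | _ | i
        · rw [hfixz u hu1 x hx, inv_mul_cancel]; exact Subgroup.one_mem _
        · obtain ⟨n, hn⟩ := hstep x
          rw [hn, inv_mul_cancel_left]
          exact Subgroup.pow_mem _ (Subgroup.mem_zpowers zz) n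
        · obtain ⟨n, hn⟩ := hstep x
          rw [hn, inv_mul_cancel_left]
          show u' (zz ^ n) = zz ^ n
          rw [map_pow, hu'z]
        · exact Subgroup.mem_top _
    have hu'C : u' ∈ stabChain C := by
      apply mem_stabChain_of
      · intro i x hx
        rcases i with _ | _ | _ | i
        · have : x = 1 := Subgroup.mem_bot.1 hx
          rw [this, map_one]; exact Subgroup.one_mem _
        · rw [hfixz u' hu'z x hx]; exact hx
        · have hx' : u' x = x := hx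
          rw [hx']; exact hx
        · exact Subgroup.mem_top _
      · intro i x hx
        rcases i with _ | _ | _ | i
        · rw [hfixz u' hu'z x hx, inv_mul_cancel]; exact Subgroup.one_mem _
        · have hx' : u' x = x := hx
          rw [hx', inv_mul_cancel]; exact Subgroup.one_mem _
        · obtain ⟨n, hn⟩ := hstep' x
          rw [hn, inv_mul_cancel_left]
          show u' (yy ^ n) = yy ^ n
          rw [map_pow, hu'1]
        · exact Subgroup.mem_top _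
    have hQle : Subgroup.closure {u, u'} ≤ stabChain C := by
      rw [Subgroup.closure_le]
      rintro x (rfl | hx)
      · exact huC
      · rw [Set.mem_singleton_iff] at hx
        subst hx
        exact hu'C
    have hQp : IsPGroup p (Subgroup.closure {u, u'}) :=
      (stabChain_isPGroup (hS.to_le hMS) C rfl 3 rfl).to_le hQle
    obtain ⟨-, ⟨-, R, hR⟩, -⟩ := saturated_fullyNormalized hS hF hMfn
    obtain ⟨β, hβ⟩ := exists_conj_le_sylow' R
      ((Subgroup.closure {u, u'}).subgroupOf (F.autGroup M)) hQp.comap_subtype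
    have h1 : β * ⟨u, huA⟩ * β⁻¹ ∈ (R : Subgroup (F.autGroup M)) := hβ ⟨u, huA⟩ (by
      rw [Subgroup.mem_subgroupOf]; exact Subgroup.subset_closure (by simp))
    have h2 : β * ⟨u', hu'A⟩ * β⁻¹ ∈ (R : Subgroup (F.autGroup M)) := hβ ⟨u', hu'A⟩ (by
      rw [Subgroup.mem_subgroupOf]; exact Subgroup.subset_closure (by simp))
    rw [hR, Subgroup.mem_subgroupOf] at h1 h2
    have hA1 := hL β β.2 h1
    have hA2 := hL (β * δ⁻¹) (Subgroup.mul_mem _ β.2 (Subgroup.inv_mem _ hδA)) (by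
      have e : (β : MulAut M) * δ⁻¹ * u * ((β : MulAut M) * δ⁻¹)⁻¹ =
          (β : MulAut M) * u' * (β : MulAut M)⁻¹ := by rw [hu'def]; group
      rw [e]; exact h2)
    rw [MulAut.mul_apply, hδz] at hA2
    have hne : ((((β : MulAut M) zz : M)) : Ω) ≠ 1 := by
      intro h
      have h3 : (β : MulAut M) zz = 1 := Subtype.ext h
      rw [map_eq_one_iff _ (β : MulAut M).injective] at h3
      exact hz1 (by rw [← hzz, h3]; rfl)
    have h5 : ((((β : MulAut M) yy : M)) : Ω) ∈ Subgroup.zpowers ((((β : MulAut M) zz : M)) : Ω) :=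
      (hDgen _ hA1 hne) ▸ hA2
    obtain ⟨k, hk⟩ := h5
    have h6 : (β : MulAut M) (zz ^ k) = (β : MulAut M) yy := Subtype.ext (by
      rw [map_zpow, Subgroup.coe_zpow]; exact hk)
    have h7 := (β : MulAut M).injective h6
    apply hfz
    rw [← hyy, ← h7, Subgroup.coe_zpow, hzz]
    exact D.zpow_mem hz k
  obtain ⟨τ, hτcl, hτy, hτz, -, hτu, -⟩ := exists_inversion_comm hcommM hyyp hzzp hstep hstep'
    hu1 ha hu'1 hu'2 hpa hpc
  have hτA : τ ∈ F.autGroup M := by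
    refine (Subgroup.closure_le _).2 ?_ hτcl
    intro x hx
    rcases hx with rfl | hx
    · exact huA
    · rw [Set.mem_singleton_iff] at hx
      subst hx
      exact hu'A
  have hτM : IsMap F M (totA τ) := (mem_autGroup_iff_totA F hMS τ).1 hτA
  obtain ⟨N, τ', hN, hτ', hττ'⟩ := receptive_extend hMrec hτM (totA_image τ)
  have hwN : w ∈ N := by
    rw [hN]
    refine ⟨hPS hwP, hnormS w (hPS hwP), w, hPS hwP, fun x hx => ?_⟩
    have h2 : w * x * w⁻¹ = ((u ⟨x, hx⟩ : M) : Ω) := (hu ⟨x, hx⟩).symm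
    rw [h2, totA_apply, hτu, hu, totA_of_mem τ hx]
  have hMN : M ≤ N := by
    intro g hg
    rw [hN]
    exact ⟨hMS hg, Subgroup.le_normalizer hg, totA τ g, hτM.mem hg,
      fun x hx => hτM.map_conj hg hx⟩
  have hw₂P : τ' w ∈ P := StronglyClosed_mem hP hτ' hwN hwP
  have hτ'y : τ' y = y⁻¹ := by
    rw [hττ' y hyM, totA_of_mem τ hyM]
    have : (⟨y, hyM⟩ : M) = yy := Subtype.ext hyy.symm
    rw [this, hτy]
    show (yy : Ω)⁻¹ = y⁻¹
    rw [hyy]
  have hconj : τ' w * y⁻¹ * (τ' w)⁻¹ = w * y⁻¹ * w⁻¹ := by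
    have h1 := hτ'.map_conj hwN (hMN hyM)
    rw [hτ'y] at h1
    rw [← h1, hττ' _ (hMconj w (hPS hwP) y hyM)]
    have h2 : w * y * w⁻¹ = ((u yy : M) : Ω) := by rw [hu, hyy]
    rw [h2, totA_apply, hτu, hu, hτy]
    show w * (yy : Ω)⁻¹ * w⁻¹ = _
    rw [hyy]
  have hm₁M : w⁻¹ * τ' w ∈ M := by
    rw [hMmem]
    refine ⟨P.mul_mem (P.inv_mem hwP) hw₂P, ?_⟩
    have h1 : (w⁻¹ * τ' w) * y⁻¹ = y⁻¹ * (w⁻¹ * τ' w) := by
      calc (w⁻¹ * τ' w) * y⁻¹ = w⁻¹ * (τ' w * y⁻¹ * (τ' w)⁻¹) * τ' w := by group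
        _ = w⁻¹ * (w * y⁻¹ * w⁻¹) * τ' w := by rw [hconj]
        _ = y⁻¹ * (w⁻¹ * τ' w) := by group
    exact (Commute.inv_right_iff.1 (show Commute (w⁻¹ * τ' w) y⁻¹ from h1)).eq
  have hcenD : ∀ d ∈ D, ∀ g ∈ P, Commute d g := fun d hd g hg => (hDcen d hd g hg).symm
  have hpow : (τ' w) ^ p = w ^ p := by
    have e : τ' w = w * (w⁻¹ * τ' w) := by group
    have hcD : ⁅w⁻¹ * τ' w, w⁆ ∈ D := by
      rw [commutatorElement_def]
      exact hcommD _ (hMP hm₁M) _ hwP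
    have h2p : 2 < p := lt_of_le_of_ne hpp.two_le (Ne.symm hp2)
    obtain ⟨k, hk⟩ : p ∣ p.choose 2 := hpp.dvd_choose_self (by norm_num) h2p
    rw [e, Cfsg.Agent.Lib.Helper3Class2.mul_pow_class2 _ _ (hcenD _ hcD _ hwP)
      (hcenD _ hcD _ (hMP hm₁M)), hMp _ hm₁M, hk, pow_mul, hDp _ hcD, one_pow, mul_one, mul_one]
  have hwpD : w ^ p ∈ D := hpowD w hwP
  have hinv : τ' (w ^ p) = (w ^ p)⁻¹ := by
    obtain ⟨n, hn⟩ := hlift ⟨w ^ p, hDM hwpD⟩ hwpD
    rw [hττ' _ (hDM hwpD), totA_of_mem τ (hDM hwpD), hn, map_pow, hτz, inv_pow, ← hn]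
    rfl
  rw [IsMap.map_pow' hτ' hwN, hpow] at hinv
  have h4 : (w ^ p) ^ 2 = 1 := by
    rw [pow_two]
    nth_rewrite 1 [hinv]
    rw [inv_mul_cancel]
  have h5 : (w ^ p) ^ p = 1 := hDp _ hwpD
  have h6 : orderOf (w ^ p) ∣ Nat.gcd 2 p :=
    Nat.dvd_gcd (orderOf_dvd_of_pow_eq_one h4) (orderOf_dvd_of_pow_eq_one h5)
  have h7 : Nat.gcd 2 p = 1 := by
    rw [← Nat.coprime_iff_gcd_eq_one]
    exact (Nat.coprime_primes Nat.prime_two hpp).2 (Ne.symm hp2)
  rw [h7, Nat.dvd_one, orderOf_eq_one_iff] at h6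
  exact hwp h6

/-- Let F be a saturated fusion system over a finite p-group S and P a subgroup of S strongly closed in F that is generalized extraspecial (its Frattini subgroup equals its commutator subgroup and has order p) and not isomorphic to E × A with A elementary abelian and E dihedral of order 8 (p = 2) or extraspecial of order p³ and exponent p (p odd). Then P is normal in F. -/
theorem result {Ω : Type*} [Group Ω] {S : Subgroup Ω} [Finite S] (p : ℕ) [Fact p.Prime] (hS : IsPGroup p S) (F : Cfsg.FusionSystem S) (hF : F.IsSaturated p) (P : Subgroup Ω) (hP : F.StronglyClosed P) (hge : frattini ↥P = commutator ↥P ∧ Nat.card ↥(commutator ↥P) = p) (h2 : p = 2 → ¬ ∃ (A : Type) (_ : CommGroup A), (∀ a : A, a ^ 2 = 1) ∧ Nonempty (↥P ≃* DihedralGroup 4 × A)) (hodd : p ≠ 2 → ¬ ∃ (E : Type) (_ : Group E) (A : Type) (_ : CommGroup A), Cfsg.IsExtraspecial p E ∧ Nat.card E = p ^ 3 ∧ Monoid.exponent E = p ∧ (∀ a : A, a ^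 p = 1) ∧ Nonempty (↥P ≃* E × A)) : F.IsNormal P := by
  have hPS := hP.1
  have hfinP : Finite P := finite_of_le hPS
  have hPp : IsPGroup p P := hS.to_le hPS
  have hpp : p.Prime := Fact.out
  obtain ⟨hfr, hcard⟩ := hge
  have hcen := Cfsg.Agent.Lib.Helper79PGroup.le_center_of_normal_of_card_eq_prime hPp
    (commutator P) hcard
  have hcommD : ∀ a ∈ P, ∀ b ∈ P, a * b * a⁻¹ * b⁻¹ ∈ (commutator ↥P).map P.subtype := by
    intro a ha b hb
    exact ⟨⁅(⟨a, ha⟩ : P), ⟨b, hb⟩⁆,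
      Subgroup.commutator_mem_commutator (Subgroup.mem_top _) (Subgroup.mem_top _), rfl⟩
  have hDcen : ∀ d ∈ (commutator ↥P).map P.subtype, ∀ g ∈ P, g * d = d * g := by
    rintro _ ⟨d, hd, rfl⟩ g hg
    exact congrArg Subtype.val (Subgroup.mem_center_iff.1 (hcen hd) ⟨g, hg⟩)
  have hDsc : F.StronglyClosed ((commutator ↥P).map P.subtype) := by
    apply D_stronglyClosed hS F hF P hP _ _ (Subgroup.map_subtype_le _) hcommD _ hDcen
    · by_contra hcon
      push Not at hcon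
      have h1 : commutator P = ⊥ := by
        rw [eq_bot_iff, commutator_def, Subgroup.commutator_le]
        intro a _ b _
        rw [Subgroup.mem_bot]
        exact Subtype.ext (hcon a a.2 b b.2)
      rw [h1, Subgroup.card_bot] at hcard
      exact hpp.one_lt.ne hcard
    · rintro ⟨y, hy, w, hw, hwp, hwy, hMc, hMp⟩
      obtain ⟨E, A, hwE, hyE, hEcard, hEexp, hAexp, hAcomm, ⟨e⟩⟩ := ge_decomp hPp hcard ⟨y, hy⟩
        ⟨w, hw⟩ (Subtype.ext hwp) (fun h => hwy (congrArg Subtype.val h))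
        (fun a b h1 h2 => Subtype.ext (hMc a a.2 b b.2 (congrArg Subtype.val h1)
          (congrArg Subtype.val h2)))
        (fun a h1 => Subtype.ext (hMp a a.2 (congrArg Subtype.val h1)))
      letI : CommGroup ↥A :=
        { (inferInstance : Group ↥A) with
          mul_comm := fun a b => Subtype.ext (hAcomm a a.2 b b.2) }
      obtain ⟨eA⟩ : Nonempty (Shrink.{0} ↥A ≃* ↥A) := ⟨Shrink.mulEquiv⟩
      obtain ⟨eE⟩ : Nonempty (Shrink.{0} ↥E ≃* ↥E) := ⟨Shrink.mulEquiv⟩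
      have hAexp' : ∀ a : Shrink.{0} ↥A, a ^ p = 1 := by
        intro a
        apply eA.injective
        rw [map_pow, map_one]
        exact Subtype.ext (hAexp _ (eA a).2)
      have hnc : (⟨⟨w, hw⟩, hwE⟩ : E) * ⟨⟨y, hy⟩, hyE⟩ ≠ ⟨⟨y, hy⟩, hyE⟩ * ⟨⟨w, hw⟩, hwE⟩ :=
        fun h => hwy (congrArg (fun t : E => ((t : P) : Ω)) h)
      by_cases hp2 : p = 2
      · apply h2 hp2
        subst hp2
        refine ⟨Shrink.{0} ↥A, inferInstance, hAexp', ?_⟩
        obtain ⟨x₁, hx₁⟩ : ∃ x₁ : E, x₁ = ⟨⟨w, hw⟩, hwE⟩ := ⟨_, rfl⟩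
        obtain ⟨x₂, hx₂⟩ : ∃ x₂ : E, x₂ = ⟨⟨y, hy⟩, hyE⟩ := ⟨_, rfl⟩
        rw [← hx₁, ← hx₂] at hnc
        have hx₁2 : x₁ ^ 2 = 1 := by rw [hx₁]; exact Subtype.ext (Subtype.ext hwp)
        have hx₂2 : x₂ ^ 2 = 1 := by rw [hx₂]; exact Subtype.ext (Subtype.ext (hMp y hy rfl))
        have ho₁ : orderOf x₁ = 2 := orderOf_eq_prime hx₁2 (by
          rintro rfl; exact hnc (by rw [one_mul, mul_one]))
        have ho₂ : orderOf x₂ = 2 := orderOf_eq_prime hx₂2 (by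
          rintro rfl; exact hnc (by rw [one_mul, mul_one]))
        have hne : x₁ ≠ x₂ := by rintro rfl; exact hnc rfl
        have ho : orderOf (x₁ * x₂) = 4 := by
          have h1 : orderOf (x₁ * x₂) ∣ 2 ^ 3 := hEcard ▸ orderOf_dvd_natCard _
          obtain ⟨k, hk, hk'⟩ := (Nat.dvd_prime_pow Nat.prime_two).1 h1
          have hinv₁ : x₁⁻¹ = x₁ := by rw [inv_eq_iff_mul_eq_one, ← pow_two, hx₁2]
          have hinv₂ : x₂⁻¹ = x₂ := by rw [inv_eq_iff_mul_eq_one, ← pow_two, hx₂2]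
          interval_cases k
          · exfalso
            rw [pow_zero, orderOf_eq_one_iff] at hk'
            have : x₁ = x₂⁻¹ := eq_inv_of_mul_eq_one_left hk'
            exact hne (by rw [this, hinv₂])
          · exfalso
            have h2 : (x₁ * x₂) ^ 2 = 1 := by
              rw [← orderOf_dvd_iff_pow_eq_one, hk']; norm_num
            apply hnc
            have h3 : x₁ * x₂ = (x₁ * x₂)⁻¹ := by
              rw [eq_inv_iff_mul_eq_one, ← pow_two, h2]
            rw [h3, mul_inv_rev, hinv₁, hinv₂]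
          · rw [hk']; norm_num
          · exfalso
            have := isCyclic_of_orderOf_eq_card (x₁ * x₂) (by rw [hk', hEcard])
            exact hnc ((IsCyclic.commGroup).mul_comm x₁ x₂)
        obtain ⟨e₁⟩ := Cfsg.Agent.S0206.result x₁ x₂ ho₁ ho₂ hne
        rw [ho] at e₁
        have h1 : Nat.card (Subgroup.closure ({x₁, x₂} : Set E)) = Nat.card E := by
          rw [Nat.card_congr e₁.toEquiv, DihedralGroup.nat_card, hEcard]; norm_num
        have h2 : Subgroup.closure ({x₁, x₂} : Set E) = ⊤ := Subgroup.eq_top_of_card_eq _ h1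
        exact ⟨e.trans (MulEquiv.prodCongr
          ((Subgroup.topEquiv.symm.trans (MulEquiv.subgroupCongr h2.symm)).trans e₁)
          eA.symm)⟩
      · apply hodd hp2
        refine ⟨Shrink.{0} ↥E, inferInstance, Shrink.{0} ↥A, inferInstance, ?_, ?_, ?_, hAexp',
          ⟨e.trans (MulEquiv.prodCongr eE.symm
            eA.symm)⟩⟩
        · apply isExtraspecial_of_card_cube
          · rw [Nat.card_congr eE.toEquiv, hEcard]
          · refine ⟨eE.symm ⟨⟨w, hw⟩, hwE⟩,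
              eE.symm ⟨⟨y, hy⟩, hyE⟩, fun h => hnc ?_⟩
            rw [← map_mul, ← map_mul] at h
            exact eE.symm.injective h
        · rw [Nat.card_congr eE.toEquiv, hEcard]
        · have h1 : Monoid.exponent (Shrink.{0} ↥E) ∣ p := by
            apply Monoid.exponent_dvd_of_forall_pow_eq_one
            intro g
            apply eE.injective
            rw [map_pow, map_one]
            exact Subtype.ext (hEexp hp2 _ (eE g).2)
          rcases (Nat.dvd_prime hpp).1 h1 with h | h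
          · exfalso
            rw [Monoid.exp_eq_one_iff] at h
            apply hnc
            have := eE.symm.injective.subsingleton
            rw [Subsingleton.elim (⟨⟨w, hw⟩, hwE⟩ : E) ⟨⟨y, hy⟩, hyE⟩]
          · exact h
    · rw [Subgroup.card_map_of_injective Subtype.coe_injective]; exact hcard
    · intro a ha
      refine ⟨(⟨a, ha⟩ : P) ^ p, ?_, rfl⟩
      rw [← hfr]
      exact Cfsg.Agent.Lib.Helper3PGroup.pow_mem_frattini hPp _
  have hwc : ∀ Q : Subgroup Ω, F.StronglyClosed Q → F.WeaklyClosed Q := fun Q hQ =>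
    Cfsg.Agent.S5226.weaklyClosed_iff.2 ⟨hQ.1, fun f hf => StronglyClosed.image_eq hQ hf le_rfl⟩
  refine Cfsg.Agent.S5226.normal_of_weak_series hS F hF P hP 2
    (fun i => match i with
      | 0 => ⊥
      | 1 => (commutator ↥P).map P.subtype
      | _ => P) rfl rfl ?_ ?_ ?_
  · intro i _
    rcases i with _ | _ | i
    · exact bot_le
    · exact Subgroup.map_subtype_le _
    · exact le_rfl
  · intro i hi
    rw [Subgroup.commutator_le]
    intro a ha b hb
    rw [commutatorElement_def]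
    rcases i with _ | _ | i
    · show a * b * a⁻¹ * b⁻¹ ∈ (⊥ : Subgroup Ω)
      rw [Subgroup.mem_bot, ← hDcen a ha b hb]
      group
    · exact hcommD a ha b hb
    · omega
  · intro i hi
    rcases i with _ | _ | i
    · exact hwc _ (stronglyClosed_bot F)
    · exact hwc _ hDsc
    · omega

end Cfsg.Agent.S5233
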