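import Cfsg.Statements.S5179
import Cfsg.Agent.Lib.Helper89HType
import Cfsg.Agent.Lib.Helper86Embedded
import Cfsg.Agent.Lib.Helper15ExtraAb

set_option autoImplicit false
universe u
open Cfsg

namespace Cfsg.Agent.S5179

open Cfsg.FusionSystem Cfsg.Agent.Lib.Helper87Fusion Cfsg.Agent.Lib.Helper86Group
  Cfsg.Agent.Lib.Helper86Fusion Cfsg.Agent.Lib.Helper86Fusion2 Cfsg.Agent.Lib.Helper86Fusion3
  Cfsg.Agent.Lib.Helper86Fusion4
  Cfsg.Agent.Lib.Helper87Fusion2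
  Cfsg.Agent.Lib.Helper89Fusion Cfsg.Agent.Lib.Helper89Fusion2 Cfsg.Agent.Lib.Helper89HType
open scoped Pointwise

/-- abstract commutation in `MulAut E` -/
theorem comm_aux {E : Type*} [Group E] (hab : ∀ a b : E, a * b = b * a) (z : E) (a a' g : MulAut E)
    (h1 : ∀ y, ∃ k : ℕ, a y = y * z ^ k) (h1' : ∀ y, ∃ k : ℕ, a' y = y * z ^ k)
    (h3 : a (g z) = g z) (h4 : a' (g⁻¹ z) = g⁻¹ z) :
    a * (g * a' * g⁻¹) = (g * a' * g⁻¹) * a := by
  ext y
  show a (g (a' (g⁻¹ y))) = g (a' (g⁻¹ (a y)))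
  obtain ⟨k, hk⟩ := h1' (g⁻¹ y)
  obtain ⟨j, hj⟩ := h1 y
  rw [hk, hj, map_mul, map_pow, MulAut.apply_inv_self, map_mul, map_pow, h3, hj]
  rw [map_mul, map_pow, map_mul, map_pow, h4, hk, map_mul, map_mul, map_pow, map_pow,
    MulAut.apply_inv_self, MulAut.apply_inv_self]
  rw [mul_assoc, mul_assoc, hab (z ^ j)]

section cz

variable {Ω : Type u} [Group Ω] {Q : Subgroup Ω} {p : ℕ}

/-- `ζ ∈ Z(Q)` -/
def CZ (Q : Subgroup Ω) (ζ : Ω) : Prop := ∃ h : ζ ∈ Q, (⟨ζ, h⟩ : Q) ∈ Subgroup.center Q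

theorem CZ.comm {ζ : Ω} (h : CZ Q ζ) {y : Ω} (hy : y ∈ Q) : y * ζ = ζ * y := by
  obtain ⟨h1, h2⟩ := h
  exact congrArg Subtype.val (Subgroup.mem_center_iff.1 h2 ⟨y, hy⟩)

theorem cz_comm (hQ : IsExtraspecial p Q) {a b : Ω} (ha : a ∈ Q) (hb : b ∈ Q) :
    CZ Q (a * b * a⁻¹ * b⁻¹) :=
  ⟨_, Cfsg.Agent.Lib.Helper3Extraspecial.comm_central hQ ⟨a, ha⟩ ⟨b, hb⟩⟩

theorem cz_gen [Fact p.Prime] (hQ : IsExtraspecial p Q) {z ζ : Ω} (hz : CZ Q z) (hz1 : z ≠ 1)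
    (hζ : CZ Q ζ) : ∃ k : ℕ, ζ = z ^ k := by
  obtain ⟨h1, h2⟩ := hz
  obtain ⟨h3, h4⟩ := hζ
  obtain ⟨k, hk⟩ := Cfsg.Agent.Lib.Helper15ExtraAb.gen_center hQ.2 h2
    (fun h => hz1 (congrArg Subtype.val h)) _ h4
  exact ⟨k, congrArg Subtype.val hk⟩

theorem exists_cz [hp : Fact p.Prime] (hQ : IsExtraspecial p Q) : ∃ z, CZ Q z ∧ z ≠ 1 := by
  rcases Subgroup.bot_or_exists_ne_one (Subgroup.center Q) with h | ⟨z, hz, hz1⟩
  · have := hQ.2
    rw [h, Subgroup.card_bot] at this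
    exact absurd this.symm hp.out.one_lt.ne'
  · exact ⟨z.1, ⟨z.2, hz⟩, fun h => hz1 (Subtype.ext h)⟩

end cz

/-- Let p be an odd prime, S a finite p-group of order at least p⁶ containing an extraspecial subgroup Q of index p, and F a saturated fusion system over S whose largest subgroup normal in F is trivial. Then no proper subgroup of Q is essential in F: an essential subgroup of F contained in Q equals Q. -/
theorem result {Ω : Type u} [Group Ω] {S : Subgroup Ω} [Finite S] (p : ℕ) [Fact p.Prime] (hp : Odd p) (hS : IsPGroup p S)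
    (Q : Subgroup Ω) (hQS : Q ≤ S) (hQ : Cfsg.IsExtraspecial p ↥Q) (hQi : (Q.subgroupOf S).index = p)
    (h6 : p ^ 6 ≤ Nat.card S)
    (F : Cfsg.FusionSystem S) (hF : F.IsSaturated p) (hO : F.core = ⊥)
    (E : Subgroup Ω) (hEQ : E ≤ Q) (hE : F.IsEssential p E) : E = Q := by
  classical
  by_contra hne
  have hpp : p.Prime := Fact.out
  have hEess := hE
  obtain ⟨hc, hfn, hI, E', hE'⟩ := hE
  have hES : E ≤ S := hEQ.trans hQS
  haveI : Finite E := finite_of_le hES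
  haveI : Finite Q := finite_of_le hQS
  have hrad := essential_radical hS F E hEess
  have hcen : centralizerIn S E ≤ E := IsCentric_self hc
  have hQcard : p ^ 4 ≤ Nat.card Q := by
    have h1 := Subgroup.card_mul_index (Q.subgroupOf S)
    rw [hQi, Nat.card_congr (Subgroup.subgroupOfEquivOfLe hQS).toEquiv] at h1
    rw [← h1] at h6
    have h2 : p ^ 5 * p ≤ Nat.card Q * p := by rw [← pow_succ]; exact h6
    have h5 := Nat.le_of_mul_le_mul_right h2 hpp.pos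
    exact (Nat.pow_le_pow_right hpp.pos (by norm_num)).trans h5
  have hZE : ∀ ζ, CZ Q ζ → ζ ∈ E := fun ζ h =>
    hcen (mem_centralizerIn.2 ⟨hQS h.1, fun x hx => h.comm (hEQ hx)⟩)
  have hconjE : ∀ x ∈ Q, ∀ y ∈ E, x * y * x⁻¹ ∈ E := by
    intro x hx y hy
    have h1 := E.mul_mem (hZE _ (cz_comm hQ hx (hEQ hy))) hy
    simpa using h1
  have hQN : ∀ x ∈ Q, x ∈ normalizerIn S E := by
    intro x hx
    refine ⟨hQS hx, mem_normalizer_of_conj_mem (hconjE x hx) (fun y hy => ?_)⟩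
    have := hconjE x⁻¹ (Q.inv_mem hx) y hy
    simpa using this
  have hconj : ∀ x ∈ Q, ∀ y ∈ E, CZ Q (y⁻¹ * (x * y * x⁻¹)) := by
    intro x hx y hy
    have h1 := cz_comm hQ (Q.inv_mem (hEQ hy)) hx
    have e : y⁻¹ * x * y⁻¹⁻¹ * x⁻¹ = y⁻¹ * (x * y * x⁻¹) := by group
    rwa [e] at h1
  -- `E` is abelian
  have hab : ∀ a ∈ E, ∀ b ∈ E, a * b = b * a := by
    by_contra hcon
    push Not at hcon
    obtain ⟨a, ha, b, hb, hne'⟩ := hcon
    obtain ⟨c, hcdef⟩ : ∃ c, c = a * b * a⁻¹ * b⁻¹ := ⟨_, rfl⟩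
    have hcz : CZ Q c := hcdef ▸ cz_comm hQ (hEQ ha) (hEQ hb)
    have hc1 : c ≠ 1 := by
      intro h
      apply hne'
      calc a * b = (a * b * a⁻¹ * b⁻¹) * (b * a) := by group
        _ = b * a := by rw [← hcdef, h, one_mul]
    have hcE : c ∈ E := hZE c hcz
    let D : ℕ → Subgroup E := fun j =>
      match j with
      | 0 => ⊥
      | 1 => Subgroup.zpowers (⟨c, hcE⟩ : E)
      | _ => ⊤
    apply hne
    apply le_antisymm hEQ
    intro x hx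
    apply mem_of_stabilizes hS hc hrad D rfl 2 rfl ?_ (hQN x hx) ?_
    · intro γ _ j y hy
      rcases j with _ | _ | j
      · have : y = 1 := hy
        rw [this, map_one]; exact Subgroup.one_mem _
      · obtain ⟨k, rfl⟩ := Subgroup.mem_zpowers_iff.1 hy
        rw [map_zpow]
        apply Subgroup.zpow_mem
        have h1 : ((γ ⟨c, hcE⟩ : E) : Ω) = (γ ⟨a, ha⟩ : Ω) * (γ ⟨b, hb⟩ : Ω) * (γ ⟨a, ha⟩ : Ω)⁻¹
            * (γ ⟨b, hb⟩ : Ω)⁻¹ := by
          have : (⟨c, hcE⟩ : E) = ⟨a, ha⟩ * ⟨b, hb⟩ * ⟨a, ha⟩⁻¹ * ⟨b, hb⟩⁻¹ := Subtype.ext hcdef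
          rw [this, map_mul, map_mul, map_mul, map_inv, map_inv]
          rfl
        have h2 : CZ Q ((γ ⟨c, hcE⟩ : E) : Ω) := by
          rw [h1]; exact cz_comm hQ (hEQ (γ _).2) (hEQ (γ _).2)
        obtain ⟨k, hk⟩ := cz_gen hQ hcz hc1 h2
        exact Subgroup.mem_zpowers_iff.2 ⟨k, Subtype.ext (by simpa using hk.symm)⟩
      · trivial
    · intro r hr j y hy
      rcases j with _ | _ | j
      · show y⁻¹ * r y ∈ (⊥ : Subgroup E)
        rw [Subgroup.mem_bot]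
        obtain ⟨k, rfl⟩ := Subgroup.mem_zpowers_iff.1 hy
        have h1 : Commute x c := hcz.comm hx
        apply Subtype.ext
        have h2 : x * c ^ k * x⁻¹ = c ^ k := by
          rw [(h1.zpow_right k).eq]; group
        simp [hr, h2]
      · show y⁻¹ * r y ∈ Subgroup.zpowers (⟨c, hcE⟩ : E)
        obtain ⟨k, hk⟩ := cz_gen hQ hcz hc1 (hconj x hx y y.2)
        refine Subgroup.mem_zpowers_iff.2 ⟨k, Subtype.ext ?_⟩
        simp [hr, hk]
      · trivial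
  have hes : ∀ e : Ω, e ∈ Q → ∃ x ∈ Q, x ∉ E ∧ x * e = e * x := by
    intro e he
    obtain ⟨x, hx, hxe⟩ := Cfsg.Agent.Lib.Helper15ExtraAb.exists_comm_notMem hQ hQcard
      (E.subgroupOf Q) (fun a ha b hb => Subtype.ext (hab a ha b hb))
      (fun h => hne (le_antisymm hEQ (Subgroup.subgroupOf_eq_top.1 h))) ⟨e, he⟩
    exact ⟨x.1, x.2, fun h => hx (Subgroup.mem_subgroupOf.2 h), congrArg Subtype.val hxe⟩
  obtain ⟨-, ⟨-, R, hR⟩, -⟩ := saturated_fullyNormalized hS hF hfn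
  obtain ⟨Y, hYne, hY⟩ := Cfsg.Agent.Lib.Helper86Embedded.exists_proper_of_spe_quotient
    ((Inn E).subgroupOf (F.autGroup E)) R E' hE'
  apply hYne
  rw [eq_top_iff]
  intro g _
  obtain ⟨z, hz, hz1⟩ := exists_cz hQ
  have hzE := hZE z hz
  obtain ⟨x, hxQ, hxE, hxc⟩ := hes ((g.1 ⟨z, hzE⟩ : E) : Ω) (hEQ (g.1 ⟨z, hzE⟩).2)
  obtain ⟨x', hxQ', hxE', hxc'⟩ := hes ((g.1⁻¹ ⟨z, hzE⟩ : E) : Ω) (hEQ (g.1⁻¹ ⟨z, hzE⟩).2)
  obtain ⟨a, haR, ha⟩ := exists_conjAut (K := S) (P := E) (hQS hxQ) (hQN x hxQ).2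
  obtain ⟨a', haR', ha'⟩ := exists_conjAut (K := S) (P := E) (hQS hxQ') (hQN x' hxQ').2
  have hform : ∀ (x : Ω), x ∈ Q → ∀ (a : MulAut E), (∀ y : E, ((a y : E) : Ω) = x * y * x⁻¹) →
      ∀ y : E, ∃ k : ℕ, a y = y * (⟨z, hzE⟩ : E) ^ k := by
    intro x hx a ha y
    obtain ⟨k, hk⟩ := cz_gen hQ hz hz1 (hconj x hx y y.2)
    refine ⟨k, Subtype.ext ?_⟩
    rw [ha]
    show x * y * x⁻¹ = y * z ^ k
    rw [← hk]; group
  have hcommab := comm_aux (fun u v => Subtype.ext (hab u u.2 v v.2)) ⟨z, hzE⟩ a a' g.1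
    (hform x hxQ a ha) (hform x' hxQ' a' ha')
    (Subtype.ext (by rw [ha, hxc]; group)) (Subtype.ext (by rw [ha', hxc']; group))
  have haA := autInducedBy_le_autGroup F hES haR
  have haA' := autInducedBy_le_autGroup F hES haR'
  obtain ⟨aa, haa⟩ : ∃ aa : F.autGroup E, aa = ⟨a, haA⟩ := ⟨_, rfl⟩
  obtain ⟨aa', haa'⟩ : ∃ aa' : F.autGroup E, aa' = ⟨a', haA'⟩ := ⟨_, rfl⟩
  obtain ⟨bb, hbb⟩ : ∃ bb : F.autGroup E, bb = g * aa' * g⁻¹ := ⟨_, rfl⟩
  have hcm : Commute aa bb := by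
    rw [hbb, haa, haa']
    exact Subtype.ext hcommab
  have haaR : aa ∈ R := by
    show aa ∈ (R : Subgroup _)
    rw [hR, Subgroup.mem_subgroupOf, haa]; exact haR
  have haaR' : aa' ∈ R := by
    show aa' ∈ (R : Subgroup _)
    rw [hR, Subgroup.mem_subgroupOf, haa']; exact haR'
  have haaI : aa ∉ (Inn E).subgroupOf (F.autGroup E) := by
    rw [Subgroup.mem_subgroupOf, haa]
    exact conjAut_not_mem_inn hcen (hQS hxQ) hxE hES ha
  have haaI' : aa' ∉ (Inn E).subgroupOf (F.autGroup E) := by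
    rw [Subgroup.mem_subgroupOf, haa']
    exact conjAut_not_mem_inn hcen (hQS hxQ') hxE' hES ha'
  have hp1 : IsPGroup p (Subgroup.zpowers aa) :=
    R.2.to_le (by rw [Subgroup.zpowers_le]; exact haaR)
  have hp2 : IsPGroup p (Subgroup.zpowers bb) := by
    have h1 : IsPGroup p (Subgroup.zpowers aa') :=
      R.2.to_le (by rw [Subgroup.zpowers_le]; exact haaR')
    have h2 := h1.map (MulAut.conj g).toMonoidHom
    rw [MonoidHom.map_zpowers] at h2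
    rw [hbb]
    exact h2
  have hsup : IsPGroup p (Subgroup.zpowers aa ⊔ Subgroup.zpowers bb : Subgroup (F.autGroup E)) := by
    apply IsPGroup.to_sup_of_normal_right' hp1 hp2
    rw [Subgroup.zpowers_le]
    apply Subgroup.centralizer_le_normalizer
    rw [Subgroup.mem_centralizer_iff]
    intro h hh
    obtain ⟨k, rfl⟩ := Subgroup.mem_zpowers_iff.1 hh
    exact ((hcm.zpow_right k).eq).symm
  obtain ⟨T, hT⟩ := hsup.exists_le_sylow
  obtain ⟨h, rfl⟩ := MulAction.exists_smul_eq (F.autGroup E) R T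
  have hmem : ∀ w : F.autGroup E, w ∈ (h • R : Sylow p _) → h⁻¹ * w * h ∈ R := by
    intro w hw
    have h1 : w ∈ (MulAut.conj h • (R : Subgroup (F.autGroup E))) := by
      rw [← Sylow.coe_subgroup_smul]; exact hw
    rw [Subgroup.mem_pointwise_smul_iff_inv_smul_mem] at h1
    have h2 : h⁻¹ * w * h ∈ (R : Subgroup (F.autGroup E)) := by
      simpa [MulAut.smul_def, mul_assoc] using h1
    exact h2
  have h1 : h⁻¹ ∈ Y := hY h⁻¹ ⟨aa, haaR, haaI, by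
    rw [inv_inv]
    exact hmem aa (hT ((le_sup_left : Subgroup.zpowers aa ≤ _) (Subgroup.mem_zpowers aa)))⟩
  have h2 : h⁻¹ * g ∈ Y := hY (h⁻¹ * g) ⟨aa', haaR', haaI', by
    have h3 := hmem bb (hT ((le_sup_right : Subgroup.zpowers bb ≤ _) (Subgroup.mem_zpowers bb)))
    have e : h⁻¹ * g * aa' * (h⁻¹ * g)⁻¹ = h⁻¹ * bb * h := by rw [hbb]; group
    rw [e]; exact h3⟩
  have h3 : g = (h⁻¹)⁻¹ * (h⁻¹ * g) := by group
  rw [h3]
  exact Y.mul_mem (Y.inv_mem h1) h2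

end Cfsg.Agent.S5179
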