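import Cfsg.Statements.S5185
import Cfsg.Agent.Lib.Helper37StrPEmb
import Cfsg.Agent.Lib.Helper55SL2
import Mathlib

set_option autoImplicit false
universe u
open Cfsg

namespace Cfsg.Agent.S5185

open Cfsg.Agent.Lib.Helper55SL2 Cfsg.Agent.Lib.Helper6SL2Syl

/-- a finite group with a strongly `p`-embedded subgroup has a non-normal Sylow `p`-subgroup -/
theorem exists_sylow_not_normal {Q : Type*} [Group Q] [Finite Q] {p : ℕ} [Fact p.Prime] {E : Subgroup Q}
    (hE : IsStronglyPEmbedded p E) : ∃ P : Sylow p Q, ¬ (P : Subgroup Q).Normal := by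
  obtain ⟨h1, h2, P, h3⟩ := hE
  rw [Cfsg.Agent.Lib.Helper37StrPEmb.kGeneratedCore_one_le_iff _ _ P.2] at h3
  refine ⟨P, fun hn => h2 ?_⟩
  have hne : (P : Subgroup Q) ≠ ⊥ := P.ne_bot_of_dvd_card h1
  have h4 := h3 P le_rfl hne
  rw [Subgroup.normalizer_eq_top] at h4
  exact top_le_iff.1 h4

/-- pull back a non-normal Sylow along a quotient -/
theorem exists_sylow_not_normal_of_quotient {X : Type*} [Group X] [Finite X] {p : ℕ} [Fact p.Prime]
    (N : Subgroup X) [N.Normal] (h : ∃ P : Sylow p (X ⧸ N), ¬ (P : Subgroup (X ⧸ N)).Normal) :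
    ∃ P : Sylow p X, ¬ (P : Subgroup X).Normal := by
  obtain ⟨P', hP'⟩ := h
  obtain ⟨P₀⟩ : Nonempty (Sylow p X) := inferInstance
  refine ⟨P₀, fun hn => hP' ?_⟩
  have hs : Function.Surjective (QuotientGroup.mk' N) := QuotientGroup.mk'_surjective N
  have hn' : ((P₀.mapSurjective hs : Sylow p (X ⧸ N)) : Subgroup (X ⧸ N)).Normal := by
    rw [Sylow.coe_mapSurjective]
    exact hn.map _ hs
  obtain ⟨g, hg⟩ := MulAction.exists_smul_eq (X ⧸ N) (P₀.mapSurjective hs) P'
  rw [Sylow.smul_eq_of_normal] at hg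
  rw [← hg]
  exact hn'

theorem card_eq_p_of_pgroup {p : ℕ} [Fact p.Prime] (A : Subgroup (SL2 p)) (hA : IsPGroup p A) (hne : A ≠ ⊥) :
    Nat.card A = p := by
  obtain ⟨S, hS⟩ := hA.exists_le_sylow
  have h1 : Nat.card S = p := by
    have h2 : Nat.card S = Nat.card (sylU (F := ZMod p) p) := by
      rw [Sylow.card_eq_multiplicity, Sylow.card_eq_multiplicity]
    rw [h2]
    have h3 : Nat.card (sylU (F := ZMod p) p) = Nat.card (U : Subgroup (SL2 p)) := rfl
    rw [h3, card_U, Nat.card_zmod]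
  have h4 : Nat.card A ∣ p := by
    have h5 := Subgroup.card_dvd_of_le hS
    rwa [h1] at h5
  rcases (Nat.dvd_prime (Fact.out : p.Prime)).1 h4 with h | h
  · exact absurd (Subgroup.card_eq_one.1 h) hne
  · exact h

/-- The group-theoretic core. -/
theorem core {W : Type*} [Group W] [Finite W] (p : ℕ) [Fact p.Prime] (hc : Nat.card W = p ^ 2)
    (X : Subgroup (MulAut W)) (hX : ∃ P : Sylow p X, ¬ (P : Subgroup X).Normal) :
    (∀ a b : W, a * b = b * a) ∧ (∀ a : W, a ^ p = 1) ∧
      ∃ K : Subgroup X, Nonempty (K ≃* Matrix.SpecialLinearGroup (Fin 2) (ZMod p)) := by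
  have hp : p.Prime := Fact.out
  obtain ⟨P₁, hP₁⟩ := hX
  have hcomm : ∀ a b : W, a * b = b * a := fun a b =>
    (IsPGroup.isMulCommutative_of_card_eq_prime_sq hc).is_comm.comm a b
  have hncyc : ¬ IsCyclic W := by
    intro hcyc
    apply hP₁
    have hab : ∀ a b : MulAut W, a * b = b * a := by
      intro a b
      apply (IsCyclic.mulAutMulEquiv W).injective
      rw [map_mul, map_mul, mul_comm]
    constructor
    intro n hn g
    have : g * n * g⁻¹ = n := by
      apply Subtype.ext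
      have := hab g.1 n.1
      simp only [Subgroup.coe_mul, Subgroup.coe_inv]
      rw [this, mul_inv_cancel_right]
    rw [this]
    exact hn
  have hexp : ∀ a : W, a ^ p = 1 := by
    intro a
    have h1 : orderOf a ∣ p ^ 2 := hc ▸ orderOf_dvd_natCard a
    obtain ⟨k, hk, hk2⟩ := (Nat.dvd_prime_pow hp).1 h1
    have hk' : k ≠ 2 := by
      rintro rfl
      exact hncyc (isCyclic_of_orderOf_eq_card a (by rw [hk2, hc]))
    have hk1 : k ≤ 1 := by omega
    apply orderOf_dvd_iff_pow_eq_one.1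
    rw [hk2]
    calc p ^ k ∣ p ^ 1 := pow_dvd_pow p hk1
      _ = p := pow_one p
  refine ⟨hcomm, hexp, ?_⟩
  -- a second Sylow subgroup
  obtain ⟨P₂, hne⟩ : ∃ P₂ : Sylow p X, P₂ ≠ P₁ := by
    by_contra hcon
    push Not at hcon
    apply hP₁
    rw [← Subgroup.normalizer_eq_top_iff, eq_top_iff]
    intro g _
    exact Sylow.smul_eq_iff_mem_normalizer.1 (hcon (g • P₁))
  have hP₁ne : (P₁ : Subgroup X) ≠ ⊥ := by
    intro h
    apply hP₁
    rw [h]
    infer_instance
  have hP₂ne : (P₂ : Subgroup X) ≠ ⊥ := by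
    intro h
    apply hP₁ne
    have h1 : Nat.card (P₁ : Subgroup X) = Nat.card (P₂ : Subgroup X) := by
      rw [Sylow.card_eq_multiplicity, Sylow.card_eq_multiplicity]
    rw [h, Subgroup.card_bot] at h1
    exact Subgroup.card_eq_one.1 h1
  set L : Subgroup X := (P₁ : Subgroup X) ⊔ (P₂ : Subgroup X) with hL
  set A : Subgroup L := (P₁ : Subgroup X).subgroupOf L with hA
  set A' : Subgroup L := (P₂ : Subgroup X).subgroupOf L with hA'
  have hle₁ : (P₁ : Subgroup X) ≤ L := le_sup_left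
  have hle₂ : (P₂ : Subgroup X) ≤ L := le_sup_right
  have htop : A ⊔ A' = ⊤ := by
    rw [hA, hA', ← Subgroup.subgroupOf_sup hle₁ hle₂, ← hL, Subgroup.subgroupOf_self]
  have hAp : IsPGroup p A := P₁.2.comap_subtype
  have hA'p : IsPGroup p A' := P₂.2.comap_subtype
  letI : CommGroup W := { (inferInstance : Group W) with mul_comm := hcomm }
  let ψ : L →* MulAut W := X.subtype.comp L.subtype
  have hdet : ∀ (δ : L →* ZMod p) (g : L), δ g = 1 := by
    intro δ g
    have key : ∀ (B : Subgroup L), IsPGroup p B → B ≤ δ.ker := by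
      intro B hB x hx
      obtain ⟨k, hk⟩ := hB ⟨x, hx⟩
      have hk' : x ^ p ^ k = 1 := congrArg Subtype.val hk
      rw [MonoidHom.mem_ker]
      have h2 : (δ x) ^ p ^ k = 1 := by rw [← map_pow, hk', map_one]
      rwa [ZMod.pow_card_pow] at h2
    have h3 : (⊤ : Subgroup L) ≤ δ.ker := htop ▸ sup_le (key A hAp) (key A' hA'p)
    exact MonoidHom.mem_ker.1 (h3 (Subgroup.mem_top g))
  obtain ⟨F₀, hF₀⟩ := exists_hom_abstract p W hexp hc L ψ hdet
  have hinj : Function.Injective F₀ := by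
    refine (injective_iff_map_eq_one F₀).2 fun g hg => ?_
    have h1 : ψ g = 1 := hF₀ g hg
    apply Subtype.ext
    apply Subtype.ext
    exact h1
  have hAne : A ≠ ⊥ := by
    intro h
    apply hP₁ne
    rw [hA, Subgroup.subgroupOf_eq_bot, disjoint_iff, inf_eq_left.2 hle₁] at h
    exact h
  have hA'ne : A' ≠ ⊥ := by
    intro h
    apply hP₂ne
    rw [hA', Subgroup.subgroupOf_eq_bot, disjoint_iff, inf_eq_left.2 hle₂] at h
    exact h
  have hcA : Nat.card A = p := by
    rw [← Subgroup.card_map_of_injective hinj]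
    apply card_eq_p_of_pgroup _ (hAp.map F₀)
    intro h
    exact hAne ((Subgroup.map_eq_bot_iff_of_injective A hinj).1 h)
  have hcA' : Nat.card A' = p := by
    rw [← Subgroup.card_map_of_injective hinj]
    apply card_eq_p_of_pgroup _ (hA'p.map F₀)
    intro h
    exact hA'ne ((Subgroup.map_eq_bot_iff_of_injective A' hinj).1 h)
  have hAA' : A ≠ A' := by
    intro h
    apply hne
    rw [hA, hA', Subgroup.subgroupOf_inj, inf_eq_left.2 hle₁, inf_eq_left.2 hle₂] at h
    exact (Sylow.ext h).symm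
  have hsurj := surjective_of_two F₀ hinj A A' hcA hcA' hAA'
  rw [htop, ← MonoidHom.range_eq_map, MonoidHom.range_eq_top] at hsurj
  exact ⟨L, ⟨MulEquiv.ofBijective F₀ ⟨hinj, hsurj⟩⟩⟩

/-- Let F be a saturated fusion system over a finite p-group S and H an essential subgroup of order p². Then H is elementary abelian (isomorphic to C_p × C_p) and its F-automorphism group contains a subgroup isomorphic to SL(2,p). -/
theorem result {Ω : Type u} [Group Ω] {S : Subgroup Ω} [Finite S] (p : ℕ) [Fact p.Prime] (hS : IsPGroup p S)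
    (F : Cfsg.FusionSystem S) (hF : F.IsSaturated p) (H : Subgroup Ω) (hH : F.IsEssential p H) (hcard : Nat.card H = p ^ 2) :
    Cfsg.IsElementaryAbelian p H ∧
      ∃ K : Subgroup ↥(F.autGroup H), Nonempty (↥K ≃* Matrix.SpecialLinearGroup (Fin 2) (ZMod p)) := by
  obtain ⟨_, _, hN, E, hE⟩ := hH
  have hfin : Finite H := Nat.finite_of_card_ne_zero (by
    rw [hcard]; exact pow_ne_zero _ (Fact.out : p.Prime).ne_zero)
  have h1 := exists_sylow_not_normal hE
  have h2 := exists_sylow_not_normal_of_quotient _ h1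
  obtain ⟨hc, he, hK⟩ := core p hcard (F.autGroup H) h2
  refine ⟨⟨⟨⟨fun a b => hc a b⟩⟩, fun a ha => ?_⟩, hK⟩
  exact congrArg Subtype.val (he ⟨a, ha⟩)

end Cfsg.Agent.S5185
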