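import Cfsg.Statements.S5192
import Cfsg.Agent.Lib.Helper86Yoshida
import Cfsg.Agent.Lib.Helper86Act
import Cfsg.Agent.Lib.Helper86Focal
import Cfsg.Agent.Lib.Helper86Normal

set_option autoImplicit false
open Cfsg

namespace Cfsg.Agent.S5192

open Cfsg.FusionSystem Cfsg.Agent.Lib.Helper87Fusion Cfsg.Agent.Lib.Helper86Graph
  Cfsg.Agent.Lib.Helper86Biset Cfsg.Agent.Lib.Helper86Mono Cfsg.Agent.Lib.Helper86Stable
  Cfsg.Agent.Lib.Helper86Yoshida Cfsg.Agent.Lib.Helper86Eval Cfsg.Agent.Lib.Helper86Act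
  Cfsg.Agent.Lib.Helper86Fusion Cfsg.Agent.Lib.Helper86Fusion2 Cfsg.Agent.Lib.Helper86Normal MulAction

theorem zpow_mul_self {G : Type*} [Group G] (x : G) (m : ℤ) (hx : x * x = 1) :
    x ^ m * x ^ m = 1 := by
  rw [← zpow_add, ← two_mul, zpow_mul, zpow_two, hx, one_zpow]

theorem mem_zpowers_two {G : Type*} [Group G] {x y : G} (hx : x * x = 1) (hy : y ∈ Subgroup.zpowers x) :
    y = 1 ∨ y = x := by
  obtain ⟨k, rfl⟩ := hy
  rcases Int.even_or_odd k with ⟨m, rfl⟩ | ⟨m, rfl⟩
  · left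
    show x ^ (m + m) = 1
    rw [zpow_add, zpow_mul_self x m hx]
  · right
    show x ^ (2 * m + 1) = x
    rw [zpow_add, two_mul, zpow_add, zpow_mul_self x m hx, one_mul, zpow_one]

/-- A Thompson-type transfer for saturated fusion systems. Let F be a saturated fusion system on a finite 2-group S, T a subgroup of S of index 2, and i an involution of S such that every fully normalized F-conjugate of i lies in S but outside T. Then i does not lie in the hyperfocal subgroup of F (the Sylow group of the 2-residual subsystem). -/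
theorem result {Ω : Type*} [Group Ω] [Finite Ω] {S : Subgroup Ω}
    (hS : IsPGroup 2 ↥S) (F : Cfsg.FusionSystem S) (hF : F.IsSaturated 2)
    (T : Subgroup Ω) (hTS : T ≤ S) (hT : T.relIndex S = 2)
    (i : Ω) (hi : i ∈ S) (hi2 : orderOf i = 2)
    (h : ∀ j : Ω, F.IsConjElt i j → F.IsFullyNormalized (Subgroup.zpowers j) → j ∉ T) :
    i ∉ F.hyperfocalSubgroup 2 := by
  intro hihyp
  haveI : Fact (Nat.Prime 2) := ⟨Nat.prime_two⟩
  -- the fully normalized conjugate
  have hzS : Subgroup.zpowers i ≤ S := Subgroup.zpowers_le.2 hi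
  obtain ⟨Q, hQc, hQn⟩ := exists_fullyNormalized_conj F hzS
  obtain ⟨f, hf, hfQ⟩ := isConj_iff.1 hQc
  have hii : i * i = 1 := by rw [← pow_two, ← hi2, pow_orderOf_eq_one]
  have hi1 : i ≠ 1 := by
    intro h1
    rw [h1, orderOf_one] at hi2
    omega
  have him : i ∈ Subgroup.zpowers i := Subgroup.mem_zpowers i
  set i' : Ω := f i with hi'
  have hi'S : i' ∈ S := hf.mem him
  have hii' : i' * i' = 1 := by rw [hi', ← hf.map_mul him him, hii, hf.map_one]
  have hi'1 : i' ≠ 1 := by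
    intro h1
    apply hi1
    apply hf.inj him (Subgroup.one_mem _)
    rw [hf.map_one]; exact h1
  have hQz : Q = Subgroup.zpowers i' := by
    apply le_antisymm
    · intro y hy
      have hy' : y ∈ (Q : Set Ω) := hy
      rw [← hfQ] at hy'
      obtain ⟨u, hu, rfl⟩ := hy'
      rcases mem_zpowers_two hii hu with rfl | rfl
      · rw [hf.map_one]; exact Subgroup.one_mem _
      · exact Subgroup.mem_zpowers _
    · rw [Subgroup.zpowers_le]
      exact IsMap.mem_image hfQ him
  rw [hQz] at hQn hQc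
  have hi'T : i' ∉ T := h i' (isConjElt_iff.2 ⟨f, hf, rfl⟩) hQn
  -- the character
  let T' : Subgroup S := T.subgroupOf S
  have hT'i : T'.index = 2 := hT
  haveI hT'n : T'.Normal := Subgroup.normal_of_index_eq_two hT'i
  have hZ : Nat.card (Multiplicative (ZMod 2)) = 2 := by
    rw [Nat.card_congr Multiplicative.toAdd, Nat.card_zmod]
  let iso : (S ⧸ T') ≃* Multiplicative (ZMod 2) := mulEquivOfPrimeCardEq hT'i hZ
  let lam : S →* Multiplicative (ZMod 2) := iso.toMonoidHom.comp (QuotientGroup.mk' T')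
  have hlam : ∀ u : S, lam u = 1 ↔ (u : Ω) ∈ T := by
    intro u
    show iso (QuotientGroup.mk' T' u) = 1 ↔ _
    rw [map_eq_one_iff iso iso.injective]
    exact QuotientGroup.eq_one_iff u
  have hlam2 : ∀ a b : S, (a : Ω) ∉ T → (b : Ω) ∉ T → lam a = lam b := by
    intro a b ha hb
    have h1 : a⁻¹ * b ∈ T' := by
      rw [Subgroup.mul_mem_iff_of_index_two hT'i, inv_mem_iff]
      exact ⟨fun h => absurd h ha, fun h => absurd h hb⟩
    have h2 := (hlam (a⁻¹ * b)).2 h1
    rw [map_mul, map_inv, inv_mul_eq_one] at h2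
    exact h2
  have hTconj : ∀ a c : S, (a⁻¹ * c * a : S) ∈ T' → c ∈ T' := by
    intro a c hc
    have := hT'n.conj_mem _ hc a
    simpa [mul_assoc] using this
  -- the biset
  obtain ⟨X, _, _, hg, hst, hp⟩ := exists_charBiset hS F hF
  obtain ⟨γ, hγ⟩ : ∃ γ : X → S, Triv γ := exists_triv (fun a x h => free_of_graph hg h)
  let V : S →* Multiplicative (ZMod 2) :=
    MonoidHom.mk' (fun b => Cfsg.Agent.Lib.Helper86Mono.T lam γ (fun x : X => ((1 : S), b) • x))
    (fun b b' => T_rgt_mul lam ⊤ (fun d _ s => map_mul lam d s) hγ b b' (fun _ => Subgroup.mem_top _))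
  have hVst : ∀ (P : Subgroup Ω) (f : Ω → Ω), IsMap F P f → ∀ u : S, (u : Ω) ∈ P →
      V (lift f u) = V u := by
    intro P f hf u hu
    obtain ⟨e, he, heu⟩ := right_stable hst hf
    exact (T_eq_of_intertwine lam ⊤ (fun d _ s => map_mul lam d s) (fun d _ s => map_mul lam s d)
      hγ e he u (lift f u) (heu u hu) (fun _ => Subgroup.mem_top _) (fun _ => Subgroup.mem_top _)).symm
  have hVfoc : F.focalSubgroup ≤ V.ker.map S.subtype := by
    unfold focalSubgroup
    rw [Subgroup.closure_le]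
    rintro y ⟨P, φ, x, hφ, rfl⟩
    have hf := isMap_tot hφ
    have hxS : (x : Ω) ∈ S := hf.le x.2
    have h1 := hVst P _ hf ⟨x, hxS⟩ x.2
    refine ⟨(⟨x, hxS⟩ : S)⁻¹ * lift (tot φ) ⟨x, hxS⟩, ?_, ?_⟩
    · show V _ = 1
      rw [map_mul, map_inv, h1, inv_mul_cancel]
    · show (x : Ω)⁻¹ * ((lift (tot φ) ⟨x, hxS⟩ : S) : Ω) = _
      rw [lift_coe (hf.mem x.2)]
      show _ * tot φ (x : Ω) = _
      rw [tot_apply]
  have hVi : V ⟨i, hi⟩ = 1 := by
    have h1 : i ∈ F.focalSubgroup := by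
      rw [Cfsg.Agent.Lib.Helper86Focal.focal_eq hS F hF]
      exact (le_sup_left : F.hyperfocalSubgroup 2 ≤ _) hihyp
    obtain ⟨y, hy, hyz⟩ := hVfoc h1
    have : y = ⟨i, hi⟩ := Subtype.ext hyz
    rw [← this]; exact hy
  let x : S := ⟨i', hi'S⟩
  have hxx : x * x = 1 := Subtype.ext hii'
  have hVx : V x = 1 := by
    rw [← hVi, ← hVst _ f hf ⟨i, hi⟩ him]
    congr 1
    apply Subtype.ext
    rw [lift_coe (hf.mem him)]
  -- evaluation
  let 𝔅 : Set X := {w | ∀ a : S, (a, x) • w = w → (a : Ω) ∉ T}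
  have hinv1 : ∀ a b : S, b * x = x * b → ∀ w ∈ 𝔅, (a, b) • w ∈ 𝔅 := by
    intro a b hb w hw a' ha'
    have h1 : (a⁻¹ * a' * a, x) • w = w := by
      have h2 : ((a⁻¹ * a' * a, x) : S × S) = (a, b)⁻¹ * (a', x) * (a, b) := by
        ext
        · simp
        · simp only [Prod.snd_mul, Prod.snd_inv]
          rw [mul_assoc, ← hb, ← mul_assoc, inv_mul_cancel, one_mul]
      rw [h2, mul_smul, mul_smul, ha', inv_smul_smul]
    intro hT'
    exact hw _ h1 (by
      have h3 : a⁻¹ * a' * a ∈ T' := by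
        have := hT'n.conj_mem a' hT' a⁻¹
        simpa using this
      exact h3)
  have hinv2 : ∀ a b : S, b * x = x * b → ∀ w, w ∉ 𝔅 → (a, b) • w ∉ 𝔅 := by
    intro a b hb w hw hw'
    apply hw
    have h1 := hinv1 a⁻¹ b⁻¹ (by
      rw [eq_mul_inv_iff_mul_eq, mul_assoc, ← hb, ← mul_assoc, inv_mul_cancel, one_mul]) _ hw'
    rw [smul_smul] at h1
    have e1 : ((a⁻¹, b⁻¹) : S × S) * (a, b) = 1 := by
      ext <;> simp
    rwa [e1, one_smul] at h1
  have hcomm : ∀ b ∈ Subgroup.zpowers x, b * x = x * b := by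
    intro b hb
    rcases mem_zpowers_two hxx hb with rfl | rfl
    · simp
    · rfl
  have hev := eval_of_stab lam hγ x 𝔅 (fun a b hb w hw => hinv1 a b (hcomm b hb) w hw) (by
    intro w hw a b hb hfix
    rcases mem_zpowers_two hxx hb with rfl | rfl
    · rw [free_of_graph hg hfix]
    · exact hlam2 a x (hw a hfix) hi'T)
  have hVx' : V x = (lam x)⁻¹ ^ Nat.card {w : X0 γ // w.1 ∈ 𝔅} := by
    rw [← hev]
    apply finprod_congr
    intro w
    by_cases hw : w.1 ∈ 𝔅
    · rw [if_pos hw]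
    · rw [if_neg hw]
      have hw' : ∃ a : S, (a, x) • w.1 = w.1 ∧ (a : Ω) ∈ T := by
        by_contra hcon
        push Not at hcon
        exact hw hcon
      obtain ⟨a, ha, haT⟩ := hw'
      have h1 : ((1 : S), x) • w.1 = (a⁻¹, (1 : S)) • w.1 := by
        conv_rhs => rw [← ha]
        rw [smul_smul]
        simp
      show lam (γ (((1 : S), x) • w.1)) = 1
      rw [h1, hγ, w.2, mul_one, hlam]
      exact T.inv_mem haT
  -- parity
  let C : Subgroup S := (normalizerIn S (Subgroup.zpowers i')).subgroupOf S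
  have hCcomm : ∀ b ∈ C, b * x = x * b := by
    intro b hb
    have h1 : (b : Ω) * i' * (b : Ω)⁻¹ ∈ Subgroup.zpowers i' :=
      ((mem_normalizerIn.1 hb).2 i').1 (Subgroup.mem_zpowers i')
    rcases mem_zpowers_two hii' h1 with h2 | h2
    · exfalso
      apply hi'1
      have : i' = (b : Ω)⁻¹ * ((b : Ω) * i' * (b : Ω)⁻¹) * b := by group
      rw [this, h2]; group
    · apply Subtype.ext
      show (b : Ω) * i' = i' * b
      conv_rhs => rw [← h2]
      group
  have heven : 2 ∣ Nat.card {w : X0 γ // w.1 ∈ 𝔅ᶜ} := by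
    apply dvd_card_of_no_fixed (hS.to_subgroup C) hγ 𝔅ᶜ
      (fun a b hb w hw => hinv2 a b (hCcomm b hb) w hw)
    intro w hw
    by_contra hcon
    push Not at hcon
    have hw' : ∃ a : S, (a, x) • w = w ∧ (a : Ω) ∈ T := by
      by_contra hcon'
      push Not at hcon'
      exact hw hcon'
    obtain ⟨a, ha, haT⟩ := hw'
    obtain ⟨P, g, hgm, hE⟩ := hg w
    obtain ⟨hxP, hax⟩ := (hE (a, x)).1 ha
    have hxP' : i' ∈ P := hxP
    have hax' : (a : Ω) = g i' := hax
    have hNP : normalizerIn S (Subgroup.zpowers i') ≤ P := by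
      intro b hb
      obtain ⟨c, hc⟩ := hcon ⟨b, normalizerIn_le _ _ hb⟩ hb
      exact ((hE _).1 hc).1
    have hzP : Subgroup.zpowers i' ≤ P := Subgroup.zpowers_le.2 hxP'
    have himg : g '' (Subgroup.zpowers i' : Set Ω) = (Subgroup.zpowers (a : Ω) : Set Ω) := by
      have haa : (a : Ω) * a = 1 := by rw [hax', ← hgm.map_mul hxP' hxP', hii', hgm.map_one]
      ext y
      constructor
      · rintro ⟨u, hu, rfl⟩
        rcases mem_zpowers_two hii' hu with rfl | rfl
        · rw [hgm.map_one]; exact Subgroup.one_mem _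
        · rw [← hax']; exact Subgroup.mem_zpowers _
      · intro hy
        rcases mem_zpowers_two haa hy with rfl | rfl
        · exact ⟨1, Subgroup.one_mem _, hgm.map_one⟩
        · exact ⟨i', Subgroup.mem_zpowers _, hax'.symm⟩
    have hconj : F.IsConj (Subgroup.zpowers i') (Subgroup.zpowers (a : Ω)) :=
      isConj_iff.2 ⟨g, hgm.restrict hzP, himg⟩
    have hcard : Nat.card (normalizerIn S (Subgroup.zpowers i')) ≤
        Nat.card (normalizerIn S (Subgroup.zpowers (a : Ω))) := by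
      apply card_le_of_isMap (hgm.restrict hNP) (normalizerIn_le _ _)
      intro b hb
      have hbP := hNP hb
      have hbx : b * i' * b⁻¹ = i' := by
        have := hCcomm ⟨b, normalizerIn_le _ _ hb⟩ hb
        have h2 : b * i' = i' * b := congrArg Subtype.val this
        rw [h2]; group
      have hga : g b * a * (g b)⁻¹ = a := by
        rw [hax', ← hgm.map_inv hbP, ← hgm.map_mul hbP hxP', ← hgm.map_mul (P.mul_mem hbP hxP')
          (P.inv_mem hbP), hbx]
      rw [normalizerIn, Subgroup.mem_inf]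
      refine ⟨hgm.mem hbP, ?_⟩
      rw [Subgroup.mem_normalizer_iff]
      intro y
      constructor
      · rintro ⟨k, rfl⟩
        refine ⟨k, ?_⟩
        show (a : Ω) ^ k = _
        rw [← conj_zpow, hga]
      · rintro ⟨k, hk⟩
        refine ⟨k, ?_⟩
        have hk' : (a : Ω) ^ k = g b * y * (g b)⁻¹ := hk
        have h3 : y = (g b)⁻¹ * (g b * y * (g b)⁻¹) * g b := by group
        show (a : Ω) ^ k = y
        rw [h3, ← hk']
        conv_rhs => rw [← hga]
        rw [conj_zpow]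
        group
    have hfn : F.IsFullyNormalized (Subgroup.zpowers (a : Ω)) := by
      refine ⟨Subgroup.zpowers_le.2 a.2, fun Q' hQ' => ?_⟩
      exact (hQn.2 Q' (isConj_trans hconj hQ')).trans hcard
    refine h a ?_ hfn haT
    rw [isConjElt_iff]
    refine ⟨fun u => g (f u), hf.comp hgm (fun u hu => ?_), hax'.symm⟩
    rcases mem_zpowers_two hii hu with rfl | rfl
    · rw [hf.map_one]; exact P.one_mem
    · exact hxP'
  have hm : ¬ 2 ∣ Nat.card (X0 γ) := by
    intro hdvd
    apply hp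
    rw [← card_X0 hγ, mul_comm]
    exact Nat.mul_dvd_mul_left _ hdvd
  have hsum : Nat.card {w : X0 γ // w.1 ∈ 𝔅} + Nat.card {w : X0 γ // w.1 ∈ 𝔅ᶜ} = Nat.card (X0 γ) := by
    classical
    rw [← Nat.card_sum]
    exact Nat.card_congr (Equiv.sumCompl (fun w : X0 γ => w.1 ∈ 𝔅))
  have hodd : Odd (Nat.card {w : X0 γ // w.1 ∈ 𝔅}) := by
    rw [← Nat.not_even_iff_odd, even_iff_two_dvd]
    intro h1
    exact hm (hsum ▸ Nat.dvd_add h1 heven)
  obtain ⟨k, hk⟩ := hodd
  have hlx : lam x ≠ 1 := fun h1 => hi'T ((hlam x).1 h1)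
  have hl2 : (lam x)⁻¹ ^ 2 = 1 := by
    rw [inv_pow, ← map_pow, pow_two, hxx, map_one, inv_one]
  rw [hVx, hk, pow_succ, pow_mul, hl2, one_pow, one_mul] at hVx'
  apply hlx
  rw [← inv_inj, ← hVx', inv_one]

end Cfsg.Agent.S5192
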