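import Cfsg.Statements.S5198
import Cfsg.Agent.Lib.Helper88Quot
import Cfsg.Agent.Lib.Helper87Fusion2

set_option autoImplicit false
open Cfsg

namespace Cfsg.Agent.S5198

open Cfsg.FusionSystem Cfsg.Agent.Lib.Helper87Fusion Cfsg.Agent.Lib.Helper87Fusion2
  Cfsg.Agent.Lib.Helper88Normal Cfsg.Agent.Lib.Helper88Factor Cfsg.Agent.Lib.Helper88Quot
  Cfsg.Agent.Lib.Helper86Fusion Cfsg.Agent.Lib.Helper86Group

variable {Ω : Type*} [Group Ω] {S : Subgroup Ω}

/-- `x` acts on `T` as an element of the subgroup `A₀` of `Aut(T)` -/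
def Pred (T : Subgroup Ω) (A₀ : Subgroup (MulAut T)) (x : Ω) : Prop :=
  ∃ α ∈ A₀, ∀ t : T, ((α t : T) : Ω) = x * (t : Ω) * x⁻¹

theorem pred_one (T : Subgroup Ω) (A₀ : Subgroup (MulAut T)) : Pred T A₀ 1 :=
  ⟨1, A₀.one_mem, fun t => by simp⟩

theorem pred_mul {T : Subgroup Ω} {A₀ : Subgroup (MulAut T)} {x y : Ω} (hx : Pred T A₀ x)
    (hy : Pred T A₀ y) : Pred T A₀ (x * y) := by
  obtain ⟨α, hα, hαx⟩ := hx
  obtain ⟨β, hβ, hβy⟩ := hy
  refine ⟨α * β, A₀.mul_mem hα hβ, fun t => ?_⟩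
  show ((α (β t) : T) : Ω) = _
  rw [hαx, hβy]
  group

theorem pred_inv {T : Subgroup Ω} {A₀ : Subgroup (MulAut T)} {x : Ω} (hx : Pred T A₀ x) :
    Pred T A₀ x⁻¹ := by
  obtain ⟨α, hα, hαx⟩ := hx
  refine ⟨α⁻¹, A₀.inv_mem hα, fun t => ?_⟩
  have h := hαx (α⁻¹ t)
  have e : α (α⁻¹ t) = t := by simp
  rw [e] at h
  rw [h]
  group

theorem main [Finite S] (p : ℕ) [Fact p.Prime] (hS : IsPGroup p S) (F : Cfsg.FusionSystem S)
    (hF : F.IsSaturated p) (T : Subgroup Ω) (hT : F.StronglyClosed T) (P : Subgroup Ω) (hP : P ≤ S)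
    (α : F.autGroup P) (hα : Nat.Coprime (orderOf α) p) (x : P) :
    Pred T ((Cfsg.pResidual p ↥(F.autGroup T)).map (F.autGroup T).subtype ⊔ Cfsg.Inn ↥T)
      ((x : Ω)⁻¹ * (((α : MulAut P) x : P) : Ω)) := by
  classical
  have hp : p.Prime := Fact.out
  have ha : IsMap F P (totA (α : MulAut P)) := (mem_autGroup_iff_totA F hP _).1 α.2
  obtain ⟨g, hg, H⟩ := good hS hF hT ha
  set M := P ⊔ T with hM
  have hMS : M ≤ S := sup_le hP hT.1
  have : Finite M := finite_of_le hMS
  have hgM : ∀ z ∈ M, g z ∈ M := by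
    apply maps_sup hg
    · intro z hz
      have : g z = totA (α : MulAut P) z * ((totA (α : MulAut P) z)⁻¹ * g z) := by group
      rw [this]
      exact M.mul_mem (Subgroup.mem_sup_left (totA_mem _ hz)) (Subgroup.mem_sup_right (H z hz))
    · intro z hz
      exact Subgroup.mem_sup_right (sc_mem hT hg (Subgroup.mem_sup_right hz) hz)
  obtain ⟨γ, hγ, hγg⟩ := hg.exists_aut (image_eq_of_maps_to hg hgM)
  have hPM : P ≤ M := le_sup_left
  have hTM : T ≤ M := le_sup_right
  -- powers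
  have hγT : ∀ (i : ℕ) (t : M), (t : Ω) ∈ T → (((γ ^ i) t : M) : Ω) ∈ T := by
    intro i
    induction i with
    | zero => intro t ht; simpa using ht
    | succ i ih =>
      intro t ht
      rw [pow_succ', MulAut.mul_apply, hγg]
      exact sc_mem hT hg ((γ ^ i) t).2 (ih t ht)
  have hpow : ∀ (i : ℕ) (z : P), ((((α : MulAut P) ^ i) z : P) : Ω)⁻¹ *
      (((γ ^ i) ⟨z, hPM z.2⟩ : M) : Ω) ∈ T := by
    intro i
    induction i with
    | zero => intro z; simp [T.one_mem]
    | succ i ih =>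
      intro z
      rw [pow_succ', pow_succ', MulAut.mul_apply, MulAut.mul_apply]
      set u : P := ((α : MulAut P) ^ i) z with hu
      set v : M := (γ ^ i) ⟨z, hPM z.2⟩ with hv
      have h1 : (u : Ω)⁻¹ * (v : Ω) ∈ T := ih z
      have h2 : ((γ v : M) : Ω) = g u * g ((u : Ω)⁻¹ * v) := by
        rw [hγg, ← hg.map_mul (hPM u.2) (hTM h1)]
        congr 1
        group
      have h3 := H u u.2
      rw [totA_apply] at h3
      rw [h2, ← mul_assoc]
      exact T.mul_mem h3 (sc_mem hT hg (hTM h1) h1)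
  -- choose the exponent
  obtain ⟨k, r, hr, ho⟩ := Nat.exists_eq_pow_mul_and_not_dvd (orderOf_pos γ).ne' p hp.ne_one
  have hcop : Nat.Coprime (p ^ k) (orderOf α) := (Nat.Coprime.pow_left k hα.symm)
  obtain ⟨j, hj0, hj1⟩ := Nat.chineseRemainder hcop 0 1
  have hαj : (α : MulAut P) ^ j = (α : MulAut P) := by
    have : α ^ j = α ^ 1 := pow_eq_pow_iff_modEq.2 hj1
    rw [pow_one] at this
    exact congrArg Subtype.val this
  set γ' := γ ^ j with hγ'
  have hγ'r : γ' ^ r = 1 := by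
    rw [hγ', ← pow_mul]
    apply orderOf_dvd_iff_pow_eq_one.1
    rw [ho]
    exact Nat.mul_dvd_mul_right ((Nat.modEq_zero_iff_dvd).1 hj0) r
  have hγ'F : γ' ∈ F.autGroup M := Subgroup.pow_mem _ hγ j
  have hc : IsMap F M (totA γ') := (mem_autGroup_iff_totA F hMS _).1 hγ'F
  have hcT : ∀ t ∈ T, totA γ' t ∈ T := fun t ht => sc_mem hT hc (hTM ht) ht
  obtain ⟨β, hβ, hβc⟩ := (hc.restrict hTM).exists_aut (image_eq_of_maps_to (hc.restrict hTM) hcT)
  -- order of β
  have hβpow : ∀ (i : ℕ) (t : T), (((β ^ i) t : T) : Ω) = (((γ' ^ i) ⟨t, hTM t.2⟩ : M) : Ω) := by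
    intro i
    induction i with
    | zero => intro t; simp
    | succ i ih =>
      intro t
      rw [pow_succ', pow_succ', MulAut.mul_apply, MulAut.mul_apply, hβc, ih, totA_apply]
  have hβr : β ^ r = 1 := by
    ext t
    rw [hβpow, hγ'r]
    simp
  let βA : F.autGroup T := ⟨β, hβ⟩
  have hβA : βA ∈ Cfsg.pResidual p (F.autGroup T) := by
    apply Subgroup.subset_closure
    show Nat.Coprime (orderOf βA) p
    have h1 : orderOf βA ∣ r := by
      apply orderOf_dvd_of_pow_eq_one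
      exact Subtype.ext hβr
    exact Nat.Coprime.coprime_dvd_left h1 ((Nat.Prime.coprime_iff_not_dvd hp).mpr hr).symm
  -- conjugation by x on T
  have hxS : (x : Ω) ∈ S := hP x.2
  obtain ⟨cx, hcx, hcxx⟩ := exists_conjAut hxS (sc_le_normalizer hT hxS)
  let cA : F.autGroup T := ⟨cx, autInducedBy_le_autGroup F hT.1 hcx⟩
  have hn := pResidual_normal p (F.autGroup T)
  set y : Ω := (x : Ω)⁻¹ * totA γ' x with hy
  have hPy : Pred T ((Cfsg.pResidual p ↥(F.autGroup T)).map (F.autGroup T).subtype ⊔ Cfsg.Inn ↥T) y := by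
    refine ⟨cx⁻¹ * β * cx * β⁻¹, Subgroup.mem_sup_left ⟨cA⁻¹ * βA * cA⁻¹⁻¹ * βA⁻¹, ?_, ?_⟩, ?_⟩
    · exact Subgroup.mul_mem _ (hn.conj_mem _ hβA _) (Subgroup.inv_mem _ hβA)
    · simp [cA, βA]
    · intro t
      set t₁ := β⁻¹ t with ht₁
      have e1 : totA γ' t₁ = t := by
        rw [← hβc, ht₁]; simp
      show ((cx⁻¹ (β (cx t₁)) : T) : Ω) = _
      have e2 : ((β (cx t₁) : T) : Ω) = totA γ' x * t * (totA γ' x)⁻¹ := by
        rw [hβc, hcxx, hc.map_conj (hPM x.2) (hTM t₁.2), e1]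
      have e3 : ∀ w : T, ((cx⁻¹ w : T) : Ω) = (x : Ω)⁻¹ * w * x := by
        intro w
        have h := hcxx (cx⁻¹ w)
        have e : cx (cx⁻¹ w) = w := by simp
        rw [e] at h
        rw [h]; group
      rw [e3, e2, hy]
      group
  have ht₀ : (totA γ' x)⁻¹ * (((α : MulAut P) x : P) : Ω) ∈ T := by
    have h1 := hpow j x
    rw [hαj] at h1
    have h2 := T.inv_mem h1
    rw [mul_inv_rev, inv_inv] at h2
    rw [totA_of_mem _ (hPM x.2)]
    exact h2
  have hPt : Pred T ((Cfsg.pResidual p ↥(F.autGroup T)).map (F.autGroup T).subtype ⊔ Cfsg.Inn ↥T)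
      ((totA γ' x)⁻¹ * (((α : MulAut P) x : P) : Ω)) :=
    ⟨MulAut.conj ⟨_, ht₀⟩, Subgroup.mem_sup_right ⟨_, rfl⟩, fun t => rfl⟩
  have := pred_mul hPy hPt
  have e : y * ((totA γ' x)⁻¹ * (((α : MulAut P) x : P) : Ω)) =
      (x : Ω)⁻¹ * (((α : MulAut P) x : P) : Ω) := by
    rw [hy]; group
  rwa [e] at this

/-- Let F be a saturated fusion system over a finite p-group S and T a subgroup of S strongly closed in F (so T is normal in S). Then every element x of the hyperfocal subgroup of F acts on T by conjugation as an element of O^p(Aut_F(T))·Inn(T): there is an automorphism of T in the subgroup generated by the elements of Aut_F(T) of order prime to p together with the inner automorphisms of T that agrees with conjugation by x. -/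
theorem result {Ω : Type*} [Group Ω] {S : Subgroup Ω} [Finite S] (p : ℕ) [Fact p.Prime] (hS : IsPGroup p S) (F : Cfsg.FusionSystem S) (hF : F.IsSaturated p) (T : Subgroup Ω) (hT : F.StronglyClosed T) : ∀ x ∈ F.hyperfocalSubgroup p, ∃ α ∈ ((Cfsg.pResidual p ↥(F.autGroup T)).map (F.autGroup T).subtype ⊔ Cfsg.Inn ↥T : Subgroup (MulAut ↥T)), ∀ t : ↥T, ((α t : ↥T) : Ω) = x * (t : Ω) * x⁻¹ := by
  intro x hx
  show Pred T _ x
  unfold FusionSystem.hyperfocalSubgroup at hx
  induction hx using Subgroup.closure_induction with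
  | mem y hy =>
    obtain ⟨P, α, z, hP, hα, rfl⟩ := hy
    revert z
    unfold Cfsg.pResidual at hα
    induction hα using Subgroup.closure_induction with
    | mem a ha => exact fun z => main p hS F hF T hT P hP a ha z
    | one => intro z; simpa using pred_one T _
    | mul a b _ _ iha ihb =>
      intro z
      have h1 := ihb z
      have h2 := iha ((b : MulAut P) z)
      have := pred_mul h1 h2
      have e : ((z : Ω)⁻¹ * (((b : MulAut P) z : P) : Ω)) * ((((b : MulAut P) z : P) : Ω)⁻¹ *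
          (((a : MulAut P) ((b : MulAut P) z) : P) : Ω)) =
          (z : Ω)⁻¹ * ((((a * b : F.autGroup P) : MulAut P) z : P) : Ω) := by
        show _ = (z : Ω)⁻¹ * (((a : MulAut P) ((b : MulAut P) z) : P) : Ω)
        group
      rwa [e] at this
    | inv a _ iha =>
      intro z
      have h1 := pred_inv (iha ((a : MulAut P)⁻¹ z))
      have e : (a : MulAut P) ((a : MulAut P)⁻¹ z) = z := by simp
      rw [e, mul_inv_rev, inv_inv] at h1
      exact h1
  | one => exact pred_one T _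
  | mul a b _ _ iha ihb => exact pred_mul iha ihb
  | inv a _ iha => exact pred_inv iha

end Cfsg.Agent.S5198
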