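import Cfsg.Statements.S5206
import Cfsg.Agent.Lib.Helper88QdFree
import Cfsg.Agent.Lib.Helper87NormSys

set_option autoImplicit false
universe u
open Cfsg

namespace Cfsg.Agent.S5206

open Cfsg.FusionSystem Cfsg.Agent.Lib.Helper24Section Cfsg.Agent.Lib.Helper88QdSec
  Cfsg.Agent.Lib.Helper87Sylow Cfsg.Agent.Lib.Helper87Fusion Cfsg.Agent.Lib.Helper87Fusion3
  Cfsg.Agent.Lib.Helper87Realized Cfsg.Agent.Lib.Helper87GroupFusion
  Cfsg.Agent.Lib.Helper88QdFree

theorem sectionFree_of_not_involves {G : Type u} [Group G] [Finite G] {p : ℕ} [Fact p.Prime]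
    (P : Sylow p G) {H : Type*} [Group H] (h : ¬ Involves H G) :
    (groupFusionSystem (P : Subgroup G)).IsSectionFree p H := by
  intro Q hfn hc N hN L _ ι hL hinv
  have hcQ : centralizerIn (P : Subgroup G) Q ≤ Q := hc.2 Q (isConj_refl _ hc.1)
  obtain ⟨hsat, hM⟩ := normSys_model P hfn hcQ hN
  obtain ⟨φ, -⟩ := Cfsg.Agent.Lib.Helper90ModelUnique.model_unique (isPGroup_normalizerIn P Q)
    hsat hL hM
  apply h
  exact Involves.trans hinv (Involves.trans (involves_of_equiv φ.symm (involves_self _))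
    (Involves.trans (involves_quotient _) (involves_subgroup _)))

theorem not_involves_of_sectionFree {G : Type u} [Group G] [Finite G] {p : ℕ} [Fact p.Prime]
    (hp : p ≠ 2) (P : Sylow p G)
    (hfree : (groupFusionSystem (P : Subgroup G)).IsSectionFree p ↥(qd p)) :
    ¬ Involves ↥(qd p) G := by
  intro hinv
  obtain ⟨Q, Z, s, t, v, w, hQ, hD⟩ := exists_qdata hinv
  obtain ⟨Q₁, M, s', t', hsyl, hcM, hD₁⟩ := exists_centric hQ hD
  obtain ⟨g₁, hg₁⟩ := exists_conj_le_sylow P hsyl.isPGroup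
  obtain ⟨g₂, hg₂, hsylN⟩ := exists_conj_sylIn_normalizer P hg₁
  rw [cj_cj] at hg₂ hsylN
  set g := g₂ * g₁ with hg
  have hD₂ := hD₁.map_injective (MulAut.conj g).toMonoidHom (MulAut.conj g).injective
  set Q₂ := cj g Q₁ with hQ₂
  have hsyl₂ : SylIn p Q₂ (cj g M) := hsyl.conj g
  have hcM₂ : Subgroup.centralizer (Q₂ : Set G) ≤ cj g M := by
    rw [← cj_centralizer]; exact cj_mono hcM
  have hfn : (groupFusionSystem (P : Subgroup G)).IsFullyNormalized Q₂ :=
    (fullyNormalized_iff P hg₂).2 hsylN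
  have hcen : (groupFusionSystem (P : Subgroup G)).IsCentric Q₂ := by
    refine ⟨hg₂, fun Q' hQ' => ?_⟩
    obtain ⟨-, hQ'P, a, rfl⟩ := isConj_group_iff.1 hQ'
    have h1 : SylIn p (cj a Q₂) (cj a (cj g M)) := hsyl₂.conj a
    have h2 : Subgroup.centralizer ((cj a Q₂ : Subgroup G) : Set G) ≤ cj a (cj g M) := by
      rw [← cj_centralizer]; exact cj_mono hcM₂
    have h3 : cj a Q₂ = cj a Q₂ ⊔ centralizerIn (P : Subgroup G) (cj a Q₂) :=
      h1.eq_of_le le_sup_left (sup_le h1.1 ((centralizerIn_le_centralizer _ _).trans h2))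
        (P.2.to_le (sup_le hQ'P (centralizerIn_le _ _)))
    calc centralizerIn (P : Subgroup G) (cj a Q₂)
        ≤ cj a Q₂ ⊔ centralizerIn (P : Subgroup G) (cj a Q₂) := le_sup_right
      _ = cj a Q₂ := h3.symm
  have hN := Cfsg.Agent.Lib.Helper87NormSys.normData_isNormalizerSystem
    (groupFusionSystem (P : Subgroup G)) Q₂ hg₂
  obtain ⟨-, hM⟩ := normSys_model P hfn (hcen.2 Q₂ (isConj_refl _ hg₂)) hN
  apply hfree Q₂ hfn hcen _ hN _ _ hM
  set X := Subgroup.normalizer (Q₂ : Set G) with hX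
  have hS := hD₂.sec.restrict X hD₂.hs hD₂.ht (Subgroup.le_normalizer hD₂.hv)
    (Subgroup.le_normalizer hD₂.hw)
  have hS' := hS.map (QuotientGroup.mk' (pPrimeCore p X)) (by
    rintro ⟨z, hz, hzv⟩
    apply hS.hv1
    have h1 := (QuotientGroup.eq).1 hzv
    have h2 : IsPGroup p (Q₂.subgroupOf X) :=
      (hsyl₂.isPGroup).comap_of_injective X.subtype X.subtype_injective
    have h3 := Cfsg.Agent.Lib.Helper87ModelQ.eq_one_of_isPGroup_of_coprime h2
      (Cfsg.Agent.Lib.Helper14CoreB.card_pPrimeCore_coprime (G := X) p)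
      (Subgroup.mul_mem _ (Subgroup.inv_mem _
        (Subgroup.mem_subgroupOf.2 (hD₂.hZ (Subgroup.mem_subgroupOf.1 hz))))
        (Subgroup.mem_subgroupOf.2 hD₂.hv)) h1
    rw [inv_mul_eq_one] at h3
    rw [← h3]; exact hz)
  exact hS'.involves hp

/-- Let p be an odd prime, G a finite group and P a Sylow p-subgroup of G. Then the fusion system of G on P is Qd(p)-free (Qd(p), the natural semidirect product of an elementary abelian group of order p² by SL₂(p), is not involved in any model of the normalizer system of a fully normalized centric subgroup) if and only if Qd(p) is not involved in G. -/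
theorem result {G : Type u} [Group G] [Finite G] {p : ℕ} [Fact p.Prime] (hp : p ≠ 2) (P : Sylow p G) : (Cfsg.groupFusionSystem (P : Subgroup G)).IsSectionFree p ↥(Cfsg.qd p) ↔ ¬ Cfsg.Involves ↥(Cfsg.qd p) G := by
  exact ⟨not_involves_of_sectionFree hp P, sectionFree_of_not_involves P⟩

end Cfsg.Agent.S5206
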