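import Cfsg.Statements.S5235
import Cfsg.Agent.Lib.Helper89Normal
import Cfsg.Agent.Lib.Helper3MetaFus

set_option autoImplicit false
open Cfsg

namespace Cfsg.Agent.S5235

open Cfsg Cfsg.FusionSystem Cfsg.Agent.Lib.Helper87Fusion Cfsg.Agent.Lib.Helper86Group
  Cfsg.Agent.Lib.Helper86Fusion Cfsg.Agent.Lib.Helper86Fusion2 Cfsg.Agent.Lib.Helper86Fusion3
  Cfsg.Agent.Lib.Helper86Series Cfsg.Agent.Lib.Helper86Sub Cfsg.Agent.Lib.Helper86Normal
  Cfsg.Agent.Lib.Helper89Fusion2 Cfsg.Agent.Lib.Helper89Normal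
open Cfsg.Agent.Lib.Helper87Fusion3 hiding pCore_normal pCore_isPGroup le_pCore

/-- Let F be a saturated fusion system over a finite 2-group S (p = 2) and P a metacyclic subgroup of S strongly closed in F that is not dihedral, not semidihedral and not generalized quaternion (here the group of order 2, the Klein four-group and the cyclic group of order 4 also count as excluded). Then P is normal in F. -/
theorem result {Ω : Type*} [Group Ω] {S : Subgroup Ω} [Finite S] (p : ℕ) [Fact p.Prime] (hS : IsPGroup p S) (F : Cfsg.FusionSystem S) (hF : F.IsSaturated p) (P : Subgroup Ω) (hP : F.StronglyClosed P) (hp : p = 2) (hm : Cfsg.IsMetacyclic ↥P) (hd : ¬ ∃ m : ℕ, Nonempty (↥P ≃* DihedralGroup m)) (hq : ¬ ∃ m : ℕ, Nonempty (↥P ≃* QuaternionGroup m)) (hsd : ¬ Cfsg.IsQuasiDihedral ↥P) : F.IsNormal P := by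
  subst hp
  have hPS := hP.1
  haveI : Finite P := finite_of_le hPS
  have hnm : ¬ Cfsg.Agent.Lib.Helper3MetaTwo.MaxClassTwo ↥P := by
    rintro (h | h | h)
    · exact hd h
    · exact hq h
    · exact hsd h
  refine normal_of_conj_mem_pCore hS hF hP (fun R hc hr hfn g hgP hgN r hrA hgr => ?_)
  have hRS := hc.1
  haveI : Finite R := finite_of_le hRS
  have hcen : centralizerIn S R ≤ R := hc.2 R (isConj_refl F hRS)
  refine Cfsg.Agent.Lib.Helper3MetaFus.core P R (hS.to_le hPS) (hS.to_le hRS) hm hnm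
    (fun x hx y hy => StronglyClosed_conj_mem hP (hRS hx) hy) (F.autGroup R) ?_ ?_ g hgP r hrA hgr
  · intro γ hγ x hx
    have hg : IsMap F R (tot (R.subtype.comp γ.toMonoidHom)) :=
      isMap_tot ((mem_autGroup_iff F hRS γ).1 hγ)
    have := StronglyClosed_mem hP hg x.2 hx
    rwa [tot_apply] at this
  · intro h hh ρ _ hρ hmem
    by_contra hhR
    rw [hr.2] at hmem
    exact conjAut_not_mem_inn hcen (hPS hh) hhR hRS hρ hmem

end Cfsg.Agent.S5235
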