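import Cfsg.Statements.S5212
import Cfsg.Agent.Lib.Helper86Fusion4
import Cfsg.Agent.Lib.Helper86Sub
import Cfsg.Agent.S5235

set_option autoImplicit false
open Cfsg

namespace Cfsg.Agent.S5212

open Cfsg Cfsg.FusionSystem Cfsg.Agent.Lib.Helper87Fusion Cfsg.Agent.Lib.Helper86Group
  Cfsg.Agent.Lib.Helper86Fusion Cfsg.Agent.Lib.Helper86Fusion2 Cfsg.Agent.Lib.Helper86Fusion3
  Cfsg.Agent.Lib.Helper86Alperin Cfsg.Agent.Lib.Helper86Fusion4 Cfsg.Agent.Lib.Helper86Sub

/-- a product of two copies as a function space on `Fin 2`. -/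
def prodEquiv (m : ℕ) :
    Multiplicative (ZMod m) × Multiplicative (ZMod m) ≃* Multiplicative (Fin 2 → ZMod m) :=
  { toFun := fun p => Multiplicative.ofAdd ![Multiplicative.toAdd p.1, Multiplicative.toAdd p.2]
    invFun := fun f => (Multiplicative.ofAdd (Multiplicative.toAdd f 0),
      Multiplicative.ofAdd (Multiplicative.toAdd f 1))
    left_inv := fun p => rfl
    right_inv := fun f => by
      apply Multiplicative.toAdd.injective
      funext i
      fin_cases i <;> rfl
    map_mul' := fun p q => by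
      apply Multiplicative.toAdd.injective
      funext i
      fin_cases i <;> rfl }

/-- Let S be a finite metacyclic 2-group that is not homocyclic abelian (a direct product of cyclic groups of one common order), not dihedral, not semidihedral and not generalized quaternion. Then every saturated fusion system over S is the inner fusion system of S. -/
theorem result {Ω : Type*} [Group Ω] {S : Subgroup Ω} [Finite S] (hS : IsPGroup 2 S) (F : Cfsg.FusionSystem S) (hF : F.IsSaturated 2) (hm : Cfsg.IsMetacyclic ↥S) (hh : ¬ ∃ n k : ℕ, Nonempty (↥S ≃* Multiplicative (Fin k → ZMod (2 ^ n)))) (hd : ¬ ∃ m : ℕ, Nonempty (↥S ≃* DihedralGroup m)) (hq : ¬ ∃ m : ℕ, Nonempty (↥S ≃* QuaternionGroup m)) (hsd : ¬ Cfsg.IsQuasiDihedral ↥S) : ∀ P : Subgroup Ω, F.Hom P = (Cfsg.innerFusionSystem S).Hom P := by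
  haveI : Fact (Nat.Prime 2) := ⟨Nat.prime_two⟩
  have hsc : F.StronglyClosed S := ⟨le_rfl, fun R _ φ hφ x => (F.le_of_mem hφ).2 x⟩
  have hN : F.IsNormal S := Cfsg.Agent.S5235.result 2 hS F hF S hsc rfl hm hd hq hsd
  have hAut : IsPGroup 2 (MulAut S) := by
    by_contra hA
    rcases Cfsg.Agent.Lib.Helper3MetaAut.main hS hm hA with h | ⟨n, ⟨e⟩⟩
    · exact hq ⟨2, h⟩
    · exact hh ⟨n, 2, ⟨e.trans (prodEquiv (2 ^ n))⟩⟩
  have hAS : IsPGroup 2 (F.autGroup S) := hAut.to_subgroup _
  have key : F = innerFusionSystem S := by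
    apply fusionSystem_le_antisymm _ (inner_le F)
    apply alperin hS F hF
    rintro P (rfl | hP)
    · obtain ⟨-, ⟨-, R, hR⟩, -⟩ := saturated_fullyNormalized hS hF (fullyNormalized_self F)
      have hRtop : (⊤ : Subgroup (F.autGroup P)) = R :=
        R.is_maximal' (hAS.to_subgroup _) le_top
      intro α hα
      have h1 : (⟨α, hα⟩ : F.autGroup P) ∈ (R : Subgroup (F.autGroup P)) := by
        rw [← hRtop]; trivial
      rw [hR, Subgroup.mem_subgroupOf] at h1
      exact autInducedBy_le_autGroup _ le_rfl h1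
    · exfalso
      have hle : S ≤ P := normal_le_centric_radical hS F hN hP.1 (essential_radical hS F P hP)
      have hPS : P = S := le_antisymm hP.1.1 hle
      subst hPS
      exact not_essential_of_isPGroup F hAS hP
  intro P
  rw [key]

end Cfsg.Agent.S5212
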