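import Cfsg.Statements.S5220
import Cfsg.Agent.Lib.Helper90Gen

set_option autoImplicit false
open Cfsg

namespace Cfsg.Agent.S5220

/-- Let F be a saturated fusion system over a nontrivial finite p-group S, let J(S) be the subgroup generated by the abelian subgroups of S of largest order, and let V be the subgroup generated by the p-th powers of the elements of Z(S). Then F is generated by the centralizer fusion system of V and the normalizer fusion system of J(S): every fusion system over S containing the maps of both contains every map of F. -/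
theorem result {Ω : Type*} [Group Ω] {S : Subgroup Ω} [Finite S] (p : ℕ) [Fact p.Prime] (hS : IsPGroup p S) (F : Cfsg.FusionSystem S) (hF : F.IsSaturated p) (hS1 : S ≠ ⊥) (C : Cfsg.FusionSystem (Cfsg.FusionSystem.centralizerIn S (Cfsg.powerClosure p 1 (S ⊓ Subgroup.centralizer (S : Set Ω))))) (hC : F.IsCentralizerSystem (Cfsg.powerClosure p 1 (S ⊓ Subgroup.centralizer (S : Set Ω))) C) (N : Cfsg.FusionSystem (Cfsg.FusionSystem.normalizerIn S (Cfsg.thompsonSubgroupAOf S))) (hN : F.IsNormalizerSystem (Cfsg.thompsonSubgroupAOf S) N) (E : Cfsg.FusionSystem S) (hCE : C.IsSubsystemOf E) (hNE : N.IsSubsystemOf E) : F.IsSubsystemOf E := by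
  have hVZ : Cfsg.Agent.Lib.Helper90Gen.VV p S ≤ S ⊓ Subgroup.centralizer (S : Set Ω) := by
    show Subgroup.closure _ ≤ _
    rw [Subgroup.closure_le]
    rintro y ⟨x, hx, rfl⟩
    exact Subgroup.pow_mem _ hx _
  have hcen : ∀ x ∈ S, x ∈ Cfsg.FusionSystem.centralizerIn S (Cfsg.Agent.Lib.Helper90Gen.VV p S) := by
    intro x hx
    rw [Cfsg.Agent.Lib.Helper87Fusion.mem_centralizerIn]
    exact ⟨hx, fun v hv => ((hVZ hv).2 x hx).symm⟩
  have hC' : Cfsg.Agent.Lib.Helper90Gen.HC p F E := by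
    intro P f hf ⟨f', hf', h1, h2⟩
    obtain ⟨φ, hφ, h⟩ := (Cfsg.Agent.Lib.Helper87Fusion3.isMap_centralizer_iff hC).2
      ⟨hf, fun x hx => hcen x (hf.le hx), fun x hx => hcen _ (hf.mem hx), f', hf', h1, h2⟩
    exact ⟨φ, hCE P hφ, h⟩
  have hN' : Cfsg.Agent.Lib.Helper90Gen.HN F E (Cfsg.Agent.Lib.Helper90Gen.JJ S) := by
    intro P f hf hP hfP hex
    obtain ⟨φ, hφ, h⟩ := (Cfsg.Agent.Lib.Helper87Fusion3.isMap_normalizer_iff hN).2 ⟨hf, hP, hfP, hex⟩
    exact ⟨φ, hNE P hφ, h⟩
  intro P φ hφ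
  exact Cfsg.Agent.Lib.Helper87Fusion.mem_hom_iff.2
    (Cfsg.Agent.Lib.Helper90Gen.generated hS hF hC' hN' P _ (Cfsg.Agent.Lib.Helper87Fusion.isMap_tot hφ))

end Cfsg.Agent.S5220
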