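import Cfsg.Statements.S5243
import Cfsg.Agent.Lib.Helper89GT
import Cfsg.Agent.Lib.H12YWStep
import Cfsg.Agent.Lib.H12YHConj
import Cfsg.Agent.Lib.H12YStar
import Cfsg.Agent.Lib.H12YKBasic
import Cfsg.Agent.Lib.H12YKExt
import Cfsg.Agent.Lib.H12YKFrat
import Cfsg.Agent.Lib.H12YKInvar
import Cfsg.Agent.Lib.H12YMkC
import Cfsg.Agent.Lib.H12YELe
import Cfsg.Agent.Lib.H12YAut
import Cfsg.Agent.Lib.H12YProper

set_option autoImplicit false
open Cfsg

namespace Cfsg.Agent.S5243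

/-- Let F be a saturated fusion system over a finite p-group S, E a normal subsystem of F over T ≤ S, and χ a surjective homomorphism from Aut_F(T) onto a nontrivial finite group Δ of order prime to p whose kernel contains Aut_E(T). Then there is a proper normal subsystem F₀ of F over S containing E such that Aut_{F₀}(S) consists of those α ∈ Aut_F(S) whose restriction to T is an element of Aut_F(T) in the kernel of χ; moreover every p'-residual subsystem O^{p'}(F) of F is contained in F₀. -/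
theorem result {Ω : Type*} [Group Ω] {S : Subgroup Ω} [Finite S] (p : ℕ) [Fact p.Prime] (hS : IsPGroup p S) (F : Cfsg.FusionSystem S) (hF : F.IsSaturated p) {T : Subgroup Ω} (hTS : T ≤ S) (E : Cfsg.FusionSystem T) (hE : E.IsNormalIn F p) {Δ : Type*} [Group Δ] [Finite Δ] [Nontrivial Δ] (hΔ : (Nat.card Δ).Coprime p) (χ : ↥(F.autGroup T) →* Δ) (hχ : Function.Surjective χ) (hker : (E.autGroup T).subgroupOf (F.autGroup T) ≤ χ.ker) : ∃ F₀ : Cfsg.FusionSystem S, F₀.IsNormalIn F p ∧ ¬ (∀ P : Subgroup Ω, F₀.Hom P = F.Hom P) ∧ E.IsSubsystemOf F₀ ∧ (∀ α : MulAut ↥S, α ∈ F₀.autGroup S ↔ α ∈ F.autGroup S ∧ ∃ β : ↥(F.autGroup T), χ β = 1 ∧ ∀ t : ↥T, (((β : MulAut ↥T) t : ↥T) : Ω) = ((α ⟨(t : Ω), hTS t.2⟩ : ↥S) : Ω)) ∧ ∀ R : Cfsg.FusionSystem S, F.IsPPrimeResidual p R → R.IsSubsystemOf F₀ := by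
  open Cfsg.Agent.Lib Cfsg.Agent.Lib.H12YDefs Cfsg.Agent.Lib.Helper87Fusion in
  obtain ⟨c, h, hlink⟩ := H12YMkC.exists_c hS hE hΔ χ hχ hker
  have hW : WP F E c 0 := H12YWStep.w h
  have : Finite T := h.finT
  obtain ⟨F₀, hsat, hnor, hidx, hF₀, -⟩ := Helper89GT.gt hS F hF (H S E) (K F E c)
    (fun P hP => hP.1)
    (fun P hP Q hc => H12YHConj.conj_mem_H h.hinv hP hc)
    (fun P hP Q hPQ hQ => H12YInf.over_mem_H hP hPQ hQ)
    (H12YInf.top_mem_H hTS)
    (fun P hP => H12YStar.ess_mem_H hS hF hE hP)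
    (fun P f g hfg hf => H12YKBasic.k_congr hfg hf)
    (fun P g _ hg => H12YKBasic.k_conj h hg)
    (fun P Q f g hf _ hfQ h1 h2 => H12YKBasic.k_comp h hf hfQ h1 h2)
    (fun P Q f g hf hQ _ hg h1 => H12YKBasic.k_inv h hf hQ hg h1)
    (fun P P' f hP hPP' hf hK => H12YKExt.k_ext h hW hP hPP' hf hK)
    (fun P f _ hf => H12YKFrat.k_frat h hf)
    (fun P P' a a' f ha ha' hh hP' hf hK => H12YKInvar.k_invar h ha ha' hh hP' hf hK)
    (fun P hP hPH => H12YStar.star hS hF hE hP hPH)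
  exact ⟨F₀, hnor, H12YProper.proper h hW hF₀, H12YELe.e_le h hF₀,
    fun α => H12YAut.aut_iff h hW hTS χ hlink hF₀ α,
    fun R hR => hR.2.2 F₀ hsat hidx⟩

end Cfsg.Agent.S5243
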