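import Cfsg.Statements.S5270
import Cfsg.Agent.Lib.Helper89MaxCl
import Cfsg.Agent.Lib.Helper89HType

set_option autoImplicit false
open Cfsg

namespace Cfsg.Agent.S5270

open Cfsg.FusionSystem Cfsg.Agent.Lib.Helper87Fusion Cfsg.Agent.Lib.Helper86Group
  Cfsg.Agent.Lib.Helper86Fusion Cfsg.Agent.Lib.Helper86Fusion2 Cfsg.Agent.Lib.Helper86Fusion3
  Cfsg.Agent.Lib.Helper86Fusion4 Cfsg.Agent.Lib.Helper86Sub
  Cfsg.Agent.Lib.Helper87Fusion2
  Cfsg.Agent.Lib.Helper89Fusion Cfsg.Agent.Lib.Helper89Fusion2 Cfsg.Agent.Lib.Helper89HType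
  Cfsg.Agent.Lib.Helper89MaxCl
open Cfsg.Agent.S5234 (receptive_of_conj)

theorem aux {Ω : Type*} [Group Ω] {S : Subgroup Ω} [Finite S] (p : ℕ) [Fact p.Prime] (hS : IsPGroup p ↥S) (n : ℕ) (hn : Nat.card S = p ^ n) (h4 : 4 ≤ n) (hmax : Subgroup.lowerCentralSeries S (n - 2) ≠ ⊥) (F : Cfsg.FusionSystem S) (hF : F.IsSaturated p) (Z₂ : Subgroup Ω) (hZ₂ : Z₂ = (Subgroup.upperCentralSeries ↥S 2).map S.subtype) (φ : ↥Z₂ →* Ω) (hφ : φ ∈ F.Hom Z₂) (hφZ : φ.range = Z₂) (hmove : ∃ (z : Ω) (hz : z ∈ Z₂), z ∈ ((Subgroup.center ↥S).map S.subtype) ∧ φ ⟨z, hz⟩ ∉ ((Subgroup.center ↥S).map S.subtype)) : F.IsEssential p (S ⊓ Subgroup.centralizer (Z₂ : Set Ω)) := by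
  have hpp : p.Prime := Fact.out
  have hnil : Group.IsNilpotent ↥S := hS.isNilpotent
  have hcl : n - 1 ≤ Group.nilpotencyClass ↥S := by
    by_contra hcon
    push Not at hcon
    apply hmax
    have : Group.nilpotencyClass ↥S ≤ n - 2 := by omega
    exact Subgroup.lowerCentralSeries_eq_bot_of_nilpotencyClass_le this
  obtain ⟨Z, hZ⟩ : ∃ Z, Z = (Subgroup.center ↥S).map S.subtype := ⟨_, rfl⟩
  obtain ⟨z, hz, hzZ, hφz⟩ := hmove
  rw [← hZ] at hzZ hφz
  have hZ₂S : Z₂ ≤ S := by rw [hZ₂]; exact Subgroup.map_subtype_le _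
  have hZ' : ∀ x, x ∈ Z ↔ x ∈ S ∧ ∀ s ∈ S, s * x = x * s := by
    intro x
    rw [hZ]
    constructor
    · rintro ⟨x', hx', rfl⟩
      exact ⟨x'.2, fun s hs => congrArg Subtype.val (Subgroup.mem_center_iff.1 hx' ⟨s, hs⟩)⟩
    · rintro ⟨hxS, hx⟩
      exact ⟨⟨x, hxS⟩, Subgroup.mem_center_iff.2 fun g => Subtype.ext (hx g g.2), rfl⟩
  have hrange : ∀ x : Z₂, φ x ∈ Z₂ := fun x => hφZ.le ⟨x, rfl⟩
  have ht : φ ⟨z, hz⟩ ∈ Z₂ := hrange _
  obtain ⟨t', ht', htt'⟩ := hZ₂.le ht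
  have ht'Z : t' ∉ Subgroup.center ↥S := fun h => hφz (by rw [hZ]; exact ⟨t', h, htt'⟩)
  have hidx := index_centralizer hn h4 hcl ht' ht'Z
  obtain ⟨C, hC⟩ : ∃ C, C = centralizerIn S Z₂ := ⟨_, rfl⟩
  show F.IsEssential p (centralizerIn S Z₂)
  rw [← hC]
  have hCS : C ≤ S := by rw [hC]; exact centralizerIn_le _ _
  have hCsub : C.subgroupOf S =
      Subgroup.centralizer ((Subgroup.upperCentralSeries ↥S 2 : Subgroup ↥S) : Set ↥S) := by
    ext s
    rw [Subgroup.mem_subgroupOf, hC, mem_centralizerIn, Subgroup.mem_centralizer_iff]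
    constructor
    · rintro ⟨-, h⟩ u hu
      exact Subtype.ext (h u (by rw [hZ₂]; exact ⟨u, hu, rfl⟩))
    · intro h
      refine ⟨s.2, fun u hu => ?_⟩
      rw [hZ₂] at hu
      obtain ⟨u', hu', rfl⟩ := hu
      exact congrArg Subtype.val (h u' hu')
  have hrel : C.relIndex S = p := by
    show (C.subgroupOf S).index = p
    rw [hCsub]; exact hidx
  have hCne : C ≠ S := by
    intro h
    rw [h, Subgroup.relIndex_self] at hrel
    exact hpp.one_lt.ne hrel
  have hClt : C < S := lt_of_le_of_ne hCS hCne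
  have hmaxl : ∀ Q : Subgroup Ω, C < Q → Q ≤ S → Q = S := by
    intro Q hCQ hQS
    have h1 := Subgroup.relIndex_mul_relIndex C Q S hCQ.le hQS
    rw [hrel] at h1
    have h2 : C.relIndex Q ∣ p := Dvd.intro _ h1
    rcases (Nat.dvd_prime hpp).1 h2 with h | h
    · exact absurd (Subgroup.relIndex_eq_one.1 h) (not_le_of_gt hCQ)
    · rw [h] at h1
      have h3 : Q.relIndex S = 1 := by
        have : p * Q.relIndex S = p * 1 := by rw [h1, mul_one]
        exact Nat.eq_of_mul_eq_mul_left hpp.pos this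
      exact le_antisymm hQS (Subgroup.relIndex_eq_one.1 h3)
  have hZ₂n : ∀ s ∈ S, ∀ x ∈ Z₂, s * x * s⁻¹ ∈ Z₂ := by
    intro s hs x hx
    rw [hZ₂] at hx ⊢
    obtain ⟨x', hx', rfl⟩ := hx
    have hnorm : (Subgroup.upperCentralSeries ↥S 2).Normal := inferInstance
    have h1 := hnorm.conj_mem x' hx' ⟨s, hs⟩
    exact ⟨_, h1, rfl⟩
  have hCn : normalizerIn S C = S := by
    apply le_antisymm (normalizerIn_le _ _)
    intro s hs
    refine ⟨hs, Cfsg.Agent.Lib.Helper88QuotSat.mem_normalizer_of_conj_mem' hCS fun q hq => ?_⟩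
    rw [hC, mem_centralizerIn] at hq ⊢
    refine ⟨S.mul_mem (S.mul_mem hs hq.1) (S.inv_mem hs), fun u hu => ?_⟩
    have h1 := hq.2 _ (hZ₂n s⁻¹ (S.inv_mem hs) u hu)
    rw [inv_inv] at h1
    calc u * (s * q * s⁻¹) = s * ((s⁻¹ * u * s) * q) * s⁻¹ := by group
      _ = s * (q * (s⁻¹ * u * s)) * s⁻¹ := by rw [h1]
      _ = s * q * s⁻¹ * u := by group
  have hfn : F.IsFullyNormalized C := isFullyNormalized_of_normalizerIn_eq F hCS hCn
  have hrec : F.IsReceptive Z₂ := receptive_of_conj hS hF hZ₂S hZ₂n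
  have hf : IsMap F _ (tot φ) := isMap_tot hφ
  have hfQ : tot φ '' (Z₂ : Set Ω) = (Z₂ : Set Ω) := by
    apply image_eq_of_card_le hf hZ₂S _ le_rfl
    intro x hx
    rw [tot_of_mem φ hx]
    exact hrange _
  obtain ⟨f', hf', hff'⟩ := extend_centralizing hrec hf hfQ hC.le
  have hf'C : IsMap F C f' := hf'.restrict le_sup_right
  have hf'CC : f' '' (C : Set Ω) = (C : Set Ω) := by
    apply image_eq_of_card_le hf'C hCS _ le_rfl
    intro c hc
    rw [hC, mem_centralizerIn]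
    refine ⟨hf'C.mem hc, fun u hu => ?_⟩
    obtain ⟨u₀, hu₀, rfl⟩ := IsMap.exists_of_mem_image hfQ hu
    rw [← hff' u₀ hu₀, ← hf'.map_mul (Subgroup.mem_sup_left hu₀) (Subgroup.mem_sup_right hc),
      ← hf'.map_mul (Subgroup.mem_sup_right hc) (Subgroup.mem_sup_left hu₀)]
    rw [hC, mem_centralizerIn] at hc
    rw [hc.2 u₀ hu₀]
  obtain ⟨α, hαA, hα⟩ := hf'C.exists_aut hf'CC
  have hzC : z ∈ C := by
    rw [hC, mem_centralizerIn]
    exact ⟨((hZ' z).1 hzZ).1, fun u hu => ((hZ' z).1 hzZ).2 u (hZ₂S hu)⟩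
  rcases extendable_dichotomy hS F hF C hClt hfn with ⟨-, hcl'⟩ | ⟨h, -⟩
  · exfalso
    rw [← hcl'] at hαA
    have key : ∀ β ∈ Subgroup.closure (extSet F C), ∀ x : C, (x : Ω) ∈ Z ↔ ((β x : C) : Ω) ∈ Z := by
      intro β hβ
      induction hβ using Subgroup.closure_induction with
      | mem β hβ =>
        obtain ⟨Q, g, hCQ, hg, hgβ⟩ := (mem_extSet_iff β).1 hβ
        have hQ := hmaxl Q hCQ hg.le
        subst hQ
        intro x
        rw [← hgβ]
        constructor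
        · intro hx
          exact isMap_center_mem hZ' hg hx
        · intro hx
          rw [hZ']
          refine ⟨hCS x.2, fun s hs => ?_⟩
          apply hg.inj (Q.mul_mem hs (hCS x.2)) (Q.mul_mem (hCS x.2) hs)
          rw [hg.map_mul hs (hCS x.2), hg.map_mul (hCS x.2) hs]
          exact ((hZ' _).1 hx).2 _ (hg.mem hs)
      | one => intro x; rfl
      | mul a b _ _ ha hb =>
        intro x
        rw [hb x, ha (b x)]
        rfl
      | inv a _ ha =>
        intro x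
        rw [ha (a⁻¹ x), MulAut.apply_inv_self]
    have h1 := (key α hαA ⟨z, hzC⟩).1 hzZ
    rw [hα] at h1
    apply hφz
    have h2 := hff' z hz
    rw [tot_of_mem φ hz] at h2
    rw [← h2]
    exact h1
  · exact h

/-- Let p ≥ 5 be a prime, S a finite p-group of maximal class of order p^n with n ≥ 4, and F a saturated fusion system over S. If some map of F defined on the second centre Z₂(S) with image Z₂(S) does not carry Z(S) into itself, then the centralizer C_S(Z₂(S)) is an F-essential subgroup. -/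
theorem result {Ω : Type*} [Group Ω] {S : Subgroup Ω} [Finite S] (p : ℕ) [Fact p.Prime] (hS : IsPGroup p ↥S) (n : ℕ) (hn : Nat.card S = p ^ n) (h4 : 4 ≤ n) (hmax : Subgroup.lowerCentralSeries S (n - 2) ≠ ⊥) (F : Cfsg.FusionSystem S) (hF : F.IsSaturated p) (hp : 5 ≤ p) (φ : ↥((Subgroup.upperCentralSeries ↥S 2).map S.subtype) →* Ω) (hφ : φ ∈ F.Hom ((Subgroup.upperCentralSeries ↥S 2).map S.subtype)) (hφZ : φ.range = ((Subgroup.upperCentralSeries ↥S 2).map S.subtype)) (hmove : ∃ (z : Ω) (hz : z ∈ ((Subgroup.upperCentralSeries ↥S 2).map S.subtype)), z ∈ ((Subgroup.center ↥S).map S.subtype) ∧ φ ⟨z, hz⟩ ∉ ((Subgroup.center ↥S).map S.subtype)) : F.IsEssential p (S ⊓ Subgroup.centralizer (((Subgroup.upperCentralSeries ↥S 2).map S.subtype) : Set Ω)) := by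
  exact aux p hS n hn h4 hmax F hF _ rfl φ hφ hφZ hmove

end Cfsg.Agent.S5270
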