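import Cfsg.Statements.S5296
import Cfsg.Agent.Lib.Helper90ThmB

set_option autoImplicit false
universe u
open Cfsg

namespace Cfsg.Agent.S5296

/-- Small-exponent abelian subgroups of the hyperfocal subgroup control fusion. Let E and F be saturated fusion systems over the same finite p-group S with E contained in F. Suppose that E and F have the same maps between A and B for all subgroups A, B of the hyperfocal subgroup of F that are elementary abelian when p is odd, respectively abelian of exponent dividing 4 when p = 2. Then E = F. -/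
theorem result {Ω : Type u} [Group Ω] {S : Subgroup Ω} [Finite S] (p : ℕ) [Fact p.Prime] (hS : IsPGroup p S)
    (E F : Cfsg.FusionSystem S) (hE : E.IsSaturated p) (hF : F.IsSaturated p) (hEF : E.IsSubsystemOf F)
    (hodd : p ≠ 2 → ∀ A B : Subgroup Ω, A ≤ (F.hyperfocalSubgroup p) → B ≤ (F.hyperfocalSubgroup p) →
      Cfsg.IsElementaryAbelian p A → Cfsg.IsElementaryAbelian p B → E.homSet A B = F.homSet A B)
    (htwo : p = 2 → ∀ A B : Subgroup Ω, A ≤ (F.hyperfocalSubgroup p) → B ≤ (F.hyperfocalSubgroup p) →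
      IsMulCommutative ↥A → IsMulCommutative ↥B → (∀ a ∈ A, a ^ 4 = 1) → (∀ b ∈ B, b ^ 4 = 1) → E.homSet A B = F.homSet A B) :
    ∀ P : Subgroup Ω, E.Hom P = F.Hom P := by
  have hEF' : ∀ (P : Subgroup Ω) (g : Ω → Ω), Cfsg.Agent.Lib.Helper87Fusion.IsMap E P g →
      Cfsg.Agent.Lib.Helper87Fusion.IsMap F P g := by
    rintro P g ⟨φ, hφ, hφg⟩
    exact ⟨φ, hEF P hφ, hφg⟩
  have H : ∀ A B : Subgroup Ω, A ≤ F.hyperfocalSubgroup p → B ≤ F.hyperfocalSubgroup p →
      Cfsg.Agent.Lib.Helper90ThmB.SA p A → Cfsg.Agent.Lib.Helper90ThmB.SA p B → ∀ g,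
      Cfsg.Agent.Lib.Helper87Fusion.IsMap F A g → (∀ a ∈ A, g a ∈ B) →
      Cfsg.Agent.Lib.Helper87Fusion.IsMap E A g := by
    intro A B hA hB hSA hSB g hg hgB
    have heq : E.homSet A B = F.homSet A B := by
      by_cases hp2 : p = 2
      · apply htwo hp2 A B hA hB hSA.1 hSB.1
        · intro a ha
          rcases hSA.2 a ha with h | ⟨-, h⟩
          · rw [hp2] at h
            calc a ^ 4 = (a ^ 2) ^ 2 := by rw [← pow_mul]
              _ = 1 := by rw [h, one_pow]
          · exact h
        · intro a ha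
          rcases hSB.2 a ha with h | ⟨-, h⟩
          · rw [hp2] at h
            calc a ^ 4 = (a ^ 2) ^ 2 := by rw [← pow_mul]
              _ = 1 := by rw [h, one_pow]
          · exact h
      · apply hodd hp2 A B hA hB
        · refine ⟨hSA.1, fun a ha => ?_⟩
          rcases hSA.2 a ha with h | ⟨h, -⟩
          · exact h
          · exact absurd h hp2
        · refine ⟨hSB.1, fun a ha => ?_⟩
          rcases hSB.2 a ha with h | ⟨h, -⟩
          · exact h
          · exact absurd h hp2
    obtain ⟨φ, hφ, hφg⟩ := hg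
    have h1 : φ ∈ F.homSet A B := ⟨hφ, fun x => by rw [hφg]; exact hgB x x.2⟩
    rw [← heq] at h1
    exact ⟨φ, h1.1, hφg⟩
  have hall := Cfsg.Agent.Lib.Helper90ThmB.all_mem hS hE hF hEF' H
  intro P
  apply Set.Subset.antisymm (hEF P)
  intro φ hφ
  exact Cfsg.Agent.Lib.Helper87Fusion.mem_hom_iff.2
    (hall P _ (Cfsg.Agent.Lib.Helper87Fusion.isMap_tot hφ))

end Cfsg.Agent.S5296
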