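import Cfsg.Statements.S5276
import Cfsg.Agent.Lib.Helper86TateF
import Cfsg.Agent.Lib.Helper86Tate3
import Cfsg.Agent.Lib.Helper87NormSys
import Cfsg.Agent.Lib.Helper88Quot

set_option autoImplicit false
open Cfsg

namespace Cfsg.Agent.S5276

/-- Let p be a prime and F a saturated fusion system over a finite p-group S. Then F is the inner fusion system of S if and only if the normalizer fusion system of S itself in F is the inner fusion system (equivalently, Aut_F(S) is induced by S) and the Frattini subgroup Φ(S) is strongly closed in F. -/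
theorem result {Ω : Type*} [Group Ω] {S : Subgroup Ω} [Finite S] (p : ℕ) [Fact p.Prime] (hS : IsPGroup p ↥S) (F : Cfsg.FusionSystem S) (hF : F.IsSaturated p) : (∀ P : Subgroup Ω, F.Hom P = (Cfsg.innerFusionSystem S).Hom P) ↔ (∀ N : Cfsg.FusionSystem (Cfsg.FusionSystem.normalizerIn S S), F.IsNormalizerSystem S N → ∀ P : Subgroup Ω, N.Hom P = (Cfsg.innerFusionSystem (Cfsg.FusionSystem.normalizerIn S S)).Hom P) ∧ F.StronglyClosed ((frattini ↥S).map S.subtype) := by
  open Cfsg.FusionSystem Cfsg.Agent.Lib.Helper87Fusion Cfsg.Agent.Lib.Helper87Fusion3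
    Cfsg.Agent.Lib.Helper86Fusion2 Cfsg.Agent.Lib.Helper86Fusion4 Cfsg.Agent.Lib.Helper86Tate3
    Cfsg.Agent.Lib.Helper86TateF in
  open scoped commutatorElement in
  have hQ1 : ∀ x ∈ S, ∀ y ∈ S, x * y * x⁻¹ * y⁻¹ ∈ (frattini ↥S).map S.subtype := by
    intro x hx y hy
    refine ⟨⁅(⟨x, hx⟩ : S), ⟨y, hy⟩⁆, ?_, rfl⟩
    apply Cfsg.Agent.Lib.Helper3PGroup.commutator_le_frattini hS
    rw [commutator_def]
    exact Subgroup.commutator_mem_commutator (Subgroup.mem_top _) (Subgroup.mem_top _)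
  have hQ2 : ∀ x ∈ (frattini ↥S).map S.subtype, ∃ h : x ∈ S, (⟨x, h⟩ : S) ∈ frattini S := by
    intro x hx
    obtain ⟨y, hy, rfl⟩ := hx
    exact ⟨y.2, hy⟩
  constructor
  · intro hall
    have hinn : ∀ (P : Subgroup Ω) (f : Ω → Ω), IsMap F P f → ∃ g ∈ S, ∀ x ∈ P, f x = g * x * g⁻¹ := by
      rintro P f ⟨φ, hφ, hφf⟩
      rw [hall P] at hφ
      obtain ⟨-, g, hg, hgx⟩ := hφ
      exact ⟨g, hg, fun x hx => by rw [← hφf ⟨x, hx⟩, hgx]⟩
    constructor
    · intro N hNs P
      apply Set.Subset.antisymm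
      · intro φ hφ
        obtain ⟨hf, hPN, -⟩ := (isMap_normalizer_iff hNs).1 (isMap_tot hφ)
        obtain ⟨g, hg, hgx⟩ := hinn P _ hf
        exact ⟨hPN, g, le_normalizerIn le_rfl hg, fun x => by rw [← tot_apply φ x, hgx x x.2]⟩
      · exact inner_le N P
    · refine stronglyClosed_iff.2 ⟨fun x hx => (hQ2 x hx).1, fun R f hR hf x hx => ?_⟩
      obtain ⟨g, hg, hgx⟩ := hinn R f hf
      obtain ⟨y, hy, rfl⟩ := hR hx
      rw [hgx _ hx]
      exact ⟨⟨g, hg⟩ * y * (⟨g, hg⟩ : S)⁻¹,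
        (inferInstance : (frattini ↥S).Normal).conj_mem y hy ⟨g, hg⟩, rfl⟩
  · rintro ⟨hN, hT⟩
    have hInn : ∀ f, IsMap F S f → ∃ s ∈ S, ∀ x ∈ S, f x = s * x * s⁻¹ := by
      intro f hf
      have hNs := Cfsg.Agent.Lib.Helper87NormSys.normData_isNormalizerSystem F S le_rfl
      have hle : S ≤ normalizerIn S S := le_normalizerIn le_rfl
      have h1 : IsMap _ S f := (isMap_normalizer_iff hNs).2 ⟨hf, hle, fun x hx => hle (hf.mem hx), f,
        by rw [sup_idem]; exact hf, fun _ _ => rfl,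
        image_eq_of_card_le hf le_rfl (fun x hx => hf.mem hx) le_rfl⟩
      obtain ⟨φ, hφ, hφf⟩ := h1
      rw [hN _ hNs S] at hφ
      obtain ⟨-, g, hg, hgx⟩ := hφ
      exact ⟨g, normalizerIn_le _ _ hg, fun x hx => by rw [← hφf ⟨x, hx⟩, hgx]⟩
    have hfoc : F.focalSubgroup ≤ (frattini ↥S).map S.subtype := by
      unfold focalSubgroup
      rw [Subgroup.closure_le]
      rintro y ⟨P, φ, x, hφ, rfl⟩
      have hf := isMap_tot hφ
      obtain ⟨g, hg, hgT⟩ := Cfsg.Agent.Lib.Helper88Quot.good hS hF hT hf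
      have hgim : g '' (((frattini ↥S).map S.subtype : Subgroup Ω) : Set Ω) =
          ((frattini ↥S).map S.subtype : Subgroup Ω) :=
        image_eq_of_card_le (hg.restrict le_sup_right) hT.1
          (fun x hx => StronglyClosed_mem hT hg (le_sup_right (a := P) hx) hx) le_rfl
      obtain ⟨s, hs, hsx⟩ := conj_of_normalizes hS F hF hInn _ hQ1 hQ2 _ _ le_sup_right hg.le rfl
        g hg hgim
      have h1 := hgT x x.2
      rw [hsx x (le_sup_left (a := P) x.2), tot_apply] at h1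
      have hxS : (x : Ω) ∈ S := hf.le x.2
      have h2 := hQ1 _ (S.inv_mem hxS) s hs
      have e : (x : Ω)⁻¹ * φ x = ((x : Ω)⁻¹ * s * ((x : Ω)⁻¹)⁻¹ * s⁻¹) * ((φ x)⁻¹ * (s * x * s⁻¹))⁻¹ := by
        group
      show (x : Ω)⁻¹ * φ x ∈ _
      rw [e]
      exact mul_mem h2 (inv_mem h1)
    have hhyp : F.hyperfocalSubgroup p ≤ ⊥ := by
      apply tate_hyp hS F hF ⊥ bot_le
      · intro s _ w hw
        rw [Subgroup.mem_bot] at hw ⊢
        rw [hw]; simp
      · rw [sup_bot_eq]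
        refine le_trans ?_ hfoc
        rw [Cfsg.Agent.Lib.Helper86Focal.focal_eq hS F hF]
        exact le_sup_left
    intro P
    apply Set.Subset.antisymm
    · intro φ hφ
      have hf := isMap_tot hφ
      obtain ⟨s, hs, h⟩ := inner_mod_hyp hS F hF hf
      refine ⟨hf.le, s, hs, fun x => ?_⟩
      have h1 := hhyp (h x x.2)
      rw [Subgroup.mem_bot, inv_mul_eq_one, tot_apply] at h1
      exact h1.symm
    · exact inner_le F P

end Cfsg.Agent.S5276
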