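import Cfsg.Statements.S5279
import Cfsg.Agent.Lib.Helper90PStable
import Cfsg.Agent.Lib.Helper14NPSQuot
import Cfsg.Agent.Lib.Helper39Control
import Cfsg.Agent.Lib.Helper24Thompson
import Cfsg.Agent.Lib.Helper40FusWC
import Cfsg.Agent.Lib.Helper87Fusion3

set_option autoImplicit false
open Cfsg

namespace Cfsg.Agent.S5279

/-- Let p be an odd prime, G a finite group with a nontrivial Sylow p-subgroup P, and F the fusion system of G on P. Suppose F is p-stable: for every fully normalized subgroup Q and every χ in Aut_F(Q) acting quadratically on Q (χ(a⁻¹)·a·χ(a⁻¹)·χ(χ(a)) = 1 for all a in Q), χ lies in O_p(Aut_F(Q)). Then some nontrivial subgroup of P is normal in F. -/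
theorem result {Ω : Type*} [Group Ω] [Finite Ω] (p : ℕ) [Fact p.Prime] (hp : p ≠ 2) (P : Sylow p Ω) (hP : (P : Subgroup Ω) ≠ ⊥) (hst : (∀ Q : Subgroup Ω, (Cfsg.groupFusionSystem (P : Subgroup Ω)).IsFullyNormalized Q → ∀ χ : MulAut ↥Q, χ ∈ (Cfsg.groupFusionSystem (P : Subgroup Ω)).autGroup Q → (∀ a : ↥Q, (χ a⁻¹) * a * (χ a⁻¹) * (χ (χ a)) = 1) → χ ∈ ((Cfsg.pCore p ↥((Cfsg.groupFusionSystem (P : Subgroup Ω)).autGroup Q)).map ((Cfsg.groupFusionSystem (P : Subgroup Ω)).autGroup Q).subtype : Subgroup (MulAut ↥Q)))) : (Cfsg.groupFusionSystem (P : Subgroup Ω)).core ≠ ⊥ := by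
  have hnps := Cfsg.Agent.Lib.Helper90PStable.nps_of_fps P hst
  have h := Cfsg.Agent.Lib.Helper14NPSQuot.csf_of_stable (p := p) hp (Nat.card Ω) Ω rfl hnps P
    (Cfsg.Agent.Lib.Helper39Sylow.isSyl_sylow P)
  rw [Cfsg.Agent.Lib.Helper39Control.csf_iff_set] at h
  rw [Cfsg.Agent.Lib.Helper24Thompson.ind_fZJA] at h
  set Z := Cfsg.centerThompsonAOf (P : Subgroup Ω) with hZ
  have hZP : Z ≤ (P : Subgroup Ω) := by
    rw [hZ, ← Cfsg.Agent.Lib.Helper24Thompson.ind_fZJA]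
    exact Subgroup.map_subtype_le _
  have hZ1 : Z ≠ ⊥ := by
    rw [hZ, ← Cfsg.Agent.Lib.Helper24Thompson.ind_fZJA]
    have hnt : Nontrivial ↥(P : Subgroup Ω) := (Subgroup.nontrivial_iff_ne_bot _).2 hP
    have h1 := (Cfsg.Agent.Lib.Helper24Thompson.isChar_fZJA p).1 ↥(P : Subgroup Ω) P.isPGroup' hnt
    intro h2
    apply h1
    exact (Subgroup.map_eq_bot_iff_of_injective _ (Subgroup.subtype_injective _)).1 h2
  have hn : (Cfsg.groupFusionSystem (P : Subgroup Ω)).IsNormal Z := by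
    rw [Cfsg.Agent.Lib.Helper87Fusion3.isNormal_iff]
    refine ⟨hZP, fun R f hf => ?_⟩
    obtain ⟨hRP, g, hg⟩ := Cfsg.Agent.Lib.Helper87GroupFusion.isMap_group_iff.1 hf
    obtain ⟨x, hx, hxa⟩ := h (R : Set Ω) g (Subgroup.mem_top _) hRP (by
      rintro _ ⟨a, ha, rfl⟩
      exact (hg a ha).2)
    have hxN : x ∈ Subgroup.normalizer (Z : Set Ω) := hx.2
    refine ⟨fun y => x * y * x⁻¹, ?_, fun a ha => ?_,
      Cfsg.Agent.Lib.Helper40FusWC.image_conj_of_mem_normalizer hxN⟩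
    · refine Cfsg.Agent.Lib.Helper87GroupFusion.isMap_group_iff.2 ⟨sup_le hRP hZP, x, fun y hy => ⟨rfl, ?_⟩⟩
      have hle : R ⊔ Z ≤ (P : Subgroup Ω).comap (MulAut.conj x).toMonoidHom := by
        apply sup_le
        · intro a ha
          show x * a * x⁻¹ ∈ (P : Subgroup Ω)
          rw [hxa a ha]
          exact (hg a ha).2
        · intro z hz
          exact hZP ((Subgroup.mem_normalizer_iff.1 hxN z).1 hz)
      exact hle hy
    · show x * a * x⁻¹ = f a
      rw [hxa a ha, (hg a ha).1]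
  intro hbot
  apply hZ1
  rw [eq_bot_iff, ← hbot]
  exact le_sSup hn

end Cfsg.Agent.S5279
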