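import Cfsg.Statements.S5280
import Cfsg.Agent.Lib.Helper14NPSConstr
import Cfsg.Agent.Lib.Helper90PStable
import Cfsg.Agent.Lib.Helper87Fusion3
import Cfsg.Agent.Lib.Helper87GroupFusion
import Cfsg.Agent.S5076
import Cfsg.Agent.S5088

set_option autoImplicit false
open Cfsg
open scoped commutatorElement

namespace Cfsg.Agent.S5280

/-- Let p be a prime greater than 3, G a finite group with Sylow p-subgroup P, and F the fusion system of G on P. Suppose F is p-stable: for every fully normalized subgroup Q and every χ in Aut_F(Q) acting quadratically on Q (χ(a⁻¹)·a·χ(a⁻¹)·χ(χ(a)) = 1 for all a in Q), χ lies in O_p(Aut_F(Q)). Then F is constrained: some subgroup normal in F is F-centric. -/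
theorem result {Ω : Type*} [Group Ω] [Finite Ω] (p : ℕ) [Fact p.Prime] (hp : 3 < p) (P : Sylow p Ω) (hst : (∀ Q : Subgroup Ω, (Cfsg.groupFusionSystem (P : Subgroup Ω)).IsFullyNormalized Q → ∀ χ : MulAut ↥Q, χ ∈ (Cfsg.groupFusionSystem (P : Subgroup Ω)).autGroup Q → (∀ a : ↥Q, (χ a⁻¹) * a * (χ a⁻¹) * (χ (χ a)) = 1) → χ ∈ ((Cfsg.pCore p ↥((Cfsg.groupFusionSystem (P : Subgroup Ω)).autGroup Q)).map ((Cfsg.groupFusionSystem (P : Subgroup Ω)).autGroup Q).subtype : Subgroup (MulAut ↥Q)))) : (Cfsg.groupFusionSystem (P : Subgroup Ω)).IsConstrained p := by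
  classical
  have hp2 : p ≠ 2 := by omega
  have hnps := Cfsg.Agent.Lib.Helper90PStable.nps_of_fps P hst
  set F := Cfsg.groupFusionSystem (P : Subgroup Ω) with hF
  have hsat : F.IsSaturated p := Cfsg.Agent.S5076.result p P
  have hPp : IsPGroup p ↥(P : Subgroup Ω) := P.isPGroup'
  refine ⟨hsat, ?_⟩
  have hbot : F.IsNormal ⊥ := by
    rw [Cfsg.Agent.S5088.result p hPp F hsat]
    exact ⟨0, fun _ => ⊥, rfl, rfl, monotone_const, fun i => i.elim0⟩
  obtain ⟨Q, hQmax⟩ := (Set.toFinite {Q : Subgroup Ω | F.IsNormal Q}).exists_maximal ⟨⊥, hbot⟩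
  have hQn : F.IsNormal Q := hQmax.prop
  have hQP : Q ≤ (P : Subgroup Ω) := hQn.1
  have hQp : IsPGroup p ↥Q := hPp.to_le hQP
  -- control of fusion by the normalizer of `Q`
  have hctl : ∀ R : Subgroup Ω, R ≤ (P : Subgroup Ω) → ∀ g : Ω, (∀ x ∈ R, g * x * g⁻¹ ∈ (P : Subgroup Ω)) →
      ∃ y ∈ Subgroup.normalizer (Q : Set Ω), ∀ x ∈ R, y * x * y⁻¹ = g * x * g⁻¹ := by
    intro R hR g hg
    obtain ⟨f', hf', hagree, himg⟩ := (Cfsg.Agent.Lib.Helper87Fusion3.isNormal_iff.1 hQn).2 R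
      (fun x => g * x * g⁻¹)
      (Cfsg.Agent.Lib.Helper87GroupFusion.isMap_group_iff.2 ⟨hR, g, fun x hx => ⟨rfl, hg x hx⟩⟩)
    obtain ⟨-, y, hy⟩ := Cfsg.Agent.Lib.Helper87GroupFusion.isMap_group_iff.1 hf'
    refine ⟨y, ?_, fun x hx => ?_⟩
    · rw [Cfsg.Agent.Lib.Helper39Sylow.mem_normalizer_iff_cj]
      apply Cfsg.Agent.Lib.Helper39Sylow.cj_eq_of_le_of_finite
      rintro _ ⟨q, hq, rfl⟩
      show y * q * y⁻¹ ∈ Q
      rw [← (hy q ((le_sup_right : Q ≤ R ⊔ Q) hq)).1]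
      have : f' q ∈ f' '' (Q : Set Ω) := ⟨q, hq, rfl⟩
      rw [himg] at this
      exact this
    · rw [← (hy x ((le_sup_left : R ≤ R ⊔ Q) hx)).1, hagree x hx]
  have hcjQ : ∀ g : Ω, (∀ x ∈ Q, g * x * g⁻¹ ∈ (P : Subgroup Ω)) →
      Cfsg.Agent.Lib.Helper39Sylow.cj g Q = Q := by
    intro g hg
    obtain ⟨y, hy, hyx⟩ := hctl Q hQP g hg
    apply Cfsg.Agent.Lib.Helper39Sylow.cj_eq_of_le_of_finite
    rintro _ ⟨q, hq, rfl⟩
    show g * q * g⁻¹ ∈ Q
    rw [← hyx q hq]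
    exact (Subgroup.mem_normalizer_iff.1 hy q).1 hq
  set N := Subgroup.normalizer (Q : Set Ω) with hN
  have hPN : (P : Subgroup Ω) ≤ N := by
    intro s hs
    rw [hN, Cfsg.Agent.Lib.Helper39Sylow.mem_normalizer_iff_cj]
    exact hcjQ s (fun x hx => (P : Subgroup Ω).mul_mem ((P : Subgroup Ω).mul_mem hs (hQP hx))
      ((P : Subgroup Ω).inv_mem hs))
  have hQN : Q ≤ N := hQP.trans hPN
  refine ⟨Q, hQn, hQP, ?_⟩
  intro Q' hconj
  obtain ⟨-, hQ'P, g, rfl⟩ := Cfsg.Agent.Lib.Helper87GroupFusion.isConj_group_iff.1 hconj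
  have hgQ : Cfsg.Agent.Lib.Helper87Sylow.cj g Q = Q :=
    hcjQ g (fun x hx => hQ'P ⟨x, hx, rfl⟩)
  rw [hgQ]
  by_contra hnc
  -- pass to the normalizer
  have hstN : Cfsg.IsNormalizerPStable p ↥N :=
    Cfsg.Agent.Lib.Helper14NPS.nps_iff.mpr
      (Cfsg.Agent.Lib.Helper14NPS.nps_subgroup (Cfsg.Agent.Lib.Helper14NPS.nps_iff.mp hnps) N)
  have hSN : Cfsg.Agent.Lib.Helper39Sylow.IsSyl p ((P : Subgroup Ω).subgroupOf N) ⊤ :=
    Cfsg.Agent.Lib.Helper39Section.isSyl_subgroupOf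
      ((Cfsg.Agent.Lib.Helper39Sylow.isSyl_sylow P).of_le hPN le_top)
  have hQNn : (Q.subgroupOf N).Normal := Subgroup.normal_in_normalizer
  have hQNp : IsPGroup p ↥(Q.subgroupOf N) := hQp.comap_of_injective N.subtype N.subtype_injective
  have hnc' : ¬ (P : Subgroup Ω).subgroupOf N ⊓ Subgroup.centralizer ((Q.subgroupOf N : Subgroup ↥N) : Set ↥N)
      ≤ Q.subgroupOf N := by
    intro hle
    apply hnc
    intro d hd
    have h1 : (⟨d, hPN hd.1⟩ : ↥N) ∈ Q.subgroupOf N := by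
      apply hle
      refine ⟨hd.1, ?_⟩
      intro q hq
      apply Subtype.ext
      exact hd.2 q hq
    exact h1
  obtain ⟨T0, hT1, hT2, hT3, hT4, hT5, hT6⟩ :=
    Cfsg.Agent.Lib.Helper14NPSConstr.exists_bigger hp2 hstN hSN (Q.subgroupOf N) hQNp hnc'
  set T := T0.map N.subtype with hT
  have hQT : Q ≤ T := by
    intro q hq
    exact ⟨⟨q, hQN hq⟩, hT1 hq, rfl⟩
  have hTQ : ¬ T ≤ Q := by
    intro hle
    apply hT2
    intro t ht
    exact hle ⟨t, ht, rfl⟩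
  have hTP : T ≤ (P : Subgroup Ω) := by
    rintro _ ⟨t, ht, rfl⟩
    exact hT3 ht
  have hTdec : ∀ t ∈ T, ∃ q ∈ Q, ∃ c ∈ Subgroup.centralizer (Q : Set Ω), t = q * c := by
    rintro _ ⟨t, ht, rfl⟩
    have h1 := hT4 ht
    rw [← SetLike.mem_coe, Subgroup.normal_mul] at h1
    obtain ⟨q, hq, c, hc, rfl⟩ := h1
    refine ⟨q, hq, c, ?_, rfl⟩
    intro x hx
    exact congrArg Subtype.val (hc ⟨x, hQN hx⟩ hx)
  have hTT : ⁅T, T⁆ ≤ Q := by
    rw [hT, ← Subgroup.map_commutator]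
    rintro _ ⟨x, hx, rfl⟩
    exact hT5 hx
  have hTsc : F.StronglyClosed T := by
    rw [Cfsg.Agent.Lib.Helper87Fusion3.stronglyClosed_iff]
    refine ⟨hTP, fun R f hR hf x hx => ?_⟩
    obtain ⟨hRP, g, hg⟩ := Cfsg.Agent.Lib.Helper87GroupFusion.isMap_group_iff.1 hf
    obtain ⟨y, hy, hyx⟩ := hctl R hRP g (fun x hx => (hg x hx).2)
    rw [(hg x hx).1, ← hyx x hx]
    obtain ⟨t, ht, rfl⟩ := hR hx
    have h1 := hT6 t ht ⟨y, hy⟩ (by
      show y * (t : Ω) * y⁻¹ ∈ (P : Subgroup Ω)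
      have := hyx _ hx
      rw [Subgroup.coe_subtype] at this
      rw [this]
      exact (hg _ hx).2)
    exact ⟨_, h1, rfl⟩
  have hTn : F.IsNormal T := by
    rw [Cfsg.Agent.S5088.result p hPp F hsat]
    obtain ⟨n, Qs, h0, hl, hm, hs⟩ := (Cfsg.Agent.S5088.result p hPp F hsat Q).1 hQn
    refine ⟨n + 1, Fin.snoc (α := fun _ => Subgroup Ω) Qs T, ?_, ?_, ?_, ?_⟩
    · have : (0 : Fin (n + 1 + 1)) = Fin.castSucc (0 : Fin (n + 1)) := rfl
      rw [this, Fin.snoc_castSucc]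
      exact h0
    · exact Fin.snoc_last (α := fun _ => Subgroup Ω) _ _
    · rw [Fin.monotone_iff_le_succ]
      intro i
      rw [Fin.snoc_castSucc]
      induction i using Fin.lastCases with
      | last =>
        rw [Fin.succ_last, Fin.snoc_last (α := fun _ => Subgroup Ω), hl]
        exact hQT
      | cast j =>
        rw [← Fin.castSucc_succ, Fin.snoc_castSucc]
        exact hm (Fin.castSucc_le_succ j)
    · intro i
      rw [Fin.snoc_castSucc]
      induction i using Fin.lastCases with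
      | last =>
        rw [Fin.succ_last, Fin.snoc_last (α := fun _ => Subgroup Ω), hl]
        exact ⟨hTsc, hTT⟩
      | cast j =>
        rw [← Fin.castSucc_succ, Fin.snoc_castSucc]
        refine ⟨(hs j).1, ?_⟩
        have hle : Qs j.succ ≤ Q := by
          rw [← hl]; exact hm (Fin.le_last _)
        rw [Subgroup.commutator_le]
        intro t ht z hz
        obtain ⟨q, hq, c, hc, rfl⟩ := hTdec t ht
        have h1 : ⁅q * c, z⁆ = ⁅q, z⁆ := by
          have hcz : z * c = c * z := hc z (hle hz)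
          have hcz' : c * z * c⁻¹ = z := by rw [← hcz]; group
          calc ⁅q * c, z⁆ = q * (c * z * c⁻¹) * q⁻¹ * z⁻¹ := by
                rw [commutatorElement_def]; group
            _ = ⁅q, z⁆ := by rw [hcz', commutatorElement_def]
        rw [h1]
        exact (hs j).2 (Subgroup.commutator_mem_commutator hq hz)
  exact hTQ (hQmax.le_of_ge hTn hQT)

end Cfsg.Agent.S5280
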