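import Cfsg.Statements.S5311
import Cfsg.Agent.Lib.H89TrLayer
import Cfsg.Agent.Lib.H89TrBrAut

set_option autoImplicit false
open Cfsg

namespace Cfsg.Agent.S5311

/-- The layer of a saturated fusion system F over a finite p-group S is characteristic in F: for every automorphism α of S that is an automorphism of F (α and its inverse are morphisms from F to F) and every layer E of F over T, α carries T onto T and, for every map φ of E with source P, the map induced by α on α(P) (that is, α ∘ φ ∘ α⁻¹) is a map of E. -/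
theorem result {Ω : Type*} [Group Ω] {S : Subgroup Ω} [Finite S] (p : ℕ) [Fact p.Prime] (hS : IsPGroup p S) (F : Cfsg.FusionSystem S) (hF : F.IsSaturated p)
    (α : ↥S ≃* ↥S) (hα : F.IsMorphism F (S.subtype.comp α.toMonoidHom))
    (hα' : F.IsMorphism F (S.subtype.comp α.symm.toMonoidHom))
    {T : Subgroup Ω} (E : Cfsg.FusionSystem T) (hE : E.IsLayerOf F p) :
    Cfsg.FusionSystem.imageAlong (S.subtype.comp α.toMonoidHom) T = T ∧
      ∀ (P : Subgroup Ω) (φ : ↥P →* Ω), φ ∈ E.Hom P →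
        ∀ φ' : ↥(Cfsg.FusionSystem.imageAlong (S.subtype.comp α.toMonoidHom) P) →* Ω,
          Cfsg.FusionSystem.InducedAlong (S.subtype.comp α.toMonoidHom) φ φ' →
            φ' ∈ E.Hom (Cfsg.FusionSystem.imageAlong (S.subtype.comp α.toMonoidHom) P) := by
  obtain ⟨t, s, hts, hFF⟩ := Cfsg.Agent.Lib.H89TrBrAut.exists_ts F α hα hα'
  have hTS : T ≤ S := hE.1.1.2.2.2.1.1
  obtain ⟨T', E', hEE'⟩ := Cfsg.Agent.Lib.H89TrEx.exists_corr hFF.1 hTS E
  have hE' := Cfsg.Agent.Lib.H89TrLayer.layer hS hFF hEE' hE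
  obtain ⟨hTT', hhom⟩ := Cfsg.Agent.Lib.H89TrLayer.layer_unique hE hE'
  subst hTT'
  refine ⟨?_, ?_⟩
  · apply SetLike.coe_injective
    rw [Cfsg.Agent.Lib.H89TrBrAut.coe_imageAlong α hts hTS]
    exact Cfsg.Agent.Lib.H89TrBasic.isoOn_image hEE'.1
  · intro P φ hφ φ' hind
    have hPT : P ≤ T := (E.le_of_mem hφ).1
    have hPS : P ≤ S := hPT.trans hTS
    rw [hhom]
    obtain ⟨hP, hφS, hP', hcomm⟩ := hind
    have h1 : Cfsg.Agent.Lib.Helper87Fusion.IsMap E P (Cfsg.Agent.Lib.Helper87Fusion.tot φ) :=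
      Cfsg.Agent.Lib.Helper87Fusion.isMap_tot hφ
    have h2 := (Cfsg.Agent.Lib.H89TrBasic.corr_isMap_iff hEE' hPT
      (Cfsg.Agent.Lib.H89TrBrAut.coe_imageAlong α hts hPS).symm
      (f := Cfsg.Agent.Lib.Helper87Fusion.tot φ) (f' := Cfsg.Agent.Lib.Helper87Fusion.tot φ')
      (fun x hx => by
        rw [Cfsg.Agent.Lib.Helper87Fusion.tot_of_mem φ hx]
        exact (E.le_of_mem hφ).2 ⟨x, hx⟩)
      (fun x hx => by
        have e1 : t x = ((S.subtype.comp α.toMonoidHom) ⟨x, hP hx⟩ : Ω) := hts ⟨x, hP hx⟩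
        have e2 := hcomm ⟨x, hx⟩
        rw [Cfsg.Agent.Lib.Helper87Fusion.tot_of_mem φ hx, e1,
          Cfsg.Agent.Lib.Helper87Fusion.tot_of_mem φ' (hP' ⟨x, hx⟩), e2]
        exact (hts ⟨φ ⟨x, hx⟩, hφS ⟨x, hx⟩⟩).symm)).1 h1
    exact h2.hom_mem (fun x => (Cfsg.Agent.Lib.Helper87Fusion.tot_apply φ' x).symm)

end Cfsg.Agent.S5311
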