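import Cfsg.Statements.S5315
import Cfsg.Agent.Lib.Helper88Quot
import Cfsg.Agent.Lib.Helper86Normal
import Cfsg.Agent.Lib.Helper90SmallExp
import Cfsg.Agent.Lib.Helper90Abelian
import Cfsg.Agent.Lib.Helper89Fusion
import Cfsg.Agent.S5144
-- import your own Cfsg.Agent.* helpers here

set_option autoImplicit false
open Cfsg

namespace Cfsg.Agent.S5315

open Cfsg.FusionSystem Cfsg.Agent.Lib.Helper87Fusion Cfsg.Agent.Lib.Helper87Fusion2
  Cfsg.Agent.Lib.Helper87Fusion3
  Cfsg.Agent.Lib.Helper86Group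
  Cfsg.Agent.Lib.Helper86Fusion2
  Cfsg.Agent.Lib.Helper86Sub Cfsg.Agent.Lib.Helper86Normal Cfsg.Agent.Lib.Helper88Factor
  Cfsg.Agent.Lib.Helper88Quot Cfsg.Agent.Lib.Helper90SmallExp Cfsg.Agent.Lib.Helper90Abelian
  Cfsg.Agent.Lib.Helper89Fusion

theorem grun {Ω Ω' : Type*} [Group Ω] [Group Ω'] {S : Subgroup Ω} {S' : Subgroup Ω'} [Finite S]
    (p : ℕ) [Fact p.Prime] (hS : IsPGroup p S) (F : FusionSystem S) (hF : F.IsSaturated p)
    (hperf : F.hyperfocalSubgroup p = S) (θ : S →* Ω') (E : FusionSystem S')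
    (hE : F.IsFactorSystem F.center θ E) : E.center = ⊥ := by
  classical
  have hq := IsFactorSystem.isQuot hE
  have hfin' : Finite S' := by
    rw [← hq.range]
    exact Set.finite_range θ
  set Z := F.center with hZ
  have hZc := isCentral_iff.1 (Cfsg.Agent.S5144.result F)
  have hEc := isCentral_iff.1 (Cfsg.Agent.S5144.result E)
  have hZS : Z ≤ S := hZc.1
  -- maps of `F` fix `Z`
  have hfixZ : ∀ (P : Subgroup Ω) (f : Ω → Ω), IsMap F P f → ∀ z ∈ P, z ∈ Z → f z = z := by
    intro P f hf z hzP hzZ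
    obtain ⟨f', -, h1, h2⟩ := hZc.2 P f hf
    rw [← h1 z hzP, h2 z hzZ]
  have hZcen : ∀ z ∈ Z, ∀ s ∈ S, s * z = z * s := by
    intro z hz s hs
    have := hfixZ S _ (isMap_conj F le_rfl hs) z (hZS hz) hz
    have e : s * z * s⁻¹ = z := this
    calc s * z = (s * z * s⁻¹) * s := by group
      _ = z * s := by rw [e]
  have hZsc : F.StronglyClosed Z := by
    rw [Cfsg.Agent.Lib.Helper87Fusion3.stronglyClosed_iff]
    exact ⟨hZS, fun R f hR hf x hx => by rw [hfixZ R f hf x hx (hR hx)]; exact hR hx⟩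
  rw [eq_bot_iff]
  intro ybar hy
  obtain ⟨x, hxS, rfl⟩ := hq.exists_tt (hEc.1 hy)
  -- Step B
  have stepB : ∀ (P : Subgroup Ω) (f : Ω → Ω), IsMap F P f → ∃ (R : Subgroup Ω) (g : Ω → Ω),
      IsMap F R g ∧ P ≤ R ∧ x ∈ R ∧ Z ≤ R ∧ (∀ u ∈ P, (f u)⁻¹ * g u ∈ Z) ∧ x⁻¹ * g x ∈ Z := by
    intro P f hf
    obtain ⟨f', hf', hff'⟩ := isMap_induced hS hF hZsc hE hf
    obtain ⟨f'', hf'', h1, h2⟩ := hEc.2 _ f' hf'
    obtain ⟨-, g, hg, hgf⟩ := (isMap_factor_iff hE).1 hf''
    have hPR : P ≤ preimageAlong θ (imageAlong θ P ⊔ E.center) := by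
      intro u hu
      exact (mem_preimageAlong θ).2 ⟨hf.le hu, Subgroup.mem_sup_left
        ((mem_imageAlong θ).2 ⟨u, hu, hf.le hu, rfl⟩)⟩
    have hxR : x ∈ preimageAlong θ (imageAlong θ P ⊔ E.center) :=
      (mem_preimageAlong θ).2 ⟨hxS, Subgroup.mem_sup_right hy⟩
    refine ⟨_, g, hg, hPR, hxR, hq.le_pre _, fun u hu => ?_, ?_⟩
    · rw [← hq.tt_eq_iff (hf.mem hu) (hg.mem (hPR hu)), ← hgf u (hPR hu),
        h1 _ ((mem_imageAlong θ).2 ⟨u, hu, hf.le hu, rfl⟩), hff' u hu]
    · rw [← hq.tt_eq_iff hxS (hg.mem hxR), ← hgf x hxR, h2 _ hy]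
  -- Step A
  have stepA : ∀ (P : Subgroup Ω) (f : Ω → Ω), IsMap F P f → x ∈ P → x⁻¹ * f x ∈ Z := by
    intro P f hf hx
    obtain ⟨R, g, hg, hPR, hxR, -, h1, h2⟩ := stepB P f hf
    have h3 := h1 x hx
    have : x⁻¹ * f x = (x⁻¹ * g x) * ((f x)⁻¹ * g x)⁻¹ := by group
    rw [this]
    exact Z.mul_mem h2 (Z.inv_mem h3)
  -- Step C
  have stepC : ∀ s ∈ S, s * x = x * s := by
    have hle : F.hyperfocalSubgroup p ≤ Subgroup.centralizer ({x} : Set Ω) := by
      unfold hyperfocalSubgroup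
      rw [Subgroup.closure_le]
      rintro _ ⟨P, α, u, hP, -, rfl⟩
      rw [SetLike.mem_coe, Subgroup.mem_centralizer_singleton_iff]
      have hf : IsMap F P (totA (α : MulAut P)) := (mem_autGroup_iff_totA F hP _).1 α.2
      obtain ⟨R, g, hg, hPR, hxR, hZR, h1, h2⟩ := stepB P _ hf
      set v : Ω := (((α : MulAut P) u : P) : Ω) with hv
      have hvS : v ∈ S := hP ((α : MulAut P) u).2
      have huS : (u : Ω) ∈ S := hP u.2
      have h1u : v⁻¹ * g u ∈ Z := by
        have := h1 u u.2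
        rwa [totA_apply] at this
      -- a = x⁻¹ u x u⁻¹ ∈ Z
      have ha : x⁻¹ * ((u : Ω) * x * (u : Ω)⁻¹) ∈ Z := stepA S _ (isMap_conj F le_rfl huS) hxS
      have hga := hfixZ R g hg _ (hZR ha) ha
      have huR : (u : Ω) ∈ R := hPR u.2
      rw [hg.map_mul (R.inv_mem hxR) (R.mul_mem (R.mul_mem huR hxR) (R.inv_mem huR)),
        hg.map_inv hxR, hg.map_conj huR hxR] at hga
      set z₀ := x⁻¹ * g x with hz₀
      set z₁ := v⁻¹ * g u with hz₁
      have hgx : g x = x * z₀ := by rw [hz₀]; group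
      have hgu : g u = v * z₁ := by rw [hz₁]; group
      have hgxS : g x ∈ S := hg.mem hxR
      have e1 : g u * g x * (g u)⁻¹ = v * g x * v⁻¹ := by
        rw [hgu]
        calc v * z₁ * g x * (v * z₁)⁻¹ = v * (z₁ * g x) * z₁⁻¹ * v⁻¹ := by group
          _ = v * (g x * z₁) * z₁⁻¹ * v⁻¹ := by rw [hZcen z₁ h1u _ hgxS]
          _ = _ := by group
      have e2 : v * g x * v⁻¹ = (v * x * v⁻¹) * z₀ := by
        rw [hgx]
        calc v * (x * z₀) * v⁻¹ = v * x * (z₀ * v⁻¹) := by group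
          _ = v * x * (v⁻¹ * z₀) := by rw [hZcen z₀ h2 _ (S.inv_mem hvS)]
          _ = _ := by group
      have hkS : x⁻¹ * (v * x * v⁻¹) ∈ S :=
        S.mul_mem (S.inv_mem hxS) (S.mul_mem (S.mul_mem hvS hxS) (S.inv_mem hvS))
      have e3 : (g x)⁻¹ * ((v * x * v⁻¹) * z₀) = x⁻¹ * (v * x * v⁻¹) := by
        rw [hgx]
        calc (x * z₀)⁻¹ * ((v * x * v⁻¹) * z₀) = z₀⁻¹ * ((x⁻¹ * (v * x * v⁻¹)) * z₀) := by group
          _ = z₀⁻¹ * (z₀ * (x⁻¹ * (v * x * v⁻¹))) := by rw [hZcen z₀ h2 _ hkS]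
          _ = _ := by group
      rw [e1, e2, e3] at hga
      have e4 : v * x * v⁻¹ = (u : Ω) * x * (u : Ω)⁻¹ := mul_left_cancel hga
      calc (u : Ω)⁻¹ * v * x = (u : Ω)⁻¹ * (v * x * v⁻¹) * v := by group
        _ = (u : Ω)⁻¹ * ((u : Ω) * x * (u : Ω)⁻¹) * v := by rw [e4]
        _ = _ := by group
    intro s hs
    have := hle (hperf ▸ hs)
    rw [Subgroup.mem_centralizer_singleton_iff] at this
    exact this
  -- Step D
  have stepD : ∀ P : Subgroup Ω, (P = S ∨ F.IsEssential p P) → ∀ (hxP : x ∈ P) (α : MulAut P),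
      α ∈ F.autGroup P → α ⟨x, hxP⟩ = ⟨x, hxP⟩ := by
    intro P hP hxP
    have hfn : F.IsFullyNormalized P := by
      rcases hP with rfl | hP
      · exact isFullyNormalized_top F
      · exact hP.2.1
    have hPS : P ≤ S := hfn.1
    obtain ⟨-, ⟨-, R, hR⟩, -⟩ := saturated_fullyNormalized hS hF hfn
    have hfinP : Finite P := Finite.of_injective (Subgroup.inclusion hPS)
      (Subgroup.inclusion_injective hPS)
    have hPp : IsPGroup p P := hS.to_le hPS
    let St : Subgroup (F.autGroup P) :=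
      { carrier := {α | (α : MulAut P) ⟨x, hxP⟩ = ⟨x, hxP⟩}
        one_mem' := rfl
        mul_mem' := by
          intro a b ha hb
          show (a : MulAut P) ((b : MulAut P) ⟨x, hxP⟩) = ⟨x, hxP⟩
          rw [show (b : MulAut P) ⟨x, hxP⟩ = ⟨x, hxP⟩ from hb]
          exact ha
        inv_mem' := by
          intro a ha
          show (a : MulAut P)⁻¹ ⟨x, hxP⟩ = ⟨x, hxP⟩
          have h0 : (a : MulAut P) ⟨x, hxP⟩ = ⟨x, hxP⟩ := ha
          calc (a : MulAut P)⁻¹ ⟨x, hxP⟩ = (a : MulAut P)⁻¹ ((a : MulAut P) ⟨x, hxP⟩) := by rw [h0]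
            _ = ⟨x, hxP⟩ := MulAut.inv_apply_self _ _ _ }
    have h1 : pResidual p (F.autGroup P) ≤ St := by
      unfold pResidual
      rw [Subgroup.closure_le]
      intro α hα
      have hα' : (orderOf α).Coprime p := hα
      show (α : MulAut P) ⟨x, hxP⟩ = ⟨x, hxP⟩
      set a : MulAut P := (α : MulAut P) with ha
      have hf : IsMap F P (totA a) := (mem_autGroup_iff_totA F hPS _).1 α.2
      set X : P := ⟨x, hxP⟩ with hX
      set w : P := X⁻¹ * a X with hw
      have hwZ : (w : Ω) ∈ Z := by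
        have := stepA P _ hf hxP
        rwa [totA_of_mem a hxP] at this
      have haw : a w = w := by
        apply Subtype.ext
        have := hfixZ P _ hf w w.2 hwZ
        rwa [totA_apply] at this
      have haX : a X = X * w := by rw [hw]; group
      have hpow := aut_pow_apply_of_fixed a X w haX haw (orderOf α)
      have ha1 : a ^ orderOf α = 1 := by
        have := pow_orderOf_eq_one α
        have h2 := congrArg (Subtype.val) this
        rw [Subgroup.coe_pow, Subgroup.coe_one] at h2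
        exact h2
      rw [ha1, MulAut.one_apply] at hpow
      have hw1 : w ^ orderOf α = 1 := by
        have : X * w ^ orderOf α = X * 1 := by rw [mul_one]; exact hpow.symm
        exact mul_left_cancel this
      obtain ⟨k, hk⟩ := hPp w
      have hw2 : w = 1 := by
        have hc : (orderOf α).Coprime (p ^ k) := Nat.Coprime.pow_right k hα'
        have h3 : orderOf w ∣ 1 := by
          rw [← Nat.Coprime.gcd_eq_one hc]
          exact Nat.dvd_gcd (orderOf_dvd_of_pow_eq_one hw1) (orderOf_dvd_of_pow_eq_one hk)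
        exact orderOf_eq_one_iff.1 (Nat.dvd_one.1 h3)
      rw [haX, hw2, mul_one]
    intro α hα
    obtain ⟨a, ha, b, hb, hab⟩ := exists_mul_of_pResidual_sylow R ⟨α, hα⟩
    have hbS : b ∈ St := by
      have hb' : b ∈ (R : Subgroup (F.autGroup P)) := hb
      rw [hR, Subgroup.mem_subgroupOf, mem_autInducedBy_iff] at hb'
      obtain ⟨g, hg, hgb⟩ := hb'
      show (b : MulAut P) ⟨x, hxP⟩ = ⟨x, hxP⟩
      apply Subtype.ext
      rw [hgb]
      show g * x * g⁻¹ = x
      rw [stepC g hg]; group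
    have := St.mul_mem (h1 ha) hbS
    rw [← hab] at this
    exact this
  -- Step E
  have stepE : ∀ (P : Subgroup Ω) (f : Ω → Ω), IsMap F P f → ∀ u ∈ P,
      (u ∈ Subgroup.zpowers x → f u = u) ∧ (f u ∈ Subgroup.zpowers x → f u = u) := by
    intro P f hf
    refine alperin_induction hS F hF (fun P f => ∀ u ∈ P,
      (u ∈ Subgroup.zpowers x → f u = u) ∧ (f u ∈ Subgroup.zpowers x → f u = u))
      ?_ ?_ ?_ ?_ ?_ hf
    · intro P f g hfg h u hu
      rw [← hfg u hu]
      exact h u hu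
    · intro P g hP hg u hu
      have hcomm : ∀ v ∈ Subgroup.zpowers x, ∀ s ∈ S, s * v * s⁻¹ = v := by
        rintro _ ⟨k, rfl⟩ s hs
        have : Commute s x := stepC s hs
        have h2 : s * x ^ k = x ^ k * s := (this.zpow_right k)
        show s * x ^ k * s⁻¹ = x ^ k
        rw [h2]; group
      refine ⟨fun h => hcomm u h g hg, fun h => ?_⟩
      have := hcomm _ h g⁻¹ (S.inv_mem hg)
      have e : g⁻¹ * (g * u * g⁻¹) * g⁻¹⁻¹ = u := by group
      rw [e] at this
      exact this.symm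
    · intro P Q f g hf hg hPQ h1 h2 u hu
      refine ⟨fun h => ?_, fun h => ?_⟩
      · have e1 := (h1 u hu).1 h
        show g (f u) = u
        rw [e1]
        exact (h2 u (e1 ▸ hPQ u hu)).1 h
      · have e2 : g (f u) = f u := (h2 (f u) (hPQ u hu)).2 h
        show g (f u) = u
        rw [e2]
        exact (h1 u hu).2 (e2 ▸ h)
    · intro P Q f g hf hfPQ hg hgf h v hv
      obtain ⟨u, hu, rfl⟩ := IsMap.exists_of_mem_image hfPQ hv
      rw [hgf u hu]
      refine ⟨fun h' => ((h u hu).2 h').symm, fun h' => ((h u hu).1 h').symm⟩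
    · intro P f hP hf hfP u hu
      have hxP : x ∈ P := by
        rcases hP with rfl | hP
        · exact hxS
        · exact hP.1.2 P (isConj_refl F hP.1.1) (mem_centralizerIn.2
            ⟨hxS, fun v hv => stepC v (hP.1.1 hv)⟩)
      obtain ⟨α, hα, hαf⟩ := hf.exists_aut hfP
      have hfx : f x = x := by
        have := stepD P hP hxP α hα
        rw [← hαf ⟨x, hxP⟩, this]
      have hz : ∀ k : ℤ, f (x ^ k) = x ^ k := fun k => by rw [Cfsg.Agent.Lib.Helper89Fusion.IsMap.map_zpow' hf hxP, hfx]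
      refine ⟨?_, ?_⟩
      · rintro ⟨k, rfl⟩
        exact hz k
      · rintro ⟨k, hk⟩
        have hk' : x ^ k = f u := hk
        have : u = x ^ k := hf.inj hu (P.zpow_mem hxP k) (by rw [hz k, hk'])
        rw [this]; exact hz k
  have hcen : F.IsCentral (Subgroup.zpowers x) := by
    rw [central_iff hS F hF]
    refine ⟨by rw [Subgroup.zpowers_le]; exact hxS, fun u hu y huy => ?_⟩
    obtain ⟨f, hf, rfl⟩ := isConjElt_iff.1 huy
    exact (stepE _ f hf u (Subgroup.mem_zpowers u)).1 hu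
  have hxZ : x ∈ Z := by
    have : Subgroup.zpowers x ≤ F.center := le_sSup hcen
    exact this (Subgroup.mem_zpowers x)
  exact Subgroup.mem_bot.2 ((hq.tt_eq_one_iff hxS).2 hxZ)

/-- An analogue of Grün's lemma for fusion systems. Let F be a saturated fusion system over a finite p-group S that is perfect in the sense that its hyperfocal subgroup is all of S (F coincides with its p-residual subsystem). Then the second centre of F equals its centre: every fusion system over S/(Z(F) ∩ S) that is the factor system of F modulo its centre Z(F), read through the quotient map, has trivial centre. -/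
theorem result {Ω : Type*} [Group Ω] {S : Subgroup Ω} [Finite S] (p : ℕ) [Fact p.Prime] (hS : IsPGroup p S) (F : Cfsg.FusionSystem S) (hF : F.IsSaturated p)
    (hperf : F.hyperfocalSubgroup p = S)
    (E : Cfsg.FusionSystem (⊤ : Subgroup (↥S ⧸ (F.center).subgroupOf S)))
    (hE : F.IsFactorSystem F.center (QuotientGroup.mk' ((F.center).subgroupOf S)) E) : E.center = ⊥ := by
  exact grun p hS F hF hperf _ E hE

end Cfsg.Agent.S5315
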