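import Cfsg.Statements.S5343
import Cfsg.Statements.S5343
import Cfsg.Agent.Lib.Helper90RealNormal
import Cfsg.Agent.S5191
-- import your own Cfsg.Agent.* helpers here

set_option autoImplicit false
universe u
open Cfsg

namespace Cfsg.Agent.S5343

open Cfsg.FusionSystem Cfsg.Agent.Lib.Helper87Fusion Cfsg.Agent.Lib.Helper87Fusion2
  Cfsg.Agent.Lib.Helper87Realized Cfsg.Agent.Lib.Helper90RealNormal

variable {Ω : Type*} [Group Ω] {S : Subgroup Ω} {G : Type*} [Group G]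

theorem realized_quotient [Finite G] {p : ℕ} [Fact p.Prime] {F : FusionSystem S} {ι : S →* G}
    (hι : F.IsRealizedBy ι) (R : Sylow p G) (hR : (R : Subgroup G) = ι.range)
    (H : Subgroup G) [H.Normal] (hT : pull ι H = ⊥) :
    F.IsRealizedBy ((QuotientGroup.mk' H).comp ι) ∧
      ∃ T : Sylow p (G ⧸ H), (T : Subgroup (G ⧸ H)) = ((QuotientGroup.mk' H).comp ι).range := by
  have htriv : ∀ s : S, ι s ∈ H → s = 1 := by
    intro s hs
    have h1 : (s : Ω) ∈ pull ι H := mem_pull.2 ⟨s.2, by rw [iot_of_mem ι s.2]; exact hs⟩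
    rw [hT] at h1
    exact Subtype.ext h1
  have hinj : Function.Injective ((QuotientGroup.mk' H).comp ι) := by
    rw [injective_iff_map_eq_one]
    intro s hs
    exact htriv s ((QuotientGroup.eq_one_iff _).1 hs)
  refine ⟨⟨hinj, fun P hP φ hφ => ?_⟩, R.mapSurjective (QuotientGroup.mk'_surjective H), ?_⟩
  · rw [hι.2 P hP φ hφ]
    constructor
    · rintro ⟨g, hg⟩
      refine ⟨QuotientGroup.mk g, fun x => ?_⟩
      show (QuotientGroup.mk (ι ⟨φ x, hφ x⟩) : G ⧸ H) = _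
      rw [hg x]
      rfl
    · rintro ⟨γ, hγ⟩
      obtain ⟨h, rfl⟩ := QuotientGroup.mk_surjective γ
      have hPR : hat ι P ≤ (R : Subgroup G) := by rw [hR]; exact hat_le_range ι P
      have hh : ∀ y ∈ hat ι P, h * y * h⁻¹ ∈ (R : Subgroup G) ⊔ H := by
        intro y hy
        obtain ⟨x, hx, hxS, rfl⟩ := mem_hat.1 hy
        have e : (QuotientGroup.mk (ι ⟨φ ⟨x, hx⟩, hφ ⟨x, hx⟩⟩) : G ⧸ H) =
            QuotientGroup.mk (h * ι ⟨x, hxS⟩ * h⁻¹) := hγ ⟨x, hx⟩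
        rw [QuotientGroup.eq] at e
        rw [iot_of_mem ι hxS]
        have e2 : h * ι ⟨x, hxS⟩ * h⁻¹ = ι ⟨φ ⟨x, hx⟩, hφ ⟨x, hx⟩⟩ *
          ((ι ⟨φ ⟨x, hx⟩, hφ ⟨x, hx⟩⟩)⁻¹ * (h * ι ⟨x, hxS⟩ * h⁻¹)) := by group
        rw [e2]
        refine Subgroup.mul_mem_sup ?_ e
        rw [hR]; exact ⟨_, rfl⟩
      obtain ⟨n, hn, hnP⟩ := Cfsg.Agent.S5191.aux H R (hat ι P) hPR h hh
      refine ⟨n * h, fun x => ?_⟩
      have h1 := hnP (ι ⟨x, hP x.2⟩) (by
        rw [← iot_of_mem ι (hP x.2)]; exact iot_mem_hat hP x.2)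
      have h1' : n * (h * ι ⟨x, hP x.2⟩ * h⁻¹) * n⁻¹ ∈ ι.range := by rw [← hR]; exact h1
      obtain ⟨s, hs⟩ := h1'
      have hn1 : (QuotientGroup.mk n : G ⧸ H) = 1 := (QuotientGroup.eq_one_iff n).2 hn
      have h2 : (QuotientGroup.mk' H).comp ι s = (QuotientGroup.mk' H).comp ι ⟨φ x, hφ x⟩ := by
        rw [hγ x]
        show (QuotientGroup.mk (ι s) : G ⧸ H) = _
        rw [hs]
        simp [hn1]
      rw [← hinj h2, hs]
      group
  · rw [Sylow.coe_mapSurjective, hR, MonoidHom.map_range]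

theorem realized_subgroup [Finite G] {p : ℕ} [Fact p.Prime] {F : FusionSystem S} {ι : S →* G}
    (hι : F.IsRealizedBy ι) (R : Sylow p G) (hR : (R : Subgroup G) = ι.range)
    (H : Subgroup G) (hT : pull ι H = S)
    (hHom : ∀ P : Subgroup Ω, (subSys ι hι.1 H).Hom P = F.Hom P) :
    ∃ ι' : S →* H, F.IsRealizedBy ι' ∧ ∃ T : Sylow p H, (T : Subgroup H) = ι'.range := by
  have hmem : ∀ s : S, ι s ∈ H := by
    intro s
    have h1 : (s : Ω) ∈ pull ι H := by rw [hT]; exact s.2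
    have h2 := (mem_pull.1 h1).2
    rwa [iot_of_mem ι s.2] at h2
  have hRH : (R : Subgroup G) ≤ H := by
    rw [hR]
    rintro _ ⟨s, rfl⟩
    exact hmem s
  refine ⟨ι.codRestrict H hmem, ⟨fun a b hab => hι.1 (congrArg Subtype.val hab),
    fun P hP φ hφ => ?_⟩, R.subtype hRH, ?_⟩
  · rw [← hHom P, mem_hom_iff, isMap_subSys_iff]
    constructor
    · rintro ⟨-, -, h, hh, hfh⟩
      refine ⟨⟨h, hh⟩, fun x => Subtype.ext ?_⟩
      have := hfh x x.2
      rw [tot_apply, iot_of_mem ι (hφ x), iot_of_mem ι (hP x.2)] at this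
      exact this
    · rintro ⟨h, hh⟩
      refine ⟨by rw [hT]; exact hP, fun x hx => by rw [hT, tot_of_mem φ hx]; exact hφ _, h, h.2,
        fun x hx => ?_⟩
      rw [tot_of_mem φ hx, iot_of_mem ι (hφ _), iot_of_mem ι (hP hx)]
      exact congrArg Subtype.val (hh ⟨x, hx⟩)
  · rw [Sylow.coe_subtype, hR]
    ext y
    rw [Subgroup.mem_subgroupOf]
    constructor
    · rintro ⟨s, hs⟩
      exact ⟨s, Subtype.ext hs⟩
    · rintro ⟨s, rfl⟩
      exact ⟨s, rfl⟩

/-- Let F be a simple saturated fusion system over a finite p-group S that is realized by some finite group on a Sylow p-subgroup. Then F is realized by a finite simple group on a Sylow p-subgroup. -/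
theorem result {Ω : Type u} [Group Ω] {S : Subgroup Ω} [Finite S] (p : ℕ) [Fact p.Prime] (hS : IsPGroup p S) (F : Cfsg.FusionSystem S) (hsimple : F.IsSimple p) (hreal : F.IsRealizable p) : ∃ (G : Type u) (_ : Group G) (_ : Finite G) (_ : IsSimpleGroup G) (ι : ↥S →* G), F.IsRealizedBy ι ∧ ∃ T : Sylow p G, (T : Subgroup G) = ι.range := by
  classical
  have hex : ∃ n : ℕ, ∃ (G : Type u) (_ : Group G) (_ : Finite G) (ι : S →* G),
      F.IsRealizedBy ι ∧ (∃ T : Sylow p G, (T : Subgroup G) = ι.range) ∧ Nat.card G = n := by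
    obtain ⟨G, i1, i2, ι, h1, h2⟩ := hreal
    exact ⟨_, G, i1, i2, ι, h1, h2, rfl⟩
  obtain ⟨G, i1, i2, ι, hι, ⟨R, hR⟩, hcard⟩ := Nat.find_spec hex
  have hmin : ∀ (G' : Type u) [Group G'] [Finite G'] (ι' : S →* G'), F.IsRealizedBy ι' →
      (∃ T : Sylow p G', (T : Subgroup G') = ι'.range) → Nat.card G ≤ Nat.card G' := by
    intro G' j1 j2 ι' h1 h2
    rw [hcard]
    exact Nat.find_min' hex ⟨G', j1, j2, ι', h1, h2, rfl⟩
  have hnt : Nontrivial G := by
    obtain ⟨s, hs1⟩ := (Subgroup.ne_bot_iff_exists_ne_one).1 hsimple.2.1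
    refine ⟨ι s, 1, fun h => hs1 (hι.1 ?_)⟩
    rw [h, map_one]
  refine ⟨G, i1, i2, ⟨fun H hH => ?_⟩, ι, hι, R, hR⟩
  by_contra hcon
  rw [not_or] at hcon
  rcases hsimple.2.2 _ _ (subSys_isNormalIn hι R hR H) with hT | ⟨hT, hHom⟩
  · obtain ⟨h1, h2⟩ := realized_quotient hι R hR H hT
    have h3 := hmin (G ⧸ H) _ h1 h2
    have h4 := Subgroup.card_eq_card_quotient_mul_card_subgroup H
    have h5 : 1 < Nat.card H := (Subgroup.one_lt_card_iff_ne_bot H).2 hcon.1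
    have h6 : 0 < Nat.card (G ⧸ H) := Nat.card_pos
    nlinarith
  · obtain ⟨ι', h1, h2⟩ := realized_subgroup hι R hR H hT hHom
    exact hcon.2 (Subgroup.eq_top_of_le_card H (hmin H ι' h1 h2))

end Cfsg.Agent.S5343
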