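import Cfsg.Statements.S5355
import Cfsg.Agent.Lib.Helper91Trans
import Cfsg.Agent.Lib.Helper91V
import Cfsg.Agent.Lib.Helper47AltHom

set_option autoImplicit false
open Cfsg

namespace Cfsg.Agent.S5355

open Cfsg.Agent.Lib.Helper91Trans Cfsg.Agent.Lib.Helper91V

theorem ker_trivial : ∀ σ : Equiv.Perm (Fin 4), σ ≠ 1 → ∃ τ ρ : Equiv.Perm (Fin 4),
    ρ * (σ * τ * σ⁻¹ * τ⁻¹) * ρ⁻¹ = Equiv.swap 0 1 * Equiv.swap 2 3 := by decide +kernel

theorem cox_rel {G : Type*} [Group G] {a b c : G} (ha : a * a = 1) (hb : b * b = 1) (hc : c * c = 1)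
    (hab : (a * b) ^ 3 = 1) (hbc : (b * c) ^ 3 = 1) (hac : a * c = c * a) :
    ∀ i j, ((![a, b, c] : Fin 3 → G) i * (![a, b, c] : Fin 3 → G) j) ^ (CoxeterMatrix.A 3 i j) = 1 := by
  have hba : (b * a) ^ 3 = 1 := by
    have : b * a = b * (a * b) * b⁻¹ := by group
    rw [this, conj_pow, hab]; simp
  have hcb : (c * b) ^ 3 = 1 := by
    have : c * b = c * (b * c) * c⁻¹ := by group
    rw [this, conj_pow, hbc]; simp
  have hac2 : (a * c) ^ 2 = 1 := by
    rw [pow_two]
    calc a * c * (a * c) = a * c * (c * a) := by rw [hac]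
      _ = a * (c * c) * a := by group
      _ = 1 := by rw [hc, mul_one, ha]
  have hca2 : (c * a) ^ 2 = 1 := by rw [← hac]; exact hac2
  intro i j
  fin_cases i <;> fin_cases j <;> simp [CoxeterMatrix.A] <;> assumption

/-- Let D be a conjugacy class of 3-transpositions generating the finite group G, with at least two members, and d a member of D. Suppose that every member of D commuting with d commutes with exactly the same members of D as d does, and that exactly one member of D other than d commutes with d. Then G is isomorphic to the symmetric group of degree 4. -/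
theorem result {G : Type*} [Group G] [Finite G] {D : Set G} (hD : Cfsg.IsThreeTranspositionClass D) (hD2 : ∃ a ∈ D, ∃ b ∈ D, a ≠ b) {d : G} (hd : d ∈ D) (hV : {y : G | y ∈ D ∧ Commute d y} = {v : G | v ∈ D ∧ ∀ e ∈ D, Commute v e ↔ Commute d e}) (hm : {y : G | y ∈ D ∧ Commute d y}.ncard = 2) : Nonempty (G ≃* Equiv.Perm (Fin 4)) := by
  have hS := hD.1
  have hconj : ∀ g : G, ∀ x ∈ D, g * x * g⁻¹ ∈ D := fun g x hx => conj_mem_of_class hD g hx
  have hconj' : ∀ y ∈ D, ∀ x ∈ D, y * x * y ∈ D := by
    intro y hy x hx
    have := hconj y x hx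
    rwa [inv_eq hS hy] at this
  -- partners
  have hpart0 : ∃ d' ∈ D, d' ≠ d ∧ Commute d d' ∧ ∀ y ∈ D, Commute d y → y = d ∨ y = d' := by
    obtain ⟨p, q, hpq, hset⟩ := Set.ncard_eq_two.1 hm
    have hdm : d ∈ ({p, q} : Set G) := by rw [← hset]; exact ⟨hd, Commute.refl d⟩
    have hpm : p ∈ {y : G | y ∈ D ∧ Commute d y} := by rw [hset]; simp
    have hqm : q ∈ {y : G | y ∈ D ∧ Commute d y} := by rw [hset]; simp
    have hall : ∀ y ∈ D, Commute d y → y = p ∨ y = q := by
      intro y hy hdy
      have : y ∈ ({p, q} : Set G) := by rw [← hset]; exact ⟨hy, hdy⟩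
      simpa using this
    rcases hdm with rfl | hdq
    · exact ⟨q, hqm.1, hpq.symm, hqm.2, hall⟩
    · rw [Set.mem_singleton_iff] at hdq
      subst hdq
      exact ⟨p, hpm.1, hpq, hpm.2, fun y hy h => (hall y hy h).symm⟩
  have hpart : ∀ x ∈ D, ∃ x', x' ∈ D ∧ x' ≠ x ∧ Commute x x' ∧
      ∀ y ∈ D, Commute x y → y = x ∨ y = x' := by
    intro x hx
    obtain ⟨d', hd', hne, hcom, hall⟩ := hpart0
    obtain ⟨g, rfl⟩ := exists_conj_of_class hD hd hx
    refine ⟨g * d' * g⁻¹, hconj g d' hd', ?_, ?_, ?_⟩
    · intro h
      apply hne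
      simpa using h
    · rw [commute_conj_iff]
      have : g⁻¹ * (g * d' * g⁻¹) * g = d' := by group
      rw [this]; exact hcom
    · intro y hy hc
      rw [commute_conj_iff] at hc
      have hy' : g⁻¹ * y * g ∈ D := by
        have := hconj g⁻¹ y hy
        rwa [inv_inv] at this
      rcases hall _ hy' hc with h | h
      · left; rw [← h]; group
      · right; rw [← h]; group
  choose! p hp using hpart
  have hpD : ∀ x ∈ D, p x ∈ D := fun x hx => (hp x hx).1
  have hpne : ∀ x ∈ D, p x ≠ x := fun x hx => (hp x hx).2.1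
  have hpc : ∀ x ∈ D, Commute x (p x) := fun x hx => (hp x hx).2.2.1
  have hpu : ∀ x ∈ D, ∀ y ∈ D, Commute x y → y ≠ x → y = p x := by
    intro x hx y hy h hne
    exact ((hp x hx).2.2.2 y hy h).resolve_left hne
  have hsq : ∀ x ∈ D, x * x = 1 := fun x hx => sq_one hS hx
  -- commuting with the partner
  have hpp : ∀ x ∈ D, p (p x) = x := by
    intro x hx
    exact (hpu (p x) (hpD x hx) x hx (hpc x hx).symm (hpne x hx).symm).symm
  have hnc : ∀ x ∈ D, ∀ y ∈ D, ¬ Commute x y → ¬ Commute (p x) y := by
    intro x hx y hy h h'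
    apply h
    by_cases hy1 : y = p x
    · rw [hy1]; exact hpc x hx
    · have := hpu (p x) (hpD x hx) y hy h' hy1
      rw [hpp x hx] at this
      rw [this]
  -- z
  obtain ⟨z, hz⟩ : ∃ z : G → G, z = fun x => x * p x := ⟨_, rfl⟩
  have hzz : ∀ x ∈ D, z x * z x = 1 := by
    intro x hx
    rw [hz]
    show x * p x * (x * p x) = 1
    calc x * p x * (x * p x) = x * (p x * x) * p x := by group
      _ = x * (x * p x) * p x := by rw [(hpc x hx).eq]
      _ = (x * x) * (p x * p x) := by group
      _ = 1 := by rw [hsq x hx, hsq _ (hpD x hx), one_mul]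
  have hzne : ∀ x ∈ D, z x ≠ 1 := by
    intro x hx h
    rw [hz] at h
    apply hpne x hx
    have h1 : x * p x = 1 := h
    calc p x = (x * x) * p x := by rw [hsq x hx, one_mul]
      _ = x * (x * p x) := by group
      _ = x := by rw [h1, mul_one]
  have hpconj : ∀ y ∈ D, ∀ x ∈ D, p (y * x * y) = y * p x * y := by
    intro y hy x hx
    symm
    apply hpu _ (hconj' y hy x hx) _ (hconj' y hy _ (hpD x hx))
    · show y * x * y * (y * p x * y) = y * p x * y * (y * x * y)
      calc y * x * y * (y * p x * y) = y * x * (y * y) * p x * y := by group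
        _ = y * (x * p x) * y := by rw [hsq y hy]; group
        _ = y * (p x * x) * y := by rw [(hpc x hx).eq]
        _ = y * p x * (y * y) * x * y := by rw [hsq y hy]; group
        _ = _ := by group
    · intro h
      apply hpne x hx
      have h1 : y * (y * p x * y) * y = y * (y * x * y) * y := by rw [h]
      have e : ∀ w : G, y * (y * w * y) * y = w := by
        intro w
        calc y * (y * w * y) * y = (y * y) * w * (y * y) := by group
          _ = w := by rw [hsq y hy, one_mul, mul_one]
      rwa [e, e] at h1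
  have hzconj : ∀ y ∈ D, ∀ x ∈ D, z (y * x * y) = y * z x * y := by
    intro y hy x hx
    rw [hz]
    show y * x * y * p (y * x * y) = y * (x * p x) * y
    rw [hpconj y hy x hx]
    calc y * x * y * (y * p x * y) = y * x * (y * y) * p x * y := by group
      _ = _ := by rw [hsq y hy]; group
  -- the partner of y through x
  have hpy : ∀ x ∈ D, ∀ y ∈ D, ¬ Commute x y → p y = z x * y * z x := by
    intro x hx y hy hxy
    have hxy' := hnc x hx y hy hxy
    have b1 : y * x * y = x * y * x := braid hS hy hx (fun h => hxy h.symm)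
    have b2 : y * p x * y = p x * y * p x := braid hS hy (hpD x hx) (fun h => hxy' h.symm)
    have hform : z x * y * z x = x * p x * y * p x * x := by
      rw [hz]
      show x * p x * y * (x * p x) = x * p x * y * p x * x
      rw [(hpc x hx).eq]; group
    rw [hform]
    symm
    apply hpu y hy
    · have h1 := hconj' x hx _ (hconj' _ (hpD x hx) y hy)
      have : x * (p x * y * p x) * x = x * p x * y * p x * x := by group
      rwa [this] at h1
    · exact (s4_commute (hsq x hx) (hsq y hy) (hpc x hx).eq b1 b2).symm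
    · intro h
      apply hpne x hx
      have h1 : p x * y * p x = x * y * x := by
        calc p x * y * p x = (x * x) * (p x * y * p x) * (x * x) := by
              rw [hsq x hx, one_mul, mul_one]
          _ = x * (x * p x * y * p x * x) * x := by group
          _ = x * y * x := by rw [h]
      rw [← b1, ← b2] at h1
      have h2 : y * (y * p x * y) * y = y * (y * x * y) * y := by rw [h1]
      have e : ∀ w : G, y * (y * w * y) * y = w := by
        intro w
        calc y * (y * w * y) * y = (y * y) * w * (y * y) := by group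
          _ = w := by rw [hsq y hy, one_mul, mul_one]
      rwa [e, e] at h2
  -- multiplicativity on lines
  have hline : ∀ x ∈ D, ∀ y ∈ D, ¬ Commute x y →
      z (y * x * y) = z x * z y ∧ z (y * x * y) = z y * z x := by
    intro x hx y hy hxy
    have h1 := hpy x hx y hy hxy
    have hzy : z y = y * (z x * y * z x) := by
      rw [← h1, hz]
    have hc : y * (z x * y * z x) = (z x * y * z x) * y := by
      rw [← h1]; exact (hpc y hy).eq
    rw [hzconj y hy x hx]
    constructor
    · rw [hzy, hc]
      calc y * z x * y = (z x * z x) * y * z x * y := by rw [hzz x hx, one_mul]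
        _ = z x * (z x * y * z x * y) := by group
    · rw [hzy]
      calc y * z x * y = y * z x * y * (z x * z x) := by rw [hzz x hx, mul_one]
        _ = y * (z x * y * z x) * z x := by group
  -- three pairwise non-commuting elements
  have hthree : ∀ a ∈ D, ∀ b ∈ D, ∀ e ∈ D, ¬ Commute a b → ¬ Commute a e → ¬ Commute b e →
      Commute (e * b * e) a := by
    intro a ha b hb e he hab hae hbe
    by_contra hfa
    have hf : e * b * e ∈ D := hconj' e he b hb
    have h1 := (hline b hb e he hbe).1
    have h2 := (hline _ hf a ha hfa).1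
    have e1 : a * (e * b * e) * a = (a * e * a) * (a * b * a) * (a * e * a) := by
      calc a * (e * b * e) * a = a * e * 1 * b * 1 * e * a := by group
        _ = a * e * (a * a) * b * (a * a) * e * a := by rw [hsq a ha]
        _ = _ := by group
    have hx : a * b * a ∈ D := hconj' a ha b hb
    have hy : a * e * a ∈ D := hconj' a ha e he
    have hxy : ¬ Commute (a * b * a) (a * e * a) := by
      intro h
      apply hbe
      have h' : a * b * a * (a * e * a) = a * e * a * (a * b * a) := h
      have e2 : ∀ u v : G, a * (a * u * a * (a * v * a)) * a = u * v := by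
        intro u v
        calc a * (a * u * a * (a * v * a)) * a = (a * a) * u * (a * a) * v * (a * a) := by group
          _ = u * v := by rw [hsq a ha]; group
      show b * e = e * b
      rw [← e2 b e, h', e2]
    have h3 := (hline _ hx _ hy hxy).1
    have h4 := (hline b hb a ha (fun h => hab h.symm)).1
    have h5 := (hline e he a ha (fun h => hae h.symm)).2
    rw [← e1, h2, h1, h4, h5] at h3
    apply hzne a ha
    have h6 : z b * z e * z a = z b * z e * 1 := by
      rw [h3, mul_one]
      calc z b * z a * (z a * z e) = z b * (z a * z a) * z e := by group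
        _ = _ := by rw [hzz a ha, mul_one]
    exact mul_left_cancel h6
  obtain ⟨b, hb, hdb⟩ := exists_not_commute hD hD2 hd
  have hdm : d ∈ Subgroup.closure ({d, b, p d} : Set G) := Subgroup.subset_closure (by simp)
  have hbm : b ∈ Subgroup.closure ({d, b, p d} : Set G) := Subgroup.subset_closure (by simp)
  have hpm : p d ∈ Subgroup.closure ({d, b, p d} : Set G) := Subgroup.subset_closure (by simp)
  have hDsub : ∀ e ∈ D, e ∈ Subgroup.closure ({d, b, p d} : Set G) := by
    intro e he
    by_cases h1 : Commute d e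
    · by_cases h2 : e = d
      · rw [h2]; exact hdm
      · rw [hpu d hd e he h1 h2]; exact hpm
    by_cases h2 : Commute b e
    · by_cases h3 : e = b
      · rw [h3]; exact hbm
      · rw [hpu b hb e he h2 h3, hpy d hd b hb hdb, hz]
        exact mul_mem (mul_mem (mul_mem hdm hpm) hbm) (mul_mem hdm hpm)
    have h3 := hthree d hd b hb e he hdb h1 h2
    have hbr : e * b * e = b * e * b := braid hS he hb (fun h => h2 h.symm)
    have hf := hconj' e he b hb
    have he' : e = b * (e * b * e) * b := by
      rw [hbr]
      calc e = (b * b) * e * (b * b) := by rw [hsq b hb, one_mul, mul_one]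
        _ = _ := by group
    by_cases h4 : e * b * e = d
    · rw [he', h4]; exact mul_mem (mul_mem hbm hdm) hbm
    · rw [he', hpu d hd _ hf h3.symm h4]; exact mul_mem (mul_mem hbm hpm) hbm
  have hgen : Subgroup.closure ({d, b, p d} : Set G) = ⊤ := by
    rw [eq_top_iff, ← hD.2.2, Subgroup.closure_le]
    exact hDsub
  obtain ⟨φ, hφ⟩ := Cfsg.Agent.Lib.Helper47AltHom.exists_permHom 3 (![d, b, p d] : Fin 3 → G)
    (cox_rel (hsq d hd) (hsq b hb) (hsq _ (hpD d hd)) (cube_of_not_commute hS hd hb hdb)
      (cube_of_not_commute hS hb (hpD d hd) (fun h => hnc d hd b hb hdb h.symm)) (hpc d hd).eq)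
  have h0 : φ (Equiv.swap 0 1) = d := hφ 0
  have h1 : φ (Equiv.swap 1 2) = b := hφ 1
  have h2 : φ (Equiv.swap 2 3) = p d := hφ 2
  have hsurj : Function.Surjective φ := by
    rw [← MonoidHom.range_eq_top, eq_top_iff, ← hgen, Subgroup.closure_le]
    intro x hx
    simp only [Set.mem_insert_iff, Set.mem_singleton_iff] at hx
    rcases hx with rfl | rfl | rfl
    · exact ⟨_, h0⟩
    · exact ⟨_, h1⟩
    · exact ⟨_, h2⟩
  have hinj : Function.Injective φ := by
    rw [injective_iff_map_eq_one]
    intro σ hσ
    by_contra hne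
    obtain ⟨τ, ρ, h⟩ := ker_trivial σ hne
    have h3 := congrArg φ h
    simp only [map_mul, map_inv, hσ, h0, h2] at h3
    apply hzne d hd
    rw [hz]
    show d * p d = 1
    rw [← h3]
    group
  exact ⟨(MulEquiv.ofBijective φ ⟨hinj, hsurj⟩).symm⟩

end Cfsg.Agent.S5355
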