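import Cfsg.Statements.S5344
import Cfsg.Agent.S5355

set_option autoImplicit false
open Cfsg

namespace Cfsg.Agent.S5344

/-- In a set of 3-transpositions, let a, b, c be members with a and c different and commuting, while neither a nor c commutes with b (a 3-string). Then there is an injective homomorphism from the symmetric group of degree 4 into the ambient group sending the transpositions (0 1), (1 2), (2 3) to a, b, c; so a, b, c generate a copy of the symmetric group of degree 4 in which they are transpositions. -/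
theorem result {G : Type*} [Group G] {D : Set G} (hD : Cfsg.IsThreeTranspositionSet D) {a b c : G} (ha : a ∈ D) (hb : b ∈ D) (hc : c ∈ D) (hac : a ≠ c) (hac' : Commute a c) (hab : ¬ Commute a b) (hbc : ¬ Commute b c) : ∃ φ : Equiv.Perm (Fin 4) →* G, Function.Injective φ ∧ φ (Equiv.swap 0 1) = a ∧ φ (Equiv.swap 1 2) = b ∧ φ (Equiv.swap 2 3) = c := by
  have haa := Cfsg.Agent.Lib.Helper91Trans.sq_one hD ha
  have hbb := Cfsg.Agent.Lib.Helper91Trans.sq_one hD hb
  have hcc := Cfsg.Agent.Lib.Helper91Trans.sq_one hD hc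
  obtain ⟨φ, hφ⟩ := Cfsg.Agent.Lib.Helper47AltHom.exists_permHom 3 (![a, b, c] : Fin 3 → G)
    (Cfsg.Agent.S5355.cox_rel haa hbb hcc
      (Cfsg.Agent.Lib.Helper91Trans.cube_of_not_commute hD ha hb hab)
      (Cfsg.Agent.Lib.Helper91Trans.cube_of_not_commute hD hb hc hbc) hac'.eq)
  have h0 : φ (Equiv.swap 0 1) = a := hφ 0
  have h1 : φ (Equiv.swap 1 2) = b := hφ 1
  have h2 : φ (Equiv.swap 2 3) = c := hφ 2
  refine ⟨φ, ?_, h0, h1, h2⟩
  rw [injective_iff_map_eq_one]
  intro σ hσ
  by_contra hne
  obtain ⟨τ, ρ, h⟩ := Cfsg.Agent.S5355.ker_trivial σ hne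
  have h3 := congrArg φ h
  simp only [map_mul, map_inv, hσ, h0, h2] at h3
  apply hac
  have h4 : a * c = 1 := by
    rw [← h3]
    group
  calc a = a * (c * c) := by rw [hcc, mul_one]
    _ = (a * c) * c := by group
    _ = c := by rw [h4, one_mul]

end Cfsg.Agent.S5344
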