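import Cfsg.Statements.S5346
import Cfsg.Agent.S5561
import Cfsg.Agent.Lib.Helper92Basic

set_option autoImplicit false
open Cfsg

namespace Cfsg.Agent.S5346

theorem width_one_iff {G : Type*} [Group G] [Finite G] {D : Set G} {d : G} (hd : d ∈ D) :
    Cfsg.commutingWidth D = 1 ↔ ∀ a ∈ D, ∀ b ∈ D, Commute a b → a = b := by
  have hbdd : BddAbove {n : ℕ | ∃ E : Set G, E ⊆ D ∧ E.Finite ∧ (∀ a ∈ E, ∀ b ∈ E, Commute a b) ∧
      E.ncard = n} := by
    refine ⟨Nat.card G, ?_⟩
    rintro n ⟨E, -, -, -, rfl⟩
    rw [← Set.ncard_univ]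
    exact Set.ncard_le_ncard (Set.subset_univ E) (Set.toFinite _)
  have h1 : 1 ∈ {n : ℕ | ∃ E : Set G, E ⊆ D ∧ E.Finite ∧ (∀ a ∈ E, ∀ b ∈ E, Commute a b) ∧
      E.ncard = n} := by
    refine ⟨{d}, by simpa using hd, Set.finite_singleton d, ?_, Set.ncard_singleton d⟩
    intro a ha b hb
    rw [Set.mem_singleton_iff] at ha hb
    rw [ha, hb]
  unfold Cfsg.commutingWidth
  constructor
  · intro h a ha b hb hab
    by_contra hne
    have h2 : 2 ∈ {n : ℕ | ∃ E : Set G, E ⊆ D ∧ E.Finite ∧ (∀ a ∈ E, ∀ b ∈ E, Commute a b) ∧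
        E.ncard = n} := by
      refine ⟨{a, b}, ?_, Set.toFinite _, ?_, Set.ncard_pair hne⟩
      · intro x hx
        rcases hx with rfl | hx
        · exact ha
        · rw [Set.mem_singleton_iff] at hx; rw [hx]; exact hb
      · intro x hx y hy
        rcases hx with rfl | hx <;> rcases hy with rfl | hy
        · exact Commute.refl _
        · rw [Set.mem_singleton_iff] at hy; rw [hy]; exact hab
        · rw [Set.mem_singleton_iff] at hx; rw [hx]; exact hab.symm
        · rw [Set.mem_singleton_iff] at hx hy; rw [hx, hy]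
    have := le_csSup hbdd h2
    omega
  · intro h
    apply le_antisymm
    · apply csSup_le ⟨1, h1⟩
      rintro n ⟨E, hED, hEf, hEc, rfl⟩
      rw [Set.ncard_le_one hEf]
      intro a ha b hb
      exact h a (hED ha) b (hED hb) (hEc a ha b hb)
    · exact le_csSup hbdd h1

/-- Let D be a conjugation-invariant generating set of 3-transpositions of a finite group G and d a member of D. Then D has width 1 (no two different members of D commute) if and only if G is the product of the subgroup generated by d with the largest normal 3-subgroup of G. -/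
theorem result {G : Type*} [Group G] [Finite G] {D : Set G} (hD : Cfsg.IsThreeTranspositionGroup D) {d : G} (hd : d ∈ D) : Cfsg.commutingWidth D = 1 ↔ Subgroup.zpowers d ⊔ Cfsg.pCore 3 G = ⊤ := by
  obtain ⟨⟨hord, h23⟩, hinv, hgen⟩ := hD
  have hsq : ∀ a ∈ D, a * a = 1 := fun a ha => by
    have := pow_orderOf_eq_one a
    rwa [hord a ha, pow_two] at this
  have hinvs : ∀ a ∈ D, a⁻¹ = a := fun a ha => inv_eq_of_mul_eq_one_left (hsq a ha)
  have hN : (Cfsg.pCore 3 G).Normal := Cfsg.Agent.Lib.Helper92Basic.pCore_normal 3 G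
  rw [width_one_iff hd]
  constructor
  · intro hw
    have h3 : ∀ a ∈ D, ∀ b ∈ D, (a * b) ^ 3 = 1 := by
      intro a ha b hb
      rcases h23 a ha b hb with h | h
      · have hc : Commute a b := by
          have h1 : a * b * (a * b) = 1 := by rw [← pow_two]; exact h
          have h2 : a * b = (a * b)⁻¹ := eq_inv_of_mul_eq_one_left h1
          rw [mul_inv_rev, hinvs a ha, hinvs b hb] at h2
          exact h2
        rw [hw a ha b hb hc, hsq b hb, one_pow]
      · exact h
    have hconj : ∀ a ∈ D, a ∈ conjugatesOf d := by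
      intro a ha
      show IsConj d a
      rw [isConj_iff]
      refine ⟨d * a, ?_⟩
      have h := h3 d hd a ha
      rw [mul_inv_rev, hinvs a ha, hinvs d hd]
      have h1 : d * a * (d * a) * (d * a) = 1 := by rw [← pow_two, ← pow_succ]; exact h
      calc d * a * d * (a * d) = (d * a * (d * a) * (d * a)) * a⁻¹ := by group
        _ = a := by rw [h1, one_mul, hinvs a ha]
    have hsub : ∀ a ∈ conjugatesOf d, a ∈ D := by
      intro a ha
      obtain ⟨c, rfl⟩ := isConj_iff.mp (show IsConj d a from ha)
      exact hinv c d hd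
    have key := Cfsg.Agent.S5561.result d (hord d hd) (by
      intro a ha b hb
      have h := orderOf_dvd_of_pow_eq_one (h3 a (hsub a ha) b (hsub b hb))
      rcases (Nat.dvd_prime Nat.prime_three).mp h with h | h
      · exact ⟨0, by rw [h, pow_zero]⟩
      · exact ⟨1, by rw [h, pow_one]⟩)
    rw [eq_top_iff, ← hgen, Subgroup.closure_le]
    intro a ha
    have h1 : a = d * (d * a) := by rw [← mul_assoc, hsq d hd, one_mul]
    rw [h1]
    exact Subgroup.mul_mem _ (Subgroup.mem_sup_left (Subgroup.mem_zpowers d))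
      (Subgroup.mem_sup_right (key d (hconj d hd) a (hconj a ha)))
  · intro htop a ha b hb hab
    have hP := Cfsg.Agent.Lib.Helper92Basic.pCore_isPGroup 3 G
    have hno : ∀ x ∈ Cfsg.pCore 3 G, x * x = 1 → x = 1 := by
      intro x hx hxx
      obtain ⟨k, hk⟩ := hP ⟨x, hx⟩
      have hk' : x ^ 3 ^ k = 1 := by
        have := congrArg Subtype.val hk
        simpa using this
      have h1 : orderOf x ∣ 3 ^ k := orderOf_dvd_of_pow_eq_one hk'
      have h2 : orderOf x ∣ 2 := orderOf_dvd_of_pow_eq_one (by rw [pow_two]; exact hxx)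
      have hc : Nat.Coprime (3 ^ k) 2 := Nat.Coprime.pow_left k (by norm_num)
      exact orderOf_eq_one_iff.mp (Nat.eq_one_of_dvd_coprimes hc h1 h2)
    have hform : ∀ x ∈ D, d * x ∈ Cfsg.pCore 3 G := by
      intro x hx
      have hx' : x ∈ Subgroup.zpowers d ⊔ Cfsg.pCore 3 G := by rw [htop]; trivial
      rw [← SetLike.mem_coe, Subgroup.mul_normal] at hx'
      obtain ⟨y, hy, n, hn, hyn⟩ := Set.mem_mul.mp hx'
      obtain ⟨i, rfl⟩ := Subgroup.mem_zpowers_iff.mp hy
      rcases Int.even_or_odd' i with ⟨j, rfl | rfl⟩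
      · exfalso
        have h1 : d ^ (2 * j) = 1 := by
          rw [zpow_mul, zpow_two, hsq d hd, one_zpow]
        simp only [h1, one_mul] at hyn
        have h2 := hno x (hyn ▸ hn) (hsq x hx)
        have := hord x hx
        rw [h2, orderOf_one] at this
        omega
      · have h1 : d ^ (2 * j + 1) = d := by
          rw [zpow_add, zpow_mul, zpow_two, hsq d hd, one_zpow, one_mul, zpow_one]
        simp only [h1] at hyn
        rw [← hyn, ← mul_assoc, hsq d hd, one_mul]
        exact hn
    have h1 : a * b ∈ Cfsg.pCore 3 G := by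
      have h2 : a * b = (d * a)⁻¹ * (d * b) := by
        rw [mul_inv_rev, hinvs a ha]; group
      rw [h2]
      exact Subgroup.mul_mem _ (Subgroup.inv_mem _ (hform a ha)) (hform b hb)
    have h2 : a * b * (a * b) = 1 := by
      calc a * b * (a * b) = a * (b * a) * b := by group
        _ = a * (a * b) * b := by rw [hab.eq]
        _ = (a * a) * (b * b) := by group
        _ = 1 := by rw [hsq a ha, hsq b hb, one_mul]
    have h3 := hno _ h1 h2
    rw [← hinvs a ha]
    exact (eq_inv_of_mul_eq_one_right h3).symm ▸ rfl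

end Cfsg.Agent.S5346
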