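import Cfsg.Statements.S5351
import Cfsg.Agent.Lib.Helper60TTg

set_option autoImplicit false
open Cfsg

namespace Cfsg.Agent.S5351

open Cfsg.Agent.Lib.Helper91Trans Cfsg.Agent.Lib.Helper91V Cfsg.Agent.Lib.Helper60TTa
  Cfsg.Agent.Lib.Helper60TTb Cfsg.Agent.Lib.Helper60TTc Cfsg.Agent.Lib.Helper60TTd
  Cfsg.Agent.Lib.Helper60TTe Cfsg.Agent.Lib.Helper60TTf Cfsg.Agent.Lib.Helper60TTg
open Cfsg.Agent.Lib.Helper28Comp Cfsg.Agent.Lib.Helper28Layer

/-- Let D be a conjugacy class of 3-transpositions generating the finite group G, with at least two members. Then for every prime p > 3 the largest normal p-subgroup of G is central, and exactly one of the following holds: the largest normal 2-subgroup of G is not central; the largest normal 3-subgroup of G is not central; the layer of G (the product of its components) is non-trivial. -/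
theorem result {G : Type*} [Group G] [Finite G] {D : Set G} (hD : Cfsg.IsThreeTranspositionClass D) (hD2 : ∃ a ∈ D, ∃ b ∈ D, a ≠ b) : (∀ p : ℕ, p.Prime → 3 < p → Cfsg.pCore p G ≤ Subgroup.center G) ∧ ((¬ Cfsg.pCore 2 G ≤ Subgroup.center G ∧ Cfsg.pCore 3 G ≤ Subgroup.center G ∧ Cfsg.layer G = ⊥) ∨ (Cfsg.pCore 2 G ≤ Subgroup.center G ∧ ¬ Cfsg.pCore 3 G ≤ Subgroup.center G ∧ Cfsg.layer G = ⊥) ∨ (Cfsg.pCore 2 G ≤ Subgroup.center G ∧ Cfsg.pCore 3 G ≤ Subgroup.center G ∧ Cfsg.layer G ≠ ⊥)) := by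
  refine ⟨fun p hp hp3 => pCore_le_center hD hp hp3, ?_⟩
  have hconj := hconj_of_class hD
  obtain ⟨d, hd, _⟩ := hD.2.1
  have hN2 := pCore_normal 2 G
  have hN3 := pCore_normal 3 G
  have f2 : Fact (Nat.Prime 2) := ⟨Nat.prime_two⟩
  have f3 : Fact (Nat.Prime 3) := ⟨Nat.prime_three⟩
  have hs2 : Group.IsSolvable (Cfsg.pCore 2 G) := by
    have := (pCore_isPGroup 2 G).isNilpotent
    infer_instance
  have hs3 : Group.IsSolvable (Cfsg.pCore 3 G) := by
    have := (pCore_isPGroup 3 G).isNilpotent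
    infer_instance
  -- not both O₂ and O₃
  have c23 : ¬ Cfsg.pCore 2 G ≤ Subgroup.center G → ¬ Cfsg.pCore 3 G ≤ Subgroup.center G →
      False := by
    intro h2 h3
    obtain ⟨x, hx, hx1, hx2⟩ := P2_of_pCore_two hD hd h2
    obtain ⟨y, hy, hy1⟩ := P3_of_pCore_three hD hd h3
    have hdis : Disjoint (Cfsg.pCore 2 G) (Cfsg.pCore 3 G) := by
      rw [Subgroup.disjoint_def]
      intro z hz2 hz3
      obtain ⟨k, hk⟩ := pCore_isPGroup 2 G ⟨z, hz2⟩
      have hk' : z ^ (2 ^ k) = 1 := by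
        have := congrArg Subtype.val hk
        simpa using this
      exact eq_one_of_mem_pCore (p := 3) (m := 2 ^ k)
        (Nat.Coprime.pow_right k (by norm_num)) hz3 hk'
    exact ord_contra hD.1 hconj hN2 hN3
      (fun u hu v hv => Subgroup.commute_of_normal_of_disjoint _ _ hN2 hN3 hdis u v hu hv)
      hd hx hy hx1 hx2 hy1
  have cE : Cfsg.layer G ≠ ⊥ → (∃ l ∈ Cfsg.layer G, ¬ Commute d (l * d * l⁻¹)) ∧
      (∃ l ∈ Cfsg.layer G, l * d * l⁻¹ ≠ d ∧ Commute d (l * d * l⁻¹)) := by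
    intro hE
    exact perf_both hD.1 hconj layer_normal layer_perfect layer_hcen hd
      (exists_not_commute_of_perfect hD layer_normal layer_perfect hE hd)
  have c2E : ¬ Cfsg.pCore 2 G ≤ Subgroup.center G → Cfsg.layer G ≠ ⊥ → False := by
    intro h2 hE
    obtain ⟨x, hx, hx1, hx2⟩ := P2_of_pCore_two hD hd h2
    obtain ⟨⟨y, hy, hy1⟩, _⟩ := cE hE
    exact ord_contra hD.1 hconj hN2 layer_normal (commute_layer_of_solvable hN2 hs2)
      hd hx hy hx1 hx2 hy1
  have c3E : ¬ Cfsg.pCore 3 G ≤ Subgroup.center G → Cfsg.layer G ≠ ⊥ → False := by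
    intro h3 hE
    obtain ⟨y, hy, hy1⟩ := P3_of_pCore_three hD hd h3
    obtain ⟨_, ⟨x, hx, hx1, hx2⟩⟩ := cE hE
    exact ord_contra hD.1 hconj layer_normal hN3
      (fun u hu v hv => (commute_layer_of_solvable hN3 hs3 v hv u hu).symm)
      hd hx hy hx1 hx2 hy1
  have call : Cfsg.pCore 2 G ≤ Subgroup.center G → Cfsg.pCore 3 G ≤ Subgroup.center G →
      Cfsg.layer G = ⊥ → False := by
    intro h2 h3 hE
    have hF := fitting_le_center hD h2 h3
    have hFs : Cfsg.generalizedFittingSubgroup G ≤ Subgroup.center G := by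
      unfold Cfsg.generalizedFittingSubgroup
      rw [hE, bot_sup_eq]; exact hF
    have hc : Subgroup.centralizer (Cfsg.generalizedFittingSubgroup G : Set G) = ⊤ := by
      rw [eq_top_iff]
      intro g _
      rw [Subgroup.mem_centralizer_iff]
      intro z hz
      have := hFs hz
      rw [Subgroup.mem_center_iff] at this
      exact (this g).symm
    have hb := centralizer_gfit_le (G := G)
    rw [hc] at hb
    obtain ⟨e, he, hde⟩ := exists_not_commute hD hD2 hd
    apply hde
    have := hFs (hb (Subgroup.mem_top d))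
    rw [Subgroup.mem_center_iff] at this
    exact (this e).symm
  by_cases h2 : Cfsg.pCore 2 G ≤ Subgroup.center G
  · by_cases h3 : Cfsg.pCore 3 G ≤ Subgroup.center G
    · right; right
      exact ⟨h2, h3, fun hE => call h2 h3 hE⟩
    · right; left
      refine ⟨h2, h3, ?_⟩
      by_contra hE
      exact c3E h3 hE
  · left
    refine ⟨h2, ?_, ?_⟩
    · by_contra h3
      exact c23 h2 h3
    · by_contra hE
      exact c2E h2 hE

end Cfsg.Agent.S5351
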