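import Cfsg.Statements.S5354
import Cfsg.Agent.Lib.Helper60TTi

set_option autoImplicit false
open Cfsg

namespace Cfsg.Agent.S5354

open Cfsg.Agent.Lib.Helper60TTa Cfsg.Agent.Lib.Helper60TTc Cfsg.Agent.Lib.Helper60TTh
  Cfsg.Agent.Lib.Helper60TTi Cfsg.Agent.Lib.Helper28Comp Cfsg.Agent.Lib.Helper91Trans

theorem class_of_prim {G : Type*} [Group G] {D : Set G} (hD : Cfsg.IsThreeTranspositionGroup D)
    (hprim : Cfsg.IsPrimitiveUnderConj D) : Cfsg.IsThreeTranspositionClass D := by
  obtain ⟨a, ha, _⟩ := hprim.2.1
  refine ⟨hD.1, ⟨a, ha, ?_⟩, hD.2.2⟩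
  ext b
  constructor
  · intro hb
    obtain ⟨g, hg⟩ := hprim.1 a ha b hb
    show IsConj a b
    exact isConj_iff.mpr ⟨g, hg⟩
  · intro hb
    have hb' : IsConj a b := hb
    obtain ⟨g, hg⟩ := isConj_iff.mp hb'
    rw [← hg]
    exact hD.2.1 g a ha

/-- Let D be a conjugation-invariant generating set of 3-transpositions of the finite group G on which G acts primitively by conjugation, and suppose two different members of D commute (width at least 2). Then G has a quasisimple normal subgroup L of index at most 2 with the generalized Fitting subgroup of G equal to L times the centre, the commuting graph of D is connected, and for d in D the subgroup generated by the members of D commuting with d is a maximal D-subgroup: it is proper, and every subgroup generated by members of D that contains it is either it or G. -/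
theorem result {G : Type*} [Group G] [Finite G] {D : Set G} (hD : Cfsg.IsThreeTranspositionGroup D) (hprim : Cfsg.IsPrimitiveUnderConj D) (hw : ∃ a ∈ D, ∃ b ∈ D, a ≠ b ∧ Commute a b) : (∃ L : Subgroup G, L.Normal ∧ Cfsg.IsQuasisimple L ∧ L.index ≤ 2 ∧ Cfsg.generalizedFittingSubgroup G = L ⊔ Subgroup.center G) ∧ (Cfsg.commutingGraph D).Connected ∧ ∀ d ∈ D, Subgroup.closure {y : G | y ∈ D ∧ Commute d y} ≠ ⊤ ∧ ∀ H : Subgroup G, Cfsg.IsDSubgroup D H → Subgroup.closure {y : G | y ∈ D ∧ Commute d y} ≤ H → H = Subgroup.closure {y : G | y ∈ D ∧ Commute d y} ∨ H = ⊤ := by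
  have hC := class_of_prim hD hprim
  have hP : Prim D := prim_of_isPrimitive hprim
  have h2 := pCore_two_le_center_of_prim hC hP hprim.2.1
  have h3 := pCore_three_le_center_of_prim hC hP hw
  have hconn := connected_of_prim hC hP hw
  obtain ⟨L, hL, hQ, _, hF⟩ := exists_component hC hprim.2.1 h2 h3
  refine ⟨⟨L, hL, isQuasisimple_iff_QS.mpr hQ, index_le_two_of_connected hC hL hQ hconn, hF⟩,
    hconn, ?_⟩
  intro d hd
  exact Kh_maximal hC hP hw hd

end Cfsg.Agent.S5354
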