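import Cfsg.Statements.S5361
import Cfsg.Agent.Lib.Helper60TTi

set_option autoImplicit false
open Cfsg

namespace Cfsg.Agent.S5361

open Cfsg.Agent.Lib.Helper60TTa Cfsg.Agent.Lib.Helper60TTc Cfsg.Agent.Lib.Helper60TTh
  Cfsg.Agent.Lib.Helper60TTi Cfsg.Agent.Lib.Helper28Comp Cfsg.Agent.Lib.Helper91Trans
open scoped commutatorElement

theorem commutator_le_of_index {G : Type*} [Group G] [Finite G] {L : Subgroup G}
    (hi : L.index ≤ 2) : commutator G ≤ L := by
  rw [commutator_def, Subgroup.commutator_le]
  intro g _ h _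
  by_cases h1 : L.index = 1
  · rw [Subgroup.index_eq_one] at h1
    rw [h1]; exact Subgroup.mem_top _
  · have hi2 : L.index = 2 := by
      have h0 : L.index ≠ 0 := Subgroup.index_ne_zero_of_finite
      omega
    have e : ⁅g, h⁆ = (g * h) * (g⁻¹ * h⁻¹) := by rw [commutatorElement_def]; group
    rw [e, Subgroup.mul_mem_iff_of_index_two hi2, Subgroup.mul_mem_iff_of_index_two hi2,
      Subgroup.mul_mem_iff_of_index_two hi2, inv_mem_iff, inv_mem_iff]

/-- Let D be a conjugacy class of 3-transpositions generating the finite group G, and suppose the centre of G is trivial and some two different members of D commute. Then the following are equivalent: (1) the commutator subgroup of G is simple (possibly of prime order); (2) G acts primitively on D by conjugation; (3) the largest normal 2-subgroup and the largest normal 3-subgroup of G are trivial and the commuting graph of D is connected. -/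
theorem result {G : Type*} [Group G] [Finite G] {D : Set G} (hD : Cfsg.IsThreeTranspositionClass D) (hZ : Subgroup.center G = ⊥) (hw : ∃ a ∈ D, ∃ b ∈ D, a ≠ b ∧ Commute a b) : (IsSimpleGroup (commutator G) ↔ Cfsg.IsPrimitiveUnderConj D) ∧ (Cfsg.IsPrimitiveUnderConj D ↔ (Cfsg.pCore 2 G = ⊥ ∧ Cfsg.pCore 3 G = ⊥ ∧ (Cfsg.commutingGraph D).Connected)) := by
  have hD2 : ∃ a ∈ D, ∃ b ∈ D, a ≠ b := by
    obtain ⟨a, ha, b, hb, hab, _⟩ := hw
    exact ⟨a, ha, b, hb, hab⟩
  have mk : Prim D → Cfsg.IsPrimitiveUnderConj D := fun hP =>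
    ⟨fun a ha b hb => exists_conj_of_class hD ha hb, hD2, hP⟩
  refine ⟨⟨fun hs => mk (prim_of_simple hD hs), ?_⟩, ?_, ?_⟩
  · intro hprim
    have hP : Prim D := prim_of_isPrimitive hprim
    have h2 := pCore_two_le_center_of_prim hD hP hD2
    have h3 := pCore_three_le_center_of_prim hD hP hw
    have hconn := connected_of_prim hD hP hw
    obtain ⟨L, hL, hQ, _, hF⟩ := exists_component hD hD2 h2 h3
    have hi := index_le_two_of_connected hD hL hQ hconn
    have hcL : commutator G = L := by
      apply le_antisymm (commutator_le_of_index hi)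
      rw [commutator_def]
      conv_lhs => rw [← hQ.perfect]
      exact Subgroup.commutator_mono le_top le_top
    rw [hcL]
    have hnt : Nontrivial L := (Subgroup.nontrivial_iff_ne_bot L).mpr hQ.ne_bot
    refine ⟨fun H hH => ?_⟩
    rcases hQ.2.2 (H.map L.subtype) (normIn_map_subtype_iff.mpr hH) with h | h
    · right
      rw [eq_top_iff]
      intro x _
      have : (x : G) ∈ H.map L.subtype := by rw [h]; exact x.2
      obtain ⟨y, hy, hyx⟩ := this
      have : y = x := Subtype.ext hyx
      rw [← this]; exact hy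
    · left
      rw [eq_bot_iff]
      intro x hx
      have h4 : (x : G) ∈ Subgroup.center G :=
        centralizer_le_center hD h2 h3 hL hF (h ⟨x, hx, rfl⟩)
      rw [hZ, Subgroup.mem_bot] at h4
      rw [Subgroup.mem_bot]
      exact Subtype.ext h4
  · intro hprim
    have hP : Prim D := prim_of_isPrimitive hprim
    have h2 := pCore_two_le_center_of_prim hD hP hD2
    have h3 := pCore_three_le_center_of_prim hD hP hw
    rw [hZ, le_bot_iff] at h2 h3
    exact ⟨h2, h3, connected_of_prim hD hP hw⟩
  · rintro ⟨h2, h3, hconn⟩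
    have h2' : Cfsg.pCore 2 G ≤ Subgroup.center G := by rw [h2]; exact bot_le
    have h3' : Cfsg.pCore 3 G ≤ Subgroup.center G := by rw [h3]; exact bot_le
    obtain ⟨L, hL, hQ, _, hF⟩ := exists_component hD hD2 h2' h3'
    exact mk (prim_of_index_le_two hD h2' h3' hL hQ hF (index_le_two_of_connected hD hL hQ hconn))

end Cfsg.Agent.S5361
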