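import Cfsg.Statements.S5522
import Cfsg.Agent.Lib.Helper9M12b
import Cfsg.Agent.S0363

set_option autoImplicit false
open Cfsg

namespace Cfsg.Agent.S5522

open Finset Cfsg.Spor
open scoped Pointwise
open Cfsg.Agent.Lib.Helper9Golay Cfsg.Agent.Lib.Helper9Golay2 Cfsg.Agent.Lib.Helper9M24Trans
  Cfsg.Agent.Lib.Helper9M12b

/-- fixed points inside a finset -/
def fixIn (g : Equiv.Perm GolayPt) (T : Finset GolayPt) : Finset GolayPt := T.filter (fun x => g x = x)

theorem mem_fixIn {g : Equiv.Perm GolayPt} {T : Finset GolayPt} {x : GolayPt} :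
    x ∈ fixIn g T ↔ x ∈ T ∧ g x = x := by
  simp [fixIn]

theorem card_modEq {g : Equiv.Perm GolayPt} {p : ℕ} [Fact p.Prime] (hg : g ^ p = 1)
    {T : Finset GolayPt} (hT : ∀ x, g x ∈ T ↔ x ∈ T) : (fixIn g T).card ≡ T.card [MOD p] := by
  let σ : Equiv.Perm {x // x ∈ T} := g.subtypePerm hT
  have hσ : σ ^ p ^ 1 = 1 := by
    rw [pow_one]
    ext x
    simp only [σ, Equiv.Perm.subtypePerm_pow, Equiv.Perm.subtypePerm_apply, hg]
    rfl
  have h1 := Equiv.Perm.card_compl_support_modEq hσ
  rw [Fintype.card_coe] at h1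
  have h2 : (σ.supportᶜ).card = (fixIn g T).card := by
    rw [← Finset.card_map (Function.Embedding.subtype _)]
    congr 1
    ext x
    simp only [Finset.mem_map, Finset.mem_compl, Equiv.Perm.mem_support, not_not,
      Function.Embedding.coe_subtype, mem_fixIn]
    constructor
    · rintro ⟨⟨y, hy⟩, h, rfl⟩
      refine ⟨hy, ?_⟩
      have := congrArg Subtype.val h
      simpa [σ, Equiv.Perm.subtypePerm_apply] using this
    · rintro ⟨hx, h⟩
      exact ⟨⟨x, hx⟩, Subtype.ext (by simpa [σ, Equiv.Perm.subtypePerm_apply] using h), rfl⟩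
  rw [← h2]; exact h1

theorem inv_of_smul {g : Equiv.Perm GolayPt} {T : Finset GolayPt} (h : g • T = T) :
    ∀ x, g x ∈ T ↔ x ∈ T := by
  intro x
  have := Finset.smul_mem_smul_finset_iff (s := T) (b := x) g
  rw [h] at this
  exact this

theorem smul_Csup {g : Equiv.Perm GolayPt} (hg : g ∈ M24) {s : Finset GolayPt} (hs : s ∈ Csup) :
    g • s ∈ Csup := by
  have h : g • Csup = Csup := hg
  rw [← h]
  exact Set.smul_mem_smul_set hs

theorem smul_octad {g : Equiv.Perm GolayPt} (hg : g ∈ M24) {s : Finset GolayPt} (hs : s ∈ octads) :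
    g • s ∈ octads :=
  ⟨smul_Csup hg hs.1, by rw [Finset.card_smul_finset]; exact hs.2⟩

theorem S_mem : squareDodecad ∈ dodecads :=
  ⟨⟨qrWord 0, Submodule.subset_span (Or.inl ⟨0, rfl⟩), rfl⟩, by decide +kernel⟩

theorem card_S : squareDodecad.card = 12 := S_mem.2

theorem card_compl_S : (squareDodecadᶜ).card = 12 := by
  rw [Finset.card_compl, card_S]; decide

/-- an element of the dodecad stabiliser fixing five points of the dodecad is trivial -/
theorem eq_one_of_five {g : Equiv.Perm GolayPt} (hg : g ∈ M24) (hS : g • squareDodecad = squareDodecad)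
    (h5 : 5 ≤ (fixIn g squareDodecad).card) : g = 1 := by
  obtain ⟨x, hx⟩ := exists_emb5 h5
  obtain ⟨g0, -, -, h2⟩ := sharp S_mem x x (fun i => (mem_fixIn.1 (hx i)).1)
    (fun i => (mem_fixIn.1 (hx i)).1)
  rw [h2 g (mem_SD.2 ⟨hg, hS⟩) (fun i => (mem_fixIn.1 (hx i)).2),
    h2 1 (mem_SD.2 ⟨M24.one_mem, one_smul _ _⟩) (fun i => rfl)]

/-- an octad meeting the dodecad in at least five points meets it in exactly six -/
theorem card_sdiff_two {O : Finset GolayPt} (hO : O ∈ octads) (h5 : 5 ≤ (O ∩ squareDodecad).card) :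
    (O \ squareDodecad).card = 2 := by
  have h1 : Even (O ∩ squareDodecad).card := even_iff_two_dvd.2 (even_card_inter hO.1 S_mem.1)
  have h2 : (O \ squareDodecad).card + (O ∩ squareDodecad).card = 8 := by
    rw [Finset.card_sdiff_add_card_inter, hO.2]
  have h3 : (O ∩ squareDodecad).card ≠ 8 := by
    intro h8
    have hsub : O ⊆ squareDodecad := by
      have : O ∩ squareDodecad = O :=
        Finset.eq_of_subset_of_card_le Finset.inter_subset_left (by rw [h8, hO.2])
      rw [← this]; exact Finset.inter_subset_right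
    have h4 : symmDiff squareDodecad O ∈ Csup := symmDiff_mem_supports S_mem.1 hO.1
    have h5' : symmDiff squareDodecad O = squareDodecad \ O := by
      rw [symmDiff_def, Finset.sdiff_eq_empty_iff_subset.2 hsub]; simp
    rw [h5'] at h4
    have h6 : (squareDodecad \ O).card = 4 := by
      rw [Finset.card_sdiff_of_subset hsub, card_S, hO.2]
    have h7 : squareDodecad \ O ≠ ∅ := by
      intro h; rw [h] at h6; simp at h6
    have := eight_le_card h4 h7
    omega
  obtain ⟨k, hk⟩ := h1
  omega

/-- invariant octad from an invariant 5-set -/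
theorem exists_inv_octad {g : Equiv.Perm GolayPt} (hg : g ∈ M24) {T : Finset GolayPt}
    (hT : T.card = 5) (hgT : g • T = T) : ∃ O ∈ octads, T ⊆ O ∧ g • O = O := by
  obtain ⟨O, ⟨hO, hTO⟩, huniq⟩ := Cfsg.Agent.S0363.result.2 T hT
  refine ⟨O, hO, hTO, huniq _ ⟨smul_octad hg hO, ?_⟩⟩
  rw [← hgT]
  exact Finset.smul_finset_subset_smul_finset hTO

theorem case3 {g : Equiv.Perm GolayPt} (hg : g ∈ M24) (hS : g • squareDodecad = squareDodecad)
    (h0 : g (some 0) = some 0) (h3 : g ^ 3 = 1) (h1 : g ≠ 1) :
    ∃ x : GolayPt, x ∉ squareDodecad ∧ g x = x := by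
  have : Fact (Nat.Prime 3) := ⟨by norm_num⟩
  have hSinv := inv_of_smul hS
  have hg3 : ∀ x, g (g (g x)) = x := fun x => by
    have := congrArg (fun f : Equiv.Perm GolayPt => f x) h3
    simpa [pow_succ, Equiv.Perm.mul_apply] using this
  have hm := card_modEq h3 hSinv
  rw [card_S] at hm
  have h0S : (some 0 : GolayPt) ∈ squareDodecad := by decide +kernel
  have h0F : (some 0 : GolayPt) ∈ fixIn g squareDodecad := mem_fixIn.2 ⟨h0S, h0⟩
  have hpos : 0 < (fixIn g squareDodecad).card := Finset.card_pos.2 ⟨_, h0F⟩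
  have hlt : (fixIn g squareDodecad).card < 5 := by
    by_contra hc
    exact h1 (eq_one_of_five hg hS (by omega))
  have hc3 : (fixIn g squareDodecad).card = 3 := by
    have : (fixIn g squareDodecad).card % 3 = 0 := hm
    omega
  -- second fixed point
  obtain ⟨x2, hx2, hx2ne⟩ : ∃ x2 ∈ fixIn g squareDodecad, x2 ≠ some 0 := by
    apply Finset.exists_mem_ne _ (some 0)
    omega
  -- non-fixed point
  obtain ⟨u, huS, huF⟩ : ∃ u ∈ squareDodecad, u ∉ fixIn g squareDodecad := by
    by_contra hc
    push Not at hc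
    have : squareDodecad ⊆ fixIn g squareDodecad := hc
    have := Finset.card_le_card this
    rw [card_S] at this
    omega
  have hgu : g u ≠ u := fun h => huF (mem_fixIn.2 ⟨huS, h⟩)
  have hggu : g (g u) ≠ g u := fun h => hgu (g.injective h)
  have hggu' : g (g u) ≠ u := fun h => hgu (by
    have := hg3 u
    rw [h] at this
    exact this)
  obtain ⟨hx2S, hx2f⟩ := mem_fixIn.1 hx2
  have hfix_ne : ∀ z, g z = z → z ≠ u ∧ z ≠ g u ∧ z ≠ g (g u) := by
    intro z hz
    refine ⟨?_, ?_, ?_⟩
    · rintro rfl; exact hgu hz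
    · rintro rfl; exact hggu hz
    · rintro rfl; exact hggu (g.injective hz)
  let T : Finset GolayPt := {some 0, x2, u, g u, g (g u)}
  have hTc : T.card = 5 := by
    have a1 := hfix_ne _ h0
    have a2 := hfix_ne _ hx2f
    simp only [T]
    rw [Finset.card_insert_of_notMem, Finset.card_insert_of_notMem, Finset.card_insert_of_notMem,
      Finset.card_insert_of_notMem, Finset.card_singleton]
    · simp; exact hgu.symm
    · simp; exact ⟨hgu.symm, hggu'.symm⟩
    · simp; exact a2
    · simp; exact ⟨hx2ne.symm, a1⟩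
  have hTg : g • T = T := by
    apply Finset.eq_of_subset_of_card_le
    · intro z hz
      obtain ⟨w, hw, rfl⟩ := Finset.mem_smul_finset.1 hz
      simp only [T, Finset.mem_insert, Finset.mem_singleton] at hw ⊢
      rw [Equiv.Perm.smul_def]
      rcases hw with rfl | rfl | rfl | rfl | rfl
      · left; exact h0
      · right; left; exact hx2f
      · right; right; right; left; rfl
      · right; right; right; right; rfl
      · right; right; left; exact hg3 u
    · rw [Finset.card_smul_finset]
  obtain ⟨O, hO, hTO, hgO⟩ := exists_inv_octad hg hTc hTg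
  have hTS : T ⊆ squareDodecad := by
    intro z hz
    simp only [T, Finset.mem_insert, Finset.mem_singleton] at hz
    rcases hz with rfl | rfl | rfl | rfl | rfl
    · exact h0S
    · exact hx2S
    · exact huS
    · exact (hSinv _).2 huS
    · exact (hSinv _).2 ((hSinv _).2 huS)
  have h5 : 5 ≤ (O ∩ squareDodecad).card := by
    rw [← hTc]; exact Finset.card_le_card (Finset.subset_inter hTO hTS)
  have h2 := card_sdiff_two hO h5
  have hOinv := inv_of_smul hgO
  have hDinv : ∀ x, g x ∈ O \ squareDodecad ↔ x ∈ O \ squareDodecad := by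
    intro x
    simp only [Finset.mem_sdiff, hOinv, hSinv]
  have hm2 := card_modEq h3 hDinv
  rw [h2] at hm2
  have hne : (fixIn g (O \ squareDodecad)).card ≠ 0 := by
    intro h
    rw [h] at hm2
    exact absurd hm2 (by decide)
  obtain ⟨x, hx⟩ := Finset.card_pos.1 (Nat.pos_of_ne_zero hne)
  obtain ⟨hx1, hx2'⟩ := mem_fixIn.1 hx
  exact ⟨x, (Finset.mem_sdiff.1 hx1).2, hx2'⟩

/-- for a small nonempty set of even size there is an octad meeting it oddly -/
theorem exists_odd_octad {F : Finset GolayPt} {w : GolayPt} (hw : w ∈ F) (hF : F.card ≤ 4) :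
    ∃ O ∈ octads, O ∩ F = F.erase w := by
  have hst := Cfsg.Agent.S0363.result.2
  have hcu : (Finset.univ : Finset GolayPt).card = 24 := by decide
  obtain ⟨T, hFT, hTu, hTc⟩ := Finset.exists_subsuperset_card_eq
    (s := F.erase w) (t := (Finset.univ \ F) ∪ F.erase w) (n := 5) Finset.subset_union_right
    (by rw [Finset.card_erase_of_mem hw]; omega)
    (by
      rw [Finset.card_union_of_disjoint, Finset.card_sdiff_of_subset (Finset.subset_univ _), hcu,
        Finset.card_erase_of_mem hw]
      · have := Finset.card_pos.2 ⟨w, hw⟩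
        omega
      · rw [Finset.disjoint_left]
        intro a ha ha'
        exact (Finset.mem_sdiff.1 ha).2 (Finset.mem_of_mem_erase ha'))
  have hwT : w ∉ T := by
    intro h
    rcases Finset.mem_union.1 (hTu h) with h | h
    · exact (Finset.mem_sdiff.1 h).2 hw
    · exact (Finset.notMem_erase w F) h
  have hTF : ∀ T' : Finset GolayPt, F.erase w ⊆ T' → ∀ O : Finset GolayPt, T' ⊆ O → w ∉ O →
      O ∩ F = F.erase w := by
    intro T' h1 O h2 h3
    ext a
    simp only [Finset.mem_inter, Finset.mem_erase]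
    constructor
    · rintro ⟨ha, haF⟩
      exact ⟨fun h => h3 (h ▸ ha), haF⟩
    · rintro ⟨ha, haF⟩
      exact ⟨h2 (h1 (Finset.mem_erase.2 ⟨ha, haF⟩)), haF⟩
  obtain ⟨O, ⟨hO, hTO⟩, -⟩ := hst T hTc
  by_cases hwO : w ∈ O
  · -- modify
    obtain ⟨y, hyT, hyF⟩ : ∃ y ∈ T, y ∉ F.erase w := by
      by_contra hc
      push Not at hc
      have : T ⊆ F.erase w := hc
      have := Finset.card_le_card this
      rw [hTc, Finset.card_erase_of_mem hw] at this
      omega
    obtain ⟨z, hz⟩ : ∃ z, z ∉ O := by
      by_contra hc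
      push Not at hc
      have : (Finset.univ : Finset GolayPt) ⊆ O := fun a _ => hc a
      have := Finset.card_le_card this
      rw [hcu, hO.2] at this
      omega
    have hzT : z ∉ T.erase y := fun h => hz (hTO (Finset.mem_of_mem_erase h))
    have hT'c : (insert z (T.erase y)).card = 5 := by
      rw [Finset.card_insert_of_notMem hzT, Finset.card_erase_of_mem hyT, hTc]
    obtain ⟨O', ⟨hO', hTO'⟩, -⟩ := hst _ hT'c
    refine ⟨O', hO', hTF (insert z (T.erase y)) ?_ O' hTO' ?_⟩
    · intro a ha
      apply Finset.mem_insert_of_mem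
      exact Finset.mem_erase.2 ⟨fun h => hyF (h ▸ ha), hFT ha⟩
    · intro hwO'
      have hsub : insert w (T.erase y) ⊆ O ∩ O' := by
        intro a ha
        rcases Finset.mem_insert.1 ha with rfl | ha
        · exact Finset.mem_inter.2 ⟨hwO, hwO'⟩
        · exact Finset.mem_inter.2 ⟨hTO (Finset.mem_of_mem_erase ha),
            hTO' (Finset.mem_insert_of_mem ha)⟩
      have hc5 : (insert w (T.erase y)).card = 5 := by
        rw [Finset.card_insert_of_notMem (fun h => hwT (Finset.mem_of_mem_erase h)),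
          Finset.card_erase_of_mem hyT, hTc]
      have := octad_unique hO hO' (by rw [← hc5]; exact Finset.card_le_card hsub)
      exact hz (this ▸ hTO' (Finset.mem_insert_self _ _))
  · exact ⟨O, hO, hTF T hFT O hTO hwO⟩

theorem case2 {g : Equiv.Perm GolayPt} (hg : g ∈ M24) (hS : g • squareDodecad = squareDodecad)
    (h0 : g (some 0) = some 0) (h2 : g ^ 2 = 1) (h1 : g ≠ 1) :
    ∃ x : GolayPt, x ∉ squareDodecad ∧ g x = x := by
  have : Fact (Nat.Prime 2) := ⟨by norm_num⟩
  by_contra hcon
  push Not at hcon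
  have hgg : ∀ x, g (g x) = x := fun x => by
    have := congrArg (fun f : Equiv.Perm GolayPt => f x) h2
    simpa [pow_succ, Equiv.Perm.mul_apply] using this
  let F : Finset GolayPt := fixIn g Finset.univ
  have hFS : F = fixIn g squareDodecad := by
    ext x
    simp only [F, mem_fixIn, Finset.mem_univ, true_and]
    constructor
    · intro h
      refine ⟨?_, h⟩
      by_contra hx
      exact hcon x hx h
    · exact fun h => h.2
  have hF4 : F.card ≤ 4 := by
    by_contra hc
    exact h1 (eq_one_of_five hg hS (by rw [← hFS]; omega))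
  have h0F : (some 0 : GolayPt) ∈ F := by simp [F, mem_fixIn, h0]
  -- parity
  have hpar : ∀ c ∈ Csup, Even (c ∩ F).card := by
    intro c hc
    have he : Even (c ∩ g • c).card := even_iff_two_dvd.2 (even_card_inter hc (smul_Csup hg hc))
    have hmem : ∀ x, x ∈ g • c ↔ g x ∈ c := by
      intro x
      have := Finset.smul_mem_smul_finset_iff (s := c) (b := g x) g
      rw [Equiv.Perm.smul_def, hgg] at this
      exact this
    have hinv : ∀ x, g x ∈ c ∩ g • c ↔ x ∈ c ∩ g • c := by
      intro x
      simp only [Finset.mem_inter, hmem, hgg]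
      tauto
    have hm := card_modEq h2 hinv
    have heq : fixIn g (c ∩ g • c) = c ∩ F := by
      ext x
      simp only [mem_fixIn, Finset.mem_inter, hmem, F, Finset.mem_univ, true_and]
      constructor
      · rintro ⟨⟨a, -⟩, b⟩; exact ⟨a, b⟩
      · rintro ⟨a, b⟩; exact ⟨⟨a, by rw [b]; exact a⟩, b⟩
    rw [heq] at hm
    rw [Nat.even_iff] at he ⊢
    rw [hm]; exact he
  have hFe : Even F.card := by
    have := hpar Finset.univ (⟨1, Submodule.subset_span (Or.inr rfl), by ext i; simp [support₂]⟩ : (Finset.univ : Finset GolayPt) ∈ Csup)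
    rwa [Finset.univ_inter] at this
  obtain ⟨O, hO, hOF⟩ := exists_odd_octad h0F hF4
  have := hpar O hO.1
  rw [hOF, Finset.card_erase_of_mem h0F] at this
  have hpos := Finset.card_pos.2 ⟨_, h0F⟩
  rw [Nat.even_iff] at this hFe
  omega

/-- The Mathieu group M₁₁, realised as the stabiliser of one point of the dodecad of squares inside the stabiliser M₁₂ of that dodecad in M₂₄, acts on the twelve coordinate positions outside the dodecad of squares (its 3-transitive action of degree 12); in this action every element of prime order fixes a point, i.e. the action is elusive. -/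
theorem result (g : Equiv.Perm Cfsg.GolayPt) (hg : g ∈ Cfsg.Spor.M11) (hord : (orderOf g).Prime) :
    ∃ x : Cfsg.GolayPt, x ∉ Cfsg.Spor.squareDodecad ∧ g x = x := by
  have hM : g ∈ M24 := hg.1.1
  have hS : g • squareDodecad = squareDodecad := hg.1.2
  have h0 : g (some 0) = some 0 := hg.2
  have h1 : g ≠ 1 := by
    rintro rfl
    rw [orderOf_one] at hord
    exact Nat.not_prime_one hord
  have hp : g ^ orderOf g = 1 := pow_orderOf_eq_one g
  by_cases h2 : orderOf g = 2
  · exact case2 hM hS h0 (h2 ▸ hp) h1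
  by_cases h3 : orderOf g = 3
  · exact case3 hM hS h0 (h3 ▸ hp) h1
  have : Fact (orderOf g).Prime := ⟨hord⟩
  have hSinv := inv_of_smul hS
  have hCinv : ∀ x, g x ∈ squareDodecadᶜ ↔ x ∈ squareDodecadᶜ := by
    intro x
    simp only [Finset.mem_compl, hSinv]
  have hm := card_modEq hp hCinv
  rw [card_compl_S] at hm
  have hne : (fixIn g squareDodecadᶜ).card ≠ 0 := by
    intro h
    rw [h] at hm
    have hd : orderOf g ∣ 12 := (Nat.modEq_zero_iff_dvd.1 hm.symm)
    have h12 : (12 : ℕ) = 2 ^ 2 * 3 := by norm_num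
    rw [h12] at hd
    rcases (Nat.Prime.dvd_mul hord).1 hd with h | h
    · exact h2 ((Nat.prime_dvd_prime_iff_eq hord Nat.prime_two).1 (hord.dvd_of_dvd_pow h))
    · exact h3 ((Nat.prime_dvd_prime_iff_eq hord Nat.prime_three).1 h)
  obtain ⟨x, hx⟩ := Finset.card_pos.1 (Nat.pos_of_ne_zero hne)
  obtain ⟨hx1, hx2⟩ := mem_fixIn.1 hx
  exact ⟨x, Finset.mem_compl.1 hx1, hx2⟩

end Cfsg.Agent.S5522
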