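import Cfsg.Statements.S5726
-- import your own Cfsg.Agent.* helpers here

set_option autoImplicit false
open Cfsg

namespace Cfsg.Agent.S5726


open MulAction

theorem stab_sub {G Ω : Type*} [Group G] [MulAction G Ω] (P : Subgroup G) (a : Ω) :
    stabilizer P a = (stabilizer G a).subgroupOf P := by
  ext g
  simp [Subgroup.mem_subgroupOf, mem_stabilizer_iff, Subgroup.smul_def]

/-- Orbits of a Sylow `p`-subgroup of a transitive group have length divisible by the `p`-part of the degree. -/
theorem sylow_orbit_dvd {G Ω : Type*} [Group G] [Finite G] [MulAction G Ω] [IsPretransitive G Ω]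
    {p : ℕ} [Fact p.Prime] (P : Sylow p G) (a : Ω) (j : ℕ) (h : p ^ j ∣ Nat.card Ω) :
    p ^ j ∣ (orbit (P : Subgroup G) a).ncard := by
  set S := stabilizer G a with hS
  have h1 : S.index = Nat.card Ω := index_stabilizer_of_transitive G a
  have h2 : ((P : Subgroup G) ⊓ S).relIndex P * (P : Subgroup G).index = ((P : Subgroup G) ⊓ S).index :=
    Subgroup.relIndex_mul_index inf_le_left
  have h3 : ((P : Subgroup G) ⊓ S).relIndex S * S.index = ((P : Subgroup G) ⊓ S).index :=
    Subgroup.relIndex_mul_index inf_le_right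
  have h4 : p ^ j ∣ ((P : Subgroup G) ⊓ S).relIndex P * (P : Subgroup G).index := by
    rw [h2, ← h3, h1]
    exact Dvd.dvd.mul_left h _
  have hcop : Nat.Coprime (p ^ j) (P : Subgroup G).index :=
    Nat.Coprime.pow_left j ((Nat.Prime.coprime_iff_not_dvd Fact.out).mpr P.not_dvd_index)
  have h5 := hcop.dvd_of_dvd_mul_right h4
  rw [Subgroup.inf_relIndex_left] at h5
  rw [← index_stabilizer, stab_sub]
  exact h5

/-- If a finite group acts faithfully and transitively on a set with p^k elements, p a prime and k ≥ 1, then some element of order p fixes no point. -/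
theorem result {G Ω : Type*} [Group G] [Finite G] [MulAction G Ω] [FaithfulSMul G Ω] [Fintype Ω] (htr : MulAction.IsPretransitive G Ω)
    (p k : ℕ) (hp : p.Prime) (hk : 1 ≤ k) (hΩ : Fintype.card Ω = p ^ k) :
    ∃ g : G, orderOf g = p ∧ ∀ ω : Ω, g • ω ≠ ω := by
  classical
  have : Fact p.Prime := ⟨hp⟩
  have hcard2 : 1 < Fintype.card Ω := by
    rw [hΩ]; exact Nat.one_lt_pow (by omega) hp.one_lt
  obtain ⟨a₀, b₀, hab⟩ := Fintype.exists_pair_of_one_lt_card hcard2
  let P : Sylow p G := default
  have horb : ∀ a : Ω, orbit (P : Subgroup G) a = Set.univ := by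
    intro a
    have h1 : p ^ k ∣ (orbit (P : Subgroup G) a).ncard :=
      sylow_orbit_dvd P a k (by rw [Nat.card_eq_fintype_card, hΩ])
    have h2 : 0 < (orbit (P : Subgroup G) a).ncard :=
      (Set.ncard_pos (Set.toFinite _)).mpr (nonempty_orbit a)
    have h3 := Nat.le_of_dvd h2 h1
    rw [Set.eq_univ_iff_ncard, Nat.card_eq_fintype_card, hΩ]
    refine le_antisymm ?_ h3
    rw [← hΩ, ← Nat.card_eq_fintype_card, ← Set.ncard_univ]
    exact Set.ncard_le_ncard (Set.subset_univ _) (Set.toFinite _)
  have hnt : Nontrivial (P : Subgroup G) := by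
    have hb : b₀ ∈ orbit (P : Subgroup G) a₀ := by rw [horb]; trivial
    obtain ⟨g, hg⟩ := hb
    refine ⟨⟨g, 1, ?_⟩⟩
    rintro rfl
    exact hab (by simpa using hg)
  have hcn : Nontrivial (Subgroup.center (P : Subgroup G)) := P.isPGroup'.center_nontrivial
  have hcp : IsPGroup p (Subgroup.center (P : Subgroup G)) := P.isPGroup'.to_subgroup _
  have hdvd : p ∣ Nat.card (Subgroup.center (P : Subgroup G)) := by
    rcases hcp.card_eq_or_dvd with h | h
    · have := Finite.one_lt_card (α := Subgroup.center (P : Subgroup G))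
      omega
    · exact h
  obtain ⟨z, hz⟩ := exists_prime_orderOf_dvd_card' p hdvd
  refine ⟨((z : (P : Subgroup G)) : G), ?_, ?_⟩
  · rw [Subgroup.orderOf_coe, Subgroup.orderOf_coe]; exact hz
  · intro ω hω
    have hz1 : ((z : (P : Subgroup G)) : G) = 1 := by
      apply FaithfulSMul.eq_of_smul_eq_smul (α := Ω)
      intro x
      rw [one_smul]
      have hx : x ∈ orbit (P : Subgroup G) ω := by rw [horb]; trivial
      obtain ⟨g, rfl⟩ := hx
      have hcomm : (z : (P : Subgroup G)) * g = g * z := (Subgroup.mem_center_iff.mp z.2 g).symm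
      have hcomm' : ((z : (P : Subgroup G)) : G) * (g : G) = (g : G) * ((z : (P : Subgroup G)) : G) := by
        exact_mod_cast congrArg (Subtype.val) hcomm
      show ((z : (P : Subgroup G)) : G) • ((g : G) • ω) = (g : G) • ω
      rw [smul_smul, hcomm', mul_smul, hω]
    have : orderOf ((z : (P : Subgroup G)) : G) = p := by
      rw [Subgroup.orderOf_coe, Subgroup.orderOf_coe]; exact hz
    rw [hz1, orderOf_one] at this
    exact hp.one_lt.ne this

end Cfsg.Agent.S5726
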