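import Cfsg.Statements.S5727
import Cfsg.Agent.S5726

set_option autoImplicit false
open Cfsg

namespace Cfsg.Agent.S5727

open MulAction

/-- If a finite group acts faithfully and transitively on a set with m·p elements, where p is a prime and 1 ≤ m ≤ p, then some element of order p fixes no point. -/
theorem result {G Ω : Type*} [Group G] [Finite G] [MulAction G Ω] [FaithfulSMul G Ω] [Fintype Ω] (htr : MulAction.IsPretransitive G Ω)
    (p m : ℕ) (hp : p.Prime) (hm : 1 ≤ m) (hmp : m ≤ p) (hΩ : Fintype.card Ω = m * p) :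
    ∃ g : G, orderOf g = p ∧ ∀ ω : Ω, g • ω ≠ ω := by
  classical
  rcases eq_or_lt_of_le hmp with rfl | hlt
  · exact Cfsg.Agent.S5726.result htr m 2 hp (by norm_num) (by rw [hΩ, sq])
  have : Fact p.Prime := ⟨hp⟩
  have hne : Nonempty Ω := Fintype.card_pos_iff.mp (by rw [hΩ]; exact Nat.mul_pos (by omega) hp.pos)
  obtain ⟨a₀⟩ := hne
  let P : Sylow p G := default
  have : Fintype (P : Subgroup G) := Fintype.ofFinite _
  have horb : ∀ a : Ω, (orbit (P : Subgroup G) a).ncard = p := by
    intro a
    have h1 : p ^ 1 ∣ (orbit (P : Subgroup G) a).ncard :=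
      Cfsg.Agent.S5726.sylow_orbit_dvd P a 1
        (by rw [Nat.card_eq_fintype_card, hΩ, pow_one]; exact Dvd.intro_left m rfl)
    obtain ⟨e, he⟩ := P.isPGroup'.card_orbit a
    rw [Nat.card_coe_set_eq] at he
    have h2 : (orbit (P : Subgroup G) a).ncard ≤ m * p := by
      rw [← hΩ, ← Nat.card_eq_fintype_card, ← Set.ncard_univ]
      exact Set.ncard_le_ncard (Set.subset_univ _) (Set.toFinite _)
    rw [he] at h1 h2 ⊢
    have h3 : p ^ e < p ^ 2 := by
      calc p ^ e ≤ m * p := h2
        _ < p * p := Nat.mul_lt_mul_of_pos_right hlt hp.pos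
        _ = p ^ 2 := (sq p).symm
    have h4 : e < 2 := (Nat.pow_lt_pow_iff_right hp.one_lt).mp h3
    have h5 : 1 ≤ e := (Nat.pow_dvd_pow_iff_le_right hp.one_lt).mp h1
    have : e = 1 := by omega
    rw [this, pow_one]
  have hidx : ∀ a : Ω, (stabilizer (P : Subgroup G) a).index = p := by
    intro a
    rw [index_stabilizer, horb]
  have hnorm : ∀ a : Ω, (stabilizer (P : Subgroup G) a).Normal := by
    intro a
    apply Subgroup.normal_of_index_eq_minFac_card
    obtain ⟨e, he⟩ := IsPGroup.iff_card.mp P.isPGroup'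
    rw [hidx, he]
    have he0 : e ≠ 0 := by
      rintro rfl
      have := (stabilizer (P : Subgroup G) a).index_dvd_card
      rw [hidx, he, pow_zero] at this
      exact hp.one_lt.ne' (Nat.dvd_one.mp this)
    exact (hp.pow_minFac he0).symm
  have hpow : ∀ g : (P : Subgroup G), g ^ p = 1 := by
    intro g
    apply Subtype.ext
    apply FaithfulSMul.eq_of_smul_eq_smul (α := Ω)
    intro a
    have := hnorm a
    have h1 := (stabilizer (P : Subgroup G) a).pow_index_mem g
    rw [hidx, mem_stabilizer_iff] at h1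
    rw [Subgroup.coe_one, one_smul]
    exact h1
  have hfix : ∀ (g : (P : Subgroup G)) (a : Ω), g • a = a → orbit (P : Subgroup G) a ⊆ fixedBy Ω g := by
    rintro g a hga _ ⟨h, rfl⟩
    have h1 : h⁻¹ * g * h⁻¹⁻¹ ∈ stabilizer (P : Subgroup G) a := (hnorm a).conj_mem g hga h⁻¹
    rw [inv_inv, mem_stabilizer_iff] at h1
    show g • h • a = h • a
    conv_rhs => rw [← h1]
    simp only [smul_smul]
    congr 1
    group
  have hburn := sum_card_fixedBy_eq_card_orbits_mul_card_group (P : Subgroup G) Ω
  have horbits : Fintype.card (Quotient (orbitRel (P : Subgroup G) Ω)) = m := by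
    have h1 := Fintype.card_congr (selfEquivSigmaOrbits (P : Subgroup G) Ω)
    rw [Fintype.card_sigma, hΩ] at h1
    have h2 : ∀ ω : Quotient (orbitRel (P : Subgroup G) Ω), Fintype.card (orbit (P : Subgroup G) ω.out) = p := by
      intro ω
      rw [← Nat.card_eq_fintype_card, Nat.card_coe_set_eq, horb]
    simp only [h2, Finset.sum_const, Finset.card_univ, smul_eq_mul] at h1
    exact (Nat.eq_of_mul_eq_mul_right hp.pos h1).symm
  rw [horbits] at hburn
  have hex : ∃ g : (P : Subgroup G), ∀ a : Ω, g • a ≠ a := by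
    by_contra hcon
    push Not at hcon
    have h1 : ∀ g : (P : Subgroup G), p ≤ Fintype.card (fixedBy Ω g) := by
      intro g
      obtain ⟨a, ha⟩ := hcon g
      rw [← Nat.card_eq_fintype_card, Nat.card_coe_set_eq]
      exact (horb a).symm.le.trans (Set.ncard_le_ncard (hfix g a ha) (Set.toFinite _))
    have h2 : ∑ _g : (P : Subgroup G), p ≤ ∑ g : (P : Subgroup G), Fintype.card (fixedBy Ω g) :=
      Finset.sum_le_sum fun g _ => h1 g
    rw [hburn, Finset.sum_const, Finset.card_univ, smul_eq_mul, mul_comm] at h2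
    have h3 : 0 < Fintype.card (P : Subgroup G) := Fintype.card_pos
    have := Nat.le_of_mul_le_mul_right h2 h3
    omega
  obtain ⟨g, hg⟩ := hex
  refine ⟨(g : G), ?_, fun ω => hg ω⟩
  rw [Subgroup.orderOf_coe]
  apply orderOf_eq_prime (hpow g)
  rintro rfl
  exact hg a₀ (one_smul _ _)

end Cfsg.Agent.S5727
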