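import Cfsg.Statements.S5728
-- import your own Cfsg.Agent.* helpers here

set_option autoImplicit false
open Cfsg

namespace Cfsg.Agent.S5728

/-- An elusive transitive action. Let p = 2^s − 1 be a prime and let F be the field with p² elements. Inside the group of affine maps x ↦ a·x + b of F (a ≠ 0), consider the subgroup of maps with both coefficients in the prime field. Then every element of prime order of the affine group is conjugate, within the affine group, to an element of that subgroup; equivalently, in the transitive action of the affine group on the cosets of that subgroup (of degree p(p + 1)) every element of prime order fixes a point. -/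
theorem result (p s : ℕ) [Fact p.Prime] (hs : p = 2 ^ s - 1)
    (g : Equiv.Perm (GaloisField p 2)) (hg : g ∈ Cfsg.affineGroup (GaloisField p 2)) (hord : (orderOf g).Prime) :
    ∃ x ∈ Cfsg.affineGroup (GaloisField p 2), ∃ a b : ZMod p, a ≠ 0 ∧
      ∀ y : GaloisField p 2, (x * g * x⁻¹) y = algebraMap (ZMod p) (GaloisField p 2) a * y + algebraMap (ZMod p) (GaloisField p 2) b := by
  classical
  have hp : p.Prime := Fact.out
  obtain ⟨a, b, hab⟩ := hg
  have hg1 : g ≠ 1 := by
    rintro rfl
    rw [orderOf_one] at hord
    exact Nat.not_prime_one hord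
  by_cases ha : (a : GaloisField p 2) = 1
  · -- translation
    have hb : b ≠ 0 := by
      rintro rfl
      apply hg1
      ext y
      rw [hab, ha]; simp
    refine ⟨Equiv.mulLeft₀ b⁻¹ (inv_ne_zero hb), ⟨Units.mk0 b⁻¹ (inv_ne_zero hb), 0, fun y => by simp⟩,
      1, 1, one_ne_zero, fun y => ?_⟩
    have hinv : (Equiv.mulLeft₀ b⁻¹ (inv_ne_zero hb))⁻¹ y = b * y := by
      rw [Equiv.Perm.inv_def, Equiv.symm_apply_eq]
      simp [hb]
    rw [Equiv.Perm.mul_apply, Equiv.Perm.mul_apply, hinv, hab, ha]
    show b⁻¹ * (1 * (b * y) + b) = _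
    rw [map_one, one_mul, one_mul]
    field_simp
  · -- fixed point
    have h1a : (1 : GaloisField p 2) - a ≠ 0 := fun h => ha (sub_eq_zero.mp h).symm
    set y₀ : GaloisField p 2 := b / (1 - a) with hy₀
    have hfix : (a : GaloisField p 2) * y₀ + b = y₀ := by
      rw [hy₀]; field_simp; ring
    set x : Equiv.Perm (GaloisField p 2) := Equiv.addRight (-y₀) with hx
    have hxinv : ∀ y, x⁻¹ y = y + y₀ := by
      intro y
      rw [Equiv.Perm.inv_def, Equiv.symm_apply_eq, hx]
      simp
    have hconj : ∀ y, (x * g * x⁻¹) y = a * y := by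
      intro y
      rw [Equiv.Perm.mul_apply, Equiv.Perm.mul_apply, hxinv, hab, hx]
      simp only [Equiv.coe_addRight]
      linear_combination hfix
    have hpow : ∀ (k : ℕ) y, ((x * g * x⁻¹) ^ k) y = (a : GaloisField p 2) ^ k * y := by
      intro k
      induction k with
      | zero => intro y; simp
      | succ k ih => intro y; rw [pow_succ, Equiv.Perm.mul_apply, hconj, ih]; ring
    have hconjpow : (x * g * x⁻¹) ^ orderOf g = 1 := by
      rw [conj_pow, pow_orderOf_eq_one]; simp
    have har : a ^ orderOf g = 1 := by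
      apply Units.ext
      have := hpow (orderOf g) 1
      rw [hconjpow] at this
      simpa using this.symm
    have ha1 : a ≠ 1 := fun h => ha (by rw [h]; rfl)
    have hoa : orderOf a = orderOf g := orderOf_eq_prime har ha1 (hp := ⟨hord⟩)
    have hcardK : Nat.card (GaloisField p 2)ˣ = p ^ 2 - 1 := by
      rw [Nat.card_units, GaloisField.card p 2 (by norm_num)]
    have hdvd : orderOf g ∣ p ^ 2 - 1 := by
      rw [← hoa, ← hcardK]; exact orderOf_dvd_natCard a
    have hs1 : 1 ≤ 2 ^ s := Nat.one_le_two_pow
    have hp1 : p + 1 = 2 ^ s := by omega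
    have hfac : p ^ 2 - 1 = (p - 1) * 2 ^ s := by
      rw [← hp1]
      obtain ⟨m, rfl⟩ : ∃ m, p = m + 1 := ⟨p - 1, by have := hp.pos; omega⟩
      simp only [Nat.add_sub_cancel]
      have : (m + 1) ^ 2 = m * (m + 1 + 1) + 1 := by ring
      omega
    have hpodd : 2 ∣ p - 1 := by
      have hs0 : s ≠ 0 := by
        rintro rfl
        simp at hs
        exact hp.ne_zero hs
      obtain ⟨t, rfl⟩ : ∃ t, s = t + 1 := ⟨s - 1, by omega⟩
      rw [pow_succ] at hp1
      have h2 := hp.two_le
      omega
    have hdvd' : orderOf g ∣ p - 1 := by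
      rw [hfac] at hdvd
      rcases (Nat.Prime.dvd_mul hord).mp hdvd with h | h
      · exact h
      · have := (Nat.prime_dvd_prime_iff_eq hord Nat.prime_two).mp (hord.dvd_of_dvd_pow h)
        rw [this]; exact hpodd
    have hap1 : a ^ (p - 1) = 1 := by
      rw [← hoa] at hdvd'
      exact orderOf_dvd_iff_pow_eq_one.mp hdvd'
    have hap : (a : GaloisField p 2) ^ p = a := by
      have h1 : (a : GaloisField p 2) ^ (p - 1) = 1 := by
        have := congrArg Units.val hap1
        simpa using this
      calc (a : GaloisField p 2) ^ p = (a : GaloisField p 2) ^ (p - 1 + 1) := by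
            congr 1; have := hp.pos; omega
        _ = a := by rw [pow_succ, h1, one_mul]
    have hmem : (a : GaloisField p 2) ∈ (⊥ : Subfield (GaloisField p 2)) :=
      (Subfield.mem_bot_iff_pow_eq_self (GaloisField p 2) p).mpr hap
    obtain ⟨m, hm⟩ := (mem_bot_iff_intCast p (GaloisField p 2)).mp hmem
    refine ⟨x, ⟨1, -y₀, fun y => by rw [hx]; simp⟩, (m : ZMod p), 0, ?_, fun y => ?_⟩
    · intro h0
      have : (a : GaloisField p 2) = 0 := by
        rw [← hm, ← map_intCast (algebraMap (ZMod p) (GaloisField p 2)), h0, map_zero]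
      exact a.ne_zero this
    · rw [hconj, map_intCast, hm, map_zero, add_zero]

end Cfsg.Agent.S5728
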