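import Cfsg.Statements.S5748
import Cfsg.Agent.Lib.Helper16CtB
import Cfsg.Agent.Lib.Helper16CtC
import Cfsg.Agent.Lib.Helper26Rec
import Mathlib

set_option autoImplicit false
open Cfsg

namespace Cfsg.Agent.S5748

/-- A finite non-abelian simple group in which commuting is a transitive relation on the non-identity elements (equivalently, every non-identity element has abelian centraliser) is isomorphic to PSL₂ over a field with 2^f elements for some f ≥ 2; conversely these groups have that property. -/
theorem result {G : Type*} [Group G] [Finite G] [IsSimpleGroup G] (hG : ¬ IsMulCommutative G) :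
    (∀ a b c : G, a ≠ 1 → b ≠ 1 → c ≠ 1 → Commute a b → Commute b c → Commute a c) ↔
    ∃ (F : Type) (_ : Field F) (_ : Fintype F) (f : ℕ), 2 ≤ f ∧ Fintype.card F = 2 ^ f ∧ Nonempty (G ≃* Matrix.ProjectiveSpecialLinearGroup (Fin 2) F) := by
  constructor
  · intro hCT
    obtain ⟨t, D, ⟨g₀, hg₀⟩, u, hu1, hu2, hut, hne⟩ := Cfsg.Agent.Helper16Ct.exists_data hG hCT
    exact Cfsg.Agent.Helper16Ct.main D hu1 hu2 hut hne hg₀
  · rintro ⟨F, iF, iFt, f, hf, hcard, ⟨e⟩⟩ a b c ha hb hc hab hbc
    have h2 : (2 : F) = 0 := by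
      have h1 : ((Fintype.card F : ℕ) : F) = 0 := Nat.cast_card_eq_zero F
      rw [hcard] at h1
      push_cast at h1
      exact pow_eq_zero_iff (by omega) |>.1 h1
    have hchar : ringChar F = 2 := by
      haveI : CharP F 2 := CharTwo.of_one_ne_zero_of_two_eq_zero one_ne_zero h2
      exact ringChar.eq F 2
    obtain ⟨e'⟩ := Cfsg.Agent.Lib.Helper26Rec.nonempty_PSL_equiv_SL (F := F) hchar
    let E : G ≃* Matrix.SpecialLinearGroup (Fin 2) F := e.trans e'
    have hb' : E b ≠ 1 := fun h => hb (E.map_eq_one_iff.1 h)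
    have := Cfsg.Agent.Helper16Ct.sl2_ct h2 (E a) (E b) (E c) hb' (hab.map E) (hbc.map E)
    apply E.injective
    rw [map_mul, map_mul]
    exact this.eq

end Cfsg.Agent.S5748
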