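import Cfsg.Statements.S5823
import Cfsg.Agent.Lib.Helper97SpFinal
import Cfsg.Agent.Lib.Helper97SpPc6
import Cfsg.Agent.Lib.Helper94SpDPwreath
import Cfsg.Agent.Lib.Helper94SpDTens24

set_option autoImplicit false
open Cfsg

namespace Cfsg.Agent.S5823

/-- Every maximal subgroup of Sp_8(q) is of one of the listed geometric types or lies in the residual class. Let F be a finite field with q elements, f the standard alternating form on F^8 (coordinates Fin 4 ⊕ Fin 4), and H a maximal subgroup of Sp_8(F) (inside GL_8(F)). Then H is the intersection with Sp_8(F) of one of: the stabiliser of a non-zero totally isotropic subspace; the stabiliser of a non-degenerate 2-space; for q ≥ 3, the stabiliser of a decomposition into four mutually orthogonal non-degenerate 2-spaces; of a decomposition into two orthogonal non-degenerate 4-spaces; for q odd, of a decomposition into two totally isotropic 4-spaces;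 the normaliser of a degree-2 subfield K, self-adjoint with f(k v, v) = 0; for q odd, the normaliser of a degree-2 subfield closed under adjoints but not self-adjoint; for q odd, the stabiliser of a tensor decomposition of f into an alternating form on F^2 and a minus-type symmetric form on F^4; a subfield group (|F| = |F₀|^r, r prime) whose F₀-structure carries a non-zero multiple of f; for q = p an odd prime, the normaliser of an absolutely irreducible extraspecial group 2_-^(1+6) of exponent 4 inside the similarity group of f; for q odd, q ≥ 5, the stabiliser of a tensor decomposition of f as a third tensor power of an alternating form on F^2; for q even, the similarity group of a non-degenerate quadratic form polarising to f — or else H lies in the residual class of the symplectic case. -/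
theorem result {F : Type*} [Field F] [Fintype F] (H : Subgroup (Matrix.GeneralLinearGroup (Fin 4 ⊕ Fin 4) F)) (hH : Cfsg.Geo.IsMaximalIn (Cfsg.spGL 4 F) H) :
    (∃ W : Submodule F (Fin 4 ⊕ Fin 4 → F), W ≠ ⊥ ∧ Cfsg.Geo.IsTotallySingularFor (Cfsg.sympForm 4 F) W ∧ H = Cfsg.Geo.subspaceStabilizer W ⊓ Cfsg.spGL 4 F) ∨
    (∃ W : Submodule F (Fin 4 ⊕ Fin 4 → F), W ≠ ⊥ ∧ Cfsg.Geo.IsNondegenerateOn (Cfsg.sympForm 4 F) W ∧ Module.finrank F W < 4 ∧ H = Cfsg.Geo.subspaceStabilizer W ⊓ Cfsg.spGL 4 F) ∨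
    (3 ≤ Fintype.card F ∧ ∃ D : Fin 4 → Submodule F (Fin 4 ⊕ Fin 4 → F), Cfsg.Geo.IsNondegenerateMDecomposition (Cfsg.sympForm 4 F) 2 D ∧ H = Cfsg.Geo.decompositionStabilizer D ⊓ Cfsg.spGL 4 F) ∨
    (∃ D : Fin 2 → Submodule F (Fin 4 ⊕ Fin 4 → F), Cfsg.Geo.IsNondegenerateMDecomposition (Cfsg.sympForm 4 F) 4 D ∧ H = Cfsg.Geo.decompositionStabilizer D ⊓ Cfsg.spGL 4 F) ∨
    (Odd (Fintype.card F) ∧ ∃ D : Fin 2 → Submodule F (Fin 4 ⊕ Fin 4 → F), Cfsg.Geo.IsMDecomposition 4 D ∧ (∀ i, Cfsg.Geo.IsTotallySingularFor (Cfsg.sympForm 4 F) (D i)) ∧ H = Cfsg.Geo.decompositionStabilizer D ⊓ Cfsg.spGL 4 F) ∨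
    (∃ K : Subalgebra F (Matrix (Fin 4 ⊕ Fin 4) (Fin 4 ⊕ Fin 4) F), Cfsg.Geo.IsFieldSubalgebra 2 K ∧ Cfsg.Geo.IsSelfAdjointFor (Cfsg.sympForm 4 F) K ∧ (∀ k ∈ K, ∀ v : (Fin 4 ⊕ Fin 4 → F), (Cfsg.sympForm 4 F) (Matrix.mulVec k v) v = 0) ∧ H = Cfsg.Geo.subalgebraNormalizer K ⊓ Cfsg.spGL 4 F) ∨
    (Odd (Fintype.card F) ∧ ∃ K : Subalgebra F (Matrix (Fin 4 ⊕ Fin 4) (Fin 4 ⊕ Fin 4) F), Cfsg.Geo.IsFieldSubalgebra 2 K ∧ Cfsg.Geo.IsAdjointClosedFor (Cfsg.sympForm 4 F) K ∧ ¬ Cfsg.Geo.IsSelfAdjointFor (Cfsg.sympForm 4 F) K ∧ H = Cfsg.Geo.subalgebraNormalizer K ⊓ Cfsg.spGL 4 F) ∨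
    (Odd (Fintype.card F) ∧ ∃ (e : (Fin 4 ⊕ Fin 4) ≃ Fin 2 × Fin 4) (P : Matrix.GeneralLinearGroup (Fin 4 ⊕ Fin 4) F) (f₁ : (Fin 2 → F) → (Fin 2 → F) → F) (f₂ : (Fin 4 → F) → (Fin 4 → F) → F), Cfsg.Geo.IsSymplecticForm f₁ ∧ Cfsg.Geo.IsSymmetricForm f₂ ∧ ¬ Cfsg.Geo.IsPlusTypeOn (fun v : Fin 4 → F => f₂ v v) ⊤ ∧ Cfsg.Geo.IsTensorFormStructure id (Cfsg.sympForm 4 F) f₁ f₂ e P ∧ H = Cfsg.Geo.tensorProductSubgroup 2 4 e P ⊓ Cfsg.spGL 4 F) ∨
    (∃ (F₀ : Subfield F) (r : ℕ) (P : Matrix.GeneralLinearGroup (Fin 4 ⊕ Fin 4) F) (ζ : F), r.Prime ∧ Fintype.card F = Nat.card F₀ ^ r ∧ ζ ≠ 0 ∧ Cfsg.Geo.IsFormRationalStructure (Cfsg.sympForm 4 F) F₀ ζ P ∧ H = Cfsg.Geo.subfieldSubgroup F₀ P ⊓ Cfsg.spGL 4 F) ∨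
    (∃ (p : ℕ) (R : Subgroup (Matrix.GeneralLinearGroup (Fin 4 ⊕ Fin 4) F)), p.Prime ∧ Odd p ∧ Fintype.card F = p ∧ Cfsg.Geo.IsSymplecticTypeGroup 2 R ∧ Cfsg.Geo.ActsAbsolutelyIrreducibly (Cfsg.Geo.matrixSet R) ∧ R ≤ Cfsg.Geo.similarityGroup (Cfsg.sympForm 4 F) ∧ Nat.card R = 128 ∧ Nat.card (Subgroup.center R) = 2 ∧ Cfsg.Geo.IsOfMinusType 3 R ∧ H = Cfsg.Geo.subgroupNormalizer R ⊓ Cfsg.spGL 4 F) ∨
    (Odd (Fintype.card F) ∧ 5 ≤ Fintype.card F ∧ ∃ (e : (Fin 4 ⊕ Fin 4) ≃ (Fin 3 → Fin 2)) (P : Matrix.GeneralLinearGroup (Fin 4 ⊕ Fin 4) F) (f₁ : (Fin 2 → F) → (Fin 2 → F) → F), Cfsg.Geo.IsSymplecticForm f₁ ∧ Cfsg.Geo.IsTensorPowerFormStructure id (Cfsg.sympForm 4 F) f₁ e P ∧ H = Cfsg.Geo.tensorWreathSubgroup 2 3 e P ⊓ Cfsg.spGL 4 F) ∨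
    (¬ Odd (Fintype.card F) ∧ ∃ Q : (Fin 4 ⊕ Fin 4 → F) → F, Cfsg.Geo.IsNondegenerateQuadraticForm Q ∧ (∀ u v : (Fin 4 ⊕ Fin 4 → F), QuadraticMap.polar Q u v = (Cfsg.sympForm 4 F) u v) ∧ H = Cfsg.Geo.quadSimilarityGroup Q ⊓ Cfsg.spGL 4 F) ∨
    Cfsg.Geo.InSymplecticResidualClass H := by
  have hf := Cfsg.Agent.Lib.Helper95SpStd.sympForm_isSymplectic (F := F) 4
  have hG := Cfsg.Agent.Lib.Helper97SpWrap.stv_mem_spGL (F := F) 4
  have hcard : Fintype.card (Fin 4 ⊕ Fin 4) = 8 := by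
    rw [Fintype.card_sum, Fintype.card_fin]
  rcases Cfsg.Agent.Lib.Helper97SpWrap.sp_wrap 4 (by norm_num) H hH
    (Cfsg.Agent.Lib.Helper97SpFinal.sp_alt 4 (by norm_num) H hH.1.le) with
    h | h | ⟨t, k, D, htk, hk, hk2, hD, hHD⟩ | h | ⟨r, K, hr, hrm, hK, hsa, hz, hHK⟩ | h |
    ⟨hq, n₁, n₂, e, P, f₁, f₂, hn, hev, hn₂, hn3, hf₁, hf₂, hT, hHT⟩ | h | h |
    ⟨R, p, k, hst, habs, hsim, hp, hodd, hc, hcR, hcen, hminus, hk, hle, -⟩ |
    ⟨hq, k, t, e, P, f₁, hodd, ht, hne, hf₁, hTP, hle⟩ | h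
  · exact Or.inl h
  · exact Or.inr (Or.inl h)
  · have ht2 := hD.decomp.two_le
    have hm0 := hD.decomp.pos
    obtain ⟨j, rfl⟩ := hk
    have ht : t ≤ 8 := Nat.le_of_dvd (by norm_num) ⟨j + j, htk.symm⟩
    interval_cases t <;> try omega
    · obtain rfl : j = 2 := by omega
      exact Or.inr (Or.inr (Or.inr (Or.inl ⟨D, hD, hHD⟩)))
    · obtain rfl : j = 1 := by omega
      exact Or.inr (Or.inr (Or.inl ⟨hk2 rfl, D, hD, hHD⟩))
  · exact Or.inr (Or.inr (Or.inr (Or.inr (Or.inl h))))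
  · have hr4 : r ≤ 4 := Nat.le_of_dvd (by norm_num) hrm
    interval_cases r
    · exact absurd hr (by norm_num)
    · exact absurd hr (by norm_num)
    · exact Or.inr (Or.inr (Or.inr (Or.inr (Or.inr (Or.inl ⟨K, hK, hsa, hz, hHK⟩)))))
    · exact absurd hrm (by norm_num)
    · exact absurd hr (by norm_num)
  · exact Or.inr (Or.inr (Or.inr (Or.inr (Or.inr (Or.inr (Or.inl h))))))
  · obtain ⟨j, rfl⟩ := hev
    have hn2 : n₂ ≤ 8 := Nat.le_of_dvd (by norm_num) ⟨j + j, by rw [Nat.mul_comm]; exact hn.symm⟩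
    interval_cases n₂ <;> try omega
    obtain rfl : j = 1 := by omega
    by_cases hplus : Cfsg.Geo.IsPlusTypeOn (fun v : Fin 4 → F => f₂ v v) ⊤
    · exfalso
      obtain ⟨K, hK1, hK2⟩ := Cfsg.Agent.Lib.Helper94SpDTens24.sp8_tensor_plus hq e P f₁ f₂ hf₁ hf₂
        hplus hT
      rw [← hHT] at hK1
      rcases hH.2 K hK1.le hK2.le with h | h
      · exact absurd h hK1.ne'
      · exact absurd h hK2.ne
    · exact Or.inr (Or.inr (Or.inr (Or.inr (Or.inr (Or.inr (Or.inr (Or.inl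
        ⟨hq, e, P, f₁, f₂, hf₁, hf₂, hplus, hT, hHT⟩)))))))
  · exact Or.inr (Or.inr (Or.inr (Or.inr (Or.inr (Or.inr (Or.inr (Or.inr (Or.inl h))))))))
  · exact Or.inr (Or.inr (Or.inr (Or.inr (Or.inr (Or.inr (Or.inr (Or.inr (Or.inr (Or.inr (Or.inr
      (Or.inl h)))))))))))
  · rw [hcard] at hk
    obtain rfl : k = 3 := Nat.pow_right_injective (le_refl 2) (by simpa using hk.symm)
    have hq : Odd (Fintype.card F) := by rw [hc]; exact hodd
    exact Or.inr (Or.inr (Or.inr (Or.inr (Or.inr (Or.inr (Or.inr (Or.inr (Or.inr (Or.inl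
      ⟨p, R, hp, hodd, hc, hst, habs, hsim, by simpa using hcR, hcen, hminus,
        Cfsg.Agent.Lib.Helper97OMain.eq_inf_of_le'' hH hle
          (Cfsg.Agent.Lib.Helper97SpPc6.not_le_c6 hf hG hq (by rw [hcard]; norm_num) hst habs)⟩)))))))))
  · have hkt := Fintype.card_congr e
    rw [hcard, Fintype.card_fun, Fintype.card_fin, Fintype.card_fin] at hkt
    have hk3 : k < 3 := by
      by_contra hcon
      have h1 : 3 ^ 3 ≤ k ^ t :=
        le_trans (Nat.pow_le_pow_left (by omega) 3) (Nat.pow_le_pow_right (by omega) ht)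
      omega
    interval_cases k
    · rw [zero_pow (by omega)] at hkt
      omega
    · rw [one_pow] at hkt
      omega
    · obtain rfl : t = 3 := Nat.pow_right_injective (le_refl 2) (by simpa using hkt.symm)
      have h5 : 5 ≤ Fintype.card F :=
        Cfsg.Agent.Lib.Helper97SpWrap.five_le_of_odd hq Fintype.one_lt_card
          (fun h3 => hne ⟨h3, rfl⟩)
      exact Or.inr (Or.inr (Or.inr (Or.inr (Or.inr (Or.inr (Or.inr (Or.inr (Or.inr (Or.inr (Or.inl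
        ⟨hq, h5, e, P, f₁, hf₁, hTP, Cfsg.Agent.Lib.Helper97OMain.eq_inf_of_le'' hH hle
          (Cfsg.Agent.Lib.Helper94SpDPwreath.not_le_wreath hf hG (le_refl 2) (by norm_num) e P)⟩))))))))))
  · exact Or.inr (Or.inr (Or.inr (Or.inr (Or.inr (Or.inr (Or.inr (Or.inr (Or.inr (Or.inr (Or.inr
      (Or.inr h)))))))))))

end Cfsg.Agent.S5823
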