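import Cfsg.Statements.S5847
import Cfsg.Agent.Lib.Helper58AschK

set_option autoImplicit false
open Cfsg

namespace Cfsg.Agent.S5847

open Cfsg.Geo Cfsg.Agent.Lib.Helper58ODefs Cfsg.Agent.Lib.Helper58EDefs Cfsg.Agent.Lib.Helper97OBase
  Cfsg.Agent.Lib.Helper97OMain Cfsg.Agent.Lib.Helper97OProper Cfsg.Agent.Lib.Helper97GBase
  Cfsg.Agent.Lib.Helper97GSubfield Cfsg.Agent.Lib.Helper58GD Cfsg.Agent.Lib.Helper63OTens
  Cfsg.Agent.Lib.Helper58EMain Cfsg.Agent.Lib.Helper36ORed Cfsg.Agent.Lib.Helper58AschF Cfsg.Agent.Lib.Helper58AschG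
  Cfsg.Agent.Lib.Helper58AschH Cfsg.Agent.Lib.Helper58AschI Cfsg.Agent.Lib.Helper58AschJ Cfsg.Agent.Lib.Helper58AschK
  Cfsg.Agent.Lib.Helper12OTsymm
  Cfsg.Agent.Lib.Helper95SpTensodd Cfsg.Agent.Lib.Helper58OMain Cfsg.Agent.Lib.Helper58EField
  Cfsg.Agent.Lib.Helper97OProper2 Cfsg.Agent.Lib.Helper95OComm Cfsg.Agent.Lib.Helper84ODeciso
  Cfsg.Agent.Lib.Helper98AschGDefs Cfsg.Agent.Lib.Helper97OCliff

/-- Every maximal subgroup of Ω_10^+(q) is of one of the listed geometric types or lies in the residual class. Let F be a finite field with q elements (characteristic p), Q a non-degenerate quadratic form on F^10 of plus type (Witt index 5: some totally singular 5-space), Ω the commutator subgroup of its isometry group, and H a maximal subgroup of Ω (inside GL_10(F)). Then H is the intersection with Ω of one of: the stabiliser of a non-zero totally singular subspace of dimension ≠ 4; for q odd, the stabiliser of a non-degenerate subspace of odd dimension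 ≠ 5; the stabiliser of a non-degenerate 2-space of minus type; for q ≥ 4, the stabiliser of a non-degenerate 2-space of plus type; the stabiliser of a non-degenerate 4-space; for q even, the stabiliser of the span of a non-singular vector; for q = p prime with p ≡ 1 mod 4, the stabiliser of a decomposition into 10 pairwise orthogonal, pairwise isometric non-degenerate 1-spaces; for q ≥ 7, the stabiliser of a decomposition into 5 pairwise orthogonal, pairwise isometric non-degenerate 2-spaces; for q ≡ 1 mod 4, the stabiliser of a decomposition into 2 pairwise orthogonal, pairwise isometric non-degenerate 5-spaces; for q ≡ 3 mod 4, the stabiliser of a decomposition into two orthogonal, non-isometric non-degenerate 5-spaces; for q odd, the normaliser of a degree-2 subfield of the matrix algebra, self-adjoint for the polar form; a subfield group (|F| = |F₀|^r, r prime) whose F₀-structure carries a non-zero multiple of Q — or else H lies in the residual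 class of the orthogonal case (modulo scalars H is almost simple, with absolutely irreducible perfect socle preimage realisable over no proper subfield and fixing no non-degenerate unitary form). -/
theorem result {F : Type*} [Field F] [Fintype F] (Q : (Fin 10 → F) → F) (hQ : Cfsg.Geo.IsNondegenerateQuadraticForm Q) (hplus : Cfsg.Geo.IsPlusTypeOn Q ⊤) (H : Subgroup (Matrix.GeneralLinearGroup (Fin 10) F)) (hH : Cfsg.Geo.IsMaximalIn (Cfsg.Geo.omegaGL Q) H) :
    (∃ W : Submodule F (Fin 10 → F), W ≠ ⊥ ∧ Cfsg.Geo.IsTotallySingularQuad Q W ∧ Module.finrank F W ≠ 4 ∧ H = Cfsg.Geo.subspaceStabilizer W ⊓ Cfsg.Geo.omegaGL Q) ∨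
    (Odd (Fintype.card F) ∧ ∃ W : Submodule F (Fin 10 → F), W ≠ ⊥ ∧ W ≠ ⊤ ∧ Odd (Module.finrank F W) ∧ 2 * Module.finrank F W ≠ 10 ∧ Cfsg.Geo.IsNondegenerateOn (QuadraticMap.polar Q) W ∧ H = Cfsg.Geo.subspaceStabilizer W ⊓ Cfsg.Geo.omegaGL Q) ∨
    (∃ W : Submodule F (Fin 10 → F), Module.finrank F W = 2 ∧ Cfsg.Geo.IsNondegenerateOn (QuadraticMap.polar Q) W ∧ ¬ Cfsg.Geo.IsPlusTypeOn Q W ∧ H = Cfsg.Geo.subspaceStabilizer W ⊓ Cfsg.Geo.omegaGL Q) ∨
    (4 ≤ Fintype.card F ∧ ∃ W : Submodule F (Fin 10 → F), Module.finrank F W = 2 ∧ Cfsg.Geo.IsNondegenerateOn (QuadraticMap.polar Q) W ∧ Cfsg.Geo.IsPlusTypeOn Q W ∧ H = Cfsg.Geo.subspaceStabilizer W ⊓ Cfsg.Geo.omegaGL Q) ∨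
    (∃ W : Submodule F (Fin 10 → F), Module.finrank F W = 4 ∧ Cfsg.Geo.IsNondegenerateOn (QuadraticMap.polar Q) W ∧ H = Cfsg.Geo.subspaceStabilizer W ⊓ Cfsg.Geo.omegaGL Q) ∨
    (¬ Odd (Fintype.card F) ∧ ∃ v : (Fin 10 → F), Q v ≠ 0 ∧ H = Cfsg.Geo.subspaceStabilizer (Submodule.span F {v}) ⊓ Cfsg.Geo.omegaGL Q) ∨
    ((∃ p : ℕ, p.Prime ∧ Fintype.card F = p ∧ (p % 4 = 1)) ∧ ∃ D : Fin 10 → Submodule F (Fin 10 → F), Cfsg.Geo.IsOrthogonalMDecomposition Q 1 D ∧ H = Cfsg.Geo.decompositionStabilizer D ⊓ Cfsg.Geo.omegaGL Q) ∨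
    (7 ≤ Fintype.card F ∧ ∃ D : Fin 5 → Submodule F (Fin 10 → F), Cfsg.Geo.IsOrthogonalMDecomposition Q 2 D ∧ H = Cfsg.Geo.decompositionStabilizer D ⊓ Cfsg.Geo.omegaGL Q) ∨
    (Fintype.card F % 4 = 1 ∧ ∃ D : Fin 2 → Submodule F (Fin 10 → F), Cfsg.Geo.IsOrthogonalMDecomposition Q 5 D ∧ H = Cfsg.Geo.decompositionStabilizer D ⊓ Cfsg.Geo.omegaGL Q) ∨
    (Fintype.card F % 4 = 3 ∧ ∃ D : Fin 2 → Submodule F (Fin 10 → F), Cfsg.Geo.IsNondegenerateMDecomposition (QuadraticMap.polar Q) 5 D ∧ ¬ Cfsg.Geo.AreIsometricFor Q (D 0) (D 1) ∧ H = Cfsg.Geo.decompositionStabilizer D ⊓ Cfsg.Geo.omegaGL Q) ∨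
    (Odd (Fintype.card F) ∧ ∃ K : Subalgebra F (Matrix (Fin 10) (Fin 10) F), Cfsg.Geo.IsFieldSubalgebra 2 K ∧ Cfsg.Geo.IsSelfAdjointFor (QuadraticMap.polar Q) K ∧ H = Cfsg.Geo.subalgebraNormalizer K ⊓ Cfsg.Geo.omegaGL Q) ∨
    (∃ (F₀ : Subfield F) (r : ℕ) (P : Matrix.GeneralLinearGroup (Fin 10) F) (ζ : F), r.Prime ∧ Fintype.card F = Nat.card F₀ ^ r ∧ ζ ≠ 0 ∧ Cfsg.Geo.IsQuadFormRationalStructure (fun v : Fin 10 → F => ζ * Q v) F₀ P ∧ H = Cfsg.Geo.subfieldSubgroup F₀ P ⊓ Cfsg.Geo.omegaGL Q) ∨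
    Cfsg.Geo.InOrthogonalResidualClass H := by
  generalize hgoal : (_ ∨ _ : Prop) = goal
  have hcard : Fintype.card (Fin 10) = 10 := Fintype.card_fin 10
  have h7 : 7 ≤ Fintype.card (Fin 10) := by omega
  have hl : Fintype.card (Fin 10) = 2 * 5 := by omega
  have hHI : H ≤ isometryGroup F Q := hH.1.le.trans omega_le_iso
  have hsym : IsSymmetricForm (QuadraticMap.polar Q) := symm_polar hQ
  have hfix : FixesForm (matrixSet H) (QuadraticMap.polar Q) := fixes_polar hHI
  have stab : ∀ W : Submodule F (Fin 10 → F), W ≠ ⊥ → W ≠ ⊤ → H ≤ subspaceStabilizer W →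
      H = subspaceStabilizer W ⊓ omegaGL Q := fun W h0 h1 hle =>
    eq_inf_of_le'' hH hle (not_le_stab_all hQ h7 h0 h1)
  have ts_ne_top : ∀ W : Submodule F (Fin 10 → F), IsTotallySingularQuad Q W → W ≠ ⊤ := by
    rintro W hW rfl
    obtain ⟨a, -, ha⟩ := exists_nonsingular hQ (W := ⊤) (by
      intro h
      have h1 : Module.finrank F (⊤ : Submodule F (Fin 10 → F)) = 0 := by rw [h, finrank_bot]
      rw [finrank_top, finrank_fun] at h1
      omega) (fun w _ hw => ⟨(hQ.nondegenerate w hw).1.imp fun x hx => ⟨trivial, hx⟩,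
        (hQ.nondegenerate w hw).2.imp fun x hx => ⟨trivial, hx⟩⟩)
    exact ha (hW a trivial)
  have odd_of_nd : ∀ W : Submodule F (Fin 10 → F), IsNondegenerateOn (QuadraticMap.polar Q) W →
      Odd (Module.finrank F W) → Odd (Fintype.card F) := by
    intro W hW hodd
    by_contra hq
    have := even_finrank_of_nondeg (two_eq_zero_of_not_odd hq) hQ hW
    exact (Nat.not_even_iff_odd.2 hodd) this
  have hm1 : (-1 : F) ^ 5 = -1 := by norm_num
  -- two orthogonal halves
  have halves : ∀ D : Fin 2 → Submodule F (Fin 10 → F),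
      IsNondegenerateMDecomposition (QuadraticMap.polar Q) 5 D → H ≤ decompositionStabilizer D →
      (AreIsometricFor Q (D 0) (D 1) → IsOrthogonalMDecomposition Q 5 D) →
      (Fintype.card F % 4 = 1 ∧ ∃ D : Fin 2 → Submodule F (Fin 10 → F),
        IsOrthogonalMDecomposition Q 5 D ∧ H = decompositionStabilizer D ⊓ omegaGL Q) ∨
      (Fintype.card F % 4 = 3 ∧ ∃ D : Fin 2 → Submodule F (Fin 10 → F),
        IsNondegenerateMDecomposition (QuadraticMap.polar Q) 5 D ∧ ¬ AreIsometricFor Q (D 0) (D 1) ∧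
        H = decompositionStabilizer D ⊓ omegaGL Q) := by
    intro D hD hle hiso
    have hodd : Odd (Fintype.card F) := odd_of_nd (D 0) (hD.nondegenerate 0) (by
      rw [hD.decomp.finrank_eq]; exact ⟨2, rfl⟩)
    have h2 := two_ne_zero_of_odd hodd
    have heq := eq_inf_of_le'' hH hle (not_le_decomp_all hQ h7 (by omega) D hD)
    have h4 : Fintype.card F % 4 = 1 ∨ Fintype.card F % 4 = 3 := by
      obtain ⟨j, hj⟩ := hodd
      omega
    by_cases hi : AreIsometricFor Q (D 0) (D 1)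
    · left
      refine ⟨?_, D, hiso hi, heq⟩
      have := sq_of_dec_plus h2 hQ (hiso hi) ⟨1, rfl⟩ hl hplus
      rw [hm1, FiniteField.isSquare_neg_one_iff] at this
      omega
    · right
      refine ⟨?_, D, hD, hi, heq⟩
      have := not_sq_of_two_noniso h2 hQ (k := 5) ⟨2, rfl⟩ hD hi hplus
      rw [hm1, FiniteField.isSquare_neg_one_iff] at this
      omega
  by_cases hirr : ActsIrreducibly (matrixSet H)
  swap
  · rw [← hgoal]
    rcases o_reducible hQ hHI hirr with ⟨W, h0, hW, hle⟩ | h | ⟨h2, v, hv, hle⟩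
    · by_cases h4 : Module.finrank F W = 4
      · obtain ⟨U, hU, hU5, hleU⟩ := stab_submax hQ (by omega) hl hplus hH.1.le hW (by omega) hle
        have hU0 : U ≠ ⊥ := by
          rintro rfl
          rw [finrank_bot] at hU5
          omega
        exact Or.inl ⟨U, hU0, hU, by omega, stab U hU0 (ts_ne_top U hU) hleU⟩
      · exact Or.inl ⟨W, h0, hW, h4, stab W h0 (ts_ne_top W hW) hle⟩
    swap
    · exact Or.inr (Or.inr (Or.inr (Or.inr (Or.inr (Or.inl (⟨not_odd_of_two_eq_zero h2, v, hv, stab _ (span_ne_bot hQ hv) (span_ne_top hQ (by omega) hv) hle⟩))))))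
    obtain ⟨W₀, h0₀, h1₀, hW₀, hle₀⟩ := h
    obtain ⟨W, h0, h1, hW, hle, hdim⟩ := nd_small hQ hHI h0₀ h1₀ hW₀ hle₀
    have hpos : 0 < Module.finrank F W := Module.finrank_pos_iff_exists_ne_zero.2 (by
      obtain ⟨w, hw, hw0⟩ := Submodule.exists_mem_ne_zero_of_ne_bot h0
      exact ⟨⟨w, hw⟩, fun h => hw0 (congrArg Subtype.val h)⟩)
    by_cases h5 : Module.finrank F W = 5
    · obtain ⟨D, -, hD, hle', hiso⟩ := two_dec hQ hHI hW (by omega) h5 hl hle
      rcases halves D hD hle' hiso with h | h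
      · exact Or.inr (Or.inr (Or.inr (Or.inr (Or.inr (Or.inr (Or.inr (Or.inr (Or.inl (h)))))))))
      · exact Or.inr (Or.inr (Or.inr (Or.inr (Or.inr (Or.inr (Or.inr (Or.inr (Or.inr (Or.inl (h))))))))))
    by_cases hodd : Odd (Module.finrank F W)
    · exact Or.inr (Or.inl ⟨odd_of_nd W hW hodd, W, h0, h1, hodd, by omega, hW, stab W h0 h1 hle⟩)
    rw [Nat.not_odd_iff_even] at hodd
    obtain ⟨j, hj⟩ := hodd
    obtain hfr | hfr : Module.finrank F W = 2 ∨ Module.finrank F W = 4 := by omega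
    · rcases plane_cases hQ h7 hH hfr hW hle with h | h | ⟨hq, W', h0', h1', hfr', hW', heq⟩ | h
      · exact Or.inr (Or.inr (Or.inl (h)))
      · exact Or.inr (Or.inr (Or.inr (Or.inl (h))))
      · exact Or.inr (Or.inl ⟨hq, W', h0', h1', by rw [hfr']; exact ⟨0, rfl⟩, by omega, hW', heq⟩)
      · exact Or.inr (Or.inr (Or.inr (Or.inr (Or.inr (Or.inl (h))))))
    · exact Or.inr (Or.inr (Or.inr (Or.inr (Or.inl (⟨W, hfr, hW, stab W h0 h1 hle⟩)))))
  have hinvirr : ∀ W : Submodule F (Fin 10 → F), W ≠ ⊥ → W ≠ ⊤ → ¬ H ≤ subspaceStabilizer W := by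
    intro W h0 h1 hle
    rcases hirr W (fun s hs => by
      obtain ⟨g, hg, rfl⟩ := hs
      rintro _ ⟨w, hw, rfl⟩
      rw [Matrix.toLin'_apply]
      exact inv_of_le hle g hg w hw) with h | h
    · exact h0 h
    · exact h1 h
  -- subfields
  have subCase : OSubZ Q H → goal := by
    rintro ⟨F₀, r, P, ζ, hr, hc, hζ, hrat, hle⟩
    rw [← hgoal]
    exact Or.inr (Or.inr (Or.inr (Or.inr (Or.inr (Or.inr (Or.inr (Or.inr (Or.inr (Or.inr (Or.inr (Or.inl (⟨F₀, r, P, ζ, hr, hc, hζ, hrat, eq_inf_of_le'' hH hle (not_le_subfield_all hQ h7 (subfield_ne_top_of_card hr hc) P)⟩))))))))))))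
  -- lines
  have linesCase : ODecOne Q H → goal := by
    intro hD1
    by_cases hp : (Fintype.card F).Prime
    swap
    · exact subCase (sub_of_lines hQ hHI hD1 hp)
    obtain ⟨t, D, hD, hle⟩ := hD1
    rw [← hgoal]
    have hcd := decomp_card D hD.decomp.decomp
    obtain rfl : t = 10 := by omega
    have hodd : Odd (Fintype.card F) := odd_of_nd (D 0) (hD.decomp.nondegenerate 0) (by
      rw [hD.decomp.decomp.finrank_eq]; exact ⟨0, rfl⟩)
    have h2 := two_ne_zero_of_odd hodd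
    refine Or.inr (Or.inr (Or.inr (Or.inr (Or.inr (Or.inr (Or.inl (⟨⟨Fintype.card F, hp, rfl, ?_⟩, D, hD, eq_inf_of_le'' hH hle (not_le_decomp hQ h2 (by omega) D hD)⟩)))))))
    have := sq_of_dec_plus h2 hQ hD ⟨5, rfl⟩ hl hplus
    rw [hm1, FiniteField.isSquare_neg_one_iff] at this
    obtain ⟨j, hj⟩ := hodd
    omega
  -- decompositions
  have decCase : ODec Q H → goal := by
    rintro ⟨t, k, D, hD, hle⟩
    have hcd := decomp_card D hD.decomp.decomp
    have ht2 := hD.decomp.decomp.two_le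
    rw [hcard] at hcd
    obtain ⟨rfl, rfl⟩ | ⟨rfl, rfl⟩ | ⟨rfl, rfl⟩ : (t = 10 ∧ k = 1) ∨ (t = 5 ∧ k = 2) ∨ (t = 2 ∧ k = 5) := by
      have ht10 : t ∣ 10 := ⟨k, hcd⟩
      have hle10 : t ≤ 10 := Nat.le_of_dvd (by omega) ht10
      interval_cases t <;> omega
    · exact linesCase ⟨10, D, hD, hle⟩
    · have hp := block_plus_of_odd hQ hD ⟨2, rfl⟩ ⟨1, rfl⟩ hplus
      have hq7 : 7 ≤ Fintype.card F := by
        by_contra hq
        exact planes_small_false hQ hH (by omega) D hD (Or.inr hp) (by omega) hle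
      rw [← hgoal]
      exact Or.inr (Or.inr (Or.inr (Or.inr (Or.inr (Or.inr (Or.inr (Or.inl (⟨by omega, D, hD, eq_inf_of_le'' hH hle (not_le_decomp_all hQ h7 (by omega) D hD.decomp)⟩))))))))
    · rw [← hgoal]
      rcases halves D hD.decomp hle (fun _ => hD) with h | h
      · exact Or.inr (Or.inr (Or.inr (Or.inr (Or.inr (Or.inr (Or.inr (Or.inr (Or.inl (h)))))))))
      · exact Or.inr (Or.inr (Or.inr (Or.inr (Or.inr (Or.inr (Or.inr (Or.inr (Or.inr (Or.inl (h))))))))))
  have pairCase : OPair Q H → goal := by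
    rintro ⟨k, D, hD, hTS, hle⟩
    have hcd := decomp_card D hD
    obtain rfl : k = 5 := by omega
    have h0 : D 0 ≠ ⊥ := by
      intro h
      have := hD.finrank_eq 0
      rw [h, finrank_bot] at this
      omega
    exact absurd (pair_fix hQ (by omega) hH.1.le ⟨2, rfl⟩ hD hTS hle) (hinvirr (D 0) h0 (ts_ne_top _ (hTS 0)))
  -- fields of degree 2
  have field2 : ∀ K : Subalgebra F (Matrix (Fin 10) (Fin 10) F), IsFieldSubalgebra 2 K →
      IsAdjointClosedFor (QuadraticMap.polar Q) K → H ≤ subalgebraNormalizer K → goal := by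
    intro K hK hadj hle
    rw [← hgoal]
    have heq := eq_inf_of_le'' hH hle (not_le_field_all hQ h7 (by omega) K hK)
    by_cases hsa : IsSelfAdjointFor (QuadraticMap.polar Q) K
    · have hodd : Odd (Fintype.card F) := by
        by_contra hq
        have := two_mul_dvd_of_selfAdjoint (two_eq_zero_of_not_odd hq) hQ K hK hsa
        omega
      exact Or.inr (Or.inr (Or.inr (Or.inr (Or.inr (Or.inr (Or.inr (Or.inr (Or.inr (Or.inr (Or.inl (⟨hodd, K, hK, hsa, heq⟩)))))))))))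
    · exact absurd hplus (not_plus_of_unitary hQ hl ⟨2, rfl⟩ K hK hadj hsa
        (unitary_similarity (by omega) hQ hHI hirr K hK hadj hsa hle))
  -- commutative algebras of even dimension
  have commCase : ∀ C : Subalgebra F (Matrix (Fin 10) (Fin 10) F), NzA H C →
      (∀ x ∈ C, ∀ y ∈ C, x * y = y * x) → IsAdjointClosedFor (QuadraticMap.polar Q) C →
      2 ∣ Module.finrank F C → goal := by
    intro C hC hcomm hadj hdvd
    rcases o_comm hsym hfix hirr hC hcomm hadj with hinv | hdec | hpair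
    · obtain ⟨K', hK', hadj', hle'⟩ := o_field_prime hsym hC hcomm hinv hadj Nat.prime_two hdvd
      exact field2 K' hK' hadj' hle'
    · exact decCase (odec_of_altDec hHI hirr hdec)
    · exact pairCase (o_pair (by omega) hQ hHI hirr hpair)
  rcases o_main_gen (by omega) hQ hHI with h | h
  swap
  · rw [← hgoal]
    exact Or.inr (Or.inr (Or.inr (Or.inr (Or.inr (Or.inr (Or.inr (Or.inr (Or.inr (Or.inr (Or.inr (Or.inr (h))))))))))))
  rcases h with ⟨W, h0, hW, hle⟩ | ⟨W, h0, h1, hW, hle⟩ | ⟨h2, v, hv, hle⟩ | h | h |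
    ⟨r, K, hr, hK, hadj, hle⟩ | ⟨d, s, e, P, G₁, G₂, hd, hs, h₁, h₂, hG, hle⟩ |
    ⟨N, hNH, hnorm, hNs, hcomm, habs, hmin⟩ |
    ⟨k, m, e, P, G, T, hh, hm, hk, hGu, hG, hle, hTH, hTperf, hTs, hmem⟩ | h
  · exact absurd hle (hinvirr W h0 (ts_ne_top W hW))
  · exact absurd hle (hinvirr W h0 h1)
  · exact absurd hle (hinvirr _ (span_ne_bot hQ hv) (span_ne_top hQ (by omega) hv))
  · exact decCase h
  · exact pairCase h
  · -- fields
    have hdvd := field_dvd K hK
    rw [hcard] at hdvd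
    obtain rfl | rfl : r = 2 ∨ r = 5 := by
      have : r ∣ 2 * 5 := by norm_num; exact hdvd
      rcases (Nat.Prime.dvd_mul hr).1 this with h | h
      · exact Or.inl ((Nat.prime_dvd_prime_iff_eq hr Nat.prime_two).1 h)
      · exact Or.inr ((Nat.prime_dvd_prime_iff_eq hr Nat.prime_five).1 h)
    · exact field2 K hK hadj hle
    · have hsa := selfAdjoint_of_odd_degree hsym ⟨2, rfl⟩ K hK hadj
      obtain ⟨L, hLc, hLa, hLf, hLn⟩ : ∃ L : Subalgebra F (Matrix (Fin 10) (Fin 10) F),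
          (∀ x ∈ L, ∀ y ∈ L, x * y = y * x) ∧
          IsAdjointClosedFor (QuadraticMap.polar Q) L ∧ Module.finrank F L = 2 * 5 ∧
          ∀ g : Matrix.GeneralLinearGroup (Fin 10) F, g ∈ isometryGroup F Q → g ∈ subalgebraNormalizer K →
            ∀ x ∈ L, (g : Matrix (Fin 10) (Fin 10) F) * x *
              ((g⁻¹ : Matrix.GeneralLinearGroup (Fin 10) F) : Matrix (Fin 10) (Fin 10) F) ∈ L := by
        by_cases h2 : (2 : F) = 0
        · exact exists_quadratic_ext_even h2 hQ K hK hsa hl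
        · exact exists_quadratic_ext_odd h2 hQ K hK hsa hl
      exact commCase L (fun g hg x hx => hLn g (hHI hg) (hle hg) x hx) hLc hLa ⟨5, hLf⟩
  · -- tensor products
    have hds := Fintype.card_congr e
    rw [hcard] at hds
    simp at hds
    have t25 : ∀ (e : Fin 10 ≃ Fin 2 × Fin 5) (G₁ : Matrix (Fin 2) (Fin 2) F)
        (G₂ : Matrix (Fin 5) (Fin 5) F), IsUnit G₁.det → IsUnit G₂.det →
        (∀ x y : Fin 2 × Fin 5 → F, QuadraticMap.polar Q (Matrix.mulVec (P : Matrix (Fin 10) (Fin 10) F) (x ∘ e))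
          (Matrix.mulVec (P : Matrix (Fin 10) (Fin 10) F) (y ∘ e)) =
            formOfGram id (Matrix.kroneckerMap (· * ·) G₁ G₂) x y) →
        H ≤ tensorProductSubgroup 2 5 e P → goal := by
      intro e G₁ G₂ h₁ h₂ hG hle
      by_cases h2 : (2 : F) = 0
      · exfalso
        obtain ⟨-, hs₂, -, hd₂, -⟩ :=
          tens_char_two h2 hQ hHI hirr (by omega) (by omega) e P G₁ G₂ h₁ h₂ hG hle
        refine not_alt_of_odd ⟨2, rfl⟩ G₂ ?_ hd₂ h₂
        rw [hs₂]
        ext i j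
        have : G₂ i j + G₂ i j = 0 := by rw [← two_mul, h2, zero_mul]
        simpa using eq_neg_of_add_eq_zero_left this
      obtain ⟨hs₁, hs₂⟩ : G₁.transpose = G₁ ∧ G₂.transpose = G₂ := by
        rcases tens_form_symm hsym.symm e P G₁ G₂ h₁ h₂ hG with h | h
        · exact h
        · exact absurd h.2 (not_skew_of_odd h2 ⟨2, rfl⟩ G₂ h₂)
      obtain ⟨C, hC, hCc, hCa, hCf⟩ := tens_two_sym h2 hQ hHI (by omega) e P G₁ G₂ h₁ h₂ hG hs₁ hle
      exact commCase C hC hCc hCa ⟨1, by omega⟩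
    obtain ⟨rfl, rfl⟩ | ⟨rfl, rfl⟩ : (d = 2 ∧ s = 5) ∨ (d = 5 ∧ s = 2) := by
      have hd10 : d ∣ 10 := ⟨s, hds⟩
      have hle10 : d ≤ 10 := Nat.le_of_dvd (by omega) hd10
      interval_cases d <;> omega
    · exact t25 e G₁ G₂ h₁ h₂ hG hle
    · obtain ⟨e', hle', hG'⟩ := tens_form_swap e P hle G₁ G₂ hG
      exact t25 e' G₂ G₁ h₂ h₁ hG' hle'
  · -- class 6
    exfalso
    obtain ⟨j, hj⟩ := c6_pow_two hQ (hNH.trans hHI) hcomm habs
    rw [hcard] at hj
    have hj4 : j < 4 := by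
      by_contra hcon
      have : 2 ^ 4 ≤ 2 ^ j := Nat.pow_le_pow_right (by omega) (by omega)
      omega
    interval_cases j <;> omega
  · -- tensor powers
    exfalso
    have hkm := Fintype.card_congr e
    rw [hcard] at hkm
    simp at hkm
    have hm3 : m ≤ 3 := by
      by_contra hcon
      have : 4 ^ 2 ≤ m ^ k :=
        (Nat.pow_le_pow_left (by omega) 2).trans (Nat.pow_le_pow_right (by omega) hk)
      omega
    have hk3 : k ≤ 3 := by
      by_contra hcon
      have : 2 ^ 4 ≤ m ^ k :=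
        (Nat.pow_le_pow_left hm 4).trans (Nat.pow_le_pow_right (by omega) (by omega))
      omega
    interval_cases m <;> interval_cases k <;> omega
  · exact subCase h

end Cfsg.Agent.S5847
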