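import Cfsg.Statements.S5871
import Cfsg.Agent.Lib.Helper58AschK
import Cfsg.Agent.Lib.Helper95OFrame3

set_option autoImplicit false
open Cfsg

namespace Cfsg.Agent.S5871

open Cfsg.Geo Cfsg.Agent.Lib.Helper58ODefs Cfsg.Agent.Lib.Helper58EDefs Cfsg.Agent.Lib.Helper97OBase
  Cfsg.Agent.Lib.Helper97OMain Cfsg.Agent.Lib.Helper97OProper Cfsg.Agent.Lib.Helper97GBase
  Cfsg.Agent.Lib.Helper97GSubfield Cfsg.Agent.Lib.Helper58GD Cfsg.Agent.Lib.Helper63OTens
  Cfsg.Agent.Lib.Helper58EMain Cfsg.Agent.Lib.Helper36ORed Cfsg.Agent.Lib.Helper58AschF Cfsg.Agent.Lib.Helper58AschG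
  Cfsg.Agent.Lib.Helper58AschH Cfsg.Agent.Lib.Helper58AschI Cfsg.Agent.Lib.Helper58AschJ
  Cfsg.Agent.Lib.Helper58AschK Cfsg.Agent.Lib.Helper12OTsymm
  Cfsg.Agent.Lib.Helper95SpTensodd Cfsg.Agent.Lib.Helper58OMain Cfsg.Agent.Lib.Helper58EField
  Cfsg.Agent.Lib.Helper97OProper2 Cfsg.Agent.Lib.Helper95OComm Cfsg.Agent.Lib.Helper84ODeciso
  Cfsg.Agent.Lib.Helper98AschGDefs Cfsg.Agent.Lib.Helper97OCliff Cfsg.Agent.Lib.Helper95OFrame3

/-- Every maximal subgroup of Ω_12^+(q) is of one of the listed geometric types or lies in the residual class. Let F be a finite field with q elements (characteristic p), Q a non-degenerate quadratic form on F^12 of plus type (Witt index 6: some totally singular 6-space), Ω the commutator subgroup of its isometry group, and H a maximal subgroup of Ω (inside GL_12(F)). Then H is the intersection with Ω of one of: the stabiliser of a non-zero totally singular subspace of dimension ≠ 5; for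 q odd, the stabiliser of a non-degenerate subspace of odd dimension; the stabiliser of a non-degenerate 2-space of minus type; for q ≥ 4, the stabiliser of a non-degenerate 2-space of plus type; the stabiliser of a non-degenerate 4-space; for q even, the stabiliser of the span of a non-singular vector; for q = p an odd prime, the stabiliser of a decomposition into 12 pairwise orthogonal, pairwise isometric non-degenerate 1-spaces; for q ≥ 7, the stabiliser of a decomposition into 6 pairwise orthogonal, pairwise isometric non-degenerate 2-spaces of plus type; for q ≠ 3, the stabiliser of a decomposition into 6 pairwise orthogonal, pairwise isometric non-degenerate 2-spaces of minus type; for q odd with q ≥ 5, the stabiliser of a decomposition into 4 pairwise orthogonal, pairwise isometric non-degenerate 3-spaces; for q ≥ 3, the stabiliser of a decomposition into 3 pairwise orthogonal, pairwise isometric non-degenerate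 4-spaces; the stabiliser of a decomposition into 2 pairwise orthogonal, pairwise isometric non-degenerate 6-spaces; of a decomposition into two totally singular 6-spaces; the normaliser of a degree-2 subfield of the matrix algebra; the normaliser of a degree-3 subfield of the matrix algebra; the normaliser of a degree-2 subfield K, adjoint-closed but not self-adjoint, acting by similarities of Q; for q ≥ 3, the stabiliser of a tensor decomposition of Q into alternating forms on F^2 and F^6 (Q vanishing on pure tensors); a subfield group (|F| = |F₀|^r, r prime) whose F₀-structure carries a non-zero multiple of Q — or else H lies in the residual class of the orthogonal case (modulo scalars H is almost simple, with absolutely irreducible perfect socle preimage realisable over no proper subfield and fixing no non-degenerate unitary form). -/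
theorem result {F : Type*} [Field F] [Fintype F] (Q : (Fin 12 → F) → F) (hQ : Cfsg.Geo.IsNondegenerateQuadraticForm Q) (hplus : Cfsg.Geo.IsPlusTypeOn Q ⊤) (H : Subgroup (Matrix.GeneralLinearGroup (Fin 12) F)) (hH : Cfsg.Geo.IsMaximalIn (Cfsg.Geo.omegaGL Q) H) :
    (∃ W : Submodule F (Fin 12 → F), W ≠ ⊥ ∧ Cfsg.Geo.IsTotallySingularQuad Q W ∧ Module.finrank F W ≠ 5 ∧ H = Cfsg.Geo.subspaceStabilizer W ⊓ Cfsg.Geo.omegaGL Q) ∨
    (Odd (Fintype.card F) ∧ ∃ W : Submodule F (Fin 12 → F), W ≠ ⊥ ∧ W ≠ ⊤ ∧ Odd (Module.finrank F W) ∧ 2 * Module.finrank F W ≠ 12 ∧ Cfsg.Geo.IsNondegenerateOn (QuadraticMap.polar Q) W ∧ H = Cfsg.Geo.subspaceStabilizer W ⊓ Cfsg.Geo.omegaGL Q) ∨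
    (∃ W : Submodule F (Fin 12 → F), Module.finrank F W = 2 ∧ Cfsg.Geo.IsNondegenerateOn (QuadraticMap.polar Q) W ∧ ¬ Cfsg.Geo.IsPlusTypeOn Q W ∧ H = Cfsg.Geo.subspaceStabilizer W ⊓ Cfsg.Geo.omegaGL Q) ∨
    (4 ≤ Fintype.card F ∧ ∃ W : Submodule F (Fin 12 → F), Module.finrank F W = 2 ∧ Cfsg.Geo.IsNondegenerateOn (QuadraticMap.polar Q) W ∧ Cfsg.Geo.IsPlusTypeOn Q W ∧ H = Cfsg.Geo.subspaceStabilizer W ⊓ Cfsg.Geo.omegaGL Q) ∨
    (∃ W : Submodule F (Fin 12 → F), Module.finrank F W = 4 ∧ Cfsg.Geo.IsNondegenerateOn (QuadraticMap.polar Q) W ∧ H = Cfsg.Geo.subspaceStabilizer W ⊓ Cfsg.Geo.omegaGL Q) ∨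
    (¬ Odd (Fintype.card F) ∧ ∃ v : (Fin 12 → F), Q v ≠ 0 ∧ H = Cfsg.Geo.subspaceStabilizer (Submodule.span F {v}) ⊓ Cfsg.Geo.omegaGL Q) ∨
    ((∃ p : ℕ, p.Prime ∧ Odd p ∧ Fintype.card F = p) ∧ ∃ D : Fin 12 → Submodule F (Fin 12 → F), Cfsg.Geo.IsOrthogonalMDecomposition Q 1 D ∧ H = Cfsg.Geo.decompositionStabilizer D ⊓ Cfsg.Geo.omegaGL Q) ∨
    (7 ≤ Fintype.card F ∧ ∃ D : Fin 6 → Submodule F (Fin 12 → F), Cfsg.Geo.IsOrthogonalMDecomposition Q 2 D ∧ (∀ i, Cfsg.Geo.IsPlusTypeOn Q (D i)) ∧ H = Cfsg.Geo.decompositionStabilizer D ⊓ Cfsg.Geo.omegaGL Q) ∨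
    (Fintype.card F ≠ 3 ∧ ∃ D : Fin 6 → Submodule F (Fin 12 → F), Cfsg.Geo.IsOrthogonalMDecomposition Q 2 D ∧ (∀ i, ¬ Cfsg.Geo.IsPlusTypeOn Q (D i)) ∧ H = Cfsg.Geo.decompositionStabilizer D ⊓ Cfsg.Geo.omegaGL Q) ∨
    (Odd (Fintype.card F) ∧ 5 ≤ Fintype.card F ∧ ∃ D : Fin 4 → Submodule F (Fin 12 → F), Cfsg.Geo.IsOrthogonalMDecomposition Q 3 D ∧ H = Cfsg.Geo.decompositionStabilizer D ⊓ Cfsg.Geo.omegaGL Q) ∨
    (3 ≤ Fintype.card F ∧ ∃ D : Fin 3 → Submodule F (Fin 12 → F), Cfsg.Geo.IsOrthogonalMDecomposition Q 4 D ∧ H = Cfsg.Geo.decompositionStabilizer D ⊓ Cfsg.Geo.omegaGL Q) ∨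
    (∃ D : Fin 2 → Submodule F (Fin 12 → F), Cfsg.Geo.IsOrthogonalMDecomposition Q 6 D ∧ H = Cfsg.Geo.decompositionStabilizer D ⊓ Cfsg.Geo.omegaGL Q) ∨
    (∃ D : Fin 2 → Submodule F (Fin 12 → F), Cfsg.Geo.IsMDecomposition 6 D ∧ (∀ i, Cfsg.Geo.IsTotallySingularQuad Q (D i)) ∧ H = Cfsg.Geo.decompositionStabilizer D ⊓ Cfsg.Geo.omegaGL Q) ∨
    (∃ K : Subalgebra F (Matrix (Fin 12) (Fin 12) F), Cfsg.Geo.IsFieldSubalgebra 2 K ∧ H = Cfsg.Geo.subalgebraNormalizer K ⊓ Cfsg.Geo.omegaGL Q) ∨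
    (∃ K : Subalgebra F (Matrix (Fin 12) (Fin 12) F), Cfsg.Geo.IsFieldSubalgebra 3 K ∧ H = Cfsg.Geo.subalgebraNormalizer K ⊓ Cfsg.Geo.omegaGL Q) ∨
    (∃ K : Subalgebra F (Matrix (Fin 12) (Fin 12) F), Cfsg.Geo.IsFieldSubalgebra 2 K ∧ Cfsg.Geo.IsAdjointClosedFor (QuadraticMap.polar Q) K ∧ ¬ Cfsg.Geo.IsSelfAdjointFor (QuadraticMap.polar Q) K ∧ (∀ k ∈ K, ∃ c : F, ∀ v : (Fin 12 → F), Q (Matrix.mulVec k v) = c * Q v) ∧ H = Cfsg.Geo.subalgebraNormalizer K ⊓ Cfsg.Geo.omegaGL Q) ∨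
    (3 ≤ Fintype.card F ∧ ∃ (e : Fin 12 ≃ Fin 2 × Fin 6) (P : Matrix.GeneralLinearGroup (Fin 12) F) (f₁ : (Fin 2 → F) → (Fin 2 → F) → F) (f₂ : (Fin 6 → F) → (Fin 6 → F) → F), Cfsg.Geo.IsSymplecticForm f₁ ∧ Cfsg.Geo.IsSymplecticForm f₂ ∧ Cfsg.Geo.IsTensorFormStructure id (QuadraticMap.polar Q) f₁ f₂ e P ∧ (∀ (x₁ : Fin 2 → F) (x₂ : Fin 6 → F), Q (Matrix.mulVec (P : Matrix (Fin 12) (Fin 12) F) ((fun a : Fin 2 × Fin 6 => x₁ a.1 * x₂ a.2) ∘ e)) = 0) ∧ H = Cfsg.Geo.tensorProductSubgroup 2 6 e P ⊓ Cfsg.Geo.omegaGL Q) ∨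
    (∃ (F₀ : Subfield F) (r : ℕ) (P : Matrix.GeneralLinearGroup (Fin 12) F) (ζ : F), r.Prime ∧ Fintype.card F = Nat.card F₀ ^ r ∧ ζ ≠ 0 ∧ Cfsg.Geo.IsQuadFormRationalStructure (fun v : Fin 12 → F => ζ * Q v) F₀ P ∧ H = Cfsg.Geo.subfieldSubgroup F₀ P ⊓ Cfsg.Geo.omegaGL Q) ∨
    Cfsg.Geo.InOrthogonalResidualClass H := by
  generalize hgoal : (_ ∨ _ : Prop) = goal
  have hcard : Fintype.card (Fin 12) = 12 := Fintype.card_fin 12
  have h7 : 7 ≤ Fintype.card (Fin 12) := by omega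
  have hl : Fintype.card (Fin 12) = 2 * 6 := by omega
  have hHI : H ≤ isometryGroup F Q := hH.1.le.trans omega_le_iso
  have hsym : IsSymmetricForm (QuadraticMap.polar Q) := symm_polar hQ
  have hfix : FixesForm (matrixSet H) (QuadraticMap.polar Q) := fixes_polar hHI
  have hq1 : 1 < Fintype.card F := Fintype.one_lt_card
  have stab : ∀ W : Submodule F (Fin 12 → F), W ≠ ⊥ → W ≠ ⊤ → H ≤ subspaceStabilizer W →
      H = subspaceStabilizer W ⊓ omegaGL Q := fun W h0 h1 hle =>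
    eq_inf_of_le'' hH hle (not_le_stab_all hQ h7 h0 h1)
  have ts_ne_top : ∀ W : Submodule F (Fin 12 → F), IsTotallySingularQuad Q W → W ≠ ⊤ := by
    rintro W hW rfl
    obtain ⟨a, -, ha⟩ := exists_nonsingular hQ (W := ⊤) (by
      intro h
      have h1 : Module.finrank F (⊤ : Submodule F (Fin 12 → F)) = 0 := by rw [h, finrank_bot]
      rw [finrank_top, finrank_fun] at h1
      omega) (fun w _ hw => ⟨(hQ.nondegenerate w hw).1.imp fun x hx => ⟨trivial, hx⟩,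
        (hQ.nondegenerate w hw).2.imp fun x hx => ⟨trivial, hx⟩⟩)
    exact ha (hW a trivial)
  have odd_of_nd : ∀ W : Submodule F (Fin 12 → F), IsNondegenerateOn (QuadraticMap.polar Q) W →
      Odd (Module.finrank F W) → Odd (Fintype.card F) := by
    intro W hW hodd
    by_contra hq
    have := even_finrank_of_nondeg (two_eq_zero_of_not_odd hq) hQ hW
    exact (Nat.not_even_iff_odd.2 hodd) this
  by_cases hirr : ActsIrreducibly (matrixSet H)
  swap
  · rw [← hgoal]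
    rcases o_reducible hQ hHI hirr with ⟨W, h0, hW, hle⟩ | h | ⟨h2, v, hv, hle⟩
    · by_cases h5 : Module.finrank F W = 5
      · obtain ⟨U, hU, hU6, hleU⟩ := stab_submax hQ (by omega) hl hplus hH.1.le hW (by omega) hle
        have hU0 : U ≠ ⊥ := by
          rintro rfl
          rw [finrank_bot] at hU6
          omega
        exact Or.inl ⟨U, hU0, hU, by omega, stab U hU0 (ts_ne_top U hU) hleU⟩
      · exact Or.inl ⟨W, h0, hW, h5, stab W h0 (ts_ne_top W hW) hle⟩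
    swap
    · exact Or.inr (Or.inr (Or.inr (Or.inr (Or.inr (Or.inl (⟨not_odd_of_two_eq_zero h2, v, hv, stab _ (span_ne_bot hQ hv) (span_ne_top hQ (by omega) hv) hle⟩))))))
    obtain ⟨W₀, h0₀, h1₀, hW₀, hle₀⟩ := h
    obtain ⟨W, h0, h1, hW, hle, hdim⟩ := nd_small hQ hHI h0₀ h1₀ hW₀ hle₀
    have hpos : 0 < Module.finrank F W := Module.finrank_pos_iff_exists_ne_zero.2 (by
      obtain ⟨w, hw, hw0⟩ := Submodule.exists_mem_ne_zero_of_ne_bot h0
      exact ⟨⟨w, hw⟩, fun h => hw0 (congrArg Subtype.val h)⟩)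
    by_cases hodd : Odd (Module.finrank F W)
    · exact Or.inr (Or.inl ⟨odd_of_nd W hW hodd, W, h0, h1, hodd, by obtain ⟨j, hj⟩ := hodd; omega, hW,
        stab W h0 h1 hle⟩)
    rw [Nat.not_odd_iff_even] at hodd
    obtain ⟨j, hj⟩ := hodd
    obtain hfr | hfr | hfr : Module.finrank F W = 2 ∨ Module.finrank F W = 4 ∨
      Module.finrank F W = 6 := by omega
    · rcases plane_cases hQ h7 hH hfr hW hle with h | h | ⟨hq, W', h0', h1', hfr', hW', heq⟩ | h
      · exact Or.inr (Or.inr (Or.inl (h)))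
      · exact Or.inr (Or.inr (Or.inr (Or.inl (h))))
      · exact Or.inr (Or.inl ⟨hq, W', h0', h1', by rw [hfr']; exact ⟨0, rfl⟩, by omega, hW', heq⟩)
      · exact Or.inr (Or.inr (Or.inr (Or.inr (Or.inr (Or.inl (h))))))
    · exact Or.inr (Or.inr (Or.inr (Or.inr (Or.inl (⟨W, hfr, hW, stab W h0 h1 hle⟩)))))
    · obtain ⟨D, -, hD, hle', hiso⟩ := two_dec hQ hHI hW (by omega) hfr hl hle
      exact Or.inr (Or.inr (Or.inr (Or.inr (Or.inr (Or.inr (Or.inr (Or.inr (Or.inr (Or.inr (Or.inr (Or.inl (⟨D, hiso (halves_iso hQ hplus hD ⟨3, rfl⟩), eq_inf_of_le'' hH hle' (not_le_decomp_all hQ h7 (by omega) D hD)⟩))))))))))))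
  have hinvirr : ∀ W : Submodule F (Fin 12 → F), W ≠ ⊥ → W ≠ ⊤ → ¬ H ≤ subspaceStabilizer W := by
    intro W h0 h1 hle
    rcases hirr W (fun s hs => by
      obtain ⟨g, hg, rfl⟩ := hs
      rintro _ ⟨w, hw, rfl⟩
      rw [Matrix.toLin'_apply]
      exact inv_of_le hle g hg w hw) with h | h
    · exact h0 h
    · exact h1 h
  -- subfields
  have subCase : OSubZ Q H → goal := by
    rintro ⟨F₀, r, P, ζ, hr, hc, hζ, hrat, hle⟩
    rw [← hgoal]
    exact Or.inr (Or.inr (Or.inr (Or.inr (Or.inr (Or.inr (Or.inr (Or.inr (Or.inr (Or.inr (Or.inr (Or.inr (Or.inr (Or.inr (Or.inr (Or.inr (Or.inr (Or.inl (⟨F₀, r, P, ζ, hr, hc, hζ, hrat, eq_inf_of_le'' hH hle (not_le_subfield_all hQ h7 (subfield_ne_top_of_card hr hc) P)⟩))))))))))))))))))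
  -- lines
  have linesCase : ODecOne Q H → goal := by
    intro hD1
    by_cases hp : (Fintype.card F).Prime
    swap
    · exact subCase (sub_of_lines hQ hHI hD1 hp)
    obtain ⟨t, D, hD, hle⟩ := hD1
    rw [← hgoal]
    have hcd := decomp_card D hD.decomp.decomp
    obtain rfl : t = 12 := by omega
    have hodd : Odd (Fintype.card F) := odd_of_nd (D 0) (hD.decomp.nondegenerate 0) (by
      rw [hD.decomp.decomp.finrank_eq]; exact ⟨0, rfl⟩)
    have h2 := two_ne_zero_of_odd hodd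
    exact Or.inr (Or.inr (Or.inr (Or.inr (Or.inr (Or.inr (Or.inl (⟨⟨Fintype.card F, hp, hodd, rfl⟩, D, hD, eq_inf_of_le'' hH hle (not_le_decomp hQ h2 (by omega) D hD)⟩)))))))
  -- anisotropic planes
  have minusPlanes : ∀ D : Fin 6 → Submodule F (Fin 12 → F), IsOrthogonalMDecomposition Q 2 D →
      (∀ i, ¬ IsPlusTypeOn Q (D i)) → H ≤ decompositionStabilizer D → goal := by
    intro D hD hm hle
    by_cases hq3 : Fintype.card F = 3
    · exact linesCase (planes_three_minus hq3 hQ hHI D hD hm hle)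
    · rw [← hgoal]
      exact Or.inr (Or.inr (Or.inr (Or.inr (Or.inr (Or.inr (Or.inr (Or.inr (Or.inl (⟨hq3, D, hD, hm, eq_inf_of_le'' hH hle (not_le_decomp_all hQ h7 (by omega) D hD.decomp)⟩)))))))))
  -- decompositions
  have decCase : ODec Q H → goal := by
    rintro ⟨t, k, D, hD, hle⟩
    have hcd := decomp_card D hD.decomp.decomp
    have ht2 := hD.decomp.decomp.two_le
    rw [hcard] at hcd
    obtain ⟨rfl, rfl⟩ | ⟨rfl, rfl⟩ | ⟨rfl, rfl⟩ | ⟨rfl, rfl⟩ | ⟨rfl, rfl⟩ :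
        (t = 12 ∧ k = 1) ∨ (t = 6 ∧ k = 2) ∨ (t = 4 ∧ k = 3) ∨ (t = 3 ∧ k = 4) ∨ (t = 2 ∧ k = 6) := by
      have ht12 : t ∣ 12 := ⟨k, hcd⟩
      have hle12 : t ≤ 12 := Nat.le_of_dvd (by omega) ht12
      interval_cases t <;> omega
    · exact linesCase ⟨12, D, hD, hle⟩
    · by_cases hp0 : IsPlusTypeOn Q (D 0)
      · have hp : ∀ i, IsPlusTypeOn Q (D i) := fun i => plus_of_isometric (hD.isometric 0 i) hp0
        have hq7 : 7 ≤ Fintype.card F := by
          by_contra hq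
          exact planes_small_false hQ hH (by omega) D hD (Or.inr hp) (by omega) hle
        rw [← hgoal]
        exact Or.inr (Or.inr (Or.inr (Or.inr (Or.inr (Or.inr (Or.inr (Or.inl (⟨by omega, D, hD, hp, eq_inf_of_le'' hH hle (not_le_decomp_all hQ h7 (by omega) D hD.decomp)⟩))))))))
      · exact minusPlanes D hD (fun i hi => hp0 (plus_of_isometric (hD.isometric i 0) hi)) hle
    · have hodd : Odd (Fintype.card F) := odd_of_nd (D 0) (hD.decomp.nondegenerate 0) (by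
        rw [hD.decomp.decomp.finrank_eq]; exact ⟨1, rfl⟩)
      by_cases hq3 : Fintype.card F = 3
      · exact linesCase (frame_three hq3 hQ hHI D hD hle)
      · rw [← hgoal]
        exact Or.inr (Or.inr (Or.inr (Or.inr (Or.inr (Or.inr (Or.inr (Or.inr (Or.inr (Or.inl (⟨hodd, by obtain ⟨j, hj⟩ := hodd; omega, D, hD, eq_inf_of_le'' hH hle (not_le_decomp_all hQ h7 (by omega) D hD.decomp)⟩))))))))))
    · by_cases hq2 : Fintype.card F = 2
      · exact (blocks_four_two_false hq2 hQ hH (by omega) D hD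
          (block_plus_of_odd hQ hD ⟨1, rfl⟩ ⟨2, rfl⟩ hplus) hle).elim
      · rw [← hgoal]
        exact Or.inr (Or.inr (Or.inr (Or.inr (Or.inr (Or.inr (Or.inr (Or.inr (Or.inr (Or.inr (Or.inl (⟨by omega, D, hD, eq_inf_of_le'' hH hle (not_le_decomp_all hQ h7 (by omega) D hD.decomp)⟩)))))))))))
    · rw [← hgoal]
      exact Or.inr (Or.inr (Or.inr (Or.inr (Or.inr (Or.inr (Or.inr (Or.inr (Or.inr (Or.inr (Or.inr (Or.inl (⟨D, hD, eq_inf_of_le'' hH hle (not_le_decomp_all hQ h7 (by omega) D hD.decomp)⟩))))))))))))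
  have pairCase : OPair Q H → goal := by
    rintro ⟨k, D, hD, hTS, hle⟩
    have hcd := decomp_card D hD
    obtain rfl : k = 6 := by omega
    rw [← hgoal]
    exact Or.inr (Or.inr (Or.inr (Or.inr (Or.inr (Or.inr (Or.inr (Or.inr (Or.inr (Or.inr (Or.inr (Or.inr (Or.inl (⟨D, hD, hTS, eq_inf_of_le'' hH hle (not_le_pair hQ (by omega) hD hTS)⟩)))))))))))))
  -- fields of degree 2
  have field2 : ∀ K : Subalgebra F (Matrix (Fin 12) (Fin 12) F), IsFieldSubalgebra 2 K →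
      H ≤ subalgebraNormalizer K → goal := by
    intro K hK hle
    rw [← hgoal]
    exact Or.inr (Or.inr (Or.inr (Or.inr (Or.inr (Or.inr (Or.inr (Or.inr (Or.inr (Or.inr (Or.inr (Or.inr (Or.inr (Or.inl (⟨K, hK, eq_inf_of_le'' hH hle (not_le_field_all hQ h7 (by omega) K hK)⟩))))))))))))))
  -- commutative algebras of even dimension
  have commCase : ∀ C : Subalgebra F (Matrix (Fin 12) (Fin 12) F), NzA H C →
      (∀ x ∈ C, ∀ y ∈ C, x * y = y * x) → IsAdjointClosedFor (QuadraticMap.polar Q) C →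
      2 ∣ Module.finrank F C → goal := by
    intro C hC hcomm hadj hdvd
    rcases o_comm hsym hfix hirr hC hcomm hadj with hinv | hdec | hpair
    · obtain ⟨K', hK', hadj', hle'⟩ := o_field_prime hsym hC hcomm hinv hadj Nat.prime_two hdvd
      exact field2 K' hK' hle'
    · exact decCase (odec_of_altDec hHI hirr hdec)
    · exact pairCase (o_pair (by omega) hQ hHI hirr hpair)
  -- the symplectic tensor decomposition
  have tensAlt : ∀ (e : Fin 12 ≃ Fin 2 × Fin 6) (P : Matrix.GeneralLinearGroup (Fin 12) F)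
      (G₁ : Matrix (Fin 2) (Fin 2) F) (G₂ : Matrix (Fin 6) (Fin 6) F), IsUnit G₁.det → IsUnit G₂.det →
      (∀ x y : Fin 2 × Fin 6 → F, QuadraticMap.polar Q (Matrix.mulVec (P : Matrix (Fin 12) (Fin 12) F) (x ∘ e))
        (Matrix.mulVec (P : Matrix (Fin 12) (Fin 12) F) (y ∘ e)) =
          formOfGram id (Matrix.kroneckerMap (· * ·) G₁ G₂) x y) →
      H ≤ tensorProductSubgroup 2 6 e P → G₁.transpose = -G₁ → G₂.transpose = -G₂ →
      (∀ i, G₁ i i = 0) → (∀ i, G₂ i i = 0) →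
      (∀ (x₁ : Fin 2 → F) (x₂ : Fin 6 → F), Q (Matrix.mulVec (P : Matrix (Fin 12) (Fin 12) F)
        ((fun a : Fin 2 × Fin 6 => x₁ a.1 * x₂ a.2) ∘ e)) = 0) → goal := by
    intro e P G₁ G₂ h₁ h₂ hG hle hs₁ hs₂ hd₁ hd₂ hpure
    by_cases hq2 : Fintype.card F = 2
    · obtain ⟨K, hK, hleK⟩ := tens_two_field hq2 (by omega) e P hle
      exact field2 K hK hleK
    rw [← hgoal]
    have hstr : IsTensorFormStructure id (QuadraticMap.polar Q) (formOfGram id G₁) (formOfGram id G₂)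
        e P := ⟨1, one_ne_zero, fun x y => by
      rw [hG, gramMatrix_formOfGram, gramMatrix_formOfGram, one_mul]⟩
    exact Or.inr (Or.inr (Or.inr (Or.inr (Or.inr (Or.inr (Or.inr (Or.inr (Or.inr (Or.inr (Or.inr (Or.inr (Or.inr (Or.inr (Or.inr (Or.inr (Or.inl (⟨by omega, e, P, formOfGram id G₁, formOfGram id G₂, formOfGram_symplectic_alt G₁ h₁ hs₁ hd₁, formOfGram_symplectic_alt G₂ h₂ hs₂ hd₂, hstr, hpure, eq_inf_of_le'' hH hle (not_le_tensor_pure hQ h7 (by omega) (by omega) e P hpure)⟩)))))))))))))))))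
  have diag_of_skew : (2 : F) ≠ 0 → ∀ {n : ℕ} (G : Matrix (Fin n) (Fin n) F), G.transpose = -G →
      ∀ i, G i i = 0 := by
    intro h2 n G hs i
    have h := congrFun (congrFun hs i) i
    simp only [Matrix.transpose_apply, Matrix.neg_apply] at h
    have h' : (2 : F) * G i i = 0 := by
      rw [two_mul]
      nth_rewrite 1 [h]
      exact neg_add_cancel _
    exact (mul_eq_zero.1 h').resolve_left h2
  have neg_of_two : (2 : F) = 0 → ∀ {n : ℕ} (G : Matrix (Fin n) (Fin n) F), G = -G := by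
    intro h2 n G
    ext i j
    have : G i j + G i j = 0 := by rw [← two_mul, h2, zero_mul]
    simpa using eq_neg_of_add_eq_zero_left this
  have t26 : ∀ (e : Fin 12 ≃ Fin 2 × Fin 6) (P : Matrix.GeneralLinearGroup (Fin 12) F)
      (G₁ : Matrix (Fin 2) (Fin 2) F) (G₂ : Matrix (Fin 6) (Fin 6) F), IsUnit G₁.det → IsUnit G₂.det →
      (∀ x y : Fin 2 × Fin 6 → F, QuadraticMap.polar Q (Matrix.mulVec (P : Matrix (Fin 12) (Fin 12) F) (x ∘ e))
        (Matrix.mulVec (P : Matrix (Fin 12) (Fin 12) F) (y ∘ e)) =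
          formOfGram id (Matrix.kroneckerMap (· * ·) G₁ G₂) x y) →
      H ≤ tensorProductSubgroup 2 6 e P → goal := by
    intro e P G₁ G₂ h₁ h₂ hG hle
    by_cases h2 : (2 : F) = 0
    · obtain ⟨hs₁, hs₂, hd₁, hd₂, hpure⟩ :=
        tens_char_two h2 hQ hHI hirr (by omega) (by omega) e P G₁ G₂ h₁ h₂ hG hle
      exact tensAlt e P G₁ G₂ h₁ h₂ hG hle (hs₁.trans (neg_of_two h2 G₁)) (hs₂.trans (neg_of_two h2 G₂))
        hd₁ hd₂ hpure
    rcases tens_form_symm hsym.symm e P G₁ G₂ h₁ h₂ hG with ⟨hs₁, hs₂⟩ | ⟨hs₁, hs₂⟩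
    · obtain ⟨C, hC, hCc, hCa, hCf⟩ := tens_two_sym h2 hQ hHI (by omega) e P G₁ G₂ h₁ h₂ hG hs₁ hle
      exact commCase C hC hCc hCa ⟨1, by omega⟩
    · exact tensAlt e P G₁ G₂ h₁ h₂ hG hle hs₁ hs₂ (diag_of_skew h2 G₁ hs₁) (diag_of_skew h2 G₂ hs₂)
        (pure_zero_of_skew h2 hQ e P G₁ G₂ hG hs₁)
  have t34 : ∀ (e : Fin 12 ≃ Fin 3 × Fin 4) (P : Matrix.GeneralLinearGroup (Fin 12) F)
      (G₁ : Matrix (Fin 3) (Fin 3) F) (G₂ : Matrix (Fin 4) (Fin 4) F), IsUnit G₁.det → IsUnit G₂.det →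
      (∀ x y : Fin 3 × Fin 4 → F, QuadraticMap.polar Q (Matrix.mulVec (P : Matrix (Fin 12) (Fin 12) F) (x ∘ e))
        (Matrix.mulVec (P : Matrix (Fin 12) (Fin 12) F) (y ∘ e)) =
          formOfGram id (Matrix.kroneckerMap (· * ·) G₁ G₂) x y) →
      H ≤ tensorProductSubgroup 3 4 e P → goal := by
    intro e P G₁ G₂ h₁ h₂ hG hle
    by_cases h2 : (2 : F) = 0
    · exfalso
      obtain ⟨hs₁, -, hd₁, -, -⟩ :=
        tens_char_two h2 hQ hHI hirr (by omega) (by omega) e P G₁ G₂ h₁ h₂ hG hle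
      exact not_alt_of_odd ⟨1, rfl⟩ G₁ (hs₁.trans (neg_of_two h2 G₁)) hd₁ h₁
    obtain ⟨hs₁, hs₂⟩ : G₁.transpose = G₁ ∧ G₂.transpose = G₂ := by
      rcases tens_form_symm hsym.symm e P G₁ G₂ h₁ h₂ hG with h | h
      · exact h
      · exact absurd h.1 (not_skew_of_odd h2 ⟨1, rfl⟩ G₁ h₁)
    obtain ⟨e', P', G₁', G₂', h₁', h₂', hs₁', hs₂', hG', hle'⟩ :=
      tens_three_four_plus h2 hQ hH.1.le e P G₁ G₂ h₁ h₂ hG hs₁ hs₂ hle hplus
    exact tensAlt e' P' G₁' G₂' h₁' h₂' hG' hle' hs₁' hs₂' (diag_of_skew h2 G₁' hs₁')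
      (diag_of_skew h2 G₂' hs₂') (pure_zero_of_skew h2 hQ e' P' G₁' G₂' hG' hs₁')
  rcases o_main_gen (by omega) hQ hHI with h | h
  swap
  · rw [← hgoal]
    exact Or.inr (Or.inr (Or.inr (Or.inr (Or.inr (Or.inr (Or.inr (Or.inr (Or.inr (Or.inr (Or.inr (Or.inr (Or.inr (Or.inr (Or.inr (Or.inr (Or.inr (Or.inr (h))))))))))))))))))
  rcases h with ⟨W, h0, hW, hle⟩ | ⟨W, h0, h1, hW, hle⟩ | ⟨h2, v, hv, hle⟩ | h | h |
    ⟨r, K, hr, hK, hadj, hle⟩ | ⟨d, s, e, P, G₁, G₂, hd, hs, h₁, h₂, hG, hle⟩ |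
    ⟨N, hNH, hnorm, hNs, hcomm, habs, hmin⟩ |
    ⟨k, m, e, P, G, T, hh, hm, hk, hGu, hG, hle, hTH, hTperf, hTs, hmem⟩ | h
  · exact absurd hle (hinvirr W h0 (ts_ne_top W hW))
  · exact absurd hle (hinvirr W h0 h1)
  · exact absurd hle (hinvirr _ (span_ne_bot hQ hv) (span_ne_top hQ (by omega) hv))
  · exact decCase h
  · exact pairCase h
  · -- fields
    have hdvd := field_dvd K hK
    rw [hcard] at hdvd
    obtain rfl | rfl : r = 2 ∨ r = 3 := by
      have : r ∣ 2 ^ 2 * 3 := by norm_num; exact hdvd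
      rcases (Nat.Prime.dvd_mul hr).1 this with h | h
      · exact Or.inl ((Nat.prime_dvd_prime_iff_eq hr Nat.prime_two).1 (hr.dvd_of_dvd_pow h))
      · exact Or.inr ((Nat.prime_dvd_prime_iff_eq hr Nat.prime_three).1 h)
    · exact field2 K hK hle
    · rw [← hgoal]
      exact Or.inr (Or.inr (Or.inr (Or.inr (Or.inr (Or.inr (Or.inr (Or.inr (Or.inr (Or.inr (Or.inr (Or.inr (Or.inr (Or.inr (Or.inl (⟨K, hK, eq_inf_of_le'' hH hle (not_le_field_all hQ h7 (by omega) K hK)⟩)))))))))))))))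
  · -- tensor products
    have hds := Fintype.card_congr e
    rw [hcard] at hds
    simp at hds
    obtain ⟨rfl, rfl⟩ | ⟨rfl, rfl⟩ | ⟨rfl, rfl⟩ | ⟨rfl, rfl⟩ :
        (d = 2 ∧ s = 6) ∨ (d = 6 ∧ s = 2) ∨ (d = 3 ∧ s = 4) ∨ (d = 4 ∧ s = 3) := by
      have hd12 : d ∣ 12 := ⟨s, hds⟩
      have hle12 : d ≤ 12 := Nat.le_of_dvd (by omega) hd12
      interval_cases d <;> omega
    · exact t26 e P G₁ G₂ h₁ h₂ hG hle
    · obtain ⟨e', hle', hG'⟩ := tens_form_swap e P hle G₁ G₂ hG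
      exact t26 e' P G₂ G₁ h₂ h₁ hG' hle'
    · exact t34 e P G₁ G₂ h₁ h₂ hG hle
    · obtain ⟨e', hle', hG'⟩ := tens_form_swap e P hle G₁ G₂ hG
      exact t34 e' P G₂ G₁ h₂ h₁ hG' hle'
  · -- class 6
    exfalso
    obtain ⟨j, hj⟩ := c6_pow_two hQ (hNH.trans hHI) hcomm habs
    rw [hcard] at hj
    have hj4 : j < 4 := by
      by_contra hcon
      have : 2 ^ 4 ≤ 2 ^ j := Nat.pow_le_pow_right (by omega) (by omega)
      omega
    interval_cases j <;> omega
  · -- tensor powers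
    exfalso
    have hkm := Fintype.card_congr e
    rw [hcard] at hkm
    simp at hkm
    have hm3 : m ≤ 3 := by
      by_contra hcon
      have : 4 ^ 2 ≤ m ^ k :=
        (Nat.pow_le_pow_left (by omega) 2).trans (Nat.pow_le_pow_right (by omega) hk)
      omega
    have hk3 : k ≤ 3 := by
      by_contra hcon
      have : 2 ^ 4 ≤ m ^ k :=
        (Nat.pow_le_pow_left hm 4).trans (Nat.pow_le_pow_right (by omega) (by omega))
      omega
    interval_cases m <;> interval_cases k <;> omega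
  · exact subCase h

end Cfsg.Agent.S5871
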