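import Cfsg.Statements.S5874
import Cfsg.Agent.Lib.Helper58AschH

set_option autoImplicit false
open Cfsg

namespace Cfsg.Agent.S5874

open Cfsg.Geo Cfsg.Agent.Lib.Helper58ODefs Cfsg.Agent.Lib.Helper58EDefs Cfsg.Agent.Lib.Helper97OBase
  Cfsg.Agent.Lib.Helper97OMain Cfsg.Agent.Lib.Helper97OProper Cfsg.Agent.Lib.Helper97GBase
  Cfsg.Agent.Lib.Helper97GSubfield Cfsg.Agent.Lib.Helper58GD Cfsg.Agent.Lib.Helper63OTens
  Cfsg.Agent.Lib.Helper58EMain Cfsg.Agent.Lib.Helper36ORed Cfsg.Agent.Lib.Helper58AschF Cfsg.Agent.Lib.Helper58AschG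
  Cfsg.Agent.Lib.Helper58AschH Cfsg.Agent.Lib.Helper12OTsymm Cfsg.Agent.Lib.Helper95SpTensodd
  Cfsg.Agent.Lib.Helper58OMain

/-- Every maximal subgroup of Ω_12^-(q) is of one of the listed geometric types or lies in the residual class. Let F be a finite field with q elements (characteristic p), Q a non-degenerate quadratic form on F^12 of minus type (Witt index 5: no totally singular 6-space), Ω the commutator subgroup of its isometry group, and H a maximal subgroup of Ω (inside GL_12(F)). Then H is the intersection with Ω of one of: the stabiliser of a non-zero totally singular subspace; for q odd, the stabiliser of a non-degenerate subspace of odd dimension; the stabiliser of a non-degenerate 2-space of minus type; for q ≥ 4, the stabiliser of a non-degenerate 2-space of plus type; the stabiliser of a non-degenerate 4-space; the stabiliser of a non-degenerate 6-space; for q even, the stabiliser of the span of a non-singular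 vector; the stabiliser of a decomposition into 3 pairwise orthogonal, pairwise isometric non-degenerate 4-spaces of minus type; the normaliser of a degree-2 subfield of the matrix algebra; the normaliser of a degree-3 subfield of the matrix algebra; for q odd with q ≥ 5, the stabiliser of a tensor decomposition of the polar form into symmetric forms on F^3 and F^4 (minus type); a subfield group (|F| = |F₀|^r, r odd prime) whose F₀-structure carries a non-zero multiple of Q — or else H lies in the residual class of the orthogonal case (modulo scalars H is almost simple, with absolutely irreducible perfect socle preimage realisable over no proper subfield and fixing no non-degenerate unitary form). -/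
theorem result {F : Type*} [Field F] [Fintype F] (Q : (Fin 12 → F) → F) (hQ : Cfsg.Geo.IsNondegenerateQuadraticForm Q) (hminus : ¬ Cfsg.Geo.IsPlusTypeOn Q ⊤) (H : Subgroup (Matrix.GeneralLinearGroup (Fin 12) F)) (hH : Cfsg.Geo.IsMaximalIn (Cfsg.Geo.omegaGL Q) H) :
    (∃ W : Submodule F (Fin 12 → F), W ≠ ⊥ ∧ Cfsg.Geo.IsTotallySingularQuad Q W ∧ H = Cfsg.Geo.subspaceStabilizer W ⊓ Cfsg.Geo.omegaGL Q) ∨
    (Odd (Fintype.card F) ∧ ∃ W : Submodule F (Fin 12 → F), W ≠ ⊥ ∧ W ≠ ⊤ ∧ Odd (Module.finrank F W) ∧ 2 * Module.finrank F W ≠ 12 ∧ Cfsg.Geo.IsNondegenerateOn (QuadraticMap.polar Q) W ∧ H = Cfsg.Geo.subspaceStabilizer W ⊓ Cfsg.Geo.omegaGL Q) ∨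
    (∃ W : Submodule F (Fin 12 → F), Module.finrank F W = 2 ∧ Cfsg.Geo.IsNondegenerateOn (QuadraticMap.polar Q) W ∧ ¬ Cfsg.Geo.IsPlusTypeOn Q W ∧ H = Cfsg.Geo.subspaceStabilizer W ⊓ Cfsg.Geo.omegaGL Q) ∨
    (4 ≤ Fintype.card F ∧ ∃ W : Submodule F (Fin 12 → F), Module.finrank F W = 2 ∧ Cfsg.Geo.IsNondegenerateOn (QuadraticMap.polar Q) W ∧ Cfsg.Geo.IsPlusTypeOn Q W ∧ H = Cfsg.Geo.subspaceStabilizer W ⊓ Cfsg.Geo.omegaGL Q) ∨
    (∃ W : Submodule F (Fin 12 → F), Module.finrank F W = 4 ∧ Cfsg.Geo.IsNondegenerateOn (QuadraticMap.polar Q) W ∧ H = Cfsg.Geo.subspaceStabilizer W ⊓ Cfsg.Geo.omegaGL Q) ∨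
    (∃ W : Submodule F (Fin 12 → F), Module.finrank F W = 6 ∧ Cfsg.Geo.IsNondegenerateOn (QuadraticMap.polar Q) W ∧ H = Cfsg.Geo.subspaceStabilizer W ⊓ Cfsg.Geo.omegaGL Q) ∨
    (¬ Odd (Fintype.card F) ∧ ∃ v : (Fin 12 → F), Q v ≠ 0 ∧ H = Cfsg.Geo.subspaceStabilizer (Submodule.span F {v}) ⊓ Cfsg.Geo.omegaGL Q) ∨
    (∃ D : Fin 3 → Submodule F (Fin 12 → F), Cfsg.Geo.IsOrthogonalMDecomposition Q 4 D ∧ (∀ i, ¬ Cfsg.Geo.IsPlusTypeOn Q (D i)) ∧ H = Cfsg.Geo.decompositionStabilizer D ⊓ Cfsg.Geo.omegaGL Q) ∨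
    (∃ K : Subalgebra F (Matrix (Fin 12) (Fin 12) F), Cfsg.Geo.IsFieldSubalgebra 2 K ∧ H = Cfsg.Geo.subalgebraNormalizer K ⊓ Cfsg.Geo.omegaGL Q) ∨
    (∃ K : Subalgebra F (Matrix (Fin 12) (Fin 12) F), Cfsg.Geo.IsFieldSubalgebra 3 K ∧ H = Cfsg.Geo.subalgebraNormalizer K ⊓ Cfsg.Geo.omegaGL Q) ∨
    (Odd (Fintype.card F) ∧ 5 ≤ Fintype.card F ∧ ∃ (e : Fin 12 ≃ Fin 3 × Fin 4) (P : Matrix.GeneralLinearGroup (Fin 12) F) (f₁ : (Fin 3 → F) → (Fin 3 → F) → F) (f₂ : (Fin 4 → F) → (Fin 4 → F) → F), Cfsg.Geo.IsSymmetricForm f₁ ∧ Cfsg.Geo.IsSymmetricForm f₂ ∧ ¬ Cfsg.Geo.IsPlusTypeOn (fun v : Fin 4 → F => f₂ v v) ⊤ ∧ Cfsg.Geo.IsTensorFormStructure id (QuadraticMap.polar Q) f₁ f₂ e P ∧ H = Cfsg.Geo.tensorProductSubgroup 3 4 e P ⊓ Cfsg.Geo.omegaGL Q) ∨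
    (∃ (F₀ : Subfield F) (r : ℕ) (P : Matrix.GeneralLinearGroup (Fin 12) F) (ζ : F), r.Prime ∧ Odd r ∧ Fintype.card F = Nat.card F₀ ^ r ∧ ζ ≠ 0 ∧ Cfsg.Geo.IsQuadFormRationalStructure (fun v : Fin 12 → F => ζ * Q v) F₀ P ∧ H = Cfsg.Geo.subfieldSubgroup F₀ P ⊓ Cfsg.Geo.omegaGL Q) ∨
    Cfsg.Geo.InOrthogonalResidualClass H := by
  have hcard : Fintype.card (Fin 12) = 12 := Fintype.card_fin 12
  have h7 : 7 ≤ Fintype.card (Fin 12) := by omega
  have hl : Fintype.card (Fin 12) = 2 * 6 := by omega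
  have hsq : IsSquare ((-1 : F) ^ 6) := ⟨1, by norm_num⟩
  have hHI : H ≤ isometryGroup F Q := hH.1.le.trans omega_le_iso
  have stab : ∀ W : Submodule F (Fin 12 → F), W ≠ ⊥ → W ≠ ⊤ → H ≤ subspaceStabilizer W →
      H = subspaceStabilizer W ⊓ omegaGL Q := fun W h0 h1 hle =>
    eq_inf_of_le'' hH hle (not_le_stab_all hQ h7 h0 h1)
  have ts_ne_top : ∀ W : Submodule F (Fin 12 → F), IsTotallySingularQuad Q W → W ≠ ⊤ := by
    rintro W hW rfl
    obtain ⟨a, -, ha⟩ := exists_nonsingular hQ (W := ⊤) (by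
      intro h
      have h1 : Module.finrank F (⊤ : Submodule F (Fin 12 → F)) = 0 := by rw [h, finrank_bot]
      rw [finrank_top, finrank_fun] at h1
      omega) (fun w _ hw => ⟨(hQ.nondegenerate w hw).1.imp fun x hx => ⟨trivial, hx⟩,
        (hQ.nondegenerate w hw).2.imp fun x hx => ⟨trivial, hx⟩⟩)
    exact ha (hW a trivial)
  -- the three reducible cases
  have cTS : OTS Q H → ∃ W : Submodule F (Fin 12 → F), W ≠ ⊥ ∧ IsTotallySingularQuad Q W ∧
      H = subspaceStabilizer W ⊓ omegaGL Q := by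
    rintro ⟨W, h0, hW, hle⟩
    exact ⟨W, h0, hW, stab W h0 (ts_ne_top W hW) hle⟩
  have cNS : ONS Q H → (¬ Odd (Fintype.card F) ∧ ∃ v : (Fin 12 → F), Q v ≠ 0 ∧
      H = subspaceStabilizer (Submodule.span F {v}) ⊓ omegaGL Q) := by
    rintro ⟨h2, v, hv, hle⟩
    exact ⟨not_odd_of_two_eq_zero h2, v, hv,
      stab _ (span_ne_bot hQ hv) (span_ne_top hQ (by omega) hv) hle⟩
  by_cases hirr : ActsIrreducibly (matrixSet H)
  swap
  · rcases o_reducible hQ hHI hirr with h | h | h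
    · exact Or.inl (cTS h)
    swap
    · exact Or.inr (Or.inr (Or.inr (Or.inr (Or.inr (Or.inr (Or.inl (cNS h)))))))
    obtain ⟨W₀, h0₀, h1₀, hW₀, hle₀⟩ := h
    obtain ⟨W, h0, h1, hW, hle, hdim⟩ := nd_small hQ hHI h0₀ h1₀ hW₀ hle₀
    have hpos : 0 < Module.finrank F W := Module.finrank_pos_iff_exists_ne_zero.2 (by
      obtain ⟨w, hw, hw0⟩ := Submodule.exists_mem_ne_zero_of_ne_bot h0
      exact ⟨⟨w, hw⟩, fun h => hw0 (congrArg Subtype.val h)⟩)
    by_cases hodd : Odd (Module.finrank F W)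
    · have hq : Odd (Fintype.card F) := by
        by_contra hq
        have := even_finrank_of_nondeg (two_eq_zero_of_not_odd hq) hQ hW
        exact (Nat.not_even_iff_odd.2 hodd) this
      exact Or.inr (Or.inl ⟨hq, W, h0, h1, hodd, by obtain ⟨j, hj⟩ := hodd; omega, hW,
        stab W h0 h1 hle⟩)
    rw [Nat.not_odd_iff_even] at hodd
    obtain ⟨j, hj⟩ := hodd
    obtain hfr | hfr | hfr : Module.finrank F W = 2 ∨ Module.finrank F W = 4 ∨
      Module.finrank F W = 6 := by omega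
    · rcases plane_cases hQ h7 hH hfr hW hle with h | h | ⟨hq, W', h0', h1', hfr', hW', heq⟩ | h
      · exact Or.inr (Or.inr (Or.inl h))
      · exact Or.inr (Or.inr (Or.inr (Or.inl h)))
      · exact Or.inr (Or.inl ⟨hq, W', h0', h1', by rw [hfr']; exact ⟨0, rfl⟩, by omega, hW', heq⟩)
      · exact Or.inr (Or.inr (Or.inr (Or.inr (Or.inr (Or.inr (Or.inl h))))))
    · exact Or.inr (Or.inr (Or.inr (Or.inr (Or.inl ⟨W, hfr, hW, stab W h0 h1 hle⟩))))
    · exact Or.inr (Or.inr (Or.inr (Or.inr (Or.inr (Or.inl ⟨W, hfr, hW, stab W h0 h1 hle⟩)))))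
  rcases o_main_gen (by omega) hQ hHI with h | h
  swap
  · exact Or.inr (Or.inr (Or.inr (Or.inr (Or.inr (Or.inr (Or.inr (Or.inr (Or.inr (Or.inr (Or.inr
      (Or.inr h)))))))))))
  have hinvirr : ∀ W : Submodule F (Fin 12 → F), W ≠ ⊥ → W ≠ ⊤ → ¬ H ≤ subspaceStabilizer W := by
    intro W h0 h1 hle
    rcases hirr W (fun s hs => by
      obtain ⟨g, hg, rfl⟩ := hs
      rintro _ ⟨w, hw, rfl⟩
      rw [Matrix.toLin'_apply]
      exact inv_of_le hle g hg w hw) with h | h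
    · exact h0 h
    · exact h1 h
  -- three blocks of dimension 4
  have blocks : ∀ D : Fin 3 → Submodule F (Fin 12 → F), IsOrthogonalMDecomposition Q 4 D →
      H ≤ decompositionStabilizer D →
      ∃ D : Fin 3 → Submodule F (Fin 12 → F), IsOrthogonalMDecomposition Q 4 D ∧
        (∀ i, ¬ IsPlusTypeOn Q (D i)) ∧ H = decompositionStabilizer D ⊓ omegaGL Q := by
    intro D hD hle
    refine ⟨D, hD, fun i hi => hminus (plus_of_blocks hQ hD.decomp fun j =>
      plus_of_isometric (hD.isometric i j) hi),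
      eq_inf_of_le'' hH hle (not_le_decomp_all hQ h7 (by omega) D hD.decomp)⟩
  -- the tensor decomposition 3 x 4
  have tens34 : ∀ (e : Fin 12 ≃ Fin 3 × Fin 4) (P : Matrix.GeneralLinearGroup (Fin 12) F)
      (G₁ : Matrix (Fin 3) (Fin 3) F) (G₂ : Matrix (Fin 4) (Fin 4) F), IsUnit G₁.det → IsUnit G₂.det →
      (∀ x y : Fin 3 × Fin 4 → F, QuadraticMap.polar Q (Matrix.mulVec (P : Matrix (Fin 12) (Fin 12) F) (x ∘ e))
        (Matrix.mulVec (P : Matrix (Fin 12) (Fin 12) F) (y ∘ e)) =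
          formOfGram id (Matrix.kroneckerMap (· * ·) G₁ G₂) x y) →
      H ≤ tensorProductSubgroup 3 4 e P →
      (∃ D : Fin 3 → Submodule F (Fin 12 → F), IsOrthogonalMDecomposition Q 4 D ∧
        (∀ i, ¬ IsPlusTypeOn Q (D i)) ∧ H = decompositionStabilizer D ⊓ omegaGL Q) ∨
      (Odd (Fintype.card F) ∧ 5 ≤ Fintype.card F ∧ ∃ (e : Fin 12 ≃ Fin 3 × Fin 4)
        (P : Matrix.GeneralLinearGroup (Fin 12) F) (f₁ : (Fin 3 → F) → (Fin 3 → F) → F)
        (f₂ : (Fin 4 → F) → (Fin 4 → F) → F), IsSymmetricForm f₁ ∧ IsSymmetricForm f₂ ∧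
        ¬ IsPlusTypeOn (fun v : Fin 4 → F => f₂ v v) ⊤ ∧
        IsTensorFormStructure id (QuadraticMap.polar Q) f₁ f₂ e P ∧
        H = tensorProductSubgroup 3 4 e P ⊓ omegaGL Q) := by
    intro e P G₁ G₂ h₁ h₂ hG hle
    by_cases h2 : (2 : F) = 0
    · exfalso
      obtain ⟨hs₁, -, hd₁, -, -⟩ :=
        tens_char_two h2 hQ hHI hirr (by omega) (by omega) e P G₁ G₂ h₁ h₂ hG hle
      refine not_alt_of_odd ⟨1, rfl⟩ G₁ ?_ hd₁ h₁
      rw [hs₁]
      ext i j
      have : G₁ i j + G₁ i j = 0 := by rw [← two_mul, h2, zero_mul]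
      simpa using eq_neg_of_add_eq_zero_left this
    have hodd : Odd (Fintype.card F) := by
      by_contra hq
      exact h2 (two_eq_zero_of_not_odd hq)
    obtain ⟨hs₁, hs₂⟩ : G₁.transpose = G₁ ∧ G₂.transpose = G₂ := by
      rcases tens_form_symm (symm_polar hQ).symm e P G₁ G₂ h₁ h₂ hG with h | h
      · exact h
      · exact absurd h.1 (not_skew_of_odd h2 ⟨1, rfl⟩ G₁ h₁)
    by_cases hq3 : Fintype.card F = 3
    · obtain ⟨D, hD, hle'⟩ := tens_three hq3 hQ hHI (by omega) e P G₁ G₂ h₁ h₂ hG hs₁ hs₂ hle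
      exact Or.inl (blocks D hD hle')
    · have hq5 : 5 ≤ Fintype.card F := by
        have h1 : 1 < Fintype.card F := Fintype.one_lt_card
        obtain ⟨j, hj⟩ := hodd
        omega
      have hf₁ := formOfGram_symmetric G₁ h₁ hs₁
      have hf₂ := formOfGram_symmetric G₂ h₂ hs₂
      have hstr : IsTensorFormStructure id (QuadraticMap.polar Q) (formOfGram id G₁) (formOfGram id G₂)
          e P := ⟨1, one_ne_zero, fun x y => by
        rw [hG, gramMatrix_formOfGram, gramMatrix_formOfGram, one_mul]⟩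
      exact Or.inr ⟨hodd, hq5, e, P, formOfGram id G₁, formOfGram id G₂, hf₁, hf₂,
        fun hp => hminus (plus_of_tens_plus h2 hQ e P G₁ G₂ hG hs₂ hp), hstr,
        eq_inf_of_le'' hH hle (not_le_tensor hQ h2 h7 (by omega) (by omega) e P _ _ hf₁ hf₂ hstr)⟩
  rcases h with ⟨W, h0, hW, hle⟩ | ⟨W, h0, h1, hW, hle⟩ | ⟨h2, v, hv, hle⟩ | ⟨t, k, D, hD, hle⟩ | h |
    ⟨r, K, hr, hK, hadj, hle⟩ | ⟨d, s, e, P, G₁, G₂, hd, hs, h₁, h₂, hG, hle⟩ |
    ⟨N, hNH, hnorm, hNs, hcomm, habs, hmin⟩ |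
    ⟨k, m, e, P, G, T, hh, hm, hk, hGu, hG, hle, hTH, hTperf, hTs, hmem⟩ |
    ⟨F₀, r, P, ζ, hr, hc, hζ, hrat, hle⟩
  · exact absurd hle (hinvirr W h0 (ts_ne_top W hW))
  · exact absurd hle (hinvirr W h0 h1)
  · exact absurd hle (hinvirr _ (span_ne_bot hQ hv) (span_ne_top hQ (by omega) hv))
  · -- decompositions
    have hcd := decomp_card D hD.decomp.decomp
    have ht2 := hD.decomp.decomp.two_le
    rw [hcard] at hcd
    by_cases hev : Even t
    · exact absurd (plus_of_dec hQ hD hev hl hsq) hminus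
    obtain ⟨rfl, rfl⟩ : t = 3 ∧ k = 4 := by
      have ht12 : t ∣ 12 := ⟨k, hcd⟩
      have hle12 : t ≤ 12 := Nat.le_of_dvd (by omega) ht12
      interval_cases t <;> first | omega | (exfalso; apply hev; decide)
    exact Or.inr (Or.inr (Or.inr (Or.inr (Or.inr (Or.inr (Or.inr (Or.inl (blocks D hD hle))))))))
  · exact absurd (plus_of_pair h) hminus
  · -- fields
    have hdvd := field_dvd K hK
    rw [hcard] at hdvd
    have hK' := eq_inf_of_le'' hH hle (not_le_field_all hQ h7 hr.one_lt K hK)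
    obtain rfl | rfl : r = 2 ∨ r = 3 := by
      have : r ∣ 2 ^ 2 * 3 := by norm_num; exact hdvd
      rcases (Nat.Prime.dvd_mul hr).1 this with h | h
      · exact Or.inl ((Nat.prime_dvd_prime_iff_eq hr Nat.prime_two).1 (hr.dvd_of_dvd_pow h))
      · exact Or.inr ((Nat.prime_dvd_prime_iff_eq hr Nat.prime_three).1 h)
    · exact Or.inr (Or.inr (Or.inr (Or.inr (Or.inr (Or.inr (Or.inr (Or.inr (Or.inl ⟨K, hK, hK'⟩))))))))
    · exact Or.inr (Or.inr (Or.inr (Or.inr (Or.inr (Or.inr (Or.inr (Or.inr (Or.inr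
        (Or.inl ⟨K, hK, hK'⟩)))))))))
  · -- tensor products
    have hds := Fintype.card_congr e
    rw [hcard] at hds
    simp at hds
    have fin : ((∃ D : Fin 3 → Submodule F (Fin 12 → F), IsOrthogonalMDecomposition Q 4 D ∧
        (∀ i, ¬ IsPlusTypeOn Q (D i)) ∧ H = decompositionStabilizer D ⊓ omegaGL Q) ∨
      (Odd (Fintype.card F) ∧ 5 ≤ Fintype.card F ∧ ∃ (e : Fin 12 ≃ Fin 3 × Fin 4)
        (P : Matrix.GeneralLinearGroup (Fin 12) F) (f₁ : (Fin 3 → F) → (Fin 3 → F) → F)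
        (f₂ : (Fin 4 → F) → (Fin 4 → F) → F), IsSymmetricForm f₁ ∧ IsSymmetricForm f₂ ∧
        ¬ IsPlusTypeOn (fun v : Fin 4 → F => f₂ v v) ⊤ ∧
        IsTensorFormStructure id (QuadraticMap.polar Q) f₁ f₂ e P ∧
        H = tensorProductSubgroup 3 4 e P ⊓ omegaGL Q)) := by
      obtain ⟨rfl, rfl⟩ | ⟨rfl, rfl⟩ | ⟨rfl, rfl⟩ | ⟨rfl, rfl⟩ :
          (d = 2 ∧ s = 6) ∨ (d = 6 ∧ s = 2) ∨ (d = 3 ∧ s = 4) ∨ (d = 4 ∧ s = 3) := by
        have hd12 : d ∣ 12 := ⟨s, hds⟩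
        have hle12 : d ≤ 12 := Nat.le_of_dvd (by omega) hd12
        interval_cases d <;> omega
      · exact absurd (plus_of_tens_two hQ hHI hirr (by omega) ⟨3, rfl⟩ e P G₁ G₂ h₁ h₂ hG hle hl hsq)
          hminus
      · obtain ⟨e', hle', hG'⟩ := tens_form_swap e P hle G₁ G₂ hG
        exact absurd (plus_of_tens_two hQ hHI hirr (by omega) ⟨3, rfl⟩ e' P G₂ G₁ h₂ h₁ hG' hle' hl hsq)
          hminus
      · exact tens34 e P G₁ G₂ h₁ h₂ hG hle
      · obtain ⟨e', hle', hG'⟩ := tens_form_swap e P hle G₁ G₂ hG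
        exact tens34 e' P G₂ G₁ h₂ h₁ hG' hle'
    rcases fin with h | h
    · exact Or.inr (Or.inr (Or.inr (Or.inr (Or.inr (Or.inr (Or.inr (Or.inl h)))))))
    · exact Or.inr (Or.inr (Or.inr (Or.inr (Or.inr (Or.inr (Or.inr (Or.inr (Or.inr (Or.inr
        (Or.inl h))))))))))
  · -- class 6
    exfalso
    obtain ⟨k, D, hD⟩ := c6_dec (by omega) hQ (hNH.trans hHI) hcomm habs
    exact hminus (plus_of_dec hQ hD ⟨1, rfl⟩ hl hsq)
  · -- tensor powers
    exfalso
    have hkm := Fintype.card_congr e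
    rw [hcard] at hkm
    simp at hkm
    have hm3 : m ≤ 3 := by
      by_contra hcon
      have : 4 ^ 2 ≤ m ^ k :=
        (Nat.pow_le_pow_left (by omega) 2).trans (Nat.pow_le_pow_right (by omega) hk)
      omega
    have hk3 : k ≤ 3 := by
      by_contra hcon
      have : 2 ^ 4 ≤ m ^ k :=
        (Nat.pow_le_pow_left hm 4).trans (Nat.pow_le_pow_right (by omega) (by omega))
      omega
    interval_cases m <;> interval_cases k <;> omega
  · -- subfields
    by_cases hr2 : r = 2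
    · subst hr2
      exact absurd (plus_of_sub_two hQ hl hc P hζ hrat) hminus
    · exact Or.inr (Or.inr (Or.inr (Or.inr (Or.inr (Or.inr (Or.inr (Or.inr (Or.inr (Or.inr (Or.inr
        (Or.inl ⟨F₀, r, P, ζ, hr, hr.odd_of_ne_two hr2, hc, hζ, hrat,
        eq_inf_of_le'' hH hle
          (not_le_subfield_all hQ h7 (subfield_ne_top_of_card hr hc) P)⟩)))))))))))

end Cfsg.Agent.S5874
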