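import Cfsg.Statements.S5890
import Mathlib
import Cfsg.Agent.Lib.H41PGMax
import Cfsg.Agent.Lib.H41PGExt
import Cfsg.Agent.Lib.H41PGTheta
import Cfsg.Agent.Lib.H41PGCorr
import Cfsg.Agent.Lib.H41PGEven

set_option autoImplicit false
open Cfsg

namespace Cfsg.Agent.S5890

open Cfsg.Agent.Lib.Helper41SL2 Cfsg.Agent.Lib.Helper41Dk Cfsg.Agent.Lib.H41PG

/-- Let F be a finite field with q ≥ 4 elements, let L ≤ PGL₂(F) be the image of SL₂(F) (a copy of PSL₂(F), of index gcd(2, q − 1)), and let M be a maximal subgroup of PGL₂(F) that does not contain L. Suppose q ∉ {7, 9, 11} and that q is not a prime congruent to ±11 or ±19 modulo 40. Then M ∩ L is a maximal subgroup of L. (For the excluded q there are maximal subgroups of PGL₂(q) — dihedral groups of order 12 and 16 at q = 7, of order 20 and 16 at q = 9, of order 20 at q = 11, and S₄ at the excluded primes — whose intersection with L is not maximal in L.) -/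
theorem result {F : Type*} [Field F]
    [Fintype F] (h4 : 4 ≤ Fintype.card F) (h7 : Fintype.card F ≠ 7) (h9 : Fintype.card F ≠ 9) (h11 : Fintype.card F ≠ 11)
    (h40 : (Fintype.card F).Prime → Fintype.card F % 40 ∉ ({11, 19, 21, 29} : Finset ℕ))
    (M : Subgroup (Matrix.ProjGenLinGroup (Fin 2) F)) (hM : IsCoatom M)
    (hML : ¬ (Matrix.ProjGenLinGroup.mk.comp Matrix.SpecialLinearGroup.toGL).range ≤ M) :
    IsCoatom ((M ⊓ (Matrix.ProjGenLinGroup.mk.comp Matrix.SpecialLinearGroup.toGL).range).subgroupOf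
      (Matrix.ProjGenLinGroup.mk.comp Matrix.SpecialLinearGroup.toGL).range) := by
  rcases Nat.even_or_odd (Fintype.card F) with heven | hodd
  · exact coatom_inf_top (range_eq_top_of_even heven) hM
  have h3 : 3 < Fintype.card F := by omega
  obtain ⟨E, i1, i2, K, hE, ⟨ε⟩⟩ := exists_ext F
  have hK : Nat.card K = Fintype.card F := by
    rw [← Nat.card_eq_fintype_card]; exact (Nat.card_congr ε.toEquiv).symm
  have hs : Setup E K (Fintype.card F) := ⟨by rw [hE]; exact hodd.pow, hK, hE, h3⟩
  obtain ⟨e, he⟩ := exists_theta hs ε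
  set L := (Matrix.ProjGenLinGroup.mk.comp Matrix.SpecialLinearGroup.toGL :
    Matrix.SpecialLinearGroup (Fin 2) F →* Matrix.ProjGenLinGroup (Fin 2) F).range with hL
  set M2 := (M.comap e.toMonoidHom).map (PKbar K).subtype with hM2
  set L2 := (L.comap e.toMonoidHom).map (PKbar K).subtype with hL2
  have hZS : Subgroup.center (Matrix.SpecialLinearGroup (Fin 2) E) ≤ SLK K := by
    intro g hg
    rcases Cfsg.Agent.Lib.Helper46SL2.mem_center_iff_eq.mp hg with rfl | rfl
    · exact one_mem _
    · refine ⟨?_, ?_, ?_, ?_⟩ <;> simp [Cfsg.Agent.Lib.Helper46SL2.neg_apply]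
  have hL2' : L2 = (SLK K).map (proj E) := by
    ext x
    constructor
    · rintro ⟨x', hx', rfl⟩
      exact (he x').mp hx'
    · intro hx
      have hxP : x ∈ PKbar K := by
        obtain ⟨g, hg, rfl⟩ := hx
        exact ⟨g, SLK_le_PK K hg, rfl⟩
      exact ⟨⟨x, hxP⟩, (he ⟨x, hxP⟩).mpr hx, rfl⟩
  have hpreL : pre L2 = SLK K := by rw [hL2', pre_map_proj hZS]
  have hG : IsMax K (pre M2) := by
    refine ⟨center_le_pre M2, ?_, ?_⟩
    · have := maxIn_pre (maxIn_of_coatom e hM)
      rwa [pre_PKbar] at this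
    · intro hle
      apply hML
      rintro l hl
      have h1 : e (e.symm l) ∈ L := by
        rw [MulEquiv.apply_symm_apply]; exact hl
      obtain ⟨g, hg, hgx⟩ := (he _).mp h1
      have h2 : proj E g ∈ M2 := hle hg
      rw [hgx] at h2
      obtain ⟨x', hx', hxx⟩ := h2
      have h4 : x' = e.symm l := Subtype.ext hxx
      rw [h4] at hx'
      have h5 : e (e.symm l) ∈ M := hx'
      rwa [MulEquiv.apply_symm_apply] at h5
  have hmax := inf_maxIn hs hG h7 h9 h11 h40
  apply coatom_of_maxIn e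
  apply maxIn_of_pre
  have h6 : pre (M2 ⊓ L2) = pre M2 ⊓ SLK K := by
    rw [← hpreL]; rfl
  rw [h6, hpreL]
  exact hmax

end Cfsg.Agent.S5890
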