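import Cfsg.Statements.S5891
import Mathlib
import Cfsg.Agent.Lib.H41PGNF
import Cfsg.Agent.Lib.H41PGExt
import Cfsg.Agent.Lib.H41PGTheta
import Cfsg.Agent.Lib.H41PGCorr

set_option autoImplicit false
open Cfsg

namespace Cfsg.Agent.S5891

open Cfsg.Agent.Lib.Helper41SL2 Cfsg.Agent.Lib.Helper41Dk Cfsg.Agent.Lib.H41PG

/-- Let F be a finite field of odd order q > 3 and characteristic p, and let M be a maximal subgroup of PGL₂(F) not containing the image L of SL₂(F) (a copy of PSL₂(F) of index 2). Then one of the following holds: |M| = q(q − 1) (M is the stabiliser of a point of the projective line); q ≠ 5 and M is dihedral of order 2(q − 1); M is dihedral of order 2(q + 1); q = p ≡ ±3 (mod 8) and M ≅ S₄; or q = q₀^r for an odd prime r and M ≅ PGL₂(F₀) with |F₀| = q₀. -/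
theorem result {F : Type*} [Field F] [Fintype F]
    (hodd : Odd (Fintype.card F)) (h3 : 3 < Fintype.card F) (M : Subgroup (Matrix.ProjGenLinGroup (Fin 2) F)) (hM : IsCoatom M)
    (hML : ¬ (Matrix.ProjGenLinGroup.mk.comp Matrix.SpecialLinearGroup.toGL).range ≤ M) :
    Nat.card M = Fintype.card F * (Fintype.card F - 1) ∨
    (Fintype.card F ≠ 5 ∧ Nonempty (M ≃* DihedralGroup (Fintype.card F - 1))) ∨
    Nonempty (M ≃* DihedralGroup (Fintype.card F + 1)) ∨
    ((Fintype.card F).Prime ∧ (Fintype.card F % 8 = 3 ∨ Fintype.card F % 8 = 5) ∧ Nonempty (M ≃* Equiv.Perm (Fin 4))) ∨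
    (∃ (F₀ : Type) (_ : Field F₀) (_ : Fintype F₀) (r : ℕ), r.Prime ∧ Odd r ∧ Fintype.card F = Fintype.card F₀ ^ r ∧
        Nonempty (M ≃* Matrix.ProjGenLinGroup (Fin 2) F₀)) := by
  obtain ⟨E, i1, i2, K, hE, ⟨ε⟩⟩ := exists_ext F
  have hK : Nat.card K = Fintype.card F := by
    rw [← Nat.card_eq_fintype_card]; exact (Nat.card_congr ε.toEquiv).symm
  have hs : Setup E K (Fintype.card F) := ⟨by rw [hE]; exact hodd.pow, hK, hE, h3⟩
  obtain ⟨e, he⟩ := exists_theta hs ε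
  set M2 := (M.comap e.toMonoidHom).map (PKbar K).subtype with hM2
  have hG : IsMax K (pre M2) := by
    refine ⟨center_le_pre M2, ?_, ?_⟩
    · have := maxIn_pre (maxIn_of_coatom e hM)
      rwa [pre_PKbar] at this
    · intro hle
      apply hML
      rintro l hl
      have h1 : e (e.symm l) ∈ (Matrix.ProjGenLinGroup.mk.comp Matrix.SpecialLinearGroup.toGL :
          Matrix.SpecialLinearGroup (Fin 2) F →* Matrix.ProjGenLinGroup (Fin 2) F).range := by
        rw [MulEquiv.apply_symm_apply]; exact hl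
      obtain ⟨g, hg, hgx⟩ := (he _).mp h1
      have h2 : proj E g ∈ M2 := hle hg
      rw [hgx] at h2
      obtain ⟨x', hx', hxx⟩ := h2
      have h4 : x' = e.symm l := Subtype.ext hxx
      rw [h4] at hx'
      have h5 : e (e.symm l) ∈ M := hx'
      rwa [MulEquiv.apply_symm_apply] at h5
  obtain ⟨e1⟩ := equiv_of_corr e M
  obtain ⟨φ, hφ, hNF⟩ := normal_form hs hG
  obtain ⟨e2⟩ := equiv_map_proj hG.center φ
  have e3 : M ≃* ((pre M2).map φ.toMonoidHom).map (proj E) :=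
    e1.trans ((MulEquiv.subgroupCongr (map_pre M2).symm).trans e2)
  rcases concl_of_NF hs (hG.map hφ) hNF with h | ⟨h5, ⟨e4⟩⟩ | ⟨⟨e4⟩⟩ | ⟨h5, h6, ⟨e4⟩⟩ |
    ⟨F₀, j1, j2, r, hr, hro, hq, ⟨e4⟩⟩
  · left
    rw [Nat.card_congr e3.toEquiv, h]
  · exact Or.inr (Or.inl ⟨h5, ⟨e3.trans e4⟩⟩)
  · exact Or.inr (Or.inr (Or.inl ⟨e3.trans e4⟩))
  · exact Or.inr (Or.inr (Or.inr (Or.inl ⟨h5, h6, ⟨e3.trans e4⟩⟩)))
  · exact Or.inr (Or.inr (Or.inr (Or.inr ⟨F₀, j1, j2, r, hr, hro, hq, ⟨e3.trans e4⟩⟩)))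

end Cfsg.Agent.S5891
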