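import Cfsg.Statements.S5892
import Mathlib
import Cfsg.Agent.Lib.Helper41Max
import Cfsg.Agent.Lib.Helper6DkT3

set_option autoImplicit false
open Cfsg

namespace Cfsg.Agent.S5892

open Cfsg.Agent.Lib.Helper41Dk Cfsg.Agent.Lib.Helper41Max Cfsg.Agent.Lib.Helper41Lift

/-- Let F be a finite field of odd order q ≥ 5 and characteristic p, and let M be a maximal subgroup of PSL₂(F). Then one of the following holds: |M| = q(q − 1)/2 (the stabiliser of a point of the projective line); q ≥ 13 and M is dihedral of order q − 1; q ∉ {7, 9} and M is dihedral of order q + 1; q = q₀² and M ≅ PGL₂(F₀) with |F₀| = q₀; q = q₀^r for an odd prime r and M ≅ PSL₂(F₀) with |F₀| = q₀; q ≡ ±1 (mod 10) with q = p or q = p², p ≡ ±3 (mod 10), and M ≅ A₅; q = p ≡ ±3 (mod 8), q ≢ ±1 (mod 10), and M ≅ A₄; or q = p ≡ ±1 (mod 8) and M ≅ S₄. -/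
theorem result {F : Type*} [Field F] [Fintype F] (p : ℕ)
    [Fact p.Prime] [CharP F p] (hodd : Odd (Fintype.card F)) (h5 : 5 ≤ Fintype.card F)
    (M : Subgroup (Matrix.ProjectiveSpecialLinearGroup (Fin 2) F)) (hM : IsCoatom M) :
    2 * Nat.card M = Fintype.card F * (Fintype.card F - 1) ∨
    (13 ≤ Fintype.card F ∧ (∃ k : ℕ, 2 * k = Fintype.card F - 1 ∧ Nonempty (M ≃* DihedralGroup k))) ∨
    (Fintype.card F ≠ 7 ∧ Fintype.card F ≠ 9 ∧ (∃ k : ℕ, 2 * k = Fintype.card F + 1 ∧ Nonempty (M ≃* DihedralGroup k))) ∨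
    (∃ (F₀ : Type) (_ : Field F₀) (_ : Fintype F₀), Fintype.card F = Fintype.card F₀ ^ 2 ∧
        Nonempty (M ≃* Matrix.ProjGenLinGroup (Fin 2) F₀)) ∨
    (∃ (F₀ : Type) (_ : Field F₀) (_ : Fintype F₀) (r : ℕ), r.Prime ∧ Odd r ∧ Fintype.card F = Fintype.card F₀ ^ r ∧
        Nonempty (M ≃* Matrix.ProjectiveSpecialLinearGroup (Fin 2) F₀)) ∨
    ((Fintype.card F % 10 = 1 ∨ Fintype.card F % 10 = 9) ∧
        (Fintype.card F = p ∨ (Fintype.card F = p ^ 2 ∧ (p % 10 = 3 ∨ p % 10 = 7))) ∧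
        Nonempty (M ≃* alternatingGroup (Fin 5))) ∨
    (Fintype.card F = p ∧ (p % 8 = 3 ∨ p % 8 = 5) ∧ ¬ (p % 10 = 1 ∨ p % 10 = 9) ∧
        Nonempty (M ≃* alternatingGroup (Fin 4))) ∨
    (Fintype.card F = p ∧ (p % 8 = 1 ∨ p % 8 = 7) ∧ Nonempty (M ≃* Equiv.Perm (Fin 4))) := by
  have hpp : p.Prime := Fact.out
  have h4 : 4 ≤ Fintype.card F := by omega
  have h2 : (2 : F) ≠ 0 := by
    intro h
    have h1 : ((2 : ℕ) : F) = 0 := by exact_mod_cast h
    have h3 : p ∣ 2 := (CharP.cast_eq_zero_iff F p 2).mp h1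
    have h6 : p ∣ Fintype.card F := (CharP.cast_eq_zero_iff F p _).mp (Nat.cast_card_eq_zero F)
    have h7 : p = 2 := (Nat.prime_dvd_prime_iff_eq hpp Nat.prime_two).mp h3
    rw [h7] at h6
    obtain ⟨k, hk⟩ := hodd
    omega
  have he : ee F = 2 := ee_eq_two hodd
  obtain ⟨φ, -, hout⟩ := dickson_PSL2' M
  have e0 : M ≃* M.map (barEquiv φ).toMonoidHom := M.equivMapOfInjective _ (barEquiv φ).injective
  have hM' := isCoatom_map_equiv (barEquiv φ) hM
  set M' := M.map (barEquiv φ).toMonoidHom with hM'def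
  have hcard : Nat.card M = Nat.card M' := Nat.card_congr e0.toEquiv
  have hG := isCoatom_pre hM'
  have hpre := card_pre M'
  rw [he] at hpre
  have hSL := Cfsg.Agent.Lib.Helper7SL.card_SL_two (F := F)
  -- transfer of the subfield outcome
  have hsub : ∀ (ψ : Matrix.SpecialLinearGroup (Fin 2) F ≃* Matrix.SpecialLinearGroup (Fin 2) F)
      (K : Subfield F), K ≠ ⊤ → (pre M').map ψ.toMonoidHom ≤ PK K →
      (∃ (F₀ : Type) (_ : Field F₀) (_ : Fintype F₀), Fintype.card F = Fintype.card F₀ ^ 2 ∧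
        Nonempty (M ≃* Matrix.ProjGenLinGroup (Fin 2) F₀)) ∨
      (∃ (F₀ : Type) (_ : Field F₀) (_ : Fintype F₀) (r : ℕ), r.Prime ∧ Odd r ∧
        Fintype.card F = Fintype.card F₀ ^ r ∧
        Nonempty (M ≃* Matrix.ProjectiveSpecialLinearGroup (Fin 2) F₀)) := by
    intro ψ K hK hle
    rcases sub_case hodd hM' ψ hK hle with ⟨F₀, i1, i2, h1, ⟨e1⟩⟩ | ⟨F₀, i1, i2, r, h1, h3, h6, ⟨e1⟩⟩
    · exact Or.inl ⟨F₀, i1, i2, h1, ⟨e0.trans e1⟩⟩
    · exact Or.inr ⟨F₀, i1, i2, r, h1, h3, h6, ⟨e0.trans e1⟩⟩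
  rcases coatom_cases h4 hG hout with h | ⟨x, hx, ht, h, ⟨y, hy, hyx⟩, hc⟩ | ⟨-, h12, hnc⟩ |
    ⟨-, h3, h24, hnc, x, -, hxZ, hA, hN⟩ | ⟨-, h5', h60⟩ | ⟨K, h3, hr, h⟩
  · left
    rw [hcard, ← hpre, h, card_Bor]
  · obtain ⟨a, -, -, ha, ⟨e1⟩⟩ := dihedral_of_NN ht hx h hy hyx
    rw [hpre, ha] at hc
    have ha' : 2 * a = Nat.card (Subgroup.centralizer {x} : Subgroup (Matrix.SpecialLinearGroup (Fin 2) F)) := by
      omega
    obtain ⟨k, hk⟩ := hodd
    rcases card_cent_cases ht with h6 | h6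
    · right; right; left
      rw [h6] at ha'
      refine ⟨?_, ?_, a, ha', ⟨e0.trans e1⟩⟩
      · intro hq
        exact small_dihedral_false p ⟨k, hk⟩ hM' (Or.inr (Or.inl ⟨hq, by omega⟩))
      · intro hq
        exact small_dihedral_false p ⟨k, hk⟩ hM'
          (Or.inr (Or.inr (Or.inr (Or.inr (Or.inr ⟨hq, by omega⟩)))))
    · right; left
      rw [h6] at ha'
      refine ⟨?_, a, ha', ⟨e0.trans e1⟩⟩
      by_contra hlt
      have hq : Fintype.card F = 5 ∨ Fintype.card F = 7 ∨ Fintype.card F = 9 ∨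
          Fintype.card F = 11 := by omega
      rcases hq with hq | hq | hq | hq
      · exact small_dihedral_false p ⟨k, hk⟩ hM' (Or.inl ⟨hq, by omega⟩)
      · exact small_dihedral_false p ⟨k, hk⟩ hM' (Or.inr (Or.inr (Or.inr (Or.inl ⟨hq, by omega⟩))))
      · exact small_dihedral_false p ⟨k, hk⟩ hM' (Or.inr (Or.inr (Or.inl ⟨hq, by omega⟩)))
      · exact small_dihedral_false p ⟨k, hk⟩ hM'
          (Or.inr (Or.inr (Or.inr (Or.inr (Or.inl ⟨hq, by omega⟩)))))
  · -- the tetrahedral case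
    obtain ⟨e⟩ := A4_outcome h12 hnc
    by_cases hK : Subfield.closure ({1} : Set F) = ⊤
    · have hq := card_eq_of_closure_one p hK
      obtain ⟨a1, a2⟩ := A4_arith p hq (by omega) h2 hM' e
      right; right; right; right; right; right; left
      exact ⟨hq, a1, a2, ⟨e0.trans e⟩⟩
    · obtain ⟨ψ, hψ⟩ := A4_into_SLK h2 e (Subfield.closure ({1} : Set F))
      rcases hsub ψ _ hK (hψ.trans (SLK_le_PK _)) with h | h
      · right; right; right; left; exact h
      · right; right; right; right; left; exact h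
  · -- the octahedral case
    obtain ⟨e⟩ := S4_outcome h24 hnc hxZ hA hN
    by_cases hK : Subfield.closure ({1} : Set F) = ⊤
    · have hq := card_eq_of_closure_one p hK
      right; right; right; right; right; right; right
      refine ⟨hq, ?_, ⟨e0.trans e⟩⟩
      rw [← hq]
      apply mod8 hodd
      rw [← hSL]
      have h6 := Subgroup.card_subgroup_dvd_card (pre M')
      rw [h24, he] at h6
      exact Dvd.dvd.trans (by norm_num) h6
    · obtain ⟨ψ, hψ⟩ := S4_into_PK h2 e (Subfield.closure ({1} : Set F))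
      rcases hsub ψ _ hK hψ with h | h
      · right; right; right; left; exact h
      · right; right; right; right; left; exact h
  · -- the icosahedral case
    obtain ⟨e⟩ := Cfsg.Agent.Lib.Helper6DkT.A5_outcome h60
    obtain ⟨t, ht, ψ, hψ⟩ := A5_into_SLK h2 e
    by_cases hK : Subfield.closure ({t} : Set F) = ⊤
    · right; right; right; right; right; left
      refine ⟨?_, A5_arith p h2 h5' ht hK, ⟨e0.trans e⟩⟩
      apply mod10 hodd
      · intro h6
        obtain ⟨n, -, hn⟩ := FiniteField.card F p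
        rw [hn] at h6
        have h7 := (Nat.prime_dvd_prime_iff_eq Nat.prime_five hpp).mp
          (Nat.prime_five.dvd_of_dvd_pow h6)
        apply h5'
        have h8 : ((p : ℕ) : F) = 0 := CharP.cast_eq_zero F p
        rw [← h7] at h8
        exact_mod_cast h8
      · rw [← hSL]
        have h6 := Subgroup.card_subgroup_dvd_card (pre M')
        rw [h60.1, he] at h6
        exact Dvd.dvd.trans (by norm_num) h6
    · rcases hsub ψ _ hK (hψ.trans (SLK_le_PK _)) with h | h
      · right; right; right; left; exact h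
      · right; right; right; right; left; exact h
  · -- the subfield case
    have hK : K ≠ ⊤ := subfield_ne_top_of_card hr.two_le (card_pow_finrank K)
    have hle : (pre M').map (MulEquiv.refl _).toMonoidHom ≤ PK K := by
      rw [h]
      rintro _ ⟨y, hy, rfl⟩
      exact hy
    rcases hsub _ _ hK hle with h | h
    · right; right; right; left; exact h
    · right; right; right; right; left; exact h

end Cfsg.Agent.S5892
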