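import Cfsg.Statements.S5896
-- import your own Cfsg.Agent.* helpers here
import Mathlib
import Cfsg.Agent.S4014

set_option autoImplicit false
open Cfsg

namespace Cfsg.Agent.S5896


open scoped commutatorElement
open RegularWreathProduct

/-! ### `S₄` is solvable -/

set_option maxRecDepth 100000 in
lemma v4_mul : ∀ a b : Equiv.Perm (Fin 4), (a * a = 1 ∧ Equiv.Perm.sign a = 1) →
    (b * b = 1 ∧ Equiv.Perm.sign b = 1) →
    ((a * b) * (a * b) = 1 ∧ Equiv.Perm.sign (a * b) = 1) := by decide +kernel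

lemma v4_inv : ∀ a : Equiv.Perm (Fin 4), (a * a = 1 ∧ Equiv.Perm.sign a = 1) →
    (a⁻¹ * a⁻¹ = 1 ∧ Equiv.Perm.sign a⁻¹ = 1) := by decide +kernel

set_option maxRecDepth 100000 in
lemma v4_comm : ∀ a b : Equiv.Perm (Fin 4), (a * a = 1 ∧ Equiv.Perm.sign a = 1) →
    (b * b = 1 ∧ Equiv.Perm.sign b = 1) → a * b * a⁻¹ * b⁻¹ = 1 := by decide +kernel

set_option maxRecDepth 100000 in
lemma a4_comm : ∀ a b : Equiv.Perm (Fin 4), Equiv.Perm.sign a = 1 → Equiv.Perm.sign b = 1 →
    ((a * b * a⁻¹ * b⁻¹) * (a * b * a⁻¹ * b⁻¹) = 1 ∧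
      Equiv.Perm.sign (a * b * a⁻¹ * b⁻¹) = 1) := by decide +kernel

def V4 : Subgroup (Equiv.Perm (Fin 4)) where
  carrier := {σ | σ * σ = 1 ∧ Equiv.Perm.sign σ = 1}
  mul_mem' := fun {a b} ha hb => v4_mul a b ha hb
  one_mem' := ⟨by simp, by simp⟩
  inv_mem' := fun {a} ha => v4_inv a ha

theorem solvS4 : Group.IsSolvable (Equiv.Perm (Fin 4)) := by
  refine ⟨⟨3, ?_⟩⟩
  have h1 : derivedSeries (Equiv.Perm (Fin 4)) 1 ≤ alternatingGroup (Fin 4) := by
    rw [derivedSeries_succ, derivedSeries_zero, ← commutator_def]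
    exact alternatingGroup.commutator_perm_le
  have h2 : derivedSeries (Equiv.Perm (Fin 4)) 2 ≤ V4 := by
    rw [derivedSeries_succ]
    refine le_trans (Subgroup.commutator_mono h1 h1) ?_
    rw [Subgroup.commutator_le]
    intro a ha b hb
    exact a4_comm a b (Equiv.Perm.mem_alternatingGroup.mp ha) (Equiv.Perm.mem_alternatingGroup.mp hb)
  rw [derivedSeries_succ, eq_bot_iff]
  refine le_trans (Subgroup.commutator_mono h2 h2) ?_
  rw [Subgroup.commutator_le]
  intro a ha b hb
  rw [Subgroup.mem_bot]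
  exact v4_comm a b ha hb

/-! ### a solvable maximal subgroup of `A₅` -/

lemma isCoatom_of_index_prime {G : Type*} [Group G] {H : Subgroup G} (h : H.index.Prime) :
    IsCoatom H := by
  refine ⟨fun h0 => ?_, fun L hL => ?_⟩
  · rw [h0, Subgroup.index_top] at h
    exact Nat.not_prime_one h
  · have h1 := Subgroup.relIndex_mul_index hL.le
    rcases (Nat.dvd_prime h).mp ⟨_, (h1.symm.trans (mul_comm _ _))⟩ with h2 | h2
    · exact Subgroup.index_eq_one.mp h2
    · exfalso
      rw [h2] at h1
      have h3 : H.relIndex L = 1 := by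
        have := h.pos
        nlinarith [Nat.eq_of_mul_eq_mul_right this (h1.trans (one_mul _).symm)]
      exact absurd (Subgroup.relIndex_eq_one.mp h3) (not_le_of_gt hL)

noncomputable def psi : alternatingGroup (Fin 4) →* alternatingGroup (Fin 5) :=
  ((Equiv.Perm.viaEmbeddingHom Fin.castSuccEmb).comp (alternatingGroup (Fin 4)).subtype).codRestrict
    (alternatingGroup (Fin 5)) (fun σ => by
      rw [Equiv.Perm.mem_alternatingGroup]
      have h := Equiv.Perm.mem_alternatingGroup.mp σ.2
      simp only [MonoidHom.comp_apply, Subgroup.subtype_apply, Equiv.Perm.viaEmbeddingHom_apply,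
        Equiv.Perm.viaEmbedding]
      rw [Equiv.Perm.sign_extendDomain]
      exact h)

lemma psi_injective : Function.Injective psi := by
  intro a b h
  have h1 := congrArg Subtype.val h
  exact Subtype.ext (Equiv.Perm.viaEmbeddingHom_injective _ h1)

lemma psi_coatom : IsCoatom psi.range := by
  apply isCoatom_of_index_prime
  have h1 : Nat.card psi.range = 12 := by
    rw [← Nat.card_congr (MonoidHom.ofInjective psi_injective).toEquiv,
      nat_card_alternatingGroup]
    simp [Nat.factorial]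
  have h2 : Nat.card (alternatingGroup (Fin 5)) = 60 := by
    rw [nat_card_alternatingGroup]
    simp [Nat.factorial]
  have h3 := psi.range.card_mul_index
  rw [h1, h2] at h3
  have h4 : psi.range.index = 5 := by omega
  rw [h4]
  norm_num

lemma psi_solvable : Group.IsSolvable psi.range := by
  haveI := solvS4
  exact Group.isSolvable_of_surjective (f := psi.rangeRestrict) psi.rangeRestrict_surjective

/-! ### the wreath product -/

section wreath

variable {S A : Type*} [Group S] [Group A]

/-- the base group -/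
def base : (A → S) →* S ≀ᵣ A where
  toFun f := ⟨f, 1⟩
  map_one' := rfl
  map_mul' f g := by
    ext <;> simp

lemma eq_base_mul_inl (w : S ≀ᵣ A) : w = base w.left * inl w.right := by
  ext <;> simp [base]

lemma conj_single [DecidableEq A] (a : A) (x : S) :
    (inl a : S ≀ᵣ A) * base (Pi.mulSingle 1 x) * (inl a)⁻¹ = base (Pi.mulSingle a x) := by
  ext y
  · by_cases h : y = a
    · subst h
      simp [base]
    · have h1 : a⁻¹ * y ≠ 1 := by
        intro h2
        apply h
        rw [inv_mul_eq_one] at h2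
        exact h2.symm
      simp [base, Pi.mulSingle_eq_of_ne h, Pi.mulSingle_eq_of_ne h1]
  · simp [base]

theorem perfect [Finite A] (hA : commutator A = ⊤) {q : A} (hq : q ≠ 1) :
    ⁅commutator (S ≀ᵣ A), commutator (S ≀ᵣ A)⁆ = commutator (S ≀ᵣ A) := by
  classical
  apply le_antisymm (Subgroup.commutator_le_left _ _)
  set N : Subgroup (S ≀ᵣ A) := ⁅commutator (S ≀ᵣ A), commutator (S ≀ᵣ A)⁆ with hN
  have hinl : ∀ a : A, (QuotientGroup.mk' N) (inl a) = 1 := by
    intro a
    rw [QuotientGroup.mk'_apply, QuotientGroup.eq_one_iff]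
    have h1 := map_derivedSeries_le_derivedSeries (inl : A →* S ≀ᵣ A) 2
    have h2 : derivedSeries A 2 = ⊤ := by
      rw [derivedSeries_succ, derivedSeries_succ, derivedSeries_zero, ← commutator_def, hA,
        ← commutator_def, hA]
    have h3 : derivedSeries (S ≀ᵣ A) 2 = N := by
      rw [derivedSeries_succ, derivedSeries_succ, derivedSeries_zero, ← commutator_def]
    rw [h2, h3] at h1
    exact h1 ⟨a, Subgroup.mem_top a, rfl⟩
  have hshift : ∀ (a : A) (x : S), (QuotientGroup.mk' N) (base (Pi.mulSingle a x)) =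
      (QuotientGroup.mk' N) (base (Pi.mulSingle 1 x)) := by
    intro a x
    rw [← conj_single a x, map_mul, map_mul, map_inv, hinl]
    simp
  let φ : S →* (S ≀ᵣ A) ⧸ N :=
    (QuotientGroup.mk' N).comp (base.comp (MonoidHom.mulSingle (fun _ : A => S) 1))
  have hφ : ∀ x, φ x = (QuotientGroup.mk' N) (base (Pi.mulSingle 1 x)) := fun x => rfl
  have hR : ∀ w : S ≀ᵣ A, (QuotientGroup.mk' N) w ∈ φ.range := by
    intro w
    rw [eq_base_mul_inl w, map_mul, hinl, mul_one]
    have h1 : w.left ∈ (φ.range.comap (QuotientGroup.mk' N)).comap base := by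
      apply Subgroup.pi_mem_of_mulSingle_mem
      intro a
      rw [Subgroup.mem_comap, Subgroup.mem_comap, hshift]
      exact ⟨w.left a, rfl⟩
    exact h1
  have hcomm : ∀ x y : S, φ x * φ y = φ y * φ x := by
    intro x y
    have h1 : φ y = (QuotientGroup.mk' N) (base (Pi.mulSingle q y)) := by
      rw [hshift, hφ]
    rw [h1, hφ, ← map_mul, ← map_mul, ← map_mul, ← map_mul]
    have h2 : (Pi.mulSingle 1 x : A → S) * Pi.mulSingle q y = Pi.mulSingle q y * Pi.mulSingle 1 x :=
      (Pi.mulSingle_commute (f := fun _ : A => S) (Ne.symm hq) x y).eq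
    rw [h2]
  rw [commutator_def, Subgroup.commutator_le]
  intro g _ h _
  rw [← QuotientGroup.eq_one_iff, ← QuotientGroup.mk'_apply, map_commutatorElement]
  obtain ⟨x, hx⟩ := hR g
  obtain ⟨y, hy⟩ := hR h
  rw [← hx, ← hy, commutatorElement_eq_one_iff_mul_comm]
  exact hcomm x y

theorem perfect' [Finite A] (hA : commutator A = ⊤) {q : A} (hq : q ≠ 1) :
    commutator ↥(commutator (S ≀ᵣ A)) = ⊤ := by
  apply Subgroup.map_injective (commutator (S ≀ᵣ A)).subtype_injective
  rw [Subgroup.map_subtype_commutator, perfect hA hq, ← MonoidHom.range_eq_map,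
    Subgroup.range_subtype]

lemma inl_mem (hA : commutator A = ⊤) (a : A) : (inl a : S ≀ᵣ A) ∈ commutator (S ≀ᵣ A) := by
  have h1 := map_derivedSeries_le_derivedSeries (inl : A →* S ≀ᵣ A) 1
  have h2 : derivedSeries A 1 = ⊤ := by
    rw [derivedSeries_succ, derivedSeries_zero, ← commutator_def, hA]
  have h3 : derivedSeries (S ≀ᵣ A) 1 = commutator (S ≀ᵣ A) := by
    rw [derivedSeries_succ, derivedSeries_zero, ← commutator_def]
  rw [h2, h3] at h1
  exact h1 ⟨a, Subgroup.mem_top a, rfl⟩

/-- the projection of the derived subgroup onto the top group -/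
def rho : ↥(commutator (S ≀ᵣ A)) →* A := rightHom.comp (commutator (S ≀ᵣ A)).subtype

lemma rho_surjective (hA : commutator A = ⊤) : Function.Surjective (rho : ↥(commutator (S ≀ᵣ A)) →* A) :=
  fun a => ⟨⟨inl a, inl_mem hA a⟩, rfl⟩

lemma solvable_comap [Finite A] [Finite S] {p : ℕ} [Fact p.Prime] (hS : IsPGroup p S) (B : Subgroup A)
    (hB : Group.IsSolvable B) :
    Group.IsSolvable ↥(B.comap (rho : ↥(commutator (S ≀ᵣ A)) →* A)) := by
  have hP : IsPGroup p (A → S) := by
    obtain ⟨b, hb⟩ := IsPGroup.iff_card.mp hS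
    refine IsPGroup.of_card (n := b * Nat.card A) ?_
    rw [Nat.card_fun, hb, pow_mul]
  haveI : Group.IsNilpotent (A → S) := hP.isNilpotent
  haveI : Group.IsSolvable (A → S) := inferInstance
  -- the full preimage in the wreath product
  let X : Subgroup (S ≀ᵣ A) := B.comap rightHom
  have hX : Group.IsSolvable ↥X := by
    let f : (A → S) →* ↥X := base.codRestrict X (fun f => by
      change rightHom (base f) ∈ B
      exact B.one_mem)
    let g : ↥X →* ↥B := (rightHom.comp X.subtype).codRestrict B (fun x => x.2)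
    refine Group.isSolvable_of_ker_le_range f g ?_
    intro x hx
    rw [MonoidHom.mem_ker] at hx
    have h1 : (x : S ≀ᵣ A).right = 1 := congrArg Subtype.val hx
    refine ⟨(x : S ≀ᵣ A).left, Subtype.ext ?_⟩
    change base (x : S ≀ᵣ A).left = x
    conv_rhs => rw [eq_base_mul_inl (x : S ≀ᵣ A), h1, map_one, mul_one]
  let j : ↥(B.comap (rho : ↥(commutator (S ≀ᵣ A)) →* A)) →* ↥X :=
    ((commutator (S ≀ᵣ A)).subtype.comp (Subgroup.subtype _)).codRestrict X (fun x => x.2)
  refine Group.isSolvable_of_isSolvable_injective (f := j) ?_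
  intro x y h
  have h1 := congrArg Subtype.val h
  exact Subtype.ext (Subtype.ext h1)

lemma derived_ne_bot [DecidableEq A] {q : A} (hq : q ≠ 1) (B : Subgroup A) (d : ℕ)
    (hS : derivedSeries S d ≠ ⊥) :
    derivedSeries ↥(B.comap (rho : ↥(commutator (S ≀ᵣ A)) →* A)) d ≠ ⊥ := by
  let ι : ↥(B.comap (rho : ↥(commutator (S ≀ᵣ A)) →* A)) →* S ≀ᵣ A :=
    (commutator (S ≀ᵣ A)).subtype.comp (B.comap (rho : ↥(commutator (S ≀ᵣ A)) →* A)).subtype
  have key : ∀ j, derivedSeries S j ≤
      Cfsg.Agent.S4014.T ((derivedSeries ↥(B.comap (rho : ↥(commutator (S ≀ᵣ A)) →* A)) j).map ι) := by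
    intro j
    induction j with
    | zero =>
      intro x _
      have hmem : ⁅(⟨Pi.mulSingle 1 x, 1⟩ : S ≀ᵣ A), (inl q : S ≀ᵣ A)⁆ ∈ commutator (S ≀ᵣ A) := by
        rw [commutator_def]
        exact Subgroup.commutator_mem_commutator (Subgroup.mem_top _) (Subgroup.mem_top _)
      have hr : (⁅(⟨Pi.mulSingle 1 x, 1⟩ : S ≀ᵣ A), (inl q : S ≀ᵣ A)⁆).right = 1 := by
        simp [commutatorElement_def]
      refine ⟨⁅(⟨Pi.mulSingle 1 x, 1⟩ : S ≀ᵣ A), (inl q : S ≀ᵣ A)⁆, ?_, hr, ?_⟩
      · refine ⟨⟨⟨_, hmem⟩, ?_⟩, Subgroup.mem_top _, rfl⟩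
        change (⁅(⟨Pi.mulSingle 1 x, 1⟩ : S ≀ᵣ A), (inl q : S ≀ᵣ A)⁆).right ∈ B
        rw [hr]
        exact B.one_mem
      · have h1 : q⁻¹ ≠ 1 := inv_ne_one.mpr hq
        simp [commutatorElement_def, Pi.mulSingle_eq_of_ne h1]
    | succ j ih =>
      rw [derivedSeries_succ S j,
        derivedSeries_succ ↥(B.comap (rho : ↥(commutator (S ≀ᵣ A)) →* A)) j, Subgroup.map_commutator]
      exact le_trans (Subgroup.commutator_mono ih ih) (Cfsg.Agent.S4014.T_comm _)
  intro h0
  apply hS
  rw [eq_bot_iff]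
  intro x hx
  obtain ⟨w, hw, _, rfl⟩ := key d hx
  rw [h0, Subgroup.map_bot, Subgroup.mem_bot] at hw
  rw [hw]
  rfl

end wreath


/-- Finite perfect groups have solvable maximal subgroups of unbounded derived length: for every d there is a finite perfect group G (equal to its commutator subgroup) with a solvable maximal subgroup H whose derived length exceeds d, i.e. the d-th term of the derived series of H is non-trivial. (Take the derived subgroup of a wreath product S ≀ A₅ with S solvable of large derived length, and H the preimage of a maximal subgroup of A₅.) -/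
theorem result (d : ℕ) :
    ∃ (G : Type) (_ : Group G) (_ : Finite G) (H : Subgroup G), commutator G = ⊤ ∧ IsCoatom H ∧ Group.IsSolvable H ∧
      derivedSeries H d ≠ ⊥ := by
  classical
  haveI : Fact (Nat.Prime 2) := ⟨Nat.prime_two⟩
  obtain ⟨S, _, _, Y, _, _, _, _, hS, _, hd⟩ := Cfsg.Agent.S4014.lower 2 d
  have hA : commutator (alternatingGroup (Fin 5)) = ⊤ :=
    commutator_alternatingGroup_eq_top (by simp)
  have hq : ∃ q : alternatingGroup (Fin 5), q ≠ 1 := by
    by_contra hcon
    push Not at hcon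
    have h1 : commutator (alternatingGroup (Fin 5)) = ⊥ := by
      rw [eq_bot_iff]
      intro x _
      rw [Subgroup.mem_bot]
      exact hcon x
    rw [hA] at h1
    have h2 : Nat.card (alternatingGroup (Fin 5)) = 60 := by
      rw [nat_card_alternatingGroup]
      simp [Nat.factorial]
    have h3 : Nat.card (⊤ : Subgroup (alternatingGroup (Fin 5))) = 1 := by
      rw [h1]; simp
    rw [Subgroup.card_top, h2] at h3
    omega
  obtain ⟨q, hq⟩ := hq
  refine ⟨↥(commutator (S ≀ᵣ alternatingGroup (Fin 5))), inferInstance, inferInstance,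
    psi.range.comap rho, perfect' hA hq, ?_, ?_, ?_⟩
  · exact Subgroup.isCoatom_comap_of_surjective (rho_surjective hA) psi_coatom
  · exact solvable_comap hS _ psi_solvable
  · exact derived_ne_bot hq _ d hd

end Cfsg.Agent.S5896
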