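import Cfsg.Statements.S5938
import Cfsg.Agent.Lib.Helper6DkCor2
import Cfsg.Agent.S0803

set_option autoImplicit false
open Cfsg

namespace Cfsg.Agent.S5938

open Cfsg.Agent.Lib.Helper6DkCor

/-- Let p be a prime with p ≡ ±1 (mod 8) and F a field with p elements. Then PSL_2(F) has a maximal subgroup isomorphic to the symmetric group S_4. -/
theorem result {F : Type*} [Field F] [Fintype F] (p : ℕ) [Fact p.Prime] (hF : Fintype.card F = p) (hp : p % 8 = 1 ∨ p % 8 = 7) : ∃ H : Subgroup (Matrix.ProjectiveSpecialLinearGroup (Fin 2) F), IsCoatom H ∧ Nonempty (H ≃* Equiv.Perm (Fin 4)) := by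
  have hpp : p.Prime := Fact.out
  haveI : CharP F p := charP_of_card_prime hpp hF
  haveI : Finite (Matrix.ProjectiveSpecialLinearGroup (Fin 2) F) :=
    Cfsg.Agent.Lib.Helper41SL2.finite_PSL2
  have hp2 : p ≠ 2 := by rintro rfl; omega
  have hodd : Odd (Fintype.card F) := by rw [hF]; exact hpp.odd_of_ne_two hp2
  have hp7 : 7 ≤ p := by
    have := hpp.two_le
    by_contra hlt
    have : p = 1 ∨ p = 7 := by omega
    omega
  have h16 : p ^ 2 % 16 = 1 := by
    have h : p % 16 = 1 ∨ p % 16 = 9 ∨ p % 16 = 7 ∨ p % 16 = 15 := by omega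
    rcases h with h | h | h | h <;> simp [Nat.pow_mod, h]
  obtain ⟨H, ⟨e⟩⟩ := (Cfsg.Agent.S0803.result hF).2 h16
  have hH : Nat.card H = 24 := by
    rw [Nat.card_congr e.toEquiv, Nat.card_eq_fintype_card, Fintype.card_perm, Fintype.card_fin]
    rfl
  have hG := card_PSL2_odd hodd
  rw [hF] at hG
  have hbig : 336 ≤ p * (p - 1) * (p + 1) := by
    have h1 : 6 ≤ p - 1 := by omega
    have h2 : 8 ≤ p + 1 := by omega
    calc 336 = 7 * 6 * 8 := by norm_num
      _ ≤ p * (p - 1) * (p + 1) := Nat.mul_le_mul (Nat.mul_le_mul hp7 h1) h2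
  refine ⟨H, ⟨?_, ?_⟩, ⟨e⟩⟩
  · rintro rfl
    rw [Subgroup.card_top] at hH
    omega
  · intro M hHM
    have hdvd : 24 ∣ Nat.card M := hH ▸ Subgroup.card_dvd_of_le hHM.le
    have hne : Nat.card M ≠ 24 := by
      intro h
      exact hHM.ne (Subgroup.eq_of_le_of_card_ge hHM.le (by rw [h, hH]))
    rcases card_cases p hp2 M (hV_of_equiv hHM.le e hasV_perm4)
      (hSq_of_equiv hHM.le e hasSq_perm4) with h | h | h | ⟨K, -, h⟩
    · omega
    · omega
    · omega
    · have hK : Nat.card K = p :=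
        card_subfield_of_prime hpp (by rw [Nat.card_eq_fintype_card, hF]) K
      exact eq_top_of_card_full hodd M (hK.trans hF.symm) h

end Cfsg.Agent.S5938
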