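import Cfsg.Statements.S5939
import Cfsg.Agent.Lib.Helper6DkCor2
import Cfsg.Agent.S0804

set_option autoImplicit false
open Cfsg

namespace Cfsg.Agent.S5939

open Cfsg.Agent.Lib.Helper6DkCor

/-- Let p be a prime and F a finite field of characteristic p such that either F has p elements and p ≡ ±1 (mod 10), or F has p² elements and p ≡ ±3 (mod 10). Then PSL_2(F) has a maximal subgroup isomorphic to the alternating group A_5. -/
theorem result {F : Type*} [Field F] [Fintype F] (p : ℕ) [Fact p.Prime] [CharP F p] (h : (Fintype.card F = p ∧ (p % 10 = 1 ∨ p % 10 = 9)) ∨ (Fintype.card F = p ^ 2 ∧ (p % 10 = 3 ∨ p % 10 = 7))) : ∃ H : Subgroup (Matrix.ProjectiveSpecialLinearGroup (Fin 2) F), IsCoatom H ∧ Nonempty (H ≃* alternatingGroup (Fin 5)) := by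
  have hpp : p.Prime := Fact.out
  haveI : Finite (Matrix.ProjectiveSpecialLinearGroup (Fin 2) F) :=
    Cfsg.Agent.Lib.Helper41SL2.finite_PSL2
  have hp2 : p ≠ 2 := by rintro rfl; omega
  have hpodd : Odd p := hpp.odd_of_ne_two hp2
  have hodd : Odd (Fintype.card F) := by
    rcases h with ⟨h, -⟩ | ⟨h, -⟩
    · rw [h]; exact hpodd
    · rw [h]; exact hpodd.pow
  have hq9 : 9 ≤ Fintype.card F := by
    rcases h with ⟨h, h'⟩ | ⟨h, h'⟩
    · rw [h]
      have := hpp.two_le
      by_contra hlt
      have : p = 1 ∨ p = 9 := by omega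
      omega
    · rw [h]
      have : 3 ≤ p := by omega
      calc 9 = 3 ^ 2 := by norm_num
        _ ≤ p ^ 2 := Nat.pow_le_pow_left this 2
  have h5 : 5 ∣ Fintype.card F * (Fintype.card F ^ 2 - 1) := by
    apply Dvd.dvd.mul_left
    have hmod : Fintype.card F ^ 2 % 5 = 1 := by
      rcases h with ⟨h, h'⟩ | ⟨h, h'⟩
      · rw [h]
        have : p % 5 = 1 ∨ p % 5 = 4 := by omega
        rcases this with h5 | h5 <;> simp [Nat.pow_mod, h5]
      · rw [h, ← pow_mul]
        have : p % 5 = 2 ∨ p % 5 = 3 := by omega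
        rcases this with h5 | h5 <;> simp [Nat.pow_mod, h5]
    omega
  obtain ⟨H, ⟨e⟩⟩ := (Cfsg.Agent.S0804.result rfl).2 h5
  have hH : Nat.card H = 60 := by
    rw [Nat.card_congr e.toEquiv]
    have h2 := two_mul_card_alternatingGroup (α := Fin 5)
    rw [Fintype.card_perm, Fintype.card_fin] at h2
    rw [Nat.card_eq_fintype_card]
    have : Nat.factorial 5 = 120 := rfl
    omega
  have hG := card_PSL2_odd hodd
  have hbig : 720 ≤ Fintype.card F * (Fintype.card F - 1) * (Fintype.card F + 1) := by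
    have h1 : 8 ≤ Fintype.card F - 1 := by omega
    have h2 : 10 ≤ Fintype.card F + 1 := by omega
    calc 720 = 9 * 8 * 10 := by norm_num
      _ ≤ _ := Nat.mul_le_mul (Nat.mul_le_mul hq9 h1) h2
  refine ⟨H, ⟨?_, ?_⟩, ⟨e⟩⟩
  · rintro rfl
    rw [Subgroup.card_top] at hH
    omega
  · intro M hHM
    have hdvd : 60 ∣ Nat.card M := hH ▸ Subgroup.card_dvd_of_le hHM.le
    have hne : Nat.card M ≠ 60 := by
      intro h
      exact hHM.ne (Subgroup.eq_of_le_of_card_ge hHM.le (by rw [h, hH]))
    rcases card_cases p hp2 M (hV_of_equiv hHM.le e hasV_alt5)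
      (hSq_of_equiv hHM.le e hasSq_alt5) with h1 | h1 | h1 | ⟨K, hK3, hK⟩
    · omega
    · omega
    · omega
    · rcases h with ⟨h, -⟩ | ⟨h, h'⟩
      · have hK' : Nat.card K = p :=
          card_subfield_of_prime hpp (by rw [Nat.card_eq_fintype_card, h]) K
        exact eq_top_of_card_full hodd M (hK'.trans h.symm) hK
      · obtain ⟨m, hm⟩ := card_subfield_pow K
        rw [Nat.card_eq_fintype_card (α := F), h] at hm
        have hm0 : m ≠ 0 := by
          rintro rfl
          rw [pow_zero] at hm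
          have : 1 < p ^ 2 := Nat.one_lt_pow two_ne_zero hpp.one_lt
          omega
        have h1 : Nat.card K ∣ p ^ 2 := by rw [← hm]; exact dvd_pow_self _ hm0
        obtain ⟨i, hi, hKi⟩ := (Nat.dvd_prime_pow hpp).1 h1
        interval_cases i
        · rw [pow_zero] at hKi; omega
        · exfalso
          rw [pow_one] at hKi
          rw [hKi] at hK
          have h5M : 5 ∣ p * (p - 1) * (p + 1) := by
            rcases hK with hK | hK
            · rw [← hK]; exact (by norm_num : 5 ∣ 60).trans hdvd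
            · rw [← hK]; exact Dvd.dvd.mul_left ((by norm_num : 5 ∣ 60).trans hdvd) 2
          have hp5 : p % 5 = 2 ∨ p % 5 = 3 := by omega
          obtain ⟨t, rfl⟩ : ∃ t, p = t + 1 := ⟨p - 1, by have := hpp.two_le; omega⟩
          rw [Nat.add_sub_cancel] at h5M
          have h5' : ((t + 1) * t * (t + 1 + 1)) % 5 = 0 := Nat.mod_eq_zero_of_dvd h5M
          have ht : t % 5 = 1 ∨ t % 5 = 2 := by omega
          rcases ht with ht | ht <;>
            simp [Nat.mul_mod, Nat.add_mod, ht] at h5'
        · exact eq_top_of_card_full hodd M (hKi.trans h.symm) hK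

end Cfsg.Agent.S5939
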