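import Cfsg.Statements.S5940
import Cfsg.Agent.Lib.Helper6DkCor2
import Cfsg.Agent.S0802

set_option autoImplicit false
open Cfsg

namespace Cfsg.Agent.S5940

open Cfsg.Agent.Lib.Helper6DkCor

/-- Let p ≥ 5 be a prime with p ≡ ±3 (mod 8) and p ≢ ±1 (mod 10), and F a field with p elements. Then PSL_2(F) has a maximal subgroup isomorphic to the alternating group A_4. -/
theorem result {F : Type*} [Field F] [Fintype F] (p : ℕ) [Fact p.Prime] (hF : Fintype.card F = p) (h5 : 5 ≤ p) (h8 : p % 8 = 3 ∨ p % 8 = 5) (h10 : p % 10 ≠ 1 ∧ p % 10 ≠ 9) : ∃ H : Subgroup (Matrix.ProjectiveSpecialLinearGroup (Fin 2) F), IsCoatom H ∧ Nonempty (H ≃* alternatingGroup (Fin 4)) := by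
  have hpp : p.Prime := Fact.out
  haveI : CharP F p := charP_of_card_prime hpp hF
  haveI : Finite (Matrix.ProjectiveSpecialLinearGroup (Fin 2) F) :=
    Cfsg.Agent.Lib.Helper41SL2.finite_PSL2
  have hp2 : p ≠ 2 := by rintro rfl; omega
  have hodd : Odd (Fintype.card F) := by rw [hF]; exact hpp.odd_of_ne_two hp2
  obtain ⟨H, ⟨e⟩⟩ := (Cfsg.Agent.S0802.result p 1 (by rw [hF, pow_one])).2
    (fun h => hp2 h.1)
  have hH : Nat.card H = 12 := by
    rw [Nat.card_congr e.toEquiv]
    have h2 := two_mul_card_alternatingGroup (α := Fin 4)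
    rw [Fintype.card_perm, Fintype.card_fin] at h2
    rw [Nat.card_eq_fintype_card]
    have : Nat.factorial 4 = 24 := rfl
    omega
  have hG := card_PSL2_odd hodd
  rw [hF] at hG
  have hbig : 120 ≤ p * (p - 1) * (p + 1) := by
    have h1 : 4 ≤ p - 1 := by omega
    have h2 : 6 ≤ p + 1 := by omega
    calc 120 = 5 * 4 * 6 := by norm_num
      _ ≤ p * (p - 1) * (p + 1) := Nat.mul_le_mul (Nat.mul_le_mul h5 h1) h2
  refine ⟨H, ⟨?_, ?_⟩, ⟨e⟩⟩
  · rintro rfl
    rw [Subgroup.card_top] at hH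
    omega
  · intro M hHM
    have hne : Nat.card M ≠ 12 := by
      intro h
      exact hHM.ne (Subgroup.eq_of_le_of_card_ge hHM.le (by rw [h, hH]))
    have hMG : Nat.card M ∣ Nat.card (Matrix.ProjectiveSpecialLinearGroup (Fin 2) F) :=
      Subgroup.card_subgroup_dvd_card M
    rcases card_cases p hp2 M (hV_of_equiv hHM.le e hasV_alt4)
      (hSq_of_equiv hHM.le e hasSq_alt4) with h | h | h | ⟨K, -, h⟩
    · omega
    · -- 24 ∣ |G| forces 16 ∣ p² - 1
      exfalso
      rw [h] at hMG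
      obtain ⟨c, hc⟩ := hMG
      rw [hc] at hG
      -- p (p-1) (p+1) = 48 c
      obtain ⟨t, rfl⟩ : ∃ t, p = t + 1 := ⟨p - 1, by omega⟩
      rw [Nat.add_sub_cancel] at hG
      have h16 : ((t + 1) * t * (t + 1 + 1)) % 16 = 0 := by rw [← hG]; omega
      have ht : t % 16 = 2 ∨ t % 16 = 10 ∨ t % 16 = 4 ∨ t % 16 = 12 := by omega
      rcases ht with ht | ht | ht | ht <;>
        simp [Nat.mul_mod, Nat.add_mod, ht] at h16
    · -- 60 ∣ |G| forces 5 ∣ p (p² - 1)
      rw [h] at hMG
      obtain ⟨c, hc⟩ := hMG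
      by_cases hp5 : p = 5
      · subst hp5
        apply Subgroup.eq_top_of_card_eq
        norm_num at hG
        omega
      · exfalso
        rw [hc] at hG
        have hp5' : p % 5 ≠ 0 := by
          intro h0
          have : 5 ∣ p := Nat.dvd_of_mod_eq_zero h0
          exact hp5 ((Nat.prime_dvd_prime_iff_eq Nat.prime_five hpp).1 this).symm
        have hpodd : p % 2 = 1 := Nat.odd_iff.1 (hpp.odd_of_ne_two hp2)
        have hp10 : p % 5 = 2 ∨ p % 5 = 3 := by omega
        obtain ⟨t, rfl⟩ : ∃ t, p = t + 1 := ⟨p - 1, by omega⟩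
        rw [Nat.add_sub_cancel] at hG
        have h5' : ((t + 1) * t * (t + 1 + 1)) % 5 = 0 := by rw [← hG]; omega
        have ht : t % 5 = 1 ∨ t % 5 = 2 := by omega
        rcases ht with ht | ht <;>
          simp [Nat.mul_mod, Nat.add_mod, ht] at h5'
    · have hK : Nat.card K = p :=
        card_subfield_of_prime hpp (by rw [Nat.card_eq_fintype_card, hF]) K
      exact eq_top_of_card_full hodd M (hK.trans hF.symm) h

end Cfsg.Agent.S5940
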