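import Cfsg.Statements.S5947
import Mathlib
import Cfsg.Agent.S2904

set_option autoImplicit false
open Cfsg

namespace Cfsg.Agent.S5947

open Polynomial
set_option linter.unusedSectionVars false
set_option linter.style.haveILetI false


lemma odd_factor (p : ℤ) (hp : Odd p) (j : ℕ) : ∃ m : ℤ, Odd m ∧ p ^ (2 * j + 1) + 1 = (p + 1) * m := by
  induction j with
  | zero => exact ⟨1, odd_one, by ring⟩
  | succ j ih =>
    obtain ⟨m, hm, h⟩ := ih
    refine ⟨p ^ 2 * m - (p - 1), ?_, ?_⟩
    · have h1 : Odd (p ^ 2 * m) := (hp.pow).mul hm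
      have h2 : Even (p - 1) := hp.sub_odd odd_one
      exact h1.sub_even h2
    · have : p ^ (2 * (j + 1) + 1) = p ^ 2 * p ^ (2 * j + 1) := by ring
      rw [this]
      linear_combination p ^ 2 * h

lemma prime_of_add_one {q : ℕ} (hq : IsPrimePow q) {a : ℕ} (h : q + 1 = 2 ^ a) : q.Prime := by
  obtain ⟨p, k, hp, hk, rfl⟩ := hq
  have hp' : p.Prime := hp.nat_prime
  have h1 : 1 < p ^ k := Nat.one_lt_pow hk.ne' hp'.one_lt
  have ha : 2 ≤ a := by
    by_contra hcon
    have : a = 0 ∨ a = 1 := by omega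
    rcases this with rfl | rfl
    · rw [pow_zero] at h; omega
    · rw [pow_one] at h; omega
  obtain ⟨b, rfl⟩ : ∃ b, a = b + 2 := ⟨a - 2, by omega⟩
  have hmod : p ^ k % 4 = 3 := by
    have : 2 ^ (b + 2) = 4 * 2 ^ b := by ring
    omega
  have hpodd : Odd p := by
    rcases hp'.eq_two_or_odd' with rfl | h'
    · exfalso
      have : Even (2 ^ k) := (Nat.even_pow.2 ⟨even_two, hk.ne'⟩)
      obtain ⟨c, hc⟩ := this
      omega
    · exact h'
  rcases Nat.even_or_odd' k with ⟨j, rfl | rfl⟩
  · exfalso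
    have h2 : p ^ (2 * j) = (p ^ j) ^ 2 := by rw [mul_comm, pow_mul]
    rw [h2] at hmod
    have h3 : (p ^ j) % 4 = 0 ∨ (p ^ j) % 4 = 1 ∨ (p ^ j) % 4 = 2 ∨ (p ^ j) % 4 = 3 := by omega
    rcases h3 with h3 | h3 | h3 | h3 <;> simp [pow_two, Nat.mul_mod, h3] at hmod
  · obtain ⟨m, hm, hm2⟩ := odd_factor (p : ℤ) (by exact_mod_cast hpodd) j
    have h4 : ((p : ℤ) + 1) * m = 2 ^ (b + 2) := by
      rw [← hm2]
      exact_mod_cast h
    have hmpos : 0 < m := by
      have h5 : (0 : ℤ) < (p + 1) * m := by rw [h4]; positivity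
      exact (pos_iff_pos_of_mul_pos h5).1 (by positivity)
    have hm1 : m = 1 := by
      have hdvd : m ∣ 2 ^ (b + 2) := ⟨p + 1, by rw [← h4]; ring⟩
      have hcop : IsCoprime m (2 ^ (b + 2)) := by
        apply IsCoprime.pow_right
        rw [Int.isCoprime_iff_gcd_eq_one]
        exact Int.isCoprime_iff_gcd_eq_one.1 (Int.isCoprime_iff_gcd_eq_one.2 (by
          obtain ⟨c, rfl⟩ := hm
          simp [Int.gcd]))
      have := hcop.isUnit_of_dvd' dvd_rfl hdvd
      rcases Int.isUnit_iff.1 this with h6 | h6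
      · exact h6
      · omega
    rw [hm1, mul_one] at hm2
    have h7 : p ^ (2 * j + 1) = p := by
      have : (p : ℤ) ^ (2 * j + 1) = p := by linarith
      exact_mod_cast this
    rw [h7]
    exact hp'



variable {F K : Type*} [Field F] [Fintype F] [Field K] [Fintype K] [Algebra F K]

lemma card_modEq (r : ℕ) [Fact r.Prime] (x : Module.End F K) (hx : x ^ r = 1) (W : Submodule F K)
    (hW : ∀ w ∈ W, x w ∈ W) :
    Nat.card W ≡ Nat.card ↥(W ⊓ LinearMap.ker (x - 1)) [MOD r] := by
  classical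
  let f : Function.End W := fun w => ⟨x w, hW w w.2⟩
  have hf : ∀ (k : ℕ) (w : W), (((f ^ k) w : W) : K) = (x ^ k) (w : K) := by
    intro k
    induction k with
    | zero => intro w; rfl
    | succ k ih =>
      intro w
      rw [pow_succ, pow_succ]
      change (((f ^ k) (f w) : W) : K) = (x ^ k) (x w)
      rw [ih]
  have hfr : f ^ r ^ 1 = 1 := by
    rw [pow_one]
    funext w
    apply Subtype.ext
    rw [hf, hx]
    rfl
  have h := Equiv.Perm.card_fixedPoints_modEq (f := f) (p := r) (n := 1) hfr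
  rw [Nat.card_eq_fintype_card]
  refine h.trans ?_
  rw [← Nat.card_eq_fintype_card]
  have hE : Nat.card ↑(Function.fixedPoints f) = Nat.card ↥(W ⊓ LinearMap.ker (x - 1)) := by
    apply Nat.card_congr
    refine ⟨fun w => ⟨w.1.1, w.1.2, ?_⟩, fun w => ⟨⟨w.1, w.2.1⟩, ?_⟩, fun w => rfl, fun w => rfl⟩
    · have := congrArg Subtype.val w.2
      change (w.1.1 : K) ∈ LinearMap.ker (x - 1)
      rw [LinearMap.mem_ker, LinearMap.sub_apply, sub_eq_zero]
      exact this
    · have : (w.1 : K) ∈ LinearMap.ker (x - 1) := w.2.2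
      rw [LinearMap.mem_ker, LinearMap.sub_apply, sub_eq_zero] at this
      exact Subtype.ext this
  rw [hE]

/-- the hypotheses on `x`. -/
structure PPD (n r : ℕ) (x : Module.End F K) : Prop where
  dim : Module.finrank F K = n
  prime : r.Prime
  dvd : r ∣ Fintype.card F ^ n - 1
  prim : ∀ k : ℕ, 0 < k → k < n → ¬ r ∣ Fintype.card F ^ k - 1
  pow : x ^ r = 1
  ne : x ≠ 1

lemma dvd_of_modEq {q r a b : ℕ} (hq : 0 < q) (h : q ^ a ≡ q ^ b [MOD r]) (hb : r ∣ q ^ b - 1) :
    r ∣ q ^ a - 1 := by
  have h1 : 1 ≤ q ^ a := Nat.one_le_pow _ _ hq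
  have h2 : 1 ≤ q ^ b := Nat.one_le_pow _ _ hq
  have h3 : q ^ b ≡ 1 [MOD r] := ((Nat.modEq_iff_dvd' h2).2 hb).symm
  exact (Nat.modEq_iff_dvd' h1).1 (h.trans h3).symm

variable {n r : ℕ} {x : Module.End F K}

lemma card_sub (W : Submodule F K) : Nat.card W = Fintype.card F ^ Module.finrank F W := by
  classical
  rw [Nat.card_eq_fintype_card, Module.card_eq_pow_finrank (K := F)]

lemma fix_eq_bot (h : PPD n r x) : LinearMap.ker (x - 1) = ⊥ := by
  have : Fact r.Prime := ⟨h.prime⟩
  have hq : 0 < Fintype.card F := Fintype.card_pos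
  have h1 := card_modEq r x h.pow ⊤ (fun _ _ => trivial)
  rw [top_inf_eq, card_sub, card_sub, finrank_top, h.dim] at h1
  have h2 : r ∣ Fintype.card F ^ Module.finrank F (LinearMap.ker (x - 1)) - 1 :=
    dvd_of_modEq hq h1.symm h.dvd
  set k := Module.finrank F (LinearMap.ker (x - 1)) with hk
  have hkn : k ≤ n := h.dim ▸ Submodule.finrank_le _
  by_cases hk0 : k = 0
  · exact Submodule.finrank_eq_zero.1 hk0
  · exfalso
    by_cases hkn' : k < n
    · exact h.prim k (Nat.pos_of_ne_zero hk0) hkn' h2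
    · have : LinearMap.ker (x - 1) = ⊤ := by
        apply Submodule.eq_top_of_finrank_eq
        rw [h.dim]; omega
      apply h.ne
      rw [LinearMap.ker_eq_top, sub_eq_zero] at this
      exact this

lemma irred (h : PPD n r x) (W : Submodule F K) (hW : ∀ w ∈ W, x w ∈ W) : W = ⊥ ∨ W = ⊤ := by
  have : Fact r.Prime := ⟨h.prime⟩
  have hq : 0 < Fintype.card F := Fintype.card_pos
  have h1 := card_modEq r x h.pow W hW
  rw [fix_eq_bot h, inf_bot_eq, card_sub, card_sub, finrank_bot] at h1
  have h2 : r ∣ Fintype.card F ^ Module.finrank F W - 1 :=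
    dvd_of_modEq hq h1 (by simp)
  set k := Module.finrank F W with hk
  have hkn : k ≤ n := h.dim ▸ Submodule.finrank_le _
  by_cases hk0 : k = 0
  · exact Or.inl (Submodule.finrank_eq_zero.1 hk0)
  · right
    by_cases hkn' : k < n
    · exact absurd h2 (h.prim k (Nat.pos_of_ne_zero hk0) hkn')
    · apply Submodule.eq_top_of_finrank_eq
      rw [h.dim]; omega

lemma zero_or_inj (h : PPD n r x) (c : Module.End F K) (hc : c * x = x * c) :
    c = 0 ∨ Function.Injective c := by
  rcases irred h (LinearMap.ker c) (by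
    intro w hw
    rw [LinearMap.mem_ker] at hw ⊢
    have : c (x w) = x (c w) := LinearMap.congr_fun hc w
    rw [this, hw, map_zero]) with h1 | h1
  · exact Or.inr (LinearMap.ker_eq_bot.1 h1)
  · exact Or.inl (LinearMap.ker_eq_top.1 h1)

lemma aeval_comm (P : F[X]) : aeval x P * x = x * aeval x P := by
  have h1 : aeval x P * x = aeval x (P * X) := by rw [map_mul, aeval_X]
  have h2 : x * aeval x P = aeval x (X * P) := by rw [map_mul, aeval_X]
  rw [h1, h2, mul_comm]

lemma irreducible_minpoly (h : PPD n r x) : Irreducible (minpoly F x) := by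
  have hint : IsIntegral F x := Algebra.IsIntegral.isIntegral x
  have h0 : minpoly F x ≠ 0 := minpoly.ne_zero hint
  have key : ∀ a b : F[X], minpoly F x = a * b → aeval x a = 0 → IsUnit b := by
    intro a b hab ha
    obtain ⟨c, hc⟩ := minpoly.dvd F x ha
    have : minpoly F x * 1 = minpoly F x * (c * b) := by
      rw [mul_one, ← mul_assoc, ← hc, ← hab]
    have h1 := mul_left_cancel₀ h0 this
    exact IsUnit.of_mul_eq_one c (by rw [mul_comm]; exact h1.symm)
  refine ⟨minpoly.not_isUnit F x, ?_⟩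
  intro a b hab
  have h1 : aeval x a * aeval x b = 0 := by rw [← map_mul, ← hab, minpoly.aeval]
  rcases zero_or_inj h _ (aeval_comm a) with ha | ha
  · exact Or.inr (key a b hab ha)
  · rcases zero_or_inj h _ (aeval_comm b) with hb | hb
    · exact Or.inl (key b a (by rw [hab, mul_comm]) hb)
    · exfalso
      have : Function.Injective (aeval x a * aeval x b) := ha.comp hb
      rw [h1] at this
      have h2 := this (show (0 : Module.End F K) 1 = (0 : Module.End F K) 0 by simp)
      exact one_ne_zero h2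

theorem exists_phi (h : PPD n r x) : ∃ φ : K →ₐ[F] Module.End F K,
    ∀ c : Module.End F K, c * x = x * c → ∃ a, φ a = c := by
  classical
  haveI : Fact (Irreducible (minpoly F x)) := ⟨irreducible_minpoly h⟩
  let L := AdjoinRoot (minpoly F x)
  let φ₀ : L →ₐ[F] Module.End F K :=
    Ideal.Quotient.liftₐ (Ideal.span {minpoly F x}) (aeval x) (by
      intro a ha
      obtain ⟨c, rfl⟩ := Ideal.mem_span_singleton.1 ha
      rw [map_mul, minpoly.aeval, zero_mul])
  have hφ₀ : ∀ P : F[X], φ₀ (AdjoinRoot.mk _ P) = aeval x P := fun P => rfl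
  have hcomm : ∀ l : L, φ₀ l * x = x * φ₀ l := by
    intro l
    obtain ⟨P, rfl⟩ := AdjoinRoot.mk_surjective l
    rw [hφ₀]
    exact aeval_comm P
  have hinj₀ : Function.Injective φ₀ := (φ₀ : L →+* Module.End F K).injective
  have hz : ∀ d : Module.End F K, d * x = x * d → d 1 = 0 → d = 0 := by
    intro d hd h1
    rcases zero_or_inj h d hd with h2 | h2
    · exact h2
    · exfalso
      exact one_ne_zero (h2 (h1.trans (map_zero d).symm))
  let ev : L →ₗ[F] K := (LinearMap.applyₗ (1 : K)).comp φ₀.toLinearMap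
  have hev : ∀ l, ev l = φ₀ l 1 := fun l => rfl
  have hevinj : Function.Injective ev := by
    rw [← LinearMap.ker_eq_bot, LinearMap.ker_eq_bot']
    intro l hl
    apply hinj₀
    rw [map_zero]
    exact hz _ (hcomm l) hl
  have hevsurj : Function.Surjective ev := by
    rw [← LinearMap.range_eq_top]
    rcases irred h (LinearMap.range ev) (by
      rintro _ ⟨l, rfl⟩
      refine ⟨AdjoinRoot.mk _ X * l, ?_⟩
      rw [hev, hev, map_mul, hφ₀, aeval_X]
      rfl) with h1 | h1
    · exfalso
      have : ev 1 ∈ LinearMap.range ev := ⟨1, rfl⟩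
      rw [h1, Submodule.mem_bot, hev, map_one φ₀] at this
      exact one_ne_zero this
    · exact h1
  haveI : Finite L := Finite.of_injective ev hevinj
  letI : Fintype L := Fintype.ofFinite L
  have hcard : Fintype.card L = Fintype.card K := Fintype.card_of_bijective ⟨hevinj, hevsurj⟩
  haveI : IsSplittingField F L (X ^ Fintype.card K - X) := by
    rw [← hcard]
    exact FiniteField.isSplittingField_sub L F
  let e : K ≃ₐ[F] L := (IsSplittingField.algEquiv K (X ^ Fintype.card K - X : F[X])).trans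
    (IsSplittingField.algEquiv L (X ^ Fintype.card K - X : F[X])).symm
  refine ⟨φ₀.comp e.toAlgHom, ?_⟩
  intro c hc
  obtain ⟨l, hl⟩ := hevsurj (c 1)
  refine ⟨e.symm l, ?_⟩
  have h1 : (φ₀.comp e.toAlgHom) (e.symm l) = φ₀ l := by simp
  rw [h1]
  have h2 : c - φ₀ l = 0 := by
    apply hz
    · rw [sub_mul, mul_sub, hc, hcomm]
    · rw [LinearMap.sub_apply, ← hev, hl, sub_self]
  exact (sub_eq_zero.1 h2).symm

theorem main (h : PPD n r x) (U : Subgroup (Module.End F K)ˣ)
    (hU : ∀ u ∈ U, (u : Module.End F K) * x = x * (u : Module.End F K))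
    (hcard : Nat.card U = Fintype.card K - 1) :
    ∃ g : (Module.End F K)ˣ, U.map (MulAut.conj g).toMonoidHom =
      (Units.map ((Algebra.lmul F K : K →ₐ[F] Module.End F K) : K →* Module.End F K)).range := by
  classical
  obtain ⟨φ, hφ⟩ := exists_phi h
  have hφinj : Function.Injective φ := (φ : K →+* Module.End F K).injective
  have hcomm : ∀ a, φ a * x = x * φ a := by
    obtain ⟨b, hb⟩ := hφ x rfl
    intro a
    rw [← hb, ← map_mul, ← map_mul, mul_comm]
  let g₀ : K →ₗ[F] K := (LinearMap.applyₗ (1 : K)).comp φ.toLinearMap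
  have hg₀ : ∀ a, g₀ a = φ a 1 := fun a => rfl
  have hg₀inj : Function.Injective g₀ := by
    rw [← LinearMap.ker_eq_bot, LinearMap.ker_eq_bot']
    intro a ha
    apply hφinj
    rw [map_zero]
    rcases zero_or_inj h _ (hcomm a) with h2 | h2
    · exact h2
    · exfalso
      exact one_ne_zero (h2 (ha.trans (map_zero (φ a)).symm))
  let gE : K ≃ₗ[F] K := LinearEquiv.ofInjectiveEndo g₀ hg₀inj
  have hgE : ∀ a, gE a = φ a 1 := fun a => rfl
  let G : (Module.End F K)ˣ := ⟨gE.toLinearMap, gE.symm.toLinearMap,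
    by ext a; simp, by ext a; simp⟩
  have hrel : ∀ a : K, (G : Module.End F K) * Algebra.lmul F K a = φ a * (G : Module.End F K) := by
    intro a
    ext b
    change gE (a * b) = φ a (gE b)
    rw [hgE, hgE, map_mul]
    rfl
  refine ⟨G⁻¹, ?_⟩
  apply Subgroup.eq_of_le_of_card_ge
  · rintro _ ⟨u, hu, rfl⟩
    obtain ⟨a, ha⟩ := hφ _ (hU u hu)
    have ha0 : a ≠ 0 := by
      rintro rfl
      rw [map_zero] at ha
      exact u.ne_zero ha.symm
    refine ⟨Units.mk0 a ha0, ?_⟩
    apply Units.ext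
    have h1 : ((MulAut.conj G⁻¹).toMonoidHom u : (Module.End F K)ˣ) = G⁻¹ * u * G := by
      simp [MulAut.conj_apply]
    rw [h1]
    change Algebra.lmul F K a = ((G⁻¹ * u * G : (Module.End F K)ˣ) : Module.End F K)
    rw [Units.val_mul, Units.val_mul, ← ha, mul_assoc, ← hrel, ← mul_assoc, ← Units.val_mul,
      inv_mul_cancel, Units.val_one, one_mul]
  · have h1 : Nat.card (U.map (MulAut.conj G⁻¹).toMonoidHom) = Nat.card U :=
      Subgroup.card_map_of_injective (MulAut.conj G⁻¹).injective
    rw [h1, hcard]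
    have h2 : Nat.card (Units.map ((Algebra.lmul F K : K →ₐ[F] Module.End F K) :
        K →* Module.End F K)).range ≤ Nat.card Kˣ :=
      Nat.card_le_card_of_surjective _ (MonoidHom.rangeRestrict_surjective _)
    rw [Nat.card_eq_fintype_card (α := Kˣ), Fintype.card_units] at h2
    exact h2

/-- Let F ⊆ K be finite fields with |F| = q and [K : F] = n ≥ 2, regard K as an n-dimensional F-vector space, and let M ≤ GL_F(K) be the Singer group of multiplications by non-zero elements of K (cyclic of order q^n − 1). Assume (n, q) ≠ (6, 2), and that it is not the case that n = 2 with q a prime such that q + 1 is a power of 2. Then every abelian subgroup of GL_F(K) of order q^n − 1 is conjugate to M. -/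
theorem result {F K : Type*} [Field F] [Fintype F] [Field K] [Fintype K] [Algebra F K] (n : ℕ) (hn : 2 ≤ n) (hdim : Module.finrank F K = n)
    (hex1 : ¬ (n = 6 ∧ Fintype.card F = 2))
    (hex2 : ¬ (n = 2 ∧ (Fintype.card F).Prime ∧ ∃ a : ℕ, Fintype.card F + 1 = 2 ^ a))
    (U : Subgroup (Module.End F K)ˣ) (hU : IsMulCommutative U) (hcard : Nat.card U = Fintype.card K - 1) :
    ∃ g : (Module.End F K)ˣ, U.map (MulAut.conj g).toMonoidHom = (Units.map ((Algebra.lmul F K : K →ₐ[F] Module.End F K) : K →* Module.End F K)).range := by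
  classical
  have hq1 : 1 < Fintype.card F := Fintype.one_lt_card
  have hcardK : Fintype.card K = Fintype.card F ^ n := by
    rw [Module.card_eq_pow_finrank (K := F), hdim]
  have h6 : ¬ (Fintype.card F = 2 ∧ n = 6) := fun h => hex1 ⟨h.2, h.1⟩
  have h2 : ¬ (n = 2 ∧ ∃ m, Fintype.card F + 1 = 2 ^ m) := by
    rintro ⟨hn2, m, hm⟩
    exact hex2 ⟨hn2, prime_of_add_one (FiniteField.isPrimePow_card F) hm, m, hm⟩
  obtain ⟨r, hr, hdvd, hprim⟩ := Cfsg.Agent.S2904.result (Fintype.card F) n hq1 (by omega) h6 h2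
  haveI : Fact r.Prime := ⟨hr⟩
  haveI : Finite (Module.End F K) := Module.finite_of_finite F
  obtain ⟨x, hx⟩ := exists_prime_orderOf_dvd_card' (G := U) r (by rw [hcard, hcardK]; exact hdvd)
  have hP : PPD n r ((x : (Module.End F K)ˣ) : Module.End F K) := by
    refine ⟨hdim, hr, hdvd, hprim, ?_, ?_⟩
    · have h1 : x ^ r = 1 := by rw [← hx]; exact pow_orderOf_eq_one x
      have h3 := congrArg (fun y : U => ((y : (Module.End F K)ˣ) : Module.End F K)) h1
      simpa using h3
    · intro h1
      have h3 : x = 1 := by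
        apply Subtype.ext
        apply Units.ext
        exact h1
      rw [h3, orderOf_one] at hx
      exact hr.one_lt.ne hx
  apply main hP U _ hcard
  intro u hu
  have h1 := hU.is_comm.comm (⟨u, hu⟩ : U) x
  have h3 := congrArg (fun y : U => ((y : (Module.End F K)ˣ) : Module.End F K)) h1
  simpa using h3

end Cfsg.Agent.S5947
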